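import Groth.Statements.S5365
import Groth.Agent.H19Grp.Neutral

set_option autoImplicit false
set_option maxHeartbeats 1000000
set_option synthInstance.maxHeartbeats 100000
set_option linter.style.haveILetI false
set_option backward.isDefEq.respectTransparency false
universe u
open CategoryTheory CategoryTheory.Limits MonoidalCategory CartesianMonoidalCategory MonObj GrpObj AlgebraicGeometry
open SGA3

namespace Groth.Agent.S5365

open Groth.Agent Groth.Agent.H19Grp


/-- Let G be a group scheme locally of finite type over a field k, a : A → G and b : B → G two closed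
subgroup schemes which are geometrically reduced over k, and i : Γ → G the commutator subgroup
scheme (A, B), the smallest closed subgroup scheme through which (x, y) ↦ a(x) b(y) a(x)⁻¹ b(y)⁻¹
factors. Suppose either (a) A and B are normal in G and of finite type over k, or (b) A is connected
and B is of finite type over k. Then Γ is of finite type over k, and in case (b) Γ is connected.
(The published statement also asserts that this subgroup represents the fppf sheaf generated by
commutators and describes its neutral component; this row states only the finiteness and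
connectedness assertions.) -/
theorem result (k : Type u) [Field k] (G A B : Over (Spec (CommRingCat.of k))) [GrpObj G] [GrpObj A] [GrpObj B]
    [LocallyOfFiniteType G.hom]
    (a : A ⟶ G) [IsMonHom a] [IsClosedImmersion a.left] (b : B ⟶ G) [IsMonHom b] [IsClosedImmersion b.left]
    [GeometricallyReduced A.hom] [GeometricallyReduced B.hom] [QuasiCompact B.hom]
    (hcase : (AlgGrp.IsNormalHom a ∧ AlgGrp.IsNormalHom b ∧ QuasiCompact A.hom) ∨ ConnectedSpace A.left)
    (Γ : Over (Spec (CommRingCat.of k))) [GrpObj Γ] (i : Γ ⟶ G) [IsMonHom i] [IsClosedImmersion i.left]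
    (hf : ∃ f' : A ⊗ B ⟶ Γ, f' ≫ i = (((fst A B) ≫ a) * ((snd A B) ≫ b) * ((fst A B) ≫ a)⁻¹ * ((snd A B) ≫ b)⁻¹))
    (hmin : ∀ (Γ' : Over (Spec (CommRingCat.of k))) (_ : GrpObj Γ') (i' : Γ' ⟶ G), IsMonHom i' → IsClosedImmersion i'.left →
        (∃ f'' : A ⊗ B ⟶ Γ', f'' ≫ i' = (((fst A B) ≫ a) * ((snd A B) ≫ b) * ((fst A B) ≫ a)⁻¹ * ((snd A B) ≫ b)⁻¹)) → ∃ j : Γ ⟶ Γ', j ≫ i' = i) :
    QuasiCompact Γ.hom ∧ (ConnectedSpace A.left → ConnectedSpace Γ.left) := by
  obtain ⟨f', hf'⟩ := hf
  let c : A ⊗ B ⟶ G := (((fst A B) ≫ a) * ((snd A B) ≫ b) * ((fst A B) ≫ a)⁻¹ * ((snd A B) ≫ b)⁻¹)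
  have hfact : ∀ (H : Over (Spec (CommRingCat.of k))) (_ : GrpObj H) (h : H ⟶ G), IsMonHom h →
      IsClosedImmersion h.left → QuasiCompact H.hom → (∃ g, g ≫ h = c) → QuasiCompact Γ.hom := by
    intro H gH h hh hcl hqc hg
    obtain ⟨j, hj⟩ := hmin H gH h hh hcl hg
    haveI : IsClosedImmersion (j.left ≫ h.left) := by
      rw [← Over.comp_left, hj]; infer_instance
    haveI : IsClosedImmersion j.left := IsClosedImmersion.of_comp j.left h.left
    rw [← Over.w j]; infer_instance
  have hconn : ConnectedSpace A.left → QuasiCompact Γ.hom ∧ ConnectedSpace Γ.left := by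
    intro hA
    haveI := hA
    haveI : LocallyOfFiniteType A.hom := by rw [← Over.w a]; infer_instance
    haveI : GeometricallyConnected A.hom := by
      obtain ⟨g, hg⟩ := idComp_lift A (𝟙 A) (fun z _ => by
        rw [PreconnectedSpace.connectedComponent_eq_univ]; trivial)
      haveI : IsSplitEpi (idCompι A) := ⟨⟨g, hg⟩⟩
      haveI : IsIso (idCompι A) := isIso_of_mono_of_isSplitEpi _
      haveI : IsIso (idCompι A).left := inferInstanceAs (IsIso ((Over.forget _).map (idCompι A)))
      haveI := geometricallyIrreducible_idComp A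
      haveI : GeometricallyIrreducible A.hom := by
        rw [show A.hom = inv (idCompι A).left ≫ (idComp A).hom by
          rw [IsIso.eq_inv_comp, Over.w (idCompι A)]]
        infer_instance
      refine ⟨fun K _ y Y q1 q2 h => ?_⟩
      haveI : IrreducibleSpace Y := GeometricallyIrreducible.geometrically_irreducibleSpace (f := A.hom) y q1 q2 h
      infer_instance
    haveI : GeometricallyConnected (snd A B).left :=
      inferInstanceAs (GeometricallyConnected (pullback.snd A.hom B.hom))
    have hone : lift (toUnit B ≫ η[A]) (𝟙 B) ≫ c = 1 := by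
      simp only [c, MonObj.comp_mul, GrpObj.comp_inv, lift_fst_assoc, lift_snd_assoc, Category.id_comp]
      rw [show (toUnit B ≫ η[A]) = (1 : B ⟶ A) from rfl, MonObj.one_comp]
      simp only [_root_.one_mul, inv_one, _root_.mul_one, mul_inv_cancel]
    have hrange : Set.range c.left ⊆ connectedComponent (ept G) := by
      rintro _ ⟨p, rfl⟩
      let y := (snd A B).left p
      have hσ : (snd A B).left ((lift (toUnit B ≫ η[A]) (𝟙 B)).left y) = y := by
        rw [← Scheme.Hom.comp_apply, ← Over.comp_left, lift_snd, Over.id_left]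
        rfl
      have hpre := (((snd A B).left.isConnected_preimage_singleton y).image c.left
        c.left.continuous.continuousOn).isPreconnected
      refine hpre.subset_connectedComponent ⟨_, hσ, ?_⟩ ⟨p, rfl, rfl⟩
      rw [← Scheme.Hom.comp_apply, ← Over.comp_left, hone]
      show (toUnit B ≫ η[G]).left y = _
      rw [Over.comp_left, Scheme.Hom.comp_apply]
      exact congrArg _ (Subsingleton.elim (α := Spec (CommRingCat.of k)) _ _)
    obtain ⟨g0, hι⟩ := exists_grpObj_idComp G
    haveI : IsMonHom (idCompι G) := hι
    haveI : CompactSpace (idComp G).left := by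
      constructor
      rw [(idCompι G).left.isClosedEmbedding.isEmbedding.isInducing.isCompact_iff, Set.image_univ,
        range_idCompι_ept]
      exact isCompact_component_ept G
    have hq : QuasiCompact (idComp G).hom := by
      rw [quasiCompact_iff_compactSpace]; infer_instance
    refine ⟨hfact _ g0 (idCompι G) hι inferInstance hq (idComp_lift G c hrange), ?_⟩
    obtain ⟨g1, hι1⟩ := exists_grpObj_idComp Γ
    haveI : IsMonHom (idCompι Γ) := hι1
    haveI : LocallyOfFiniteType Γ.hom := by rw [← Over.w i]; infer_instance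
    have hr : Set.range f'.left ⊆ connectedComponent (ept Γ) := by
      rintro _ ⟨p, rfl⟩
      let y := (snd A B).left p
      have hσ : (snd A B).left ((lift (toUnit B ≫ η[A]) (𝟙 B)).left y) = y := by
        rw [← Scheme.Hom.comp_apply, ← Over.comp_left, lift_snd, Over.id_left]
        rfl
      have hpre := (((snd A B).left.isConnected_preimage_singleton y).image f'.left
        f'.left.continuous.continuousOn).isPreconnected
      refine hpre.subset_connectedComponent ⟨_, hσ, ?_⟩ ⟨p, rfl, rfl⟩
      haveI : Mono i := Over.mono_of_mono_left i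
      have hone' : lift (toUnit B ≫ η[A]) (𝟙 B) ≫ f' = 1 := by
        rw [← cancel_mono i, Category.assoc, hf', hone, MonObj.one_comp]
      rw [← Scheme.Hom.comp_apply, ← Over.comp_left, hone']
      show (toUnit B ≫ η[Γ]).left y = _
      rw [Over.comp_left, Scheme.Hom.comp_apply]
      exact congrArg _ (Subsingleton.elim (α := Spec (CommRingCat.of k)) _ _)
    obtain ⟨f'', hf''⟩ := idComp_lift Γ f' hr
    obtain ⟨j, hj⟩ := hmin (idComp Γ) g1 (idCompι Γ ≫ i) inferInstance
      (by rw [Over.comp_left]; infer_instance)
      ⟨f'', by rw [← Category.assoc, hf'', hf']⟩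
    haveI : Mono i := Over.mono_of_mono_left i
    have hj' : j ≫ idCompι Γ = 𝟙 Γ := by
      rw [← cancel_mono i, Category.assoc, hj, Category.id_comp]
    have : connectedComponent (ept Γ) = Set.univ := by
      rw [← range_idCompι_ept Γ, Set.eq_univ_iff_forall]
      intro z
      refine ⟨j.left z, ?_⟩
      rw [← Scheme.Hom.comp_apply, ← Over.comp_left, hj', Over.id_left]
      rfl
    exact connectedSpace_iff_connectedComponent.2 ⟨_, this⟩
  refine ⟨?_, fun hA => (hconn hA).2⟩
  rcases hcase with ⟨hna, -, hqA⟩ | hA
  · obtain ⟨n', hn'⟩ := hna (A ⊗ B) (snd A B ≫ b) (fst A B)⁻¹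
    refine hfact A inferInstance a inferInstance inferInstance hqA ⟨fst A B * n', ?_⟩
    simp only [c, MonObj.mul_comp, ← hn', GrpObj.inv_comp, _root_.mul_assoc]
  · exact (hconn hA).1

end Groth.Agent.S5365
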