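import Groth.Statements.S5369
import Groth.Agent.H19Quot.GroupQuot

set_option autoImplicit false
set_option maxHeartbeats 1000000
set_option synthInstance.maxHeartbeats 100000
set_option linter.style.haveILetI false
set_option backward.isDefEq.respectTransparency false
universe u
open CategoryTheory CategoryTheory.Limits MonoidalCategory CartesianMonoidalCategory MonObj GrpObj AlgebraicGeometry
open SGA3

namespace Groth.Agent.S5369

theorem closed_of_factor {Z X Y A B : Scheme.{u}} {q : Z ⟶ Y} {r : Z ⟶ B} {p : B ⟶ Y} {f : X ⟶ Y} {a : A ⟶ X}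
    {b : A ⟶ B} (hq : H19Quot.FpqcCov q) (hr : r ≫ p = q) (sq : IsPullback a b f p) (hb : IsClosedImmersion b) :
    IsClosedImmersion f := by
  refine hq.descend (P := @IsClosedImmersion) (IsPullback.of_hasPullback f q) ?_
  let k := sq.lift (pullback.fst f q) (pullback.snd f q ≫ r) (by
    rw [Category.assoc, hr, pullback.condition])
  have sq₂ : IsPullback k (pullback.snd f q) b r := by
    refine IsPullback.of_right ?_ (sq.lift_snd _ _ _) sq
    rw [show k ≫ a = pullback.fst f q from sq.lift_fst _ _ _, hr]
    exact IsPullback.of_hasPullback f q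
  exact MorphismProperty.of_isPullback sq₂ hb

theorem isPullback_diag {S : Scheme.{u}} {R U Y : Over S} {s t : R ⟶ U} {p : U ⟶ Y} (hpb : IsPullback t s p p) :
    IsPullback (t ≫ p) (CartesianMonoidalCategory.lift t s) (CartesianMonoidalCategory.lift (𝟙 Y) (𝟙 Y))
      (p ⊗ₘ p) := by
  refine IsPullback.of_isLimit' ⟨by simp [hpb.w]⟩ (PullbackCone.IsLimit.mk _ (fun c =>
    hpb.lift (c.snd ≫ fst U U) (c.snd ≫ snd U U) ?_) ?_ ?_ ?_)
  · have h1 := congrArg (· ≫ fst Y Y) c.condition
    have h2 := congrArg (· ≫ snd Y Y) c.condition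
    simp at h1 h2
    rw [Category.assoc, Category.assoc, ← h1, ← h2]
  · intro c
    have h1 := congrArg (· ≫ fst Y Y) c.condition
    simp at h1
    rw [IsPullback.lift_fst_assoc, Category.assoc, ← h1]
  · intro c
    apply CartesianMonoidalCategory.hom_ext <;> simp
  · intro c m hm₁ hm₂
    apply hpb.hom_ext
    · simp only [IsPullback.lift_fst]; rw [← hm₂]; simp
    · simp only [IsPullback.lift_snd]; rw [← hm₂]; simp


/-- Let u : G' → G be a monomorphism of S-group schemes and p : G → G'' a morphism of S-schemes which is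
covering for the fpqc topology (some Z → G'' which is flat, surjective, with every affine open of
G'' the image of a quasi-compact open of Z, factors through p) and such that the square (g, h) ↦
g·u(h), first projection G ×_S G' → G, p, p is cartesian, so that G'' represents the fpqc quotient
sheaf G/G'. Let ε'' be the composite of the unit section of G with p. Then the square formed by u,
the structure morphism G' → S, p and ε'' is cartesian; u is an immersion; and G'' is separated over
S if and only if u is a closed immersion, if and only if ε'' is a closed immersion. -/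
theorem result (S : Scheme.{u}) (G G' G'' : Over S) [GrpObj G] [GrpObj G']
    (u : G' ⟶ G) [IsMonHom u] [Mono u] (p : G ⟶ G'')
    (hcov : (∃ (Z : Scheme.{u}) (q : Z ⟶ G''.left) (r : Z ⟶ G.left), r ≫ p.left = q ∧ Surjective q ∧ Flat q ∧
        ∀ V : G''.left.Opens, IsAffineOpen V → ∃ W : Z.Opens, IsCompact (W : Set Z) ∧ q.base '' (W : Set Z) = (V : Set G''.left)))
    (hsq : IsPullback ((G ◁ u) ≫ μ[G]) (fst G G') p p) :
    IsPullback u (toUnit G') p (η[G] ≫ p) ∧ IsImmersion u.left ∧
    (IsSeparated G''.hom ↔ IsClosedImmersion u.left) ∧ (IsClosedImmersion u.left ↔ IsClosedImmersion (η[G] ≫ p).left) := by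
  obtain ⟨Z₀, q₀, r₀, hr₀, hs, hfl, hV⟩ := hcov
  haveI := hs; haveI := hfl
  have hp : H19Quot.HasFpqcSection p :=
    ⟨Over.mk (r₀ ≫ G.hom), Over.homMk q₀ (by
      show q₀ ≫ G''.hom = r₀ ≫ G.hom
      rw [← hr₀, Category.assoc, Over.w p]), Over.homMk r₀ rfl, Over.OverMorphism.ext hr₀,
      H19Quot.fpqcCov_of q₀ hV⟩
  have sq1 : IsPullback u (toUnit G') p (η[G] ≫ p) := H19Quot.isPullback_unit_of_rel u p fun T a => by
    rw [H19Quot.rel_iff_of_isPullback hsq T a 1]
    constructor
    · rintro ⟨n, hn⟩
      exact ⟨n⁻¹, by rw [GrpObj.inv_comp]; exact inv_eq_of_mul_eq_one_left hn.symm⟩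
    · rintro ⟨n, rfl⟩
      exact ⟨n⁻¹, by rw [GrpObj.inv_comp, mul_inv_cancel]⟩
  have sq : IsPullback u.left (toUnit G').left p.left (η[G] ≫ p).left := sq1.map (Over.forget S)
  have hsec : (η[G] ≫ p).left ≫ G''.hom = 𝟙 (𝟙_ (Over S)).left := Over.w (η[G] ≫ p)
  haveI hiε : IsImmersion (η[G] ≫ p).left := by
    haveI : IsImmersion ((η[G] ≫ p).left ≫ G''.hom) := by rw [hsec]; infer_instance
    exact IsImmersion.of_comp _ G''.hom
  have hu : IsImmersion u.left := MorphismProperty.of_isPullback sq.flip hiε
  have hεu : IsClosedImmersion (η[G] ≫ p).left → IsClosedImmersion u.left := fun h =>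
    MorphismProperty.of_isPullback sq.flip h
  have huε : IsClosedImmersion u.left → IsClosedImmersion (η[G] ≫ p).left := fun h =>
    closed_of_factor (H19Quot.fpqcCov_of q₀ hV) hr₀ sq.flip h
  have hsε : IsSeparated G''.hom → IsClosedImmersion (η[G] ≫ p).left := fun h => by
    haveI : IsClosedImmersion ((η[G] ≫ p).left ≫ G''.hom) := by rw [hsec]; infer_instance
    exact IsClosedImmersion.of_comp _ G''.hom
  have hus : IsClosedImmersion u.left → IsSeparated G''.hom := fun h => by
    obtain ⟨Z', q', r', hr', hq'⟩ := hp.tensor hp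
    let sh : G ⊗ G ⟶ G ⊗ G := CartesianMonoidalCategory.lift μ[G] (fst G G)
    have hμ : μ[G] = fst G G * snd G G := by rw [Hom.mul_def, lift_fst_snd, Category.id_comp]
    haveI : IsIso sh := ⟨CartesianMonoidalCategory.lift (snd G G) ((snd G G)⁻¹ * fst G G), by
      apply CartesianMonoidalCategory.hom_ext <;>
        simp [sh, hμ, MonObj.comp_mul, GrpObj.comp_inv], by
      apply CartesianMonoidalCategory.hom_ext <;>
        simp [sh, hμ, MonObj.comp_mul, GrpObj.comp_inv]⟩
    haveI : IsIso sh.left := inferInstanceAs (IsIso ((Over.forget S).map sh))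
    haveI : IsClosedImmersion (G ◁ u).left :=
      MorphismProperty.pullbackMap (P := @IsClosedImmersion) (inferInstanceAs (IsClosedImmersion (𝟙 G.left)))
        (inferInstanceAs (IsClosedImmersion u.left)) (Category.id_comp _).symm (Over.w u).symm
    have e : CartesianMonoidalCategory.lift ((G ◁ u) ≫ μ[G]) (fst G G') = (G ◁ u) ≫ sh := by
      apply CartesianMonoidalCategory.hom_ext <;> simp [sh]
    have hl : IsClosedImmersion (CartesianMonoidalCategory.lift ((G ◁ u) ≫ μ[G]) (fst G G')).left := by
      rw [e, Over.comp_left]; infer_instance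
    have hd : IsClosedImmersion (CartesianMonoidalCategory.lift (𝟙 G'') (𝟙 G'')).left :=
      closed_of_factor hq' (congrArg (fun f => Over.Hom.left f) hr') ((isPullback_diag hsq).map (Over.forget S)) hl
    rw [isSeparated_iff]
    have ed : (CartesianMonoidalCategory.lift (𝟙 G'') (𝟙 G'')).left = pullback.diagonal G''.hom := pullback.hom_ext
      (by simp [pullback.diagonal]) (by simp [pullback.diagonal])
    exact ed ▸ hd
  exact ⟨sq1, hu, ⟨fun h => hεu (hsε h), hus⟩, ⟨huε, hεu⟩⟩

end Groth.Agent.S5369
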