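import Groth.Statements.S5370
import Groth.Agent.H19Quot.Factor
import Groth.Agent.H13Desc.Flat

set_option autoImplicit false
set_option maxHeartbeats 1000000
set_option synthInstance.maxHeartbeats 100000
set_option linter.style.haveILetI false
set_option backward.isDefEq.respectTransparency false
universe u
open CategoryTheory CategoryTheory.Limits MonoidalCategory CartesianMonoidalCategory MonObj GrpObj AlgebraicGeometry
open SGA3

namespace Groth.Agent.S5370

/-- Let u : G' → G be a monomorphism of S-group schemes and p : G → G'' a morphism of S-schemes which is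
covering for the fpqc topology (some Z → G'' which is flat, surjective, with every affine open of
G'' the image of a quasi-compact open of Z, factors through p) and such that the square (g, h) ↦
g·u(h), first projection G ×_S G' → G, p, p is cartesian, so that G'' represents the fpqc quotient
sheaf G/G'. Then: (ix) if G is reduced, G'' is reduced; (xi) G' is flat over S if and only if p is
flat, and in that case G'' is flat over S if and only if G is flat over S. -/
theorem result (S : Scheme.{u}) (G G' G'' : Over S) [GrpObj G] [GrpObj G']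
    (u : G' ⟶ G) [IsMonHom u] [Mono u] (p : G ⟶ G'')
    (hcov : (∃ (Z : Scheme.{u}) (q : Z ⟶ G''.left) (r : Z ⟶ G.left), r ≫ p.left = q ∧ Surjective q ∧ Flat q ∧
        ∀ V : G''.left.Opens, IsAffineOpen V → ∃ W : Z.Opens, IsCompact (W : Set Z) ∧ q.base '' (W : Set Z) = (V : Set G''.left)))
    (hsq : IsPullback ((G ◁ u) ≫ μ[G]) (fst G G') p p) :
    (IsReduced G.left → IsReduced G''.left) ∧
    (Flat G'.hom ↔ Flat p.left) ∧ (Flat p.left → (Flat G''.hom ↔ Flat G.hom)) := by
  obtain ⟨Z₀, q₀, r₀, hr₀, hs, hfl, hV⟩ := hcov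
  haveI := hs; haveI := hfl
  have hp : H19Quot.HasFpqcSection p :=
    ⟨Over.mk (r₀ ≫ G.hom), Over.homMk q₀ (by
      show q₀ ≫ G''.hom = r₀ ≫ G.hom
      rw [← hr₀, Category.assoc, Over.w p]), Over.homMk r₀ rfl, Over.OverMorphism.ext hr₀,
      H19Quot.fpqcCov_of q₀ hV⟩
  haveI : Surjective p.left := by
    haveI : Surjective (r₀ ≫ p.left) := hr₀ ▸ hs
    exact Surjective.of_comp r₀ p.left
  refine ⟨fun hG => ?_, ⟨fun h => H19Quot.descend_proj hp hsq h, fun h => H19Quot.prop_sub_of_proj hsq h⟩,
    fun hf => ⟨fun h => ?_, fun h => ?_⟩⟩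
  · have hst : ∀ y : G''.left, _root_.IsReduced (G''.left.presheaf.stalk y) := fun y => by
      haveI : Flat (r₀ ≫ p.left) := hr₀ ▸ hfl
      haveI : Surjective (r₀ ≫ p.left) := hr₀ ▸ hs
      obtain ⟨z, rfl⟩ := (r₀ ≫ p.left).surjective y
      have hinj := (H13Desc.faithfullyFlat_stalkMap (r₀ ≫ p.left) z).injective
      rw [Scheme.Hom.stalkMap_comp, CommRingCat.hom_comp, RingHom.coe_comp] at hinj
      haveI : _root_.IsReduced (G.left.presheaf.stalk (r₀ z)) := inferInstance
      exact isReduced_of_injective (p.left.stalkMap (r₀ z)).hom hinj.of_comp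
    exact isReduced_of_isReduced_stalk _
  · rw [← Over.w p]; infer_instance
  · haveI : Flat (𝟙 G.left ≫ p.left) := by rw [Category.id_comp]; infer_instance
    haveI : Surjective (𝟙 G.left ≫ p.left) := by rw [Category.id_comp]; infer_instance
    haveI : Flat (p.left ≫ G''.hom) := by rw [Over.w]; exact h
    exact H13Desc.flat_of_refinement p.left G''.hom (𝟙 G.left)

end Groth.Agent.S5370
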