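import Groth.Statements.S5371
import Groth.Agent.H19Quot.Factor
import Groth.Agent.H13Flat.Scheme
import Groth.Agent.H13Flat.SmoothDescent
import Groth.Agent.H12AlgSp.SourceDescent

set_option autoImplicit false
set_option maxHeartbeats 1000000
set_option synthInstance.maxHeartbeats 100000
set_option linter.style.haveILetI false
set_option backward.isDefEq.respectTransparency false
universe u
open CategoryTheory CategoryTheory.Limits MonoidalCategory CartesianMonoidalCategory MonObj GrpObj AlgebraicGeometry
open SGA3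

namespace Groth.Agent.S5371

theorem lqf_of_surjective {X Y Z : Scheme.{u}} (f : X ⟶ Y) (g : Y ⟶ Z) [Surjective f] (hf : IsOpenMap f)
    [LocallyOfFiniteType g] [LocallyQuasiFinite (f ≫ g)] [LocallyOfFiniteType (f ≫ g)] : LocallyQuasiFinite g := by
  rw [locallyQuasiFinite_iff_isDiscrete_preimage_singleton]
  intro s
  have hd := (locallyQuasiFinite_iff_isDiscrete_preimage_singleton.1 ‹LocallyQuasiFinite (f ≫ g)›) s
  rw [isDiscrete_iff_forall_exists_isOpen] at hd ⊢
  intro y hy
  obtain ⟨x, rfl⟩ := f.surjective y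
  obtain ⟨U, hU, hUx⟩ := hd x hy
  refine ⟨f '' U, hf U hU, Set.eq_singleton_iff_unique_mem.2 ⟨⟨⟨x, ?_, rfl⟩, hy⟩, ?_⟩⟩
  · exact ((Set.ext_iff.1 hUx x).2 rfl).1
  · rintro _ ⟨⟨w, hw, rfl⟩, hws⟩
    rw [show w = x from (Set.ext_iff.1 hUx w).1 ⟨hw, hws⟩]

theorem qs_of_surjective {X Y Z : Scheme.{u}} (f : X ⟶ Y) (g : Y ⟶ Z) [Surjective f] [QuasiCompact f]
    [QuasiSeparated (f ≫ g)] : QuasiSeparated g := by
  refine ⟨?_⟩
  let m : pullback (f ≫ g) (f ≫ g) ⟶ pullback g g := pullback.map _ _ _ _ f f (𝟙 Z) (by simp) (by simp)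
  haveI : QuasiCompact m := MorphismProperty.pullbackMap (P := @QuasiCompact)
    (inferInstanceAs (QuasiCompact f)) (inferInstanceAs (QuasiCompact f)) rfl rfl
  haveI : QuasiCompact (pullback.diagonal (f ≫ g)) := QuasiSeparated.quasiCompact_diagonal
  have e : f ≫ pullback.diagonal g = pullback.diagonal (f ≫ g) ≫ m := by
    apply pullback.hom_ext <;> simp [m]
  haveI : QuasiCompact (f ≫ pullback.diagonal g) := by rw [e]; infer_instance
  refine ⟨fun V hV hc => ?_⟩
  rw [← Set.image_preimage_eq (pullback.diagonal g ⁻¹' V) f.surjective]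
  exact ((f ≫ pullback.diagonal g).isCompact_preimage (U := ⟨V, hV⟩) hc).image f.continuous


/-- Let u : G' → G be a monomorphism of S-group schemes and p : G → G'' a morphism of S-schemes which is
covering for the fpqc topology (some Z → G'' which is flat, surjective, with every affine open of
G'' the image of a quasi-compact open of Z, factors through p) and such that the square (g, h) ↦
g·u(h), first projection G ×_S G' → G, p, p is cartesian, so that G'' represents the fpqc quotient
sheaf G/G'. (xii) G' is flat and locally of finite presentation over S if and only if p is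
surjective, flat and locally of finite presentation; in that case, if G is locally of finite
presentation (resp. locally of finite type, of finite type, smooth, etale, unramified, locally
quasi-finite) over S, so is G''. (xiii) If G' is flat and of finite presentation over S then p is of
finite presentation, and G is of finite presentation over S if and only if G'' is. -/
theorem result (S : Scheme.{u}) (G G' G'' : Over S) [GrpObj G] [GrpObj G']
    (u : G' ⟶ G) [IsMonHom u] [Mono u] (p : G ⟶ G'')
    (hcov : (∃ (Z : Scheme.{u}) (q : Z ⟶ G''.left) (r : Z ⟶ G.left), r ≫ p.left = q ∧ Surjective q ∧ Flat q ∧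
        ∀ V : G''.left.Opens, IsAffineOpen V → ∃ W : Z.Opens, IsCompact (W : Set Z) ∧ q.base '' (W : Set Z) = (V : Set G''.left)))
    (hsq : IsPullback ((G ◁ u) ≫ μ[G]) (fst G G') p p) :
    ((Flat G'.hom ∧ LocallyOfFinitePresentation G'.hom) ↔
      (Surjective p.left ∧ Flat p.left ∧ LocallyOfFinitePresentation p.left)) ∧
    (Flat p.left → LocallyOfFinitePresentation p.left →
      (LocallyOfFinitePresentation G.hom → LocallyOfFinitePresentation G''.hom) ∧
      (LocallyOfFiniteType G.hom → LocallyOfFiniteType G''.hom) ∧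
      (LocallyOfFiniteType G.hom → QuasiCompact G.hom → QuasiCompact G''.hom) ∧
      (Smooth G.hom → Smooth G''.hom) ∧ (Etale G.hom → Etale G''.hom) ∧
      (FormallyUnramified G.hom → LocallyOfFinitePresentation G.hom → FormallyUnramified G''.hom) ∧
      (LocallyQuasiFinite G.hom → LocallyOfFiniteType G.hom → LocallyQuasiFinite G''.hom)) ∧
    (Flat G'.hom → LocallyOfFinitePresentation G'.hom → QuasiCompact G'.hom → QuasiSeparated G'.hom →
      QuasiCompact p.left ∧ QuasiSeparated p.left ∧ LocallyOfFinitePresentation p.left ∧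
      ((LocallyOfFinitePresentation G.hom ∧ QuasiCompact G.hom ∧ QuasiSeparated G.hom) ↔
        (LocallyOfFinitePresentation G''.hom ∧ QuasiCompact G''.hom ∧ QuasiSeparated G''.hom))) := by
  obtain ⟨Z₀, q₀, r₀, hr₀, hs, hfl, hV⟩ := hcov
  haveI := hs; haveI := hfl
  have hp : H19Quot.HasFpqcSection p :=
    ⟨Over.mk (r₀ ≫ G.hom), Over.homMk q₀ (by
      show q₀ ≫ G''.hom = r₀ ≫ G.hom
      rw [← hr₀, Category.assoc, Over.w p]), Over.homMk r₀ rfl, Over.OverMorphism.ext hr₀,
      H19Quot.fpqcCov_of q₀ hV⟩
  haveI : Surjective p.left := by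
    haveI : Surjective (r₀ ≫ p.left) := hr₀ ▸ hs
    exact Surjective.of_comp r₀ p.left
  refine ⟨⟨fun h => ⟨inferInstance, H19Quot.descend_proj hp hsq h.1, H19Quot.descend_proj hp hsq h.2⟩,
    fun h => ⟨H19Quot.prop_sub_of_proj hsq h.2.1, H19Quot.prop_sub_of_proj hsq h.2.2⟩⟩, fun hf hl => ?_,
    fun h₁ h₂ h₃ h₄ => ?_⟩
  · have hlft : LocallyOfFiniteType G.hom → LocallyOfFiniteType G''.hom := fun h =>
      H13Flat.locallyOfFiniteType_of_fppf_covering _ fun x =>
        ⟨G.left, p.left, hf, hl, p.left.surjective x, by rw [Over.w]; exact h⟩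
    refine ⟨fun h => ?_, hlft, fun _ h => ?_, fun h => ?_, fun h => ?_, fun h h' => ?_, fun h h' => ?_⟩
    · exact H13Flat.locallyOfFinitePresentation_of_fppf_covering _ fun x =>
        ⟨G.left, p.left, hf, hl, p.left.surjective x, by rw [Over.w]; exact h⟩
    · haveI : QuasiCompact (p.left ≫ G''.hom) := by rw [Over.w]; exact h
      refine ⟨fun V hV hc => ?_⟩
      rw [← Set.image_preimage_eq (G''.hom ⁻¹' V) p.left.surjective]
      exact ((p.left ≫ G''.hom).isCompact_preimage (U := ⟨V, hV⟩) hc).image p.left.continuous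
    · exact H13Flat.smooth_of_fppf_covering _ fun x =>
        ⟨G.left, p.left, hf, hl, p.left.surjective x, by rw [Over.w]; exact h⟩
    · exact H13Flat.etale_of_fppf_covering _ fun x =>
        ⟨G.left, p.left, hf, hl, p.left.surjective x, by rw [Over.w]; exact h⟩
    · haveI : FormallyUnramified (p.left ≫ G''.hom) := by rw [Over.w]; exact h
      haveI : FormallyUnramified p.left := FormallyUnramified.of_comp p.left G''.hom
      haveI : Etale p.left := Etale.iff_flat_and_formallyUnramified.2 ⟨hf, ‹_›, hl⟩
      exact H12AlgSp.EtaleSource.formallyUnramified' p.left G''.hom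
    · haveI := hlft h'
      haveI : LocallyQuasiFinite (p.left ≫ G''.hom) := by rw [Over.w]; exact h
      haveI : LocallyOfFiniteType (p.left ≫ G''.hom) := by rw [Over.w]; exact h'
      exact lqf_of_surjective p.left G''.hom p.left.isOpenMap
  · haveI hf : Flat p.left := H19Quot.descend_proj hp hsq h₁
    haveI hl : LocallyOfFinitePresentation p.left := H19Quot.descend_proj hp hsq h₂
    haveI hqc : QuasiCompact p.left := H19Quot.descend_proj hp hsq h₃
    haveI hqs : QuasiSeparated p.left := H19Quot.descend_proj hp hsq h₄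
    refine ⟨hqc, hqs, hl, fun ⟨a, b, c⟩ => ?_, fun ⟨a, b, c⟩ => ?_⟩
    · refine ⟨H13Flat.locallyOfFinitePresentation_of_fppf_covering _ fun x =>
        ⟨G.left, p.left, hf, hl, p.left.surjective x, by rw [Over.w]; exact a⟩, ?_, ?_⟩
      · haveI : QuasiCompact (p.left ≫ G''.hom) := by rw [Over.w]; exact b
        refine ⟨fun V hV hc => ?_⟩
        rw [← Set.image_preimage_eq (G''.hom ⁻¹' V) p.left.surjective]
        exact ((p.left ≫ G''.hom).isCompact_preimage (U := ⟨V, hV⟩) hc).image p.left.continuous
      · haveI : QuasiSeparated (p.left ≫ G''.hom) := by rw [Over.w]; exact c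
        exact qs_of_surjective p.left G''.hom
    · refine ⟨?_, ?_, ?_⟩ <;> rw [← Over.w p] <;> infer_instance

end Groth.Agent.S5371
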