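import Groth.Statements.S5374
import Groth.Agent.H06Spread.Transporter

set_option autoImplicit false
universe u
open CategoryTheory CategoryTheory.Limits MonoidalCategory CartesianMonoidalCategory MonObj GrpObj AlgebraicGeometry
open SGA3

namespace Groth.Agent.S5374

open Groth.Agent Groth.Agent.H06Spread
open scoped CategoryTheory.Obj

set_option backward.isDefEq.respectTransparency false
set_option linter.style.haveILetI false

/-- The transporter of two morphisms; the centralizer of a morphism is the case u = v: let S be an
integral scheme, G an S-group scheme of finite presentation, Y an S-scheme of finite presentation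
and u, v : Y → G two morphisms of S-schemes. Then there is a nonempty open subscheme S' of S such
that, after base change to S', the transporter of u into v (points g with g u(y) g⁻¹ = v(y) for all
points y of Y after any base change) is represented by a closed subscheme of G_{S'} of finite
presentation over S'. (The published statement also treats, over the same open, the transporter and
the strict transporter of two subschemes and the normalizer of a subscheme; this row treats the
transporter of two morphisms only.) -/
theorem result (S : Scheme.{u}) [IsIntegral S] (G Y : Over S) [GrpObj G]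
    [LocallyOfFinitePresentation G.hom] [QuasiCompact G.hom] [QuasiSeparated G.hom]
    [LocallyOfFinitePresentation Y.hom] [QuasiCompact Y.hom] [QuasiSeparated Y.hom] (u v : Y ⟶ G) :
    ∃ U : S.Opens, (U : Set S).Nonempty ∧
      ∃ (T : Over (U : Scheme.{u})) (t : T ⟶ Red.bc U.ι G), IsClosedImmersion t.left ∧
        LocallyOfFinitePresentation T.hom ∧ QuasiCompact T.hom ∧ QuasiSeparated T.hom ∧
        ∀ (S' : Over (U : Scheme.{u})) (g : S' ⟶ Red.bc U.ι G), (∃ z : S' ⟶ T, z ≫ t = g) ↔
          ∀ (S'' : Over (U : Scheme.{u})) (s : S'' ⟶ S') (y : S'' ⟶ Red.bc U.ι Y),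
            (s ≫ g) * (y ≫ (Over.pullback U.ι).map u) * (s ≫ g)⁻¹ = y ≫ (Over.pullback U.ι).map v := by
  obtain ⟨U₁, hU₁, hsep⟩ := exists_open_isSeparated G
  obtain ⟨U₂, hU₂, hfree⟩ := exists_open_essFree Y.hom
  let U : S.Opens := U₁ ⊓ U₂
  haveI : IsSeparated (Red.bc U.ι G).hom := hsep U inf_le_left
  have hY := essFree_of_le Y (inf_le_right : U ≤ U₂) hfree
  let G' := Red.bc U.ι G
  let Y' := Red.bc U.ι Y
  haveI : LocallyOfFiniteType G'.hom := inferInstanceAs (LocallyOfFiniteType (pullback.snd G.hom U.ι))
  haveI : LocallyOfFinitePresentation G'.hom :=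
    inferInstanceAs (LocallyOfFinitePresentation (pullback.snd G.hom U.ι))
  haveI : QuasiCompact G'.hom := inferInstanceAs (QuasiCompact (pullback.snd G.hom U.ι))
  haveI : QuasiCompact Y'.hom := inferInstanceAs (QuasiCompact (pullback.snd Y.hom U.ι))
  let φ : Y' ⊗ G' ⟶ G' := snd Y' G' * (fst Y' G' ≫ (Over.pullback U.ι).map u) * (snd Y' G')⁻¹
  let ψ : Y' ⊗ G' ⟶ G' := fst Y' G' ≫ (Over.pullback U.ι).map v
  obtain ⟨T, t, ht, htfp, hT⟩ := exists_equalizer_fp (Y := Y') (T := G') (W := G')
    (H20EssFree.isEssentiallyFree_snd _ _ hY) φ ψ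
  haveI := ht
  haveI := htfp
  refine ⟨U, ⟨genericPoint S, hU₁, hU₂⟩, T, t, ht, by rw [← Over.w t]; infer_instance,
    by rw [← Over.w t]; infer_instance, by rw [← Over.w t]; infer_instance, fun S' g => ?_⟩
  rw [hT S' g]
  refine forall₃_congr fun S'' s y => ?_
  simp only [φ, ψ, MonObj.comp_mul, GrpObj.comp_inv, lift_fst_assoc, lift_snd]

end Groth.Agent.S5374
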