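import Groth.Statements.S5375
import Groth.Agent.H20Comod.Reynolds
import Groth.Agent.H20Comod.Basic
import Mathlib

set_option autoImplicit false
set_option linter.style.haveILetI false
set_option backward.isDefEq.respectTransparency false
universe u
open CategoryTheory CategoryTheory.Limits MonoidalCategory CartesianMonoidalCategory MonObj GrpObj AlgebraicGeometry
open SGA3

namespace Groth.Agent.S5375
open scoped TensorProduct
open TensorProduct WithConv

/-- Let A be a commutative Hopf algebra over a field k (an affine k-group, not necessarily of finite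
type) and x an element of A. Then there is a subalgebra B of A of finite type over k containing x
which is a sub-Hopf-algebra: the comultiplication sends B into B ⊗ B and the antipode preserves B. -/
theorem result (k : Type u) [Field k] (A : Type u) [CommRing A] [HopfAlgebra k A] (x : A) :
    ∃ B : Subalgebra k A, x ∈ B ∧ B.FG ∧ SGA3.IsHopfSubalgebra k A B := by
  obtain ⟨V, hVfin, hxV, hV⟩ := H20Comod.exists_finite_subcoalg k (A := A) (Set.finite_singleton x)
  classical
  let S := HopfAlgebra.antipodeAlgHom k A
  have hSS : ∀ a : A, S (S a) = a := by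
    intro a
    have h1 : toConv (S.comp S) * toConv S = 1 := by
      have h := AlgHom.comp_convMul_distrib S (toConv S) (toConv (AlgHom.id k A))
      rw [AlgHom.antipode_id_cancel, ofConv_toConv (AlgHom.id k A), AlgHom.comp_id, ofConv_toConv S] at h
      refine WithConv.ofConv_injective (h.symm.trans (AlgHom.ext fun b => ?_))
      exact S.commutes _
    exact AlgHom.congr_fun (congrArg WithConv.ofConv
      (left_inv_eq_right_inv h1 (AlgHom.antipode_id_cancel (R := k) (A := A)))) a
  obtain ⟨t, ht⟩ := Module.Finite.iff_fg.mp hVfin
  let C : Subalgebra k A := Algebra.adjoin k ((V : Set A) ∪ S '' (V : Set A))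
  have hVC : V ≤ Subalgebra.toSubmodule C := fun v hv => Algebra.subset_adjoin (Or.inl hv)
  have hSVC : ∀ v ∈ V, S v ∈ C := fun v hv => Algebra.subset_adjoin (Or.inr ⟨v, hv, rfl⟩)
  have hSC : ∀ b ∈ C, S b ∈ C := by
    intro b hb
    refine (Algebra.adjoin_le (S := C.comap S) ?_ hb : b ∈ C.comap S)
    rintro v (hv | ⟨v, hv, rfl⟩)
    · exact hSVC v hv
    · show S (S v) ∈ C
      rw [hSS]; exact hVC hv
  refine ⟨C, hVC (hxV rfl), ?_, ?_, hSC⟩
  · refine ⟨t ∪ t.image S, ?_⟩
    refine le_antisymm (Algebra.adjoin_mono ?_) (Algebra.adjoin_le ?_)
    · rw [Finset.coe_union, Finset.coe_image]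
      exact Set.union_subset_union (ht ▸ Submodule.subset_span) (Set.image_mono (ht ▸ Submodule.subset_span))
    · have hsp : (V : Set A) ⊆ Algebra.adjoin k ((t ∪ t.image S : Finset A) : Set A) := by
        intro v hv
        rw [← ht] at hv
        refine Algebra.span_le_adjoin k _ (Submodule.span_mono ?_ hv)
        simp
      rintro v (hv | ⟨v, hv, rfl⟩)
      · exact hsp hv
      · rw [SetLike.mem_coe, ← ht] at hv
        have h2 : S v ∈ Submodule.span k (S '' (t : Set A)) := by
          rw [show S '' (t : Set A) = S.toLinearMap '' (t : Set A) from rfl, ← Submodule.map_span]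
          exact ⟨v, hv, rfl⟩
        refine Algebra.span_le_adjoin k _ (Submodule.span_mono ?_ h2)
        simp
  · intro b hb
    refine (Algebra.adjoin_le (S := (Algebra.TensorProduct.map C.val C.val).range.comap (Bialgebra.comulAlgHom k A)) ?_ hb :
      b ∈ (Algebra.TensorProduct.map C.val C.val).range.comap (Bialgebra.comulAlgHom k A))
    have key : ∀ v ∈ V, ∃ z : C ⊗[k] C, TensorProduct.map C.val.toLinearMap C.val.toLinearMap z =
        CoalgebraStruct.comul (R := k) v := by
      intro v hv
      obtain ⟨z, hz⟩ := hV v hv
      refine ⟨TensorProduct.map (Submodule.inclusion hVC) (Submodule.inclusion hVC) z, ?_⟩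
      rw [← hz]
      clear hz
      induction z using TensorProduct.induction_on with
      | zero => simp
      | tmul p q => rfl
      | add a b ha hb => simp only [map_add, ha, hb]
    rintro v (hv | ⟨v, hv, rfl⟩)
    · exact key v hv
    · obtain ⟨z, hz⟩ := key v hv
      let SC : C →ₗ[k] C := (S.toLinearMap ∘ₗ C.val.toLinearMap).codRestrict (Subalgebra.toSubmodule C)
        fun c => hSC c c.2
      refine ⟨TensorProduct.map SC SC (TensorProduct.comm k C C z), ?_⟩
      show TensorProduct.map C.val.toLinearMap C.val.toLinearMap _ =
        CoalgebraStruct.comul (R := k) (HopfAlgebra.antipode k v)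
      rw [H20Comod.comul_antipode, ← hz]
      clear hz
      induction z using TensorProduct.induction_on with
      | zero => simp
      | tmul p q => rfl
      | add a b ha hb => simp only [map_add, ha, hb]

end Groth.Agent.S5375
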