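import Groth.Statements.S5376
import Groth.Agent.H19Grp.PointLift

set_option autoImplicit false
set_option linter.style.haveILetI false
universe u
open CategoryTheory CategoryTheory.Limits MonoidalCategory CartesianMonoidalCategory MonObj GrpObj AlgebraicGeometry
open SGA3

namespace Groth.Agent.S5376

/-- Let k be an algebraically closed field, A a finitely generated commutative Hopf algebra over k which
is reduced (a reduced affine algebraic k-group G), V a finite-dimensional A-comodule and v a vector
of V. Let E be the k-subspace of V spanned by the vectors g·v for g running over the k-points of G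
(algebra maps A → k). Then E is a subcomodule of V containing v, and it is the smallest one. -/
theorem result (k : Type u) [Field k] [IsAlgClosed k] (A : Type u) [CommRing A] [HopfAlgebra k A]
    [Algebra.FiniteType k A] [IsReduced A] (V : Type u) [AddCommGroup V] [Module k V] [HopfRep.Comod k A V]
    [Module.Finite k V] (v : V) :
    letI E : Submodule k V := Submodule.span k (Set.range fun g : A →ₐ[k] k => HopfRep.Comod.act k A V g v)
    HopfRep.IsSubcomod (k := k) (A := A) E ∧ v ∈ E ∧
      ∀ W : Submodule k V, HopfRep.IsSubcomod (k := k) (A := A) W → v ∈ W → E ≤ W := by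
  set E : Submodule k V := Submodule.span k (Set.range fun g : A →ₐ[k] k => HopfRep.Comod.act k A V g v) with hE
  have hact : ∀ (g : A →ₐ[k] k) (x : V),
      HopfRep.Comod.act k A V g x = Groth.Agent.H20Comod.actL g.toLinearMap x := fun g x => rfl
  have hmul : ∀ (g h : A →ₐ[k] k), ∃ l : A →ₐ[k] k,
      l.toLinearMap = Groth.Agent.H20Comod.conv g.toLinearMap h.toLinearMap := by
    intro g h
    refine ⟨(WithConv.toConv g * WithConv.toConv h).ofConv, LinearMap.ext fun a => ?_⟩
    show (WithConv.toConv g * WithConv.toConv h).ofConv a = _
    erw [AlgHom.convMul_apply]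
  have hstab : ∀ w ∈ E, ∀ g : A →ₐ[k] k, Groth.Agent.H20Comod.actL g.toLinearMap w ∈ E := by
    intro w hw g
    induction hw using Submodule.span_induction with
    | mem w hw =>
      obtain ⟨h, rfl⟩ := hw
      obtain ⟨l, hl⟩ := hmul g h
      refine Submodule.subset_span ⟨l, ?_⟩
      show HopfRep.Comod.act k A V l v = _
      rw [hact, hl, Groth.Agent.H20Comod.actL_conv]
      rfl
    | zero => rw [map_zero]; exact zero_mem _
    | add x y _ _ hx hy => rw [map_add]; exact add_mem hx hy
    | smul c x _ hx => rw [map_smul]; exact E.smul_mem c hx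
  refine ⟨(Groth.Agent.H20Comod.isSubcomod_iff_forall_actL E).2 fun w hw f => ?_, ?_, ?_⟩
  · by_contra hf
    obtain ⟨φ, hφ, hφE⟩ := Submodule.exists_dual_map_eq_bot_of_notMem hf inferInstance
    apply hφ
    have hcomm : ∀ (f : A →ₗ[k] k) (z : TensorProduct k V A),
        φ (Groth.Agent.H20Comod.sliceR f z) = f (Groth.Agent.H20Comod.sliceL φ z) := by
      intro f z
      induction z using TensorProduct.induction_on with
      | zero => simp
      | tmul u a => simp [_root_.mul_comm]
      | add x y hx hy => simp only [map_add, hx, hy]
    rw [Groth.Agent.H20Comod.actL_apply, hcomm]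
    have hz : Groth.Agent.H20Comod.sliceL φ (HopfRep.Comod.coact (k := k) (A := A) w) = 0 := by
      by_contra hne
      obtain ⟨g, hg⟩ := Groth.Agent.H19Grp.PointLift.exists_point_apply_ne_zero (k := k)
        (fun hnil => hne hnil.eq_zero)
      apply hg
      show g.toLinearMap _ = 0
      rw [← hcomm, ← Groth.Agent.H20Comod.actL_apply]
      have : φ (Groth.Agent.H20Comod.actL g.toLinearMap w) ∈ E.map φ :=
        ⟨_, hstab w hw g, rfl⟩
      rwa [hφE, Submodule.mem_bot] at this
    rw [hz, map_zero]
  · refine Submodule.subset_span ⟨Bialgebra.counitAlgHom k A, ?_⟩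
    exact Groth.Agent.H20Comod.actL_counit v
  · intro W hW hv
    refine Submodule.span_le.2 ?_
    rintro _ ⟨g, rfl⟩
    exact Groth.Agent.H20Comod.actL_mem_of_isSubcomod hW g.toLinearMap hv

end Groth.Agent.S5376
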