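import Groth.Statements.S5377
import Mathlib

set_option autoImplicit false
set_option linter.style.haveILetI false
set_option backward.isDefEq.respectTransparency false
universe u
open CategoryTheory CategoryTheory.Limits MonoidalCategory CartesianMonoidalCategory MonObj GrpObj AlgebraicGeometry
open SGA3

namespace Groth.Agent.S5377

set_option maxHeartbeats 1600000 in
/-- Let (C_i → A_i)_i be a filtered direct system of homomorphisms of commutative rings, each of which
is faithfully flat. Then the induced homomorphism colim C_i → colim A_i is faithfully flat. -/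
theorem result (J : Type u) [SmallCategory J] [IsFiltered J]
    (C A : J ⥤ CommRingCat.{u}) (φ : C ⟶ A) (h : ∀ j : J, (φ.app j).hom.FaithfullyFlat) :
    (colimMap φ).hom.FaithfullyFlat := by
  have rep : ∀ (F : J ⥤ CommRingCat.{u}) {n : ℕ} (x : Fin n → ((colimit F : CommRingCat.{u}) : Type u)),
      ∃ (j : J) (x' : Fin n → F.obj j), ∀ i, colimit.ι F j (x' i) = x i := by
    intro F n x
    choose ji xi hxi using fun i => Concrete.colimit_exists_rep F (x i)
    classical
    obtain ⟨j, hj⟩ := IsFiltered.sup_objs_exists (Finset.univ.image ji)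
    let g := fun i => (hj (Finset.mem_image_of_mem ji (Finset.mem_univ i))).some
    refine ⟨j, fun i => F.map (g i) (xi i), fun i => ?_⟩
    rw [← hxi i, ← CommRingCat.comp_apply, colimit.w]
  have nat : ∀ (j : J) (c : C.obj j), (colimMap φ).hom (colimit.ι C j c) = colimit.ι A j (φ.app j c) := by
    intro j c
    show (colimit.ι C j ≫ colimMap φ) c = (φ.app j ≫ colimit.ι A j) c
    rw [ι_colimMap]
  have sq : ∀ {j j' : J} (g : j ⟶ j') (c : C.obj j), φ.app j' (C.map g c) = A.map g (φ.app j c) := by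
    intro j j' g c
    show (C.map g ≫ φ.app j') c = (φ.app j ≫ A.map g) c
    rw [φ.naturality]
  have sq' : ∀ {j j' : J} (g : j ⟶ j') (c : A.obj j), colimit.ι A j' (A.map g c) = colimit.ι A j c := by
    intro j j' g c
    show (A.map g ≫ colimit.ι A j') c = _
    rw [colimit.w]
  have sqC : ∀ {j j' : J} (g : j ⟶ j') (c : C.obj j), colimit.ι C j' (C.map g c) = colimit.ι C j c := by
    intro j j' g c
    show (C.map g ≫ colimit.ι C j') c = _
    rw [colimit.w]
  algebraize [(colimMap φ).hom]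
  have hmap : ∀ c : (colimit C : CommRingCat.{u}), algebraMap _ (colimit A : CommRingCat.{u}) c = (colimMap φ).hom c :=
    fun c => rfl
  haveI : Module.Flat (colimit C : CommRingCat.{u}) (colimit A : CommRingCat.{u}) := by
    refine Module.Flat.of_forall_isTrivialRelation fun {l f x} hsum => ?_
    obtain ⟨j₁, f', hf'⟩ := rep C f
    obtain ⟨j₂, x', hx'⟩ := rep A x
    let j := IsFiltered.max j₁ j₂
    let f₂ := fun i => C.map (IsFiltered.leftToMax j₁ j₂) (f' i)
    let x₂ := fun i => A.map (IsFiltered.rightToMax j₁ j₂) (x' i)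
    have h0 : colimit.ι A j (∑ i, φ.app j (f₂ i) * x₂ i) = colimit.ι A j 0 := by
      rw [map_zero, map_sum, ← hsum]
      refine Finset.sum_congr rfl fun i _ => ?_
      rw [map_mul, ← nat j, Algebra.smul_def, hmap]
      simp only [f₂, x₂, j, sqC, sq', hf', hx']
    obtain ⟨j₃, g₁, g₂, hg⟩ := (Concrete.colimit_rep_eq_iff_exists A _ _).mp h0
    let F₃ := fun i => C.map g₁ (f₂ i)
    let X₃ := fun i => A.map g₁ (x₂ i)
    letI : Algebra (C.obj j₃) (A.obj j₃) := (φ.app j₃).hom.toAlgebra
    haveI : Module.Flat (C.obj j₃) (A.obj j₃) := (h j₃).flat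
    have h3 : ∑ i, F₃ i • X₃ i = 0 := by
      have e : A.map g₁ (∑ i, φ.app j (f₂ i) * x₂ i) = 0 := hg.trans (map_zero _)
      rw [map_sum] at e
      rw [← e]
      refine Finset.sum_congr rfl fun i _ => ?_
      rw [Algebra.smul_def, map_mul, ← sq]
      rfl
    obtain ⟨m, a, y, ha, hf⟩ := Module.Flat.isTrivialRelation_of_sum_smul_eq_zero (R := (C.obj j₃ : Type u)) (M := (A.obj j₃ : Type u)) (f := F₃) (x := X₃) h3
    refine ⟨m, fun i k => colimit.ι C j₃ (a i k), fun k => colimit.ι A j₃ (y k), fun i => ?_, fun k => ?_⟩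
    · have e1 : colimit.ι A j₃ (X₃ i) = x i := by simp only [X₃, x₂, j, sq', hx']
      rw [← e1, ha i, map_sum]
      refine Finset.sum_congr rfl fun k _ => ?_
      rw [Algebra.smul_def, Algebra.smul_def, map_mul, hmap, nat]
      rfl
    · have e2 : ∀ i, f i = colimit.ι C j₃ (F₃ i) := fun i => by simp only [F₃, f₂, j, sqC, hf']
      simp only [e2, ← map_mul, ← map_sum, hf k, map_zero]
  refine { submodule_ne_top := fun m hm htop => ?_ }
  rw [Ideal.smul_top_eq_map, Submodule.restrictScalars_eq_top_iff] at htop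
  have h1 : (1 : (colimit A : CommRingCat.{u})) ∈ m.map (algebraMap _ _) := htop ▸ Submodule.mem_top
  rw [Ideal.map, Ideal.span, Submodule.mem_span_set'] at h1
  obtain ⟨n, co, g, hsum⟩ := h1
  choose fm hfm hfg using fun i => (g i).2
  obtain ⟨j₁, f', hf'⟩ := rep C fm
  obtain ⟨j₂, x', hx'⟩ := rep A co
  let j := IsFiltered.max j₁ j₂
  let f₂ := fun i => C.map (IsFiltered.leftToMax j₁ j₂) (f' i)
  let x₂ := fun i => A.map (IsFiltered.rightToMax j₁ j₂) (x' i)
  have h0 : colimit.ι A j (∑ i, φ.app j (f₂ i) * x₂ i) = colimit.ι A j 1 := by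
    rw [map_one, map_sum, ← hsum]
    refine Finset.sum_congr rfl fun i _ => ?_
    rw [map_mul, ← nat j, smul_eq_mul, ← hfg i, hmap, _root_.mul_comm (co i)]
    simp only [f₂, x₂, j, sqC, sq', hf', hx']
  obtain ⟨j₃, g₁, g₂, hg⟩ := (Concrete.colimit_rep_eq_iff_exists A _ _).mp h0
  letI : Algebra (C.obj j₃) (A.obj j₃) := (φ.app j₃).hom.toAlgebra
  haveI : Module.FaithfullyFlat (C.obj j₃) (A.obj j₃) := h j₃
  let m₃ := m.comap (colimit.ι C j₃).hom
  have h3 : (1 : A.obj j₃) ∈ m₃.map (algebraMap (C.obj j₃) (A.obj j₃)) := by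
    have e : A.map g₁ (∑ i, φ.app j (f₂ i) * x₂ i) = 1 := hg.trans (map_one _)
    rw [map_sum] at e
    rw [← e]
    refine Ideal.sum_mem _ fun i _ => ?_
    rw [map_mul, ← sq]
    refine Ideal.mul_mem_right _ _ (Ideal.mem_map_of_mem _ ?_)
    show colimit.ι C j₃ (C.map g₁ (f₂ i)) ∈ m
    simp only [f₂, j, sqC, hf']
    exact hfm i
  have h4 : m₃ = ⊤ := by
    rw [← Ideal.comap_map_eq_self_of_faithfullyFlat (B := A.obj j₃) m₃, (Ideal.eq_top_iff_one _).mpr h3,
      Ideal.comap_top]
  exact hm.ne_top ((Ideal.eq_top_iff_one _).mpr (by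
    have h5 : (1 : C.obj j₃) ∈ m₃ := by rw [h4]; exact Submodule.mem_top
    rwa [Ideal.mem_comap, map_one] at h5))

end Groth.Agent.S5377
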