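import Groth.Statements.S5378
import Groth.Agent.H19Grp.SchemImage
import Groth.Agent.H19Grp.DominantToAffine

set_option autoImplicit false
set_option maxHeartbeats 1000000
set_option synthInstance.maxHeartbeats 100000
set_option linter.style.haveILetI false
set_option backward.isDefEq.respectTransparency false
universe u
open CategoryTheory CategoryTheory.Limits MonoidalCategory CartesianMonoidalCategory MonObj GrpObj AlgebraicGeometry
open SGA3

namespace Groth.Agent.S5378

/-- Let k be a field, G a k-group scheme of finite type, G' an affine k-group scheme (not necessarily of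
finite type) and u : G → G' a homomorphism. Then u factors as a homomorphism p : G → C which is
surjective and flat (C is the quotient of G by the kernel of u) followed by a homomorphism i : C →
G' which is a closed immersion; in particular C is affine. If moreover u induces an injective map on
global sections, then i is an isomorphism (so G' is of finite type and u is faithfully flat). -/
theorem result (k : Type u) [Field k] (G G' : Over (Spec (CommRingCat.of k))) [GrpObj G] [GrpObj G']
    [LocallyOfFiniteType G.hom] [QuasiCompact G.hom] [IsAffine G'.left] (u : G ⟶ G') [IsMonHom u] :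
    ∃ (C : Over (Spec (CommRingCat.of k))) (_ : GrpObj C) (p : G ⟶ C) (i : C ⟶ G'), IsMonHom p ∧ IsMonHom i ∧
      p ≫ i = u ∧ Surjective p.left ∧ Flat p.left ∧ IsClosedImmersion i.left ∧ IsAffine C.left ∧
      (Function.Injective u.left.appTop.hom → IsIso i) := by
  have hfl : ∀ {X : Scheme.{u}} (f : X ⟶ Spec (CommRingCat.of k)), Flat f := fun f => inferInstance
  haveI : IsAffineHom G'.hom := inferInstance
  haveI : QuasiCompact u.left := by
    haveI : QuasiCompact (u.left ≫ G'.hom) := by rw [Over.w u]; infer_instance
    exact QuasiCompact.of_comp u.left G'.hom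
  haveI := hfl G.hom
  haveI := hfl (u.left.imageι ≫ G'.hom)
  obtain ⟨C, gC, i, p, hi, hp, hpi, hcl, hdom, hqc⟩ := Groth.Agent.H19Grp.exists_schemImage u
  haveI := hcl
  haveI := hdom
  haveI := hqc
  haveI := hp
  haveI : IsAffine C.left := isAffine_of_isAffineHom i.left
  have hinj : Function.Injective p.left.appTop := p.left.app_injective ⊤
  obtain ⟨h1, h2, -⟩ := Groth.Agent.H19Grp.DominantToAffine.main G C p hinj
  refine ⟨C, gC, p, i, hp, hi, hpi, h2, h1, hcl, inferInstance, fun hu => ?_⟩
  have hker : i.left.ker = ⊥ := by
    apply Scheme.IdealSheafData.ext_of_isAffine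
    rw [Scheme.Hom.ker_apply, Scheme.IdealSheafData.ideal_bot, Pi.bot_apply]
    refine (RingHom.injective_iff_ker_eq_bot _).mp ?_
    intro x y hxy
    apply hu
    show u.left.appTop x = u.left.appTop y
    rw [← hpi, Over.comp_left, Scheme.Hom.comp_appTop, CommRingCat.comp_apply, CommRingCat.comp_apply]
    exact congrArg _ hxy
  haveI : IsIso i.left := IsClosedImmersion.isIso_iff_ker_eq_bot.mpr hker
  haveI : IsIso ((Over.forget _).map i) := inferInstanceAs (IsIso i.left)
  exact isIso_of_reflects_iso i (Over.forget _)

end Groth.Agent.S5378
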