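import Groth.Statements.S5379
import Groth.Agent.H06GenSub.MonoAffine

set_option autoImplicit false
universe u
open CategoryTheory CategoryTheory.Limits MonoidalCategory CartesianMonoidalCategory MonObj GrpObj AlgebraicGeometry
open SGA3

namespace Groth.Agent.S5379

/-- Let k be a field and u : G → H a homomorphism of k-group schemes which is a quasi-compact
monomorphism, with H affine (G and H are not assumed of finite type). Then u is a closed immersion. -/
theorem result (k : Type u) [Field k] (G H : Over (Spec (CommRingCat.of k)))
    [GrpObj G] [GrpObj H] [IsAffine H.left] (u : G ⟶ H) [IsMonHom u] [Mono u] [QuasiCompact u.left] :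
    IsClosedImmersion u.left := by
  exact Groth.Agent.H06GenSub.MonoAffine.main u

end Groth.Agent.S5379
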