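import Groth.Statements.S5380
import Mathlib

set_option autoImplicit false
set_option linter.style.haveILetI false
set_option backward.isDefEq.respectTransparency false
universe u
open CategoryTheory CategoryTheory.Limits MonoidalCategory CartesianMonoidalCategory MonObj GrpObj AlgebraicGeometry
open SGA3

namespace Groth.Agent.S5380

section
open TensorProduct

variable {A M : Type*} [CommRing A] [AddCommGroup M] [Module A M] (a : A)

theorem injective_lTensor_quot {K F : Type*} [AddCommGroup K] [Module A K] [AddCommGroup F] [Module A F]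
    (jj : K →ₗ[A] F) (hι : Function.Injective jj) (hK : ∀ f : F, ∀ k : K, a • f = jj k → ∃ k', k = a • k')
    [Module.Flat (A ⧸ Ideal.span {a}) (M ⧸ (Ideal.span {a} • (⊤ : Submodule A M)))] :
    Function.Injective (jj.lTensor (M ⧸ (Ideal.span {a} • (⊤ : Submodule A M)))) := by
  let I := Ideal.span {a}
  let Mb := M ⧸ (I • (⊤ : Submodule A M))
  -- reduction of `jj` modulo `a`
  let jb : (A ⧸ I) ⊗[A] K →ₗ[A ⧸ I] (A ⧸ I) ⊗[A] F := jj.baseChange (A ⧸ I)
  have hjb : Function.Injective jb := by
    rw [injective_iff_map_eq_zero]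
    intro z hz
    obtain ⟨k, rfl⟩ : ∃ k : K, (1 : A ⧸ I) ⊗ₜ[A] k = z := by
      obtain ⟨w, hw⟩ := (TensorProduct.quotTensorEquivQuotSMul K I).symm.surjective z
      obtain ⟨k, rfl⟩ := Submodule.Quotient.mk_surjective _ w
      exact ⟨k, (TensorProduct.quotTensorEquivQuotSMul_symm_mk I k).symm.trans hw⟩
    have h0 : Submodule.Quotient.mk (jj k) = (0 : F ⧸ (I • ⊤ : Submodule A F)) := by
      rw [← TensorProduct.quotTensorEquivQuotSMul_mk_one_tmul I (jj k)]
      change TensorProduct.quotTensorEquivQuotSMul F I (jb ((1 : A ⧸ I) ⊗ₜ[A] k)) = 0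
      rw [hz, map_zero]
    rw [Submodule.Quotient.mk_eq_zero, Submodule.ideal_span_singleton_smul,
      Submodule.mem_smul_pointwise_iff_exists] at h0
    obtain ⟨f, -, hf⟩ := h0
    obtain ⟨k', rfl⟩ := hK f k hf
    rw [TensorProduct.tmul_smul, TensorProduct.smul_tmul', Algebra.smul_def, _root_.mul_one]
    show (Ideal.Quotient.mk I a) ⊗ₜ[A] k' = 0
    rw [Ideal.Quotient.eq_zero_iff_mem.2 (Ideal.mem_span_singleton_self a), TensorProduct.zero_tmul]
  have h1 := Module.Flat.lTensor_preserves_injective_linearMap (M := Mb) jb hjb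
  let eK := TensorProduct.AlgebraTensorModule.cancelBaseChange A (A ⧸ I) (A ⧸ I) Mb K
  let eF := TensorProduct.AlgebraTensorModule.cancelBaseChange A (A ⧸ I) (A ⧸ I) Mb F
  have hcomm : ∀ x, eF (jb.lTensor Mb x) = jj.lTensor Mb (eK x) := by
    intro x
    induction x using TensorProduct.induction_on with
    | zero => simp
    | add x y hx hy => simp only [map_add, hx, hy]
    | tmul m y =>
      induction y using TensorProduct.induction_on with
      | zero => simp
      | add x y hx hy => simp only [TensorProduct.tmul_add, map_add, hx, hy]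
      | tmul r k => simp [eK, eF, jb, TensorProduct.smul_tmul']
  intro x y hxy
  obtain ⟨x, rfl⟩ := eK.surjective x
  obtain ⟨y, rfl⟩ := eK.surjective y
  rw [← hcomm, ← hcomm] at hxy
  rw [h1 (eF.injective hxy)]

/-- Regularity of `a` propagates to tensor products with `a`-regular modules. -/
theorem eq_zero_of_smul_eq_zero {N : Type*} [AddCommGroup N] [Module A N] (ha : ∀ x : A, a * x = 0 → x = 0)
    (hM : ∀ m : M, a • m = 0 → m = 0) (hN : ∀ n : N, a • n = 0 → n = 0)
    [Module.Flat (A ⧸ Ideal.span {a}) (M ⧸ (Ideal.span {a} • (⊤ : Submodule A M)))]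
    (y : M ⊗[A] N) (hy : a • y = 0) : y = 0 := by
  classical
  let g : (N →₀ A) →ₗ[A] N := Finsupp.linearCombination A id
  have hg : Function.Surjective g := fun n => ⟨Finsupp.single n 1, by simp [g]⟩
  let jj := (LinearMap.ker g).subtype
  let q := (Ideal.span {a} • (⊤ : Submodule A M)).mkQ
  have hj : Function.Exact jj g := fun y => by
    constructor
    · intro h; exact ⟨⟨y, h⟩, rfl⟩
    · rintro ⟨x, rfl⟩; exact x.2
  have hex : Function.Exact (jj.lTensor M) (g.lTensor M) := by
    refine lTensor_exact (R := A) (M := LinearMap.ker g) (N := N →₀ A) (P := N) M ?_ hg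
    exact hj
  obtain ⟨z, rfl⟩ := LinearMap.lTensor_surjective M hg y
  have hz : g.lTensor M (a • z) = 0 := by rw [map_smul]; exact hy
  obtain ⟨k, hk⟩ := (hex _).1 hz
  have hk0 : q.rTensor _ k = 0 := by
    refine injective_lTensor_quot (M := M) (K := LinearMap.ker g) (F := N →₀ A) a jj (Submodule.injective_subtype _) (fun f k' hf => ?_) ?_
    · have : a • g f = 0 := by rw [← map_smul, hf]; exact k'.2
      exact ⟨⟨f, hN _ this⟩, Subtype.ext hf.symm⟩
    · rw [map_zero]
      change (jj.lTensor _) (q.rTensor _ k) = 0
      rw [← LinearMap.comp_apply, LinearMap.lTensor_comp_rTensor, ← LinearMap.rTensor_comp_lTensor,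
        LinearMap.comp_apply, hk, map_smul]
      generalize z = z'
      induction z' using TensorProduct.induction_on with
      | zero => simp
      | add x y hx hy => simp only [map_add, smul_add, hx, hy, add_zero]
      | tmul m f =>
        rw [LinearMap.rTensor_tmul, TensorProduct.smul_tmul', ← map_smul]
        have : q (a • m) = 0 := (Submodule.Quotient.mk_eq_zero _).2
          (Submodule.smul_mem_smul (Ideal.mem_span_singleton_self a) Submodule.mem_top)
        rw [this, TensorProduct.zero_tmul]
  have hexM : Function.Exact (LinearMap.lsmul A M a) q := fun m => by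
    rw [Submodule.mkQ_apply, Submodule.Quotient.mk_eq_zero, Submodule.ideal_span_singleton_smul,
      Submodule.mem_smul_pointwise_iff_exists]
    constructor
    · rintro ⟨m', -, rfl⟩; exact ⟨m', rfl⟩
    · rintro ⟨m', rfl⟩; exact ⟨m', trivial, rfl⟩
  obtain ⟨k', hk'⟩ := ((rTensor_exact (LinearMap.ker g) hexM (Submodule.mkQ_surjective _)) k).1 hk0
  have hk'' : k = a • k' := by
    rw [← hk']
    clear hk' hk0 hk
    induction k' using TensorProduct.induction_on with
    | zero => simp
    | add x y hx hy => simp only [map_add, smul_add, hx, hy]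
    | tmul m f => simp [TensorProduct.smul_tmul']
  have hreg : ∀ u : M ⊗[A] (N →₀ A), a • u = 0 → u = 0 := by
    intro u hu
    let e := TensorProduct.finsuppScalarRight A A M N
    apply e.injective
    ext n
    rw [map_zero, Finsupp.zero_apply]
    refine hM _ ?_
    have := congrArg (fun v => v n) (congrArg e hu)
    simpa using this
  have : z - jj.lTensor M k' = 0 := hreg _ (by
    rw [smul_sub, ← map_smul, ← hk'', hk, sub_self])
  rw [sub_eq_zero] at this
  rw [this, ← LinearMap.comp_apply, ← LinearMap.lTensor_comp]
  have : g ∘ₗ jj = 0 := LinearMap.ext fun x => x.2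
  rw [this, LinearMap.lTensor_zero, LinearMap.zero_apply]

end


/-- Let R be a discrete valuation ring with uniformizer π, A a flat commutative R-algebra and M an
A-module which is flat over R. Suppose that M/πM is a flat module over A/πA and that M ⊗_R K is a
flat module over A ⊗_R K, K the fraction field of R (equivalently, M[1/π] is flat over A[1/π], the
form used here). Then M is a flat A-module. -/
theorem result (R : Type u) [CommRing R] [IsDomain R] [IsDiscreteValuationRing R]
    (π : R) (hπ : Irreducible π) (A : Type u) [CommRing A] [Algebra R A] [Module.Flat R A]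
    (M : Type u) [AddCommGroup M] [Module A M] [Module R M] [IsScalarTower R A M] [Module.Flat R M]
    (h1 : Module.Flat (A ⧸ Ideal.span {algebraMap R A π}) (M ⧸ (Ideal.span {algebraMap R A π} • (⊤ : Submodule A M))))
    (h2 : Module.Flat (Localization.Away (algebraMap R A π)) (LocalizedModule (Submonoid.powers (algebraMap R A π)) M)) :
    Module.Flat A M := by
  let a := algebraMap R A π
  have hπ0 : π ≠ 0 := hπ.ne_zero
  have hregR : IsRegular π := IsRegular.of_ne_zero hπ0
  have ha : ∀ x : A, a * x = 0 → x = 0 := fun x hx =>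
    (Module.Flat.isSMulRegular_of_isRegular (R := R) (M := A) hregR) (by
      show π • x = π • (0 : A)
      rw [Algebra.smul_def, smul_zero]; exact hx)
  have hM : ∀ m : M, a • m = 0 → m = 0 := fun m hm =>
    (Module.Flat.isSMulRegular_of_isRegular (R := R) (M := M) hregR) (by
      show π • m = π • (0 : M)
      rw [smul_zero, ← algebraMap_smul A π m]; exact hm)
  haveI := h1
  haveI := h2
  haveI : Module.Flat A (LocalizedModule (Submonoid.powers a) M) :=
    Module.Flat.trans A (Localization.Away a) _
  rw [Module.Flat.iff_lTensor_injective']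
  intro J
  rw [injective_iff_map_eq_zero]
  intro x hx
  let L := TensorProduct.AlgebraTensorModule.rTensor A J (LocalizedModule.mkLinearMap (Submonoid.powers a) M)
  have hLx : L x = 0 := by
    apply Module.Flat.lTensor_preserves_injective_linearMap (M := LocalizedModule (Submonoid.powers a) M)
      J.subtype Subtype.val_injective
    rw [map_zero]
    show J.subtype.lTensor _ ((LocalizedModule.mkLinearMap (Submonoid.powers a) M).rTensor J x) = 0
    rw [← LinearMap.comp_apply, LinearMap.lTensor_comp_rTensor, ← LinearMap.rTensor_comp_lTensor,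
      LinearMap.comp_apply, hx, map_zero]
  obtain ⟨⟨s, n, rfl⟩, hs⟩ := (IsLocalizedModule.eq_zero_iff (Submonoid.powers a) L).1 hLx
  have hJ : ∀ j : J, a • j = 0 → j = 0 := fun j hj => Subtype.ext (ha j (congrArg Subtype.val hj))
  change a ^ n • x = 0 at hs
  clear hLx hx
  induction n with
  | zero => simpa using hs
  | succ n ih =>
    refine ih (eq_zero_of_smul_eq_zero (M := M) a ha hM hJ _ ?_)
    rw [smul_smul, ← pow_succ']
    exact hs

end Groth.Agent.S5380
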