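import Groth.Statements.S5381


set_option autoImplicit false
universe u
open CategoryTheory CategoryTheory.Limits MonoidalCategory CartesianMonoidalCategory MonObj GrpObj AlgebraicGeometry
open SGA3

namespace Groth.Agent.S5381

/-- For S the spectrum of a Dedekind domain R: let X be a scheme which is flat, quasi-compact and
quasi-separated over R. Then the ring of global sections Γ(X, O_X) is a flat R-module. (The
published remark takes S locally noetherian and regular of dimension 1 and also observes, when S is
local with closed point s and uniformizer π, that Γ(X, O_X)/πΓ(X, O_X) → Γ(X_s, O_{X_s}) is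
injective; this row takes S the spectrum of a Dedekind domain and omits the injectivity.) -/
theorem result (R : Type u) [CommRing R] [IsDedekindDomain R]
    (X : Scheme.{u}) (f : X ⟶ Spec (CommRingCat.of R)) [Flat f] [QuasiCompact f] [QuasiSeparated f] :
    letI := ((Scheme.ΓSpecIso (CommRingCat.of R)).inv ≫ f.appTop).hom.toAlgebra
    Module.Flat R Γ(X, ⊤) := by
  letI := ((Scheme.ΓSpecIso (CommRingCat.of R)).inv ≫ f.appTop).hom.toAlgebra
  refine IsDedekindDomain.flat_iff_torsion_eq_bot.2 ?_
  rw [← Submodule.isTorsionFree_iff_torsion_eq_bot]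
  constructor
  intro r hr
  have hr0 : r ≠ 0 := hr.ne_zero
  intro x y hxy
  simp only at hxy
  rw [Algebra.smul_def, Algebra.smul_def, RingHom.algebraMap_toAlgebra] at hxy
  refine TopCat.Presheaf.section_ext X.sheaf _ _ _ fun p _ => ?_
  obtain ⟨U, hU, hpU, -⟩ := exists_isAffineOpen_mem_and_subset (x := p) (U := (⊤ : X.Opens)) trivial
  have hflat := HasRingHomProperty.appLE @Flat f inferInstance ⟨⊤, isAffineOpen_top _⟩ ⟨U, hU⟩
    (by rw [Scheme.Hom.preimage_top]; exact le_top)
  letI := (f.appLE ⊤ U (by rw [Scheme.Hom.preimage_top]; exact le_top)).hom.toAlgebra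
  let σ := (Scheme.ΓSpecIso (CommRingCat.of R)).commRingCatIsoToRingEquiv
  haveI : IsDomain Γ(Spec (CommRingCat.of R), ⊤) := σ.toMulEquiv.isDomain
  haveI : Module.Flat Γ(Spec (CommRingCat.of R), ⊤) Γ(X, U) := hflat
  have hreg : IsSMulRegular Γ(X, U) (σ.symm r) := by
    refine Module.Flat.isSMulRegular_of_nonZeroDivisors (mem_nonZeroDivisors_of_ne_zero ?_)
    simpa using hr0
  have hU' : X.presheaf.map (homOfLE (le_top : U ≤ ⊤)).op x = X.presheaf.map (homOfLE (le_top : U ≤ ⊤)).op y := by
    refine hreg ?_
    have h := congrArg (X.presheaf.map (homOfLE (le_top : U ≤ ⊤)).op) hxy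
    rw [map_mul, map_mul] at h
    show σ.symm r • _ = σ.symm r • _
    rw [Algebra.smul_def, Algebra.smul_def, RingHom.algebraMap_toAlgebra]
    exact h
  have h := congrArg (fun z => X.presheaf.germ U p hpU z) hU'
  simp only [TopCat.Presheaf.germ_res_apply] at h
  exact h

end Groth.Agent.S5381
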