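import Groth.Statements.S5383
import Groth.Agent.H06EGA15.UnibranchOpen

set_option autoImplicit false
universe u
open CategoryTheory CategoryTheory.Limits MonoidalCategory CartesianMonoidalCategory MonObj GrpObj AlgebraicGeometry
open SGA3

namespace Groth.Agent.S5383

open Groth.Agent

/-- (i) let A ⊆ B be domains with B integral over A, and q a prime of B such that the local ring of A at
p = q ∩ A is unibranch; then Spec B → Spec A is open at q (it maps neighbourhoods of q to
neighbourhoods of p). (ii) Let f : X → Y be a dominant morphism of irreducible schemes which is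
locally of finite type, x a point of X isolated in its fibre (f quasi-finite at x) such that the
local ring of Y at f(x) is unibranch; then f is open at x. -/
theorem result :
    (∀ (A B : Type u) [CommRing A] [IsDomain A] [CommRing B] [IsDomain B] [Algebra A B],
      Function.Injective (algebraMap A B) → Algebra.IsIntegral A B →
      ∀ q : PrimeSpectrum B, CAlg2.IsUnibranch (Localization.AtPrime (q.asIdeal.comap (algebraMap A B))) →
        EGA43.IsOpenAt (PrimeSpectrum.comap (algebraMap A B)) q) ∧
    (∀ (X Y : Scheme.{u}) (f : X ⟶ Y) [IrreducibleSpace X] [IrreducibleSpace Y] [LocallyOfFiniteType f],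
      DenseRange f.base → ∀ x : X, (nhdsWithin x (f.base ⁻¹' {f.base x})) = pure x →
        CAlg2.IsUnibranch (Y.presheaf.stalk (f.base x)) → EGA43.IsOpenAt f.base x) := by
  refine ⟨fun A B _ _ _ _ _ hinj hint q hu => ?_, fun X Y f _ _ _ hdense x hiso hy => ?_⟩
  · haveI := hint
    exact H06EGA15.isOpenAt_comap_of_isUnibranch hinj q hu
  · haveI : IsDominant f := ⟨hdense⟩
    refine H06EGA15.isOpenAt_of_quasiFiniteAt_dominant f x ?_ hy
    have h : {x} ∈ nhdsWithin x (f.base ⁻¹' {f.base x}) := hiso ▸ Filter.mem_pure.mpr rfl
    obtain ⟨O, hO, hxO, hsub⟩ := mem_nhdsWithin.mp h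
    rw [Scheme.Hom.quasiFiniteAt_iff_isOpen_singleton_asFiber, ← (f.fiberHomeo (f x)).isOpen_image,
      Set.image_singleton, Scheme.Hom.asFiber, Homeomorph.apply_symm_apply]
    refine ⟨O, hO, Set.ext fun z => ⟨fun hz => Subtype.ext (hsub ⟨hz, z.2⟩), fun hz => ?_⟩⟩
    obtain rfl : z = _ := hz
    exact hxO

end Groth.Agent.S5383
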