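import Groth.Statements.S5384
import Groth.Agent.H19Grp.ArtinThickening
import Groth.Agent.H19Grp.SubgrpClosed

set_option autoImplicit false
set_option linter.style.haveILetI false
set_option backward.isDefEq.respectTransparency false
universe u
open CategoryTheory CategoryTheory.Limits MonoidalCategory CartesianMonoidalCategory MonObj GrpObj AlgebraicGeometry
open SGA3

namespace Groth.Agent.S5384

/-- Let A be a local artinian ring, G an A-group scheme and u : H → G a homomorphism of A-group schemes
which is an immersion (a subgroup scheme; no finiteness is assumed). Then u is a closed immersion. -/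
theorem result (A : Type u) [CommRing A] [IsArtinianRing A] [IsLocalRing A] (G H : Over (Spec (CommRingCat.of A))) [GrpObj G] [GrpObj H]
    (u : H ⟶ G) [IsMonHom u] [IsImmersion u.left] : IsClosedImmersion u.left := by
  set i := Spec.map (CommRingCat.ofHom (IsLocalRing.residue A))
  let F := Over.pullback i
  letI : GrpObj (F.obj G) := Functor.grpObjObj
  letI : GrpObj (F.obj H) := Functor.grpObjObj
  haveI : IsImmersion (F.map u).left :=
    MorphismProperty.of_isPullback (Groth.Agent.H19Grp.ArtinHom.isPullback_residue u) ‹_›
  haveI : IsClosedImmersion (F.map u).left :=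
    IsClosedImmersion.iff_isPreimmersion.mpr ⟨inferInstance,
      Groth.Agent.H19Grp.isClosed_range_hom (Groth.Agent.H19Grp.grpHomToGrpd (F.map u))
        (F.map u).left.isLocallyClosed_range⟩
  exact Groth.Agent.H19Grp.ArtinThickening.isClosedImmersion_of_closedFibre u ‹_›

end Groth.Agent.S5384
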