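import Groth.Statements.S5385
import Groth.Agent.H05EGA4.CMU
import Groth.Agent.H05EGA4.CodepthOpen
import Groth.Agent.H8Props.NormalLowDim
import Mathlib.RingTheory.RegularLocalRing.Polynomial

set_option autoImplicit false
set_option maxHeartbeats 1000000
set_option synthInstance.maxHeartbeats 100000
set_option linter.style.haveILetI false
set_option backward.isDefEq.respectTransparency false
universe u
open CategoryTheory CategoryTheory.Limits MonoidalCategory CartesianMonoidalCategory MonObj GrpObj AlgebraicGeometry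
open SGA3

namespace Groth.Agent.S5385

open Groth.Agent Groth.Agent.H05EGA4 in
set_option synthInstance.maxHeartbeats 200000 in
theorem isOpen_cm (A S : Type u) [CommRing A] [IsArtinianRing A] [CommRing S] [Algebra A S] [Algebra.FiniteType A S] :
    IsOpen {q : PrimeSpectrum S | LocCoh.IsCohenMacaulayLocalRing (Localization.AtPrime q.asIdeal)} := by
  haveI : IsNoetherianRing S := Algebra.FiniteType.isNoetherianRing A S
  obtain ⟨n, f, hf⟩ := Algebra.FiniteType.iff_quotient_mvPolynomial''.mp ‹Algebra.FiniteType A S›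
  have h := isOpen_codepth_le (fun p hp => by
    let m : Ideal A := p.comap (algebraMap A S)
    haveI : m.IsMaximal := inferInstance
    letI := Ideal.Quotient.field m
    let ψ : A ⧸ m →+* S ⧸ p := Ideal.quotientMap p (algebraMap A S) le_rfl
    let φ : MvPolynomial (Fin n) (A ⧸ m) →+* S ⧸ p :=
      MvPolynomial.eval₂Hom ψ (fun i => Ideal.Quotient.mk p (f (MvPolynomial.X i)))
    have hφ : φ.comp (MvPolynomial.map (Ideal.Quotient.mk m)) = (Ideal.Quotient.mk p).comp f.toRingHom := by
      refine MvPolynomial.ringHom_ext (fun a => ?_) fun i => ?_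
      · simp [φ, ψ, Ideal.quotientMap_mk]
      · simp [φ]
    exact exists_CM_open_of_regular φ fun y => by
      obtain ⟨y, rfl⟩ := Ideal.Quotient.mk_surjective y
      obtain ⟨x, rfl⟩ := hf y
      exact ⟨_, RingHom.congr_fun hφ x⟩) S 0
  refine (congrArg IsOpen (Set.ext fun q => ?_)).mp h
  exact (depth_congr_self q.asIdeal).symm

open CategoryTheory AlgebraicGeometry Groth.Agent Groth.Agent.H05EGA4 in
theorem main (A : Type u) [CommRing A] [IsArtinianRing A] (X : Scheme.{u})
    (f : X ⟶ Spec (CommRingCat.of A)) [LocallyOfFiniteType f] [Nonempty X] :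
    ∃ x : X, IsClosed ({x} : Set X) ∧ LocCoh.IsCohenMacaulayLocalRing (X.presheaf.stalk x) := by
  obtain ⟨x₀⟩ := ‹Nonempty X›
  obtain ⟨U, hU, hx₀, -⟩ := exists_isAffineOpen_mem_and_subset (X := X) (x := x₀) (U := ⊤) trivial
  let S := Γ(X, U)
  letI : Algebra A S := ((f.appLE ⊤ U le_top).hom.comp (Scheme.ΓSpecIso (CommRingCat.of A)).inv.hom).toAlgebra
  haveI : Algebra.FiniteType A S := by
    have h := LocallyOfFiniteType.finiteType_appLE f (isAffineOpen_top _) hU le_top
    exact RingHom.FiniteType.comp h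
      (RingHom.FiniteType.of_surjective _ (ConcreteCategory.bijective_of_isIso (Scheme.ΓSpecIso (CommRingCat.of A)).inv).2)
  haveI : IsNoetherianRing S := Algebra.FiniteType.isNoetherianRing A S
  let C : Set (PrimeSpectrum S) := {q | LocCoh.IsCohenMacaulayLocalRing (Localization.AtPrime q.asIdeal)}
  have hCne : C.Nonempty := by
    obtain ⟨P, hP, -⟩ := Ideal.exists_minimalPrimes_le (I := (⊥ : Ideal S)) (bot_le : ⊥ ≤ (hU.primeIdealOf ⟨x₀, hx₀⟩).asIdeal)
    have hP' : P ∈ minimalPrimes S := hP
    haveI : P.IsPrime := hP.1.1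
    refine ⟨⟨P, hP.1.1⟩, ?_⟩
    have h0 : ringKrullDim (Localization.AtPrime P) = 0 := by
      rw [IsLocalization.AtPrime.ringKrullDim_eq_height P (Localization.AtPrime P)]
      rw [Ideal.height_eq_zero_iff.mpr hP']
      rfl
    show LocCoh.IsCohenMacaulayLocalRing (Localization.AtPrime P)
    haveI : IsNoetherianRing (Localization.AtPrime P) := IsLocalization.isNoetherianRing P.primeCompl _ inferInstance
    have hd := H8Props.FlatDepth.depth_le_dim (Localization.AtPrime P)
    rw [H8Props.FlatDepth.isCM_iff_dim]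
    refine le_antisymm ?_ hd
    rw [h0]
    exact WithBot.coe_le_coe.mpr zero_le
  obtain ⟨_, ⟨q, hq, rfl⟩, hcl⟩ : ∃ x ∈ hU.fromSpec '' C, IsClosed ({x} : Set X) := by
    haveI := LocallyOfFiniteType.jacobsonSpace f
    obtain ⟨x, hx⟩ := nonempty_inter_closedPoints (hCne.image hU.fromSpec)
      (hU.fromSpec.isOpenEmbedding.isOpenMap _ (isOpen_cm A S)).isLocallyClosed
    exact ⟨x, hx.1, hx.2⟩
  have hxU : hU.fromSpec q ∈ U := hU.range_fromSpec.le ⟨q, rfl⟩
  letI := X.presheaf.algebra_section_stalk (⟨hU.fromSpec q, hxU⟩ : U)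
  haveI : IsLocalization.AtPrime (X.presheaf.stalk (hU.fromSpec q)) q.asIdeal := by
    convert hU.isLocalization_stalk ⟨hU.fromSpec q, hxU⟩
    exact (hU.fromSpec.isOpenEmbedding.injective (hU.fromSpec_primeIdealOf ⟨hU.fromSpec q, hxU⟩)).symm
  haveI : IsNoetherianRing (X.presheaf.stalk (hU.fromSpec q)) :=
    IsLocalization.isNoetherianRing q.asIdeal.primeCompl _ inferInstance
  exact ⟨_, hcl, isCohenMacaulayLocalRing_of_ringEquiv'
    (IsLocalization.algEquiv q.asIdeal.primeCompl (Localization.AtPrime q.asIdeal)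
      (X.presheaf.stalk (hU.fromSpec q))).toRingEquiv hq⟩


/-- Let A be an artinian ring and X a nonempty scheme locally of finite type over A. Then X has a closed
point whose local ring is Cohen–Macaulay. -/
theorem result (A : Type u) [CommRing A] [IsArtinianRing A] (X : Scheme.{u})
    (f : X ⟶ Spec (CommRingCat.of A)) [LocallyOfFiniteType f] [Nonempty X] :
    ∃ x : X, IsClosed ({x} : Set X) ∧ LocCoh.IsCohenMacaulayLocalRing (X.presheaf.stalk x) := by
  exact main A X f

end Groth.Agent.S5385
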