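import Groth.Statements.S5387
import Groth.Agent.H19Grp.Cartier

set_option autoImplicit false
set_option linter.style.haveILetI false
set_option backward.isDefEq.respectTransparency false
universe u
open CategoryTheory CategoryTheory.Limits MonoidalCategory CartesianMonoidalCategory MonObj GrpObj AlgebraicGeometry
open SGA3

namespace Groth.Agent.S5387

/-- Let k be an algebraically closed field, G a group scheme locally of finite type over k and x a
closed point of G. Then the local ring of G at x is isomorphic to the local ring of G at the unit
point (an isomorphism is induced by a translation; this row asserts the existence of an isomorphism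
of rings). -/
theorem result (k : Type u) [Field k] [IsAlgClosed k] (G : Over (Spec (CommRingCat.of k))) [GrpObj G]
    [LocallyOfFiniteType G.hom] (pt : ↥(𝟙_ (Over (Spec (CommRingCat.of k)))).left) (x : G.left) (hx : IsClosed ({x} : Set G.left)) :
    Nonempty (G.left.presheaf.stalk (η[G].left.base pt) ≅ G.left.presheaf.stalk x) := by
  obtain ⟨e, he⟩ := H19Grp.exists_iso_unitPt G x hx
  have hpt : (η[G]).left.base pt = H19Grp.unitPt G := by
    haveI : Subsingleton (Spec (CommRingCat.of k)) := inferInstance
    exact congrArg (η[G]).left (Subsingleton.elim (α := Spec (CommRingCat.of k)) _ _)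
  haveI : IsIso e.hom.left := inferInstanceAs (IsIso ((Over.forget _).map e.hom))
  rw [hpt, ← he]
  exact ⟨(asIso (e.hom.left.stalkMap (H19Grp.unitPt G))).symm⟩

end Groth.Agent.S5387
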