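import Groth.Statements.S5388
import Groth.Agent.H22Alg.GeomReducedAt
import Groth.Agent.H19Grp.SmoothLocus

set_option autoImplicit false
set_option maxHeartbeats 1000000
set_option synthInstance.maxHeartbeats 100000
set_option linter.style.haveILetI false
set_option backward.isDefEq.respectTransparency false
universe u
open CategoryTheory CategoryTheory.Limits MonoidalCategory CartesianMonoidalCategory MonObj GrpObj AlgebraicGeometry
open SGA3

namespace Groth.Agent.S5388

open scoped TensorProduct in
/-- Reducedness over one perfect extension gives geometric reducedness. -/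
theorem isGeometricallyReduced_of_perfect_extension (k : Type u) [Field k] (K : Type u) [Field K] [Algebra k K]
    [PerfectField K] (A : Type u) [CommRing A] [Algebra k A] [_root_.IsReduced (K ⊗[k] A)] :
    Algebra.IsGeometricallyReduced k A := by
  rw [Algebra.isGeometricallyReduced_field_iff]
  let Ω := AlgebraicClosure K
  let i : AlgebraicClosure k →ₐ[k] Ω := IsAlgClosed.lift
  haveI : Algebra.IsGeometricallyReduced K (K ⊗[k] A) :=
    Groth.Agent.H06Red.isGeometricallyReduced_of_perfectField K (K ⊗[k] A)
  haveI : _root_.IsReduced (Ω ⊗[K] (K ⊗[k] A)) := Groth.Agent.H06Red.isReduced_field_tensor K (K ⊗[k] A) Ω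
  haveI : _root_.IsReduced (Ω ⊗[k] A) :=
    isReduced_of_injective (Algebra.TensorProduct.cancelBaseChange k K K Ω A).symm.toRingEquiv.toRingHom
      (Algebra.TensorProduct.cancelBaseChange k K K Ω A).symm.injective
  exact isReduced_of_injective (Algebra.TensorProduct.map i (AlgHom.id k A))
    (Module.Flat.rTensor_preserves_injective_linearMap _ i.toRingHom.injective)

/-- The unit point of the base change lies over the unit point. -/
theorem fst_unitPt {k : Type u} [Field k] (G : Over (Spec (CommRingCat.of k))) [GrpObj G] :
    Limits.pullback.fst G.hom _ (Groth.Agent.H19Grp.unitPt (Groth.Agent.H19Grp.geomG G)) =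
      Groth.Agent.H19Grp.unitPt G := by
  let g := Spec.map (CommRingCat.ofHom (algebraMap k (AlgebraicClosure k)))
  let F := Over.pullback g
  have hη : η[Groth.Agent.H19Grp.geomG G] = Functor.LaxMonoidal.ε F ≫ F.map η[G] := rfl
  obtain ⟨j, hj⟩ : ∃ j, η[Groth.Agent.H19Grp.geomG G].left ≫ Limits.pullback.fst G.hom g = j ≫ η[G].left :=
    ⟨(Functor.LaxMonoidal.ε F).left ≫ Limits.pullback.fst _ g, by
      rw [hη, Over.comp_left, Category.assoc, Category.assoc]
      exact congrArg (_ ≫ ·) (Limits.pullback.lift_fst _ _ _)⟩
  show Limits.pullback.fst G.hom g (η[Groth.Agent.H19Grp.geomG G].left (IsLocalRing.closedPoint _)) = _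
  refine ((Scheme.Hom.comp_apply _ _ _).symm.trans congr($hj (IsLocalRing.closedPoint (AlgebraicClosure k)))).trans ?_
  rw [Scheme.Hom.comp_apply]
  exact congrArg η[G].left ((inferInstance : Subsingleton (PrimeSpectrum k)).elim _ _)


/-- Let G be a group scheme locally of finite type over a field k, e its unit point and K a perfect
extension field of k. If K ⊗_k O_{G,e} is a reduced ring, then G is smooth over k. (The published
statement is for a group flat and locally of finite type over a local artinian ring, with K the
perfect closure of the residue field; this row is the case of a base field, with K any perfect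
extension.) -/
theorem result (k : Type u) [Field k] (G : Over (Spec (CommRingCat.of k))) [GrpObj G]
    [LocallyOfFiniteType G.hom] (pt : ↥(𝟙_ (Over (Spec (CommRingCat.of k)))).left) (K : Type u) [Field K] [Algebra k K] [PerfectField K] :
    letI := ((Scheme.ΓSpecIso (CommRingCat.of k)).inv ≫ G.hom.appTop ≫ G.left.presheaf.germ ⊤ (η[G].left.base pt) trivial).hom.toAlgebra
    IsReduced (TensorProduct k K (G.left.presheaf.stalk (η[G].left.base pt))) → Smooth G.hom := by
  intro h
  letI := ((Scheme.ΓSpecIso (CommRingCat.of k)).inv ≫ G.hom.appTop ≫ G.left.presheaf.germ ⊤ (η[G].left.base pt) trivial).hom.toAlgebra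
  letI : G.left.Over (Spec (CommRingCat.of k)) := ⟨G.hom⟩
  have he : η[G].left.base pt = Groth.Agent.H19Grp.unitPt G :=
    congrArg η[G].left.base ((inferInstance : Subsingleton (PrimeSpectrum k)).elim pt (IsLocalRing.closedPoint k))
  have hA : Algebra.IsGeometricallyReduced k (G.left.presheaf.stalk (η[G].left.base pt)) :=
    isGeometricallyReduced_of_perfect_extension k K _
  have hat := (Groth.Agent.H22Alg.GeomReducedAt.isGeomReducedAt_iff k G.left (η[G].left.base pt)).2 hA
  refine Groth.Agent.H19Grp.smooth_of_isReduced_geom G (hat (AlgebraicClosure k) _ ?_)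
  rw [he]
  exact fst_unitPt G

end Groth.Agent.S5388
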