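import Groth.Statements.S5389
import Groth.Agent.H19Grp.PointPreds

set_option autoImplicit false
set_option linter.style.haveILetI false
set_option backward.isDefEq.respectTransparency false
universe u
open CategoryTheory CategoryTheory.Limits MonoidalCategory CartesianMonoidalCategory MonObj GrpObj AlgebraicGeometry
open SGA3

namespace Groth.Agent.S5389

private theorem descendsAlong_univOpen (P : MorphismProperty Scheme.{u}) [P.IsStableUnderBaseChange]
    [IsZariskiLocalAtTarget P] [P.DescendsAlong (@Flat ⊓ @Surjective ⊓ @QuasiCompact)] :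
    P.DescendsAlong (@Surjective ⊓ @Flat ⊓ @UniversallyOpen) := by
  apply IsZariskiLocalAtTarget.descendsAlong
  rintro R X Y f g ⟨⟨h₁, h₂⟩, h₃⟩ H
  obtain ⟨V, hV, e⟩ := f.isOpenMap.exists_opens_image_eq_of_prespectralSpace
    f.continuous (by simp) isOpen_univ isCompact_univ
  let V : X.Opens := V
  refine MorphismProperty.of_isPullback_of_descendsAlong (Q := @Flat ⊓ @Surjective ⊓ @QuasiCompact)
    (.paste_vert (.of_hasPullback V.ι _) (.of_hasPullback f g)) ⟨⟨inferInstance, ?_⟩,
      (quasiCompact_iff_compactSpace _).mpr (isCompact_iff_compactSpace.mp hV)⟩ ?_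
  · exact ⟨fun x => let ⟨y, hyV, e⟩ := e.ge (Set.mem_univ x); ⟨⟨y, hyV⟩, e⟩⟩
  · exact IsZariskiLocalAtTarget.of_isPullback (.flip <| .of_hasPullback _ _) H


/-- Let P be a property of morphisms of schemes which is local on the target for the fpqc topology
(stable under base change, Zariski-local on the target, and descending along flat surjective
quasi-compact morphisms). Let u : G → H be a homomorphism of S-group schemes with G flat and
universally open over S, W the largest open subscheme of H over which the restriction of u has P,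
and V = u⁻¹(W). Then the image U of V in S is open and V is an open subgroup scheme of G over U: V
contains the unit point of every fibre of G that it meets, V is stable under the inversion of G, and
the product of a point of G ×_S G whose two projections lie in V lies in V. -/
theorem result (P : MorphismProperty Scheme.{u}) [P.IsStableUnderBaseChange] [IsZariskiLocalAtTarget P]
    [P.DescendsAlong (@Flat ⊓ @Surjective ⊓ @QuasiCompact)]
    (S : Scheme.{u}) (G H : Over S) [GrpObj G] [GrpObj H] (u : G ⟶ H) [IsMonHom u] [Flat G.hom] [UniversallyOpen G.hom]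
    (W : H.left.Opens) (hW : P (u.left ∣_ W)) (hmax : ∀ W' : H.left.Opens, P (u.left ∣_ W') → W' ≤ W) :
    letI V : G.left.Opens := u.left ⁻¹ᵁ W
    IsOpen (G.hom.base '' (V : Set G.left)) ∧
    (∀ g ∈ V, ∀ p : ↥(𝟙_ (Over S)).left, (𝟙_ (Over S)).hom.base p = G.hom.base g → η[G].left.base p ∈ V) ∧
    (∀ g ∈ V, ι[G].left.base g ∈ V) ∧
    (∀ z : ↥(G ⊗ G).left, (fst G G).left.base z ∈ V → (snd G G).left.base z ∈ V → μ[G].left.base z ∈ V) := by
  haveI := descendsAlong_univOpen P
  let Q : H19Grp.PtPred.{u} := fun _ Y f x => ∃ W : Y.Opens, f x ∈ W ∧ P (f ∣_ W)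
  have hbc : H19Grp.PtBC Q := by
    rintro X' X Y' Y g' f' f g h x' ⟨W₀, hx, hP⟩
    refine ⟨g ⁻¹ᵁ W₀, ?_, ?_⟩
    · show g (f' x') ∈ W₀
      rwa [← Scheme.Hom.comp_apply, ← h.w, Scheme.Hom.comp_apply]
    · have h1 := (isPullback_morphismRestrict f' (g ⁻¹ᵁ W₀)).flip.paste_horiz h
      rw [← morphismRestrict_ι] at h1
      exact MorphismProperty.of_isPullback (IsPullback.of_right' h1 (isPullback_morphismRestrict f W₀).flip) hP
  have hdesc : H19Grp.PtDesc Q (@Flat ⊓ @UniversallyOpen) := by
    rintro X' X Y' Y g' f' f g h ⟨hg₁, hg₂⟩ x' ⟨W', hx, hP⟩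
    haveI := hg₁
    haveI := hg₂
    obtain ⟨W₀, p, hWe, hps, hp, hPp⟩ := H19Grp.exists_image_open g g.isOpenMap W'
    haveI := hps
    refine ⟨W₀, ?_, ?_⟩
    · rw [← Scheme.Hom.comp_apply, h.w, Scheme.Hom.comp_apply]
      exact hWe.ge ⟨_, hx, rfl⟩
    · have h1 := (isPullback_morphismRestrict f' W').flip.paste_horiz h
      rw [← hp] at h1
      exact MorphismProperty.of_isPullback_of_descendsAlong
        (Q := @Surjective ⊓ @Flat ⊓ @UniversallyOpen)
        (IsPullback.of_right' h1 (isPullback_morphismRestrict f W₀).flip).flip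
        ⟨⟨hps, hPp @Flat inferInstance⟩, hPp @UniversallyOpen inferInstance⟩ hP
  have hset : {x | Q u.left x} = ((u.left ⁻¹ᵁ W : G.left.Opens) : Set G.left) :=
    Set.ext fun x => ⟨fun ⟨_, hx, hP⟩ => hmax _ hP hx, fun hx => ⟨W, hx, hW⟩⟩
  exact H19Grp.locus_isSubgroup u hbc hdesc _ ⊤ hset le_top
    ⟨inferInstanceAs (Flat ((⊤ : G.left.Opens).ι ≫ G.hom)), inferInstanceAs (UniversallyOpen ((⊤ : G.left.Opens).ι ≫ G.hom))⟩

end Groth.Agent.S5389
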