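import Groth.Statements.S5390
import Mathlib

set_option autoImplicit false
set_option linter.style.haveILetI false
set_option backward.isDefEq.respectTransparency false
universe u
open CategoryTheory CategoryTheory.Limits MonoidalCategory CartesianMonoidalCategory MonObj GrpObj AlgebraicGeometry
open SGA3

namespace Groth.Agent.S5390

/-- Let P be a property of morphisms of schemes which is local on the target for the fpqc topology
(stable under base change, Zariski-local on the target, descending along flat surjective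
quasi-compact morphisms). Let f : X → Y be a morphism, g : Y' → Y a flat morphism whose underlying
map is open, and f' : X ×_Y Y' → Y' the base change. If W is the largest open of Y over which f has
P and W₁' the largest open of Y' over which f' has P, then W₁' = g⁻¹(W). -/
theorem result (P : MorphismProperty Scheme.{u}) [P.IsStableUnderBaseChange] [IsZariskiLocalAtTarget P]
    [P.DescendsAlong (@Flat ⊓ @Surjective ⊓ @QuasiCompact)]
    (X Y Y' : Scheme.{u}) (f : X ⟶ Y) (g : Y' ⟶ Y) [Flat g] (hg : IsOpenMap g.base)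
    (W : Y.Opens) (hW : P (f ∣_ W)) (hmax : ∀ W₀ : Y.Opens, P (f ∣_ W₀) → W₀ ≤ W)
    (W₁ : Y'.Opens) (hW₁ : P (pullback.snd f g ∣_ W₁)) (hmax₁ : ∀ W₀ : Y'.Opens, P (pullback.snd f g ∣_ W₀) → W₀ ≤ W₁) :
    W₁ = g ⁻¹ᵁ W := by
  apply le_antisymm
  · intro y' hy'
    obtain ⟨_, ⟨(V0 : Y.Opens), hV0, rfl⟩, hyV0, -⟩ := Y.isBasis_affineOpens.exists_subset_of_mem_open
      (Set.mem_univ (g y')) isOpen_univ
    obtain ⟨_, ⟨(V : Y'.Opens), hV, rfl⟩, hyV, hVW⟩ := Y'.isBasis_affineOpens.exists_subset_of_mem_open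
      (show y' ∈ W₁ ⊓ g ⁻¹ᵁ V0 from ⟨hy', hyV0⟩) (W₁ ⊓ g ⁻¹ᵁ V0).2
    let U : Y.Opens := ⟨g '' (V : Set Y'), hg _ V.2⟩
    suffices hPU : P (f ∣_ U) from hmax U hPU ⟨y', hyV, rfl⟩
    let g' : V.toScheme ⟶ U.toScheme := IsOpenImmersion.lift U.ι (V.ι ≫ g) (by
      rintro _ ⟨v, rfl⟩
      rw [Scheme.Opens.range_ι, Scheme.Hom.comp_apply]
      exact ⟨_, v.2, rfl⟩)
    have hg' : g' ≫ U.ι = V.ι ≫ g := IsOpenImmersion.lift_fac _ _ _
    have hUV : (U : Set Y) ⊆ V0 := by
      rintro _ ⟨v, hv, rfl⟩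
      exact (hVW hv).2
    haveI : Flat g' := by
      have h1 : Flat ((g' ≫ U.ι)) := by rw [hg']; infer_instance
      exact MorphismProperty.of_postcomp (W := @Flat) (W' := @IsOpenImmersion) g' U.ι inferInstance h1
    haveI : Surjective g' := ⟨fun u => by
      obtain ⟨v, hv, hvu⟩ := u.2
      refine ⟨⟨v, hv⟩, U.ι.isOpenEmbedding.injective ?_⟩
      rw [← Scheme.Hom.comp_apply, hg', Scheme.Hom.comp_apply]
      exact hvu⟩
    haveI : QuasiCompact g' := by
      haveI : IsAffine V.toScheme := hV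
      haveI : IsAffine V0.toScheme := hV0
      haveI : QuasiCompact (g' ≫ Y.homOfLE (U := U) (V := V0) hUV) := inferInstance
      exact QuasiCompact.of_comp g' (Y.homOfLE (U := U) (V := V0) hUV)
    have h1 : P (pullback.snd (f ∣_ U) g') := by
      have hp : IsPullback (pullback.fst (f ∣_ U) g' ≫ (f ⁻¹ᵁ U).ι) (pullback.snd (f ∣_ U) g') f (V.ι ≫ g) := by
        rw [← hg']
        exact (IsPullback.of_hasPullback (f ∣_ U) g').paste_horiz (isPullback_morphismRestrict f U).flip
      have hW₁' : P (pullback.snd (pullback.snd f g) V.ι) := by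
        have hV1 : V ≤ W₁ := fun x hx => (hVW hx).1
        have e : V.ι = Y'.homOfLE hV1 ≫ W₁.ι := (Y'.homOfLE_ι hV1).symm
        have hq : IsPullback (pullback.fst (pullback.snd f g ∣_ W₁) (Y'.homOfLE hV1) ≫ (pullback.snd f g ⁻¹ᵁ W₁).ι)
            (pullback.snd (pullback.snd f g ∣_ W₁) (Y'.homOfLE hV1)) (pullback.snd f g) V.ι := by
          rw [e]
          exact (IsPullback.of_hasPullback _ _).paste_horiz (isPullback_morphismRestrict (pullback.snd f g) W₁).flip
        have := MorphismProperty.pullback_snd (P := P) (pullback.snd f g ∣_ W₁) (Y'.homOfLE hV1) hW₁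
        rwa [← hq.isoPullback_hom_snd, P.cancel_left_of_respectsIso] at this
      have hq2 : IsPullback (pullback.fst (pullback.snd f g) V.ι ≫ pullback.fst f g)
          (pullback.snd (pullback.snd f g) V.ι) f (V.ι ≫ g) :=
        (IsPullback.of_hasPullback _ _).paste_horiz (IsPullback.of_hasPullback f g)
      rw [← hp.isoPullback_hom_snd, P.cancel_left_of_respectsIso]
      rwa [← hq2.isoPullback_hom_snd, P.cancel_left_of_respectsIso] at hW₁'
    exact MorphismProperty.of_pullback_snd_of_descendsAlong (P := P) (Q := @Flat ⊓ @Surjective ⊓ @QuasiCompact)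
      (g := g') ⟨⟨inferInstance, inferInstance⟩, inferInstance⟩ h1
  · refine hmax₁ _ ?_
    have hp : IsPullback ((pullback.snd f g ⁻¹ᵁ (g ⁻¹ᵁ W)).ι ≫ pullback.fst f g)
        (pullback.snd f g ∣_ (g ⁻¹ᵁ W)) f ((g ∣_ W) ≫ W.ι) := by
      rw [morphismRestrict_ι]
      exact (isPullback_morphismRestrict (pullback.snd f g) (g ⁻¹ᵁ W)).flip.paste_horiz
        (IsPullback.of_hasPullback f g)
    exact P.of_isPullback (IsPullback.of_right' hp (isPullback_morphismRestrict f W).flip) hW

end Groth.Agent.S5390
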