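import Groth.Statements.S5391
import Groth.Agent.H06EGA14.Parameters
import Groth.Agent.H8Props.Devissage.Points

set_option autoImplicit false
universe u
open CategoryTheory CategoryTheory.Limits MonoidalCategory CartesianMonoidalCategory MonObj GrpObj AlgebraicGeometry
open SGA3

namespace Groth.Agent.S5391

open Groth.Agent

/-- Let f : X → S be a morphism locally of finite presentation, s a point of S and x a point of the
fibre X_s = f⁻¹(s) which is closed in it. Suppose f is universally open at the generic point z of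
some irreducible component Z of the fibre X_s containing x, with the local dimension of X_s at x
equal to dim Z. Then there are an affine scheme S', an etale morphism w : S' → S, a finite
surjective morphism of finite presentation π : S'' → S', and a morphism h : S'' → X with h f = π w,
such that exactly one point s'' of S'' lies over s, h(s'') = x, and h induces an isomorphism κ(x) ≅
κ(s''). -/
theorem result (X S : Scheme.{u}) (f : X ⟶ S) [LocallyOfFinitePresentation f]
    (s : S) (x : X) (hxs : f.base x = s) (hx : IsClosed ((Subtype.val : ↥(f.base ⁻¹' {s}) → X) ⁻¹' {x}))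
    (Z : Set ↥(f.base ⁻¹' {s})) (hZ : Z ∈ irreducibleComponents ↥(f.base ⁻¹' {s})) (hxZ : x ∈ (Subtype.val '' Z))
    (z : X) (hz : z ∈ Subtype.val '' Z ∧ Subtype.val '' Z ⊆ closure {z}) (hopen : EGA43.IsUnivOpenAt f z)
    (hdim : FlatMor.localDim ↥(f.base ⁻¹' {s}) ⟨x, hxs⟩ = topologicalKrullDim ↥Z) :
    ∃ (S' S'' : Scheme.{u}) (_ : IsAffine S') (w : S' ⟶ S) (π : S'' ⟶ S') (h : S'' ⟶ X),
      Etale w ∧ IsFinite π ∧ Surjective π ∧ LocallyOfFinitePresentation π ∧ h ≫ f = π ≫ w ∧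
      ∃ s'' : S'', (π ≫ w).base ⁻¹' {s} = {s''} ∧ h.base s'' = x ∧ IsIso (h.residueFieldMap s'') := by
  obtain ⟨⟨a, haZ, rfl⟩, hZcl⟩ := hz
  have hzx : (a.1 : X) ⤳ x := specializes_iff_mem_closure.mpr (hZcl hxZ)
  have hfz : f a.1 = s := a.2
  have hmax : ∀ w, f w = f a.1 → w ⤳ a.1 → w = a.1 := fun w hw hwa => by
    let w' : ↥(f.base ⁻¹' {s}) := ⟨w, hw.trans hfz⟩
    have hsub : Z ⊆ closure {w'} := fun b hb => by
      refine specializes_iff_mem_closure.mp ((subtype_specializes_iff _ _).mpr ?_)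
      exact hwa.trans (specializes_iff_mem_closure.mpr (hZcl ⟨b, hb, rfl⟩))
    have hw'Z : w' ∈ Z := hZ.2 isIrreducible_singleton.closure hsub (subset_closure rfl)
    exact (hwa.antisymm (specializes_iff_mem_closure.mpr (hZcl ⟨w', hw'Z, rfl⟩))).eq
  have hset : Subtype.val '' Z = closure {(a.1 : X)} ∩ f ⁻¹' {s} := by
    refine Set.Subset.antisymm (fun b hb => ⟨hZcl hb, ?_⟩) fun b hb => ⟨⟨b, hb.2⟩, ?_, rfl⟩
    · obtain ⟨b, -, rfl⟩ := hb
      exact b.2
    · exact ((subtype_specializes_iff (a : ↥(f.base ⁻¹' {s})) ⟨b, hb.2⟩).mpr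
        (specializes_iff_mem_closure.mpr hb.1)).mem_closed (isClosed_of_mem_irreducibleComponents Z hZ) haZ
  obtain ⟨n, hn, -⟩ := H06Equidim.exists_trdeg_asFiber f a.1
  have hdZ : topologicalKrullDim ↥Z = (n : ℕ) := by
    rw [← hn, ← H06EGA14.dim_inter_eq_cdim f a.1 hfz, ← hset]
    exact IsHomeomorph.topologicalKrullDim_eq _
      (Topology.IsEmbedding.subtypeVal.homeomorphImage Z).isHomeomorph
  rw [hdZ] at hdim
  have hfx : FlatMor.fibreDimAt f x = (n : ℕ) := by
    rw [← hdim]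
    subst hxs
    show FlatMor.localDim (f.fiber (f x)) (f.asFiber x) = _
    rw [← H8Props.Devissage.localDim_homeomorph (f.fiberHomeo (f x)), Scheme.Hom.asFiber,
      Homeomorph.apply_symm_apply]
  have hdz : FlatMor.fibreDimAt f a.1 = (n : ℕ) :=
    le_antisymm ((H8Props.FieldDim.fibreDimAt_le_of_specializes f hzx).trans hfx.le)
      (hn ▸ H06Equidim.cdim_asFiber_le_fibreDimAt f a.1)
  subst hxs
  have hlt : FlatMor.localDim ↥(f.base ⁻¹' {f x}) ⟨x, rfl⟩ < ((n + 1 : ℕ) : WithBot ℕ∞) := by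
    rw [hdim]; exact_mod_cast Nat.lt_succ_self n
  obtain ⟨⟨U, hxU⟩, hU⟩ := iInf_lt_iff.mp hlt
  obtain ⟨O, hO, hOU⟩ := isOpen_induced_iff.mp U.2
  refine H06EGA14.hasEtaleQuasiSection_of_isUnivOpenAt f x a.1 n hzx hfz hmax (fun w hw hwx => ?_) hopen hdz
    ⟨O, hO, hOU.ge hxU, ?_⟩
  · have h1 : w ∈ closure {x} := specializes_iff_mem_closure.mp hwx
    have h2 : (⟨w, hw⟩ : ↥(f.base ⁻¹' {f x})) ∈ closure {(⟨x, rfl⟩ : ↥(f.base ⁻¹' {f x}))} :=
      specializes_iff_mem_closure.mp ((subtype_specializes_iff _ _).mpr hwx)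
    exact (closure_minimal (by simp) hx h2 : (⟨w, hw⟩ : ↥(f.base ⁻¹' {f x})) ∈ Subtype.val ⁻¹' {x})
  · have hr : Subtype.val '' (U : Set ↥(f.base ⁻¹' {f x})) = O ∩ f ⁻¹' {f x} := by
      rw [show (U : Set ↥(f.base ⁻¹' {f x})) = Subtype.val ⁻¹' O from hOU.symm, Set.image_preimage_eq_inter_range, Subtype.range_coe]
    have he : topologicalKrullDim ↥(Subtype.val '' (U : Set ↥(f.base ⁻¹' {f x}))) = topologicalKrullDim ↥(U : Set ↥(f.base ⁻¹' {f x})) :=
      (IsHomeomorph.topologicalKrullDim_eq _ (Topology.IsEmbedding.subtypeVal.homeomorphImage _).isHomeomorph).symm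
    rw [← hr, he]
    generalize hd : topologicalKrullDim ↥(U : Set ↥(f.base ⁻¹' {f x})) = d
    have hU' : d < ((n + 1 : ℕ) : WithBot ℕ∞) := hd ▸ hU
    induction d using WithBot.recBotCoe with
    | bot => exact bot_le
    | coe d =>
      have h3 : d < ((n + 1 : ℕ) : ℕ∞) := by exact_mod_cast hU'
      exact_mod_cast Order.le_of_lt_add_one (show d < ((n : ℕ∞) + 1) by exact_mod_cast h3)

end Groth.Agent.S5391
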