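import Groth.Statements.S5392
import Groth.Agent.H21Taylor.GrpTransporter
import Groth.Agent.H12AlgSp.LocPCancel

set_option autoImplicit false
universe u
open CategoryTheory CategoryTheory.Limits MonoidalCategory CartesianMonoidalCategory MonObj GrpObj AlgebraicGeometry
open SGA3

namespace Groth.Agent.S5392

open Groth.Agent
open scoped CategoryTheory.Obj

set_option backward.isDefEq.respectTransparency false
set_option linter.style.haveILetI false
set_option synthInstance.maxHeartbeats 400000

theorem connectedSpace_fibre {S : Scheme.{u}} (H : Over S) (hconn : ∀ s : S, _root_.IsConnected (H.hom.base ⁻¹' {s}))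
    (s : S) : ConnectedSpace ↥(pullback H.hom (S.fromSpecResidueField s)) := by
  have h : _root_.IsConnected (Set.range (H.hom.fiberι s)) := by
    rw [Scheme.Hom.range_fiberι]
    exact hconn s
  rw [← Set.image_univ] at h
  rw [connectedSpace_iff_univ]
  exact ⟨h.nonempty.of_image, (H.hom.fiberι s).isEmbedding.isInducing.isPreconnected_image.mp h.isPreconnected⟩

/-- Let X be an S-group scheme which is smooth and of finite presentation over S with connected fibres,
Y an S-group scheme of finite presentation over S and i : Y → X a homomorphism which is a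
monomorphism. Then there is a closed immersion t : T → S, locally of finite presentation, such that
a morphism g : S' → S factors through t exactly when the base change of i along g is an isomorphism. -/
theorem result (S : Scheme.{u}) (X Y : Over S) [GrpObj X] [GrpObj Y]
    [Smooth X.hom] [QuasiCompact X.hom] [QuasiSeparated X.hom]
    (hconn : ∀ s : S, _root_.IsConnected (X.hom.base ⁻¹' {s}))
    [LocallyOfFinitePresentation Y.hom] [QuasiCompact Y.hom] [QuasiSeparated Y.hom]
    (i : Y ⟶ X) [IsMonHom i] [Mono i] :
    ∃ (T : Scheme.{u}) (t : T ⟶ S), IsClosedImmersion t ∧ LocallyOfFinitePresentation t ∧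
      ∀ (S' : Scheme.{u}) (g : S' ⟶ S),
        (∃ g' : S' ⟶ T, g' ≫ t = g) ↔ IsIso ((Over.pullback g).map i) := by
  haveI : Mono i.left := (Over.forget S).map_mono i
  haveI : GeometricallyIrreducible X.hom :=
    H21Taylor.geometricallyIrreducible_of_connected_fibres X (connectedSpace_fibre X hconn)
  haveI : LocallyOfFinitePresentation i.left := by
    haveI : LocallyOfFinitePresentation (i.left ≫ X.hom) := by rw [Over.w i]; infer_instance
    exact H12AlgSp.lfp_of_comp i.left X.hom
  obtain ⟨T, t, ht, htfp, hT⟩ := H21Taylor.exists_closed_contains_mono i η[Y] (IsMonHom.one_hom i)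
    (fun T a b => ⟨a * b, MonObj.mul_comp _ _ _⟩)
  refine ⟨T, t, ht, htfp, fun S' g => (hT S' g).trans ?_⟩
  have hsq : IsPullback (pullback.fst Y.hom g) ((Over.pullback g).map i).left i.left (pullback.fst X.hom g) := by
    refine IsPullback.of_bot (v₂₁ := pullback.snd X.hom g) (v₂₂ := X.hom) (h₃₁ := g) ?_ (by simp)
      (IsPullback.of_hasPullback _ _)
    rw [Over.w i, show ((Over.pullback g).map i).left ≫ pullback.snd X.hom g = pullback.snd Y.hom g from
      Over.w ((Over.pullback g).map i)]
    exact IsPullback.of_hasPullback _ _
  rw [H19Grp.contains_iff_isIso, ← hsq.isoPullback_inv_snd]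
  constructor
  · intro h
    haveI : IsIso (hsq.isoPullback.inv ≫ ((Over.pullback g).map i).left) := h
    haveI : IsIso ((Over.pullback g).map i).left := IsIso.of_isIso_comp_left hsq.isoPullback.inv _
    haveI : IsIso ((Over.forget S').map ((Over.pullback g).map i)) :=
      inferInstanceAs (IsIso ((Over.pullback g).map i).left)
    exact isIso_of_reflects_iso _ (Over.forget S')
  · intro h
    haveI : IsIso ((Over.pullback g).map i).left :=
      inferInstanceAs (IsIso ((Over.forget S').map ((Over.pullback g).map i)))
    infer_instance

end Groth.Agent.S5392
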