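import Groth.Statements.S5393
import Groth.Agent.H19Grp.FibreLoci
import Groth.Agent.H19Grp.Neutral
import Groth.Agent.S5358
import Groth.Agent.H17.Topology

set_option autoImplicit false
universe u
open CategoryTheory CategoryTheory.Limits MonoidalCategory CartesianMonoidalCategory MonObj GrpObj AlgebraicGeometry
open SGA3

namespace Groth.Agent.S5393

open CategoryTheory.Limits TopologicalSpace
open Groth.Agent Groth.Agent.H19Grp

set_option backward.isDefEq.respectTransparency false

variable {S : Scheme.{u}} {H N : Over S} [GrpObj H] [GrpObj N] (j : H ⟶ N) [IsMonHom j]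

theorem neutralSet_field {K : Type u} [Field K] (G : Over (Spec (CommRingCat.of K))) [GrpObj G] :
    SGA3x.neutralSet G = connectedComponent (ept G) := by
  ext x
  rw [mem_neutralSet_iff, neutralAt,
    show G.hom x = IsLocalRing.closedPoint K from Subsingleton.elim (α := PrimeSpectrum K) _ _,
    show G.hom ⁻¹' {IsLocalRing.closedPoint K} = Set.univ from
      Set.eq_univ_of_forall fun y => Subsingleton.elim (α := PrimeSpectrum K) _ _,
    connectedComponentIn_univ]

theorem range_subset_neutralSet (hconn : ∀ s : S, _root_.IsConnected (H.hom.base ⁻¹' {s})) :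
    Set.range j.left ⊆ SGA3x.neutralSet N := by
  rintro _ ⟨x, rfl⟩
  have hw : ∀ z, N.hom (j.left z) = H.hom z := fun z =>
    congrArg (fun m : H.left ⟶ S => m z) (Over.w j)
  have he : j.left (η[H].left (H.hom x)) = η[N].left (H.hom x) :=
    congrArg (fun m : (𝟙_ (Over S)).left ⟶ N.left => m (H.hom x)) (congrArg Over.Hom.left (IsMonHom.one_hom j))
  refine neutralAt_subset_neutralSet N (H.hom x) (((hconn (H.hom x)).isPreconnected.image _
    j.left.continuous.continuousOn).subset_connectedComponentIn ?_ ?_ ⟨x, rfl, rfl⟩)
  · exact ⟨_, hom_one_apply H _, he⟩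
  · rintro _ ⟨z, hz, rfl⟩
    exact (hw z).trans hz

theorem neutralSet_subset_range [IsOpenImmersion j.left] : SGA3x.neutralSet N ⊆ Set.range j.left := by
  intro x hx
  let s := N.hom x
  let f := S.fromSpecResidueField s
  let F := Over.pullback f
  letI : GrpObj (F.obj H) := Functor.grpObjObj
  letI : GrpObj (F.obj N) := Functor.grpObjObj
  haveI : IsOpenImmersion (F.map j).left :=
    MorphismProperty.of_isPullback (P := @IsOpenImmersion) (isPullback_map f j) inferInstance
  haveI : IsClosedImmersion (F.map j).left := S5358.isClosedImmersion_subgroup (F.map j)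
  obtain ⟨z, hz⟩ := exists_fibre_point N (rfl : N.hom x = s)
  have he : (F.map j).left (ept (F.obj H)) = ept (F.obj N) :=
    congrArg (fun m : (𝟙_ (Over (Spec (S.residueField s)))).left ⟶ (F.obj N).left => m (IsLocalRing.closedPoint _))
      (congrArg Over.Hom.left (IsMonHom.one_hom (F.map j)))
  have hclopen : IsClopen (Set.range (F.map j).left) :=
    ⟨(F.map j).left.isClosedEmbedding.isClosed_range, (F.map j).left.isOpenEmbedding.isOpen_range⟩
  have hzmem : z ∈ Set.range (F.map j).left := by
    refine hclopen.connectedComponent_subset (x := ept (F.obj N)) ⟨_, he⟩ ?_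
    have h1 : z ∈ SGA3x.neutralSet (Red.bc f N) := by
      rw [neutralSet_baseChange N f]
      exact Set.mem_preimage.mpr (by erw [hz]; exact hx)
    rw [neutralSet_field] at h1
    exact h1
  obtain ⟨w, rfl⟩ := hzmem
  refine ⟨pullback.fst H.hom f w, ?_⟩
  rw [← hz]
  exact congrArg (fun m : _ ⟶ N.left => m w) (isPullback_map f j).w

theorem isOpenImmersion_of_fibres [Smooth H.hom] [LocallyOfFiniteType N.hom] [Mono j]
    (h : ∀ s : S, IsOpenImmersion ((Over.pullback (S.fromSpecResidueField s)).map j).left) :
    IsOpenImmersion j.left := by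
  haveI : Mono j.left := inferInstanceAs (Mono ((Over.forget S).map j))
  haveI := locallyOfFinitePresentation_left j
  haveI : Flat j.left := (Flat.iff_flat_stalkMap _).2 fun x =>
    flatPt_of_fibre j x (by haveI := h (H.hom x); infer_instance)
  exact IsOpenImmersion.of_flat_of_mono j.left

theorem isOpenImmersion_fibre [Mono j] [LocallyOfFiniteType N.hom]
    (hconn : ∀ s : S, _root_.IsConnected (H.hom.base ⁻¹' {s}))
    (hlift : ∀ (T : Over S) (g : T ⟶ N), Set.range g.left.base ⊆ SGA3x.neutralSet N → ∃ h : T ⟶ H, h ≫ j = g)
    (s : S) : IsOpenImmersion ((Over.pullback (S.fromSpecResidueField s)).map j).left := by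
  let f := S.fromSpecResidueField s
  let F := Over.pullback f
  letI : GrpObj (F.obj N) := Functor.grpObjObj
  haveI : LocallyOfFiniteType (F.obj N).hom := inferInstanceAs (LocallyOfFiniteType (pullback.snd N.hom f))
  haveI : IsLocallyNoetherian (F.obj N).left := LocallyOfFiniteType.isLocallyNoetherian (F.obj N).hom
  haveI : LocallyConnectedSpace (F.obj N).left :=
    H17.locallyConnectedSpace_of_locallyNoetherian fun x => by
      obtain ⟨W, hW, hxW, -⟩ := exists_isAffineOpen_mem_and_subset (X := (F.obj N).left) (x := x) (U := ⊤) trivial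
      haveI : IsNoetherianRing Γ((F.obj N).left, W) := IsLocallyNoetherian.component_noetherian ⟨W, hW⟩
      exact ⟨W, W.2.mem_nhds hxW, noetherianSpace_of_isAffineOpen W hW⟩
  have hpre : pullback.fst N.hom f ⁻¹' SGA3x.neutralSet N = connectedComponent (ept (F.obj N)) :=
    (neutralSet_baseChange N f).symm.trans (neutralSet_field (Red.bc f N))
  let U : (F.obj N).left.Opens := ⟨_, hpre ▸ isOpen_connectedComponent⟩
  let T : Over S := Over.mk ((U.ι ≫ pullback.fst N.hom f) ≫ N.hom)
  let g : T ⟶ N := Over.homMk (U.ι ≫ pullback.fst N.hom f) rfl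
  obtain ⟨h, hh⟩ := hlift T g (by
    rintro _ ⟨x, rfl⟩
    exact x.2)
  have hh' : h.left ≫ j.left = U.ι ≫ pullback.fst N.hom f := congrArg Over.Hom.left hh
  let l : (U : Scheme) ⟶ (F.obj H).left := pullback.lift h.left (U.ι ≫ pullback.snd N.hom f) (by
    rw [show h.left ≫ H.hom = T.hom from Over.w h, Category.assoc, ← pullback.condition]
    exact Category.assoc _ _ _)
  have hsq := isPullback_map f j
  haveI : Mono j.left := inferInstanceAs (Mono ((Over.forget S).map j))
  haveI : Mono (F.map j).left := MorphismProperty.of_isPullback (P := MorphismProperty.monomorphisms Scheme) hsq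
    (MorphismProperty.monomorphisms.infer_property j.left)
  have hl : l ≫ (F.map j).left = U.ι := by
    refine pullback.hom_ext ?_ ?_
    · rw [Category.assoc, ← hsq.w, ← Category.assoc]
      erw [pullback.lift_fst]
      exact hh'
    · rw [Category.assoc, show (F.map j).left ≫ pullback.snd N.hom f = pullback.snd H.hom f from Over.w (F.map j)]
      exact pullback.lift_snd _ _ _
  have hr : Set.range (F.map j).left ⊆ Set.range U.ι := by
    rintro _ ⟨w, rfl⟩
    rw [U.range_ι]
    have e : pullback.fst N.hom f ((F.map j).left w) = j.left (pullback.fst H.hom f w) :=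
      (congrArg (fun m : _ ⟶ N.left => m w) hsq.w).symm
    exact Set.mem_preimage.mpr (e ▸ range_subset_neutralSet j hconn (Set.mem_range_self _) :
      pullback.fst N.hom f ((F.map j).left w) ∈ SGA3x.neutralSet N)
  let k := IsOpenImmersion.lift U.ι (F.map j).left hr
  have hk : k ≫ U.ι = (F.map j).left := IsOpenImmersion.lift_fac _ _ _
  haveI : IsIso k := ⟨l, by rw [← cancel_mono (F.map j).left, Category.assoc, hl, hk, Category.id_comp],
    by rw [← cancel_mono U.ι, Category.assoc, hk, hl, Category.id_comp]⟩
  rw [← hk]
  infer_instance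


/-- Let G be an S-group scheme locally of finite presentation and quasi-separated over S, H an S-group
scheme smooth and of finite presentation over S with connected fibres, u : H → G a homomorphism
which is a monomorphism, n : N → G the normalizer of H in G (a closed subgroup scheme) and j : H → N
the homomorphism with j n = u. The following are equivalent: (i) j is an open immersion; (ii) H
represents the neutral component of N: a point g : T → N factors through j exactly when the image of
its underlying map lies in the union of the neutral components of the fibres of N; (iii) for every s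
in S, the fibre j_s : H_s → N_s is an open immersion whose image is the neutral component of N_s.
(The published statement asks H only to be smooth over S with connected fibres; this row also asks H
quasi-compact and quasi-separated over S, the hypotheses under which the normalizer is shown to be
representable.) -/
theorem result (S : Scheme.{u}) (G H N : Over S) [GrpObj G] [GrpObj H] [GrpObj N]
    [LocallyOfFinitePresentation G.hom] [QuasiSeparated G.hom] [Smooth H.hom] [QuasiCompact H.hom] [QuasiSeparated H.hom]
    (hconn : ∀ s : S, _root_.IsConnected (H.hom.base ⁻¹' {s})) (u : H ⟶ G) [IsMonHom u] [Mono u]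
    (n : N ⟶ G) [IsClosedImmersion n.left] (hN : Red.IsNormalizerOf u n) (j : H ⟶ N) [IsMonHom j] (hj : j ≫ n = u) :
    (IsOpenImmersion j.left ↔
      ∀ (T : Over S) (g : T ⟶ N), (∃ h : T ⟶ H, h ≫ j = g) ↔ Set.range g.left.base ⊆ SGA3x.neutralSet N) ∧
    (IsOpenImmersion j.left ↔
      ∀ s : S, IsOpenImmersion ((Over.pullback (S.fromSpecResidueField s)).map j).left ∧
        j.left.base '' (H.hom.base ⁻¹' {s}) = SGA3x.neutralSet N ∩ N.hom.base ⁻¹' {s}) := by
  haveI : Mono j := mono_of_mono_fac hj
  haveI : LocallyOfFiniteType N.hom := by rw [← Over.w n]; infer_instance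
  have hsub := range_subset_neutralSet j hconn
  have hfac : ∀ (T : Over S) (g : T ⟶ N) (h : T ⟶ H), h ≫ j = g → Set.range g.left.base ⊆ SGA3x.neutralSet N := by
    rintro T g h rfl
    rintro _ ⟨x, rfl⟩
    exact hsub ⟨h.left x, rfl⟩
  constructor
  · constructor
    · intro hopen T g
      refine ⟨fun ⟨h, hh⟩ => hfac T g h hh, fun hg => ?_⟩
      have hg' : Set.range g.left ⊆ Set.range j.left := hg.trans (neutralSet_subset_range j)
      exact ⟨Over.homMk (IsOpenImmersion.lift j.left g.left hg') (by
        rw [← Over.w j, ← Category.assoc, IsOpenImmersion.lift_fac, Over.w g]),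
        Over.OverMorphism.ext (IsOpenImmersion.lift_fac _ _ _)⟩
    · exact fun h2 => isOpenImmersion_of_fibres j (isOpenImmersion_fibre j hconn fun T g => (h2 T g).mpr)
  · constructor
    · intro hopen s
      refine ⟨MorphismProperty.of_isPullback (P := @IsOpenImmersion) (isPullback_map _ j) inferInstance, ?_⟩
      ext y
      constructor
      · rintro ⟨x, hx, rfl⟩
        exact ⟨hsub (Set.mem_range_self x), (congrArg (fun m : H.left ⟶ S => m x) (Over.w j)).trans hx⟩
      · rintro ⟨hy, hys⟩
        obtain ⟨x, rfl⟩ := neutralSet_subset_range j hy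
        exact ⟨x, (congrArg (fun m : H.left ⟶ S => m x) (Over.w j)).symm.trans hys, rfl⟩
    · exact fun h3 => isOpenImmersion_of_fibres j fun s => (h3 s).1

end Groth.Agent.S5393
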