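import Groth.Statements.S5394
import Groth.Agent.H13Desc.ProdCover
-- import your own Groth.Agent.* helpers here

set_option autoImplicit false
set_option backward.isDefEq.respectTransparency false
universe u
open CategoryTheory CategoryTheory.Limits MonoidalCategory CartesianMonoidalCategory MonObj GrpObj AlgebraicGeometry
open SGA3

namespace Groth.Agent.S5394

/-- Let G be an S-group scheme which is flat and locally of finite presentation over S and f : X → G a
morphism of S-schemes with X locally of finite presentation over S. Suppose that for every point s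
of S and every maximal point g of the fibre G_s (generic point of an irreducible component) there is
a point x of X with f(x) = g at which f is flat. Let V be the open subscheme of X where f is flat.
Then the morphism V ×_S V → G, (x, y) ↦ f(x)·f(y), is flat, locally of finite presentation and
surjective; in particular X ×_S X → G, (x, y) ↦ f(x)·f(y), is covering for the fppf topology. (The
published statement does not assume G flat over S and asserts only the covering property; this row
assumes G flat over S, as the flatness step of the printed proof does, and concludes the flat,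
locally finitely presented, surjective form that proof establishes. Without flatness of G the
flatness conclusion fails, e.g. for the identity of the closed subgroup tx = 0 of the additive group
over k[t].) -/
theorem result (S : Scheme.{u}) (G X : Over S) [GrpObj G] [LocallyOfFinitePresentation G.hom] [Flat G.hom]
    [LocallyOfFinitePresentation X.hom] (f : X ⟶ G)
    (hf : ∀ (s : S) (g : ↥(G.hom.base ⁻¹' {s})), closure {g} ∈ irreducibleComponents ↥(G.hom.base ⁻¹' {s}) →
      ∃ x : X.left, f.left.base x = g.1 ∧ (f.left.stalkMap x).hom.Flat)
    (V : X.left.Opens) (hV : (V : Set X.left) = {x : X.left | (f.left.stalkMap x).hom.Flat}) :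
    letI fV : Over.mk (V.ι ≫ X.hom) ⟶ G := Over.homMk (V.ι ≫ f.left) ((Category.assoc _ _ _).trans (congrArg (V.ι ≫ ·) (Over.w f)))
    Flat ((fV ⊗ₘ fV) ≫ μ[G]).left ∧ LocallyOfFinitePresentation ((fV ⊗ₘ fV) ≫ μ[G]).left ∧
      Surjective ((fV ⊗ₘ fV) ≫ μ[G]).left := by
  set fV : Over.mk (V.ι ≫ X.hom) ⟶ G := Over.homMk (V.ι ≫ f.left)
    ((Category.assoc _ _ _).trans (congrArg (V.ι ≫ ·) (Over.w f))) with hfV
  have hflat : Flat fV.left := by
    refine Flat.of_stalkMap _ fun x => ?_
    change ((V.ι ≫ f.left).stalkMap x).hom.Flat
    rw [Scheme.Hom.stalkMap_comp, CommRingCat.hom_comp]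
    refine RingHom.Flat.comp ?_ (RingHom.Flat.of_bijective
      (ConcreteCategory.bijective_of_isIso (V.ι.stalkMap x)))
    have hx : V.ι x ∈ (V : Set X.left) := x.2
    rw [hV] at hx
    exact hx
  have : LocallyOfFinitePresentation (fV.left ≫ G.hom) := by
    rw [Over.w fV]
    exact MorphismProperty.comp_mem @LocallyOfFinitePresentation V.ι X.hom inferInstance inferInstance
  have hlfp : LocallyOfFinitePresentation fV.left :=
    Groth.Agent.H7Lim.locallyOfFinitePresentation_of_comp fV.left G.hom
  have hopen : IsOpen (Set.range fV.left) := fV.left.isOpenMap.isOpen_range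
  have hg : ∀ (s : S) (mη : ↥(G.hom.base ⁻¹' {s})),
      closure {mη} ∈ irreducibleComponents ↥(G.hom.base ⁻¹' {s}) → mη.1 ∈ Set.range fV.left := by
    intro s mη h
    obtain ⟨x, hx, hxf⟩ := hf s mη h
    refine ⟨⟨x, ?_⟩, hx⟩
    change x ∈ (V : Set X.left)
    rw [hV]
    exact hxf
  have h₁ : Flat (fV ⊗ₘ fV).left := by
    rw [Over.tensorHom_left]
    exact MorphismProperty.pullbackMap (P := @Flat) hflat hflat (Over.w fV).symm (Over.w fV).symm
  have h₂ : LocallyOfFinitePresentation (fV ⊗ₘ fV).left := by
    rw [Over.tensorHom_left]
    exact MorphismProperty.pullbackMap (P := @LocallyOfFinitePresentation) hlfp hlfp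
      (Over.w fV).symm (Over.w fV).symm
  have h₃ : Flat (μ[G]).left := H13Desc.ProdCover.mul_prop @Flat G inferInstance
  have h₄ : LocallyOfFinitePresentation (μ[G]).left :=
    H13Desc.ProdCover.mul_prop @LocallyOfFinitePresentation G inferInstance
  exact ⟨inferInstanceAs (Flat ((fV ⊗ₘ fV).left ≫ (μ[G]).left)),
    inferInstanceAs (LocallyOfFinitePresentation ((fV ⊗ₘ fV).left ≫ (μ[G]).left)),
    H13Desc.ProdCover.surjective_mul _ fV hopen hg⟩

end Groth.Agent.S5394
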