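import Groth.Statements.S5395
import Mathlib

set_option autoImplicit false
set_option linter.style.haveILetI false
set_option backward.isDefEq.respectTransparency false
universe u
open CategoryTheory CategoryTheory.Limits MonoidalCategory CartesianMonoidalCategory MonObj GrpObj AlgebraicGeometry
open SGA3

namespace Groth.Agent.S5395

open Topology in
theorem exists_locallyClosed_subset_of_constructible {X : Type*} [TopologicalSpace X] {s : Set X}
    (hs : IsConstructible s) : (∀ x ∈ s, ∃ Z, IsLocallyClosed Z ∧ x ∈ Z ∧ Z ⊆ s) ∧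
      (∀ x ∈ sᶜ, ∃ Z, IsLocallyClosed Z ∧ x ∈ Z ∧ Z ⊆ sᶜ) := by
  induction hs using IsConstructible.empty_union_induction with
  | open_retrocompact U hU _ =>
    exact ⟨fun x hx => ⟨U, hU.isLocallyClosed, hx, subset_rfl⟩,
      fun x hx => ⟨Uᶜ, hU.isClosed_compl.isLocallyClosed, hx, subset_rfl⟩⟩
  | union s hs t ht ihs iht =>
    refine ⟨fun x hx => ?_, fun x hx => ?_⟩
    · rcases hx with hx | hx
      · obtain ⟨Z, h1, h2, h3⟩ := ihs.1 x hx
        exact ⟨Z, h1, h2, h3.trans Set.subset_union_left⟩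
      · obtain ⟨Z, h1, h2, h3⟩ := iht.1 x hx
        exact ⟨Z, h1, h2, h3.trans Set.subset_union_right⟩
    · rw [Set.compl_union] at hx ⊢
      obtain ⟨Z, h1, h2, h3⟩ := ihs.2 x hx.1
      obtain ⟨Z', h1', h2', h3'⟩ := iht.2 x hx.2
      exact ⟨Z ∩ Z', h1.inter h1', ⟨h2, h2'⟩, Set.inter_subset_inter h3 h3'⟩
  | compl s hs ih => exact ⟨ih.2, by rw [compl_compl]; exact ih.1⟩

theorem exists_locallyClosed_subset_of_indConstructible {X : Type*} [TopologicalSpace X] {E : Set X}
    (hE : ProCons.IsIndConstructible E) {x : X} (hx : x ∈ E) :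
    ∃ Z, IsLocallyClosed Z ∧ x ∈ Z ∧ Z ⊆ E := by
  obtain ⟨U, hU, hxU, S, hS, hSE⟩ := hE x
  have : (⟨x, hxU⟩ : U) ∈ ⋃₀ S := hSE ▸ hx
  obtain ⟨T, hT, hxT⟩ := this
  obtain ⟨V, hVn, hV, hc⟩ := hS T hT ⟨x, hxU⟩
  obtain ⟨Z, h1, h2, h3⟩ := (exists_locallyClosed_subset_of_constructible hc).1
    ⟨⟨x, hxU⟩, mem_of_mem_nhds hVn⟩ hxT
  refine ⟨Subtype.val '' (Subtype.val '' Z), ?_, ⟨_, ⟨_, h2, rfl⟩, rfl⟩, ?_⟩
  · exact (h1.image Topology.IsInducing.subtypeVal
      (by rw [Subtype.range_coe]; exact hV.isLocallyClosed)).image Topology.IsInducing.subtypeVal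
      (by rw [Subtype.range_coe]; exact hU.isLocallyClosed)
  · rintro _ ⟨_, ⟨z, hz, rfl⟩, rfl⟩
    have : z.1 ∈ ⋃₀ S := ⟨T, hT, h3 hz⟩
    rw [← hSE] at this
    exact this


/-- Let k be an algebraically closed field, G a group scheme locally of finite type over k, and A, B two
ind-constructible subsets of G. Let A·B be the image under the multiplication of the set of points
of G ×_k G whose two projections lie in A and B. Then every closed point z of G lying in A·B is the
product of a closed point of G ×_k G whose two projections lie in A and B (and are then closed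
points): the rational points of A·B are the products of rational points of A and of B. -/
theorem result (k : Type u) [Field k] [IsAlgClosed k] (G : Over (Spec (CommRingCat.of k))) [GrpObj G]
    [LocallyOfFiniteType G.hom] (A B : Set G.left) (hA : ProCons.IsIndConstructible A) (hB : ProCons.IsIndConstructible B)
    (z : G.left) (hz : IsClosed ({z} : Set G.left))
    (hzAB : z ∈ μ[G].left.base '' {w : ↥(G ⊗ G).left | (fst G G).left.base w ∈ A ∧ (snd G G).left.base w ∈ B}) :
    ∃ w : ↥(G ⊗ G).left, IsClosed ({w} : Set ↥(G ⊗ G).left) ∧ (fst G G).left.base w ∈ A ∧ (snd G G).left.base w ∈ B ∧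
      μ[G].left.base w = z := by
  obtain ⟨w₀, ⟨hwA, hwB⟩, hw₀⟩ := hzAB
  obtain ⟨ZA, hA1, hA2, hA3⟩ := exists_locallyClosed_subset_of_indConstructible hA hwA
  obtain ⟨ZB, hB1, hB2, hB3⟩ := exists_locallyClosed_subset_of_indConstructible hB hwB
  haveI : LocallyOfFiniteType (G ⊗ G).hom :=
    inferInstanceAs (LocallyOfFiniteType (Limits.pullback.fst G.hom G.hom ≫ G.hom))
  haveI : JacobsonSpace ↥(G ⊗ G).left := LocallyOfFiniteType.jacobsonSpace (G ⊗ G).hom
  have hlc : IsLocallyClosed ((fst G G).left ⁻¹' ZA ∩ (snd G G).left ⁻¹' ZB ∩ μ[G].left ⁻¹' {z}) :=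
    ((hA1.preimage (fst G G).left.continuous).inter (hB1.preimage (snd G G).left.continuous)).inter
      (hz.isLocallyClosed.preimage μ[G].left.continuous)
  obtain ⟨w, ⟨⟨h1, h2⟩, h3⟩, hwc⟩ := nonempty_inter_closedPoints (Z := (fst G G).left ⁻¹' ZA ∩ (snd G G).left ⁻¹' ZB ∩ μ[G].left ⁻¹' {z}) ⟨w₀, ⟨hA2, hB2⟩, hw₀⟩ hlc
  exact ⟨w, hwc, hA3 h1, hB3 h2, h3⟩

end Groth.Agent.S5395
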