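import Groth.Statements.S5396
import Groth.Agent.H1CAlg.ProjDescent
import Groth.Agent.H20Comod.Basic

set_option autoImplicit false
set_option linter.style.haveILetI false
set_option backward.isDefEq.respectTransparency false
universe u
open CategoryTheory CategoryTheory.Limits MonoidalCategory CartesianMonoidalCategory MonObj GrpObj AlgebraicGeometry
open SGA3

namespace Groth.Agent.S5396

section
open TensorProduct Groth.Agent.H20Comod

variable {A : Type*} [CommRing A] {V : Type*} [AddCommGroup V] [Module A V]
  {C : Type*} [AddCommGroup C] [Module A C] [Module.Projective A C]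

/-- A tensor with a projective module as a finite sum along a dual basis. -/
theorem exists_expansion (x : V ⊗[A] C) : ∃ (s : Finset C) (φ : C → (C →ₗ[A] A)),
    x = ∑ i ∈ s, sliceR (φ i) x ⊗ₜ[A] i := by
  classical
  obtain ⟨i, hi⟩ := (Module.projective_def'.1 ‹Module.Projective A C›)
  let p := Finsupp.linearCombination A (id : C → C)
  let E := TensorProduct.finsuppScalarRight A A V C
  let y := E (i.lTensor V x)
  refine ⟨y.support, fun c => Finsupp.lapply c ∘ₗ i, ?_⟩
  have hslice : ∀ (c : C) (z : V ⊗[A] C), E (i.lTensor V z) c = sliceR (Finsupp.lapply c ∘ₗ i) z := by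
    intro c z
    induction z using TensorProduct.induction_on with
    | zero => simp
    | tmul v d => simp [E]
    | add a b ha hb => simp [map_add, ha, hb]
  have hback : ∀ w : C →₀ V, p.lTensor V (E.symm w) = w.sum fun c v => v ⊗ₜ[A] c := by
    intro w
    induction w using Finsupp.induction_linear with
    | zero => simp
    | add a b ha hb =>
      rw [map_add, map_add, ha, hb, Finsupp.sum_add_index'] <;> simp [TensorProduct.add_tmul]
    | single c v => simp [E, p]
  calc x = p.lTensor V (i.lTensor V x) := by
        rw [← LinearMap.comp_apply, ← LinearMap.lTensor_comp, hi, LinearMap.lTensor_id, LinearMap.id_apply]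
    _ = p.lTensor V (E.symm y) := by rw [LinearEquiv.symm_apply_apply]
    _ = _ := by
      rw [hback, Finsupp.sum]
      exact Finset.sum_congr rfl fun c _ => congrArg (· ⊗ₜ[A] c) (hslice c x)

theorem mem_range_of_slices (W : Submodule A V) (x : V ⊗[A] C) (h : ∀ f : C →ₗ[A] A, sliceR f x ∈ W) :
    x ∈ LinearMap.range (W.subtype.rTensor C) := by
  obtain ⟨s, φ, hx⟩ := exists_expansion x
  rw [hx]
  exact Submodule.sum_mem _ fun i _ => ⟨(⟨_, h (φ i)⟩ : W) ⊗ₜ[A] i, by simp⟩

theorem fg_slices (x : V ⊗[A] C) : (Submodule.span A (Set.range fun f : C →ₗ[A] A => sliceR f x)).FG := by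
  classical
  obtain ⟨s, φ, hx⟩ := exists_expansion x
  refine ⟨s.image fun i => sliceR (φ i) x, le_antisymm (Submodule.span_le.2 ?_) (Submodule.span_le.2 ?_)⟩
  · intro v hv
    rw [Finset.coe_image] at hv
    obtain ⟨i, -, rfl⟩ := hv
    exact Submodule.subset_span ⟨φ i, rfl⟩
  · rintro _ ⟨f, rfl⟩
    show sliceR f x ∈ _
    rw [show sliceR f x = ∑ i ∈ s, f i • sliceR (φ i) x by
      conv_lhs => rw [hx]
      simp [map_sum]]
    exact Submodule.sum_mem _ fun i hi => Submodule.smul_mem _ _
      (Submodule.subset_span (Finset.mem_coe.2 (Finset.mem_image_of_mem _ hi)))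

end


/-- Let A be a commutative ring, C an A-coalgebra, V a C-comodule, M an A-submodule of V, and A' a
faithfully flat commutative A-algebra such that A' ⊗_A C is a projective A'-module. Then there is a
smallest subcomodule of V containing M, and it is finitely generated over A when M is. (The
published statement also asserts that the formation of this subcomodule commutes with base change;
this row omits it.) -/
theorem result (A : Type u) [CommRing A] (C : Type u) [AddCommGroup C] [Module A C]
    [Coalgebra A C] (V : Type u) [AddCommGroup V] [Module A V] [HopfRep.Comod A C V] (M : Submodule A V)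
    (A' : Type u) [CommRing A'] [Algebra A A'] [Module.FaithfullyFlat A A'] [Module.Projective A' (TensorProduct A A' C)] :
    ∃ W : Submodule A V, HopfRep.IsSubcomod (k := A) (A := C) W ∧ M ≤ W ∧
      (∀ W' : Submodule A V, HopfRep.IsSubcomod (k := A) (A := C) W' → M ≤ W' → W ≤ W') ∧
      (M.FG → W.FG) := by
  haveI : Module.Projective A C := Groth.Agent.H1CAlg.projective_of_baseChange A A' C
  let S : V → Submodule A V := fun m => Submodule.span A
    (Set.range fun f : C →ₗ[A] A => Groth.Agent.H20Comod.sliceR f (HopfRep.Comod.coact (k := A) (A := C) m))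
  let W : Submodule A V := ⨆ m : M, S m
  have hself : ∀ m : V, m ∈ S m := fun m => by
    have : Groth.Agent.H20Comod.actL (CoalgebraStruct.counit (R := A) (A := C)) m ∈ S m :=
      Submodule.subset_span ⟨_, rfl⟩
    rwa [Groth.Agent.H20Comod.actL_counit] at this
  refine ⟨W, fun w hw => mem_range_of_slices W _ fun g => ?_, fun m hm => ?_, fun W' hW' hMW' => ?_, ?_⟩
  · have hst : ∀ m, S m ≤ (S m).comap (Groth.Agent.H20Comod.actL g) := fun m => by
      refine Submodule.span_le.2 ?_
      rintro _ ⟨f, rfl⟩
      show Groth.Agent.H20Comod.actL g (Groth.Agent.H20Comod.actL f m) ∈ S m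
      rw [← Groth.Agent.H20Comod.actL_conv]
      exact Submodule.subset_span ⟨_, rfl⟩
    have : W ≤ W.comap (Groth.Agent.H20Comod.actL g) :=
      iSup_le fun m => (hst m).trans (Submodule.comap_mono (le_iSup (fun m : M => S m) m))
    exact this hw
  · exact le_iSup (fun m : M => S m) ⟨m, hm⟩ (hself m)
  · refine iSup_le fun m => Submodule.span_le.2 ?_
    rintro _ ⟨f, rfl⟩
    exact Groth.Agent.H20Comod.actL_mem_of_isSubcomod hW' f (hMW' m.2)
  · intro hfg
    obtain ⟨s, hs⟩ := hfg
    have hWs : W = s.sup S := by
      refine le_antisymm (iSup_le fun m => ?_) (Finset.sup_le fun m hm => ?_)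
      · refine Submodule.span_le.2 ?_
        rintro _ ⟨f, rfl⟩
        obtain ⟨m, hm0⟩ := m
        have hm : m ∈ Submodule.span A (s : Set V) := by rw [hs]; exact hm0
        show Groth.Agent.H20Comod.sliceR f (HopfRep.Comod.coact (k := A) (A := C) m) ∈ _
        clear hm0
        induction hm using Submodule.span_induction with
        | mem x hx => exact Finset.le_sup (f := S) hx (Submodule.subset_span ⟨f, rfl⟩)
        | zero => simp
        | add x y _ _ hx hy => simp only [map_add]; exact add_mem hx hy
        | smul c x _ hx => simp only [map_smul]; exact Submodule.smul_mem _ c hx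
      · exact le_iSup (fun m : M => S m) ⟨m, hs ▸ Submodule.subset_span hm⟩
    rw [hWs]
    exact Submodule.fg_finset_sup s S fun m _ => fg_slices _

end Groth.Agent.S5396
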