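import Groth.Statements.S5397
import Groth.Agent.H19Grp.OrbitFibre

set_option autoImplicit false
set_option linter.style.haveILetI false
set_option backward.isDefEq.respectTransparency false
universe u
open CategoryTheory CategoryTheory.Limits MonoidalCategory CartesianMonoidalCategory MonObj GrpObj AlgebraicGeometry
open SGA3

namespace Groth.Agent.S5397

/-- Let G be an S-group scheme locally of finite presentation over S and universally open over S on some
open containing the unit section, acting on an S-scheme X so that G ×_S X → X ×_S X, (g, x) ↦ (gx,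
x), is surjective, and suppose every fibre X_s is a quasi-separated and connected space. Then X is
separated over S; and if there is an open subscheme V of X, quasi-compact over S, meeting every
nonempty fibre X_s, then X is quasi-compact over S. (The published statement concludes that X is
quasi-compact over S without the open V; for a local scheme S whose punctured spectrum is not
quasi-compact, the trivial group acting on the disjoint union of the closed point and the punctured
spectrum satisfies every hypothesis and is not quasi-compact over S, so the open V is required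
here.) -/
theorem result (S : Scheme.{u}) (G X : Over S) [GrpObj G]
    [LocallyOfFinitePresentation G.hom]
    (hGo : ∃ W : G.left.Opens, (∀ p : ↥(𝟙_ (Over S)).left, η[G].left.base p ∈ W) ∧ UniversallyOpen (W.ι ≫ G.hom))
    (a : AlgGrp.Action G X) (hΦ : Surjective (lift a.act (snd G X)).left)
    (hqs : ∀ s : S, QuasiSeparatedSpace ↥(X.hom.base ⁻¹' {s}))
    (hconn : ∀ s : S, _root_.IsPreconnected (X.hom.base ⁻¹' {s})) :
    IsSeparated X.hom ∧
    ((∃ V : X.left.Opens, QuasiCompact (V.ι ≫ X.hom) ∧
        ∀ s : S, (X.hom.base ⁻¹' {s}).Nonempty → ((V : Set X.left) ∩ X.hom.base ⁻¹' {s}).Nonempty) →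
      QuasiCompact X.hom) := by
  obtain ⟨W, hWe, hWo⟩ := hGo
  haveI := hWo
  haveI : Surjective (CartesianMonoidalCategory.lift a.act (snd G X)).left := hΦ
  haveI : LocallyOfFiniteType G.hom := inferInstance
  have hWe' : ∀ s : S, η[G].left s ∈ W := fun s => hWe s
  have orbit : ∀ (Ω : Type u) [Field Ω] [IsAlgClosed Ω] (y : Spec (CommRingCat.of Ω) ⟶ S),
      ∃ ξ : ↥(G ⊗ Over.mk y).left, (fst G (Over.mk y)).left ξ ⤳ η[G].left (y (IsLocalRing.closedPoint Ω)) ∧
        ∀ (v : Over.mk y ⟶ X) (U : X.left.Opens),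
          ((U : Set X.left) ∩ X.hom ⁻¹' {y (IsLocalRing.closedPoint Ω)}).Nonempty →
          ((G ◁ v) ≫ a.act).left ξ ∈ U := by
    intro Ω _ _ y
    let P : Over S := Over.mk y
    let t : P.left := IsLocalRing.closedPoint Ω
    let e : ↥(G ⊗ P).left := (CartesianMonoidalCategory.lift (1 : P ⟶ G) (𝟙 P)).left t
    obtain ⟨ξ, hξe, hξ⟩ := H19Grp.exists_isMaxPt e
    refine ⟨ξ, ?_, fun v U hU => H19Grp.orbit_point_mem a y _
      (fun t' => by rw [Subsingleton.elim (α := PrimeSpectrum Ω) t' t]) (hqs _) (hconn _) v hξ U hU⟩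
    have h := hξe.map (fst G P).left.continuous
    rwa [show (fst G P).left e = η[G].left (y t) by
      rw [← Scheme.Hom.comp_apply, ← Over.comp_left, lift_fst, Hom.one_def, Over.comp_left,
        Scheme.Hom.comp_apply]
      rfl] at h
  refine ⟨H19Grp.isSeparated_of_translations a W fun z => ?_, fun ⟨V, hVqc, hV⟩ => ?_⟩
  · let Ω := AlgebraicClosure ((X ⊗ X).left.residueField z)
    let f : Spec (CommRingCat.of Ω) ⟶ (X ⊗ X).left :=
      Spec.map (CommRingCat.ofHom (algebraMap ((X ⊗ X).left.residueField z) Ω)) ≫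
        (X ⊗ X).left.fromSpecResidueField z
    let y₀ : Spec (CommRingCat.of Ω) ⟶ S := f ≫ (X ⊗ X).hom
    let P : Over S := Over.mk y₀
    let t : P.left := IsLocalRing.closedPoint Ω
    let p : P ⟶ X ⊗ X := Over.homMk f rfl
    have hp : ∀ t' : P.left, p.left t' = z := fun t' =>
      (Scheme.Hom.comp_apply _ _ _).trans ((X ⊗ X).left.fromSpecResidueField_apply z _)
    obtain ⟨ξ, hξe, hξ⟩ := orbit Ω y₀
    obtain ⟨U, hU, hxU, -⟩ := exists_isAffineOpen_mem_and_subset (X := X.left)
      (x := (p ≫ fst X X).left t) (U := ⊤) trivial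
    haveI : IsAffine U.toScheme := hU
    have hUsep : IsSeparated (U.ι ≫ X.hom) := by
      haveI : IsSeparated ((U.ι ≫ X.hom) ≫ terminal.from S) := by
        rw [Subsingleton.elim ((U.ι ≫ X.hom) ≫ terminal.from S) (terminal.from U.toScheme)]
        infer_instance
      exact IsSeparated.of_comp (U.ι ≫ X.hom) (terminal.from S)
    have hUs : ((U : Set X.left) ∩ X.hom ⁻¹' {y₀ t}).Nonempty :=
      ⟨_, hxU, by
        show X.hom ((p ≫ fst X X).left t) = y₀ t
        rw [← Scheme.Hom.comp_apply, Over.w (p ≫ fst X X)]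
        rfl⟩
    refine ⟨U, (G ◁ p).left ξ, hUsep, ?_, ?_, ?_, ?_⟩
    · rw [← Scheme.Hom.comp_apply, ← Over.comp_left, whiskerLeft_snd, Over.comp_left, Scheme.Hom.comp_apply]
      exact hp _
    · rw [← Scheme.Hom.comp_apply, ← Over.comp_left, whiskerLeft_fst]
      exact hξe.mem_open W.2 (hWe' _)
    · rw [← Scheme.Hom.comp_apply, ← Over.comp_left, ← MonoidalCategory.whiskerLeft_comp_assoc]
      exact hξ _ U hUs
    · rw [← Scheme.Hom.comp_apply, ← Over.comp_left, ← MonoidalCategory.whiskerLeft_comp_assoc]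
      exact hξ _ U hUs
  · rw [quasiCompact_iff_forall_isAffineOpen]
    intro S₀ hS₀
    haveI : IsAffine S₀.toScheme := hS₀
    -- a compact open neighbourhood of the unit section over `S₀`
    have hC : IsCompact (η[G].left '' (S₀ : Set S)) :=
      hS₀.isCompact.image η[G].left.continuous
    have hηhom : ∀ s, G.hom (η[G].left s) = s := fun s => by
      rw [← Scheme.Hom.comp_apply, Over.w η[G]]
      rfl
    obtain ⟨K, hKc, hKs, hKC⟩ : ∃ K : G.left.Opens, IsCompact (K : Set G.left) ∧
        K ≤ G.hom ⁻¹ᵁ S₀ ∧ η[G].left '' (S₀ : Set S) ⊆ K := by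
      choose A hA hxA hAs using fun x : η[G].left '' (S₀ : Set S) =>
        exists_isAffineOpen_mem_and_subset (X := G.left) (x := x.1) (U := G.hom ⁻¹ᵁ S₀) (by
          obtain ⟨_, s, hs, rfl⟩ := x
          show G.hom (η[G].left s) ∈ S₀
          rw [hηhom]; exact hs)
      obtain ⟨F, hF⟩ := hC.elim_finite_subcover (fun x => (A x : Set G.left)) (fun x => (A x).2)
        (fun x hx => Set.mem_iUnion.2 ⟨⟨x, hx⟩, hxA _⟩)
      refine ⟨⨆ x ∈ F, A x, ?_, iSup₂_le fun x _ => hAs x, ?_⟩
      · simp only [TopologicalSpace.Opens.coe_iSup]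
        exact F.finite_toSet.isCompact_biUnion fun x _ => (hA x).isCompact
      · simpa only [TopologicalSpace.Opens.coe_iSup] using hF
    -- the compact part of `V` over `S₀`
    let V₀ : X.left.Opens := V ⊓ X.hom ⁻¹ᵁ S₀
    have hV₀c : IsCompact (V₀ : Set X.left) := by
      have h := (V.ι ≫ X.hom).isCompact_preimage hS₀.isCompact
      have h2 := h.image V.ι.continuous
      convert h2 using 1
      ext x
      constructor
      · rintro ⟨h1, h2⟩
        obtain ⟨x', rfl⟩ := V.range_ι.ge h1
        exact ⟨x', h2, rfl⟩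
      · rintro ⟨x', h, rfl⟩
        exact ⟨V.range_ι.le ⟨x', rfl⟩, h⟩
    haveI : CompactSpace K.toScheme := isCompact_iff_compactSpace.1 hKc
    haveI : CompactSpace V₀.toScheme := isCompact_iff_compactSpace.1 hV₀c
    let k : K.toScheme ⟶ S₀.toScheme := IsOpenImmersion.lift S₀.ι (K.ι ≫ G.hom) (by
      rw [S₀.range_ι]
      rintro _ ⟨x, rfl⟩
      exact hKs (K.range_ι.le ⟨x, rfl⟩))
    let v₀ : V₀.toScheme ⟶ S₀.toScheme := IsOpenImmersion.lift S₀.ι (V₀.ι ≫ X.hom) (by
      rw [S₀.range_ι]
      rintro _ ⟨x, rfl⟩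
      exact (V₀.range_ι.le ⟨x, rfl⟩).2)
    let q : pullback k v₀ ⟶ (G ⊗ X).left :=
      pullback.map k v₀ G.hom X.hom K.ι V₀.ι S₀.ι (IsOpenImmersion.lift_fac _ _ _)
        (IsOpenImmersion.lift_fac _ _ _)
    haveI : CompactSpace ↥(pullback k v₀) := QuasiCompact.compactSpace_of_compactSpace (pullback.fst k v₀)
    have hrange : Set.range q = (fst G X).left ⁻¹' (K : Set G.left) ∩ (snd G X).left ⁻¹' (V₀ : Set X.left) := by
      dsimp only [q]
      erw [Scheme.Pullback.range_map]
      rw [K.range_ι, V₀.range_ι]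
      rfl
    suffices h : X.hom ⁻¹' (S₀ : Set S) = a.act.left '' Set.range q by
      show IsCompact (X.hom ⁻¹' (S₀ : Set S))
      rw [h]
      exact (isCompact_range q.continuous).image a.act.left.continuous
    apply Set.Subset.antisymm
    · intro w hw
      let Ω := AlgebraicClosure (X.left.residueField w)
      let f : Spec (CommRingCat.of Ω) ⟶ X.left :=
        Spec.map (CommRingCat.ofHom (algebraMap (X.left.residueField w) Ω)) ≫ X.left.fromSpecResidueField w
      let y₀ : Spec (CommRingCat.of Ω) ⟶ S := f ≫ X.hom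
      let P : Over S := Over.mk y₀
      let v : P ⟶ X := Over.homMk f rfl
      have hv : ∀ t' : P.left, v.left t' = w := fun t' =>
        (Scheme.Hom.comp_apply _ _ _).trans (X.left.fromSpecResidueField_apply w _)
      obtain ⟨ξ, hξe, hξ⟩ := orbit Ω y₀
      have hy : y₀ (IsLocalRing.closedPoint Ω) = X.hom w := by
        rw [Scheme.Hom.comp_apply]; exact congrArg X.hom (hv _)
      rw [hy] at hξe
      have hz : ((G ◁ v) ≫ a.act).left ξ ∈ V₀ := by
        refine hξ v V₀ ?_
        rw [hy]
        obtain ⟨x, hx1, hx2⟩ := hV (X.hom w) ⟨w, rfl⟩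
        exact ⟨x, ⟨hx1, show X.hom x ∈ S₀ from hx2.symm ▸ hw⟩, hx2⟩
      refine ⟨(H19Grp.exch a).left ((G ◁ v).left ξ), hrange.ge ⟨?_, ?_⟩, ?_⟩
      · show (fst G X).left _ ∈ K
        rw [← Scheme.Hom.comp_apply, ← Over.comp_left, H19Grp.exch, lift_fst, Over.comp_left,
          Scheme.Hom.comp_apply, show (fst G X).left ((G ◁ v).left ξ) = (fst G P).left ξ from
            congrArg (fun m : G ⊗ P ⟶ G => m.left ξ) (whiskerLeft_fst G v)]
        refine (hξe.map ι[G].left.continuous).mem_open K.2 ?_
        rw [H19Grp.inv_one_apply]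
        exact hKC ⟨_, hw, rfl⟩
      · show (snd G X).left _ ∈ V₀
        rw [← Scheme.Hom.comp_apply, ← Over.comp_left, H19Grp.exch_snd]
        exact hz
      · rw [← Scheme.Hom.comp_apply, ← Over.comp_left, H19Grp.exch_act, ← Scheme.Hom.comp_apply,
          ← Over.comp_left, whiskerLeft_snd, Over.comp_left, Scheme.Hom.comp_apply]
        exact hv _
    · rintro _ ⟨z, hz, rfl⟩
      have hz2 : X.hom ((snd G X).left z) ∈ S₀ := (hrange.le hz).2.2
      show X.hom (a.act.left z) ∈ S₀
      rw [← Scheme.Hom.comp_apply, Over.w a.act]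
      rwa [← Scheme.Hom.comp_apply, Over.w (snd G X)] at hz2

end Groth.Agent.S5397
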