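import Groth.Statements.S5399
import Groth.Agent.H02CA.GeomIrred
import Groth.Agent.H8Props.Generic
import Groth.Agent.H17.AssPush
import Groth.Agent.H15Site.EffDesc.Discrete

set_option autoImplicit false
universe u
open CategoryTheory CategoryTheory.Limits MonoidalCategory CartesianMonoidalCategory MonObj GrpObj AlgebraicGeometry
open SGA3

namespace Groth.Agent.S5399

section
open TensorProduct

/-- The fraction field of a polynomial ring stays a domain after any field extension. -/
theorem irreducibleSpace_adjoin_tensor {k : Type u} [Field k] {K : Type u} [Field K] [Algebra k K]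
    {σ : Type u} (t : σ → K) (ht : AlgebraicIndependent k t) (F : Type u) [Field F] [Algebra k F] :
    IrreducibleSpace (PrimeSpectrum (IntermediateField.adjoin k (Set.range t) ⊗[k] F)) := by
  let L := IntermediateField.adjoin k (Set.range t)
  let ψ : MvPolynomial σ k →ₐ[k] L :=
    MvPolynomial.aeval fun i => (⟨t i, IntermediateField.subset_adjoin _ _ ⟨i, rfl⟩⟩ : L)
  have hψ : ∀ r, ((ψ r : L) : K) = MvPolynomial.aeval t r := fun r => by
    have : L.val.comp ψ = MvPolynomial.aeval t := MvPolynomial.algHom_ext fun i => by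
      simp [ψ]
    exact DFunLike.congr_fun this r
  have hinj : Function.Injective ψ := fun a b hab => ht (by rw [← hψ a, ← hψ b, hab])
  let φ := Algebra.TensorProduct.map ψ (AlgHom.id k F)
  have hφ : Function.Injective φ :=
    Module.Flat.rTensor_preserves_injective_linearMap (M := F) ψ.toLinearMap hinj
  refine H02CA.GeomIrred.irreducibleSpace_of_injective_of_units φ.toRingHom hφ (fun b => ?_)
    (H02CA.GeomIrred.irreducibleSpace_of_ringEquiv
      ((Algebra.TensorProduct.comm k (MvPolynomial σ k) F).toRingEquiv.trans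
        (MvPolynomial.algebraTensorAlgEquiv k F (σ := σ)).toRingEquiv) inferInstance)
  suffices H : ∃ c, IsUnit (φ c) ∧ b * φ c ∈ φ.range by
    obtain ⟨c, hc, d, hd⟩ := H
    exact ⟨φ c, hc, d, hd⟩
  induction b using TensorProduct.induction_on with
  | zero => exact ⟨1, by simp, 0, by simp⟩
  | tmul a x =>
    obtain ⟨r, s, hrs⟩ := (IntermediateField.mem_adjoin_range_iff k t a.1).mp a.2
    by_cases hs : MvPolynomial.aeval t s = 0
    · have : a = 0 := Subtype.ext (by rw [hrs, hs, div_zero]; rfl)
      exact ⟨1, by simp, 0, by simp [this]⟩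
    · have hne : ψ s ≠ 0 := fun h0 => hs (by rw [← hψ, h0]; rfl)
      have hu : IsUnit (φ (s ⊗ₜ[k] (1 : F))) := by
        simpa [φ] using (Ne.isUnit hne).map
          (Algebra.TensorProduct.includeLeftRingHom : L →+* L ⊗[k] F)
      refine ⟨s ⊗ₜ[k] (1 : F), hu, r ⊗ₜ x, ?_⟩
      have har : a * ψ s = ψ r := Subtype.ext (by
        show (a : K) * ((ψ s : L) : K) = ((ψ r : L) : K)
        rw [hψ, hψ, hrs, div_mul_cancel₀ _ hs])
      simp [φ, Algebra.TensorProduct.tmul_mul_tmul, har]
  | add a b ha hb =>
    obtain ⟨u, hu, a', ha'⟩ := ha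
    obtain ⟨v, hv, b', hb'⟩ := hb
    refine ⟨u * v, by rw [map_mul]; exact hu.mul hv, a' * v + b' * u, ?_⟩
    change φ (a' * v + b' * u) = _
    change φ a' = _ at ha'
    change φ b' = _ at hb'
    simp only [map_add, map_mul, ha', hb']
    ring

end

theorem closure_mem_irreducibleComponents_eq {T : Type u} [TopologicalSpace T] {S : Set T}
    [T0Space T] {z : S} (hz : closure {z} ∈ irreducibleComponents S) (w : S)
    (hw : (w : T) ⤳ (z : T)) : w = z := by
  have h : w ⤳ z := (subtype_specializes_iff _ _).mpr hw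
  exact (h.antisymm (specializes_iff_closure_subset.mpr
    (hz.2 isIrreducible_singleton.closure (specializes_iff_closure_subset.mp h)))).eq

/-- Let G be a nonempty scheme of finite type over a field k, K a field extension of k, π : G ⊗_k K → G
the projection and W a dense open subset of G ⊗_k K. Then the set U of points g of G such that W
contains every maximal point of the fibre π⁻¹(g) (every point whose closure in π⁻¹(g) is an
irreducible component of π⁻¹(g)) is open and dense in G. -/
theorem result (k : Type u) [Field k] (K : Type u) [Field K] [Algebra k K]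
    (G : Scheme.{u}) (f : G ⟶ Spec (CommRingCat.of k)) [LocallyOfFiniteType f] [QuasiCompact f] [Nonempty G]
    (W : (pullback f (Spec.map (CommRingCat.ofHom (algebraMap k K)))).Opens)
    (hW : Dense (W : Set ↥(pullback f (Spec.map (CommRingCat.ofHom (algebraMap k K)))))) :
    letI π := (pullback.fst f (Spec.map (CommRingCat.ofHom (algebraMap k K)))).base
    letI U : Set G := {g : G | ∀ z : ↥(π ⁻¹' {g}), closure {z} ∈ irreducibleComponents ↥(π ⁻¹' {g}) → z.1 ∈ W}
    IsOpen U ∧ Dense U := by
  obtain ⟨s, hs⟩ := exists_isTranscendenceBasis k K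
  let L := IntermediateField.adjoin k (Set.range ((↑) : s → K))
  haveI : Algebra.IsAlgebraic L K := hs.isAlgebraic_field
  haveI : Algebra.IsIntegral L K := Algebra.IsAlgebraic.isIntegral
  let iL : Spec (CommRingCat.of L) ⟶ Spec (CommRingCat.of k) := Spec.map (CommRingCat.ofHom (algebraMap k L))
  let jK : Spec (CommRingCat.of K) ⟶ Spec (CommRingCat.of L) := Spec.map (CommRingCat.ofHom (algebraMap L K))
  have hcomp : jK ≫ iL = (Spec.map (CommRingCat.ofHom (algebraMap k K))) := by
    rw [← Spec.map_comp, ← CommRingCat.ofHom_comp, ← IsScalarTower.algebraMap_eq]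
  haveI : GeometricallyIrreducible iL := by
    refine ⟨geometrically_iff_of_commRing_of_isClosedUnderIsomorphisms.mpr fun F _ _ => ?_⟩
    haveI : IrreducibleSpace (Spec (CommRingCat.of (TensorProduct k L F))) :=
      irreducibleSpace_adjoin_tensor _ hs.1 F
    exact (pullbackSpecIso k L F).hom.homeomorph.irreducibleSpace_iff.mpr this
  haveI : UniversallyOpen iL := H15Site.EffDesc.universallyOpen_spec_field iL
  let p := pullback.fst f iL
  haveI : GeometricallyIrreducible p := inferInstance
  haveI : UniversallyOpen p := inferInstance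
  let q : pullback f (Spec.map (CommRingCat.ofHom (algebraMap k K))) ⟶ pullback f iL :=
    pullback.lift (pullback.fst f (Spec.map (CommRingCat.ofHom (algebraMap k K)))) (pullback.snd f (Spec.map (CommRingCat.ofHom (algebraMap k K))) ≫ jK)
      (by rw [Category.assoc, hcomp, pullback.condition])
  have hqp : q ≫ p = pullback.fst f (Spec.map (CommRingCat.ofHom (algebraMap k K))) := pullback.lift_fst _ _ _
  have hsq : IsPullback q (pullback.snd f (Spec.map (CommRingCat.ofHom (algebraMap k K)))) (pullback.snd f iL) jK := by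
    refine IsPullback.of_right ?_ (pullback.lift_snd _ _ _) (IsPullback.of_hasPullback f iL)
    rw [hqp, hcomp]
    exact IsPullback.of_hasPullback f (Spec.map (CommRingCat.ofHom (algebraMap k K)))
  haveI : IsIntegralHom jK := IsIntegralHom.SpecMap_iff.mpr (algebraMap_isIntegral_iff.mpr ‹_›)
  haveI : Flat jK :=
    (HasRingHomProperty.Spec_iff (P := @Flat)).mpr (RingHom.flat_algebraMap_iff.mpr inferInstance)
  haveI : IsIntegralHom q := MorphismProperty.of_isPullback hsq.flip ‹_›
  haveI : Flat q := MorphismProperty.of_isPullback hsq.flip ‹_›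
  -- generic points of the fibres of `p`
  let ξ : G → ↥(pullback f iL) := fun g => p.fiberι g (genericPoint (p.fiber g))
  have hξ : ∀ g, p (ξ g) = g := fun g => (p.range_fiberι g).le ⟨_, rfl⟩
  have hgen' : ∀ g y, p y = g → ξ g ⤳ y := fun g y hy => by
    obtain ⟨a, ha⟩ := (p.range_fiberι g).ge (show y ∈ p ⁻¹' {g} from hy)
    rw [← ha]
    exact (genericPoint_specializes a).map (p.fiberι g).continuous
  have hgen : ∀ y, ξ (p y) ⤳ y := fun y => hgen' _ y rfl
  have hπ : ∀ z : ↥(pullback f (Spec.map (CommRingCat.ofHom (algebraMap k K)))), (pullback.fst f (Spec.map (CommRingCat.ofHom (algebraMap k K)))).base z = p (q z) := fun z => by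
    rw [← Scheme.Hom.comp_apply, hqp]
  -- the maximal points of the fibres of the projection
  have key : ∀ g (z : ↥((pullback.fst f (Spec.map (CommRingCat.ofHom (algebraMap k K)))).base ⁻¹' {g})),
      closure {z} ∈ irreducibleComponents ↥((pullback.fst f (Spec.map (CommRingCat.ofHom (algebraMap k K)))).base ⁻¹' {g}) ↔ q z.1 = ξ g := by
    intro g z
    have hz : (pullback.fst f (Spec.map (CommRingCat.ofHom (algebraMap k K)))).base z.1 = g := z.2
    refine ⟨fun h => ?_, fun h => ?_⟩
    · have hsp : ξ g ⤳ q z.1 := hgen' g _ ((hπ _).symm.trans hz)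
      obtain ⟨w, hw, hqw⟩ := Flat.generalizingMap q hsp
      have hwg : w ∈ (pullback.fst f (Spec.map (CommRingCat.ofHom (algebraMap k K)))).base ⁻¹' {g} := by
        show (pullback.fst f (Spec.map (CommRingCat.ofHom (algebraMap k K)))).base w = g
        rw [hπ, hqw, hξ]
      rw [← hqw, ← congrArg Subtype.val (closure_mem_irreducibleComponents_eq h ⟨w, hwg⟩ hw)]
    · haveI : QuasiSober ↥((pullback.fst f (Spec.map (CommRingCat.ofHom (algebraMap k K)))).base ⁻¹' {g}) :=
        ((pullback.fst f (Spec.map (CommRingCat.ofHom (algebraMap k K)))).fiberHomeo g).symm.isOpenEmbedding.quasiSober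
      refine ⟨isIrreducible_singleton.closure, fun C hC hle => ?_⟩
      obtain ⟨θ, hθ⟩ := QuasiSober.sober hC.closure isClosed_closure
      have hθz : θ.1 ⤳ z.1 := (subtype_specializes_iff _ _).mp
        (hθ.specializes (subset_closure (hle (subset_closure rfl))))
      have hθg : p (q θ.1) = g := by rw [← hπ]; exact θ.2
      have h1 : ξ g ⤳ q θ.1 := hgen' g _ hθg
      have h2 : q θ.1 ⤳ q z.1 := hθz.map q.continuous
      have heq : θ = z := Subtype.ext
        (H17.AssPts.eq_of_specializes_of_map_eq q hθz ((h2.antisymm (h ▸ h1)).eq))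
      rw [← heq, hθ.def]
      exact subset_closure
  have hU : {g : G | ∀ z : ↥((pullback.fst f (Spec.map (CommRingCat.ofHom (algebraMap k K)))).base ⁻¹' {g}),
      closure {z} ∈ irreducibleComponents ↥((pullback.fst f (Spec.map (CommRingCat.ofHom (algebraMap k K)))).base ⁻¹' {g}) → z.1 ∈ W} =
      p '' (q '' (W : Set ↥(pullback f (Spec.map (CommRingCat.ofHom (algebraMap k K)))))ᶜ)ᶜ := by
    ext g
    simp only [Set.mem_setOf_eq]
    refine ⟨fun hg => ⟨ξ g, fun ⟨z, hzW, hz⟩ => hzW ?_, hξ g⟩, ?_⟩
    · have hzg : z ∈ (pullback.fst f (Spec.map (CommRingCat.ofHom (algebraMap k K)))).base ⁻¹' {g} := by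
        show (pullback.fst f (Spec.map (CommRingCat.ofHom (algebraMap k K)))).base z = g
        simp only at hz
        rw [hπ, hz, hξ]
      exact hg ⟨z, hzg⟩ ((key g ⟨z, hzg⟩).mpr hz)
    · rintro ⟨y, hy, rfl⟩ z hz
      by_contra hzW
      have hqz := (key _ z).mp hz
      exact ((hgen y).mem_open (q.isClosedMap _ W.2.isClosed_compl).isOpen_compl hy) ⟨z.1, hzW, hqz⟩
  refine ⟨hU ▸ p.isOpenMap _ (q.isClosedMap _ W.2.isClosed_compl).isOpen_compl, fun x => ?_⟩
  haveI : IsLocallyNoetherian (pullback f (Spec.map (CommRingCat.ofHom (algebraMap k K)))) :=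
    LocallyOfFiniteType.isLocallyNoetherian (pullback.snd f (Spec.map (CommRingCat.ofHom (algebraMap k K))))
  obtain ⟨θ, hθ, hθx⟩ := H8Props.exists_genericPoints_specializes x
  refine closure_mono (Set.singleton_subset_iff.mpr ?_) hθx.mem_closure
  intro z hz
  refine H8Props.genericPoints_subset_of_dense W.2 hW (H8Props.mem_genericPoints_iff.mpr fun w hw => ?_)
  have hwθ : (pullback.fst f (Spec.map (CommRingCat.ofHom (algebraMap k K)))).base w = θ := by
    refine H8Props.mem_genericPoints_iff.mp hθ _ ?_
    have hz' : (pullback.fst f (Spec.map (CommRingCat.ofHom (algebraMap k K)))).base z.1 = θ := z.2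
    exact hz' ▸ hw.map (pullback.fst f (Spec.map (CommRingCat.ofHom (algebraMap k K)))).continuous
  exact congrArg Subtype.val (closure_mem_irreducibleComponents_eq hz ⟨w, hwθ⟩ hw)

end Groth.Agent.S5399
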