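import Groth.Statements.S5400
import Groth.Agent.H7Lim.NeutralStage
-- import your own Groth.Agent.* helpers here

set_option autoImplicit false
universe u
open CategoryTheory CategoryTheory.Limits MonoidalCategory CartesianMonoidalCategory MonObj GrpObj AlgebraicGeometry
open SGA3

namespace Groth.Agent.S5400

/-- Let S be the limit of a cofiltered system (S_i) of quasi-compact quasi-separated schemes with affine
transition morphisms, j an index and G_j an S_j-group scheme of finite presentation; put G = G_j
×_{S_j} S. Then the neutral component subfunctor of G is representable (there is a monomorphism G⁰ →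
G through which a point factors exactly when its image lies in the union of the neutral components
of the fibres) if and only if there is an index i over j such that the neutral component of G_j
×_{S_j} S_i is representable. -/
theorem result {I : Type u} [SmallCategory I] [IsCofiltered I]
    (D : I ⥤ Scheme.{u}) (c : Limits.Cone D) (hc : Limits.IsLimit c)
    [∀ (i i' : I) (f : i ⟶ i'), IsAffineHom (D.map f)] [∀ i, CompactSpace (D.obj i)] [∀ i, QuasiSeparatedSpace (D.obj i)]
    (j : I) (Gj : Over (D.obj j)) [GrpObj Gj]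
    [LocallyOfFinitePresentation Gj.hom] [QuasiCompact Gj.hom] [QuasiSeparated Gj.hom] :
    (∃ (G0 : Over c.pt) (i0 : G0 ⟶ Red.bc (c.π.app j) Gj), Mono i0 ∧
      ∀ (T : Over c.pt) (g : T ⟶ Red.bc (c.π.app j) Gj), (∃ z : T ⟶ G0, z ≫ i0 = g) ↔
        Set.range g.left.base ⊆ SGA3x.neutralSet (Red.bc (c.π.app j) Gj)) ↔
    ∃ (i : I) (f : i ⟶ j) (G0 : Over (D.obj i)) (i0 : G0 ⟶ Red.bc (D.map f) Gj), Mono i0 ∧
      ∀ (T : Over (D.obj i)) (g : T ⟶ Red.bc (D.map f) Gj), (∃ z : T ⟶ G0, z ≫ i0 = g) ↔
        Set.range g.left.base ⊆ SGA3x.neutralSet (Red.bc (D.map f) Gj) := by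
  have hl : ∀ {S' : Scheme.{u}} (g : S' ⟶ D.obj j), LocallyOfFinitePresentation (Red.bc g Gj).hom :=
    fun g => MorphismProperty.pullback_snd (P := @LocallyOfFinitePresentation) _ _ inferInstance
  haveI := hl (c.π.app j)
  haveI : ∀ (i : I) (f : i ⟶ j), LocallyOfFinitePresentation (Red.bc (D.map f) Gj).hom :=
    fun i f => hl (D.map f)
  rw [Groth.Agent.H7Lim.NeutralStage.rep_iff_isOpen,
    Groth.Agent.H7Lim.NeutralStage.isOpen_iff_stage hc Gj]
  exact exists_congr fun i => exists_congr fun f =>
    (Groth.Agent.H7Lim.NeutralStage.rep_iff_isOpen (Red.bc (D.map f) Gj)).symm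

end Groth.Agent.S5400
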