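import Groth.Statements.S5401
import Groth.Agent.H19Grp.NeutralConstr
import Groth.Agent.H17.IndCons
-- import your own Groth.Agent.* helpers here

set_option autoImplicit false
universe u
open CategoryTheory CategoryTheory.Limits MonoidalCategory CartesianMonoidalCategory MonObj GrpObj AlgebraicGeometry
open SGA3

namespace Groth.Agent.S5401

/-- Let S₀ be a scheme, (S_i) a cofiltered system of quasi-compact quasi-separated S₀-schemes with
affine transition morphisms and S its limit, and G an S₀-group scheme locally of finite presentation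
over S₀. Write G⁰(T), for an S₀-scheme T, for the set of S₀-morphisms T → G whose image lies in the
union of the neutral components of the fibres of G. Then the canonical map colim G⁰(S_i) → G⁰(S) is
surjective: every element of G⁰(S) is the restriction of an element of G⁰(S_i) for some i. (The
published statement asserts that this map is bijective; its injectivity holds for S₀-morphisms to
any scheme locally of finite type over S₀ and is not stated here. The published setting takes S₀
quasi-compact and quasi-separated and the S_i affine over S₀; this row allows any cofiltered system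
of quasi-compact quasi-separated S₀-schemes with affine transition morphisms.) -/
theorem result {I : Type u} [SmallCategory I] [IsCofiltered I]
    (D : I ⥤ Scheme.{u}) (c : Limits.Cone D) (hc : Limits.IsLimit c)
    [∀ (i i' : I) (f : i ⟶ i'), IsAffineHom (D.map f)] [∀ i, CompactSpace (D.obj i)] [∀ i, QuasiSeparatedSpace (D.obj i)]
    (S₀ : Scheme.{u}) (q : ∀ i, D.obj i ⟶ S₀) (hq : ∀ (i i' : I) (f : i ⟶ i'), D.map f ≫ q i' = q i)
    (qlim : c.pt ⟶ S₀) (hqlim : ∀ i, c.π.app i ≫ q i = qlim)
    (G : Over S₀) [GrpObj G] [LocallyOfFinitePresentation G.hom] :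
    ∀ u : c.pt ⟶ G.left, u ≫ G.hom = qlim → Set.range u.base ⊆ SGA3x.neutralSet G →
      ∃ (i : I) (ui : D.obj i ⟶ G.left), ui ≫ G.hom = q i ∧ Set.range ui.base ⊆ SGA3x.neutralSet G ∧ c.π.app i ≫ ui = u := by
  intro u hu hrange
  have hind : ∀ {A : Scheme.{u}} (v : A ⟶ G.left), Groth.Agent.H17.IndCons.ChartInd (v ⁻¹' SGA3x.neutralSet G) := by
    intro A v R a _ y hy
    obtain ⟨R', b, _, k, hk⟩ := Groth.Agent.H17.IndCons.exists_chart (v (a y))
    obtain ⟨T, hT, hkT, hsub⟩ := Groth.Agent.H19Grp.chartInd_neutralSet G R' b k (by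
      show b k ∈ SGA3x.neutralSet G
      rw [hk]; exact hy)
    obtain ⟨z, hz1, hz2⟩ := Scheme.Pullback.exists_preimage_pullback (f := a ≫ v) (g := b) y k
      (by rw [Scheme.Hom.comp_apply]; exact hk.symm)
    obtain ⟨W, hW, hzW, -⟩ := exists_isAffineOpen_mem_and_subset (X := pullback (a ≫ v) b) (x := z) (U := ⊤) trivial
    haveI : IsAffine W.toScheme := hW
    obtain ⟨z', rfl⟩ : z ∈ Set.range W.ι := W.range_ι.symm ▸ hzW
    refine ⟨(W.ι ≫ pullback.fst (a ≫ v) b) '' ((W.ι ≫ pullback.snd (a ≫ v) b) ⁻¹' T),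
      Scheme.Hom.isConstructible_image _ (Scheme.Hom.isConstructible_preimage _ hT), ⟨z', ?_, ?_⟩, ?_⟩
    · show pullback.snd (a ≫ v) b (W.ι z') ∈ T
      rw [hz2]; exact hkT
    · rw [Scheme.Hom.comp_apply, hz1]
    · rintro _ ⟨t, ht, rfl⟩
      show v (a (pullback.fst (a ≫ v) b (W.ι t))) ∈ SGA3x.neutralSet G
      rw [← Scheme.Hom.comp_apply a v, ← Scheme.Hom.comp_apply, pullback.condition, Scheme.Hom.comp_apply]
      exact hsub ht
  let t : D ⟶ (Functor.const I).obj S₀ :=
    { app := q, naturality := fun i i' f => by simp [hq i i' f] }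
  obtain ⟨i, g, hg, hgG⟩ := Scheme.exists_π_app_comp_eq_of_locallyOfFinitePresentation D t G.hom c hc u (by
    ext i
    show c.π.app i ≫ q i = u ≫ G.hom
    rw [hqlim i, hu])
  obtain ⟨j, φ, hφ⟩ := Groth.Agent.H17.IndCons.exists_stage_eq_univ hc i (hind g)
    (Set.eq_univ_of_forall fun x => by
      show g (c.π.app i x) ∈ SGA3x.neutralSet G
      rw [← Scheme.Hom.comp_apply, hg]
      exact hrange ⟨x, rfl⟩)
  refine ⟨j, D.map φ ≫ g, ?_, ?_, ?_⟩
  · rw [Category.assoc, hgG]
    exact hq j i φ
  · rintro _ ⟨x, rfl⟩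
    have hx : x ∈ (D.map φ) ⁻¹' (g ⁻¹' SGA3x.neutralSet G) := hφ.ge (Set.mem_univ x)
    rw [Scheme.Hom.comp_apply]
    exact hx
  · rw [c.w_assoc, hg]

end Groth.Agent.S5401
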