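import Groth.Statements.S5414
import Groth.Agent.H06AffineQF.Over

set_option autoImplicit false
universe u
open CategoryTheory MonoidalCategory CartesianMonoidalCategory MonObj GrpObj AlgebraicGeometry CategoryTheory.Limits
open SGA3x

namespace Groth.Agent.S5414

/-- Let S be a locally Noetherian scheme of dimension at most 1, X and Y two S-schemes locally of finite
type over S and u : X → Y an S-morphism which is quasi-finite (quasi-compact, locally quasi-finite)
and separated. Suppose that for every point s of S the morphism u_s : X_s → Y_s induced on the
fibres over s is finite. Then u is affine. (The published statement takes S of dimension 1; this row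
allows dimension at most 1, which its proof covers.) -/
theorem result (S : Scheme.{u}) [IsLocallyNoetherian S] (hdim : topologicalKrullDim ↥S ≤ 1)
    (X Y : Over S) [LocallyOfFiniteType X.hom] [LocallyOfFiniteType Y.hom] (u : X ⟶ Y)
    [QuasiCompact u.left] [LocallyQuasiFinite u.left] [IsSeparated u.left]
    (hfin : ∀ s : S, IsFinite ((Over.pullback (S.fromSpecResidueField s)).map u).left) :
    IsAffineHom u.left := by
  haveI : LocallyOfFiniteType (u.left ≫ Y.hom) := by rw [Over.w u]; infer_instance
  haveI : LocallyOfFiniteType u.left := locallyOfFiniteType_of_comp u.left Y.hom
  exact H06AffineQF.isAffineHom_of_finite_fibres hdim Y.hom u.left fun s =>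
    (H06AffineQF.prop_snd_iff _ u @IsFinite).2 (hfin s)

end Groth.Agent.S5414
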