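import Groth.Statements.S5417
import Groth.Agent.H21Desc.OrbitQuotient
import Groth.Agent.H19Grp.NeutralOpen
import Groth.Agent.S4094

set_option autoImplicit false
universe u
open CategoryTheory MonoidalCategory CartesianMonoidalCategory MonObj GrpObj AlgebraicGeometry CategoryTheory.Limits
open SGA3x

namespace Groth.Agent.S5417

set_option linter.style.haveILetI false
set_option backward.isDefEq.respectTransparency false

/-- Let u : G → H be a homomorphism of S-group schemes, G locally of finite presentation over S, and H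
locally of finite type over S or S locally Noetherian. Let k : K → G be the kernel of u and suppose
K flat over S. Then G/K is representable by an S-group scheme Q locally of finite presentation over
S: there is a homomorphism q : G → Q representing the fppf quotient, and u = q followed by a
homomorphism Q → H which is a monomorphism. -/
theorem result (S : Scheme.{u}) (G H : Over S) [GrpObj G] [GrpObj H] [LocallyOfFinitePresentation G.hom]
    (hH : LocallyOfFiniteType H.hom ∨ IsLocallyNoetherian S) (u : G ⟶ H) [IsMonHom u]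
    (K : Over S) [GrpObj K] (k : K ⟶ G) [IsMonHom k] (hK : AlgGrp.IsKernel k u) [Flat K.hom] :
    ∃ (Q : Over S) (_ : GrpObj Q) (q : G ⟶ Q) (_ : IsMonHom q), RedSub.IsQuotient k q ∧
      LocallyOfFinitePresentation Q.hom ∧ ∃ (m : Q ⟶ H) (_ : IsMonHom m), Mono m ∧ q ≫ m = u := by
  have sq : IsPullback (fst G K) ((G ◁ k) ≫ μ[G]) u u := by
    have hku : k ≫ u = toUnit K ≫ η[H] := hK.w
    have hmu : ∀ {T : Over S} (j : T ⟶ G ⊗ K), j ≫ (G ◁ k) ≫ μ[G] = (j ≫ fst G K) * (j ≫ snd G K ≫ k) :=
      fun {T} j => by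
        rw [Hom.mul_def, ← Category.assoc]
        congr 1
        apply CartesianMonoidalCategory.hom_ext <;> simp
    have w : fst G K ≫ u = ((G ◁ k) ≫ μ[G]) ≫ u := by
      have e := hmu (𝟙 (G ⊗ K))
      simp only [Category.id_comp] at e
      rw [e, MonObj.mul_comp, Category.assoc, hku, ← Hom.one_def, MonObj.comp_one, _root_.mul_one]
    refine ⟨⟨w⟩, ⟨Limits.PullbackCone.IsLimit.mk _ (fun z => lift z.fst (hK.lift (z.fst⁻¹ * z.snd) (toUnit _) ?_))
      (fun z => lift_fst _ _) (fun z => ?_) (fun z j h1 h2 => ?_)⟩⟩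
    · rw [MonObj.mul_comp, GrpObj.inv_comp, z.condition, inv_mul_cancel, Hom.one_def]
    · rw [hmu]
      simp only [lift_fst, lift_snd_assoc, IsPullback.lift_fst, mul_inv_cancel_left]
    · apply CartesianMonoidalCategory.hom_ext
      · rw [lift_fst, h1]
      · rw [lift_snd]
        refine hK.hom_ext ?_ (toUnit_unique _ _)
        rw [hK.lift_fst, Category.assoc, ← h1, ← h2, hmu, inv_mul_cancel_left]
  obtain ⟨Q, q, hq, hQfp, m, hm, hqm⟩ := H21Desc.exists_quotient_of_cosets k u sq (by
    rcases hH with hH | hS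
    · exact Or.inl hH
    refine Or.inr ?_
    haveI := hS
    haveI : LocallyOfFiniteType (η[H].left ≫ H.hom) := by
      rw [Over.w η[H]]; exact inferInstanceAs (LocallyOfFiniteType (𝟙 S))
    haveI : LocallyOfFiniteType η[H].left := locallyOfFiniteType_of_comp η[H].left H.hom
    haveI : LocallyOfFiniteType k.left :=
      MorphismProperty.of_isPullback (hK.map (Over.forget S)).flip ‹LocallyOfFiniteType η[H].left›
    haveI : LocallyOfFiniteType K.hom := by rw [← Over.w k]; infer_instance
    infer_instance)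
  haveI := hm
  haveI : Mono m.left := inferInstanceAs (Mono ((Over.forget S).map m))
  haveI : Surjective q.left := hq.1
  haveI : Flat q.left := hq.2.1
  haveI : LocallyOfFinitePresentation q.left := hq.2.2.1
  haveI : Surjective (q ⊗ₘ q).left := by
    rw [Over.tensorHom_left]
    exact MorphismProperty.pullbackMap (P := @Surjective) ‹_› ‹_› (Over.w q).symm (Over.w q).symm
  haveI : Flat (q ⊗ₘ q).left := by
    rw [Over.tensorHom_left]
    exact MorphismProperty.pullbackMap (P := @Flat) ‹_› ‹_› (Over.w q).symm (Over.w q).symm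
  haveI : LocallyOfFinitePresentation (q ⊗ₘ q).left := by
    rw [Over.tensorHom_left]
    exact MorphismProperty.pullbackMap (P := @LocallyOfFinitePresentation) ‹_› ‹_› (Over.w q).symm (Over.w q).symm
  obtain ⟨m₀, -, hm₀⟩ := Groth.Agent.S4094.exists_desc_over (q ⊗ₘ q) (μ[G] ≫ q) m ((m ⊗ₘ m) ≫ μ[H]) (by
    rw [tensorHom_comp_tensorHom_assoc, hqm, Category.assoc, hqm, IsMonHom.mul_hom u])
  obtain ⟨j₀, -, hj₀⟩ := Groth.Agent.S4094.exists_desc_over q (ι[G] ≫ q) m (m ≫ ι[H]) (by
    rw [← Category.assoc, hqm, Category.assoc, hqm, GrpObj.inv_hom u])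
  obtain ⟨hQ, hmQ⟩ := Groth.Agent.H19Grp.exists_grpObj_of_mono H m (η[G] ≫ q)
    (by rw [Category.assoc, hqm, IsMonHom.one_hom u]) m₀ hm₀ j₀ hj₀
  letI := hQ
  haveI := hmQ
  haveI : IsMonHom q := by
    refine ⟨?_, ?_⟩
    · rw [← cancel_mono m, Category.assoc, hqm, IsMonHom.one_hom u, IsMonHom.one_hom m]
    · rw [← cancel_mono m, Category.assoc, hqm, IsMonHom.mul_hom u, Category.assoc, IsMonHom.mul_hom m,
        tensorHom_comp_tensorHom_assoc, hqm]
  exact ⟨Q, hQ, q, inferInstance, hq, hQfp, m, hmQ, hm, hqm⟩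

end Groth.Agent.S5417
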