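import Groth.Statements.S5422
import Groth.Agent.H20Comod.UniExtGen

set_option autoImplicit false
universe u
open TensorProduct
open SGA3t2b

namespace Groth.Agent.S5422

/-- Parts (ii), (iii) and (iv) (Hopf-algebra form; 'unipotent' in the fixed-vector form: every non-zero
finite-dimensional representation has a non-zero fixed vector, which is equivalent to the published
definition for affine algebraic groups): let k be a field and A the coordinate Hopf algebra of an
affine algebraic k-group E. (ii) If E is unipotent, so is every closed subgroup Spec B (B a Hopf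
quotient of A, φ : A → B a surjective bialgebra map). (iii) If E is unipotent, so is every quotient
group Spec C (ψ : C → A an injective bialgebra map). (iv) If ψ : C → A is an injective bialgebra map
(quotient U = Spec C), J the Hopf ideal of A generated by the image of the augmentation ideal of C
(kernel N = Spec (A/J)), and both U and N are unipotent, then E is unipotent. -/
theorem result (k : Type u) [Field k] (A : Type u) [CommRing A] [HopfAlgebra k A] [Algebra.FiniteType k A] :
    (∀ (B : Type u) [CommRing B] [HopfAlgebra k B] [Algebra.FiniteType k B] (φ : A →ₐc[k] B),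
      Function.Surjective φ → HopfRep.IsUnipotent k A → HopfRep.IsUnipotent k B) ∧
    (∀ (C : Type u) [CommRing C] [HopfAlgebra k C] [Algebra.FiniteType k C] (ψ : C →ₐc[k] A),
      Function.Injective ψ → HopfRep.IsUnipotent k A → HopfRep.IsUnipotent k C) ∧
    (∀ (C : Type u) [CommRing C] [HopfAlgebra k C] [Algebra.FiniteType k C] (ψ : C →ₐc[k] A)
      (J : Ideal A) [J.IsHopfIdeal k],
      Function.Injective ψ → J = Ideal.map (ψ : C →+* A) (RingHom.ker (Bialgebra.counitAlgHom k C)) →
      HopfRep.IsUnipotent k C → HopfRep.IsUnipotent k (A ⧸ J) → HopfRep.IsUnipotent k A) := by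
  refine ⟨fun B _ _ _ φ hφ hA => H20Comod.isUnipotent_of_surjective φ hφ hA,
    fun C _ _ _ ψ hψ hA => H20Comod.isUnipotent_of_injective ψ hψ hA, ?_⟩
  intro C _ _ _ ψ J _ hψ hJ hC hU
  let π : A →ₐc[k] A ⧸ J := Bialgebra.Quotient.mkBialgHom J
  exact H20Comod.isUnipotent_of_extension ψ hψ π Ideal.Quotient.mk_surjective
    (fun a ha => hJ ▸ Ideal.Quotient.eq_zero_iff_mem.1 ha) hC hU

end Groth.Agent.S5422
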