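import Groth.Statements.S5432
import Groth.Agent.H20Hopf.Rosenlicht
import Groth.Agent.H20Comod.Unip
import Groth.Agent.H20Comod.UniMult
import Groth.Agent.H19Mult.PointConn
import Groth.Agent.H13SchFin.Connected
import Groth.Agent.H02CA.SmoothRegular
-- import your own Groth.Agent.* helpers here

set_option autoImplicit false
universe u
open TensorProduct
open SGA3t2b

namespace Groth.Agent.S5432

/-- Let k be a field, C a finitely generated commutative Hopf algebra which is formally smooth with no
idempotents other than 0 and 1 and unipotent in the fixed-vector sense (a smooth connected unipotent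
algebraic group U), and B a commutative Hopf algebra of multiplicative type (isomorphic to a group
algebra after a faithfully flat extension of k; the group H, not assumed of finite type). Then every
morphism of k-schemes U → H is constant: every k-algebra map f : B → C satisfies f(b) = ε_C(f(b)) ·
1. -/
theorem result (k : Type u) [Field k] (C B : Type u) [CommRing C] [HopfAlgebra k C] [Algebra.FiniteType k C]
    [Algebra.FormallySmooth k C] (hconn : ∀ e : C, IsIdempotentElem e → e = 0 ∨ e = 1)
    (hU : HopfRep.IsUnipotent k C) [CommRing B] [HopfAlgebra k B]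
    (hB : SGA3b.IsMultTypeConst k B) (f : B →ₐ[k] C) :
    ∀ b : B, f b = algebraMap k C (Bialgebra.counitAlgHom k C (f b)) := by
  classical
  obtain ⟨R', _, _, hff, M, _, ⟨Φ⟩⟩ := hB
  haveI : Nontrivial R' := by
    by_contra h
    rw [not_nontrivial_iff_subsingleton] at h
    exact not_subsingleton k (Module.FaithfullyFlat.lTensor_reflects_triviality k R' k)
  obtain ⟨m, hm⟩ := Ideal.exists_maximal R'
  letI := Ideal.Quotient.field m
  let K := AlgebraicClosure (R' ⧸ m)
  haveI : ConnectedSpace (PrimeSpectrum C) :=
    haveI : Nontrivial C := (Bialgebra.counitAlgHom k C).toRingHom.domain_nontrivial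
    H13SchFin.connectedSpace_of_idempotent hconn
  let εK := Bialgebra.counitAlgHom K (K ⊗[k] C)
  have hrid : ∀ x : K ⊗[k] C, Algebra.TensorProduct.rid k k K
      (Algebra.TensorProduct.map (AlgHom.id k K) (Bialgebra.counitAlgHom k C) x) = εK x := by
    intro x
    induction x using TensorProduct.induction_on with
    | zero => simp
    | tmul a c => simp [εK, Algebra.smul_def, mul_comm]
    | add x y hx hy => simp only [map_add, hx, hy]
  have hconnK : ∀ e : K ⊗[k] C, IsIdempotentElem e → e = 0 ∨ e = 1 := by
    intro e he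
    rcases (IsIdempotentElem.iff_eq_zero_or_one).1 (he.map εK) with h | h
    · exact Or.inl (H19Mult.idem_eq_zero_of_point (Bialgebra.counitAlgHom k C) e he (by rw [hrid, h]))
    · refine Or.inr (sub_eq_zero.1 (H19Mult.idem_eq_zero_of_point (Bialgebra.counitAlgHom k C) (1 - e) he.one_sub
        (by rw [hrid, map_sub, map_one, h, sub_self]))).symm
  haveI : Algebra.FinitePresentation k C := Algebra.FinitePresentation.of_finiteType.1 inferInstance
  haveI : Algebra.Smooth k C := {}
  haveI : IsReduced (K ⊗[k] C) := H02CA.isReduced_of_smooth K (K ⊗[k] C)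
  haveI : IsDomain (K ⊗[k] C) := H20Hopf.Rosenlicht.isDomain K hconnK
  have hUK : HopfRep.IsUnipotent K (K ⊗[k] C) := H20Comod.isUnipotent_baseChange hU
  have hunit : ∀ x : K ⊗[k] C, IsUnit x → x = algebraMap K _ (εK x) := by
    intro x hx
    have h0 : εK x ≠ 0 := (hx.map εK).ne_zero
    have hy : IsGroupLikeElem K ((εK x)⁻¹ • x) := H20Hopf.Rosenlicht.isGroupLikeElem_of_isUnit
      (by rw [Algebra.smul_def]; exact ((IsUnit.mk0 _ (inv_ne_zero h0)).map _).mul hx)
      (by rw [map_smul]; exact inv_mul_cancel₀ h0)
    have h1 := H20Comod.eq_one_of_isGroupLike hUK hy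
    rw [← one_smul K x, ← mul_inv_cancel₀ h0, mul_smul, h1, Algebra.algebraMap_eq_smul_one]
    simp
  let θ : R' ⊗[k] B →ₐ[k] K ⊗[k] C := Algebra.TensorProduct.map (IsScalarTower.toAlgHom k R' K) f
  let π : R' ⊗[k] B → Prop := fun w => θ w = algebraMap K _ (εK (θ w))
  have hgl : ∀ g : M, π (Φ.symm (MonoidAlgebra.of R' M g)) := fun g =>
    hunit _ ((((Group.isUnit g).map (MonoidAlgebra.of R' M)).map Φ.symm).map θ)
  have hall : ∀ w, π w := by
    intro w
    obtain ⟨y, rfl⟩ := (EquivLike.surjective Φ.symm) w
    induction y using MonoidAlgebra.induction_on with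
    | of g => exact hgl g
    | add u v hu hv => simp only [π, map_add] at hu hv ⊢; rw [← hu, ← hv]
    | smul r u hu =>
      simp only [π] at hu ⊢
      rw [map_smul Φ.symm, Algebra.smul_def, map_mul, map_mul, map_mul, ← hu]
      have hr : θ (algebraMap R' (R' ⊗[k] B) r) = algebraMap K (K ⊗[k] C) (algebraMap R' K r) := by
        simp [θ, Algebra.TensorProduct.algebraMap_apply]
      rw [hr, AlgHom.commutes, Algebra.algebraMap_self, RingHom.id_apply]
  intro b
  refine Algebra.TensorProduct.includeRight_injective (A := K) (algebraMap k K).injective ?_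
  have h : ((1 : K) ⊗ₜ[k] f b) = algebraMap K _ (εK ((1 : K) ⊗ₜ[k] f b)) := by
    simpa [π, θ] using hall ((1 : R') ⊗ₜ b)
  show (1 : K) ⊗ₜ[k] f b = (1 : K) ⊗ₜ[k] algebraMap k C _
  rw [h]
  have he : εK ((1 : K) ⊗ₜ[k] f b) = algebraMap k K (Bialgebra.counitAlgHom k C (f b)) := by
    rw [← hrid, Algebra.TensorProduct.map_tmul, Algebra.TensorProduct.rid_tmul, AlgHom.id_apply,
      Algebra.smul_def, mul_one]
  rw [he, Algebra.TensorProduct.algebraMap_apply]
  exact Algebra.TensorProduct.tmul_one_eq_one_tmul _

end Groth.Agent.S5432
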