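import Groth.Statements.S5433
import Groth.Agent.H19Chev.JordanSplit
import Groth.Agent.H19Chev.TorusCriterion
import Groth.Agent.H21Hom.MultSub
import Groth.Agent.H20Comod.LineTensor

set_option autoImplicit false
set_option maxHeartbeats 1000000
set_option synthInstance.maxHeartbeats 100000
set_option linter.style.haveILetI false
set_option backward.isDefEq.respectTransparency false
universe u
open TensorProduct
open SGA3

namespace Groth.Agent.S5433

open HopfRep WithConv
open Groth.Agent.H20Comod Groth.Agent.H19Chev Groth.Agent.H19Chev.CoradSplit Groth.Agent.H19Chev.JordanSplit Groth.Agent.H19Mult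
open scoped Groth.Agent.H20Comod

/-- A quotient of multiplicative type has no non-constant coconnected functions. -/
theorem uni_sub_mem {k : Type u} [Field k] {A : Type u} [CommRing A] [HopfAlgebra k A] [Coalgebra.IsCocomm k A]
    (J : Ideal A) [J.IsHopfIdeal k] (hJ : SGA3b.IsMultTypeConst k (A ⧸ J)) {b : A} (hb : b ∈ uni k A) :
    b - algebraMap k A (CoalgebraStruct.counit (R := k) b) ∈ J := by
  obtain ⟨R', _, _, hff, M, _, ⟨e⟩⟩ := hJ
  haveI : Nontrivial R' :=
    haveI := Module.FaithfullyFlat.lTensor_nontrivial k R' k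
    (TensorProduct.rid k R').injective.nontrivial
  obtain ⟨P, hP⟩ := Ideal.exists_maximal R'
  haveI := hP
  letI : Field (R' ⧸ P) := Ideal.Quotient.field P
  let L := R' ⧸ P
  obtain ⟨eL⟩ := isDiag_baseChange e L
  let q := Bialgebra.Quotient.mkBialgHom (R := k) J
  haveI : Coalgebra.IsCocomm k (A ⧸ J) := H21Hom.isCocomm_of_surjective q Ideal.Quotient.mk_surjective
  obtain ⟨n, hn⟩ := hb
  have h1 : q b ∈ coFil k (A ⧸ J) n := map_mem_coFil (q : A →ₐc[k] A ⧸ J).toLinearMap (map_one q)
    (fun a => CoalgHomClass.counit_comp_apply q a) (fun a => (CoalgHomClass.map_comp_comul_apply q a).symm) hn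
  obtain ⟨c, hc⟩ := TorusCriterion.uni_scalar_of_isDiag (K := L) (A := L ⊗[k] (A ⧸ J)) ⟨M, inferInstance, ⟨eL⟩⟩
    ⟨n, one_tmul_mem_coFil L h1⟩
  have h2 : c = algebraMap k L (CoalgebraStruct.counit (R := k) b) := by
    have h := congrArg (CoalgebraStruct.counit (R := L)) hc
    rw [TensorProduct.counit_tmul, CommSemiring.counit_apply, CoalgHomClass.counit_comp_apply q b,
      Bialgebra.counit_algebraMap, ← Algebra.algebraMap_eq_smul_one] at h
    exact h.symm
  rw [← Ideal.Quotient.eq_zero_iff_mem, map_sub, sub_eq_zero]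
  refine one_tmul_inj (k := k) L ?_
  show (1 : L) ⊗ₜ[k] q b = (1 : L) ⊗ₜ[k] Ideal.Quotient.mk J (algebraMap k A _)
  rw [hc, h2, Ideal.Quotient.mk_algebraMap, Algebra.algebraMap_eq_smul_one (A := A ⧸ J), TensorProduct.tmul_smul,
    TensorProduct.smul_tmul', ← Algebra.algebraMap_eq_smul_one, Algebra.TensorProduct.algebraMap_apply]
  rfl


/-- Let k be a perfect field and A a finitely generated commutative and cocommutative Hopf algebra over
k (a commutative affine algebraic group G). Let J be the Hopf ideal of the largest subgroup of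
multiplicative type M (A/J is of multiplicative type and J lies in every Hopf ideal whose quotient
is of multiplicative type). Then there is exactly one Hopf ideal I of A (a unipotent subgroup U)
such that A/I is unipotent in the fixed-vector sense and the map A → (A/J) ⊗ (A/I), a ↦ Σ ā₁ ⊗ ā₂
(the comorphism of the multiplication M × U → G), is bijective. -/
theorem result (k : Type u) [Field k] [PerfectField k] (A : Type u) [CommRing A] [HopfAlgebra k A] [Algebra.FiniteType k A]
    [Coalgebra.IsCocomm k A] (J : Ideal A) [J.IsHopfIdeal k] (hJ : SGA3b.IsMultTypeConst k (A ⧸ J))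
    (hJmax : ∀ (I : Ideal A) [I.IsHopfIdeal k], SGA3b.IsMultTypeConst k (A ⧸ I) → J ≤ I) :
    ∃! I : Ideal A, ∃ (_ : I.IsHopfIdeal k), HopfRep.IsUnipotent k (A ⧸ I) ∧
      Function.Bijective ((Algebra.TensorProduct.map (Ideal.Quotient.mkₐ k J) (Ideal.Quotient.mkₐ k I)).comp
        (Bialgebra.comulAlgHom k A)) := by
  classical
  obtain ⟨π, υ, hsplit, hπu, hυu, hυmem, hυπ, hπg⟩ := exists_split (k := k) (A := A)
  let qJ : A →ₐ[k] A ⧸ J := Ideal.Quotient.mkₐ k J
  -- the ideal of the subgroup of multiplicative type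
  have hJπ : ∀ x ∈ J, π x = 0 := by
    letI := H20FF.subHopf (isHopfSub_uni (k := k) (A := A))
    obtain ⟨J₀, hJ₀, hm, hJ₀eq⟩ := exists_largest_multType (k := k) (A := A)
    have h0 := hJmax J₀ hm
    intro x hx
    have hx' := h0 hx
    rw [hJ₀eq] at hx'
    refine (Ideal.map_le_iff_le_comap (K := RingHom.ker (π : A →ₐ[k] A))).2 ?_ hx'
    intro y hy
    show π (y : A) = 0
    rw [hπu _ y.2]
    have : CoalgebraStruct.counit (R := k) (y : A) = 0 := (RingHom.mem_ker (f := Bialgebra.counitAlgHom k (uni k A))).1 hy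
    rw [this, map_zero]
  have hqJπ : qJ.comp (π : A →ₐ[k] A) = qJ := by
    have h1 : qJ.comp (υ : A →ₐ[k] A) = (1 : WithConv (A →ₐ[k] A ⧸ J)).ofConv := AlgHom.ext fun a => by
      have h := Ideal.Quotient.eq.2 (uni_sub_mem J hJ (hυmem a))
      show Ideal.Quotient.mk J (υ a) = _
      rw [h, CoalgHomClass.counit_comp_apply υ a, Ideal.Quotient.mk_algebraMap]
      rfl
    have h2 := congrArg (fun f : WithConv (A →ₐ[k] A) => qJ.comp f.ofConv) hsplit
    simp only [AlgHom.comp_convMul_distrib, ofConv_toConv, AlgHom.comp_id] at h2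
    rw [h1, toConv_ofConv, _root_.mul_one, ofConv_toConv] at h2
    exact h2
  -- the unipotent subgroup
  let I : Ideal A := RingHom.ker (υ : A →ₐ[k] A)
  have hυυ : ∀ a, υ (υ a) = υ a := fun a => hυu _ (hυmem a)
  haveI hI : I.IsHopfIdeal k := by
    let u := (υ : A →ₐ[k] A).codRestrict (uni k A) hυmem
    letI := H20FF.subHopf (isHopfSub_uni (k := k) (A := A))
    have hinj : Function.Injective (TensorProduct.map (uni k A).val.toLinearMap (uni k A).val.toLinearMap) :=
      H20FF.valMap_injective (uni k A)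
    let uB : A →ₐc[k] uni k A := BialgHom.ofAlgHom u (AlgHom.ext fun a => CoalgHomClass.counit_comp_apply υ a)
      (AlgHom.ext fun a => hinj (by
        show TensorProduct.map _ _ (TensorProduct.map u.toLinearMap u.toLinearMap (CoalgebraStruct.comul (R := k) a)) =
          TensorProduct.map _ _ (H20FF.subComul (isHopfSub_uni (k := k) (A := A)) (u a))
        rw [show TensorProduct.map (uni k A).val.toLinearMap (uni k A).val.toLinearMap
            (H20FF.subComul (isHopfSub_uni (k := k) (A := A)) (u a)) = CoalgebraStruct.comul (R := k) (υ a) from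
          H20FF.valMap_subComul (isHopfSub_uni (k := k) (A := A)) (u a),
          ← CoalgHomClass.map_comp_comul_apply υ a, ← LinearMap.comp_apply, ← TensorProduct.map_comp]
        rfl))
    have hs : Function.Surjective uB := fun b => ⟨b, Subtype.ext (hυu _ b.2)⟩
    have h := isHopfIdeal_ker_bialgHom uB hs
    have hk : RingHom.ker (uB : A →ₐ[k] uni k A) = I := by
      ext x
      exact ⟨fun hx => congrArg Subtype.val (RingHom.mem_ker.1 hx), fun hx => Subtype.ext hx⟩
    exact hk ▸ h
  let qI : A →ₐ[k] A ⧸ I := Ideal.Quotient.mkₐ k I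
  have hqIυ : qI.comp (υ : A →ₐ[k] A) = qI := AlgHom.ext fun a => Ideal.Quotient.eq.2 (RingHom.mem_ker.2 (by
    show υ (υ a - a) = 0
    rw [map_sub, hυυ, sub_self]))
  have hqIπ : qI.comp (π : A →ₐ[k] A) = (1 : WithConv (A →ₐ[k] A ⧸ I)).ofConv := AlgHom.ext fun a => by
    show Ideal.Quotient.mk I (π a) = algebraMap k (A ⧸ I) _
    rw [← Ideal.Quotient.mk_algebraMap, Ideal.Quotient.eq]
    refine RingHom.mem_ker.2 ?_
    show υ (π a - _) = 0
    rw [map_sub, hυπ, AlgHomClass.commutes]
    exact sub_self _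
  let f := (Algebra.TensorProduct.map qJ qI).comp (Bialgebra.comulAlgHom k A)
  let iL : A ⧸ J →ₐ[k] (A ⧸ J) ⊗[k] (A ⧸ I) := Algebra.TensorProduct.includeLeft
  let iR : A ⧸ I →ₐ[k] (A ⧸ J) ⊗[k] (A ⧸ I) := Algebra.TensorProduct.includeRight
  have hf : f = (toConv (iL.comp qJ) * toConv (iR.comp qI)).ofConv := AlgHom.ext fun a => by
    show TensorProduct.map qJ.toLinearMap qI.toLinearMap (CoalgebraStruct.comul (R := k) a) =
      LinearMap.mul' k _ (TensorProduct.map (iL.comp qJ).toLinearMap (iR.comp qI).toLinearMap (CoalgebraStruct.comul (R := k) a))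
    generalize CoalgebraStruct.comul (R := k) a = z
    induction z using TensorProduct.induction_on with
    | zero => simp
    | tmul x y => simp [iL, iR]
    | add x y hx hy => simp only [map_add, hx, hy]
  have hfπ : f.comp (π : A →ₐ[k] A) = iL.comp qJ := by
    rw [hf, AlgHom.convMul_comp_bialgHom_distrib, ofConv_toConv, ofConv_toConv, AlgHom.comp_assoc, AlgHom.comp_assoc,
      hqJπ, hqIπ]
    have : iR.comp (1 : WithConv (A →ₐ[k] A ⧸ I)).ofConv = (1 : WithConv (A →ₐ[k] (A ⧸ J) ⊗[k] (A ⧸ I))).ofConv :=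
      AlgHom.ext fun a => AlgHom.commutes iR _
    rw [this]
    exact congrArg WithConv.ofConv (_root_.mul_one (toConv (iL.comp qJ)))
  have hfυ : f.comp (υ : A →ₐ[k] A) = iR.comp qI := by
    have h1 : qJ.comp (υ : A →ₐ[k] A) = (1 : WithConv (A →ₐ[k] A ⧸ J)).ofConv := AlgHom.ext fun a => by
      have h := Ideal.Quotient.eq.2 (uni_sub_mem J hJ (hυmem a))
      show Ideal.Quotient.mk J (υ a) = _
      rw [h, CoalgHomClass.counit_comp_apply υ a, Ideal.Quotient.mk_algebraMap]
      rfl
    rw [hf, AlgHom.convMul_comp_bialgHom_distrib, ofConv_toConv, ofConv_toConv, AlgHom.comp_assoc, AlgHom.comp_assoc,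
      h1, hqIυ]
    have : iL.comp (1 : WithConv (A →ₐ[k] A ⧸ J)).ofConv = (1 : WithConv (A →ₐ[k] (A ⧸ J) ⊗[k] (A ⧸ I))).ofConv :=
      AlgHom.ext fun a => AlgHom.commutes iL _
    rw [this]
    exact congrArg WithConv.ofConv (_root_.one_mul (toConv (iR.comp qI)))
  let π' : A ⧸ J →ₐ[k] A := Ideal.Quotient.liftₐ J (π : A →ₐ[k] A) hJπ
  let υ' : A ⧸ I →ₐ[k] A := Ideal.Quotient.liftₐ I (υ : A →ₐ[k] A) fun x hx => RingHom.mem_ker.1 hx
  let g : (A ⧸ J) ⊗[k] (A ⧸ I) →ₐ[k] A := Algebra.TensorProduct.lift π' υ' fun _ _ => Commute.all _ _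
  have hgf : g.comp f = AlgHom.id k A := by
    rw [hf, AlgHom.comp_convMul_distrib]
    have e1 : g.comp (iL.comp qJ) = (π : A →ₐ[k] A) := AlgHom.ext fun a => by
      show g (qJ a ⊗ₜ[k] (1 : A ⧸ I)) = _
      rw [Algebra.TensorProduct.lift_tmul, map_one υ', _root_.mul_one]
      rfl
    have e2 : g.comp (iR.comp qI) = (υ : A →ₐ[k] A) := AlgHom.ext fun a => by
      show g ((1 : A ⧸ J) ⊗ₜ[k] qI a) = _
      rw [Algebra.TensorProduct.lift_tmul, map_one π', one_mul]
      rfl
    rw [ofConv_toConv, ofConv_toConv, e1, e2, hsplit, ofConv_toConv]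
  have hsurj : Function.Surjective f := fun z => by
    induction z using TensorProduct.induction_on with
    | zero => exact ⟨0, map_zero _⟩
    | add x y hx hy =>
      obtain ⟨a, rfl⟩ := hx
      obtain ⟨b, rfl⟩ := hy
      exact ⟨a + b, map_add _ _ _⟩
    | tmul x y =>
      obtain ⟨a, rfl⟩ := Ideal.Quotient.mk_surjective x
      obtain ⟨b, rfl⟩ := Ideal.Quotient.mk_surjective y
      refine ⟨π a * υ b, ?_⟩
      rw [map_mul, show f (π a) = iL (qJ a) from AlgHom.congr_fun hfπ a, show f (υ b) = iR (qI b) from AlgHom.congr_fun hfυ b]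
      simp [iL, iR, qJ, qI]
  have hinj : Function.Injective f := Function.LeftInverse.injective (g := g) (AlgHom.congr_fun hgf)
  have hUni : IsUnipotent k (A ⧸ I) := by
    letI := H20FF.subHopf (isHopfSub_uni (k := k) (A := A))
    refine isUnipotent_of_surjective ((Bialgebra.Quotient.mkBialgHom (R := k) I).comp
      (H20FF.subVal (isHopfSub_uni (k := k) (A := A)))) (fun y => ?_) isUnipotent_uni
    obtain ⟨a, rfl⟩ := Ideal.Quotient.mk_surjective y
    exact ⟨⟨υ a, hυmem a⟩, AlgHom.congr_fun hqIυ a⟩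
  refine ⟨I, ⟨hI, hUni, hinj, hsurj⟩, ?_⟩
  rintro I' ⟨hI', hU', hb'⟩
  haveI := hI'
  let q' : A →ₐ[k] A ⧸ I' := Ideal.Quotient.mkₐ k I'
  let qB := Bialgebra.Quotient.mkBialgHom (R := k) I'
  let K := AlgebraicClosure k
  let qK : K ⊗[k] A →ₐc[K] K ⊗[k] (A ⧸ I') := Bialgebra.TensorProduct.map (BialgHom.id K K) qB
  have hgl : ∀ g : K ⊗[k] A, IsGroupLikeElem K g → qK g = 1 := fun g hg => by
    have hz : ∀ z : K ⊗[k] (A ⧸ I'), z ∈ uni K (K ⊗[k] (A ⧸ I')) := fun z => by
      induction z using TensorProduct.induction_on with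
      | zero => exact zero_mem _
      | add x y hx hy => exact add_mem hx hy
      | tmul s a =>
        obtain ⟨n, hn⟩ := exists_mem_coFil hU' a
        rw [show s ⊗ₜ[k] a = s • ((1 : K) ⊗ₜ[k] a) by rw [TensorProduct.smul_tmul', smul_eq_mul, _root_.mul_one]]
        exact Subalgebra.smul_mem _ (show (1 : K) ⊗ₜ[k] a ∈ uni K _ from ⟨n, one_tmul_mem_coFil K hn⟩) _
    obtain ⟨n, hn⟩ := hz (qK g)
    exact eq_one_of_groupLike_mem_coFil (hg.map qK) hn
  have hq'π : q'.comp (π : A →ₐ[k] A) = (1 : WithConv (A →ₐ[k] A ⧸ I')).ofConv := by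
    let T : K ⊗[k] A →ₐ[K] K ⊗[k] (A ⧸ I') := (qK : K ⊗[k] A →ₐ[K] K ⊗[k] (A ⧸ I')).comp
      (Algebra.TensorProduct.map (AlgHom.id K K) (π : A →ₐ[k] A))
    have hT : T.toLinearMap = Algebra.linearMap K _ ∘ₗ CoalgebraStruct.counit (R := K) := ext_on fun g b hg hb => by
      show T (g * b) = algebraMap K _ (CoalgebraStruct.counit (R := K) (g * b))
      rw [map_mul T, show T g = 1 from (congrArg qK (hπg g hg)).trans (hgl g hg), one_mul, Bialgebra.counit_mul,
        hg.counit_eq_one, one_mul]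
      obtain ⟨n, hn⟩ := hb
      refine LinearMap.eqOn_span ?_ (mem_span_of_mem_coFil_baseChange K hn) (f := T.toLinearMap)
        (g := Algebra.linearMap K _ ∘ₗ CoalgebraStruct.counit (R := K))
      rintro _ ⟨a, ha, rfl⟩
      show (1 : K) ⊗ₜ[k] q' (π a) = algebraMap K _ (CoalgebraStruct.counit (R := K) ((1 : K) ⊗ₜ[k] a))
      rw [hπu a ⟨n, ha⟩, AlgHom.commutes, TensorProduct.counit_tmul, CommSemiring.counit_apply,
        Algebra.algebraMap_eq_smul_one (A := A ⧸ I'),
        TensorProduct.tmul_smul, TensorProduct.smul_tmul', Algebra.TensorProduct.algebraMap_apply]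
      rfl
    refine AlgHom.ext fun a => one_tmul_inj (k := k) K ?_
    refine (LinearMap.congr_fun hT ((1 : K) ⊗ₜ[k] a)).trans ?_
    show algebraMap K _ (CoalgebraStruct.counit (R := K) ((1 : K) ⊗ₜ[k] a)) = (1 : K) ⊗ₜ[k] algebraMap k (A ⧸ I') _
    rw [TensorProduct.counit_tmul, CommSemiring.counit_apply, Algebra.algebraMap_eq_smul_one (A := A ⧸ I'),
      TensorProduct.tmul_smul, TensorProduct.smul_tmul', Algebra.TensorProduct.algebraMap_apply]
    rfl
  have hle : I ≤ I' := by
    intro a ha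
    have h2 := congrArg (fun f : WithConv (A →ₐ[k] A) => q'.comp f.ofConv) hsplit
    simp only [AlgHom.comp_convMul_distrib, ofConv_toConv, AlgHom.comp_id] at h2
    rw [hq'π, toConv_ofConv, one_mul, ofConv_toConv] at h2
    refine Ideal.Quotient.eq_zero_iff_mem.1 ?_
    show q' a = 0
    rw [← show q' (υ a) = q' a from AlgHom.congr_fun h2 a, show υ a = 0 from ha, map_zero]
  refine le_antisymm (fun a ha => ?_) hle
  -- the projection between the two unipotent quotients is injective
  let p : A ⧸ I →ₐ[k] A ⧸ I' := Ideal.Quotient.factorₐ k hle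
  have hcomp : ∀ z, Algebra.TensorProduct.map (AlgHom.id k (A ⧸ J)) p (f z) =
      ((Algebra.TensorProduct.map (Ideal.Quotient.mkₐ k J) (Ideal.Quotient.mkₐ k I')).comp (Bialgebra.comulAlgHom k A)) z := by
    intro z
    show Algebra.TensorProduct.map (AlgHom.id k (A ⧸ J)) p (Algebra.TensorProduct.map qJ qI (Bialgebra.comulAlgHom k A z)) =
      Algebra.TensorProduct.map qJ q' (Bialgebra.comulAlgHom k A z)
    generalize Bialgebra.comulAlgHom k A z = w
    induction w using TensorProduct.induction_on with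
    | zero => simp
    | tmul x y => rfl
    | add x y hx hy => simp only [map_add, hx, hy]
  haveI : Nontrivial (A ⧸ J) := by
    refine Ideal.Quotient.nontrivial_iff.2 fun htop => one_ne_zero (α := k) ?_
    have h := congrArg (CoalgebraStruct.counit (R := k)) (hJπ 1 (htop ▸ Submodule.mem_top))
    rwa [map_one, Bialgebra.counit_one, map_zero] at h
  have hker : p (qI a) = 0 := Ideal.Quotient.eq_zero_iff_mem.2 ha
  obtain ⟨w, hw⟩ := hsurj ((1 : A ⧸ J) ⊗ₜ[k] qI a)
  have hw0 : w = 0 := hb'.1 (by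
    rw [← hcomp, hw, Algebra.TensorProduct.map_tmul, hker, TensorProduct.tmul_zero, map_zero])
  rw [hw0, map_zero] at hw
  have : qI a = 0 :=
    Algebra.TensorProduct.includeRight_injective (algebraMap k (A ⧸ J)).injective
      (hw.symm.trans (map_zero (Algebra.TensorProduct.includeRight : A ⧸ I →ₐ[k] (A ⧸ J) ⊗[k] (A ⧸ I))).symm)
  exact Ideal.Quotient.eq_zero_iff_mem.1 this

end Groth.Agent.S5433
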