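import Groth.Statements.S5441
import Groth.Agent.H06Red.Algebra

set_option autoImplicit false
set_option maxHeartbeats 1000000
set_option synthInstance.maxHeartbeats 100000
set_option linter.style.haveILetI false
set_option backward.isDefEq.respectTransparency false
universe u
open TensorProduct
open SGA3

namespace Groth.Agent.S5441

open TensorProduct WithConv Coalgebra
open Groth.Agent

/-- A reduced geometrically reduced algebra separated by few points has small dimension. -/
theorem finrank_le_of_points {k : Type u} [Field k] {R : Type u} [CommRing R] [Algebra k R]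
    [Algebra.FiniteType k R] [Algebra.IsGeometricallyReduced k R] [Finite (R →ₐ[k] AlgebraicClosure k)] :
    Module.Finite k R ∧ Module.finrank k R ≤ Nat.card (R →ₐ[k] AlgebraicClosure k) := by
  classical
  let K := AlgebraicClosure k
  let P := R →ₐ[k] K
  haveI : IsReduced (K ⊗[k] R) := inferInstance
  let Φ : K ⊗[k] R →ₗ[K] (P → K) :=
    LinearMap.pi fun p => (Algebra.TensorProduct.lift (Algebra.ofId K K) p
      fun _ _ => Commute.all _ _).toLinearMap
  have hinj : Function.Injective Φ := by
    rw [injective_iff_map_eq_zero]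
    intro z hz
    haveI : Algebra.FiniteType K (K ⊗[k] R) := inferInstance
    haveI : IsJacobsonRing (K ⊗[k] R) := isJacobsonRing_of_finiteType (A := K)
    have hz' : z ∈ (⊥ : Ideal (K ⊗[k] R)).jacobson := by
      refine Ideal.mem_sInf.2 fun m hm => ?_
      haveI := hm.2
      letI := Ideal.Quotient.field m
      haveI : Algebra.FiniteType K ((K ⊗[k] R) ⧸ m) := inferInstance
      haveI : Module.Finite K ((K ⊗[k] R) ⧸ m) := finite_of_finite_type_of_isJacobsonRing K _
      have hb : Function.Bijective (algebraMap K ((K ⊗[k] R) ⧸ m)) :=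
        IsAlgClosed.algebraMap_bijective_of_isIntegral
      let f : K ⊗[k] R →ₐ[K] K :=
        (AlgEquiv.ofBijective (Algebra.ofId K ((K ⊗[k] R) ⧸ m)) hb).symm.toAlgHom.comp (Ideal.Quotient.mkₐ K m)
      let p : P := (f.restrictScalars k).comp Algebra.TensorProduct.includeRight
      have hp : f.toLinearMap = (LinearMap.proj p).comp Φ := by
        refine TensorProduct.AlgebraTensorModule.ext fun c r => ?_
        show f (c ⊗ₜ[k] r) = Algebra.TensorProduct.lift (Algebra.ofId K K) p (fun _ _ => Commute.all _ _) (c ⊗ₜ[k] r)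
        rw [Algebra.TensorProduct.lift_tmul,
          show (c ⊗ₜ[k] r : K ⊗[k] R) = c • ((1 : K) ⊗ₜ[k] r) by rw [TensorProduct.smul_tmul', smul_eq_mul, mul_one],
          map_smul, smul_eq_mul]
        rfl
      have h0 : f z = 0 := by
        have := LinearMap.congr_fun hp z
        simp only [LinearMap.comp_apply, LinearMap.proj_apply, hz, Pi.zero_apply] at this
        exact this
      refine Ideal.Quotient.eq_zero_iff_mem.1 ?_
      exact (AlgEquiv.ofBijective (Algebra.ofId K ((K ⊗[k] R) ⧸ m)) hb).symm.injective (h0.trans (map_zero _).symm)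
    rw [← Ideal.radical_eq_jacobson] at hz'
    have hnil : IsNilpotent z := mem_nilradical.1 hz'
    exact IsReduced.eq_zero z hnil
  haveI : Fintype P := Fintype.ofFinite P
  haveI : Module.Finite K (K ⊗[k] R) := Module.Finite.of_injective Φ hinj
  haveI : Module.Finite k R := Module.Finite.of_finite_tensorProduct_of_faithfullyFlat K
  refine ⟨inferInstance, ?_⟩
  calc Module.finrank k R = Module.finrank K (K ⊗[k] R) := Module.finrank_baseChange.symm
    _ ≤ Module.finrank K (P → K) := LinearMap.finrank_le_finrank_of_injective hinj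
    _ = Nat.card P := by rw [Module.finrank_fintype_fun_eq_card, Nat.card_eq_fintype_card]


/-- Let k be a perfect field, A a finitely generated commutative Hopf algebra (an algebraic group H), ψ
: C → A an injective bialgebra map with C an étale k-algebra (the étale quotient H″), J the Hopf
ideal of A generated by the image of the augmentation ideal of C (the kernel H′ = Spec (A/J)), with
A/J a local ring (H′ radiciel). Then H″ lifts uniquely into H and the lifting is the reduced
subgroup: there is exactly one bialgebra map r : A → C with r ∘ ψ = id, and every such r has kernel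
the nilradical of A. -/
theorem result (k : Type u) [Field k] [PerfectField k] (A C : Type u) [CommRing A] [HopfAlgebra k A] [Algebra.FiniteType k A]
    [CommRing C] [HopfAlgebra k C] [Algebra.Etale k C] (ψ : C →ₐc[k] A) (hψ : Function.Injective ψ)
    (J : Ideal A) [J.IsHopfIdeal k] (hJ : J = Ideal.map (ψ : C →+* A) (RingHom.ker (Bialgebra.counitAlgHom k C)))
    [IsLocalRing (A ⧸ J)] :
    (∃! r : A →ₐc[k] C, r.comp ψ = BialgHom.id k C) ∧
    ∀ r : A →ₐc[k] C, r.comp ψ = BialgHom.id k C → RingHom.ker (r : A →+* C) = nilradical A := by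
  classical
  let N : Ideal A := nilradical A
  let mk : A →ₐ[k] A ⧸ N := Ideal.Quotient.mkₐ k N
  haveI : IsReduced (A ⧸ N) := (Ideal.isRadical_iff_quotient_reduced N).1 (by
    show (nilradical A).IsRadical
    exact Ideal.radical_isRadical _)
  haveI : Algebra.FiniteType k (A ⧸ N) := inferInstance
  haveI : Algebra.IsGeometricallyReduced k (A ⧸ N) := H06Red.isGeometricallyReduced_of_perfectField k _
  let K := AlgebraicClosure k
  haveI : Module.Finite k C := Algebra.FormallyUnramified.finite_of_free k C
  -- points are determined on `C`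
  have hres : Function.Injective (fun p : A ⧸ N →ₐ[k] K => (p.comp mk).comp (ψ : C →ₐ[k] A)) := by
    intro p p' h
    let g : WithConv (A →ₐ[k] K) := toConv (p.comp mk)
    let g' : WithConv (A →ₐ[k] K) := toConv (p'.comp mk)
    let inv' : WithConv (A →ₐ[k] K) → WithConv (A →ₐ[k] K) :=
      fun f => toConv (f.ofConv.comp (HopfAlgebra.antipodeAlgHom k A))
    have hinv : ∀ f : WithConv (A →ₐ[k] K), inv' f * f = 1 := fun f => by
      have h1 := congrArg (fun z : WithConv (A →ₐ[k] A) => toConv (f.ofConv.comp z.ofConv))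
        (AlgHom.antipode_id_cancel (R := k) (A := A))
      simp only [AlgHom.comp_convMul_distrib] at h1
      refine Eq.trans h1 (WithConv.ofConv_injective (AlgHom.ext fun x => ?_))
      show f.ofConv (algebraMap k A _) = algebraMap k K _
      rw [AlgHom.commutes]
    let d : WithConv (A →ₐ[k] K) := inv' g' * g
    have hd : ∀ c, d.ofConv (ψ c) = algebraMap k K (Coalgebra.counit c) := by
      intro c
      have e1 : toConv (d.ofConv.comp (ψ : C →ₐ[k] A)) =
          toConv ((inv' g').ofConv.comp (ψ : C →ₐ[k] A)) * toConv (g.ofConv.comp (ψ : C →ₐ[k] A)) :=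
        WithConv.ofConv_injective (AlgHom.convMul_comp_bialgHom_distrib (inv' g') g ψ)
      have e2 : toConv ((inv' g').ofConv.comp (ψ : C →ₐ[k] A)) * toConv (g'.ofConv.comp (ψ : C →ₐ[k] A)) = 1 := by
        refine WithConv.ofConv_injective ((AlgHom.convMul_comp_bialgHom_distrib (inv' g') g' ψ).symm.trans ?_)
        rw [hinv]
        refine AlgHom.ext fun x => ?_
        show algebraMap k K (Coalgebra.counit (ψ x)) = algebraMap k K (Coalgebra.counit x)
        rw [CoalgHomClass.counit_comp_apply]
      have h' : g.ofConv.comp (ψ : C →ₐ[k] A) = g'.ofConv.comp (ψ : C →ₐ[k] A) := h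
      rw [h', e2] at e1
      exact AlgHom.congr_fun (congrArg WithConv.ofConv e1) c
    have hJd : ∀ a ∈ J, d.ofConv a = 0 := by
      intro a ha
      have : J ≤ RingHom.ker (d.ofConv : A →+* K) := by
        rw [hJ, Ideal.map_le_iff_le_comap]
        intro c hc
        rw [Ideal.mem_comap, RingHom.mem_ker]
        show d.ofConv (ψ c) = 0
        rw [hd]
        rw [show Coalgebra.counit (R := k) c = 0 from hc, map_zero]
      exact this ha
    let dq : A ⧸ J →ₐ[k] K := Ideal.Quotient.liftₐ J d.ofConv hJd
    have hJe : J ≤ RingHom.ker (Bialgebra.counitAlgHom k A) := by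
      rw [hJ, Ideal.map_le_iff_le_comap]
      intro c hc
      rw [Ideal.mem_comap, RingHom.mem_ker]
      show Coalgebra.counit (R := k) (ψ c) = 0
      rw [CoalgHomClass.counit_comp_apply]
      exact hc
    let eq : A ⧸ J →ₐ[k] k := Ideal.Quotient.liftₐ J (Bialgebra.counitAlgHom k A) hJe
    haveI : Algebra.FiniteType k (A ⧸ J) := inferInstance
    have hmaxd : (RingHom.ker (dq : A ⧸ J →+* K)).IsMaximal := by
      haveI : Algebra.IsIntegral k dq.range :=
        ⟨fun x => (isIntegral_algHom_iff dq.range.val Subtype.val_injective).1 (Algebra.IsIntegral.isIntegral _)⟩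
      have hf : IsField dq.range := isField_of_isIntegral_of_isField' (Field.toIsField k)
      rw [show RingHom.ker (dq : A ⧸ J →+* K) = RingHom.ker (dq.rangeRestrict : A ⧸ J →+* dq.range) from by
        ext x; simp [RingHom.mem_ker, Subtype.ext_iff]]
      letI := hf.toField
      exact RingHom.ker_isMaximal_of_surjective _ dq.rangeRestrict_surjective
    have hmaxe : (RingHom.ker (eq : A ⧸ J →+* k)).IsMaximal :=
      RingHom.ker_isMaximal_of_surjective _ fun r => ⟨algebraMap k _ r, AlgHom.commutes eq r⟩
    have hkk : RingHom.ker (dq : A ⧸ J →+* K) = RingHom.ker (eq : A ⧸ J →+* k) :=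
      (IsLocalRing.eq_maximalIdeal hmaxd).trans (IsLocalRing.eq_maximalIdeal hmaxe).symm
    have hd1 : d = 1 := by
      refine WithConv.ofConv_injective (AlgHom.ext fun a => ?_)
      have ha : Ideal.Quotient.mk J (a - algebraMap k A (Coalgebra.counit a)) ∈ RingHom.ker (eq : A ⧸ J →+* k) := by
        rw [RingHom.mem_ker]
        show Bialgebra.counitAlgHom k A (a - algebraMap k A (Coalgebra.counit a)) = 0
        rw [map_sub, AlgHom.commutes]
        exact sub_self _
      rw [← hkk, RingHom.mem_ker] at ha
      change d.ofConv (a - algebraMap k A (Coalgebra.counit a)) = 0 at ha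
      rw [map_sub, AlgHom.commutes, sub_eq_zero] at ha
      exact ha
    have hright : g' * inv' g' = 1 := by
      calc g' * inv' g' = inv' (inv' g') * inv' g' * (g' * inv' g') := by rw [hinv, _root_.one_mul]
        _ = inv' (inv' g') * (inv' g' * g') * inv' g' := by simp only [_root_.mul_assoc]
        _ = 1 := by rw [hinv g', _root_.mul_one, hinv]
    have hgg : g = g' := by
      calc g = g' * inv' g' * g := by rw [hright, _root_.one_mul]
        _ = g' * d := _root_.mul_assoc _ _ _
        _ = g' := by rw [hd1, _root_.mul_one]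
    exact Ideal.Quotient.algHom_ext k (WithConv.toConv_injective hgg)
  haveI : Finite (C →ₐ[k] K) := inferInstance
  haveI : Finite (A ⧸ N →ₐ[k] K) := Finite.of_injective _ hres
  obtain ⟨hfinA, hle⟩ := finrank_le_of_points (k := k) (R := A ⧸ N)
  haveI := hfinA
  haveI : IsReduced C := Algebra.FormallyUnramified.isReduced_of_field k C
  let χ : C →ₐ[k] A ⧸ N := mk.comp (ψ : C →ₐ[k] A)
  have hχinj : Function.Injective χ := by
    rw [injective_iff_map_eq_zero]
    intro c hc
    have hnil : IsNilpotent (ψ c) := mem_nilradical.1 (Ideal.Quotient.eq_zero_iff_mem.1 hc)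
    obtain ⟨n, hn⟩ := hnil
    have : c ^ n = 0 := hψ (by rw [map_pow, hn, map_zero])
    exact (IsReduced.eq_zero c ⟨n, this⟩)
  have hdim : Module.finrank k (A ⧸ N) = Module.finrank k C := le_antisymm
    (hle.trans ((Nat.card_le_card_of_injective _ hres).trans (card_algHom_le_finrank k C K)))
    (LinearMap.finrank_le_finrank_of_injective (f := χ.toLinearMap) hχinj)
  have hχ : Function.Bijective χ :=
    ⟨hχinj, (LinearMap.injective_iff_surjective_of_finrank_eq_finrank hdim.symm (f := χ.toLinearMap)).1 hχinj⟩
  let r₀ : A →ₐ[k] C := (AlgEquiv.ofBijective χ hχ).symm.toAlgHom.comp mk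
  have hrψ : ∀ c, r₀ (ψ c) = c := fun c => (AlgEquiv.ofBijective χ hχ).symm_apply_apply c
  have hdec : ∀ a, ∃ c, a - ψ c ∈ N := fun a => by
    obtain ⟨c, hc⟩ := hχ.2 (mk a)
    exact ⟨c, Ideal.Quotient.eq.1 hc.symm⟩
  haveI : Algebra.Etale k (C ⊗[k] C) := Algebra.Etale.comp k C (C ⊗[k] C)
  haveI : IsReduced (C ⊗[k] C) := Algebra.FormallyUnramified.isReduced_of_field k _
  have hred : ∀ {T : Type u} [CommRing T] [IsReduced T] [Algebra k T] (f g : A →ₐ[k] T),
      (∀ c, f (ψ c) = g (ψ c)) → f = g := by
    intro T _ _ _ f g h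
    refine AlgHom.ext fun a => ?_
    obtain ⟨c, hc⟩ := hdec a
    have hf : f (a - ψ c) = 0 := IsReduced.eq_zero _ ((mem_nilradical.1 hc).map f)
    have hg : g (a - ψ c) = 0 := IsReduced.eq_zero _ ((mem_nilradical.1 hc).map g)
    rw [map_sub, sub_eq_zero] at hf hg
    rw [hf, hg, h]
  let r : A →ₐc[k] C := BialgHom.ofAlgHom r₀
    (hred _ _ fun c => by
      show Coalgebra.counit (R := k) (r₀ (ψ c)) = Coalgebra.counit (R := k) (ψ c)
      rw [hrψ, CoalgHomClass.counit_comp_apply])
    (hred _ _ fun c => by
      show Algebra.TensorProduct.map r₀ r₀ (Coalgebra.comul (R := k) (ψ c)) = Coalgebra.comul (R := k) (r₀ (ψ c))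
      rw [hrψ, ← CoalgHomClass.map_comp_comul_apply ψ c]
      induction Coalgebra.comul (R := k) c using TensorProduct.induction_on with
      | zero => simp
      | tmul x y => simp [hrψ]
      | add x y hx hy => simp only [map_add, hx, hy])
  refine ⟨⟨r, DFunLike.ext _ _ hrψ, fun r' hr' => ?_⟩, fun r' hr' => ?_⟩
  · refine DFunLike.ext _ _ fun a => ?_
    exact AlgHom.congr_fun (hred (r' : A →ₐ[k] C) r₀ fun c => by
      rw [hrψ]
      exact DFunLike.congr_fun hr' c) a
  · refine le_antisymm (fun a ha => ?_) fun a ha => RingHom.mem_ker.2 (IsReduced.eq_zero _ ((mem_nilradical.1 ha).map _))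
    obtain ⟨c, hc⟩ := hdec a
    have h0 : (r' : A →+* C) (a - ψ c) = 0 := IsReduced.eq_zero _ ((mem_nilradical.1 hc).map _)
    rw [map_sub, RingHom.mem_ker.1 ha, zero_sub, neg_eq_zero] at h0
    have hc0 : c = 0 := (DFunLike.congr_fun hr' c).symm.trans h0
    rw [hc0, map_zero, sub_zero] at hc
    exact hc

end Groth.Agent.S5441
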