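import Groth.Statements.S5442
import Groth.Agent.H21Diag.Invariants

set_option autoImplicit false
universe u
open CategoryTheory MonoidalCategory CartesianMonoidalCategory MonObj GrpObj AlgebraicGeometry CategoryTheory.Limits
open SGA3x

namespace Groth.Agent.S5442

/-- Let S be a scheme, G an S-group scheme separated and smooth over S, and H an S-group of
multiplicative type and of finite type acting on G by group automorphisms (on points, h · (g g′) =
(h · g)(h · g′)). Then the functor Z = G^H of invariants (points of G fixed by all points of H after
any base change) is representable by a closed subgroup scheme of G which is smooth over S: there are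
an S-group Z and a homomorphism Z → G which is a closed immersion, with Z smooth over S, whose
points are exactly the invariant points. (The published statement allows any S-group of
multiplicative type; this row assumes it moreover of finite type.) -/
theorem result (S : Scheme.{u}) (H G : Over S) [GrpObj H] [GrpObj G] (hH : SGA3x.IsMultTypeFT H)
    [IsSeparated G.hom] [Smooth G.hom] (a : AlgGrp.Action H G)
    (hmul : ∀ (X : Over S) (h : X ⟶ H) (g g' : X ⟶ G),
      lift h (g * g') ≫ a.act = (lift h g ≫ a.act) * (lift h g' ≫ a.act)) :
    ∃ (Z : Over S) (_ : GrpObj Z) (z : Z ⟶ G) (_ : IsMonHom z), IsClosedImmersion z.left ∧ Smooth Z.hom ∧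
      ∀ (X : Over S) (g : X ⟶ G), (∃ x : X ⟶ Z, x ≫ z = g) ↔
        ∀ (X' : Over S) (f : X' ⟶ X) (h : X' ⟶ H), lift h (f ≫ g) ≫ a.act = f ≫ g := by
  exact Groth.Agent.H21Diag.exists_invariants hH inferInstance a hmul

end Groth.Agent.S5442
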