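import Groth.Statements.S5446
import Groth.Agent.H21Root.Cone

set_option autoImplicit false
open RootD

namespace Groth.Agent.S5446

open Groth.Agent.H21Root

/-- If the roots indexed by Δ are indivisible and linearly independent and every root is, up to sign, a
non-negative rational combination of them (some positive multiple is a non-negative integer
combination), then Δ is a system of simple roots: every root is, up to sign, a non-negative integer
combination of Δ. -/
theorem result {ι M N : Type*} [AddCommGroup M] [AddCommGroup N]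
    (P : RootPairing ι ℤ M N) [Finite ι] (Δ : Set ι)
    (hind : ∀ i ∈ Δ, RootD.IsIndiv P i) (hli : LinearIndepOn ℤ P.root Δ)
    (hcone : ∀ k : ι, ∃ n : ℕ, 0 < n ∧
      (n • P.root k ∈ RootD.natSpan P Δ ∨ n • (-P.root k) ∈ RootD.natSpan P Δ)) :
    RootD.IsSimpleSys P Δ := by
  let S : Set ι := {k | ∃ n : ℕ, 0 < n ∧ n • P.root k ∈ RootD.natSpan P Δ}
  have hli' : LinearIndepOn ℤ P.root Δ := hli
  have hS : RootD.IsPosSys P S := by
    refine isPosSys_of_closed P ?_ ?_ ?_
    · rintro i ⟨n, hn, h⟩ ⟨n', hn', h'⟩
      obtain ⟨m, hm, he⟩ := (mem_natSpan_iff P).mp h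
      obtain ⟨m', hm', he'⟩ := (mem_natSpan_iff P).mp h'
      have hz := (rsum_eq_zero_iff P hli' (m := n' • m + n • m')
        (fun a ha => (Multiset.mem_add.mp ha).elim (fun h => hm a (Multiset.mem_of_mem_nsmul h))
          (fun h => hm' a (Multiset.mem_of_mem_nsmul h)))).mp
        (by rw [rsum_add, rsum_nsmul, rsum_nsmul, he, he', root_opp, ← mul_smul, ← mul_smul,
          smul_neg, mul_comm, add_neg_cancel])
      have hm0 : m = 0 := by
        have := congrArg Multiset.card hz
        simp only [Multiset.card_add, Multiset.card_nsmul, Multiset.card_zero, Nat.add_eq_zero_iff,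
          mul_eq_zero] at this
        exact Multiset.card_eq_zero.mp (this.1.resolve_left hn'.ne')
      have := tf_left P
      rw [hm0, rsum_zero, eq_comm, nsmul_eq_zero_iff_right hn.ne'] at he
      exact root_ne_zero P i he
    · intro i
      obtain ⟨n, hn, h | h⟩ := hcone i
      · exact Or.inl ⟨n, hn, h⟩
      · exact Or.inr ⟨n, hn, by rw [root_opp]; exact h⟩
    · rintro i j k ⟨n, hn, h⟩ ⟨n', hn', h'⟩ he
      refine ⟨n * n', Nat.mul_pos hn hn', ?_⟩
      rw [he, smul_add]
      exact AddSubmonoid.add_mem _ (by rw [mul_comm, mul_smul]; exact AddSubmonoid.nsmul_mem _ h _)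
        (by rw [mul_smul]; exact AddSubmonoid.nsmul_mem _ h' _)
  have hsub : Δ ⊆ S := fun a ha => ⟨1, one_pos, by rw [one_smul]; exact root_mem_natSpan P ha⟩
  rw [eq_simples_of_cone hS hind hsub hli' fun d hd => hd.1]
  exact (simpleZ_simples hS).isSimpleSys

end Groth.Agent.S5446
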