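import Groth.Statements.S5447
import Groth.Agent.H21Root.Cone

set_option autoImplicit false
open RootD

namespace Groth.Agent.S5447

open Groth.Agent.H21Root

/-- If every root can be written in exactly one way as an integer combination of the roots indexed by Δ
with coefficients all of the same sign, then these roots are linearly independent (so Δ is a system
of simple roots) and indivisible. -/
theorem result {ι M N : Type*} [AddCommGroup M] [AddCommGroup N]
    (P : RootPairing ι ℤ M N) [Finite ι] (Δ : Set ι)
    (h : ∀ k : ι, ∃! c : ι →₀ ℤ, (↑c.support ⊆ Δ ∧ ((∀ j, 0 ≤ c j) ∨ (∀ j, c j ≤ 0)) ∧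
      Finsupp.linearCombination ℤ P.root c = P.root k)) :
    RootD.IsSimpleSys P Δ ∧ ∀ i ∈ Δ, RootD.IsIndiv P i := by
  classical
  have huniq : ∀ (k : ι) (m m' : Multiset ι), (∀ a ∈ m, a ∈ Δ) → (∀ a ∈ m', a ∈ Δ) →
      rsum P m = P.root k → rsum P m' = P.root k → m = m' := by
    intro k m m' hm hm' he he'
    have := (h k).unique
      (y₁ := toF m) (y₂ := toF m')
      ⟨toF_mem_supported hm, Or.inl fun j => by rw [toF_apply]; exact Int.natCast_nonneg _,
        by rw [linearCombination_toF, he]⟩
      ⟨toF_mem_supported hm', Or.inl fun j => by rw [toF_apply]; exact Int.natCast_nonneg _,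
        by rw [linearCombination_toF, he']⟩
    ext a
    have := DFunLike.congr_fun this a
    rw [toF_apply, toF_apply] at this
    exact_mod_cast this
  have hcov : ∀ i, i ∈ RootD.posOf P Δ ∨ opp P i ∈ RootD.posOf P Δ := by
    intro i
    obtain ⟨c, ⟨hcs, hc, he⟩, -⟩ := h i
    have hsum : ∀ (d : ι →₀ ℤ), ↑d.support ⊆ Δ → (∀ j, 0 ≤ d j) →
        Finsupp.linearCombination ℤ P.root d ∈ RootD.natSpan P Δ := by
      intro d hd hd0
      rw [Finsupp.linearCombination_apply]
      refine AddSubmonoid.sum_mem _ fun a ha => ?_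
      simp only
      rw [← Int.toNat_of_nonneg (hd0 a), natCast_zsmul]
      exact AddSubmonoid.nsmul_mem _ (root_mem_natSpan P (hd ha)) _
    rcases hc with hc | hc
    · refine Or.inl ?_
      change P.root i ∈ RootD.natSpan P Δ
      rw [← he]; exact hsum c hcs hc
    · refine Or.inr ?_
      change P.root (opp P i) ∈ RootD.natSpan P Δ
      rw [root_opp, ← he, ← map_neg]
      exact hsum (-c) (by rwa [Finsupp.support_neg]) fun j => by simpa using hc j
  have hdisj : ∀ ⦃i⦄, i ∈ RootD.posOf P Δ → opp P i ∉ RootD.posOf P Δ := by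
    intro i hi ho
    obtain ⟨m, hm, he⟩ := (mem_natSpan_iff P).mp hi
    obtain ⟨m', hm', he'⟩ := (mem_natSpan_iff P).mp ho
    have := (h i).unique (y₁ := toF m) (y₂ := -toF m')
      ⟨toF_mem_supported hm, Or.inl fun j => by rw [toF_apply]; exact Int.natCast_nonneg _,
        by rw [linearCombination_toF, he]⟩
      ⟨by rw [Finsupp.support_neg]; exact toF_mem_supported hm',
        Or.inr fun j => by
          rw [Finsupp.neg_apply, toF_apply]
          exact Int.neg_nonpos_of_nonneg (Int.natCast_nonneg _),
        by rw [map_neg, linearCombination_toF, he', root_opp, neg_neg]⟩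
    have hm0 : m = 0 := by
      ext a
      have := DFunLike.congr_fun this a
      rw [Finsupp.neg_apply, toF_apply, toF_apply] at this
      simp only [Multiset.count_zero]
      lia
    exact root_ne_zero P i (by simpa [hm0] using he.symm)
  have hS := isPosSys_of_closed P hdisj hcov (posOf_closed P Δ)
  have hD := simpleZ_simples hS
  have hDΔ : simples P (RootD.posOf P Δ) ⊆ Δ := by
    intro d hd
    obtain ⟨m, hm, he⟩ := (mem_natSpan_iff P).mp hd.1
    obtain ⟨q, hq, hqe, hq'⟩ := rsum_subst hm fun a ha => exists_simples_sum hS (subset_posOf P Δ ha)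
    have hqd : q = {d} := rsum_inj P hD.li hq (by simpa using hd) (by rw [hqe, he, rsum_singleton])
    obtain ⟨a, ha⟩ : ∃ a, a ∈ m := Multiset.exists_mem_of_ne_zero fun h0 =>
      root_ne_zero P d (by simpa [h0] using he.symm)
    obtain ⟨p, hp, hpe⟩ := hq' a ha
    subst hqd
    rw [Multiset.eq_replicate_card.mpr (fun x hx => Multiset.mem_singleton.mp (hp x hx)),
      rsum_replicate] at hpe
    rcases nsmul_eq_one_or_two hpe.symm with h1 | h1 <;> rw [h1] at hpe
    · rw [one_smul] at hpe
      exact P.root.injective hpe ▸ hm a ha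
    · have := congrArg Multiset.card (huniq a {a} (2 • m) (by simpa using hm a ha)
        (fun x hx => hm x (Multiset.mem_of_mem_nsmul hx)) (by simp) (by rw [rsum_nsmul, he, hpe]))
      simp at this
      lia
  have hΔD : Δ = simples P (RootD.posOf P Δ) := by
    refine Set.Subset.antisymm (fun a ha => ?_) hDΔ
    obtain ⟨p, hp, hpe⟩ := exists_simples_sum hS (subset_posOf P Δ ha)
    have := huniq a p {a} (fun x hx => hDΔ (hp x hx)) (by simpa using ha) hpe (by simp)
    exact hp a (by simp [this])
  refine ⟨?_, fun i hi => hD.indiv_of_mem (hΔD ▸ hi)⟩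
  rw [hΔD]
  exact hD.isSimpleSys

end Groth.Agent.S5447
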