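import Groth.Statements.S5448
import Groth.Agent.H21Root.Weyl

set_option autoImplicit false
open RootD

namespace Groth.Agent.S5448

open Groth.Agent.H21Root

/-- The elements of a system of simple roots (root-only sense) are indivisible, i.e. none of them is
twice a root. -/
theorem result {ι M N : Type*} [AddCommGroup M] [AddCommGroup N]
    (P : RootPairing ι ℤ M N) [Finite ι] (Δ : Set ι) (hΔ : RootD.IsSimpleSys P Δ)
    (i : ι) (hi : i ∈ Δ) : RootD.IsIndiv P i := by
  exact (simpleZ_of_isSimpleSys hΔ).indiv_of_mem hi

end Groth.Agent.S5448
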