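import Groth.Statements.S5451
import Groth.Agent.H21Root.Basic

set_option autoImplicit false
open RootD

namespace Groth.Agent.S5451

open Groth.Agent.H21Root

/-- If a root is a positive integer combination of roots α_i, then it can be reached from 0 by
successively adding roots taken among the α_i in such a way that every partial sum is a root. -/
theorem result {ι M N : Type*} [AddCommGroup M] [AddCommGroup N]
    (P : RootPairing ι ℤ M N) [Finite ι] {n : ℕ} (a : Fin n → ι) (m : Fin n → ℕ)
    (hm : ∀ i, 0 < m i) (k : ι) (hk : P.root k = ∑ i, m i • P.root (a i)) :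
    ∃ (l : ℕ) (b : Fin l → Fin n), 0 < l ∧
      (∀ p : Fin l, ∃ j : ι, P.root j = ∑ q ∈ Finset.univ.filter (fun q : Fin l => q.val ≤ p.val), P.root (a (b q))) ∧
      P.root k = ∑ q, P.root (a (b q)) := by
  let m₀ : Multiset ι := Finset.univ.sum fun i => Multiset.replicate (m i) (a i)
  have hrs : rsum P m₀ = P.root k := by
    rw [hk]
    simp only [m₀, rsum]
    rw [← Multiset.coe_mapAddMonoidHom, map_sum, ← Multiset.coe_sumAddMonoidHom, map_sum]
    simp [Multiset.map_replicate, Multiset.sum_replicate]
  have hmem : ∀ x ∈ m₀, ∃ i, a i = x := by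
    intro x hx
    simp only [m₀, Multiset.mem_sum, Multiset.mem_replicate] at hx
    obtain ⟨i, -, -, hi⟩ := hx
    exact ⟨i, hi.symm⟩
  suffices key : ∀ (q : Multiset ι) (k : ι), (∀ x ∈ q, ∃ i, a i = x) → rsum P q = P.root k →
      ∃ (l : ℕ) (b : Fin l → Fin n), 0 < l ∧
      (∀ p : Fin l, ∃ j : ι, P.root j =
        ∑ q ∈ Finset.univ.filter (fun q : Fin l => q.val ≤ p.val), P.root (a (b q))) ∧
      P.root k = ∑ q, P.root (a (b q)) from key m₀ k hmem hrs
  intro q
  induction hq : Multiset.card q using Nat.strong_induction_on generalizing q with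
  | _ N ih =>
    intro k hqa he
    obtain ⟨x, hx, hpos⟩ := exists_pos_of_sum_pos (m := q) (f := fun x => P.pairingIn ℤ x k)
      (by rw [sum_pairingIn_eq P he (z := 2) (by simp)]; norm_num)
    obtain ⟨ix, rfl⟩ := hqa x hx
    rcases eq_or_ne k (a ix) with rfl | hne
    · exact ⟨1, ![ix], one_pos, fun p => ⟨a ix, by simp [Finset.filter_true_of_mem]⟩, by simp⟩
    · obtain ⟨p, hp⟩ := exists_sub_root P (pairingIn_pos_symm P hpos) hne
      obtain ⟨q', rfl⟩ := Multiset.exists_cons_of_mem hx
      obtain ⟨l, b, hl, hpre, htot⟩ := ih (Multiset.card q') (by simp [← hq]) q' rfl p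
        (fun y hy => hqa y (Multiset.mem_cons_of_mem hy))
        (by rw [hp, ← he, rsum_cons, add_sub_cancel_left])
      refine ⟨l + 1, Fin.snoc b ix, Nat.succ_pos l, fun t => ?_, ?_⟩
      · induction t using Fin.lastCases with
        | last =>
          refine ⟨k, ?_⟩
          rw [Finset.filter_true_of_mem (fun q _ => by simp [Fin.is_le]), Fin.sum_univ_castSucc]
          simp [← htot, hp]
        | cast t =>
          obtain ⟨j, hj⟩ := hpre t
          refine ⟨j, ?_⟩
          rw [Finset.sum_filter, Fin.sum_univ_castSucc, hj, Finset.sum_filter]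
          simp [Fin.val_last, t.isLt]
      · rw [Fin.sum_univ_castSucc]
        simp [← htot, hp]

end Groth.Agent.S5451
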