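import Groth.Statements.S5452
import Groth.Agent.H21Root.Weyl

set_option autoImplicit false
open RootPairing
open scoped Pointwise
open RootD

namespace Groth.Agent.S5452

open Groth.Agent.H21Root

/-- The Weyl group of a root datum acts faithfully on the set of roots. -/
theorem result {ι M N : Type*} [AddCommGroup M] [AddCommGroup N]
    (P : RootPairing ι ℤ M N) [Finite ι] :
    Function.Injective P.weylGroupToPerm := by
  intro g g' hgg
  have h : ∀ i : ι, (g : P.Aut) • i = (g' : P.Aut) • i := fun i => Equiv.congr_fun hgg i
  refine Subtype.ext (inv_mul_eq_one.mp (eq_one_of_fix' P (mul_mem (inv_mem g'.2) g.2) fun i => ?_)).symm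
  rw [mul_smul, h, inv_smul_smul]

end Groth.Agent.S5452
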