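import Groth.Statements.S5458
import Groth.Agent.H21Root.Simple

set_option autoImplicit false
open RootD

namespace Groth.Agent.S5458

open Groth.Agent.H21Root

/-- Let S be a system of positive roots with simple system Δ ⊆ S and let P' ⊇ S be a closed set of
roots; with Δ' the set of simple roots whose opposite lies in P', the set P' is the union of S and
of the roots that are non-positive integer combinations of Δ'. -/
theorem result {ι M N : Type*} [AddCommGroup M] [AddCommGroup N]
    (P : RootPairing ι ℤ M N) [Finite ι] (S : Set ι) (hS : RootD.IsPosSys P S) (Δ : Set ι)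
    (hΔ : RootD.IsSimpleSys P Δ) (hΔS : Δ ⊆ S) (P' : Set ι) (hcl : RootD.IsClosedSub P P')
    (hSP : S ⊆ P') :
    P' = S ∪ {k : ι | -P.root k ∈ RootD.natSpan P {i : ι | i ∈ Δ ∧ P.reflectionPerm i i ∈ P'}} := by
  have hZ := simpleZ_of_isSimpleSys hΔ
  have hSpos := hZ.eq_posOf hS hΔS
  set A : Set ι := {i : ι | i ∈ Δ ∧ P.reflectionPerm i i ∈ P'} with hA
  ext k
  constructor
  · intro hk
    by_cases hkS : k ∈ S
    · exact Or.inl hkS
    refine Or.inr ?_
    have key : ∀ (m : Multiset ι), (∀ a ∈ m, a ∈ Δ) → ∀ k, k ∈ P' → rsum P m = -P.root k →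
        ∀ a ∈ m, a ∈ A := by
      intro m
      induction hn : Multiset.card m using Nat.strong_induction_on generalizing m with
      | _ n ih =>
        intro hm k hk he
        rw [← root_opp] at he
        obtain ⟨a, ha, hpos⟩ := exists_pos_of_sum_pos (m := m)
          (f := fun a => P.pairingIn ℤ a (opp P k))
          (by rw [sum_pairingIn_eq P he (z := 2) (by simp)]; norm_num)
        rcases eq_or_ne (opp P k) a with heq | hne
        · have hm1 : m = {a} := rsum_inj P hZ.li hm (by simpa using hm a ha) (by rw [he, heq, rsum_singleton])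
          intro b hb
          rw [hm1, Multiset.mem_singleton] at hb
          subst hb
          refine ⟨hm _ ha, ?_⟩
          change opp P b ∈ P'
          rw [← heq, opp_opp]; exact hk
        · obtain ⟨p, hp⟩ := exists_sub_root P (pairingIn_pos_symm P hpos) hne
          obtain ⟨m', rfl⟩ := Multiset.exists_cons_of_mem ha
          have hm' : ∀ x ∈ m', x ∈ Δ := fun x hx => hm x (Multiset.mem_cons_of_mem hx)
          have hpe : rsum P m' = P.root p := by rw [hp, ← he, rsum_cons, add_sub_cancel_left]
          have haS : a ∈ S := hΔS (hm a ha)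
          have hpS : p ∈ S := hSpos ▸ (mem_natSpan_iff P).mpr ⟨m', hm', hpe⟩
          have hA' : a ∈ A := ⟨hm a ha, hcl (k := opp P a) hk (hSP hpS)
            (by rw [root_opp, hp, root_opp]; abel)⟩
          have hop : opp P p ∈ P' := hcl (k := opp P p) hk (hSP haS)
            (by rw [root_opp, hp, root_opp]; abel)
          intro b hb
          rcases Multiset.mem_cons.mp hb with rfl | hb
          · exact hA'
          · exact ih (Multiset.card m') (by simp [← hn]) m' rfl hm' (opp P p) hop
              (by rw [root_opp, neg_neg, hpe]) b hb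
    obtain ⟨m, hm, he⟩ : ∃ m : Multiset ι, (∀ a ∈ m, a ∈ Δ) ∧ rsum P m = -P.root k := by
      rw [← mem_natSpan_iff]
      refine (hZ.cover k).resolve_left fun h => hkS ?_
      rw [hSpos]; exact h
    exact (mem_natSpan_iff P).mpr ⟨m, key m hm k hk he, he⟩
  · rintro (hk | hk)
    · exact hSP hk
    · obtain ⟨m, hm, he⟩ := (mem_natSpan_iff P).mp hk
      refine mem_of_root_eq_rsum P hcl (m := m.map (opp P)) ?_ ?_
      · intro a ha
        obtain ⟨b, hb, rfl⟩ := Multiset.mem_map.mp ha
        exact (hm b hb).2
      · have : rsum P (m.map (opp P)) = -rsum P m := by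
          clear he hm
          induction m using Multiset.induction with
          | empty => simp
          | cons b m ih =>
            rw [Multiset.map_cons, rsum_cons, rsum_cons, ih, root_opp, neg_add_rev, add_comm]
        rw [this, he, neg_neg]

end Groth.Agent.S5458
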