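import Groth.Statements.S5460
import Groth.Agent.H21Root.Cone

set_option autoImplicit false
open RootD

namespace Groth.Agent.S5460

open Groth.Agent.H21Root

/-- A set of roots R' is the trace on R of a vector subspace (every root with a positive multiple in the
span of R' lies in R') if and only if R' is the set of roots in the span of a subset Δ' of some
system of simple roots Δ. -/
theorem result {ι M N : Type*} [AddCommGroup M] [AddCommGroup N]
    (P : RootPairing ι ℤ M N) [Finite ι] (R' : Set ι) :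
    (∀ k : ι, (∃ n : ℕ, 0 < n ∧ n • P.root k ∈ Submodule.span ℤ (P.root '' R')) → k ∈ R') ↔
      ∃ Δ Δ' : Set ι, RootD.IsSimpleSys P Δ ∧ Δ' ⊆ Δ ∧ R' = RootD.inSpan P Δ' := by
  constructor
  · intro hR
    obtain ⟨S₀, hS₀⟩ := exists_posSys P
    have hsym : ∀ i ∈ R', opp P i ∈ R' := fun i hi => hR _ ⟨1, one_pos, by
      rw [one_smul, root_opp]; exact Submodule.neg_mem _ (Submodule.subset_span ⟨i, hi, rfl⟩)⟩
    obtain ⟨S, hS, -, hST, hA⟩ := exists_posSys_face P (R' := R') (T := S₀ ∩ R') hR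
      Set.inter_subset_right
      (fun i j k hi hj h => ⟨closed_of_isPosSys P hS₀ hi.1 hj.1 h, hR k ⟨1, one_pos, by
        rw [one_smul, h]
        exact add_mem (Submodule.subset_span ⟨i, hi.2, rfl⟩) (Submodule.subset_span ⟨j, hj.2, rfl⟩)⟩⟩)
      (fun i hi h => hS₀.disjoint hi.1 h.1)
      (fun i hi => (hS₀.cover i).imp (fun h => ⟨h, hi⟩) (fun h => ⟨h, hsym i hi⟩))
      (acyclic_empty P R')
    exact ⟨simples P S, simples P S ∩ R', (simpleZ_simples hS).isSimpleSys, Set.inter_subset_left,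
      Set.ext (eq_inSpan_simples hR hS hA)⟩
  · rintro ⟨Δ, Δ', hΔ, hsub, rfl⟩ k ⟨n, hn, h⟩
    refine (simpleZ_of_isSimpleSys hΔ).mem_zspan_of_nsmul hsub hn ?_
    exact Submodule.span_le.mpr (by rintro _ ⟨j, hj, rfl⟩; exact hj) h

end Groth.Agent.S5460
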