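import Groth.Statements.S5461
import Groth.Agent.H21Root.Cone

set_option autoImplicit false
open RootD

namespace Groth.Agent.S5461

open Groth.Agent.H21Root

/-- If R' is the trace of a vector subspace on the roots, every system of simple roots Δ' of the root
datum with roots R' is contained in a system of simple roots Δ of the whole datum, and R' is the set
of roots in the span of Δ'. -/
theorem result {ι M N : Type*} [AddCommGroup M] [AddCommGroup N]
    (P : RootPairing ι ℤ M N) [Finite ι] (R' : Set ι)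
    (hsat : ∀ k : ι, (∃ n : ℕ, 0 < n ∧ n • P.root k ∈ Submodule.span ℤ (P.root '' R')) → k ∈ R')
    (Δ' : Set ι) (hΔ'R : Δ' ⊆ R') (hli : LinearIndepOn ℤ P.root Δ')
    (hgen : ∀ k ∈ R', P.root k ∈ RootD.natSpan P Δ' ∨ -P.root k ∈ RootD.natSpan P Δ') :
    ∃ Δ : Set ι, RootD.IsSimpleSys P Δ ∧ Δ' ⊆ Δ ∧ R' = RootD.inSpan P Δ' := by
  have hsym : ∀ i ∈ R', opp P i ∈ R' := fun i hi => hsat _ ⟨1, one_pos, by
    rw [one_smul, root_opp]; exact Submodule.neg_mem _ (Submodule.subset_span ⟨i, hi, rfl⟩)⟩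
  obtain ⟨S, hS, -, hST, hA⟩ := exists_posSys_face P (R' := R') (T := RootD.posOf P Δ' ∩ R') hsat
    Set.inter_subset_right
    (fun i j k hi hj h => ⟨posOf_closed P Δ' hi.1 hj.1 h, hsat k ⟨1, one_pos, by
      rw [one_smul, h]
      exact add_mem (Submodule.subset_span ⟨i, hi.2, rfl⟩) (Submodule.subset_span ⟨j, hj.2, rfl⟩)⟩⟩)
    (fun i hi ho => by
      obtain ⟨m, hm, he⟩ := (mem_natSpan_iff P).mp hi.1
      obtain ⟨m', hm', he'⟩ := (mem_natSpan_iff P).mp ho.1
      have h := (rsum_eq_zero_iff P hli (m := m + m')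
        (fun a ha => (Multiset.mem_add.mp ha).elim (hm a) (hm' a))).mp
        (by rw [rsum_add, he, he', root_opp, add_neg_cancel])
      exact root_ne_zero P i (by simpa [(add_eq_zero.mp h).1] using he.symm))
    (fun i hi => (hgen i hi).imp (fun h => ⟨h, hi⟩) (fun h => ⟨by
      change P.root (opp P i) ∈ RootD.natSpan P Δ'
      rwa [root_opp], hsym i hi⟩))
    (acyclic_empty P R')
  refine ⟨simples P S, (simpleZ_simples hS).isSimpleSys, fun a ha => ?_, ?_⟩
  · have haS : a ∈ S := (hST.symm ▸ ⟨subset_posOf P Δ' ha, hΔ'R ha⟩ : a ∈ S ∩ R').1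
    refine ⟨haS, fun ⟨i, j, hi, hj, h⟩ => ?_⟩
    have hmem := hA.rsum_mem (hΔ'R ha) (m := {i, j}) (by simp [hi, hj]) (by simp [Multiset.insert_eq_cons, h])
    have hiT : i ∈ RootD.posOf P Δ' ∩ R' := hST ▸ ⟨hi, hmem i (by simp)⟩
    have hjT : j ∈ RootD.posOf P Δ' ∩ R' := hST ▸ ⟨hj, hmem j (by simp)⟩
    obtain ⟨m, hm, he⟩ := (mem_natSpan_iff P).mp hiT.1
    obtain ⟨m', hm', he'⟩ := (mem_natSpan_iff P).mp hjT.1
    have := congrArg Multiset.card (rsum_inj P hli (m := m + m') (m' := {a})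
      (fun x hx => (Multiset.mem_add.mp hx).elim (hm x) (hm' x)) (by simpa using ha)
      (by rw [rsum_add, he, he', rsum_singleton, h]))
    have : m ≠ 0 := fun e => root_ne_zero P i (by simpa [e] using he.symm)
    have : m' ≠ 0 := fun e => root_ne_zero P j (by simpa [e] using he'.symm)
    have := Multiset.card_pos.mpr ‹m ≠ 0›
    have := Multiset.card_pos.mpr ‹m' ≠ 0›
    simp at *
    lia
  · ext k
    refine ⟨fun hk => ?_, fun hk => hsat k ⟨1, one_pos, ?_⟩⟩
    · rcases hgen k hk with h | h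
      · exact natSpan_subset_zspan P h
      · exact (Submodule.neg_mem_iff _).mp (natSpan_subset_zspan P h)
    · rw [one_smul]
      exact Submodule.span_mono (Set.image_mono hΔ'R) hk

end Groth.Agent.S5461
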