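import Groth.Statements.S5462
import Groth.Agent.H21Root.Construct

set_option autoImplicit false
open RootPairing
open scoped Pointwise
open RootD

namespace Groth.Agent.S5462

open Groth.Agent.H21Root

/-- For Δ' contained in a system of simple roots Δ, the subgroup of the Weyl group generated by the
reflections in Δ' preserves the set of positive roots not lying in the span of Δ'. -/
theorem result {ι M N : Type*} [AddCommGroup M] [AddCommGroup N]
    (P : RootPairing ι ℤ M N) [Finite ι] (Δ Δ' : Set ι) (hΔ : RootD.IsSimpleSys P Δ) (hsub : Δ' ⊆ Δ)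
    (g : P.Aut) (hg : g ∈ Subgroup.closure ((fun i : ι => Equiv.reflection P i) '' Δ'))
    (k : ι) (hk : k ∈ RootD.posOf P Δ) (hk' : k ∉ RootD.inSpan P Δ') :
    g • k ∈ RootD.posOf P Δ ∧ g • k ∉ RootD.inSpan P Δ' := by
  have hZ := simpleZ_of_isSimpleSys hΔ
  obtain ⟨l, hl, rfl⟩ := exists_word P hg
  clear hg
  induction l with
  | nil => simpa using ⟨hk, hk'⟩
  | cons a l ih =>
    obtain ⟨h1, h2⟩ := ih fun x hx => hl x (List.mem_cons_of_mem a hx)
    have ha : a ∈ Δ' := hl a List.mem_cons_self
    have hmem : P.root a ∈ Submodule.span ℤ (P.root '' Δ') := Submodule.subset_span ⟨a, ha, rfl⟩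
    rw [wl_cons, mul_smul, sr_smul]
    refine ⟨hZ.reflect_pos h1 (hsub ha) fun ⟨n, hn⟩ => h2 ?_, fun h => h2 ?_⟩
    · change P.root _ ∈ Submodule.span ℤ (P.root '' Δ')
      rw [hn]
      exact Submodule.smul_of_tower_mem _ n hmem
    · change P.root _ ∈ Submodule.span ℤ (P.root '' Δ') at h
      rw [root_reflectionPerm, reflection_apply_root] at h
      exact (Submodule.sub_mem_iff_left _ (Submodule.smul_mem _ _ hmem)).mp h

end Groth.Agent.S5462
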