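import Groth.Statements.S5463
import Groth.Agent.H21Root.Cone

set_option autoImplicit false
open RootPairing
open scoped Pointwise
open RootD

namespace Groth.Agent.S5463

open Groth.Agent.H21Root

/-- An element w of the Weyl group belongs to the subgroup generated by the reflections in Δ' ⊆ Δ (Δ a
system of simple roots) if and only if w(α) - α lies in the rational span of Δ' for every root α. -/
theorem result {ι M N : Type*} [AddCommGroup M] [AddCommGroup N]
    (P : RootPairing ι ℤ M N) [Finite ι] (Δ Δ' : Set ι) (hΔ : RootD.IsSimpleSys P Δ)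
    (hsub : Δ' ⊆ Δ) (g : P.Aut) (hg : g ∈ P.weylGroup) :
    g ∈ Subgroup.closure ((fun i : ι => Equiv.reflection P i) '' Δ') ↔
      ∀ k : ι, ∃ n : ℕ, 0 < n ∧ n • (P.root (g • k) - P.root k) ∈ Submodule.span ℤ (P.root '' Δ') := by
  have hZ := simpleZ_of_isSimpleSys hΔ
  constructor
  · intro h k
    refine ⟨1, one_pos, ?_⟩
    rw [one_smul]
    obtain ⟨l, hl, rfl⟩ := exists_word P h
    clear h hg
    induction l with
    | nil => simp
    | cons a l ih =>
      rw [wl_cons, mul_smul, sr_smul, root_reflectionPerm, reflection_apply_root, sub_right_comm]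
      exact sub_mem (ih fun x hx => hl x (List.mem_cons_of_mem a hx))
        (Submodule.smul_mem _ _ (Submodule.subset_span ⟨a, hl a List.mem_cons_self, rfl⟩))
  · intro h
    classical
    have key : ∀ n : ℕ, ∀ g : P.Aut, (∃ l : List ι, l.length = n ∧ (∀ a ∈ l, a ∈ Δ) ∧ wl P l = g) →
        (∀ k : ι, ∃ n : ℕ, 0 < n ∧ n • (P.root (g • k) - P.root k) ∈ Submodule.span ℤ (P.root '' Δ')) →
        g ∈ WOf P Δ' := by
      intro n
      induction n using Nat.strong_induction_on with
      | _ n ih =>
        rintro g ⟨l, hlen, hl, rfl⟩ hg
        by_cases hmin : ∀ l' : List ι, (∀ a ∈ l', a ∈ Δ) → wl P l' = wl P l → l.length ≤ l'.length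
        · by_cases hl0 : l = []
          · rw [hl0, wl_nil]; exact one_mem _
          · have hneg := hZ.neg_last_of_minimal hl hl0 hmin
            set a := l.getLast hl0
            have haΔ : a ∈ Δ := hl a (List.getLast_mem hl0)
            obtain ⟨m, -, hm, he⟩ := hZ.exists_rsum hneg
            obtain ⟨c, hc, hspan⟩ := hg a
            have haΔ' : a ∈ Δ' := by
              refine mem_of_nsmul_rsum_mem P hZ.li hsub hc (m := a ::ₘ m) (m' := 0)
                (fun x hx => by
                  rcases Multiset.mem_cons.mp hx with rfl | hx
                  exacts [haΔ, hm x hx])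
                (by simp) (by simp) ?_ (Multiset.mem_cons_self a m)
              rw [rsum_zero, sub_zero, rsum_cons, he, root_opp, ← sub_eq_add_neg, ← neg_sub, smul_neg]
              exact Submodule.neg_mem _ hspan
            have hl' : wl P l = wl P l.dropLast * sr P a := by
              rw [← wl_singleton, ← wl_append, List.dropLast_append_getLast hl0]
            have := ih l.dropLast.length
              (by rw [List.length_dropLast, ← hlen]; have := List.length_pos_iff.mpr hl0; lia)
              (wl P l.dropLast) ⟨_, rfl, fun x hx => hl x (List.dropLast_subset l hx), rfl⟩ (fun k => by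
                obtain ⟨c, hc, hk⟩ := hg (P.reflectionPerm a k)
                refine ⟨c, hc, ?_⟩
                have hmem : P.pairing k a • P.root a ∈ Submodule.span ℤ (P.root '' Δ') :=
                  Submodule.smul_mem _ _ (Submodule.subset_span ⟨a, haΔ', rfl⟩)
                rw [hl', mul_smul, sr_smul, reflectionPerm_self, root_reflectionPerm,
                  reflection_apply_root, sub_sub_eq_add_sub, add_sub_right_comm, smul_add] at hk
                exact (Submodule.add_mem_iff_left _ (Submodule.smul_of_tower_mem _ c hmem)).mp hk)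
            rw [hl']
            exact mul_mem this (Subgroup.subset_closure ⟨a, haΔ', rfl⟩)
        · simp only [not_forall, not_le] at hmin
          obtain ⟨l', hl', he, hlt⟩ := hmin
          exact ih l'.length (hlen ▸ hlt) _ ⟨l', rfl, hl', he⟩ hg
    obtain ⟨l, hl, he⟩ := exists_word P (hZ.closure_eq_weylGroup.symm ▸ hg : g ∈ WOf P Δ)
    exact key _ g ⟨l, rfl, hl, he⟩ h

end Groth.Agent.S5463
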