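import Groth.Statements.S5464
import Groth.Agent.H21Root.Cone

set_option autoImplicit false
open RootD RootPairing

namespace Groth.Agent.S5464

open Groth.Agent.H21Root

/-- Given an indivisible root α and a root γ not proportional to it, there is a system of simple roots
containing α and a simple root β of it with γ = aα + bβ, a, b ∈ ℕ. -/
theorem result {ι M N : Type*} [AddCommGroup M] [AddCommGroup N]
    (P : RootPairing ι ℤ M N) [Finite ι] (i k : ι) (hα : RootD.IsIndiv P i)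
    (hli : LinearIndependent ℤ ![P.root i, P.root k]) :
    ∃ Δ : Set ι, RootD.IsSimpleSys P Δ ∧ i ∈ Δ ∧
      ∃ j ∈ Δ, ∃ a b : ℕ, P.root k = a • P.root i + b • P.root j := by
  classical
  let R₁ : Set ι := {l | ∃ n : ℕ, 0 < n ∧ n • P.root l ∈ zspan P {i}}
  let R₂ : Set ι := {l | ∃ n : ℕ, 0 < n ∧ n • P.root l ∈ zspan P {i, k}}
  have hsat : ∀ A : Set ι, Saturated P {l | ∃ n : ℕ, 0 < n ∧ n • P.root l ∈ zspan P A} := by
    rintro A l ⟨n, hn, h⟩
    have aux : ∀ x ∈ zspan P {l | ∃ n : ℕ, 0 < n ∧ n • P.root l ∈ zspan P A},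
        ∃ c : ℕ, 0 < c ∧ c • x ∈ zspan P A := by
      intro x hx
      induction hx using Submodule.span_induction with
      | mem y hy => obtain ⟨j, hj, rfl⟩ := hy; exact hj
      | zero => exact ⟨1, one_pos, by simp⟩
      | add y z _ _ hy hz =>
        obtain ⟨c, hc, hy⟩ := hy
        obtain ⟨d, hd, hz⟩ := hz
        refine ⟨c * d, Nat.mul_pos hc hd, ?_⟩
        rw [smul_add]
        exact add_mem (by rw [mul_comm, mul_smul]; exact Submodule.smul_of_tower_mem _ _ hy)
          (by rw [mul_smul]; exact Submodule.smul_of_tower_mem _ _ hz)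
      | smul z y _ hy =>
        obtain ⟨c, hc, hy⟩ := hy
        exact ⟨c, hc, by rw [smul_comm]; exact Submodule.smul_mem _ z hy⟩
    obtain ⟨c, hc, hcm⟩ := aux _ h
    exact ⟨c * n, Nat.mul_pos hc hn, by rw [mul_smul]; exact hcm⟩
  have hone : ∀ {A : Set ι} {a : ι}, a ∈ A → a ∈ {l | ∃ n : ℕ, 0 < n ∧ n • P.root l ∈ zspan P A} :=
    fun ha => ⟨1, one_pos, by rw [one_smul]; exact Submodule.subset_span ⟨_, ha, rfl⟩⟩
  have h12 : R₁ ⊆ R₂ := fun l ⟨n, hn, h⟩ =>
    ⟨n, hn, Submodule.span_mono (Set.image_mono (by simp)) h⟩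
  have := tf_left P
  have hmul : ∀ {l}, l ∈ R₁ → ∃ n : ℕ, 0 < n ∧ ∃ z : ℤ, n • P.root l = z • P.root i := by
    rintro l ⟨n, hn, h⟩
    rw [zspan, Set.image_singleton, Submodule.mem_span_singleton] at h
    obtain ⟨z, hz⟩ := h
    exact ⟨n, hn, z, hz.symm⟩
  have hkR : k ∉ R₁ := fun hk => by
    obtain ⟨n, hn, z, hz⟩ := hmul hk
    have := LinearIndependent.pair_iff.mp hli (-z) (n : ℤ) (by rw [natCast_zsmul, hz, neg_smul, neg_add_cancel])
    lia
  -- positive half of the line through `i`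
  let T₁ : Set ι := {l | ∃ n z : ℕ, 0 < n ∧ 0 < z ∧ n • P.root l = z • P.root i}
  have hiT : i ∈ T₁ := ⟨1, 1, one_pos, one_pos, rfl⟩
  have hTR : T₁ ⊆ R₁ := fun l ⟨n, z, hn, _, h⟩ => ⟨n, hn, by
    rw [h]; exact Submodule.smul_of_tower_mem _ z (Submodule.subset_span ⟨i, rfl, rfl⟩)⟩
  obtain ⟨S₁, hS₁, hkS₁, hST₁, hA₁⟩ := exists_posSys_face P (R' := R₁) (T := T₁) (U₀ := {k})
    (hsat {i}) hTR
    (by
      rintro a b c ⟨n, z, hn, hz, h⟩ ⟨n', z', hn', hz', h'⟩ he
      refine ⟨n * n', n' * z + n * z', Nat.mul_pos hn hn', by positivity, ?_⟩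
      rw [he, smul_add, add_smul, show (n * n') • P.root a = (n' * z) • P.root i by
        rw [mul_comm, mul_smul, h, mul_smul], mul_smul n n', h', mul_smul n z'])
    (by
      rintro a ⟨n, z, hn, hz, h⟩ ⟨n', z', hn', hz', h'⟩
      rw [root_opp, smul_neg, neg_eq_iff_eq_neg] at h'
      have h'' : (n' * z + n * z') • P.root i = 0 := by
        rw [add_smul, mul_smul, ← h, mul_smul, ← neg_neg (z' • P.root i), ← h', smul_neg,
          smul_comm n n', add_neg_cancel]
      rw [nsmul_eq_zero_iff_right (by positivity)] at h''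
      exact root_ne_zero P i h'')
    (by
      intro a ha
      obtain ⟨n, hn, z, hz⟩ := hmul ha
      rcases lt_trichotomy z 0 with h | h | h
      · refine Or.inr ⟨n, (-z).toNat, hn, by lia, ?_⟩
        rw [root_opp, smul_neg, hz, ← neg_smul, ← natCast_zsmul (P.root i), Int.toNat_of_nonneg (by lia)]
      · rw [h, zero_smul, nsmul_eq_zero_iff_right hn.ne'] at hz
        exact absurd hz (root_ne_zero P a)
      · exact Or.inl ⟨n, z.toNat, hn, by lia,
          by rw [hz, ← natCast_zsmul (P.root i), Int.toNat_of_nonneg h.le]⟩)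
    (acyclic_singleton P (hsat {i}) hkR)
  obtain ⟨S, hS, -, hST, hA⟩ := exists_posSys_face P (R' := R₂) (T := S₁ ∩ R₂) (U₀ := ∅) (hsat _)
    Set.inter_subset_right
    (fun a b c ha hb h => ⟨closed_of_isPosSys P hS₁ ha.1 hb.1 h, hsat _ c ⟨1, one_pos, by
      rw [one_smul, h]
      exact add_mem (Submodule.subset_span ⟨a, ha.2, rfl⟩) (Submodule.subset_span ⟨b, hb.2, rfl⟩)⟩⟩)
    (fun a ha h => hS₁.disjoint ha.1 h.1)
    (fun a ha => (hS₁.cover a).imp (fun h => ⟨h, ha⟩) (fun h => ⟨h, hsat _ _ ⟨1, one_pos, by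
      rw [one_smul, root_opp]
      exact Submodule.neg_mem _ (Submodule.subset_span ⟨a, ha, rfl⟩)⟩⟩))
    (acyclic_empty P R₂)
  have hiR₂ : i ∈ R₂ := hone (Set.mem_insert i {k})
  have hkR₂ : k ∈ R₂ := hone (Set.mem_insert_of_mem i rfl)
  have hiS₁ : i ∈ S₁ := (hST₁.symm ▸ hiT : i ∈ S₁ ∩ R₁).1
  have hiS : i ∈ S := (hST.symm ▸ ⟨hiS₁, hiR₂⟩ : i ∈ S ∩ R₂).1
  have hkS : k ∈ S := (hST.symm ▸ ⟨hkS₁ rfl, hkR₂⟩ : k ∈ S ∩ R₂).1
  have hiΔ : i ∈ simples P S := by
    refine ⟨hiS, fun ⟨p, q, hp, hq, h⟩ => ?_⟩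
    have hmem := hA.rsum_mem hiR₂ (m := {p, q}) (by simp [hp, hq]) (by simp [Multiset.insert_eq_cons, h])
    have hp₁ : p ∈ S₁ := (hST ▸ ⟨hp, hmem p (by simp)⟩ : p ∈ S₁ ∩ R₂).1
    have hq₁ : q ∈ S₁ := (hST ▸ ⟨hq, hmem q (by simp)⟩ : q ∈ S₁ ∩ R₂).1
    have hmem₁ := hA₁.rsum_mem (hone (Set.mem_singleton i) : i ∈ R₁) (m := {p, q}) (by simp [hp₁, hq₁])
      (by simp [Multiset.insert_eq_cons, h])
    have key : ∀ x ∈ ({p, q} : Multiset ι), x ∈ S₁ → ∃ c z : ℕ, 0 < c ∧ c ≤ 2 * z ∧ c • P.root x = z • P.root i := by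
      intro x hx hxS
      obtain ⟨n, z, hn, hz, he⟩ := (hST₁ ▸ ⟨hxS, hmem₁ x hx⟩ : x ∈ T₁)
      refine ⟨n, z, hn, ?_, he⟩
      have h2 : ((n * 2 : ℕ) : ℤ) = z * P.pairing i x := by
        have := congrArg (P.coroot' x) he
        simpa [map_nsmul, nsmul_eq_mul] using this
      have h3 : ((n : ℕ) : ℤ) * P.pairing x i = z * 2 := by
        have := congrArg (P.coroot' i) he
        simpa [map_nsmul, nsmul_eq_mul] using this
      by_contra hlt
      push_cast at h2
      have : (0 : ℤ) < P.pairing x i := by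
        by_contra hh
        nlinarith
      nlinarith
    obtain ⟨c, z, hc, hcz, hpz⟩ := key p (by simp) hp₁
    obtain ⟨d, y, hd, hdy, hqy⟩ := key q (by simp) hq₁
    have he : ((c * d : ℕ) • P.root i) = (d * z + c * y : ℕ) • P.root i := by
      conv_lhs => rw [h, smul_add]
      rw [add_smul, mul_smul d z, ← hpz, mul_smul c y, ← hqy, ← mul_smul, ← mul_smul, mul_comm d c]
    have he2 : ((c * d : ℕ) : ℤ) = ((d * z + c * y : ℕ) : ℤ) := by
      have := congrArg (P.coroot' i) he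
      simp only [map_nsmul, root_coroot'_eq_pairing, pairing_same, nsmul_eq_mul] at this
      push_cast at *
      linarith
    have he3 : c * d = d * z + c * y := by exact_mod_cast he2
    have hcz' : c = 2 * z := by nlinarith
    refine hα p ?_
    rw [hcz', mul_comm, mul_smul] at hpz
    have hz0 : z ≠ 0 := by lia
    have h4 : z • ((2 : ℕ) • P.root p - P.root i) = 0 := by rw [smul_sub, hpz, sub_self]
    rw [nsmul_eq_zero_iff_right hz0, sub_eq_zero] at h4
    rw [← h4]
    simp [two_smul]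
  have hZ := simpleZ_simples hS
  obtain ⟨m, hm, he⟩ := exists_simples_sum hS hkS
  have hmR := hA.rsum_mem hkR₂ (fun a ha => (hm a ha).1) he
  obtain ⟨j, hj, hji⟩ : ∃ j ∈ m, j ≠ i := by
    by_contra hh
    simp only [not_exists, not_and, not_not] at hh
    rw [Multiset.eq_replicate_card.mpr hh, rsum_replicate] at he
    have := LinearIndependent.pair_iff.mp hli (-(Multiset.card m : ℤ)) 1 (by rw [← he]; simp)
    simp at this
  refine ⟨simples P S, hZ.isSimpleSys, hiΔ, j, hm j hj, m.count i, Multiset.card (m.filter (· ≠ i)), ?_⟩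
  have hall : ∀ x ∈ m.filter (· ≠ i), x = j := by
    intro x hx
    obtain ⟨hxm, hxi⟩ := Multiset.mem_filter.mp hx
    by_contra hxj
    obtain ⟨n, hn, hsp⟩ := hmR j hj
    rw [zspan, Set.image_pair, Submodule.mem_span_pair] at hsp
    obtain ⟨u, v, huv⟩ := hsp
    have hkΔ : P.root k = Finsupp.linearCombination ℤ P.root (toF m) := by rw [linearCombination_toF, he]
    have := linearIndepOn_iff.mp hZ.li
      ((n : ℤ) • Finsupp.single j 1 - (u • Finsupp.single i 1 + v • toF m))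
      (Submodule.sub_mem _ (Submodule.smul_mem _ _ (Finsupp.single_mem_supported ℤ _ (hm j hj)))
        (Submodule.add_mem _ (Submodule.smul_mem _ _ (Finsupp.single_mem_supported ℤ _ hiΔ))
          (Submodule.smul_mem _ _ (toF_mem_supported hm))))
      (by
        simp only [map_sub, map_add, map_smul, Finsupp.linearCombination_single, one_smul, ← hkΔ]
        rw [huv, natCast_zsmul, sub_self])
    have hj' := DFunLike.congr_fun this j
    have hx' := DFunLike.congr_fun this x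
    simp [toF_apply, hji.symm, Ne.symm hxj, Ne.symm hxi] at hj' hx'
    have : 0 < m.count x := Multiset.count_pos.mpr hxm
    rcases hx' with hv | hv
    · rw [hv] at hj'; simp at hj'; lia
    · exact hv hxm
  conv_lhs => rw [← he, ← Multiset.filter_add_not (· = i) m, rsum_add]
  congr 1
  · rw [Multiset.eq_replicate_card.mpr (fun x hx => (Multiset.mem_filter.mp hx).2 :
        ∀ x ∈ m.filter (fun x => x = i), x = i), rsum_replicate]
    congr 1
    rw [← Multiset.countP_eq_card_filter, Multiset.count]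
    exact Multiset.countP_congr rfl fun x _ => propext eq_comm
  · rw [Multiset.eq_replicate_card.mpr hall, rsum_replicate, Multiset.card_replicate]

end Groth.Agent.S5464
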