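import Groth.Statements.S5465
import Groth.Agent.H21Root.Construct

set_option autoImplicit false
open RootD

namespace Groth.Agent.S5465

open Groth.Agent.H21Root

/-- A map from the roots to an abelian group that is odd and additive on pairs of roots whose sum is a
root extends uniquely to a homomorphism on the lattice generated by the roots. -/
theorem result {ι M N : Type*} [AddCommGroup M] [AddCommGroup N]
    (P : RootPairing ι ℤ M N) [Finite ι] {G : Type*} [AddCommGroup G] (f : ι → G)
    (hneg : ∀ i : ι, f (P.reflectionPerm i i) = -f i)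
    (hadd : ∀ i j k : ι, P.root k = P.root i + P.root j → f k = f i + f j) :
    ∃! φ : Submodule.span ℤ (Set.range P.root) →+ G,
      ∀ i : ι, φ ⟨P.root i, Submodule.subset_span (Set.mem_range_self i)⟩ = f i := by
  obtain ⟨Δ, hΔ⟩ := exists_simpleZ P
  have hspan : Submodule.span ℤ (Set.range P.root) = Submodule.span ℤ (Set.range fun a : Δ => P.root a) := by
    refine le_antisymm (Submodule.span_le.mpr ?_) (Submodule.span_mono ?_)
    · rintro _ ⟨i, rfl⟩
      rw [show Set.range (fun a : Δ => P.root a) = P.root '' Δ by rw [Set.image_eq_range]]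
      rcases hΔ.cover i with h | h
      · exact natSpan_subset_zspan P h
      · exact (Submodule.neg_mem_iff _).mp (natSpan_subset_zspan P h)
    · rintro _ ⟨a, rfl⟩; exact ⟨a, rfl⟩
  have hli : LinearIndependent ℤ fun a : Δ => P.root a := hΔ.li
  let b := Module.Basis.span hli
  let φ₀ : Submodule.span ℤ (Set.range fun a : Δ => P.root a) →ₗ[ℤ] G := b.constr ℤ fun a => f a
  let φ : Submodule.span ℤ (Set.range P.root) →+ G :=
    (φ₀.comp (LinearEquiv.ofEq _ _ hspan).toLinearMap).toAddMonoidHom
  let r : ι → Submodule.span ℤ (Set.range P.root) := fun i =>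
    ⟨P.root i, Submodule.subset_span (Set.mem_range_self i)⟩
  have hΔφ : ∀ a ∈ Δ, φ (r a) = f a := by
    intro a ha
    simp only [φ, φ₀, LinearMap.toAddMonoidHom_coe, LinearMap.comp_apply, LinearEquiv.coe_coe]
    rw [show (LinearEquiv.ofEq _ _ hspan) (r a) = b ⟨a, ha⟩ from Subtype.ext (by simp [r, b]),
      Module.Basis.constr_basis]
  have hadd' : ∀ i j k, P.root k = P.root i + P.root j → φ (r k) = φ (r i) + φ (r j) := fun i j k h => by
    rw [← map_add]; congr 1; exact Subtype.ext h
  have hpos : ∀ (m : Multiset ι) (k : ι), (∀ a ∈ m, a ∈ Δ) → rsum P m = P.root k → φ (r k) = f k := by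
    intro m
    induction hm' : Multiset.card m using Nat.strong_induction_on generalizing m with
    | _ n ih =>
      intro k hm he
      obtain ⟨a, ha, hpos⟩ := exists_pos_of_sum_pos (m := m) (f := fun a => P.pairingIn ℤ a k)
        (by rw [sum_pairingIn_eq P he (z := 2) (by simp)]; norm_num)
      rcases eq_or_ne k a with rfl | hne
      · exact hΔφ k (hm k ha)
      · obtain ⟨p, hp⟩ := exists_sub_root P (pairingIn_pos_symm P hpos) hne
        obtain ⟨m', rfl⟩ := Multiset.exists_cons_of_mem ha
        have h := ih (Multiset.card m') (by simp [← hm']) m' rfl p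
          (fun x hx => hm x (Multiset.mem_cons_of_mem hx))
          (by rw [hp, ← he, rsum_cons, add_sub_cancel_left])
        have hk : P.root k = P.root p + P.root a := by rw [hp, sub_add_cancel]
        rw [hadd' p a k hk, h, hΔφ a (hm a (Multiset.mem_cons_self a m')), hadd p a k hk]
  have hall : ∀ i, φ (r i) = f i := by
    intro i
    rcases hΔ.cover' i with h | h
    · obtain ⟨m, -, hm, he⟩ := hΔ.exists_rsum h
      exact hpos m i hm he
    · obtain ⟨m, -, hm, he⟩ := hΔ.exists_rsum h
      have h' := hpos m _ hm he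
      rw [show r (opp P i) = -r i from Subtype.ext (root_opp P i), map_neg] at h'
      rw [← neg_inj, h', hneg]
  refine ⟨φ, hall, fun ψ hψ => AddMonoidHom.ext ?_⟩
  rintro ⟨x, hx⟩
  induction hx using Submodule.span_induction with
  | mem y hy =>
    obtain ⟨i, rfl⟩ := hy
    exact (hψ i).trans (hall i).symm
  | zero => rw [show (⟨0, _⟩ : Submodule.span ℤ (Set.range P.root)) = 0 from rfl, map_zero, map_zero]
  | add y z hy hz h1 h2 =>
    rw [show (⟨y + z, _⟩ : Submodule.span ℤ (Set.range P.root)) = ⟨y, hy⟩ + ⟨z, hz⟩ from rfl, map_add,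
      map_add, h1, h2]
  | smul c y hy h1 =>
    rw [show (⟨c • y, _⟩ : Submodule.span ℤ (Set.range P.root)) = c • ⟨y, hy⟩ from rfl, map_zsmul,
      map_zsmul, h1]

end Groth.Agent.S5465
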