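import Groth.Statements.S5467
import Groth.Agent.H21Root.Weyl

set_option autoImplicit false
open RootD

namespace Groth.Agent.S5467

open Groth.Agent.H21Root

/-- For an indivisible positive non-simple root α there is a simple root β with (β^v, α) > 0 such that
s_β(α) is positive; its order relative to Δ is then smaller than that of α by (β^v, α). -/
theorem result {ι M N : Type*} [AddCommGroup M] [AddCommGroup N]
    (P : RootPairing ι ℤ M N) [Finite ι] (Δ : Set ι) (hΔ : RootD.IsSimpleSys P Δ)
    (k : ι) (hk : k ∈ RootD.posOf P Δ) (hkΔ : k ∉ Δ) (hind : RootD.IsIndiv P k) :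
    ∃ i ∈ Δ, 0 < P.pairing k i ∧ P.reflectionPerm i k ∈ RootD.posOf P Δ := by
  have h := simpleZ_of_isSimpleSys hΔ
  obtain ⟨a, ha, hpos⟩ := h.exists_pairing_pos hk
  refine ⟨a, ha, by rw [← cast_pairingIn]; simpa using hpos, h.reflect_pos hk ha fun ⟨n, hn⟩ => ?_⟩
  rcases nsmul_eq_one_or_two hn with rfl | rfl
  · exact hkΔ ((P.root.injective (by rw [hn, one_smul]) : k = a) ▸ ha)
  · exact hind a (by rw [hn, ← Nat.cast_smul_eq_nsmul ℤ]; simp)

end Groth.Agent.S5467
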