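import Groth.Statements.S5468
import Groth.Agent.H21Root.Length

set_option autoImplicit false
open RootD

namespace Groth.Agent.S5468

open Groth.Agent.H21Root RootPairing

/-- Two roots whose reflections are distinct and commute are orthogonal. -/
theorem result {ι M N : Type*} [AddCommGroup M] [AddCommGroup N]
    (P : RootPairing ι ℤ M N) [Finite ι] (i j : ι)
    (hne : P.reflection i ≠ P.reflection j) (hc : Commute (P.reflection i) (P.reflection j)) :
    P.IsOrthogonal i j := by
  have := Fintype.ofFinite ι
  have hs : sr P (P.reflectionPerm i j) = sr P j := by
    rw [← sr_smul, ← conj_sr, RootPairing.Equiv.reflection_inv]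
    refine aut_ext P fun x => ?_
    simp only [mul_smul, RootPairing.Equiv.reflection_smul]
    have hcx : P.reflection i (P.reflection j (P.reflection i x)) =
        P.reflection j (P.reflection i (P.reflection i x)) := by
      exact DFunLike.congr_fun hc.eq (P.reflection i x)
    rw [hcx, RootPairing.reflection_same]
  set l := P.reflectionPerm i j
  set z := P.pairing j i
  have hl : P.root l = P.root j - z • P.root i := by
    rw [root_reflectionPerm, reflection_apply_root]
  have h := congrArg (fun g : P.Aut => g • P.root l) hs
  simp only [RootPairing.Equiv.reflection_smul, reflection_apply_self, reflection_apply_root] at h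
  have h2 : (2 * z) • P.root i = (2 - P.pairing l j) • P.root j := by
    rw [hl] at h
    linear_combination (norm := module) h
  by_cases hz : z = 0
  · exact (⟨hz, P.pairing_eq_zero_iff'.mp hz⟩ : P.IsOrthogonal j i).symm
  · exfalso
    have he := sr_eq_of_smul_eq P (a := 2 * z) (mul_ne_zero two_ne_zero hz) h2
    refine hne (LinearEquiv.ext fun x => ?_)
    exact congrArg (fun g : P.Aut => g • x) he

end Groth.Agent.S5468
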