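import Groth.Statements.S5469
import Groth.Agent.H21Root.Length

set_option autoImplicit false
open RootPairing
open scoped Pointwise
open RootD

namespace Groth.Agent.S5469

open Groth.Agent.H21Root RootPairing

/-- Two non-orthogonal roots of equal length (for the canonical form ℓ(x) = Σ_{u ∈ R^v} (u, x)²) are
conjugate under the Weyl group. -/
theorem result {ι M N : Type*} [AddCommGroup M] [AddCommGroup N]
    (P : RootPairing ι ℤ M N) [Finite ι] [Fintype ι] (i j : ι) (hno : ¬ P.IsOrthogonal i j)
    (hl : P.RootForm (P.root i) (P.root i) = P.RootForm (P.root j) (P.root j)) :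
    ∃ g : P.Aut, g ∈ P.weylGroup ∧ g • i = j := by
  have hl' : lg P i = lg P j := by
    have h1 := cast_lg P i
    have h2 := cast_lg P j
    simp only [Int.cast_id] at h1 h2
    rw [h1, h2, hl]
  have hsw : P.pairingIn ℤ i j = P.pairingIn ℤ j i := by
    have := lg_mul_pairingIn P i j
    rw [hl'] at this
    exact (mul_left_cancel₀ (lg_pos P j).ne' this).symm
  have hne0 : P.pairingIn ℤ i j ≠ 0 := fun h => hno (by
    have : P.pairing i j = 0 := by rw [← cast_pairingIn, h, Int.cast_zero]
    exact ⟨this, P.pairing_eq_zero_iff'.mp this⟩)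
  by_cases hij : i = j
  · exact ⟨1, one_mem _, by rw [one_smul, hij]⟩
  by_cases hij' : P.root i = -P.root j
  · refine ⟨sr P j, P.reflection_mem_weylGroup j, ?_⟩
    rw [eq_opp_of_root_eq_neg P hij', sr_smul, reflectionPerm_self]
  have hmem := P.pairingIn_pairingIn_mem_set_of_isCrystallographic i j
  have key : ∀ j', P.pairing i j' = 1 → P.pairing j' i = 1 →
      (sr P j' * sr P i * sr P j') • i = j' := by
    intro j' h1 h2
    apply P.root.injective
    rw [root_smul, mul_smul, mul_smul, RootPairing.Equiv.reflection_smul, RootPairing.Equiv.reflection_smul,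
      RootPairing.Equiv.reflection_smul, reflection_apply_root, h1, one_smul, map_sub,
      reflection_apply_self, reflection_apply_root, h2, one_smul, map_sub, map_sub,
      reflection_apply_self, map_neg]
    abel
  have : IsAddTorsionFree M := tf_left P
  have : Module.IsTorsionFree ℤ M := inferInstance
  have hcases : (P.pairing i j = 1 ∧ P.pairing j i = 1) ∨ (P.pairing i j = -1 ∧ P.pairing j i = -1) := by
    rw [← cast_pairingIn, ← cast_pairingIn]
    have hnot : ¬ (P.pairingIn ℤ i j = 2 ∧ P.pairingIn ℤ j i = 2) := by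
      intro h
      exact hij ((P.pairingIn_two_two_iff ℤ i j).mp h)
    have hnot' : ¬ (P.pairingIn ℤ i j = -2 ∧ P.pairingIn ℤ j i = -2) := by
      intro h
      exact hij' ((P.pairingIn_neg_two_neg_two_iff ℤ i j).mp h)
    simp only [Set.mem_insert_iff, Set.mem_singleton_iff, Prod.mk.injEq] at hmem
    simp only [Int.cast_id]
    omega
  rcases hcases with ⟨h1, h2⟩ | ⟨h1, h2⟩
  · exact ⟨_, mul_mem (mul_mem (P.reflection_mem_weylGroup j) (P.reflection_mem_weylGroup i))
      (P.reflection_mem_weylGroup j), key j h1 h2⟩
  · refine ⟨sr P j * (sr P (opp P j) * sr P i * sr P (opp P j)), mul_mem (P.reflection_mem_weylGroup j)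
      (mul_mem (mul_mem (P.reflection_mem_weylGroup _) (P.reflection_mem_weylGroup i))
      (P.reflection_mem_weylGroup _)), ?_⟩
    rw [mul_smul, key (opp P j) (by simp [h1]) (by simp [h2]), sr_smul, reflectionPerm_self]

end Groth.Agent.S5469
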