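import Groth.Statements.S5471
import Groth.Agent.H21Root.Irred

set_option autoImplicit false
open RootPairing
open scoped Pointwise
open RootD

namespace Groth.Agent.S5471

open Groth.Agent.H21Root RootPairing

/-- In a reduced irreducible root datum the ratios of squared root lengths to the minimal one form one
of the sets {1}, {1, 2}, {1, 3}. -/
theorem result {ι M N : Type*} [AddCommGroup M] [AddCommGroup N]
    (P : RootPairing ι ℤ M N) [Finite ι] [Fintype ι] [Nonempty ι] [P.IsReduced]
    (hirr : ∀ R' : Set ι, RootD.IsClosedSub P R' → RootD.IsSymmSub P R' → RootD.IsClosedSub P R'ᶜ →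
      RootD.IsSymmSub P R'ᶜ → R' = ∅ ∨ R' = Set.univ)
    (i₀ : ι) (hmin : ∀ i : ι, P.RootForm (P.root i₀) (P.root i₀) ≤ P.RootForm (P.root i) (P.root i)) :
    (∀ i : ι, P.RootForm (P.root i) (P.root i) = P.RootForm (P.root i₀) (P.root i₀) ∨
        P.RootForm (P.root i) (P.root i) = 2 * P.RootForm (P.root i₀) (P.root i₀) ∨
        P.RootForm (P.root i) (P.root i) = 3 * P.RootForm (P.root i₀) (P.root i₀)) ∧
      ¬ ((∃ i : ι, P.RootForm (P.root i) (P.root i) = 2 * P.RootForm (P.root i₀) (P.root i₀)) ∧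
          ∃ j : ι, P.RootForm (P.root j) (P.root j) = 3 * P.RootForm (P.root i₀) (P.root i₀)) := by
  have hP : IsIrred P := hirr
  have l := cast_lg P
  simp only [Int.cast_id] at l
  have hno : ∀ a b : ι, ¬ P.IsOrthogonal a b → (lg P a = lg P b ∨ lg P a = 2 * lg P b ∨
      lg P a = 3 * lg P b ∨ lg P b = 2 * lg P a ∨ lg P b = 3 * lg P a) := by
    intro a b h
    have h0 : P.pairingIn ℤ a b ≠ 0 := fun e => h (by
      have : P.pairing a b = 0 := by rw [← cast_pairingIn, e, Int.cast_zero]
      exact ⟨this, P.pairing_eq_zero_iff'.mp this⟩)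
    have := P.toInvariantForm.apply_eq_or_aux a b h0
    simpa [l] using this
  have hany : ∀ a b : ι, (lg P a = lg P b ∨ lg P a = 2 * lg P b ∨
      lg P a = 3 * lg P b ∨ lg P b = 2 * lg P a ∨ lg P b = 3 * lg P a) := by
    intro a b
    obtain ⟨g, -, h⟩ := hP.exists_orbit_not_orth a b
    simpa [lg_smul] using hno _ _ h
  have hpos := lg_pos P
  simp only [← l] at hmin ⊢
  refine ⟨fun i => ?_, ?_⟩
  · have := hany i i₀
    have := hmin i
    have := hpos i₀
    lia
  · rintro ⟨⟨i, hi⟩, j, hj⟩
    have := hany i j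
    have := hpos i₀
    lia

end Groth.Agent.S5471
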