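import Groth.Statements.S5472
import Groth.Agent.H21Root.Transfer

set_option autoImplicit false
open RootPairing
open scoped Pointwise
open RootD

namespace Groth.Agent.S5472

open Groth.Agent.H21Root RootPairing

/-- Let Δ be a system of simple roots (root-only sense), γ a positive root and α, β simple roots with
(γ, α^v) > 0 and (γ, β^v) ≥ 0 (equivalently: the order of s_α(γ) along Δ is smaller than that of γ,
and the order of s_β(γ) is at most that of γ). Then for every w in the group generated by s_α and
s_β the order of w(γ) along Δ is at most that of γ, and strictly smaller unless w ∈ {1, s_β}. The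
order is the sum of the coefficients along Δ; the conclusion is stated for the coefficient vector c
of γ - w(γ) along Δ: its coefficient sum is ≥ 0, and > 0 unless w = 1 or w = s_β. -/
theorem result {ι M N : Type*} [AddCommGroup M] [AddCommGroup N]
    (P : RootPairing ι ℤ M N) [Finite ι] (Δ : Set ι) (hΔ : RootD.IsSimpleSys P Δ)
    (k i j : ι) (hk : k ∈ RootD.posOf P Δ) (hi : i ∈ Δ) (hj : j ∈ Δ)
    (hα : 0 < P.pairing k i) (hβ : 0 ≤ P.pairing k j)
    (g : P.Aut) (hg : g ∈ Subgroup.closure {Equiv.reflection P i, Equiv.reflection P j})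
    (c : ι →₀ ℤ) (hc : ↑c.support ⊆ Δ)
    (hck : Finsupp.linearCombination ℤ P.root c = P.root k - P.root (g • k)) :
    0 ≤ c.sum (fun _ a => a) ∧ (g ≠ 1 → g ≠ Equiv.reflection P j → 0 < c.sum (fun _ a => a)) := by
  classical
  have hZ := simpleZ_of_isSimpleSys hΔ
  have hA : ({i, j} : Set ι) ⊆ Δ := by rintro x (rfl | rfl) <;> assumption
  have hg' : g ∈ WOf P ({i, j} : Set ι) := by
    rw [WOf, Set.image_pair]; exact hg
  suffices key : ∀ (n : ℕ) (g : P.Aut),
      (∃ l : List ι, l.length = n ∧ (∀ a ∈ l, a ∈ ({i, j} : Set ι)) ∧ wl P l = g) →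
      ∃ m : Multiset ι, (∀ a ∈ m, a ∈ Δ) ∧ P.root k - P.root (g • k) = rsum P m ∧
        (g ≠ 1 → g ≠ sr P j → m ≠ 0) by
    obtain ⟨l, hl, he⟩ := exists_word P hg'
    obtain ⟨m, hm, he', hne⟩ := key _ g ⟨l, rfl, hl, he⟩
    have hcm : c = toF m := by
      have := linearIndepOn_iff.mp hZ.li (c - toF m)
        (Submodule.sub_mem _ hc (toF_mem_supported hm))
        (by rw [map_sub, hck, linearCombination_toF, he', sub_self])
      exact sub_eq_zero.mp this
    have hsum : c.sum (fun _ a => a) = (Multiset.card m : ℤ) := by
      rw [hcm]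
      clear hne he' hm hcm
      induction m using Multiset.induction with
      | empty => simp [toF]
      | cons a m ih =>
        simp only [toF, Multiset.map_cons, Multiset.sum_cons] at ih ⊢
        rw [Finsupp.sum_add_index (fun _ _ => rfl) (fun _ _ _ _ => rfl), ih, Finsupp.sum_single_index rfl]
        simp [add_comm]
    rw [hsum]
    refine ⟨Int.natCast_nonneg _, fun h1 h2 => ?_⟩
    exact_mod_cast Multiset.card_pos.mpr (hne h1 h2)
  intro n
  induction n using Nat.strong_induction_on with
  | _ n ih =>
    rintro g ⟨l, hlen, hl, rfl⟩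
    by_cases hmin : ∀ l' : List ι, (∀ a ∈ l', a ∈ ({i, j} : Set ι)) → wl P l' = wl P l → l.length ≤ l'.length
    · rcases List.eq_nil_or_concat' l with rfl | ⟨l₀, s, rfl⟩
      · exact ⟨0, by simp, by simp, fun h _ => absurd rfl h⟩
      have hs : s ∈ ({i, j} : Set ι) := hl s (by simp)
      have hl₀ : ∀ x ∈ l₀, x ∈ ({i, j} : Set ι) := fun x hx => hl x (by simp [hx])
      have hpos : wl P l₀ • s ∈ RootD.posOf P Δ := by
        by_contra h
        obtain ⟨l', hlen', hl', he⟩ := hZ.exists_delete_sub hA hl₀ (hA hs) h
        have := hmin l' hl' (by rw [he, wl_append, wl_singleton])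
        simp only [List.length_append, List.length_cons, List.length_nil] at this
        lia
      obtain ⟨m₀, hm₀, he₀, hne₀⟩ := ih l₀.length (by simp [← hlen]) (wl P l₀) ⟨l₀, rfl, hl₀, rfl⟩
      obtain ⟨p, hp0, hp, hpe⟩ := hZ.exists_rsum hpos
      have hp' : 0 ≤ P.pairing k s := by rcases hs with rfl | rfl; exacts [hα.le, hβ]
      refine ⟨m₀ + (P.pairing k s).toNat • p,
        fun a ha => (Multiset.mem_add.mp ha).elim (hm₀ a) (fun h => hp a (Multiset.mem_of_mem_nsmul h)),
        ?_, fun h1 h2 => ?_⟩
      · rw [rsum_add, rsum_nsmul, ← he₀, hpe, wl_append, wl_singleton, mul_smul, sr_smul,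
          root_smul, root_reflectionPerm, reflection_apply_root, smul_sub, root_smul P (wl P l₀) s,
          smul_comm (wl P l₀) (P.pairing k s) (P.root s), ← natCast_zsmul, Int.toNat_of_nonneg hp',
          root_smul]
        abel
      · intro hz
        have hz0 := (add_eq_zero.mp hz)
        have hks : P.pairing k s ≤ 0 := by
          by_contra hh
          have := congrArg Multiset.card hz0.2
          simp only [Multiset.card_nsmul, Multiset.card_zero, mul_eq_zero, Multiset.card_eq_zero] at this
          rcases this with h | h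
          · lia
          · exact hp0 h
        obtain rfl : s = j := by
          rcases hs with rfl | h
          · lia
          · exact h
        rcases Classical.em (wl P l₀ = 1) with h0 | h0
        · exact h2 (by rw [wl_append, h0, one_mul, wl_singleton])
        rcases Classical.em (wl P l₀ = sr P s) with h0' | h0'
        · exact h1 (by rw [wl_append, h0', wl_singleton, sr_mul_self])
        exact hne₀ h0 h0' hz0.1
    · simp only [not_forall, not_le] at hmin
      obtain ⟨l', hl', he, hlt⟩ := hmin
      exact ih l'.length (hlen ▸ hlt) _ ⟨l', rfl, hl', he⟩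

end Groth.Agent.S5472
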