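import Groth.Statements.S5473
import Groth.Agent.H21Root.Basic

set_option autoImplicit false
open RootD

namespace Groth.Agent.S5473

open Groth.Agent.H21Root RootPairing

/-- If a linear map f and its transpose g induce bijections from the roots of R' onto the roots of R and
from the coroots of R onto the coroots of R' respectively (a morphism of root data in the
two-bijection sense), then the two bijections correspond: the coroot of α' is g applied to the
coroot of f(α'). -/
theorem result {ι M N ι' M' N' : Type*} [AddCommGroup M] [AddCommGroup N] [AddCommGroup M'] [AddCommGroup N']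
    (P : RootPairing ι ℤ M N) (P' : RootPairing ι' ℤ M' N') [Finite ι] [Finite ι']
    (f : M' →ₗ[ℤ] M) (g : N →ₗ[ℤ] N') (hfg : ∀ (m' : M') (n : N), P.toLinearMap (f m') n = P'.toLinearMap m' (g n))
    (e : ι' ≃ ι) (he : ∀ i' : ι', f (P'.root i') = P.root (e i'))
    (e' : ι ≃ ι') (he' : ∀ i : ι, g (P.coroot i) = P'.coroot (e' i)) :
    ∀ i' : ι', g (P.coroot (e i')) = P'.coroot i' := by
  intro a
  have := tf_left P'
  have := tf_right P'
  have key : ∀ b, P'.pairing a (e' (e b)) = P.pairing (e a) (e b) := fun b => by
    rw [pairing, root', ← he', ← hfg, he]; rfl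
  rw [he']
  refine Module.eq_of_mapsTo_reflection_of_mem (f := P'.root' a) (g := P'.root' a)
    (Set.finite_range P'.coroot) (by rw [root'_coroot_eq_pairing, key]; simp) (by simp)
    (by rw [root'_coroot_eq_pairing, key]; simp) (by simp) ?_ (P'.mapsTo_coreflection_coroot a)
    (Set.mem_range_self a)
  rintro _ ⟨c, rfl⟩
  obtain ⟨i, rfl⟩ := e'.surjective c
  refine ⟨e' (P.reflectionPerm (e a) i), ?_⟩
  rw [Module.preReflection_apply, ← he', coroot_reflectionPerm, coreflection_apply_coroot, map_sub,
    map_smul, he', he']
  congr 2
  rw [root'_coroot_eq_pairing]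
  obtain ⟨b, rfl⟩ := e.surjective i
  exact (key b).symm

end Groth.Agent.S5473
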