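import Groth.Statements.S5474
import Groth.Agent.H21Root.Length
import Mathlib.LinearAlgebra.Dimension.Torsion.Finite
import Mathlib.GroupTheory.FiniteAbelian.Basic

set_option autoImplicit false
open RootD

namespace Groth.Agent.S5474

open Groth.Agent.H21Root RootPairing

theorem hsat (A : Type*) [AddCommGroup A] [Module.Finite ℤ A] [IsAddTorsionFree A] (S : Submodule ℤ A)
    (h : Module.finrank ℤ S = Module.finrank ℤ A) (x : A) : ∃ n : ℤ, n ≠ 0 ∧ n • x ∈ S := by
  have ht : Module.IsTorsion ℤ (A ⧸ S) := by
    rw [← Module.finrank_eq_zero_iff_isTorsion]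
    have := Submodule.finrank_quotient_add_finrank S
    omega
  obtain ⟨⟨n, hn⟩, hn'⟩ := @ht (Submodule.Quotient.mk x)
  exact ⟨n, nonZeroDivisors.ne_zero hn, by
    rw [← Submodule.Quotient.mk_eq_zero]; exact hn'⟩


/-- Every morphism between semisimple root data is an isogeny (injective on weight lattices with finite
cokernel). -/
theorem result {ι M N ι' M' N' : Type*} [AddCommGroup M] [AddCommGroup N] [AddCommGroup M'] [AddCommGroup N']
    (P : RootPairing ι ℤ M N) (P' : RootPairing ι' ℤ M' N') [Finite ι] [Finite ι']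
    [Module.Finite ℤ M] [Module.Finite ℤ N] [Module.Finite ℤ M'] [Module.Finite ℤ N']
    (hss : Module.finrank ℤ (Submodule.span ℤ (Set.range P.root)) = Module.finrank ℤ M)
    (hss' : Module.finrank ℤ (Submodule.span ℤ (Set.range P'.root)) = Module.finrank ℤ M')
    (f : RootPairing.Hom P' P) :
    Function.Injective f.weightMap ∧ Finite (M ⧸ LinearMap.range f.weightMap) := by
  have := Fintype.ofFinite ι
  have := Fintype.ofFinite ι'
  have := tf_left P'
  have := tf_left P
  have hfw : ∀ (x : M') (n : N), P.toLinearMap (f.weightMap x) n = P'.toLinearMap x (f.coweightMap n) :=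
    fun x n => DFunLike.congr_fun (RootPairing.Hom.weight_coweight_transpose_apply P' P n f) x
  have hinj0 : ∀ x ∈ Submodule.span ℤ (Set.range P'.root), f.weightMap x = 0 → x = 0 := by
    intro x hx h
    refine eq_zero_of_mem_span_of_coroot'_eq_zero P' hx fun i => ?_
    have := hfw x (P.coroot (f.indexEquiv i))
    rw [RootPairing.Hom.coroot_coweightMap_apply, _root_.Equiv.symm_apply_apply, h, map_zero] at this
    exact this.symm
  refine ⟨(injective_iff_map_eq_zero _).mpr fun x hx => ?_, ?_⟩
  · obtain ⟨n, hn, hnx⟩ := hsat M' _ hss' x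
    have := hinj0 _ hnx (by rw [map_smul, hx, smul_zero])
    exact (smul_eq_zero.mp this).resolve_left hn
  · refine Module.finite_of_fg_torsion _ ?_
    intro y
    obtain ⟨y, rfl⟩ := Submodule.Quotient.mk_surjective _ y
    obtain ⟨n, hn, hny⟩ := hsat M _ hss y
    refine ⟨⟨n, mem_nonZeroDivisors_of_ne_zero hn⟩, ?_⟩
    rw [Submonoid.mk_smul, ← Submodule.Quotient.mk_smul, Submodule.Quotient.mk_eq_zero]
    refine Submodule.span_le.mpr ?_ hny
    rintro _ ⟨i, rfl⟩
    exact ⟨P'.root (f.indexEquiv.symm i), by
      rw [RootPairing.Hom.root_weightMap_apply, _root_.Equiv.apply_symm_apply]⟩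

end Groth.Agent.S5474
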