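import Groth.Statements.S5475
import Groth.Agent.H21Root.Construct

set_option autoImplicit false
open RootD

namespace Groth.Agent.S5475

open Groth.Agent.H21Root

/-- In an adjoint root datum every indivisible root is an indivisible element of the weight lattice. -/
theorem result {ι M N : Type*} [AddCommGroup M] [AddCommGroup N]
    (P : RootPairing ι ℤ M N) [Finite ι] (had : Submodule.span ℤ (Set.range P.root) = ⊤)
    (i : ι) (hind : RootD.IsIndiv P i) (m : M) (n : ℤ) (h : n • m = P.root i) : n = 1 ∨ n = -1 := by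
  obtain ⟨Δ, hΔ⟩ := exists_simpleZ P
  obtain ⟨w, -, a, ha, rfl⟩ := hΔ.exists_smul_eq hind
  have hm : w⁻¹ • m ∈ zspan P Δ := by
    have : w⁻¹ • m ∈ Submodule.span ℤ (Set.range P.root) := had ▸ Submodule.mem_top
    refine Submodule.span_le.mpr ?_ this
    rintro _ ⟨i, rfl⟩
    rcases hΔ.cover i with h | h
    · exact natSpan_subset_zspan P h
    · exact (Submodule.neg_mem_iff _).mp (natSpan_subset_zspan P h)
  obtain ⟨c, hc, hce⟩ := (Finsupp.mem_span_image_iff_linearCombination ℤ).mp hm
  have h' : n • (w⁻¹ • m) = P.root a := by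
    rw [smul_comm n w⁻¹ m, h, root_smul, inv_smul_smul]
  have := linearIndepOn_iff.mp hΔ.li (n • c - Finsupp.single a 1)
    (Submodule.sub_mem _ (Submodule.smul_mem _ _ hc) (Finsupp.single_mem_supported ℤ _ ha))
    (by rw [map_sub, map_smul, hce, h', Finsupp.linearCombination_single, one_smul, sub_self])
  have := DFunLike.congr_fun this a
  simp only [Finsupp.sub_apply, Finsupp.smul_apply, smul_eq_mul, Finsupp.single_eq_same,
    Finsupp.zero_apply, sub_eq_zero] at this
  exact Int.isUnit_iff.mp (IsUnit.of_mul_eq_one _ this)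

end Groth.Agent.S5475
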