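import Groth.Statements.S5476
import Groth.Agent.H21Root.Length

set_option autoImplicit false
open RootD

namespace Groth.Agent.S5476

open Groth.Agent.H21Root RootPairing

theorem rank_add {ι A B : Type*} [Fintype ι] [AddCommGroup A] [AddCommGroup B] [Module.Finite ℤ A]
    (Q : RootPairing ι ℤ A B) :
    Module.finrank ℤ (⨅ i : ι, LinearMap.ker (Q.coroot' i) : Submodule ℤ A) +
      Module.finrank ℤ (Submodule.span ℤ (Set.range Q.root)) = Module.finrank ℤ A := by
  have := tf_left Q
  have hA : Module.IsTorsionFree ℤ A := inferInstance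
  let φ : A →ₗ[ℤ] Module.Dual ℤ (Q.corootSpan ℤ) :=
    (Q.corootSpan ℤ).subtype.dualMap.comp Q.toLinearMap
  have hker : LinearMap.ker φ = ⨅ i : ι, LinearMap.ker (Q.coroot' i) := by
    ext x
    simp only [LinearMap.mem_ker, Submodule.mem_iInf, φ]
    constructor
    · intro h i
      exact DFunLike.congr_fun h ⟨Q.coroot i, Submodule.subset_span ⟨i, rfl⟩⟩
    · intro h
      ext ⟨y, hy⟩
      change Q.toLinearMap x y = 0
      induction hy using Submodule.span_induction with
      | mem z hz => obtain ⟨i, rfl⟩ := hz; exact h i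
      | zero => simp
      | add a c _ _ ha hc => simp [map_add, ha, hc]
      | smul n a _ ha => simp [map_smul, ha]
  have hr : Module.finrank ℤ (LinearMap.range φ) + Module.finrank ℤ (LinearMap.ker φ) = Module.finrank ℤ A := by
    rw [← φ.quotKerEquivRange.finrank_eq]; exact Submodule.finrank_quotient_add_finrank _
  have hfr : Module.Finite ℤ (Q.corootSpan ℤ) := Module.Finite.span_of_finite ℤ (Set.finite_range _)
  have := tf_right Q
  have hle : Module.finrank ℤ (LinearMap.range φ) ≤ Module.finrank ℤ (Q.rootSpan ℤ) := by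
    rw [← Q.finrank_corootSpan_eq']
    refine (Submodule.finrank_le _).trans_eq ?_
    exact (Module.Free.chooseBasis ℤ (Q.corootSpan ℤ)).toDualEquiv.finrank_eq.symm
  have hge : Module.finrank ℤ (Q.rootSpan ℤ) ≤ Module.finrank ℤ (LinearMap.range φ) := by
    refine LinearMap.finrank_le_finrank_of_injective (f := φ.rangeRestrict.comp (Q.rootSpan ℤ).subtype) ?_
    rw [← LinearMap.ker_eq_bot, Submodule.eq_bot_iff]
    intro x hx
    refine Subtype.ext (eq_zero_of_mem_span_of_coroot'_eq_zero Q x.2 fun i => ?_)
    have : φ x = 0 := congrArg Subtype.val hx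
    exact DFunLike.congr_fun this ⟨Q.coroot i, Submodule.subset_span ⟨i, rfl⟩⟩
  rw [← hker]
  change _ + Module.finrank ℤ (Q.rootSpan ℤ) = _
  omega


/-- The lattice of the coradical (weights killed by every coroot) and the lattice of the radical
(coweights killed by every root) both have rank rgred - rgss, the rank of the weight lattice minus
the rank of the lattice generated by the roots; and the datum is semisimple (the roots span a
sublattice of full rank) if and only if the coradical lattice vanishes, if and only if the radical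
lattice vanishes. -/
theorem result {ι M N : Type*} [AddCommGroup M] [AddCommGroup N]
    (P : RootPairing ι ℤ M N) [Finite ι] [Module.Finite ℤ M] [Module.Finite ℤ N] :
    (Module.finrank ℤ (⨅ i : ι, LinearMap.ker (P.coroot' i) : Submodule ℤ M) +
        Module.finrank ℤ (Submodule.span ℤ (Set.range P.root)) = Module.finrank ℤ M) ∧
      (Module.finrank ℤ (⨅ i : ι, LinearMap.ker (P.root' i) : Submodule ℤ N) +
        Module.finrank ℤ (Submodule.span ℤ (Set.range P.root)) = Module.finrank ℤ M) ∧
      (Module.finrank ℤ (Submodule.span ℤ (Set.range P.root)) = Module.finrank ℤ M ↔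
        (⨅ i : ι, LinearMap.ker (P.coroot' i) : Submodule ℤ M) = ⊥) ∧
      (Module.finrank ℤ (Submodule.span ℤ (Set.range P.root)) = Module.finrank ℤ M ↔
        (⨅ i : ι, LinearMap.ker (P.root' i) : Submodule ℤ N) = ⊥) := by
  classical
  have := Fintype.ofFinite ι
  have hM := rank_add P
  have hN := rank_add P.flip
  have hco : Module.finrank ℤ (Submodule.span ℤ (Set.range P.flip.root)) =
      Module.finrank ℤ (Submodule.span ℤ (Set.range P.root)) := P.finrank_corootSpan_eq'
  have hMN : Module.finrank ℤ N = Module.finrank ℤ M := by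
    have := tf_left P
    have := tf_right P
    rw [LinearEquiv.finrank_eq P.toLinearMap.flip.toPerfPair,
      ← (Module.Free.chooseBasis ℤ M).toDualEquiv.finrank_eq]
  rw [hco, hMN] at hN
  have := tf_left P
  have := tf_right P
  have e1 := Submodule.finrank_eq_zero (R := ℤ) (S := (⨅ i : ι, LinearMap.ker (P.coroot' i) : Submodule ℤ M))
  have e2 := Submodule.finrank_eq_zero (R := ℤ) (S := (⨅ i : ι, LinearMap.ker (P.root' i) : Submodule ℤ N))
  refine ⟨hM, hN, ?_, ?_⟩
  · rw [← e1]; omega
  · rw [← e2]
    change _ ↔ Module.finrank ℤ (⨅ i : ι, LinearMap.ker (P.flip.coroot' i) : Submodule ℤ N) = 0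
    omega

end Groth.Agent.S5476
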