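import Groth.Statements.S5478
import Groth.Agent.H21Root.Weyl

set_option autoImplicit false
open RootPairing
open scoped Pointwise
open RootD

namespace Groth.Agent.S5478

open Groth.Agent.H21Root

/-- The group of automorphisms of a root datum that act trivially on the radical is finite. -/
theorem result {ι M N : Type*} [AddCommGroup M] [AddCommGroup N]
    (P : RootPairing ι ℤ M N) [Finite ι] :
    Set.Finite {u : P.Aut | ∀ m : M, ∃ n : ℕ, 0 < n ∧ n • (u • m - m) ∈ Submodule.span ℤ (Set.range P.root)} := by
  have := tf_left P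
  refine Set.Finite.of_finite_image (f := fun u : P.Aut => fun i : ι => u • i) (Set.toFinite _) ?_
  intro u hu v hv he
  refine aut_ext P fun m => ?_
  obtain ⟨n, hn, h⟩ := hu m
  obtain ⟨n', hn', h'⟩ := hv m
  have hmem : (n * n') • (u • m - v • m) ∈ Submodule.span ℤ (Set.range P.root) := by
    rw [show u • m - v • m = (u • m - m) - (v • m - m) by abel, smul_sub]
    refine sub_mem ?_ ?_
    · rw [mul_comm, mul_smul]; exact Submodule.smul_of_tower_mem _ _ h
    · rw [mul_smul]; exact Submodule.smul_of_tower_mem _ _ h'
  have := eq_zero_of_mem_span_of_coroot'_eq_zero P hmem fun i => by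
    have hi : u • (u⁻¹ • i) = i := smul_inv_smul u i
    have hv' : v • (u⁻¹ • i) = i := (congrFun he (u⁻¹ • i)).symm.trans hi
    rw [map_nsmul, map_sub]
    conv_lhs => arg 2; arg 1; rw [← hi]
    rw [coroot'_smul]
    conv_lhs => arg 2; arg 2; rw [← hv']
    rw [coroot'_smul, sub_self, smul_zero]
  rwa [nsmul_eq_zero_iff_right (Nat.mul_pos hn hn').ne', sub_eq_zero] at this

end Groth.Agent.S5478
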