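import Groth.Statements.S5479
import Groth.Agent.H21Root.Weyl

set_option autoImplicit false
open RootPairing
open scoped Pointwise
open RootD

namespace Groth.Agent.S5479

open Groth.Agent.H21Root

/-- Aut(R) is the semidirect product of the Weyl group by the stabiliser E_Δ of a system of simple
roots: every automorphism is uniquely w · e with w ∈ W and e(Δ) = Δ. -/
theorem result {ι M N : Type*} [AddCommGroup M] [AddCommGroup N]
    (P : RootPairing ι ℤ M N) [Finite ι] (Δ : Set ι) (hΔ : RootD.IsSimpleSys P Δ) (u : P.Aut) :
    ∃! w : P.weylGroup, (fun i : ι => ((w : P.Aut)⁻¹ * u) • i) '' Δ = Δ := by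
  have h := simpleZ_of_isSimpleSys hΔ
  have h' : SimpleZ P ((fun i => u • i) '' Δ) := by
    conv => arg 2; rw [h.eq_simples, ← simples_image]
    exact simpleZ_simples (isPosSys_image h.isPosSys u)
  obtain ⟨w, hw, huniq⟩ := existsUnique_weyl_simples h h'
  have key : ∀ w : P.weylGroup,
      (fun i : ι => ((w : P.Aut)⁻¹ * u) • i) '' Δ = Δ ↔
        (fun i : ι => (w : P.Aut) • i) '' Δ = (fun i => u • i) '' Δ := fun w => by
    simp only [mul_smul, ← Set.image_image (fun i => (w : P.Aut)⁻¹ • i) (fun i => u • i)]
    constructor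
    · intro e
      conv_lhs => rw [← e]
      simp [Set.image_image]
    · intro e
      rw [← e]
      simp [Set.image_image]
  exact ⟨w, (key w).mpr hw, fun w' hw' => huniq w' ((key w').mp hw')⟩

end Groth.Agent.S5479
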