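import Groth.Statements.S5480
import Groth.Agent.H21Root.PMor

set_option autoImplicit false
open RootD

namespace Groth.Agent.S5480

open Groth.Agent.H21Root RootPairing

/-- For a p-morphism of reduced root data with root bijection u and radicial exponents q: (a) for all
roots α, β one has q(s_α(β)) = q(β) and u(s_α(β)) = s_{u(α)}(u(β)); (b) the exponents are invariant
under the Weyl group, q(w(α)) = q(α); (c) there is an isomorphism ū from the Weyl group of the first
datum to that of the second with ū(s_α) = s_{u(α)} and u(w(α)) = ū(w)(u(α)) for every Weyl group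
element w and every root α. -/
theorem result {ι M N ι' M' N' : Type*} [AddCommGroup M] [AddCommGroup N] [AddCommGroup M'] [AddCommGroup N']
    (P : RootPairing ι ℤ M N) (P' : RootPairing ι' ℤ M' N') [Finite ι] [Finite ι'] [P.IsReduced] [P'.IsReduced]
    (p : ℕ) (hp : 0 < p) (f : M' →ₗ[ℤ] M) (g : N →ₗ[ℤ] N')
    (hfg : ∀ (m' : M') (n : N), P.toLinearMap (f m') n = P'.toLinearMap m' (g n))
    (u : ι ≃ ι') (q : ι → ℕ) (hq : ∀ i, ∃ e : ℕ, q i = p ^ e)
    (hroot : ∀ i : ι, f (P'.root (u i)) = (q i : ℤ) • P.root i)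
    (hcoroot : ∀ i : ι, g (P.coroot i) = (q i : ℤ) • P'.coroot (u i)) :
    (∀ i j : ι, q (P.reflectionPerm i j) = q j ∧ u (P.reflectionPerm i j) = P'.reflectionPerm (u i) (u j)) ∧
      (∀ w ∈ P.weylGroup, ∀ i : ι, q (w • i) = q i) ∧
      ∃ ubar : P.weylGroup ≃* P'.weylGroup,
        (∀ i : ι, ubar (RootPairing.weylGroup.ofIdx P i) = RootPairing.weylGroup.ofIdx P' (u i)) ∧
        ∀ (w : P.weylGroup) (i : ι), u ((w : P.Aut) • i) = ((ubar w : P'.weylGroup) : P'.Aut) • u i := by
  let W : Weighted P P' := ⟨f, g, hfg, u, q,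
    fun i => by obtain ⟨e, he⟩ := hq i; rw [he]; exact pow_pos hp e, hroot, hcoroot⟩
  have h := W.equivariant
  refine ⟨h, fun w hw => ?_, ?_⟩
  · induction hw using RootPairing.weylGroup.induction with
    | mem i => exact fun j => (h i j).1
    | one => simp
    | mul x y _ _ hx hy => intro j; rw [mul_smul, hx, hy]
  · have hinjP : Function.Injective P.weylGroupToPerm := fun g g' hgg => by
      have h : ∀ i, (g : P.Aut) • i = (g' : P.Aut) • i := fun i => _root_.Equiv.congr_fun hgg i
      refine Subtype.ext (inv_mul_eq_one.mp (eq_one_of_fix' P (mul_mem (inv_mem g'.2) g.2) fun i => ?_)).symm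
      rw [mul_smul, h, inv_smul_smul]
    have hinjP' : Function.Injective P'.weylGroupToPerm := fun g g' hgg => by
      have h : ∀ i, (g : P'.Aut) • i = (g' : P'.Aut) • i := fun i => _root_.Equiv.congr_fun hgg i
      refine Subtype.ext (inv_mul_eq_one.mp (eq_one_of_fix' P' (mul_mem (inv_mem g'.2) g.2) fun i => ?_)).symm
      rw [mul_smul, h, inv_smul_smul]
    let φ : P.weylGroup →* _root_.Equiv.Perm ι' := u.permCongrHom.toMonoidHom.comp P.weylGroupToPerm
    have hofIdx : ∀ i, φ (RootPairing.weylGroup.ofIdx P i) = P'.weylGroupToPerm (RootPairing.weylGroup.ofIdx P' (u i)) := by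
      intro i
      ext j
      obtain ⟨j, rfl⟩ := u.surjective j
      change u (P.reflectionPerm i (u.symm (u j))) = P'.reflectionPerm (u i) (u j)
      rw [Equiv.symm_apply_apply]
      exact (h i j).2
    have hrange : φ.range = P'.weylGroupToPerm.range := by
      refine le_antisymm ?_ ?_
      · rintro _ ⟨⟨w, hw⟩, rfl⟩
        induction hw using RootPairing.weylGroup.induction with
        | mem i => exact ⟨_, (hofIdx i).symm⟩
        | one => exact ⟨1, by rw [map_one]; exact (map_one _).symm⟩
        | mul x y hx hy h1 h2 =>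
          rw [show (⟨x * y, _⟩ : P.weylGroup) = ⟨x, hx⟩ * ⟨y, hy⟩ from rfl, map_mul]
          exact mul_mem h1 h2
      · rintro _ ⟨⟨w, hw⟩, rfl⟩
        induction hw using RootPairing.weylGroup.induction with
        | mem i =>
          obtain ⟨i, rfl⟩ := u.surjective i
          exact ⟨_, hofIdx i⟩
        | one => exact ⟨1, by rw [map_one]; exact (map_one _).symm⟩
        | mul x y hx hy h1 h2 =>
          rw [show (⟨x * y, _⟩ : P'.weylGroup) = ⟨x, hx⟩ * ⟨y, hy⟩ from rfl, map_mul]
          exact mul_mem h1 h2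
    have hφ : Function.Injective φ := u.permCongrHom.injective.comp hinjP
    let ubar : P.weylGroup ≃* P'.weylGroup :=
      (MonoidHom.ofInjective hφ).trans ((MulEquiv.subgroupCongr hrange).trans
        (MonoidHom.ofInjective hinjP').symm)
    have hubar : ∀ w, P'.weylGroupToPerm (ubar w) = φ w := fun w => by
      simp only [ubar, MulEquiv.trans_apply]
      rw [MonoidHom.apply_ofInjective_symm]
      rfl
    refine ⟨ubar, fun i => hinjP' (by rw [hubar, hofIdx]), fun w i => ?_⟩
    have := _root_.Equiv.congr_fun (hubar w) (u i)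
    refine Eq.trans ?_ this.symm
    change u ((w : P.Aut) • i) = u ((w : P.Aut) • u.symm (u i))
    rw [Equiv.symm_apply_apply]

end Groth.Agent.S5480
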