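import Groth.Statements.S5482
import Groth.Agent.H21Root.Cone

set_option autoImplicit false
open RootD

namespace Groth.Agent.S5482

open Groth.Agent.H21Root RootPairing

/-- If the roots are partitioned into two closed symmetric subsets R', R'', then with Δ' = Δ ∩ R', Δ'' =
Δ ∩ R'' for a system of simple roots Δ one has R' = R_{Δ'}, R'' = R_{Δ''}, and Δ' is orthogonal to
Δ''. -/
theorem result {ι M N : Type*} [AddCommGroup M] [AddCommGroup N]
    (P : RootPairing ι ℤ M N) [Finite ι] (Δ : Set ι) (hΔ : RootD.IsSimpleSys P Δ) (R' : Set ι)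
    (hc : RootD.IsClosedSub P R') (hs : RootD.IsSymmSub P R') (hc' : RootD.IsClosedSub P R'ᶜ)
    (hs' : RootD.IsSymmSub P R'ᶜ) :
    R' = RootD.inSpan P (Δ ∩ R') ∧ R'ᶜ = RootD.inSpan P (Δ \ R') ∧
      ∀ i ∈ Δ ∩ R', ∀ j ∈ Δ \ R', P.IsOrthogonal i j := by
  have hZ := simpleZ_of_isSimpleSys hΔ
  have horth : ∀ {a b}, a ∈ R' → b ∉ R' → P.IsOrthogonal a b := orth_of_partition hc hs hc' hs'
  classical
  have key : ∀ (A : Set ι), (∀ a b, a ∈ A → b ∉ A → P.IsOrthogonal a b) → (∀ a ∈ A, opp P a ∈ A) →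
      ∀ k ∈ A, P.root k ∈ zspan P (Δ ∩ A) := by
    intro A hA hAs k hk
    suffices hmain : ∀ j ∈ A, j ∈ RootD.posOf P Δ → P.root j ∈ zspan P (Δ ∩ A) by
      rcases hZ.cover' k with h | h
      · exact hmain k hk h
      · rw [← neg_neg (P.root k), ← root_opp]
        exact Submodule.neg_mem _ (hmain _ (hAs k hk) h)
    intro j hj hjp
    obtain ⟨m, -, hm, he⟩ := hZ.exists_rsum hjp
    have hsplit := Multiset.filter_add_not (· ∈ A) m
    have hin : rsum P (m.filter (· ∈ A)) ∈ zspan P (Δ ∩ A) :=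
      rsum_mem_zspan P fun x hx => ⟨hm x (Multiset.mem_filter.mp hx).1, (Multiset.mem_filter.mp hx).2⟩
    have hout : rsum P (m.filter (¬ · ∈ A)) = 0 := by
      refine eq_zero_of_mem_span_of_coroot'_eq_zero P ?_ fun i => ?_
      · exact Submodule.span_mono (Set.image_subset_range _ _) (rsum_mem_zspan P (S := Set.univ) (fun _ _ => trivial))
      · have hz : ∀ (s : Multiset ι), (∀ x ∈ s, P.IsOrthogonal x i) → P.coroot' i (rsum P s) = 0 := by
          intro s hs
          induction s using Multiset.induction with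
          | empty => simp
          | cons x s ih =>
            rw [rsum_cons, map_add, root_coroot'_eq_pairing, (hs x (Multiset.mem_cons_self x s)).1,
              ih fun y hy => hs y (Multiset.mem_cons_of_mem hy), add_zero]
        by_cases hi : i ∈ A
        · exact hz _ fun x hx => (hA i x hi (Multiset.mem_filter.mp hx).2).symm
        · have h1 := hz (m.filter (· ∈ A)) fun x hx => hA x i (Multiset.mem_filter.mp hx).2 hi
          have h2 : P.coroot' i (rsum P m) = 0 := by rw [he, root_coroot'_eq_pairing, (hA j i hj hi).1]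
          rwa [← hsplit, rsum_add, map_add, h1, zero_add] at h2
    rw [← he, ← hsplit, rsum_add, hout, add_zero]
    exact hin
  have hfwd : ∀ k ∈ R', P.root k ∈ zspan P (Δ ∩ R') := key R' (fun a b => horth) (fun a ha => hs ha)
  have hbwd : ∀ k ∉ R', P.root k ∈ zspan P (Δ \ R') := fun k hk =>
    key R'ᶜ (fun a b ha hb => (horth (not_not.mp hb) ha).symm) (fun a ha => hs' ha) k hk
  have hdisj : ∀ k, P.root k ∈ zspan P (Δ ∩ R') → P.root k ∈ zspan P (Δ \ R') → False := by
    intro k h1 h2
    refine root_ne_zero P k ?_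
    refine Submodule.disjoint_def.mp
      ((linearIndepOn_union_iff (Set.disjoint_sdiff_right.mono_left Set.inter_subset_right)).mp ?_).2.2 _ h1 h2
    exact hZ.li.mono (by intro x hx; rcases hx with h | h; exacts [h.1, h.1])
  refine ⟨Set.ext fun k => ⟨hfwd k, fun h => ?_⟩, Set.ext fun k => ⟨hbwd k, fun h hk => hdisj k (hfwd k hk) h⟩,
    fun i hi j hj => horth hi.2 hj.2⟩
  by_contra hk
  exact hdisj k h (hbwd k hk)

end Groth.Agent.S5482
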