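import Groth.Statements.S5483
import Groth.Agent.H21Root.Construct

set_option autoImplicit false
open RootD

namespace Groth.Agent.S5483

open Groth.Agent.H21Root RootPairing

/-- If a system of simple roots Δ is the disjoint union of two mutually orthogonal subsets Δ', Δ'', then
R_{Δ'} and R_{Δ''} partition the set of roots. -/
theorem result {ι M N : Type*} [AddCommGroup M] [AddCommGroup N]
    (P : RootPairing ι ℤ M N) [Finite ι] (Δ Δ' : Set ι) (hΔ : RootD.IsSimpleSys P Δ)
    (hsub : Δ' ⊆ Δ) (horth : ∀ i ∈ Δ', ∀ j ∈ Δ \ Δ', P.IsOrthogonal i j) (k : ι) :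
    (k ∈ RootD.inSpan P Δ' ∨ k ∈ RootD.inSpan P (Δ \ Δ')) ∧
      ¬ (k ∈ RootD.inSpan P Δ' ∧ k ∈ RootD.inSpan P (Δ \ Δ')) := by
  have hZ := simpleZ_of_isSimpleSys hΔ
  constructor
  · obtain ⟨w, hw, a, ha, n, hn⟩ := hZ.exists_nsmul_smul k
    obtain ⟨l, hl, rfl⟩ := exists_word P hw
    have key : ∀ (A B : Set ι), A ⊆ Δ → (∀ b ∈ Δ, b ∈ A ∨ b ∈ B) → (∀ i ∈ A, ∀ j ∈ B, P.IsOrthogonal i j) →
        a ∈ A → P.root k ∈ zspan P A := by
      intro A B hAΔ hAB hor haA
      rw [hn]
      refine Submodule.smul_of_tower_mem _ n ?_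
      clear hn hw
      induction l with
      | nil => rw [wl_nil, one_smul]; exact Submodule.subset_span ⟨a, haA, rfl⟩
      | cons b l ih =>
        have := ih fun x hx => hl x (List.mem_cons_of_mem b hx)
        rw [wl_cons, mul_smul, sr_smul, root_reflectionPerm, reflection_apply]
        rcases hAB b (hl b List.mem_cons_self) with hb | hb
        · exact sub_mem this (Submodule.smul_mem _ _ (Submodule.subset_span ⟨b, hb, rfl⟩))
        · have hz : ∀ x ∈ zspan P A, P.coroot' b x = 0 := by
            intro x hx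
            induction hx using Submodule.span_induction with
            | mem y hy => obtain ⟨i, hi, rfl⟩ := hy; rw [root_coroot'_eq_pairing, (hor i hi b hb).1]
            | zero => simp
            | add y z _ _ hy hz => rw [map_add, hy, hz, add_zero]
            | smul c y _ hy => rw [map_smul, hy, smul_zero]
          rwa [hz _ this, zero_smul, sub_zero]
    by_cases haA : a ∈ Δ'
    · exact Or.inl (key Δ' (Δ \ Δ') hsub (fun b hb => (em (b ∈ Δ')).imp id fun h => ⟨hb, h⟩) horth haA)
    · exact Or.inr (key (Δ \ Δ') Δ' Set.sdiff_subset (fun b hb => (em (b ∈ Δ')).symm.imp (fun h => ⟨hb, h⟩) id)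
        (fun i hi j hj => (horth j hj i hi).symm) ⟨ha, haA⟩)
  · rintro ⟨h1, h2⟩
    refine root_ne_zero P k (Submodule.disjoint_def.mp
      ((linearIndepOn_union_iff Set.disjoint_sdiff_right).mp ?_).2.2 _ h1 h2)
    rw [Set.union_sdiff_cancel hsub]
    exact hZ.li

end Groth.Agent.S5483
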