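import Groth.Statements.S5484
import Groth.Agent.H21Root.Simple
import Mathlib.Analysis.Matrix.PosDef
import Mathlib.Data.Real.StarOrdered

set_option autoImplicit false
open RootD

namespace Groth.Agent.S5484

open Groth.Agent.H21Root RootPairing
open scoped Matrix

open Classical in
/-- Every principal minor of the Cartan matrix (a_{α,β} = (α^v, β), α, β simple) is strictly positive. -/
theorem result {ι M N : Type*} [AddCommGroup M] [AddCommGroup N]
    (P : RootPairing ι ℤ M N) [Finite ι] (Δ : Finset ι) (hΔ : RootD.IsSimpleSys P (↑Δ : Set ι))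
    (Δ' : Finset ι) (hsub : Δ' ⊆ Δ) :
    0 < Matrix.det (Matrix.of fun (a b : ↥Δ') => P.pairing (b : ι) (a : ι)) := by
  have := Fintype.ofFinite ι
  classical
  have hZ := simpleZ_of_isSimpleSys hΔ
  -- Gram matrix of the canonical form over the reals
  let C : Matrix ι ↥Δ' ℝ := fun i a => (P.pairing (a : ι) i : ℝ)
  let D : ↥Δ' → ℝ := fun a => (P.RootForm (P.root (a : ι)) (P.root (a : ι)) : ℝ)
  let A : Matrix ↥Δ' ↥Δ' ℤ := Matrix.of fun (a b : ↥Δ') => P.pairing (b : ι) (a : ι)
  have hD : ∀ a, 0 < D a := fun a => by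
    have := P.rootForm_pos_of_ne_zero (Submodule.subset_span ⟨(a : ι), rfl⟩) (root_ne_zero P (a : ι))
    simp only [D]; exact_mod_cast this
  have hli : LinearIndependent ℤ fun a : ↥Δ' => P.root (a : ι) :=
    hZ.li.comp (fun a : ↥Δ' => (⟨(a : ι), hsub a.2⟩ : (↑Δ : Set ι))) fun a b h => by
      simpa using h
  have hinj : Function.Injective C.mulVec := by
    suffices ∀ x, C.mulVec x = 0 → x = 0 by
      intro x y h
      exact sub_eq_zero.mp (this _ (by rw [Matrix.mulVec_sub, h, sub_self]))
    intro x hx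
    by_contra hx0
    have hdet : (Cᵀ * C).det = 0 := Matrix.exists_mulVec_eq_zero_iff.mp
      ⟨x, hx0, by rw [← Matrix.mulVec_mulVec, hx, Matrix.mulVec_zero]⟩
    let C₀ : Matrix ι ↥Δ' ℤ := fun i a => P.pairing (a : ι) i
    have : (C₀ᵀ * C₀).det = 0 := by
      have e : Cᵀ * C = (C₀ᵀ * C₀).map (Int.castRingHom ℝ) := by
        rw [Matrix.map_mul]; rfl
      rw [e, ← RingHom.mapMatrix_apply, ← RingHom.map_det] at hdet
      simpa using hdet
    obtain ⟨c, hc, hc0⟩ := Matrix.exists_mulVec_eq_zero_iff.mpr this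
    have hq : P.RootForm (∑ a, c a • P.root (a : ι)) (∑ a, c a • P.root (a : ι)) = 0 := by
      have := congrArg (fun w => c ⬝ᵥ w) hc0
      simp only [dotProduct_zero] at this
      rw [← this, ← Matrix.mulVec_mulVec, Matrix.dotProduct_mulVec, Matrix.vecMul_transpose,
        rootForm_apply_apply]
      refine Finset.sum_congr rfl fun i _ => ?_
      simp only [map_sum, map_zsmul, LinearMap.sum_apply, LinearMap.smul_apply, smul_eq_mul]
      simp [C₀, Matrix.mulVec, dotProduct, mul_comm]
    refine hc (funext (Fintype.linearIndependent_iff.mp hli c ?_))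
    exact P.eq_zero_of_mem_rootSpan_of_rootForm_self_eq_zero
      (Submodule.sum_mem _ fun a _ => Submodule.smul_mem _ _ (Submodule.subset_span ⟨_, rfl⟩)) hq
  have hpd : (Cᴴ * C).PosDef := Matrix.PosDef.conjTranspose_mul_self C hinj
  have hGA : Matrix.diagonal D * A.map (Int.castRingHom ℝ) = (2 : ℝ) • (Cᴴ * C) := by
    ext a b
    rw [Matrix.diagonal_mul, Matrix.smul_apply, Matrix.mul_apply]
    have h := congrArg (P.toLinearMap (P.root (b : ι))) (P.rootForm_self_smul_coroot (a : ι))
    simp only [Polarization_apply, map_smul, map_nsmul, map_sum, smul_eq_mul, nsmul_eq_mul,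
      root_coroot_eq_pairing] at h
    simp only [D, A, C, Matrix.map_apply, Matrix.of_apply, Matrix.conjTranspose_apply, star_trivial,
      eq_intCast, smul_eq_mul]
    rw [← Int.cast_mul, h, Int.cast_mul, Int.cast_sum]
    push_cast
    congr 1
  have hdet := congrArg Matrix.det hGA
  rw [Matrix.det_mul, Matrix.det_diagonal, Matrix.det_smul, ← RingHom.mapMatrix_apply,
    ← RingHom.map_det] at hdet
  have h1 : 0 < (∏ a, D a) := Finset.prod_pos fun a _ => hD a
  have h2 : (0 : ℝ) < (∏ a, D a) * (Int.castRingHom ℝ) A.det := by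
    rw [hdet]; exact mul_pos (pow_pos two_pos _) hpd.det_pos
  have h3 := (pos_iff_pos_of_mul_pos h2).mp h1
  simpa using h3

end Groth.Agent.S5484
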