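import Groth.Statements.S5485
import Groth.Agent.H21Root.Cone
import Groth.Agent.H21Root.Length

set_option autoImplicit false
open RootD

namespace Groth.Agent.S5485

open Groth.Agent.H21Root RootPairing

/-- If Δ is a system of simple roots then ind(Δ^v), the set of coroots of Δ with each divisible coroot
replaced by its half, is a system of simple coroots (a system of simple roots of the dual datum). -/
theorem result {ι M N : Type*} [AddCommGroup M] [AddCommGroup N]
    (P : RootPairing ι ℤ M N) [Finite ι] (Δ : Set ι) (hΔ : RootD.IsSimpleSys P Δ) :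
    RootD.IsSimpleSys P.flip {j : ι | ∃ i ∈ Δ, (j = i ∧ RootD.IsIndiv P.flip i) ∨ (2 : ℤ) • P.coroot j = P.coroot i} := by
  have := Fintype.ofFinite ι
  have hZ := simpleZ_of_isSimpleSys hΔ
  have hS := isPosSys_flip P hZ.isPosSys
  have hD := simpleZ_simples (P := P.flip) hS
  set Δ' : Set ι := {j : ι | ∃ i ∈ Δ, (j = i ∧ RootD.IsIndiv P.flip i) ∨ (2 : ℤ) • P.coroot j = P.coroot i}
  have := tf_left P
  have := tf_right P
  have hΔ' : ∀ j ∈ Δ', RootD.IsIndiv P.flip j ∧ j ∈ RootD.posOf P Δ ∧
      ∃ i ∈ Δ, ∃ c : ℕ, 0 < c ∧ c • P.coroot j = P.coroot i ∧ P.root j = c • P.root i := by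
    rintro j ⟨i, hi, ⟨rfl, hind⟩ | h⟩
    · exact ⟨hind, subset_posOf P Δ hi, j, hi, 1, one_pos, one_smul _ _, (one_smul _ _).symm⟩
    · have hroot : P.root j = (2 : ℤ) • P.root i := RootPairing.coroot_eq_smul_coroot_iff.mp h.symm
      refine ⟨fun k hk => ?_, ?_, i, hi, 2, two_pos,
        by rw [← h, ← natCast_zsmul]; rfl, by rw [hroot, ← natCast_zsmul]; rfl⟩
      · have hk' : P.coroot i = 4 • P.coroot k := by
          change (2 : ℤ) • P.coroot k = P.coroot j at hk
          rw [← h, ← hk, smul_smul]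
          exact natCast_zsmul (P.coroot k) 4
        rcases nsmul_eq_one_or_two (P := P.flip) hk' with h4 | h4 <;> simp at h4
      · change P.root j ∈ RootD.natSpan P Δ
        rw [hroot, show (2 : ℤ) • P.root i = 2 • P.root i from natCast_zsmul _ 2]
        exact AddSubmonoid.nsmul_mem _ (root_mem_natSpan P hi) _
  have hrep : ∀ i ∈ Δ, ∃ j ∈ Δ', ∃ c : ℕ, 0 < c ∧ P.coroot i = c • P.coroot j := by
    intro i hi
    by_cases hind : RootD.IsIndiv P.flip i
    · exact ⟨i, ⟨i, hi, Or.inl ⟨rfl, hind⟩⟩, 1, one_pos, (one_smul _ _).symm⟩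
    · simp only [RootD.IsIndiv, not_forall, not_not] at hind
      obtain ⟨j, hj⟩ := hind
      change (2 : ℤ) • P.coroot j = P.coroot i at hj
      exact ⟨j, ⟨i, hi, Or.inr hj⟩, 2, two_pos, by rw [← hj, ← natCast_zsmul]; rfl⟩
  have hnn : ∀ a, ((lg P a : ℤ)) = (((lg P a).toNat : ℕ) : ℤ) :=
    fun a => (Int.toNat_of_nonneg (lg_pos P a).le).symm
  have hcone : ∀ d ∈ RootD.posOf P Δ, ∃ n : ℕ, 0 < n ∧ n • P.coroot d ∈ RootD.natSpan P.flip Δ' := by
    intro d hd
    obtain ⟨m, -, hm, he⟩ := hZ.exists_rsum hd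
    have h := coroot_rel P (c := 1) (k := d) (by rw [one_smul]; exact he)
    simp only [Nat.cast_one, one_mul, Int.cast_id] at h
    refine ⟨(lg P d).toNat, by have := lg_pos P d; lia, ?_⟩
    rw [← natCast_zsmul, ← hnn, h]
    refine AddSubmonoid.multiset_sum_mem _ _ fun x hx => ?_
    obtain ⟨a, ha, rfl⟩ := Multiset.mem_map.mp hx
    obtain ⟨j, hj, c, -, hc⟩ := hrep a (hm a ha)
    rw [hnn, natCast_zsmul, hc]
    exact AddSubmonoid.nsmul_mem _ (AddSubmonoid.nsmul_mem _ (root_mem_natSpan P.flip hj) _) _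
  have hli : LinearIndepOn ℤ P.flip.root Δ' := by
    refine linearIndepOn_of_obtuse (P := P.flip) hS (fun j hj => (hΔ' j hj).2.1) fun a ha b hb hne => ?_
    obtain ⟨inda, -, i, hi, c, hc, hca, hra⟩ := hΔ' a ha
    obtain ⟨indb, -, i', hi', c', hc', hcb, hrb⟩ := hΔ' b hb
    have hcast : ∀ x y, P.pairingIn ℤ x y = P.pairing x y := fun x y => by simpa using cast_pairingIn P x y
    have hf : P.flip.pairingIn ℤ a b = P.pairing b a := by simpa using cast_pairingIn P.flip a b
    rw [hf]
    by_cases hii : i = i'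
    · subst hii
      exfalso
      have e : c • P.coroot a = c' • P.coroot b := hca.trans hcb.symm
      rcases nsmul_eq_one_or_two hra with rfl | rfl <;> rcases nsmul_eq_one_or_two hrb with rfl | rfl
      · exact hne (P.coroot.injective (by simpa using e))
      · refine inda b ?_
        change (2 : ℤ) • P.coroot b = P.coroot a
        rw [show (2 : ℤ) • P.coroot b = 2 • P.coroot b from natCast_zsmul _ 2, ← e, one_smul]
      · refine indb a ?_
        change (2 : ℤ) • P.coroot a = P.coroot b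
        rw [show (2 : ℤ) • P.coroot a = 2 • P.coroot a from natCast_zsmul _ 2, e, one_smul]
      · exact hne (P.coroot.injective (nsmul_right_injective (two_ne_zero) e))
    · have hneg : P.pairing i' i ≤ 0 := by
        rw [← hcast]
        have h1 := hi; have h2 := hi'
        rw [hZ.eq_simples] at h1 h2
        exact simples_pairingIn_nonpos hZ.isPosSys h2 h1 (Ne.symm hii)
      have he : (c : ℤ) * P.pairing b a = (c' : ℤ) * P.pairing i' i := by
        have h1 : P.toLinearMap (P.root b) (c • P.coroot a) = P.toLinearMap (c' • P.root i') (P.coroot i) := by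
          rw [hca, hrb]
        simpa [map_nsmul, nsmul_eq_mul] using h1
      by_contra hlt
      have : (0 : ℤ) < (c : ℤ) * P.pairing b a := Int.mul_pos (by lia) (by lia)
      have : (c' : ℤ) * P.pairing i' i ≤ 0 := mul_nonpos_of_nonneg_of_nonpos (Int.natCast_nonneg _) hneg
      lia
  rw [eq_simples_of_cone (P := P.flip) hS (fun j hj => (hΔ' j hj).1) (fun j hj => (hΔ' j hj).2.1) hli
    fun d hd => hcone d hd.1]
  exact hD.isSimpleSys

end Groth.Agent.S5485
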