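import Groth.Statements.S5486
import Groth.Agent.H21Root.Basic

set_option autoImplicit false
open RootD RootPairing

namespace Groth.Agent.S5486

open Groth.Agent.H21Root

/-- For orthogonal roots α, β, the sum α + β is a root if and only if the difference α - β is. -/
theorem result {ι M N : Type*} [AddCommGroup M] [AddCommGroup N]
    (P : RootPairing ι ℤ M N) [Finite ι] (i j : ι) (h : P.IsOrthogonal i j) :
    P.root i + P.root j ∈ Set.range P.root ↔ P.root i - P.root j ∈ Set.range P.root := by
  have key : ∀ p, P.root p = P.root i + P.root j → ∃ q, P.root q = P.root i - P.root j := fun p hp =>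
    ⟨P.reflectionPerm j p, by
      rw [root_reflectionPerm, hp, map_add, reflection_apply_self, reflection_apply_root, h.1,
        zero_smul, sub_zero, sub_eq_add_neg]⟩
  refine ⟨fun ⟨p, hp⟩ => key p hp, fun ⟨p, hp⟩ => ⟨P.reflectionPerm j p, ?_⟩⟩
  rw [root_reflectionPerm, hp, map_sub, reflection_apply_self, reflection_apply_root, h.1,
    zero_smul, sub_zero, sub_neg_eq_add]

end Groth.Agent.S5486
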