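import Groth.Statements.S5487
import Groth.Agent.H21Root.Length

set_option autoImplicit false
open RootD

namespace Groth.Agent.S5487

open Groth.Agent.H21Root RootPairing

/-- For non-orthogonal roots α, β one has ℓ(α) ℓ(α^v) = ℓ(β) ℓ(β^v), where ℓ is the canonical quadratic
form of the datum and of its dual. -/
theorem result {ι M N : Type*} [AddCommGroup M] [AddCommGroup N]
    (P : RootPairing ι ℤ M N) [Finite ι] [Fintype ι] (i j : ι) (h : ¬ P.IsOrthogonal i j) :
    P.RootForm (P.root i) (P.root i) * P.CorootForm (P.coroot i) (P.coroot i) =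
      P.RootForm (P.root j) (P.root j) * P.CorootForm (P.coroot j) (P.coroot j) := by
  have h2 : ¬ P.pairing j i = 0 := fun e => h ⟨P.pairing_eq_zero_iff'.mp e, e⟩
  have h3 : ¬ P.pairing i j = 0 := fun e => h ⟨e, P.pairing_eq_zero_iff'.mp e⟩
  have e1 := lg_mul_pairingIn P i j
  have e2 := lg_mul_pairingIn P.flip i j
  have c : ∀ a b, P.pairingIn ℤ a b = P.pairing a b := fun a b => by
    simpa using cast_pairingIn P a b
  have c' : ∀ a b, P.flip.pairingIn ℤ a b = P.pairing b a := fun a b => by
    simpa using cast_pairingIn P.flip a b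
  rw [c, c] at e1
  rw [c', c'] at e2
  have l := cast_lg P
  have l' := cast_lg P.flip
  simp only [Int.cast_id] at l l'
  rw [← l, ← l, show P.CorootForm (P.coroot i) (P.coroot i) = lg P.flip i from (l' i).symm,
    show P.CorootForm (P.coroot j) (P.coroot j) = lg P.flip j from (l' j).symm]
  refine mul_right_cancel₀ (mul_ne_zero h2 h3) ?_
  linear_combination (lg P.flip i * P.pairing i j) * e1 + (lg P j * P.pairing i j) * e2

end Groth.Agent.S5487
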