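import Groth.Statements.S5489
import Groth.Agent.H21Root.Basic

set_option autoImplicit false
open RootD

namespace Groth.Agent.S5489

open Groth.Agent.H21Root

/-- If a root α, distinct from roots α_1, ..., α_n, is a non-negative rational combination of them, then
some α_l with non-zero coefficient has (α^v, α_l) > 0 and α - α_l a root. -/
theorem result {ι M N : Type*} [AddCommGroup M] [AddCommGroup N]
    (P : RootPairing ι ℤ M N) [Finite ι] {n : ℕ} (a : Fin n → ι) (m : Fin n → ℕ)
    (k : ι) (hne : ∀ l, a l ≠ k) (c : ℕ) (hc : 0 < c) (hk : c • P.root k = ∑ l, m l • P.root (a l)) :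
    ∃ l : Fin n, m l ≠ 0 ∧ 0 < P.pairing (a l) k ∧ P.root k - P.root (a l) ∈ Set.range P.root := by
  have hsum : (∑ l, (m l : ℤ) * P.pairing (a l) k) = (c : ℤ) * 2 := by
    have := congrArg (P.coroot' k) hk
    simpa [map_sum, map_nsmul, nsmul_eq_mul] using this.symm
  obtain ⟨l, -, hl⟩ : ∃ l ∈ Finset.univ, 0 < (m l : ℤ) * P.pairing (a l) k := by
    by_contra h
    simp only [not_exists, not_and, not_lt] at h
    have := Finset.sum_nonpos h
    lia
  have hm : m l ≠ 0 := fun e => by simp [e] at hl
  have hp : 0 < P.pairing (a l) k := by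
    by_contra h
    have := mul_nonpos_of_nonneg_of_nonpos (Int.natCast_nonneg (m l)) (not_lt.mp h)
    lia
  refine ⟨l, hm, hp, ?_⟩
  have hp' : 0 < P.pairingIn ℤ (a l) k := by
    have := cast_pairingIn P (a l) k
    simp only [Int.cast_id] at this
    rwa [this]
  exact P.root_sub_root_mem_of_pairingIn_pos (pairingIn_pos_symm P hp') (hne l).symm

end Groth.Agent.S5489
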