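import Groth.Statements.S5493
import Groth.Agent.H21Root.Weyl

set_option autoImplicit false
open RootD

namespace Groth.Agent.S5493

open Groth.Agent.H21Root RootPairing

theorem hind {κ A B : Type*} [AddCommGroup A] [AddCommGroup B] (Q : RootPairing κ ℤ A B) [Finite κ]
    [Q.IsReduced] (k : κ) : RootD.IsIndiv Q k := fun j hj => by
  have := tf_left Q
  exact Q.nsmul_notMem_range_root (n := 2) (i := j) ⟨k, by rw [← hj]; exact natCast_zsmul _ 2⟩

theorem hbas {κ A B : Type*} [AddCommGroup A] [AddCommGroup B] (Q : RootPairing κ ℤ A B) (c : Q.Base)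
    (h : Submodule.span ℤ (Set.range Q.root) = ⊤) :
    ∃ β : Module.Basis ↥c.support ℤ A, ∀ a : ↥c.support, β a = Q.root (a : κ) := by
  have hsp : ⊤ ≤ Submodule.span ℤ (Set.range fun a : ↥c.support => Q.root (a : κ)) := by
    rw [← h, Submodule.span_le]
    rintro _ ⟨i, rfl⟩
    have := c.root_mem_span_int i
    rw [Set.image_eq_range] at this
    exact this
  exact ⟨Module.Basis.mk c.linearIndepOn_root hsp, fun a => by simp⟩


/-- Adjoint case; the simply connected case is dual: two reduced adjoint root data with systems of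
simple roots Δ, Δ' and a bijection u : Δ → Δ' respecting the Cartan matrices are isomorphic through
a unique isomorphism inducing u on Δ. -/
theorem result {ι M N ι' M' N' : Type*} [AddCommGroup M] [AddCommGroup N] [AddCommGroup M'] [AddCommGroup N']
    (P : RootPairing ι ℤ M N) (P' : RootPairing ι' ℤ M' N') [Finite ι] [Finite ι'] [P.IsReduced] [P'.IsReduced]
    (had : Submodule.span ℤ (Set.range P.root) = ⊤) (had' : Submodule.span ℤ (Set.range P'.root) = ⊤)
    (b : P.Base) (b' : P'.Base) (u : ↥b.support ≃ ↥b'.support)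
    (hu : ∀ i j : ↥b.support, P.pairing (i : ι) (j : ι) = P'.pairing (u i : ι') (u j : ι')) :
    ∃! e : RootPairing.Equiv P P', ∀ i : ↥b.support, e.indexEquiv (i : ι) = (u i : ι') := by
  classical
  have hZ := simpleZ_base b
  have hZ' := simpleZ_base b'
  have := tf_left P
  have := tf_left P'
  obtain ⟨β, hβ⟩ := hbas P b had
  obtain ⟨β', hβ'⟩ := hbas P' b' had'
  let F : M ≃ₗ[ℤ] M' := β.equiv β' u
  have hF : ∀ a : ↥b.support, F (P.root (a : ι)) = P'.root (u a : ι') := fun a => by
    rw [← hβ, ← hβ']; exact β.equiv_apply a β' u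
  have hco : ∀ (a : ↥b.support) (x : M), P'.coroot' (u a : ι') (F x) = P.coroot' (a : ι) x := by
    intro a x
    have : (P'.coroot' (u a : ι')).comp F.toLinearMap = P.coroot' (a : ι) := by
      refine β.ext fun c => ?_
      rw [hβ, LinearMap.comp_apply, LinearEquiv.coe_coe, hF, root_coroot'_eq_pairing,
        root_coroot'_eq_pairing, hu]
    exact DFunLike.congr_fun this x
  have hsr : ∀ (a : ↥b.support) (x : M), F (P.reflection (a : ι) x) = P'.reflection (u a : ι') (F x) :=
    fun a x => by rw [reflection_apply, reflection_apply, map_sub, map_smul, hF, hco]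
  have key : ∀ i : ι, ∃ i' : ι', P'.root i' = F (P.root i) ∧ ∀ x, P'.coroot' i' (F x) = P.coroot' i x := by
    intro i
    obtain ⟨w, hw, a, ha, rfl⟩ := hZ.exists_smul_eq (hind P i)
    obtain ⟨l, hl, rfl⟩ := exists_word P hw
    clear hw
    induction l with
    | nil => exact ⟨u ⟨a, ha⟩, by rw [wl_nil, one_smul, hF ⟨a, ha⟩], fun x => by rw [wl_nil, one_smul, hco ⟨a, ha⟩]⟩
    | cons c l ih =>
      obtain ⟨i', h1, h2⟩ := ih fun y hy => hl y (List.mem_cons_of_mem c hy)
      let c' : ↥b.support := ⟨c, hl c List.mem_cons_self⟩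
      refine ⟨P'.reflectionPerm (u c' : ι') i', ?_, fun x => ?_⟩
      · rw [root_reflectionPerm, h1, wl_cons, mul_smul, sr_smul, root_reflectionPerm, hsr c']
      · rw [wl_cons, mul_smul, sr_smul, ← coroot'_reflection, ← coroot'_reflection, ← h2, hsr c']
  choose φ hφroot hφco using key
  have hsurj : Function.Surjective φ := by
    intro i'
    obtain ⟨w, hw, a, ha, rfl⟩ := hZ'.exists_smul_eq (hind P' i')
    obtain ⟨l, hl, rfl⟩ := exists_word P' hw
    clear hw
    induction l with
    | nil =>
      refine ⟨(u.symm ⟨a, ha⟩ : ι), P'.root.injective ?_⟩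
      rw [hφroot, hF, _root_.Equiv.apply_symm_apply, wl_nil, one_smul]
    | cons c l ih =>
      obtain ⟨i, hi⟩ := ih fun y hy => hl y (List.mem_cons_of_mem c hy)
      refine ⟨P.reflectionPerm (u.symm ⟨c, hl c List.mem_cons_self⟩ : ι) i, P'.root.injective ?_⟩
      rw [hφroot, root_reflectionPerm, hsr, ← hφroot, hi, _root_.Equiv.apply_symm_apply, wl_cons,
        mul_smul, sr_smul, root_reflectionPerm]
  have hinj : Function.Injective φ := fun i j h => P.root.injective (F.injective (by rw [← hφroot, ← hφroot, h]))
  let e₀ : ι ≃ ι' := _root_.Equiv.ofBijective φ ⟨hinj, hsurj⟩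
  let G : N' ≃ₗ[ℤ] N := P'.flip.toPerfPair.trans (F.dualMap.trans P.flip.toPerfPair.symm)
  have hG : ∀ (y : N') (x : M), P.toLinearMap x (G y) = P'.toLinearMap (F x) y := by
    intro y x
    have : P.flip.toPerfPair (G y) = F.dualMap (P'.flip.toPerfPair y) := by simp [G]
    exact DFunLike.congr_fun this x
  let e : RootPairing.Equiv P P' :=
    { weightMap := F.toLinearMap
      coweightMap := G.toLinearMap
      indexEquiv := e₀
      weight_coweight_transpose := LinearMap.ext fun y => LinearMap.ext fun x => (hG y x).symm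
      root_weightMap := funext fun i => (hφroot i).symm
      coroot_coweightMap := funext fun i' => by
        obtain ⟨i, rfl⟩ := e₀.surjective i'
        simp only [Function.comp_apply, _root_.Equiv.symm_apply_apply, LinearEquiv.coe_coe]
        refine (LinearMap.IsPerfPair.bijective_right P.toLinearMap).1 (LinearMap.ext fun x => ?_)
        exact (hG (P'.coroot (φ i)) x).trans (hφco i x)
      bijective_weightMap := F.bijective
      bijective_coweightMap := G.bijective }
  refine ⟨e, fun a => P'.root.injective ((hφroot a).trans (hF a)), fun e' he' => ?_⟩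
  have hw : e'.toHom.weightMap = F.toLinearMap := β.ext fun a => by
    rw [hβ, RootPairing.Hom.root_weightMap_apply]
    change P'.root (e'.indexEquiv a) = F _
    rw [he', hF]
  refine RootPairing.Equiv.ext hw ?_ ?_
  · refine LinearMap.ext fun y => (LinearMap.IsPerfPair.bijective_right P.toLinearMap).1 (LinearMap.ext fun x => ?_)
    have h1 : P'.toLinearMap (e'.toHom.weightMap x) y = P.toLinearMap x (e'.toHom.coweightMap y) :=
      DFunLike.congr_fun (RootPairing.Hom.weight_coweight_transpose_apply P P' y e'.toHom) x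
    rw [hw] at h1
    exact h1.symm.trans (hG y x).symm
  · refine _root_.Equiv.ext fun i => P'.root.injective ?_
    rw [← RootPairing.Hom.root_weightMap_apply, hw]
    exact (hφroot i).symm

end Groth.Agent.S5493
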