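import Groth.Statements.S5506
import Groth.Agent.H21Root.Basic

set_option autoImplicit false
open RootD RootPairing

namespace Groth.Agent.S5506

open Groth.Agent.H21Root

/-- The class of a root under 'joined by a chain of pairwise non-orthogonal roots' is closed and
symmetric, and so is its complement; these classes are the irreducible components. -/
theorem result {ι M N : Type*} [AddCommGroup M] [AddCommGroup N]
    (P : RootPairing ι ℤ M N) [Finite ι] (i : ι) :
    RootD.IsClosedSub P {j : ι | Relation.ReflTransGen (fun a b : ι => ¬ P.IsOrthogonal a b) i j} ∧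
      RootD.IsSymmSub P {j : ι | Relation.ReflTransGen (fun a b : ι => ¬ P.IsOrthogonal a b) i j} ∧
      RootD.IsClosedSub P {j : ι | Relation.ReflTransGen (fun a b : ι => ¬ P.IsOrthogonal a b) i j}ᶜ ∧
      RootD.IsSymmSub P {j : ι | Relation.ReflTransGen (fun a b : ι => ¬ P.IsOrthogonal a b) i j}ᶜ := by
  set C : Set ι := {j : ι | Relation.ReflTransGen (fun a b : ι => ¬ P.IsOrthogonal a b) i j}
  have hstep : ∀ a b, a ∈ C → ¬ P.IsOrthogonal a b → b ∈ C := fun a b ha h => ha.tail h
  have hno : ∀ a, ¬ P.IsOrthogonal a (opp P a) := fun a h => by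
    have := h.1
    simp at this
  have hso : ∀ a, ¬ P.IsOrthogonal (opp P a) a := fun a h => hno a h.symm
  have hsum : ∀ {a b c}, P.root c = P.root a + P.root b →
      ¬ P.IsOrthogonal a c ∨ ¬ P.IsOrthogonal b c := fun {a b c} h => by
    by_contra hh
    obtain ⟨h1, h2⟩ := not_or.mp hh
    have := RootPairing.pairing_eq_add_of_root_eq_add (l := c) h
    rw [pairing_same, (not_not.mp h1).1, (not_not.mp h2).1] at this
    simp at this
  refine ⟨fun a b c ha hb h => ?_, fun a ha => hstep a _ ha (hno a), fun a b c ha hb h hc => ?_,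
    fun a ha h => ha (by simpa [opp_opp] using hstep _ a h (hso a))⟩
  · rcases hsum h with h' | h'
    exacts [hstep a c ha h', hstep b c hb h']
  · rcases hsum h with h' | h'
    exacts [ha (hstep c a hc fun e => h' e.symm), hb (hstep c b hc fun e => h' e.symm)]

end Groth.Agent.S5506
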