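import Groth.Statements.S5494
import Groth.Agent.H21Root.Cone
import Groth.Agent.S5482
import Groth.Agent.S5506

set_option autoImplicit false
open RootD

namespace Groth.Agent.S5494

open Groth.Agent.H21Root RootPairing

/-- If a system of simple roots has no partition into two non-empty orthogonal subsets, then any two
roots are linked by a chain of roots with consecutive members non-orthogonal. -/
theorem result {ι M N : Type*} [AddCommGroup M] [AddCommGroup N]
    (P : RootPairing ι ℤ M N) [Finite ι] (Δ : Set ι) (hΔ : RootD.IsSimpleSys P Δ)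
    (hconn : ∀ Δ' : Set ι, Δ' ⊆ Δ → (∀ i ∈ Δ', ∀ j ∈ Δ \ Δ', P.IsOrthogonal i j) → Δ' = ∅ ∨ Δ' = Δ)
    (i j : ι) : Relation.ReflTransGen (fun a b : ι => ¬ P.IsOrthogonal a b) i j := by
  obtain ⟨hc, hs, hc', hs'⟩ := S5506.result P i
  obtain ⟨h1, h2, h3⟩ := S5482.result P Δ hΔ _ hc hs hc' hs'
  set C : Set ι := {j : ι | Relation.ReflTransGen (fun a b : ι => ¬ P.IsOrthogonal a b) i j}
  have hi : i ∈ C := Relation.ReflTransGen.refl
  rcases hconn (Δ ∩ C) Set.inter_subset_left (fun a ha b hb => h3 a ha b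
    ⟨hb.1, fun hbC => hb.2 ⟨hb.1, hbC⟩⟩) with h | h
  · rw [h1, h] at hi
    change P.root i ∈ Submodule.span ℤ (P.root '' ∅) at hi
    rw [Set.image_empty, Submodule.span_empty, Submodule.mem_bot] at hi
    exact absurd hi (root_ne_zero P i)
  · by_contra hj
    have hj' : j ∈ Cᶜ := hj
    rw [h2, Set.diff_eq_empty.mpr (h ▸ Set.inter_subset_right)] at hj'
    change P.root j ∈ Submodule.span ℤ (P.root '' ∅) at hj'
    rw [Set.image_empty, Submodule.span_empty, Submodule.mem_bot] at hj'
    exact root_ne_zero P j hj'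

end Groth.Agent.S5494
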