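import Groth.Statements.S5495
import Groth.Agent.H21Root.Construct

set_option autoImplicit false
open RootD

namespace Groth.Agent.S5495

open Groth.Agent.H21Root

/-- If α is an indivisible root and kα is a root for a rational k, then k is an integer. -/
theorem result {ι M N : Type*} [AddCommGroup M] [AddCommGroup N]
    (P : RootPairing ι ℤ M N) [Finite ι] (i j : ι) (hind : RootD.IsIndiv P i) (a b : ℤ) (hb : b ≠ 0)
    (h : b • P.root j = a • P.root i) : b ∣ a := by
  obtain ⟨Δ, hΔ⟩ := exists_simpleZ P
  obtain ⟨w, -, s, hs, rfl⟩ := hΔ.exists_smul_eq hind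
  classical
  have h' : b • P.root (w⁻¹ • j) = a • P.root s := by
    rw [root_smul, smul_comm b w⁻¹, h, root_smul, smul_comm a w, inv_smul_smul]
  obtain ⟨m, m', hm, hm', he⟩ := exists_rsum_sub P (S := Δ) (x := P.root (w⁻¹ • j)) (by
    rcases hΔ.cover (w⁻¹ • j) with h | h
    · exact natSpan_subset_zspan P h
    · exact (Submodule.neg_mem_iff _).mp (natSpan_subset_zspan P h))
  have := linearIndepOn_iff.mp hΔ.li (b • (toF m - toF m') - a • Finsupp.single s 1)
    (Submodule.sub_mem _ (Submodule.smul_mem _ _ (Submodule.sub_mem _ (toF_mem_supported hm)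
      (toF_mem_supported hm'))) (Submodule.smul_mem _ _ (Finsupp.single_mem_supported ℤ _ hs)))
    (by rw [map_sub, map_smul, map_smul, map_sub, linearCombination_toF, linearCombination_toF, ← he,
      Finsupp.linearCombination_single, one_smul, h', sub_self])
  have := DFunLike.congr_fun this s
  simp only [Finsupp.sub_apply, Finsupp.smul_apply, smul_eq_mul, Finsupp.single_eq_same, mul_one,
    Finsupp.zero_apply, sub_eq_zero] at this
  exact ⟨_, this.symm⟩

end Groth.Agent.S5495
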