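import Groth.Statements.S5496
import Groth.Agent.H21Root.Length
import Groth.Agent.S5468

set_option autoImplicit false
open RootPairing
open scoped Pointwise
open RootD

namespace Groth.Agent.S5496

open Groth.Agent.H21Root RootPairing

/-- For non-proportional roots α, β let n be the least integer n > 0 with (s_α s_β)^n(α) = α and (s_α
s_β)^n(β) = β. Then the subgroup W_{α,β} generated by s_α and s_β is presented by s_α² = s_β² = (s_α
s_β)^n = 1; equivalently it has exactly 2n elements. -/
theorem result {ι M N : Type*} [AddCommGroup M] [AddCommGroup N]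
    (P : RootPairing ι ℤ M N) [Finite ι] (i j : ι) (hli : LinearIndependent ℤ ![P.root i, P.root j])
    (n : ℕ) (hn : IsLeast {m : ℕ | 0 < m ∧ ((Equiv.reflection P i * Equiv.reflection P j) ^ m) • i = i ∧
      ((Equiv.reflection P i * Equiv.reflection P j) ^ m) • j = j} n) :
    Nat.card (Subgroup.closure ({Equiv.reflection P i, Equiv.reflection P j} : Set P.Aut)) = 2 * n := by
  classical
  have := Fintype.ofFinite ι
  set a := sr P i with ha_def
  set b := sr P j with hb_def
  set r := a * b with hr_def
  obtain ⟨⟨hn0, hni, hnj⟩, hmin⟩ := hn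
  have hfix : ∀ g ∈ WOf P ({i, j} : Set ι), g • i = i → g • j = j → g = 1 := by
    intro g hg hi hj
    obtain ⟨l, hl, rfl⟩ := exists_word P hg
    have hmem : ∀ x : M, ∀ l : List ι, (∀ c ∈ l, c ∈ ({i, j} : Set ι)) →
        wl P l • x - x ∈ Submodule.span ℤ (P.root '' {i, j}) := by
      intro x l hl
      induction l with
      | nil => simp
      | cons c l ih =>
        rw [wl_cons, mul_smul, RootPairing.Equiv.reflection_smul, reflection_apply, sub_right_comm]
        exact sub_mem (ih fun y hy => hl y (List.mem_cons_of_mem c hy))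
          (Submodule.smul_mem _ _ (Submodule.subset_span ⟨c, hl c List.mem_cons_self, rfl⟩))
    refine aut_ext P fun x => ?_
    rw [one_smul]
    have hx := hmem x l hl
    have hz : ∀ c, wl P l • c = c → P.RootForm (P.root c) (wl P l • x - x) = 0 := by
      intro c hc
      have h2 : P.coroot' c (wl P l • x - x) = 0 := by
        rw [map_sub]
        conv_lhs => arg 1; arg 1; rw [← hc]
        rw [coroot'_smul, sub_self]
      have h := lg_mul_coroot' P c (wl P l • x - x)
      rw [h2, mul_zero] at h
      simpa using h.symm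
    have hBy : ∀ y ∈ Submodule.span ℤ (P.root '' {i, j}), P.RootForm y (wl P l • x - x) = 0 := by
      intro y hy
      induction hy using Submodule.span_induction with
      | mem z hz' => obtain ⟨c, hc | hc, rfl⟩ := hz' <;> subst hc; exacts [hz _ hi, hz _ hj]
      | zero => simp
      | add u v _ _ h1 h2 => rw [map_add, LinearMap.add_apply, h1, h2, add_zero]
      | smul t u _ h1 => rw [map_smul, LinearMap.smul_apply, h1, smul_zero]
    have hmem' : wl P l • x - x ∈ Submodule.span ℤ (Set.range P.root) :=
      Submodule.span_mono (Set.image_subset_range _ _) hx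
    exact sub_eq_zero.mp (P.eq_zero_of_mem_rootSpan_of_rootForm_self_eq_zero hmem' (hBy _ hx))
  have hrmem : r ∈ WOf P ({i, j} : Set ι) :=
    mul_mem (Subgroup.subset_closure ⟨i, by simp, rfl⟩) (Subgroup.subset_closure ⟨j, by simp, rfl⟩)
  have hord : orderOf r = n := by
    rw [orderOf_eq_iff hn0]
    refine ⟨hfix _ (pow_mem hrmem n) hni hnj, fun m hm hm0 hr => ?_⟩
    have : n ≤ m := hmin ⟨hm0, by show (r ^ m) • i = i; rw [hr, one_smul],
      by show (r ^ m) • j = j; rw [hr, one_smul]⟩
    omega
  have hane : a ≠ 1 := fun h => by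
    have := congrArg (fun g : P.Aut => g • P.root i) h
    simp only [ha_def, RootPairing.Equiv.reflection_smul, reflection_apply_self, one_smul] at this
    have htf := tf_left P
    rw [neg_eq_self] at this
    exact root_ne_zero P i this
  have hbne : b ≠ 1 := fun h => by
    have := congrArg (fun g : P.Aut => g • P.root j) h
    simp only [hb_def, RootPairing.Equiv.reflection_smul, reflection_apply_self, one_smul] at this
    have htf := tf_left P
    rw [neg_eq_self] at this
    exact root_ne_zero P j this
  have haa : a * a = 1 := sr_mul_self P i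
  have hbb : b * b = 1 := sr_mul_self P j
  have har : a * r = b := by rw [hr_def, ← mul_assoc, haa, one_mul]
  have hconj : ∀ k : ℤ, a * r ^ k = r ^ (-k) * a := by
    have h1 : a * r * a⁻¹ = r⁻¹ := by rw [har, hr_def, mul_inv_rev, RootPairing.Equiv.reflection_inv, RootPairing.Equiv.reflection_inv]
    intro k
    have h2 := map_zpow (MulAut.conj a) r k
    simp only [MulAut.conj_apply, h1, inv_zpow'] at h2
    rw [← h2, inv_mul_cancel_right]
  have hna : a ∉ Subgroup.zpowers r := by
    rintro ⟨k, hk⟩
    have hcomm : a * r = r * a := by rw [← hk]; exact (Commute.zpow_self r k).eq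
    have hab : a * b = b * a := by
      rw [har, hr_def] at hcomm
      calc a * b = a * (a * b * a) := by rw [← hcomm]
        _ = b * a := by rw [← mul_assoc, ← mul_assoc, haa, one_mul]
    have hne : P.reflection i ≠ P.reflection j := by
      intro h
      have h' := DFunLike.congr_fun h (P.root i)
      rw [reflection_apply_self, reflection_apply_root] at h'
      have := LinearIndependent.pair_iff.mp hli 2 (-(P.pairing i j)) (by
        rw [neg_smul, two_smul]
        linear_combination (norm := module) -h')
      simp at this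
    have hc : Commute (P.reflection i) (P.reflection j) := LinearEquiv.ext fun x =>
      congrArg (fun g : P.Aut => g • x) hab
    have horth := S5468.result P i j hne hc
    have hr2 : r * r = 1 := by
      rw [hr_def, mul_assoc, ← mul_assoc b, ← hab, mul_assoc a b, hbb, mul_one, haa]
    rcases Int.even_or_odd k with ⟨t, rfl⟩ | ⟨t, rfl⟩
    · refine hane (hk.symm.trans ?_)
      change r ^ (t + t) = 1
      rw [← two_mul, zpow_mul, zpow_two, hr2, one_zpow]
    · refine hbne (?_ : b = 1)
      change r ^ (2 * t + 1) = a at hk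
      rw [zpow_add_one, zpow_mul, zpow_two, hr2, one_zpow, one_mul] at hk
      rw [hr_def] at hk
      exact mul_eq_left.mp hk
  let S : Set P.Aut := {g | ∃ k : ℤ, g = r ^ k ∨ g = a * r ^ k}
  have hS : (Subgroup.closure ({RootPairing.Equiv.reflection P i, RootPairing.Equiv.reflection P j} : Set P.Aut) : Set P.Aut) = S := by
    refine Set.Subset.antisymm ?_ ?_
    · intro g hg
      induction hg using Subgroup.closure_induction with
      | mem x hx =>
        rcases hx with rfl | rfl
        · exact ⟨0, Or.inr (by rw [zpow_zero, mul_one])⟩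
        · exact ⟨1, Or.inr (by rw [zpow_one, har])⟩
      | one => exact ⟨0, Or.inl (zpow_zero r).symm⟩
      | mul x y _ _ hx hy =>
        obtain ⟨k, rfl | rfl⟩ := hx <;> obtain ⟨t, rfl | rfl⟩ := hy
        · exact ⟨k + t, Or.inl (zpow_add r k t).symm⟩
        · refine ⟨-k + t, Or.inr ?_⟩
          conv_lhs => rw [← mul_assoc, show r ^ k * a = a * r ^ (-k) by rw [hconj, neg_neg]]
          rw [mul_assoc, ← zpow_add]
        · exact ⟨k + t, Or.inr (by rw [mul_assoc, ← zpow_add])⟩
        · refine ⟨-k + t, Or.inl ?_⟩
          rw [mul_assoc, ← mul_assoc (r ^ k), show r ^ k * a = a * r ^ (-k) by rw [hconj, neg_neg],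
            mul_assoc a, ← mul_assoc a a, haa, one_mul, ← zpow_add]
      | inv x _ hx =>
        obtain ⟨k, rfl | rfl⟩ := hx
        · exact ⟨-k, Or.inl (zpow_neg r k).symm⟩
        · exact ⟨k, Or.inr (by rw [mul_inv_rev, RootPairing.Equiv.reflection_inv, hconj, zpow_neg])⟩
    · have h1 : a ∈ Subgroup.closure ({RootPairing.Equiv.reflection P i, RootPairing.Equiv.reflection P j} : Set P.Aut) :=
        Subgroup.subset_closure (Set.mem_insert _ _)
      have h2 : b ∈ Subgroup.closure ({RootPairing.Equiv.reflection P i, RootPairing.Equiv.reflection P j} : Set P.Aut) :=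
        Subgroup.subset_closure (Set.mem_insert_of_mem _ (Set.mem_singleton _))
      have h3 := mul_mem h1 h2
      rintro g ⟨k, rfl | rfl⟩
      · exact zpow_mem h3 k
      · exact mul_mem h1 (zpow_mem h3 k)
  have hfo : IsOfFinOrder r := orderOf_pos_iff.mp (hord ▸ hn0)
  have hfin : (Subgroup.zpowers r : Set P.Aut).Finite := hfo.finite_zpowers
  have hcard : (Subgroup.zpowers r : Set P.Aut).ncard = n := by
    rw [← hord, ← Nat.card_zpowers, ← Nat.card_coe_set_eq]; rfl
  change Nat.card ((Subgroup.closure _ : Subgroup P.Aut) : Set P.Aut) = _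
  rw [Nat.card_coe_set_eq, hS]
  have hSu : S = (Subgroup.zpowers r : Set P.Aut) ∪ (fun g => a * g) '' (Subgroup.zpowers r : Set P.Aut) := by
    ext g
    constructor
    · rintro ⟨k, rfl | rfl⟩
      · exact Or.inl ⟨k, rfl⟩
      · exact Or.inr ⟨_, ⟨k, rfl⟩, rfl⟩
    · rintro (⟨k, rfl⟩ | ⟨_, ⟨k, rfl⟩, rfl⟩)
      · exact ⟨k, Or.inl rfl⟩
      · exact ⟨k, Or.inr rfl⟩
  rw [hSu, Set.ncard_union_eq ?_ hfin (hfin.image _),
    Set.ncard_image_of_injective _ (mul_right_injective a), hcard, two_mul]
  rw [Set.disjoint_left]
  rintro _ hx ⟨y, hy, rfl⟩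
  exact hna ((Subgroup.mul_mem_cancel_right _ hy).mp hx)

end Groth.Agent.S5496
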