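import Groth.Statements.S5499
import Groth.Agent.H21Root.Irred

set_option autoImplicit false
open RootD

namespace Groth.Agent.S5499

open Groth.Agent.H21Root RootPairing

/-- For an irreducible datum, where long(α) = ℓ(α)/ℓ(α₀) with ℓ(α₀) minimal: there is a unique
homomorphism u : Γ_0(R) → M^v with u(α) = long(α) α^v for every root α. -/
theorem result {ι M N : Type*} [AddCommGroup M] [AddCommGroup N]
    (P : RootPairing ι ℤ M N) [Finite ι] [Fintype ι]
    (hirr : ∀ R' : Set ι, RootD.IsClosedSub P R' → RootD.IsSymmSub P R' → RootD.IsClosedSub P R'ᶜ →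
      RootD.IsSymmSub P R'ᶜ → R' = ∅ ∨ R' = Set.univ)
    (i₀ : ι) (hmin : ∀ i : ι, P.RootForm (P.root i₀) (P.root i₀) ≤ P.RootForm (P.root i) (P.root i)) :
    ∃! u : Submodule.span ℤ (Set.range P.root) →+ N, ∀ i : ι,
      u ⟨P.root i, Submodule.subset_span (Set.mem_range_self i)⟩ =
        (P.RootForm (P.root i) (P.root i) / P.RootForm (P.root i₀) (P.root i₀)) • P.coroot i := by
  classical
  have hP : IsIrred P := hirr
  have l := cast_lg P
  simp only [Int.cast_id] at l
  simp only [← l] at hmin ⊢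
  have := tf_right P
  have hne : lg P i₀ ≠ 0 := (lg_pos P i₀).ne'
  have hdvd : ∀ i, lg P i₀ ∣ lg P i := by
    intro i
    obtain ⟨g, -, hno⟩ := hP.exists_orbit_not_orth i₀ i
    have h0 : P.pairingIn ℤ (g • i₀) i ≠ 0 := fun e => hno (by
      have : P.pairing (g • i₀) i = 0 := by rw [← cast_pairingIn, e, Int.cast_zero]
      exact ⟨this, P.pairing_eq_zero_iff'.mp this⟩)
    have e := lg_mul_pairingIn P i (g • i₀)
    rw [lg_smul] at e
    have hmem := P.pairingIn_pairingIn_mem_set_of_isCrystallographic (g • i₀) i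
    have hle := hmin i
    have h1 : lg P i = lg P i₀ ∨ P.pairingIn ℤ (g • i₀) i = 1 ∨ P.pairingIn ℤ (g • i₀) i = -1 := by
      simp only [Set.mem_insert_iff, Set.mem_singleton_iff, Prod.mk.injEq] at hmem
      have := lg_pos P i₀
      rcases hmem with h | h | h | h | h | h | h | h | h | h | h | h | h | h | h | h | h <;>
        rw [h.1, h.2] at e <;> simp only [h.1] at h0 ⊢ <;> lia
    rcases h1 with h | h | h
    · rw [h]
    · rw [h, mul_one] at e; exact ⟨_, e⟩
    · rw [h, mul_neg, mul_one, neg_eq_iff_eq_neg, ← mul_neg] at e; exact ⟨_, e⟩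
  have key : ∀ i, lg P i₀ • ((lg P i / lg P i₀) • P.coroot i) = 2 • P.Polarization (P.root i) := by
    intro i
    rw [← mul_smul, Int.mul_ediv_cancel' (hdvd i)]
    simpa using lg_smul_coroot P i
  have hex : ∀ x ∈ Submodule.span ℤ (Set.range P.root), ∃ y, lg P i₀ • y = 2 • P.Polarization x := by
    intro x hx
    induction hx using Submodule.span_induction with
    | mem y hy => obtain ⟨i, rfl⟩ := hy; exact ⟨_, key i⟩
    | zero => exact ⟨0, by simp⟩
    | add y z _ _ hy hz =>
      obtain ⟨a, ha⟩ := hy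
      obtain ⟨c, hc⟩ := hz
      exact ⟨a + c, by rw [smul_add, ha, hc, map_add, smul_add]⟩
    | smul c y _ hy =>
      obtain ⟨a, ha⟩ := hy
      exact ⟨c • a, by rw [smul_comm, ha, map_smul, smul_comm]⟩
  choose y hy using hex
  have hinj : Function.Injective (fun z : N => lg P i₀ • z) := fun a b h => by
    have h' : lg P i₀ • (a - b) = 0 := by rw [smul_sub]; exact sub_eq_zero.mpr h
    exact sub_eq_zero.mp ((smul_eq_zero.mp h').resolve_left hne)
  refine ⟨AddMonoidHom.mk' (fun x => y x.1 x.2) (fun a c => hinj (by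
    simp only [smul_add, hy, Submodule.coe_add, map_add])), fun i => hinj (by
    simp only [AddMonoidHom.mk'_apply, hy, key]), fun u hu => AddMonoidHom.ext ?_⟩
  rintro ⟨x, hx⟩
  apply hinj
  simp only [AddMonoidHom.mk'_apply, hy]
  induction hx using Submodule.span_induction with
  | mem y hy => obtain ⟨i, rfl⟩ := hy; rw [hu, key]
  | zero => rw [show (⟨0, _⟩ : Submodule.span ℤ (Set.range P.root)) = 0 from rfl, map_zero]; simp
  | add y z hy hz h1 h2 =>
    rw [show (⟨y + z, _⟩ : Submodule.span ℤ (Set.range P.root)) = ⟨y, hy⟩ + ⟨z, hz⟩ from rfl, map_add,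
      smul_add, h1, h2, map_add, smul_add]
  | smul c y hy h1 =>
    rw [show (⟨c • y, _⟩ : Submodule.span ℤ (Set.range P.root)) = c • ⟨y, hy⟩ from rfl, map_zsmul,
      smul_comm, h1, map_smul, smul_comm]

end Groth.Agent.S5499
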