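import Groth.Statements.S5500
import Groth.Agent.H21Root.PMor
import Groth.Agent.H21Root.Irred

set_option autoImplicit false
open RootD

namespace Groth.Agent.S5500

open Groth.Agent.H21Root RootPairing

/-- For a p-morphism between irreducible reduced root data there is a rational constant k with k ·
long(u(α)) = q(α)² · long(α) for every root α; stated as the proportionality q(α)² ℓ(α) ℓ'(u β) =
q(β)² ℓ(β) ℓ'(u α) of the canonical quadratic forms. -/
theorem result {ι M N ι' M' N' : Type*} [AddCommGroup M] [AddCommGroup N] [AddCommGroup M'] [AddCommGroup N']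
    (P : RootPairing ι ℤ M N) (P' : RootPairing ι' ℤ M' N') [Finite ι] [Finite ι'] [Fintype ι] [Fintype ι'] [P.IsReduced] [P'.IsReduced]
    (hirr : ∀ R₁ : Set ι, RootD.IsClosedSub P R₁ → RootD.IsSymmSub P R₁ → RootD.IsClosedSub P R₁ᶜ →
      RootD.IsSymmSub P R₁ᶜ → R₁ = ∅ ∨ R₁ = Set.univ)
    (hirr' : ∀ R₁ : Set ι', RootD.IsClosedSub P' R₁ → RootD.IsSymmSub P' R₁ → RootD.IsClosedSub P' R₁ᶜ →
      RootD.IsSymmSub P' R₁ᶜ → R₁ = ∅ ∨ R₁ = Set.univ)
    (p : ℕ) (hp : 0 < p) (f : M' →ₗ[ℤ] M) (g : N →ₗ[ℤ] N')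
    (hfg : ∀ (m' : M') (n : N), P.toLinearMap (f m') n = P'.toLinearMap m' (g n))
    (u : ι ≃ ι') (q : ι → ℕ) (hq : ∀ i, ∃ e : ℕ, q i = p ^ e)
    (hroot : ∀ i : ι, f (P'.root (u i)) = (q i : ℤ) • P.root i)
    (hcoroot : ∀ i : ι, g (P.coroot i) = (q i : ℤ) • P'.coroot (u i)) (i j : ι) :
    ((q i : ℤ) ^ 2 * P.RootForm (P.root i) (P.root i)) * P'.RootForm (P'.root (u j)) (P'.root (u j)) =
      ((q j : ℤ) ^ 2 * P.RootForm (P.root j) (P.root j)) * P'.RootForm (P'.root (u i)) (P'.root (u i)) := by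
  let W : Weighted P P' := ⟨f, g, hfg, u, q,
    fun i => by obtain ⟨e, he⟩ := hq i; rw [he]; exact pow_pos hp e, hroot, hcoroot⟩
  have hP : IsIrred P := hirr
  have c : ∀ a b, P.pairingIn ℤ a b = P.pairing a b := fun a b => by simpa using cast_pairingIn P a b
  have c' : ∀ a b, P'.pairingIn ℤ a b = P'.pairing a b := fun a b => by simpa using cast_pairingIn P' a b
  have l := cast_lg P
  have l' := cast_lg P'
  simp only [Int.cast_id] at l l'
  simp only [← l, ← l']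
  induction hP.chain i j with
  | refl => rfl
  | @tail b c₀ _ hno ih =>
    have h1 : ¬ P.pairing b c₀ = 0 := fun e => hno ⟨e, P.pairing_eq_zero_iff'.mp e⟩
    have h2 : ¬ P.pairing c₀ b = 0 := fun e => hno ⟨P.pairing_eq_zero_iff'.mp e, e⟩
    have e1 := lg_mul_pairingIn P b c₀
    have e2 := lg_mul_pairingIn P' (u b) (u c₀)
    rw [c, c] at e1
    rw [c', c'] at e2
    have p1 : (q b : ℤ) * P.pairing b c₀ = (q c₀ : ℤ) * P'.pairing (u b) (u c₀) := W.pairing_rel b c₀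
    have p2 : (q c₀ : ℤ) * P.pairing c₀ b = (q b : ℤ) * P'.pairing (u c₀) (u b) := W.pairing_rel c₀ b
    have hb : (lg P' (u b)) ≠ 0 := (lg_pos P' _).ne'
    refine mul_right_cancel₀ (mul_ne_zero (mul_ne_zero hb h2) (show (q c₀ : ℤ) ≠ 0 by
      have := W.qpos c₀; exact_mod_cast this.ne')) ?_
    linear_combination (lg P' (u c₀) * P.pairing c₀ b * (q c₀ : ℤ)) * ih
      + lg P' (u i) * ((q b : ℤ) ^ 2 * (q c₀ : ℤ) * lg P' (u c₀) * e1
        + (q b : ℤ) * (q c₀ : ℤ) * lg P' (u c₀) * lg P c₀ * p1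
        - (q b : ℤ) * (q c₀ : ℤ) ^ 2 * lg P c₀ * e2
        - (q c₀ : ℤ) ^ 2 * lg P c₀ * lg P' (u b) * p2)

end Groth.Agent.S5500
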