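import Groth.Statements.S5501
import Groth.Agent.H21Root.Length
import Mathlib.LinearAlgebra.Dimension.Torsion.Finite
import Mathlib.GroupTheory.FiniteAbelian.Basic

set_option autoImplicit false
universe u v w
open RootD

namespace Groth.Agent.S5501

open Groth.Agent.H21Root RootPairing

/-- Adjoint case; the simply connected case is dual: a semisimple root datum R is adjoint if and only if
every isogeny R' → R is an isomorphism. -/
theorem result {ι : Type u} {M : Type v} {N : Type w} [AddCommGroup M] [AddCommGroup N]
    (P : RootPairing ι ℤ M N) [Finite ι] [Module.Finite ℤ M] [Module.Finite ℤ N]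
    (hss : Module.finrank ℤ (Submodule.span ℤ (Set.range P.root)) = Module.finrank ℤ M) :
    Submodule.span ℤ (Set.range P.root) = ⊤ ↔
      ∀ (ι' : Type u) (M' N' : Type v) [AddCommGroup M'] [AddCommGroup N'] [Finite ι']
        [Module.Finite ℤ M'] [Module.Finite ℤ N'] (P' : RootPairing ι' ℤ M' N') (f : RootPairing.Hom P' P),
        Function.Injective f.weightMap → Finite (M ⧸ LinearMap.range f.weightMap) →
          Function.Bijective f.weightMap := by
  classical
  have := Fintype.ofFinite ι
  have := tf_left P
  constructor
  · intro htop ι' M' N' _ _ _ _ _ P' f hinj _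
    refine ⟨hinj, fun y => ?_⟩
    have hy : y ∈ Submodule.span ℤ (Set.range P.root) := htop ▸ Submodule.mem_top
    have hle : Submodule.span ℤ (Set.range P.root) ≤ LinearMap.range f.weightMap := by
      refine Submodule.span_le.mpr ?_
      rintro _ ⟨i, rfl⟩
      exact ⟨P'.root (f.indexEquiv.symm i), by
        rw [RootPairing.Hom.root_weightMap_apply, _root_.Equiv.apply_symm_apply]⟩
    exact hle hy
  · intro hall
    let L : Submodule ℤ M := Submodule.span ℤ (Set.range P.root)
    have htors : ∀ x : M, ∃ n : ℤ, n ≠ 0 ∧ n • x ∈ L := by
      intro x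
      have ht : Module.IsTorsion ℤ (M ⧸ L) := by
        rw [← Module.finrank_eq_zero_iff_isTorsion]
        have := Submodule.finrank_quotient_add_finrank L
        have hL : Module.finrank ℤ L = Module.finrank ℤ M := hss
        omega
      obtain ⟨⟨n, hn⟩, hn'⟩ := @ht (Submodule.Quotient.mk x)
      exact ⟨n, nonZeroDivisors.ne_zero hn, by rw [← Submodule.Quotient.mk_eq_zero]; exact hn'⟩
    let res : N →ₗ[ℤ] Module.Dual ℤ L := L.subtype.dualMap.comp P.toLinearMap.flip
    have hres : ∀ (i : N) (x : L), res i x = P.toLinearMap x i := fun _ _ => rfl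
    have hresinj : Function.Injective res := by
      refine (injective_iff_map_eq_zero _).mpr fun y hy => ?_
      refine (LinearMap.IsPerfPair.bijective_right P.toLinearMap).1 ?_
      rw [map_zero]
      ext x
      obtain ⟨n, hn, hnx⟩ := htors x
      have := DFunLike.congr_fun hy ⟨n • x, hnx⟩
      rw [hres] at this
      simp only [map_smul, LinearMap.smul_apply, LinearMap.zero_apply, smul_eq_zero, hn, false_or] at this
      simpa using this
    have : Module.Finite ℤ L := inferInstance
    have hperf : (Module.Dual.eval ℤ L).IsPerfPair :=
      ⟨(Module.evalEquiv ℤ L).bijective, by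
        rw [show (Module.Dual.eval ℤ L).flip = LinearMap.id from rfl]; exact Function.bijective_id⟩
    let rt : ι ↪ L := ⟨fun i => ⟨P.root i, Submodule.subset_span ⟨i, rfl⟩⟩,
      fun i j h => P.root.injective (congrArg Subtype.val h)⟩
    let P' : RootPairing ι ℤ L (Module.Dual ℤ L) :=
      { toLinearMap := Module.Dual.eval ℤ L
        isPerfPair_toLinearMap := hperf
        root := rt
        coroot := ⟨fun i => res (P.coroot i), hresinj.comp P.coroot.injective⟩
        root_coroot_two := fun i => P.root_coroot_two i
        reflectionPerm := P.reflectionPerm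
        reflectionPerm_root := fun i j => Subtype.ext (P.reflectionPerm_root i j)
        reflectionPerm_coroot := fun i j => by
          change res (P.coroot j) - P.toLinearMap (P.root i) (P.coroot j) • res (P.coroot i) =
            res (P.coroot (P.reflectionPerm i j))
          rw [← map_smul, ← map_sub, P.reflectionPerm_coroot] }
    let f : RootPairing.Hom P' P :=
      { weightMap := L.subtype
        coweightMap := res
        indexEquiv := _root_.Equiv.refl ι
        weight_coweight_transpose := by ext x y; rfl
        root_weightMap := by ext i; rfl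
        coroot_coweightMap := by ext i; rfl }
    have hfin : Finite (M ⧸ LinearMap.range f.weightMap) := by
      refine Module.finite_of_fg_torsion _ ?_
      intro y
      obtain ⟨y, rfl⟩ := Submodule.Quotient.mk_surjective _ y
      obtain ⟨n, hn, hny⟩ := htors y
      refine ⟨⟨n, mem_nonZeroDivisors_of_ne_zero hn⟩, ?_⟩
      rw [Submonoid.mk_smul, ← Submodule.Quotient.mk_smul, Submodule.Quotient.mk_eq_zero]
      exact ⟨⟨_, hny⟩, rfl⟩
    obtain ⟨-, hsurj⟩ := hall ι L (Module.Dual ℤ L) P' f Subtype.val_injective hfin
    exact eq_top_iff.mpr fun x _ => by obtain ⟨y, rfl⟩ := hsurj x; exact y.2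

end Groth.Agent.S5501
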