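import Groth.Statements.S5502
import Groth.Agent.H21Root.Cone
import Groth.Agent.H21Root.Length
import Groth.Agent.S5485

set_option autoImplicit false
open RootD

namespace Groth.Agent.S5502

open Groth.Agent.H21Root RootPairing

/-- If β = Σ_{α ∈ Δ} a_α α along a system of simple roots Δ, then ℓ(β) divides 2 a_α ℓ(α), and 2ℓ(β)
divides it when α^v is indivisible (ℓ the canonical quadratic form). -/
theorem result {ι M N : Type*} [AddCommGroup M] [AddCommGroup N]
    (P : RootPairing ι ℤ M N) [Finite ι] [Fintype ι] (Δ : Set ι) (hΔ : RootD.IsSimpleSys P Δ)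
    (k : ι) (c : ι →₀ ℤ) (hc : ↑c.support ⊆ Δ) (hck : Finsupp.linearCombination ℤ P.root c = P.root k)
    (i : ι) (hi : i ∈ Δ) :
    P.RootForm (P.root k) (P.root k) ∣ 2 * c i * P.RootForm (P.root i) (P.root i) ∧
      (RootD.IsIndiv P.flip i → 2 * P.RootForm (P.root k) (P.root k) ∣ 2 * c i * P.RootForm (P.root i) (P.root i)) := by
  classical
  have := tf_left P
  have := tf_right P
  have hZ := simpleZ_of_isSimpleSys hΔ
  have l := cast_lg P
  simp only [Int.cast_id] at l
  simp only [← l]
  set Δ' : Set ι := {j : ι | ∃ i ∈ Δ, (j = i ∧ RootD.IsIndiv P.flip i) ∨ (2 : ℤ) • P.coroot j = P.coroot i}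
  have hZ' : SimpleZ P.flip Δ' := simpleZ_of_isSimpleSys (S5485.result P Δ hΔ)
  have hrep : ∀ a ∈ Δ, ∃ (d : ι) (e : ℤ), d ∈ Δ' ∧ (e = 1 ∨ e = 2) ∧ P.coroot a = e • P.coroot d ∧
      P.root d = e • P.root a ∧ (RootD.IsIndiv P.flip a → e = 1) := by
    intro a ha
    by_cases hind : RootD.IsIndiv P.flip a
    · exact ⟨a, 1, ⟨a, ha, Or.inl ⟨rfl, hind⟩⟩, Or.inl rfl, (one_smul _ _).symm, (one_smul _ _).symm, fun _ => rfl⟩
    · have hind' := hind
      simp only [RootD.IsIndiv, not_forall, not_not] at hind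
      obtain ⟨j, hj⟩ := hind
      change (2 : ℤ) • P.coroot j = P.coroot a at hj
      exact ⟨j, 2, ⟨a, ha, Or.inr hj⟩, Or.inr rfl, hj.symm,
        RootPairing.coroot_eq_smul_coroot_iff.mp hj.symm, fun h => absurd h hind'⟩
  choose d e hd he hco hro hind' using hrep
  have hinj : ∀ a (ha : a ∈ Δ) b (hb : b ∈ Δ), d a ha = d b hb → a = b := by
    intro a ha b hb h
    by_contra hne
    have h1 := hro a ha
    have h2 := hro b hb
    rw [h, h2] at h1
    have := linearIndepOn_iff.mp hZ.li (e b hb • Finsupp.single b 1 - e a ha • Finsupp.single a 1)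
      (Submodule.sub_mem _ (Submodule.smul_mem _ _ (Finsupp.single_mem_supported ℤ _ hb))
        (Submodule.smul_mem _ _ (Finsupp.single_mem_supported ℤ _ ha)))
      (by rw [map_sub, map_smul, map_smul, Finsupp.linearCombination_single,
        Finsupp.linearCombination_single, one_smul, one_smul, h1, sub_self])
    have := DFunLike.congr_fun this a
    simp [Ne.symm hne] at this
    rcases he a ha with h | h <;> rw [h] at this <;> simp at this
  have hx : P.coroot k ∈ zspan P.flip Δ' := by
    rcases hZ'.cover k with h | h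
    · exact natSpan_subset_zspan P.flip h
    · exact (Submodule.neg_mem_iff _).mp (natSpan_subset_zspan P.flip h)
  obtain ⟨x, hxs, hxe⟩ := (Finsupp.mem_span_image_iff_linearCombination ℤ).mp hx
  have hlin : ∀ c : ι →₀ ℤ, ∀ hc : ↑c.support ⊆ Δ, ∀ y : M, Finsupp.linearCombination ℤ P.root c = y →
      2 • P.Polarization y =
        Finsupp.linearCombination ℤ P.coroot
          (∑ a ∈ c.support.attach, Finsupp.single (d a.1 (hc a.2)) (c a.1 * lg P a.1 * e a.1 (hc a.2))) := by
    intro c hc y hy
    rw [← hy, Finsupp.linearCombination_apply, Finsupp.sum, map_sum, Finset.smul_sum, map_sum,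
      ← Finset.sum_attach c.support]
    refine Finset.sum_congr rfl fun a _ => ?_
    rw [map_smul, smul_comm, ← lg_smul_coroot, Int.cast_id, Finsupp.linearCombination_single,
      mul_smul, mul_smul, ← hco]
  have hkey := hlin c hc _ hck
  rw [← lg_smul_coroot, Int.cast_id] at hkey
  have hmem : (∑ a ∈ c.support.attach, Finsupp.single (d a.1 (hc a.2)) (c a.1 * lg P a.1 * e a.1 (hc a.2)))
      ∈ Finsupp.supported ℤ ℤ Δ' :=
    Submodule.sum_mem _ fun a _ => Finsupp.single_mem_supported ℤ _ (hd _ _)
  have hz := linearIndepOn_iff.mp hZ'.li _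
    (Submodule.sub_mem _ (Submodule.smul_mem _ (lg P k) hxs) hmem)
    (by rw [map_sub, map_smul, hxe]; exact sub_eq_zero.mpr hkey)
  have hco' : lg P k * x (d i hi) = c i * lg P i * e i hi := by
    have := DFunLike.congr_fun hz (d i hi)
    simp only [Finsupp.sub_apply, Finsupp.smul_apply, smul_eq_mul, Finsupp.zero_apply, sub_eq_zero,
      Finset.sum_apply', Finsupp.single_apply] at this
    rw [this]
    by_cases hci : c i = 0
    · rw [Finset.sum_eq_zero fun a _ => ?_, hci, zero_mul, zero_mul]
      split_ifs with h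
      · have : (a : ι) = i := hinj _ _ _ _ h
        exact absurd hci (this ▸ Finsupp.mem_support_iff.mp a.2)
      · rfl
    · rw [Finset.sum_eq_single ⟨i, Finsupp.mem_support_iff.mpr hci⟩]
      · simp
      · intro a _ hne
        rw [if_neg]
        exact fun h => hne (Subtype.ext (hinj _ _ _ _ h))
      · intro h; exact absurd (Finset.mem_attach _ _) h
  refine ⟨?_, fun h => ?_⟩
  · rcases he i hi with h | h <;> rw [h] at hco'
    · exact ⟨2 * x (d i hi), by linear_combination (-2 : ℤ) * hco'⟩
    · exact ⟨x (d i hi), by linear_combination (-1 : ℤ) * hco'⟩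
  · rw [hind' i hi h] at hco'
    exact ⟨x (d i hi), by linear_combination (-2 : ℤ) * hco'⟩

end Groth.Agent.S5502
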