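import Groth.Statements.S5507
import Groth.Agent.H21Root.Length

set_option autoImplicit false
open RootD

namespace Groth.Agent.S5507

open Groth.Agent.H21Root RootPairing

/-- For a system of simple roots Δ there are positive integers m_α (the lengths) such that the matrix
(m_α a_{α,β}) with a_{α,β} = (α^v, β) is symmetric and positive definite. -/
theorem result {ι M N : Type*} [AddCommGroup M] [AddCommGroup N]
    (P : RootPairing ι ℤ M N) [Finite ι] (Δ : Finset ι) (hΔ : RootD.IsSimpleSys P (↑Δ : Set ι)) :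
    ∃ m : ↥Δ → ℤ, (∀ a, 0 < m a) ∧
      (Matrix.of fun (a b : ↥Δ) => m a * P.pairing (b : ι) (a : ι)).IsSymm ∧
      (Matrix.of fun (a b : ↥Δ) => m a * P.pairing (b : ι) (a : ι)).PosDef := by
  have := Fintype.ofFinite ι
  classical
  have hZ := simpleZ_of_isSimpleSys hΔ
  refine ⟨fun a => lg P a, fun a => lg_pos P a, ?_⟩
  have hB : ∀ a b : ↥Δ, lg P a * P.pairing (b : ι) (a : ι) = 2 * P.RootForm (P.root a) (P.root b) :=
    fun a b => by simpa using lg_mul_coroot' P (a : ι) (P.root b)
  have hsym : (Matrix.of fun (a b : ↥Δ) => lg P a * P.pairing (b : ι) (a : ι)).IsSymm := by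
    ext a b
    simp only [Matrix.transpose_apply, Matrix.of_apply, hB]
    congr 1
    simp [rootForm_apply_apply, mul_comm]
  refine ⟨hsym, Matrix.PosDef.of_dotProduct_mulVec_pos (by
    rw [Matrix.IsHermitian, Matrix.conjTranspose_eq_transpose_of_trivial]; exact hsym) fun x hx => ?_⟩
  have hz : ∑ a : ↥Δ, x a • P.root (a : ι) ≠ 0 := fun h =>
    hx (funext (Fintype.linearIndependent_iff.mp hZ.li x h))
  set v := ∑ a : ↥Δ, x a • P.root (a : ι) with hv
  have hval : star x ⬝ᵥ (Matrix.of fun (a b : ↥Δ) => lg P a * P.pairing (b : ι) (a : ι)).mulVec x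
      = 2 * P.RootForm v v := by
    simp only [star_trivial, dotProduct, Matrix.mulVec, Matrix.of_apply, hB, hv, map_sum,
      LinearMap.sum_apply, map_smul, LinearMap.smul_apply, smul_eq_mul, Finset.mul_sum]
    rw [Finset.sum_comm]
    exact Finset.sum_congr rfl fun a _ => Finset.sum_congr rfl fun b _ => by ring
  rw [hval]
  have hmem : v ∈ Submodule.span ℤ (Set.range P.root) :=
    Submodule.sum_mem _ fun a _ => Submodule.smul_mem _ _ (Submodule.subset_span ⟨_, rfl⟩)
  have := P.rootForm_pos_of_ne_zero hmem hz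
  lia

end Groth.Agent.S5507
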