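import Groth.Statements.S8401
import Groth.Agent.S3003
import Groth.Agent.S5255
import Groth.Agent.H21Nilp.MultFactor
import Groth.Agent.H21Hom.MultSub
import Groth.Agent.H19Grp.Transporter
import Groth.Agent.H19Grp.PointsDense
import Groth.Agent.H19Grp.PointsEq
import Groth.Agent.H20Mu.Conj
import Groth.Agent.H19Grp.GrpdImage
import Groth.Agent.H12AlgSp.LocPCancel

set_option autoImplicit false
universe u
open CategoryTheory MonoidalCategory CartesianMonoidalCategory MonObj GrpObj AlgebraicGeometry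
open SGA3x

set_option linter.style.haveILetI false
set_option backward.isDefEq.respectTransparency false
set_option synthInstance.maxHeartbeats 400000
set_option maxHeartbeats 1000000

namespace Groth.Agent.S8401

theorem exists_conjIso {S : Scheme.{u}} {G : Over S} [GrpObj G] (g₀ : 𝟙_ (Over S) ⟶ G) :
    ∃ φ : G ≅ G, φ.hom = H20Mu.conj g₀ := by
  refine ⟨⟨H20Mu.conj g₀, H20Mu.conj g₀⁻¹, ?_, ?_⟩, rfl⟩
  · have h := H20Mu.comp_conj_conj g₀ (𝟙 G)
    rwa [Category.id_comp] at h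
  · have h := H20Mu.comp_conj_conj g₀⁻¹ (𝟙 G)
    rwa [Category.id_comp, _root_.inv_inv] at h

/-- Let G be an affine, smooth, connected algebraic group over an algebraically closed field k, and Z
its reductive centre. Then Z is the scheme-theoretic intersection of the maximal tori of G: a point
of G with values in a k-scheme X factors through Z if and only if it factors through every maximal
torus of G. -/
theorem result (k : Type u) [Field k] [IsAlgClosed k]
    (G : Over (Spec (CommRingCat.of k))) [GrpObj G] [Smooth G.hom] [QuasiCompact G.hom] [IsAffine G.left] [ConnectedSpace ↥G.left]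
    (Z : Over (Spec (CommRingCat.of k))) [GrpObj Z] (z : Z ⟶ G)
    (hZ : (IsMonHom z ∧ Mono z ∧ SGA3x.IsMultTypeFT Z ∧
      (∀ (X : Over (Spec (CommRingCat.of k))) (x : X ⟶ Z) (g : X ⟶ G), (x ≫ z) * g = g * (x ≫ z)) ∧
      ∀ (S' : Scheme.{u}) (f : S' ⟶ (Spec (CommRingCat.of k))) (H : Over S') [GrpObj H] (v : H ⟶ Red.bc f G) [IsMonHom v],
        SGA3x.IsMultTypeFT H →
        (∀ (X : Over S') (x : X ⟶ H) (g : X ⟶ Red.bc f G), (x ≫ v) * g = g * (x ≫ v)) →
        ∃ w : H ⟶ Red.bc f Z, w ≫ (Over.pullback f).map z = v)) (X : Over (Spec (CommRingCat.of k))) (g : X ⟶ G) :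
    (∃ x : X ⟶ Z, x ≫ z = g) ↔
      ∀ (T : Over (Spec (CommRingCat.of k))) [GrpObj T] (i : T ⟶ G), Red.IsMaximalTorus i → ∃ t : X ⟶ T, t ≫ i = g := by
  classical
  obtain ⟨hzm, hzmono, hZm, hzc, huniv⟩ := hZ
  haveI := hzm
  haveI := hzmono
  haveI : IsAffineHom G.hom := inferInstance
  haveI : LocallyOfFiniteType G.hom := inferInstance
  refine ⟨fun ⟨x, hx⟩ T _ i hi => ?_, fun hg => ?_⟩
  · obtain ⟨w, hw⟩ := H21Nilp.factor_maxTorus_of_commute hi hZm z fun X x t => hzc X x _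
    exact ⟨x ≫ w, by rw [Category.assoc, hw, hx]⟩
  obtain ⟨r, i, hi⟩ := S3003.exists_maxTorus_field G
  obtain ⟨hi1, hi2, hT, -⟩ := id hi
  haveI := hi1
  haveI := hi2
  haveI : AddGroup.FG (Fin r → ℤ) := Module.Finite.iff_addGroup_fg.mp inferInstance
  haveI := H21Mono.isClosedImmersion_of_mono_DS i
  let D := Red.DS (Spec (CommRingCat.of k)) (Fin r → ℤ)
  let c : D ⊗ G ⟶ G := snd D G * (fst D G ≫ i) * (snd D G)⁻¹
  obtain ⟨N, t, htc, hN⟩ := H19Grp.exists_closed_forall_factor c i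
  haveI := htc
  haveI : Mono t := Over.mono_of_mono_left t
  have hlift : ∀ {X' : Over (Spec (CommRingCat.of k))} (a : X' ⟶ D) (y : X' ⟶ G),
      lift a y ≫ c = y * (a ≫ i) * y⁻¹ := fun a y => by
    simp only [c, MonObj.comp_mul, GrpObj.comp_inv, lift_fst_assoc, lift_snd]
  have hNt : ∀ {X' : Over (Spec (CommRingCat.of k))} (n : X' ⟶ N) (y : X' ⟶ G),
      ∃ a : X' ⟶ D, a ≫ i = y * ((n ≫ t) ≫ i) * y⁻¹ := fun {X'} n y => by
    obtain ⟨a, ha⟩ := (hN X' (n ≫ t)).mp ⟨n, rfl⟩ X' (𝟙 _) y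
    exact ⟨a, by rw [ha, Category.id_comp, hlift]⟩
  obtain ⟨gN, htm⟩ : ∃ _ : GrpObj N, IsMonHom t := by
    refine H19Grp.exists_grpObj_of_closed t ((hN _ 1).mpr fun S'' s y => ⟨1, ?_⟩) (fun T' a b =>
      (hN _ _).mpr fun S'' s y => ?_) fun T' a => (hN _ _).mpr fun S'' s y => ?_
    · rw [hlift, MonObj.comp_one, MonObj.one_comp]
      group
    · obtain ⟨a', ha'⟩ := hNt (s ≫ a) y
      obtain ⟨b', hb'⟩ := hNt (s ≫ b) y
      refine ⟨a' * b', ?_⟩
      rw [hlift, MonObj.mul_comp, ha', hb', MonObj.comp_mul, MonObj.mul_comp]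
      simp only [Category.assoc]
      group
    · obtain ⟨a', ha'⟩ := hNt (s ≫ a) y
      refine ⟨a'⁻¹, ?_⟩
      rw [hlift, GrpObj.inv_comp, ha', GrpObj.comp_inv, GrpObj.inv_comp]
      simp only [Category.assoc]
      group
  letI := gN
  haveI := htm
  have hnorm : AlgGrp.IsNormalHom (t ≫ i) := fun X' y n => by
    obtain ⟨a, ha⟩ := hNt n y
    obtain ⟨n', hn'⟩ := (hN _ a).mpr fun S'' s x => by
      obtain ⟨b, hb⟩ := hNt (s ≫ n) (x * (s ≫ y))
      refine ⟨b, ?_⟩
      rw [hlift, hb, Category.assoc s a i, ha, MonObj.comp_mul, MonObj.comp_mul, GrpObj.comp_inv]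
      simp only [Category.assoc]
      group
    exact ⟨n', by rw [← Category.assoc, ← Category.assoc n' t i, hn', ha]⟩
  haveI : Subsingleton ↥(Spec (CommRingCat.of k)) := inferInstanceAs (Subsingleton (PrimeSpectrum k))
  have hTm := H21Diag.isMultTypeFT_of_isTorus hT
  haveI := H21Diag.lfp_of_multTypeFT hTm
  haveI : LocallyOfFiniteType N.hom := by rw [← Over.w t]; infer_instance
  haveI : LocallyOfFinitePresentation N.hom := H12AlgSp.lfp_of_lft_of_isLocallyNoetherian N.hom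
  haveI : Flat N.hom := H19Grp.GrpdImage.flat_to_field N.hom
  have hNm : SGA3x.IsMultTypeFT N := H21Hom.isMultTypeFT_of_closed hTm t
  have hconnS : ∀ s : ↥(Spec (CommRingCat.of k)), _root_.IsConnected (G.hom.base ⁻¹' {s}) := fun s => by
    rw [show G.hom.base ⁻¹' {s} = Set.univ from Set.eq_univ_of_forall fun x => Subsingleton.elim _ _]
    exact isConnected_univ
  have hcenN := S5255.result G N (fun s => by
    haveI : ConnectedSpace ↥(G.hom.base ⁻¹' {s}) := isConnected_iff_connectedSpace.mp (hconnS s)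
    exact (G.hom.fiberHomeo s).symm.surjective.connectedSpace (G.hom.fiberHomeo s).symm.continuous) (t ≫ i) hNm hnorm
  let v : Red.bc (𝟙 _) N ⟶ Red.bc (𝟙 _) G := (Over.pullback (𝟙 _)).map (t ≫ i)
  haveI : IsMonHom v := H21Diag.isMonHom_map _ (t ≫ i)
  obtain ⟨w, hw⟩ := huniv _ (𝟙 _) (Red.bc (𝟙 _) N) v (H21Diag.isMultTypeFT_bc hNm _) fun X' x y => by
    apply (H21Diag.bcEquiv (𝟙 _) G X').symm.injective
    rw [H21Diag.bcEquiv_symm_mul, H21Diag.bcEquiv_symm_mul]
    have h : (H21Diag.bcEquiv (𝟙 _) G X').symm (x ≫ v) =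
        (H21Diag.bcEquiv (𝟙 _) N X').symm x ≫ (t ≫ i) :=
      (Over.mapPullbackAdj (𝟙 _)).homEquiv_naturality_right_symm x (t ≫ i)
    rw [h]
    exact (hcenN _ _ _).symm
  have hnat : ∀ {A B : Over (Spec (CommRingCat.of k))} (f : A ⟶ B),
      (Over.pullback (𝟙 _)).map f ≫ H21Diag.bcIdHom B = H21Diag.bcIdHom A ≫ f := fun {A B} f => by
    ext : 1
    simp [H21Diag.bcIdHom, Over.pullback_map_left]
  obtain ⟨a₀, ha₀⟩ := hg D i hi
  obtain ⟨n₀, hn₀⟩ := (hN X a₀).mpr (by
    let f : G ⊗ X ⟶ G := fst G X * (snd G X ≫ g) * (fst G X)⁻¹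
    obtain ⟨P, cc, p, hcc, hpc, hPuniv⟩ := H19Grp.PointsDense.exists_preimage i f
    haveI := hcc
    haveI : IsIso cc := H19Grp.PointsDense.isIso_of_points_factor (k := k) (K := k) cc fun y => by
      let Ω := Over.mk (Spec.map (CommRingCat.ofHom (algebraMap k k)))
      let e : 𝟙_ (Over (Spec (CommRingCat.of k))) ⟶ Ω := Over.homMk (𝟙 _) (by
        change 𝟙 _ ≫ Spec.map (CommRingCat.ofHom (algebraMap k k)) = 𝟙 _
        rw [Category.id_comp]
        exact Spec.map_id _)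
      have he : toUnit Ω ≫ e = 𝟙 Ω := by
        ext : 1
        change (toUnit Ω).left ≫ 𝟙 _ = 𝟙 _
        rw [Category.comp_id]
        exact (show (toUnit Ω).left = Ω.hom by simp).trans (Spec.map_id _)
      let g₀ := e ≫ y
      obtain ⟨φ, hφ⟩ := exists_conjIso g₀
      haveI : IsMonHom φ.hom := hφ ▸ H20Mu.isMonHom_conj g₀
      obtain ⟨b, hb⟩ := hg D (i ≫ φ.hom) (S3003.isMaximalTorus_postcomp φ hi)
      have hb' : (snd Ω X ≫ b) ≫ i = lift (fst Ω X ≫ y) (snd Ω X) ≫ f := by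
        have h1 := congrArg (snd Ω X ≫ ·) hb
        rw [← Category.assoc b i φ.hom, hφ, H20Mu.comp_conj, MonObj.comp_mul, MonObj.comp_mul, GrpObj.comp_inv] at h1
        have h2 : snd Ω X ≫ toUnit X ≫ g₀ = fst Ω X ≫ y := by
          rw [← Category.assoc, comp_toUnit, show toUnit (Ω ⊗ X) = fst Ω X ≫ toUnit Ω from (comp_toUnit _).symm,
            Category.assoc, ← Category.assoc (toUnit Ω), he, Category.id_comp]
        rw [h2] at h1
        simp only [f, MonObj.comp_mul, GrpObj.comp_inv, lift_fst, lift_snd_assoc]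
        rw [← h1, Category.assoc]
        group
      obtain ⟨q, hq⟩ := hPuniv _ _ (snd Ω X ≫ b) hb'
      exact ⟨q, hq⟩
    intro S'' s y
    refine ⟨lift y s ≫ inv cc ≫ p, ?_⟩
    simp only [Category.assoc, hpc, IsIso.inv_hom_id_assoc, hlift, f, MonObj.comp_mul, GrpObj.comp_inv,
      lift_fst, lift_snd_assoc, ha₀])
  refine ⟨n₀ ≫ inv (H21Diag.bcIdHom N) ≫ w ≫ H21Diag.bcIdHom Z, ?_⟩
  simp only [Category.assoc]
  rw [← hnat z, ← Category.assoc w, hw, hnat, IsIso.inv_hom_id_assoc, ← Category.assoc, hn₀, ha₀]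

end Groth.Agent.S8401
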