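import Groth.Statements.S5511
import Groth.Agent.H21Diag.Chev.ConjCover
import Groth.Agent.H21Diag.Chev.RankZeroBc
import Groth.Agent.H21Diag.RankZeroTorus
import Groth.Agent.S8401

set_option autoImplicit false
open CategoryTheory MonoidalCategory CartesianMonoidalCategory MonObj GrpObj AlgebraicGeometry
universe u
open RedSub

set_option linter.style.haveILetI false
set_option backward.isDefEq.respectTransparency false
set_option synthInstance.maxHeartbeats 400000
set_option maxHeartbeats 1000000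

namespace Groth.Agent.S5511

open CategoryTheory.Limits in
/-- a point lying in all maximal tori commutes with all conjugates of the points of a maximal torus -/
theorem commute_conj_of_mem {S P : Scheme.{u}} {G : Over S} [GrpObj G] (hGs : Smooth G.hom) (hGa : IsAffineHom G.hom)
    {X : Over S} (g : X ⟶ G)
    (hmem : ∀ (Y : Scheme.{u}) (y : Y ⟶ X.left) (T : Over Y) [GrpObj T] (i : T ⟶ Red.bc (y ≫ X.hom) G),
        Red.IsMaximalTorus i →
          ∃ p : Y ⟶ T.left, p ≫ T.hom = 𝟙 Y ∧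
            p ≫ i.left ≫ pullback.fst G.hom (y ≫ X.hom) = y ≫ g.left)
    (e : P ⟶ S) {T : Over P} [GrpObj T] (i : T ⟶ Red.bc e G) (hi : Red.IsMaximalTorus i)
    (X3 : Over P) (ρ : (Over.map e).obj X3 ⟶ X) (h : X3 ⟶ Red.bc e G) (q : X3 ⟶ T) :
    H21Diag.bcEquiv e G X3 (ρ ≫ g) * (h * (q ≫ i) * h⁻¹) =
      (h * (q ≫ i) * h⁻¹) * H21Diag.bcEquiv e G X3 (ρ ≫ g) := by
  haveI := hi.1
  haveI := hi.2.1
  let Y := X3.left
  let e' : Y ⟶ S := ρ.left ≫ X.hom
  have he : X3.hom ≫ e = e' := (Over.w ρ).symm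
  let θ := H21Red0.bcTrans X3.hom e e' he G
  haveI : IsMonHom θ.hom := H21Red0.isMonHom_bcTrans _ _ _ _ G
  let ι₀ : (Over.map e').obj (𝟙_ (Over Y)) ⟶ (Over.map e).obj X3 := Over.homMk (𝟙 Y) (by
    show 𝟙 Y ≫ X3.hom ≫ e = 𝟙 Y ≫ e'
    rw [he])
  let ι₁ : (Over.map e).obj X3 ⟶ (Over.map e').obj (𝟙_ (Over Y)) := Over.homMk (𝟙 Y) (by
    show 𝟙 Y ≫ 𝟙 Y ≫ e' = X3.hom ≫ e
    rw [he, Category.id_comp, Category.id_comp])
  let Φ : (𝟙_ (Over Y) ⟶ Red.bc e' G) →* (X3 ⟶ Red.bc e G) :=
    MonoidHom.mk' (fun a => H21Diag.bcEquiv e G X3 (ι₁ ≫ (H21Diag.bcEquiv e' G _).symm a)) fun a b => by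
      rw [H21Diag.bcEquiv_symm_mul, MonObj.comp_mul, H21Diag.bcEquiv_mul]
  have hsymm : ∀ a : 𝟙_ (Over Y) ⟶ Red.bc e' G,
      ((H21Diag.bcEquiv e' G _).symm a).left = a.left ≫ pullback.fst G.hom e' := fun a => by
    rw [← H21Diag.bcEquiv_left_fst, Equiv.apply_symm_apply]
  have hΦ : ∀ a, (Φ a).left ≫ pullback.fst G.hom e = a.left ≫ pullback.fst G.hom e' := fun a => by
    show (H21Diag.bcEquiv e G X3 _).left ≫ _ = _
    rw [H21Diag.bcEquiv_left_fst, Over.comp_left, hsymm]
    exact Category.id_comp _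
  let H : 𝟙_ (Over Y) ⟶ Red.bc e' G :=
    H21Diag.bcEquiv e' G _ (ι₀ ≫ (H21Diag.bcEquiv e G X3).symm h)
  have hH : Φ H = h := H21Diag.bc_ext (by
    rw [hΦ, H21Diag.bcEquiv_left_fst, Over.comp_left, ← H21Diag.bcEquiv_left_fst e G X3, Equiv.apply_symm_apply]
    exact Category.id_comp _)
  obtain ⟨φ, hφ⟩ := S8401.exists_conjIso H⁻¹
  haveI : IsMonHom φ.hom := hφ ▸ H20Mu.isMonHom_conj _
  haveI hs' : Smooth (Red.bc e G).hom := MorphismProperty.pullback_snd (P := @Smooth) _ _ hGs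
  haveI ha' : IsAffineHom (Red.bc e G).hom := MorphismProperty.pullback_snd (P := @IsAffineHom) _ _ hGa
  have hiY := H21Diag.isMaximalTorus_bc hs' ha' i X3.hom hi
  haveI := hiY.1
  haveI := hiY.2.1
  have hmax := S3003.isMaximalTorus_postcomp φ (S3003.isMaximalTorus_postcomp θ hiY)
  obtain ⟨p, hp1, hp2⟩ := hmem Y ρ.left _ _ hmax
  let t : 𝟙_ (Over Y) ⟶ Red.bc X3.hom T := Over.homMk p hp1
  let a₀ : 𝟙_ (Over Y) ⟶ Red.bc e' G := t ≫ (Over.pullback X3.hom).map i ≫ θ.hom
  have ha : t ≫ ((Over.pullback X3.hom).map i ≫ θ.hom) ≫ φ.hom = H * a₀ * H⁻¹ := by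
    rw [← Category.assoc, hφ, H20Mu.comp_conj, toUnit_unique (toUnit _) (𝟙 _), Category.id_comp, _root_.inv_inv]
  let t3 : X3 ⟶ T := Over.homMk (p ≫ pullback.fst T.hom X3.hom) (by
    rw [Category.assoc, pullback.condition, ← Category.assoc]
    exact (congrArg (· ≫ X3.hom) hp1).trans (Category.id_comp _))
  have ht3 : Φ a₀ = t3 ≫ i := H21Diag.bc_ext (by
    rw [hΦ]
    simp only [a₀, θ, t, t3, Over.comp_left, Over.homMk_left, Category.assoc, H21Red0.bcTrans_fst]
    exact congrArg (p ≫ ·) ((reassoc_of% (H19Grp.bc_map_fst X3.hom i)) (pullback.fst G.hom e)))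
  have hc : H21Diag.bcEquiv e G X3 (ρ ≫ g) = h * (t3 ≫ i) * h⁻¹ := by
    rw [← ht3, ← hH, ← map_inv, ← map_mul, ← map_mul, ← ha]
    refine H21Diag.bc_ext ?_
    rw [hΦ, H21Diag.bcEquiv_left_fst]
    exact hp2.symm.trans (Category.assoc _ _ _).symm
  rw [hc]
  have hcomm : (t3 ≫ i) * (q ≫ i) = (q ≫ i) * (t3 ≫ i) := by
    rw [← MonObj.mul_comp, ← MonObj.mul_comp, H21Diag.mult_comm (H21Diag.isMultTypeFT_of_isTorus hi.2.2.1)]
  calc _ = h * ((t3 ≫ i) * (q ≫ i)) * h⁻¹ := by group
    _ = _ := by rw [hcomm]; group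

/-- The centre of a reductive group is the intersection of its maximal tori, in the functorial sense.
Let G be a reductive S-group and j : Z ⟶ G its centre. For a point g of G with values in X, g
factors through Z if and only if, for every scheme Y over X and every maximal torus T ⟶ G_Y of the
base change of G to Y, the Y-valued point of G_Y defined by g factors through T. -/
theorem result {S : Scheme.{u}} {G Z : Over S} [GrpObj G] [GrpObj Z]
    (hG : Red.IsReductive G) (j : Z ⟶ G) (hZ : Red.IsCentre j) (X : Over S) (g : X ⟶ G) :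
    (∃ z : X ⟶ Z, z ≫ j = g) ↔
      ∀ (Y : Scheme.{u}) (y : Y ⟶ X.left) (T : Over Y) [GrpObj T] (i : T ⟶ Red.bc (y ≫ X.hom) G),
        Red.IsMaximalTorus i →
          ∃ p : Y ⟶ T.left, p ≫ T.hom = 𝟙 Y ∧
            p ≫ i.left ≫ Limits.pullback.fst G.hom (y ≫ X.hom) = y ≫ g.left := by
  classical
  have hGs : Smooth G.hom := hG.2.1
  have hGa : IsAffineHom G.hom := hG.1
  have hconn := H21Chev.isConnected_fibres hG
  have hu := H21Chev.unipotentRankZero_of_isReductive hG
  refine ⟨?_, fun hmem => ?_⟩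
  · rintro ⟨z, rfl⟩ Y y T _ i hi
    haveI := hi.1
    let e := y ≫ X.hom
    have hself := H21Chev.isCentralizerOf_self_of_rankZero (MorphismProperty.pullback_snd (P := @Smooth) _ _ hGs)
      (MorphismProperty.pullback_snd (P := @IsAffineHom) _ _ hGa) (H21Chev.isConnected_fibres_bc hGs hconn e)
      (H21Chev.unipotentRankZero_bc G hGs hGa hconn hu e) hi
    let r : (Over.map e).obj (𝟙_ (Over Y)) ⟶ X := Over.homMk y (Category.id_comp _).symm
    obtain ⟨t, ht⟩ := (hself.2.2 _ (H21Diag.bcEquiv e G _ (r ≫ z ≫ j))).mpr fun X' x q => by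
      apply (H21Diag.bcEquiv e G X').symm.injective
      rw [H21Diag.bcEquiv_symm_mul, H21Diag.bcEquiv_symm_mul]
      have hx : (H21Diag.bcEquiv e G X').symm (x ≫ H21Diag.bcEquiv e G _ (r ≫ z ≫ j)) =
          (Over.map e).map x ≫ r ≫ z ≫ j := by
        refine ((Over.mapPullbackAdj e).homEquiv_naturality_left_symm x _).trans ?_
        exact congrArg ((Over.map e).map x ≫ ·) (Equiv.symm_apply_apply _ _)
      rw [hx]
      have h := (hZ.2.2 _ _).mp ⟨(Over.map e).map x ≫ r ≫ z, rfl⟩ _ (𝟙 _)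
        ((H21Diag.bcEquiv e G X').symm (q ≫ i))
      simpa only [Category.id_comp, Category.comp_id, Category.assoc] using h
    refine ⟨t.left, Over.w t, ?_⟩
    rw [← Category.assoc, ← Over.comp_left, ht, H21Diag.bcEquiv_left_fst]
    rfl
  · haveI := hGs
    haveI := hGa
    refine (hZ.2.2 X g).mpr fun X' x y₀ => ?_
    rw [Category.comp_id]
    have hloc : ∀ p : X'.left, ∃ (R : CommRingCat.{u}) (e : Spec R ⟶ S), Etale e ∧ X'.hom.base p ∈ Set.range e.base ∧
        Limits.pullback.fst X'.hom e ≫ ((x ≫ g) * y₀).left = Limits.pullback.fst X'.hom e ≫ (y₀ * (x ≫ g)).left := by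
      intro p
      obtain ⟨R, e, m, i, he, hs, hi, hself⟩ := H21Diag.exists_selfCentral_nhd G hconn hu (X'.hom.base p)
      refine ⟨R, e, he, hs, ?_⟩
      haveI := hi.1
      haveI := hi.2.1
      let X'' : Over (Spec R) := Over.mk (Limits.pullback.snd X'.hom e)
      let ρ : (Over.map e).obj X'' ⟶ X' := Over.homMk (Limits.pullback.fst X'.hom e) Limits.pullback.condition
      have hcc : Red.IsCentralizerOf i i := H21Chev.isCentralizerOf_self_of_rankZero
        (MorphismProperty.pullback_snd (P := @Smooth) _ _ hGs)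
        (MorphismProperty.pullback_snd (P := @IsAffineHom) _ _ hGa) (H21Chev.isConnected_fibres_bc hGs hconn e)
        (H21Chev.unipotentRankZero_bc G hGs hGa hconn hu e) hi
      have key := H21Chev.commute_of_commute_conj (MorphismProperty.pullback_snd (P := @Smooth) _ _ hGs)
        (MorphismProperty.pullback_snd (P := @IsAffineHom) _ _ hGa) (H21Chev.isConnected_fibres_bc hGs hconn e)
        hi.2.2.1 hcc (H21Diag.bcEquiv e G X'' ((ρ ≫ x) ≫ g)) (fun X3 x3 h q => by
          have hn : x3 ≫ H21Diag.bcEquiv e G X'' ((ρ ≫ x) ≫ g) =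
              H21Diag.bcEquiv e G X3 (((Over.map e).map x3 ≫ ρ ≫ x) ≫ g) := by
            rw [Category.assoc]
            exact ((Over.mapPullbackAdj e).homEquiv_naturality_left x3 ((ρ ≫ x) ≫ g)).symm
          rw [hn]
          exact commute_conj_of_mem hGs hGa g hmem e i hi X3 _ h q)
        X'' (𝟙 _) (H21Diag.bcEquiv e G X'' (ρ ≫ y₀))
      rw [Category.id_comp, ← H21Diag.bcEquiv_mul, ← H21Diag.bcEquiv_mul] at key
      have h2 := (H21Diag.bcEquiv e G X'').injective key
      rw [Category.assoc, ← MonObj.comp_mul, ← MonObj.comp_mul] at h2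
      exact congrArg CommaMorphism.left h2
    choose R e he hs heq using hloc
    let π : (Limits.sigmaObj fun p => Limits.pullback X'.hom (e p)) ⟶ X'.left :=
      Limits.Sigma.desc fun p => Limits.pullback.fst X'.hom (e p)
    haveI : Flat π := IsZariskiLocalAtSource.sigmaDesc (P := @Flat) fun p =>
      MorphismProperty.pullback_fst (P := @Flat) _ _ (haveI := he p; inferInstance)
    haveI : Surjective π := ⟨fun p => by
      obtain ⟨r, hr⟩ := hs p
      obtain ⟨w, hw, -⟩ := Scheme.Pullback.exists_preimage_pullback (f := X'.hom) (g := e p) p r hr.symm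
      refine ⟨(Limits.Sigma.ι (fun p => Limits.pullback X'.hom (e p)) p) w, ?_⟩
      rw [← Scheme.Hom.comp_apply, Limits.Sigma.ι_desc, hw]⟩
    haveI : Epi π := Flat.epi_of_flat_of_surjective π
    refine Over.OverMorphism.ext ((cancel_epi π).mp (Limits.Sigma.hom_ext _ _ fun p => ?_))
    rw [Limits.Sigma.ι_desc_assoc, Limits.Sigma.ι_desc_assoc]
    exact heq p

end Groth.Agent.S5511
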