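import Groth.Statements.S5519
import Groth.Agent.H21Split.Bru.SimpleCover

open Groth.Agent.H21Split

set_option autoImplicit false
open CategoryTheory MonoidalCategory CartesianMonoidalCategory MonObj GrpObj AlgebraicGeometry
universe u
open RedSub

namespace Groth.Agent.S5519

/-- Let G be a split reductive S-group of semisimple rank 1 (every root is a or -a, with a positive for
the system of simple roots b), Ω ⟶ G its big cell map, and x an S-point of G_a whose coordinate
function is a unit (so u_a(x) is a section of U_a generating it). Then G = Ω ∪ u_a(x) Ω: every point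
of the underlying space of G is in the image of the big cell map or of its left translate by u_a(x). -/
theorem result {S : Scheme.{u}} {G : Over S} [GrpObj G] (D : Red.SplitRed G)
    (b : D.P.Base) {n m : ℕ} (eneg : Fin n → D.idx) (epos : Fin m → D.idx)
    (hneg : RedSub.Enumerates (RedSub.negRoots D.P b) eneg) (hpos : RedSub.Enumerates (RedSub.posRoots D.P b) epos)
    (a : D.idx) (ha : a ∈ RedSub.posRoots D.P b) (hR : ∀ c : D.idx, c = a ∨ c = D.P.reflectionPerm a a)
    (x : 𝟙_ (Over S) ⟶ Red.Ga S) (hx : IsUnit (Red.gaFn x)) (p : ↥G.left) :
    p ∈ Set.range (RedSub.cellMap D eneg epos).left.base ∨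
      p ∈ Set.range ((toUnit _ ≫ x ≫ D.u a) * RedSub.cellMap D eneg epos).left.base := by
  haveI := isReduced' D b
  have hsupp : a ∈ b.support := by
    obtain ⟨c, hc⟩ : (b.support : Set D.idx).Nonempty := by
      rw [Set.nonempty_iff_ne_empty]
      intro h
      have h1 : D.P.root a ∈ AddSubmonoid.closure (D.P.root '' (b.support : Set D.idx)) := ha
      rw [h, Set.image_empty, AddSubmonoid.closure_empty, AddSubmonoid.mem_bot] at h1
      exact D.P.ne_zero a h1
    rcases hR c with rfl | rfl
    · exact hc
    · exact absurd ((neg_iff_opp_pos D b _).mpr (simple_mem_pos D b hc)) (notMem_neg_of_mem_pos b ha)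
  refine two_translates D b hneg hpos hsupp ?_ hx p
  intro c hc
  rcases hR c with rfl | rfl
  · exact absurd hc (notMem_neg_of_mem_pos b ha)
  · rfl

end Groth.Agent.S5519
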