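import Groth.Statements.S5520
import Groth.Agent.H21Split.Bru.SimpleCover

open Groth.Agent.H21Split

set_option autoImplicit false
open CategoryTheory MonoidalCategory CartesianMonoidalCategory MonObj GrpObj AlgebraicGeometry
universe u
open RedSub

namespace Groth.Agent.S5520

/-- Let G be a split pinned reductive S-group (pinning D), Ω ⟶ G the big cell map of its system of
positive roots, and for each simple root a let x_a be an S-point of G_a with unit coordinate. Let
U_1 be the submonoid of G(S) generated by the sections u_a(x_a), a simple. Then the open sets u Ω, u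
∈ U_1, cover G. -/
theorem result {S : Scheme.{u}} {G : Over S} [GrpObj G] (D : Red.Pinning G)
    {n m : ℕ} (eneg : Fin n → D.idx) (epos : Fin m → D.idx)
    (hneg : RedSub.Enumerates (RedSub.negRoots D.P D.base) eneg) (hpos : RedSub.Enumerates (RedSub.posRoots D.P D.base) epos)
    (x : D.idx → (𝟙_ (Over S) ⟶ Red.Ga S)) (hx : ∀ a ∈ D.base.support, IsUnit (Red.gaFn (x a))) (p : ↥G.left) :
    ∃ w ∈ Submonoid.closure {g : 𝟙_ (Over S) ⟶ G | ∃ a ∈ D.base.support, g = x a ≫ D.u a},
      p ∈ Set.range ((toUnit _ ≫ w) * RedSub.cellMap D.toSplitRed eneg epos).left.base := by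
  haveI := isReduced' D.toSplitRed D.base
  exact exists_translate_monoid D.toSplitRed D.base hneg hpos
    (Submonoid.closure {g | ∃ a ∈ D.base.support, g = x a ≫ D.u a}) x hx
    (fun a ha => Submonoid.subset_closure ⟨a, ha, rfl⟩) p

end Groth.Agent.S5520
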