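import Groth.Statements.S5522
import Groth.Agent.H21Split.Red0.BaseExists

set_option autoImplicit false
open CategoryTheory MonoidalCategory CartesianMonoidalCategory MonObj GrpObj AlgebraicGeometry
universe u
open RedSub

namespace Groth.Agent.S5522

/-- Let G be a split reductive group over a non-empty scheme S with splitting D. If R' is a closed set
of roots of the root datum of D containing no root together with its opposite, then R' is contained
in a system of positive roots: there is a system of simple roots b with R' ⊆ R_+(b). (A statement
about the root datum, reached in the source through the subgroups H_{R'}.) -/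
theorem result {S : Scheme.{u}} [Nonempty S] {G : Over S} [GrpObj G]
    (D : Red.SplitRed G) (R' : Set D.idx)
    (hcl : ∀ a b c : D.idx, a ∈ R' → b ∈ R' → D.P.root a + D.P.root b = D.P.root c → c ∈ R')
    (hneg : ∀ a ∈ R', D.P.reflectionPerm a a ∉ R') :
    ∃ b : D.P.Base, R' ⊆ RedSub.posRoots D.P b := by
  refine Groth.Agent.H21Red0.exists_base_of_isPosSet D ⟨hcl, fun a b ha hab hb => hneg a ha ?_⟩
  rwa [show D.P.reflectionPerm a a = b from D.P.root.injective (by
    rw [D.P.root_reflectionPerm, D.P.reflection_apply_self, hab])]

end Groth.Agent.S5522
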