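import Groth.Statements.S5524
import Groth.Agent.H21Split.TypeR.Local

set_option autoImplicit false
set_option backward.isDefEq.respectTransparency false
open CategoryTheory MonoidalCategory CartesianMonoidalCategory MonObj GrpObj AlgebraicGeometry
universe u
open RedSub Groth.Agent.H21Split Groth.Agent.H21Split.TypeR

namespace Groth.Agent.S5524

/-- Let S be connected, G a split reductive S-group (splitting D), H a subgroup of type (R) containing
the torus T, with root set R'. For a root a, the intersection H ∩ U_a is trivial (a point x of G_a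
with u_a(x) ∈ H is the zero point) if and only if a ∉ R'. -/
theorem result {S : Scheme.{u}} [ConnectedSpace S] {G H : Over S} [GrpObj G] [GrpObj H]
    (D : Red.SplitRed G) (h : H ⟶ G) (hH : RedSub.IsTypeR h) (t : D.T ⟶ H) (ht : t ≫ h = D.i) (R' : Set D.idx)
    (hR' : ∀ a : D.idx, (∃ v : Red.Ga S ⟶ H, v ≫ h = D.u a) ↔ a ∈ R') (a : D.idx) :
    (∀ (X : Over S) (x : X ⟶ Red.Ga S) (y : X ⟶ H), x ≫ D.u a = y ≫ h → x = 1) ↔ a ∉ R' := by
  obtain ⟨⟨h1, h2⟩, h3, -⟩ := hH
  haveI := h1
  haveI := h2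
  haveI := h3
  haveI := isAffineHom_hom D
  constructor
  · intro hall ha
    obtain ⟨v, hv⟩ := (hR' a).mpr ha
    have h0 := hall (Red.Ga S) (𝟙 _) v (by rw [Category.id_comp, hv])
    obtain ⟨s⟩ := (inferInstance : Nonempty S)
    obtain ⟨R, iR, g, -, hs, -⟩ := exists_chart (H := H) s
    letI := iR
    obtain ⟨p, -⟩ := hs
    have h4 : gv g (ga g (1 : R) ≫ 𝟙 _) = gv g (ga g (1 : R) ≫ (1 : Red.Ga S ⟶ Red.Ga S)) := by rw [h0]
    rw [Category.comp_id, MonObj.comp_one, gv_ga, ← ga_zero, gv_ga] at h4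
    exact p.isPrime.ne_top ((Ideal.eq_top_iff_one _).mpr (by rw [h4]; exact p.asIdeal.zero_mem))
  · intro ha X x y hxy
    refine hom_ext_pt fun R _ g k => gv_injective g ?_
    rw [MonObj.comp_one, ← ga_zero, gv_ga]
    refine eq_zero_of_fac' t ht R' hR' g ha ⟨k ≫ y, ?_⟩
    rw [uPt, ga_gv, Category.assoc, Category.assoc, hxy]

end Groth.Agent.S5524
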