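import Groth.Statements.S5526
import Groth.Agent.H21Split.TypeR.Comm
import Groth.Agent.H21Split.TypeR.Asym
import Groth.Agent.H21Split.Red0.BaseExists

set_option autoImplicit false
open CategoryTheory MonoidalCategory CartesianMonoidalCategory MonObj GrpObj AlgebraicGeometry
universe u
open RedSub

namespace Groth.Agent.S5526

/-- (iii) ⟺ (ii): Let S be connected, G a split reductive S-group (splitting D), H a subgroup of type
(R) containing the torus T, with root set R'. Then R' ∩ -R' = ∅ if and only if R' is contained in a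
system of positive roots (so that H is contained in the corresponding Borel subgroup). Note R' need
not be closed. -/
theorem result {S : Scheme.{u}} [ConnectedSpace S] {G H : Over S} [GrpObj G] [GrpObj H]
    (D : Red.SplitRed G) (h : H ⟶ G) (hH : RedSub.IsTypeR h) (t : D.T ⟶ H) (ht : t ≫ h = D.i) (R' : Set D.idx)
    (hR' : ∀ a : D.idx, (∃ v : Red.Ga S ⟶ H, v ≫ h = D.u a) ↔ a ∈ R') :
    (∀ a ∈ R', D.P.reflectionPerm a a ∉ R') ↔ ∃ b : D.P.Base, R' ⊆ RedSub.posRoots D.P b := by
  obtain ⟨⟨hmon, himm⟩, hsm, -, -, -⟩ := hH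
  haveI := hmon
  haveI := himm
  haveI := hsm
  haveI := D.fintypeIdx
  haveI : Finite D.idx := Finite.of_fintype _
  haveI := Groth.Agent.H21Red0.isReduced_of_nonempty D
  constructor
  · intro hd
    have hcl : Groth.Agent.H21Split.TypeR.SumClosed D.P R' := fun a b ha hb e he =>
      Groth.Agent.H21Split.TypeR.sum_mem t ht R' hR' a b ha hb e he
    obtain ⟨Ψ, hsub, hΨ⟩ := Groth.Agent.H21Split.TypeR.exists_posSet D.P hcl hd
    obtain ⟨b, hb⟩ := Groth.Agent.H21Red0.exists_base_of_isPosSet D hΨ
    exact ⟨b, hsub.trans hb⟩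
  · rintro ⟨b, hb⟩ a ha ha'
    exact (Groth.Agent.H21Split.isPosSet_posRoots b).noNeg a _ (hb ha)
      (Groth.Agent.H21Split.TypeR.root_neg D.P a) (hb ha')

end Groth.Agent.S5526
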