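import Groth.Statements.S5528
import Groth.Agent.S5525
import Groth.Agent.H21Split.TypeR.RadPos
import Groth.Agent.H21Split.Bru.Real
import Groth.Agent.H21Split.Bru.Groups

set_option autoImplicit false
open CategoryTheory MonoidalCategory CartesianMonoidalCategory MonObj GrpObj AlgebraicGeometry
universe u
open RedSub
open Groth.Agent.H21Split

set_option backward.isDefEq.respectTransparency false
set_option linter.style.haveILetI false
set_option synthInstance.maxHeartbeats 400000
set_option maxHeartbeats 1000000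

namespace Groth.Agent.S5528

/-- (i) ⟺ (v): Let S be connected, G a split reductive S-group (splitting D), H a subgroup of type (R)
containing the torus T (with root set R'). Then the geometric fibres of H are solvable if and only
if H ∩ Norm_G(T) = T: every point of H normalising T lies in T. -/
theorem result {S : Scheme.{u}} [ConnectedSpace S] {G H : Over S} [GrpObj G] [GrpObj H]
    (D : Red.SplitRed G) (h : H ⟶ G) (hH : RedSub.IsTypeR h) (t : D.T ⟶ H) (ht : t ≫ h = D.i) (R' : Set D.idx)
    (hR' : ∀ a : D.idx, (∃ v : Red.Ga S ⟶ H, v ≫ h = D.u a) ↔ a ∈ R') :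
    (∀ s : S, Red.IsSolvableGrp (Red.geomFibre s H)) ↔
      ∀ (X : Over S) (x : X ⟶ H),
        (∀ (X' : Over S) (y : X' ⟶ X) (s : X' ⟶ D.T),
          (∃ s' : X' ⟶ D.T, (y ≫ x ≫ h) * (s ≫ D.i) * (y ≫ x ≫ h)⁻¹ = s' ≫ D.i) ∧
          (∃ s' : X' ⟶ D.T, (y ≫ x ≫ h)⁻¹ * (s ≫ D.i) * (y ≫ x ≫ h) = s' ≫ D.i)) →
        ∃ s : X ⟶ D.T, s ≫ t = x := by
  obtain ⟨⟨hmon, himm⟩, hsm, hqc, hconn, hmax⟩ := hH
  haveI := hmon
  haveI := himm
  haveI := hsm
  haveI := isAffineHom_hom D
  haveI : Finite D.idx := Finite.of_fintype _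
  haveI := Groth.Agent.H21Red0.isReduced_of_nonempty D
  haveI : Mono h := (Over.forget S).mono_of_mono_map (inferInstanceAs (Mono h.left))
  haveI : Mono D.i := D.maximalTorus.2.1
  rw [Groth.Agent.S5525.result D h ⟨⟨hmon, himm⟩, hsm, hqc, hconn, hmax⟩ t ht R' hR']
  constructor
  · intro hd X x hx
    obtain ⟨Ψ, hsub, hΨ⟩ := Groth.Agent.H21Split.TypeR.exists_posSet D.P
      (fun a b ha hb e he => Groth.Agent.H21Split.TypeR.sum_mem t ht R' hR' a b ha hb e he) hd
    obtain ⟨b, hb⟩ := Groth.Agent.H21Red0.exists_base_of_isPosSet D hΨ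
    obtain ⟨m, e, he⟩ := exists_enumerates D R'
    obtain ⟨φ, hφ⟩ := Groth.Agent.H21Split.TypeR.exists_iso_borelMap D t ht R' hR' b hconn (hsub.trans hb) e he
    haveI : Mono (RedSub.borelMap D e) := by rw [← hφ]; infer_instance
    let w := x ≫ φ.inv
    have hw : w ≫ RedSub.borelMap D e = x ≫ h := by rw [← hφ, Category.assoc, Iso.inv_hom_id_assoc]
    have hsnd : w ≫ snd _ _ ≫ RedSub.prodMap (Red.Ga S) m (fun k => D.u (e k)) = 1 := by
      refine hom_ext_pt fun R _ g j => ?_
      let v := gvs g (j ≫ w ≫ snd _ _)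
      suffices hv0 : v = 0 by
        rw [MonObj.comp_one, ← Category.assoc w, ← Category.assoc j, comp_prodMap_u]
        change uProd g D e v = 1
        rw [hv0, uProd_zero]
      funext k
      let A := MonoidAlgebra R (Multiplicative D.M)
      let χu : Multiplicative D.M →* A := MonoidAlgebra.of R _
      let z : pt g A ⟶ X := pmap g (toBase R A) ≫ j
      obtain ⟨⟨s', hs'⟩, -⟩ := hx (pt g A) z (ds g χu ≫ D.split.inv.hom.hom)
      obtain ⟨χ, hχ⟩ := exists_tPt g D ((z ≫ w) ≫ fst _ _)
      obtain ⟨χ', hχ'⟩ := exists_tPt g D s'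
      have hv : (z ≫ w) ≫ snd _ _ = gas g (fun k => algebraMap R A (v k)) := by
        calc (z ≫ w) ≫ snd _ _ = pmap g (toBase R A) ≫ (j ≫ w ≫ snd _ _) := by simp only [z, Category.assoc]
          _ = pmap g (toBase R A) ≫ gas g v := by rw [gas_gvs]
          _ = _ := pmap_gas g _ _
      have hz : z ≫ x ≫ h = tPt g D χ * uProd g D e (fun k => algebraMap R A (v k)) := by
        rw [← hw, ← Category.assoc z, RedSub.borelMap, MonObj.comp_mul, hχ]
        congr 1
        rw [← Category.assoc, hv, comp_prodMap_u, gvs_gas]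
      rw [hz, show (ds g χu ≫ D.split.inv.hom.hom) ≫ D.i = tPt g D χu from Category.assoc _ _ _, ← hχ'] at hs'
      let χi : Multiplicative D.M →* A := χu.comp (AddMonoidHom.toMultiplicative (-AddMonoidHom.id D.M))
      have hinv : (tPt g D χu)⁻¹ = tPt g D χi := R2.tPt_inv' g D _ _ (MonoidHom.ext fun m => by
        induction m using Multiplicative.rec with
        | ofAdd m =>
          change χu (Multiplicative.ofAdd m) * χu (Multiplicative.ofAdd (-m)) = 1
          rw [← map_mul, ← ofAdd_add, add_neg_cancel, ofAdd_zero, map_one])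
      have hconj : (tPt g D χu)⁻¹ * uProd g D e (fun k => algebraMap R A (v k)) * tPt g D χu =
          uProd g D e (fun k => χi (Multiplicative.ofAdd (D.P.root (e k))) * algebraMap R A (v k)) := by
        rw [hinv, ← tPt_conj_uProd, show tPt g D χu = (tPt g D χi)⁻¹ by rw [← hinv, _root_.inv_inv]]
      set V := uProd g D e (fun k => algebraMap R A (v k))
      set V' := uProd g D e (fun k => χi (Multiplicative.ofAdd (D.P.root (e k))) * algebraMap R A (v k))
      have heq : tPt g D (χ * χu) * V' = tPt g D (χ' * χ) * V := by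
        rw [tPt_mul, tPt_mul, ← hconj]
        calc tPt g D χ * tPt g D χu * ((tPt g D χu)⁻¹ * V * tPt g D χu)
            = (tPt g D χ * V * tPt g D χu * (tPt g D χ * V)⁻¹) * (tPt g D χ * V) := by group
          _ = _ := by rw [hs', _root_.mul_assoc]
      let p : (Multiplicative D.M →* A) → (Fin m → A) → (pt g A ⟶ D.T ⊗ RedSub.pow (Red.Ga S) m) := fun c y =>
        lift (ds g c ≫ D.split.inv.hom.hom) (gas g y)
      have hp : ∀ c y, p c y ≫ RedSub.borelMap D e = tPt g D c * uProd g D e y := fun c y => by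
        simp only [p, RedSub.borelMap, MonObj.comp_mul, lift_fst_assoc, lift_snd_assoc, comp_prodMap_u, gvs_gas, tPt,
          Category.assoc]
      have hpe : p (χ * χu) (fun k => χi (Multiplicative.ofAdd (D.P.root (e k))) * algebraMap R A (v k)) =
          p (χ' * χ) (fun k => algebraMap R A (v k)) := by
        rw [← cancel_mono (RedSub.borelMap D e), hp, hp]
        exact heq
      have hk := congrArg (fun q : pt g A ⟶ D.T ⊗ RedSub.pow (Red.Ga S) m => gvs g (q ≫ snd _ _) k) hpe
      simp only [p, lift_snd, gvs_gas] at hk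
      have hr : -D.P.root (e k) ≠ 0 := neg_ne_zero.mpr (D.P.ne_zero _)
      change MonoidAlgebra.single (Multiplicative.ofAdd (-D.P.root (e k))) (1 : R) * MonoidAlgebra.single 1 (v k) =
        MonoidAlgebra.single 1 (v k) at hk
      rw [MonoidAlgebra.single_mul_single, _root_.one_mul, _root_.mul_one, MonoidAlgebra.single_inj] at hk
      have h0 : v k = 0 := by
        rcases hk with ⟨h1, -⟩ | ⟨h1, -⟩
        · exact absurd (Multiplicative.ofAdd.injective h1) hr
        · exact h1
      exact h0
    refine ⟨w ≫ fst _ _, ?_⟩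
    rw [← cancel_mono h, Category.assoc, ht, ← hw, RedSub.borelMap, MonObj.comp_mul, hsnd,
      _root_.mul_one, Category.assoc]
  · intro hN a ha ha'
    obtain ⟨s⟩ := (inferInstance : Nonempty S)
    obtain ⟨va, hva⟩ := (hR' a).mpr ha
    obtain ⟨vb, hvb⟩ := (hR' _).mpr ha'
    obtain ⟨p, q, r, hpqr⟩ := exists_nS D a
    let x : 𝟙_ (Over S) ⟶ H := (p ≫ va) * (q ≫ vb) * (r ≫ va)
    have hxh : x ≫ h = nS D a := by
      simp only [x, MonObj.mul_comp, Category.assoc, hva, hvb]
      exact hpqr.symm
    obtain ⟨σ, hσ⟩ := hN _ x fun X' y σ => by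
      rw [hxh, toUnit_unique y (toUnit X')]
      let s' := σ ≫ D.split.hom.hom.hom ≫ Red.DSmap S (D.P.reflection a).toLinearMap.toAddMonoidHom ≫ D.split.inv.hom.hom
      refine ⟨⟨s', (acts_reflection_iff.mp (acts_nS D a) X' σ).trans (by simp only [s', Category.assoc])⟩, ?_⟩
      have h2 := acts_reflection_iff.mp ((acts_nS D a).inv_refl) X' σ
      rw [GrpObj.comp_inv, _root_.inv_inv] at h2
      exact ⟨s', h2.trans (by simp only [s', Category.assoc])⟩
    have hid : Acts D (nS D a) (AddMonoidHom.id D.M) := fun R _ g B _ _ χ => by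
      rw [← hxh, ← hσ, Category.assoc σ, ht]
      obtain ⟨c, hc⟩ := exists_tPt g D ((toUnit (pt g B)) ≫ σ)
      rw [show toUnit (pt g B) ≫ σ ≫ D.i = tPt g D c from (Category.assoc _ _ _).symm.trans hc.symm, (tPt_commute g D c χ).eq, mul_inv_cancel_right]
      congr 1
    have heq := (acts_nS D a).unique hid (Red.geomPt s)
    have h1 := DFunLike.congr_fun heq (D.P.root a)
    change D.P.reflection a (D.P.root a) = D.P.root a at h1
    rw [D.P.reflection_apply_self, neg_eq_iff_add_eq_zero, ← two_nsmul] at h1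
    haveI : Module.IsReflexive ℤ D.M := .of_isPerfPair D.P.toLinearMap
    haveI : IsAddTorsionFree D.M := .of_isTorsionFree ℤ D.M
    exact D.P.ne_zero a ((nsmul_eq_zero_iff_right (by norm_num)).mp h1)

end Groth.Agent.S5528
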