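import Groth.Statements.S5529
import Groth.Agent.H21Split.TypeR.Closed
import Groth.Agent.H21Split.TypeR.NotRed

set_option autoImplicit false
open CategoryTheory MonoidalCategory CartesianMonoidalCategory MonObj GrpObj AlgebraicGeometry
universe u
open RedSub
open Groth.Agent.H21Split Groth.Agent.H21Split.TypeR

set_option maxHeartbeats 1000000
set_option backward.isDefEq.respectTransparency false
set_option linter.style.haveILetI false
set_option synthInstance.maxHeartbeats 400000

namespace Groth.Agent.S5529

/-- (i) ⟺ (ii): Let S be connected, G a split reductive S-group (splitting D), H a subgroup of type (R)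
containing the torus T, with root set R'. Then the geometric fibres of H are reductive if and only
if R' is symmetric (R' = -R'); and when R' is symmetric H is a reductive S-group. -/
theorem result {S : Scheme.{u}} [ConnectedSpace S] {G H : Over S} [GrpObj G] [GrpObj H]
    (D : Red.SplitRed G) (h : H ⟶ G) (hH : RedSub.IsTypeR h) (t : D.T ⟶ H) (ht : t ≫ h = D.i) (R' : Set D.idx)
    (hR' : ∀ a : D.idx, (∃ v : Red.Ga S ⟶ H, v ≫ h = D.u a) ↔ a ∈ R') :
    ((∀ s : S, Red.IsReductiveOver (AlgebraicClosure (S.residueField s)) (Red.geomFibre s H)) ↔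
        ∀ a ∈ R', D.P.reflectionPerm a a ∈ R') ∧
      ((∀ a ∈ R', D.P.reflectionPerm a a ∈ R') → Red.IsReductive H) := by
  obtain ⟨⟨hmon, himm⟩, hsm, hqc, hconn, -⟩ := hH
  haveI := hmon
  haveI := himm
  haveI := hsm
  haveI := hqc
  refine ⟨⟨fun hred a ha => ?_, fun hsymm s => isReductiveOver_of_symm D t ht R' hR' hconn hsymm s⟩,
    fun hsymm => ⟨isAffineHom_of_symm t ht R' hR' hsymm hconn, hsm,
      fun s => isReductiveOver_of_symm D t ht R' hR' hconn hsymm s⟩⟩
  obtain ⟨s⟩ := (inferInstance : Nonempty S)
  let D' := H21Red0.geomSplit D s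
  haveI : IsMonHom ((Over.pullback (Red.geomPt s)).map h) := H21Diag.isMonHom_bcMap _ h
  haveI : IsImmersion ((Over.pullback (Red.geomPt s)).map h).left := isImmersion_bcMap _
  haveI : Smooth (Red.geomFibre s H).hom := MorphismProperty.pullback_snd (P := @Smooth) _ _ inferInstance
  exact symm_of_isReductiveOver (D := D') ((Over.pullback (Red.geomPt s)).map t) (fibre_torus D t ht s) R'
    (fibre_roots D t ht R' hR' s) (hred s) a ha

end Groth.Agent.S5529
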