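import Groth.Statements.S5561
import Groth.Agent.H21Split.TypeR.Normalizer

set_option autoImplicit false
open CategoryTheory MonoidalCategory CartesianMonoidalCategory MonObj GrpObj AlgebraicGeometry
universe u
open RedSub

set_option backward.isDefEq.respectTransparency false
set_option linter.style.haveILetI false

namespace Groth.Agent.S5561

/-- Let S be connected, G a split reductive S-group (splitting D), H a subgroup of type (R) containing T
whose root set R' is contained in some system of positive roots, H'' a subgroup of type (R)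
containing T with root set R'', and K ⊆ H the subgroup of type (R) containing T with root set R' ∩
R''. Then H ∩ Norm_G(H'') = K: a point of H normalises H'' if and only if it factors through K. -/
theorem result {S : Scheme.{u}} [ConnectedSpace S] {G H : Over S} [GrpObj G] [GrpObj H]
    (D : Red.SplitRed G) (h : H ⟶ G) (hH : RedSub.IsTypeR h) (t : D.T ⟶ H) (ht : t ≫ h = D.i) (R' : Set D.idx)
    (hR' : ∀ a : D.idx, (∃ v : Red.Ga S ⟶ H, v ≫ h = D.u a) ↔ a ∈ R')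
    (hpos : ∃ b : D.P.Base, R' ⊆ RedSub.posRoots D.P b)
    {H'' K : Over S} [GrpObj H''] [GrpObj K] (h'' : H'' ⟶ G) (hH'' : RedSub.IsTypeR h'') (t'' : D.T ⟶ H'')
    (ht'' : t'' ≫ h'' = D.i) (R'' : Set D.idx) (hR'' : ∀ a : D.idx, (∃ v : Red.Ga S ⟶ H'', v ≫ h'' = D.u a) ↔ a ∈ R'')
    (kG : K ⟶ G) (hK : RedSub.IsTypeR kG) (tK : D.T ⟶ K) (htK : tK ≫ kG = D.i)
    (hRK : ∀ a : D.idx, (∃ v : Red.Ga S ⟶ K, v ≫ kG = D.u a) ↔ a ∈ R' ∩ R'') (fK : K ⟶ H) (hfK : fK ≫ h = kG)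
    (X : Over S) (x : X ⟶ H) :
    (∀ (X' : Over S) (y : X' ⟶ X) (z : X' ⟶ H''),
        (∃ z' : X' ⟶ H'', (y ≫ x ≫ h) * (z ≫ h'') * (y ≫ x ≫ h)⁻¹ = z' ≫ h'') ∧
        (∃ z' : X' ⟶ H'', (y ≫ x ≫ h)⁻¹ * (z ≫ h'') * (y ≫ x ≫ h) = z' ≫ h'')) ↔
      ∃ w : X ⟶ K, w ≫ fK = x := by
  obtain ⟨⟨hmon, himm⟩, hsm, hqc, hconn, -⟩ := hH
  obtain ⟨⟨hmon'', himm''⟩, hsm'', -, -, -⟩ := hH''
  obtain ⟨⟨hmonK, himmK⟩, hsmK, -, hconnK, -⟩ := hK
  haveI := hmon
  haveI := himm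
  haveI := hsm
  haveI := hqc
  haveI := hmon''
  haveI := himm''
  haveI := hsm''
  haveI := hmonK
  haveI := himmK
  haveI := hsmK
  haveI : Mono h'' := (Over.forget S).mono_of_mono_map (inferInstanceAs (Mono h''.left))
  obtain ⟨b, hb⟩ := hpos
  constructor
  · intro hx
    exact Groth.Agent.H21Split.TypeR.exists_factor_of_normalizes D t ht R' hR' hconn b hb t'' ht'' R'' hR'' tK htK
      (fun a ha ha' => (hRK a).mpr ⟨ha, ha'⟩) fK hfK x fun X' y z => (hx X' y z).1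
  · rintro ⟨w, rfl⟩ X' y z
    obtain ⟨f'', hf''⟩ := Groth.Agent.H21Split.TypeR.exists_le D tK htK (R' ∩ R'') hRK b hconnK t'' ht''
      (fun a ha => (hR'' a).mpr ha.2)
    let k := y ≫ w ≫ f''
    have hk : y ≫ (w ≫ fK) ≫ h = k ≫ h'' := by simp only [k, Category.assoc, hfK, hf'']
    rw [hk]
    exact ⟨⟨k * z * k⁻¹, by rw [MonObj.mul_comp, MonObj.mul_comp, GrpObj.inv_comp]⟩,
      ⟨k⁻¹ * z * k, by rw [MonObj.mul_comp, MonObj.mul_comp, GrpObj.inv_comp]⟩⟩

end Groth.Agent.S5561
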