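import Groth.Statements.S5562
import Groth.Agent.H21Split.TypeR.Conj
import Groth.Agent.H21Split.Bru.Roots

set_option autoImplicit false
open CategoryTheory MonoidalCategory CartesianMonoidalCategory MonObj GrpObj AlgebraicGeometry
universe u
open RedSub

set_option backward.isDefEq.respectTransparency false
set_option linter.style.haveILetI false
set_option synthInstance.maxHeartbeats 400000
set_option maxHeartbeats 1000000

namespace Groth.Agent.S5562

/-- Let S be connected, G a split reductive S-group (splitting D), H a subgroup of type (R) containing T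
whose root set R' is closed with R' ∩ -R' = ∅, U = U_{R'} its unipotent radical, and H'' a subgroup
of type (R) containing T with root set R'' such that no root of R'' is the opposite of a root of R'.
If α ∈ R', β ∈ R'' and α + β a root imply α + β ∈ R', then H'' normalises U. (The published
statement does not require R'' ∩ -R' = ∅; that condition is necessary: for G = SL₂, H = B the Borel
subgroup with R' = {α} and H'' = G with R'' = {α, -α}, the remaining hypotheses hold vacuously, 2α
and 0 not being roots, while a representative of the reflection s_α conjugates U_α onto U_{-α}; the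
published proof applies the commutator formula to α ∈ R' and β ∈ R'', which requires β ≠ -α, and
with that condition it proves the statement given here.) -/
theorem result {S : Scheme.{u}} [ConnectedSpace S] {G H : Over S} [GrpObj G] [GrpObj H]
    (D : Red.SplitRed G) (h : H ⟶ G) (hH : RedSub.IsTypeR h) (t : D.T ⟶ H) (ht : t ≫ h = D.i) (R' : Set D.idx)
    (hR' : ∀ a : D.idx, (∃ v : Red.Ga S ⟶ H, v ≫ h = D.u a) ↔ a ∈ R')
    (hcl : ∀ a b c : D.idx, a ∈ R' → b ∈ R' → D.P.root a + D.P.root b = D.P.root c → c ∈ R')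
    (hasym : ∀ a ∈ R', D.P.reflectionPerm a a ∉ R') {U : Over S} [GrpObj U] (u : U ⟶ H) (hU : Par.IsUnipotentRadical u)
    {H'' : Over S} [GrpObj H''] (h'' : H'' ⟶ G) (hH'' : RedSub.IsTypeR h'') (t'' : D.T ⟶ H'') (ht'' : t'' ≫ h'' = D.i)
    (R'' : Set D.idx) (hR'' : ∀ a : D.idx, (∃ v : Red.Ga S ⟶ H'', v ≫ h'' = D.u a) ↔ a ∈ R'')
    (hmix : ∀ a b c : D.idx, a ∈ R' → b ∈ R'' → D.P.root a + D.P.root b = D.P.root c → c ∈ R')
    (hopp : ∀ a ∈ R', D.P.reflectionPerm a a ∉ R'') :
    ∀ (X : Over S) (y : X ⟶ H'') (x : X ⟶ U), ∃ x' : X ⟶ U,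
      (y ≫ h'') * (x ≫ u ≫ h) * (y ≫ h'')⁻¹ = x' ≫ u ≫ h := by
  obtain ⟨⟨hmon, himm⟩, hsm, hqc, hconn, -⟩ := hH
  obtain ⟨⟨hmon'', himm''⟩, hsm'', -, hconn'', -⟩ := hH''
  haveI := hmon
  haveI := himm
  haveI := hsm
  haveI := hqc
  haveI := hmon''
  haveI := himm''
  haveI := hsm''
  haveI := Groth.Agent.H21Split.isAffineHom_hom D
  haveI : Finite D.idx := Finite.of_fintype _
  have hΨ : Groth.Agent.H21Split.IsPosSet D.P R' := ⟨hcl, fun a c ha hc hc' => hasym a ha (by
    rw [show D.P.reflectionPerm a a = c from D.P.root.injective (by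
      rw [D.P.root_reflectionPerm, D.P.reflection_apply_self, hc])]
    exact hc')⟩
  obtain ⟨b, hb⟩ := Groth.Agent.H21Red0.exists_base_of_isPosSet D hΨ
  obtain ⟨m, e, he⟩ := Groth.Agent.H21Split.exists_enumerates D R'
  obtain ⟨ψ, hψ⟩ := Groth.Agent.H21Split.TypeR.exists_iso_radical D t ht R' hR' hconn b hb u hU e he
  intro X y x
  obtain ⟨n', hn'⟩ := Groth.Agent.H21Split.TypeR.conj_prodMap_mem D t'' ht'' R'' hR'' hconn'' hΨ he
    (fun g β c hβ hc s r => Groth.Agent.H21Split.TypeR.uPt_conj_mem_closed D hcl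
      (fun a z ha hz => hmix a β z ha hβ hz) (fun ho => hopp _ ho (by
        rw [show D.P.reflectionPerm (D.P.reflectionPerm β β) (D.P.reflectionPerm β β) = β from D.P.root.injective (by
          rw [← neg_neg (D.P.root β), ← D.P.reflection_apply_self β, ← D.P.root_reflectionPerm, D.P.root_reflectionPerm (D.P.reflectionPerm β β), D.P.reflection_apply_self])]
        exact hβ)) g hc s r) y (x ≫ ψ.inv)
  refine ⟨n' ≫ ψ.hom, ?_⟩
  rw [← hψ, Category.assoc, Iso.inv_hom_id_assoc] at hn'
  simpa only [Category.assoc] using hn'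

end Groth.Agent.S5562
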