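import Groth.Statements.S5563
import Groth.Agent.H21Split.TypeR.Conj
import Groth.Agent.H21Split.Bru.Roots

set_option autoImplicit false
open CategoryTheory MonoidalCategory CartesianMonoidalCategory MonObj GrpObj AlgebraicGeometry
universe u
open RedSub

set_option backward.isDefEq.respectTransparency false
set_option linter.style.haveILetI false
set_option synthInstance.maxHeartbeats 400000
set_option maxHeartbeats 1000000

namespace Groth.Agent.S5563

/-- Let S be connected, G a split reductive S-group (splitting D), b a system of simple roots, a a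
simple root, H = H_{R_+ ∖ {a}} the subgroup of type (R) containing T with that root set and U =
U_{â} its unipotent radical. Then U_{-a} normalises U. -/
theorem result {S : Scheme.{u}} [ConnectedSpace S] {G H U : Over S} [GrpObj G]
    [GrpObj H] [GrpObj U] (D : Red.SplitRed G) (b : D.P.Base) (a : D.idx) (ha : a ∈ b.support) (h : H ⟶ G)
    (hH : RedSub.IsTypeR h) (t : D.T ⟶ H) (ht : t ≫ h = D.i)
    (hR : ∀ c : D.idx, (∃ v : Red.Ga S ⟶ H, v ≫ h = D.u c) ↔ (c ∈ RedSub.posRoots D.P b ∧ c ≠ a))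
    (u : U ⟶ H) (hU : Par.IsUnipotentRadical u) (X : Over S) (y : X ⟶ Red.Ga S) (x : X ⟶ U) :
    ∃ x' : X ⟶ U, (y ≫ D.u (D.P.reflectionPerm a a)) * (x ≫ u ≫ h) * (y ≫ D.u (D.P.reflectionPerm a a))⁻¹ =
      x' ≫ u ≫ h := by
  obtain ⟨⟨hmon, himm⟩, hsm, hqc, hconn, -⟩ := hH
  haveI := hmon
  haveI := himm
  haveI := hsm
  haveI := hqc
  haveI := Groth.Agent.H21Split.isAffineHom_hom D
  haveI : Finite D.idx := Finite.of_fintype _
  obtain ⟨f, hlevi, hf, -⟩ := Groth.Agent.H21Split.exists_levi_simple D b ha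
  have hhalf : Groth.Agent.H21Split.TypeR.half D f = {c | c ∈ RedSub.posRoots D.P b ∧ c ≠ a} := hf
  obtain ⟨m, e, he⟩ := Groth.Agent.H21Split.exists_enumerates D {c | c ∈ RedSub.posRoots D.P b ∧ c ≠ a}
  obtain ⟨ψ, hψ⟩ := Groth.Agent.H21Split.TypeR.exists_iso_radical D t ht _ hR hconn b (fun c hc => hc.1) u hU e he
  have he' : RedSub.Enumerates (Groth.Agent.H21Split.TypeR.half D f) e := by rw [hhalf]; exact he
  have hΨ := Groth.Agent.H21Split.TypeR.isPosSet_half D f
  obtain ⟨z, hz⟩ := Groth.Agent.H21Split.exists_lift_prodMap D hΨ he'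
    ((y ≫ D.u (D.P.reflectionPerm a a)) * ((x ≫ ψ.inv) ≫ RedSub.prodMap (Red.Ga S) m (fun k => D.u (e k))) *
      (y ≫ D.u (D.P.reflectionPerm a a))⁻¹) fun R _ g j => by
    rw [MonObj.comp_mul, MonObj.comp_mul, GrpObj.comp_inv, ← Category.assoc j y,
      ← Groth.Agent.H21Split.ga_gv g (j ≫ y)]
    refine Groth.Agent.H21Split.conj_Ug_le D g _ (fun c hc r => ?_)
      (Groth.Agent.H21Split.comp_prodMap_mem D hΨ he' g j (x ≫ ψ.inv))
    refine Groth.Agent.H21Split.TypeR.uPt_conj_mem D f g ?_ hc _ r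
    have h0 : f (D.P.root a) = 0 := hlevi.2.1
    rw [D.P.root_reflectionPerm, D.P.reflection_apply_self, map_neg, h0, neg_zero]
  refine ⟨z ≫ ψ.hom, ?_⟩
  rw [← hψ] at hz
  simp only [Category.assoc, Iso.inv_hom_id_assoc] at hz ⊢
  exact hz.symm

end Groth.Agent.S5563
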