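import Groth.Statements.S5564
import Groth.Agent.H21Split.Corad.Split

set_option autoImplicit false
open CategoryTheory MonoidalCategory CartesianMonoidalCategory MonObj GrpObj AlgebraicGeometry
universe u
open RedSub
set_option backward.isDefEq.respectTransparency false

namespace Groth.Agent.S5564

/-- Let G be a split reductive S-group (splitting D, torus T ≅ D_S(M)), D' = dér(G) ⟶ G its derived
group and N = {m ∈ M | (α*, m) = 0 for every coroot α*}. Then (dér(G), T', M/N, R) is a splitting:
D' admits a splitting whose character group is identified with M/N carrying root to root (through a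
bijection of index sets), whose torus maps to T over the inclusion D' ⟶ G compatibly with D_S(M/N) ⟶
D_S(M), and whose root homomorphisms composed with D' ⟶ G are the u_a. -/
theorem result {S : Scheme.{u}} {G D' : Over S} [GrpObj G] [GrpObj D'] (D : Red.SplitRed G)
    (d : D' ⟶ G) [IsMonHom d]
    (hker : ∃ (C : Over S) (_ : GrpObj C) (f₀ : G ⟶ C), IsMonHom f₀ ∧ (∀ (X : Over S) (a b : X ⟶ C), a * b = b * a) ∧
      AlgGrp.IsKernel d f₀)
    (hkill : RedSub.KilledByCommutative d)
    (N : AddSubgroup D.M) (hN : ∀ m : D.M, m ∈ N ↔ ∀ a : D.idx, D.P.coroot a m = 0) :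
    ∃ (Dd : Red.SplitRed D') (τ : Dd.T ⟶ D.T) (eidx : Dd.idx ≃ D.idx) (em : Dd.M ≃+ D.M ⧸ N),
      τ ≫ D.i = Dd.i ≫ d ∧
      τ ≫ D.split.hom.hom.hom =
        Dd.split.hom.hom.hom ≫ Red.DSmap S (em.symm.toAddMonoidHom.comp (QuotientAddGroup.mk' N)) ∧
      (∀ a' : Dd.idx, em (Dd.P.root a') = QuotientAddGroup.mk' N (D.P.root (eidx a'))) ∧
      (∀ a' : Dd.idx, Dd.u a' ≫ d = D.u (eidx a')) := by
  exact Groth.Agent.H21Split.Corad.exists_splitRed D N hN d hker hkill

end Groth.Agent.S5564
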