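import Groth.Statements.S5566
import Groth.Agent.H21Split.Bru.Simple
import Groth.Agent.H21Split.Bru.Points

open Groth.Agent.H21Split

set_option backward.isDefEq.respectTransparency false
set_option synthInstance.maxHeartbeats 400000

set_option autoImplicit false
open CategoryTheory MonoidalCategory CartesianMonoidalCategory MonObj GrpObj AlgebraicGeometry
universe u
open RedSub

namespace Groth.Agent.S5566

/-- Let G be a split reductive S-group (splitting D, system of simple roots b, big cell Ω ⟶ G), a a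
simple root, u_a(x) a section of U_a with x of unit coordinate, and v = u_{-a}(y) any section of
U_{-a}. Then Ω · v ⊆ Ω ∪ u_a(x) · Ω. -/
theorem result {S : Scheme.{u}} {G : Over S} [GrpObj G] (D : Red.SplitRed G)
    (b : D.P.Base) {n m : ℕ} (eneg : Fin n → D.idx) (epos : Fin m → D.idx)
    (hneg : RedSub.Enumerates (RedSub.negRoots D.P b) eneg) (hpos : RedSub.Enumerates (RedSub.posRoots D.P b) epos)
    (a : D.idx) (ha : a ∈ b.support) (x : 𝟙_ (Over S) ⟶ Red.Ga S) (hx : IsUnit (Red.gaFn x))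
    (y : 𝟙_ (Over S) ⟶ Red.Ga S) :
    Set.range (RedSub.cellMap D eneg epos * (toUnit _ ≫ y ≫ D.u (D.P.reflectionPerm a a))).left.base ⊆
      Set.range (RedSub.cellMap D eneg epos).left.base ∪
        Set.range ((toUnit _ ≫ x ≫ D.u a) * RedSub.cellMap D eneg epos).left.base := by
  rintro _ ⟨q, rfl⟩
  obtain ⟨K, _, g, j, hj⟩ := exists_field_point _ q
  have hp : ∀ s, (j ≫ (RedSub.cellMap D eneg epos * (toUnit _ ≫ y ≫ D.u (D.P.reflectionPerm a a)))).left.base s =
      (RedSub.cellMap D eneg epos * (toUnit _ ≫ y ≫ D.u (D.P.reflectionPerm a a))).left.base q := fun s => by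
    rw [← hj s]; rfl
  have hω : j ≫ RedSub.cellMap D eneg epos ∈ Om D g b := (mem_Om_iff_lift D g hneg hpos).mpr ⟨j, rfl⟩
  have hy : (toUnit (pt g K) ≫ y ≫ D.u (D.P.reflectionPerm a a)) =
      uPt g D (D.P.reflectionPerm a a) (gv g (toUnit (pt g K) ≫ y)) := by
    rw [uPt, ga_gv, Category.assoc]
  have hxK : sec g (x ≫ D.u a) = uPt g D a (gv g (toUnit (pt g K) ≫ x)) := by
    rw [uPt, ga_gv, sec, Category.assoc]
  have hx0 : gv g (toUnit (pt g K) ≫ x) ≠ 0 := by
    rw [gv_def, Groth.Agent.H27Witt.GaCoord.gaFn_comp]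
    exact ((hx.map _).map _).ne_zero
  have e : j ≫ (RedSub.cellMap D eneg epos * (toUnit _ ≫ y ≫ D.u (D.P.reflectionPerm a a))) =
      (j ≫ RedSub.cellMap D eneg epos) * uPt g D (D.P.reflectionPerm a a) (gv g (toUnit (pt g K) ≫ y)) := by
    rw [MonObj.comp_mul, ← hy, ← Category.assoc j (toUnit _), toUnit_unique (j ≫ toUnit _) (toUnit _)]
  rcases mul_neg_simple D b g ha hω _ hx0 (gv g (toUnit (pt g K) ≫ y)) with h | h
  · exact Or.inl (mem_range_cellMap D hneg hpos hp (e ▸ h))
  · exact Or.inr (mem_range_translate D hneg hpos hp (w := x ≫ D.u a) (by rw [hxK, e]; exact h))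

end Groth.Agent.S5566
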