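import Groth.Statements.S5572
import Groth.Agent.H21Split.Corad.Main

set_option autoImplicit false
open CategoryTheory MonoidalCategory CartesianMonoidalCategory MonObj GrpObj AlgebraicGeometry
universe u
open RedSub

namespace Groth.Agent.S5572

/-- Let G be a split reductive S-group (splitting D, T ≅ D_S(M)) and N = {m | (α*, m) = 0 for all
coroots}, so that T/T' = D_S(N). Then there is a homomorphism f : G ⟶ D_S(N) inducing on T the
canonical projection; any kernel of f is smooth over S with connected fibres and is killed by every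
homomorphism from G to a commutative S-group scheme. -/
theorem result {S : Scheme.{u}} {G : Over S} [GrpObj G] (D : Red.SplitRed G)
    (N : AddSubgroup D.M) (hN : ∀ m : D.M, m ∈ N ↔ ∀ a : D.idx, D.P.coroot a m = 0) :
    ∃ f : G ⟶ Red.DS S ↥N, IsMonHom f ∧ D.i ≫ f = D.split.hom.hom.hom ≫ Red.DSmap S N.subtype ∧
      ∀ (K : Over S) [GrpObj K] (k : K ⟶ G) [IsMonHom k], AlgGrp.IsKernel k f →
        Smooth K.hom ∧ RedSub.HasConnectedFibres K ∧ RedSub.KilledByCommutative k := by
  rcases isEmpty_or_nonempty S with hS | hS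
  · have hu : ∀ {X Y : Over S} (f f' : X ⟶ Y), f = f' := fun {X Y} f f' => by
      haveI : IsEmpty X.left := Function.isEmpty X.hom.base
      exact Over.OverMorphism.ext ((isInitialOfIsEmpty (X := X.left)).hom_ext _ _)
    haveI : IsEmpty G.left := Function.isEmpty G.hom.base
    let f : G ⟶ Red.DS S ↥N := Over.homMk ((isInitialOfIsEmpty (X := G.left)).to _)
      ((isInitialOfIsEmpty (X := G.left)).hom_ext _ _)
    refine ⟨f, ⟨hu _ _, hu _ _⟩, hu _ _, fun K _ k _ _ => ⟨?_, fun s => isEmptyElim s, fun A _ h _ _ => hu _ _⟩⟩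
    haveI : IsEmpty K.left := Function.isEmpty K.hom.base
    infer_instance
  obtain ⟨b⟩ := Groth.Agent.H21Red0.nonempty_base D
  haveI := Groth.Agent.H21Split.isReduced' D b
  obtain ⟨f, hf, hi, hu⟩ := Groth.Agent.H21Split.exists_corad D b fun x hx => (hN x).mp hx
  haveI := hf
  exact ⟨f, hf, hi, fun K _ k _ hk =>
    ⟨(Groth.Agent.H21Split.Corad.smooth_connected D b N hN f hi hu k hk).1,
      (Groth.Agent.H21Split.Corad.smooth_connected D b N hN f hi hu k hk).2,
      Groth.Agent.H21Split.Corad.killed D b N hN f hi hu k hk⟩⟩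

end Groth.Agent.S5572
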