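import Groth.Statements.S5576
import Groth.Agent.H21Split.Bru.CoradUse
-- import your own Groth.Agent.* helpers here

set_option autoImplicit false
open CategoryTheory MonoidalCategory CartesianMonoidalCategory MonObj GrpObj AlgebraicGeometry
universe u
open RedSub

namespace Groth.Agent.S5576

/-- Let G be a split reductive S-group (splitting D, T ≅ D_S(M), system of simple roots b, big cell Ω =
U⁻ · T · U), N = {m | (α*, m) = 0 for all coroots}, T' = D_S(M/N) ⊆ T and Ω' = U⁻ · T' · U ⊆ Ω. Let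
a be a simple root and n_a an S-point of G realising the reflection s_a. If g is a point of Ω' such
that n_a g n_a⁻¹ lies in Ω, then n_a g n_a⁻¹ lies in Ω'. -/
theorem result {S : Scheme.{u}} {G : Over S} [GrpObj G] (D : Red.SplitRed G)
    (b : D.P.Base) {n m : ℕ} (eneg : Fin n → D.idx) (epos : Fin m → D.idx)
    (hneg : RedSub.Enumerates (RedSub.negRoots D.P b) eneg) (hpos : RedSub.Enumerates (RedSub.posRoots D.P b) epos)
    (N : AddSubgroup D.M) (hN : ∀ x : D.M, x ∈ N ↔ ∀ c : D.idx, D.P.coroot c x = 0)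
    (nr : D.idx → (𝟙_ (Over S) ⟶ G)) (hnr : RedSub.RealisesReflections D nr) (a : D.idx) (ha : a ∈ b.support)
    (X : Over S) (g : X ⟶ RedSub.pow (Red.Ga S) n ⊗ (Red.DS S (D.M ⧸ N) ⊗ RedSub.pow (Red.Ga S) m))
    (hg : ∃ y : X ⟶ RedSub.pow (Red.Ga S) n ⊗ (D.T ⊗ RedSub.pow (Red.Ga S) m),
      (toUnit X ≫ nr a) * (g ≫ ((fst _ _ ≫ RedSub.prodMap (Red.Ga S) n (fun k => D.u (eneg k))) *
        ((snd _ _ ≫ fst _ _ ≫ Red.DSmap S (QuotientAddGroup.mk' N) ≫ D.split.inv.hom.hom ≫ D.i) *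
          (snd _ _ ≫ snd _ _ ≫ RedSub.prodMap (Red.Ga S) m (fun k => D.u (epos k)))))) * (toUnit X ≫ nr a)⁻¹ = y ≫ RedSub.cellMap D eneg epos) :
    ∃ y' : X ⟶ RedSub.pow (Red.Ga S) n ⊗ (Red.DS S (D.M ⧸ N) ⊗ RedSub.pow (Red.Ga S) m),
      (toUnit X ≫ nr a) * (g ≫ ((fst _ _ ≫ RedSub.prodMap (Red.Ga S) n (fun k => D.u (eneg k))) *
        ((snd _ _ ≫ fst _ _ ≫ Red.DSmap S (QuotientAddGroup.mk' N) ≫ D.split.inv.hom.hom ≫ D.i) *
          (snd _ _ ≫ snd _ _ ≫ RedSub.prodMap (Red.Ga S) m (fun k => D.u (epos k)))))) * (toUnit X ≫ nr a)⁻¹ =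
        y' ≫ ((fst _ _ ≫ RedSub.prodMap (Red.Ga S) n (fun k => D.u (eneg k))) *
        ((snd _ _ ≫ fst _ _ ≫ Red.DSmap S (QuotientAddGroup.mk' N) ≫ D.split.inv.hom.hom ≫ D.i) *
          (snd _ _ ≫ snd _ _ ≫ RedSub.prodMap (Red.Ga S) m (fun k => D.u (epos k))))) := by
  obtain ⟨y, hy⟩ := hg
  exact Groth.Agent.H21Split.prime_of_conj D b hN eneg epos _ g y hy

end Groth.Agent.S5576
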