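import Groth.Statements.S5577
import Groth.Agent.H21Split.Bru.CoradUse
-- import your own Groth.Agent.* helpers here

set_option autoImplicit false
open CategoryTheory MonoidalCategory CartesianMonoidalCategory MonObj GrpObj AlgebraicGeometry
universe u
open RedSub

namespace Groth.Agent.S5577

/-- Let G be a split reductive S-group (splitting D, T ≅ D_S(M), system of simple roots b, big cell map
c : Ω ⟶ G), N = {m | (α*, m) = 0 for all coroots} and f : Ω ⟶ D_S(N) = T/T' the T-component followed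
by D_S(M) ⟶ D_S(N). Then f is generically multiplicative: there is an open V ⊆ Ω x_S Ω containing
the unit point such that for all points x, y of Ω with (x, y) in V there is a point z of Ω with c(z)
= c(x) c(y) and f(z) = f(x) f(y). -/
theorem result {S : Scheme.{u}} {G : Over S} [GrpObj G]
    (D : Red.SplitRed G) (b : D.P.Base) {n m : ℕ} (eneg : Fin n → D.idx) (epos : Fin m → D.idx)
    (hneg : RedSub.Enumerates (RedSub.negRoots D.P b) eneg) (hpos : RedSub.Enumerates (RedSub.posRoots D.P b) epos)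
    (N : AddSubgroup D.M) (hN : ∀ x : D.M, x ∈ N ↔ ∀ c : D.idx, D.P.coroot c x = 0) :
    ∃ V : Set ↥((RedSub.pow (Red.Ga S) n ⊗ (D.T ⊗ RedSub.pow (Red.Ga S) m)) ⊗ (RedSub.pow (Red.Ga S) n ⊗ (D.T ⊗ RedSub.pow (Red.Ga S) m))).left, IsOpen V ∧
      (∀ u₀ : 𝟙_ (Over S) ⟶ RedSub.pow (Red.Ga S) n ⊗ (D.T ⊗ RedSub.pow (Red.Ga S) m), u₀ ≫ RedSub.cellMap D eneg epos = 1 →
        Set.range (lift u₀ u₀).left.base ⊆ V) ∧
      ∀ (X : Over S) (x y : X ⟶ RedSub.pow (Red.Ga S) n ⊗ (D.T ⊗ RedSub.pow (Red.Ga S) m)), Set.range (lift x y).left.base ⊆ V →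
        ∃ z : X ⟶ RedSub.pow (Red.Ga S) n ⊗ (D.T ⊗ RedSub.pow (Red.Ga S) m),
          z ≫ RedSub.cellMap D eneg epos = (x ≫ RedSub.cellMap D eneg epos) * (y ≫ RedSub.cellMap D eneg epos) ∧
          z ≫ snd _ _ ≫ fst _ _ ≫ D.split.hom.hom.hom ≫ Red.DSmap S N.subtype =
            (x ≫ snd _ _ ≫ fst _ _ ≫ D.split.hom.hom.hom ≫ Red.DSmap S N.subtype) *
              (y ≫ snd _ _ ≫ fst _ _ ≫ D.split.hom.hom.hom ≫ Red.DSmap S N.subtype) := by
  obtain ⟨hD, hbij⟩ := Groth.Agent.H21Split.isCellData_of_base D b hneg hpos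
  haveI := Groth.Agent.H21Split.isOpenImmersion_cellMap D eneg epos hD hbij
  refine ⟨(((fst _ _ ≫ RedSub.cellMap D eneg epos) * (snd _ _ ≫ RedSub.cellMap D eneg epos)).left.base) ⁻¹'
    Set.range (RedSub.cellMap D eneg epos).left.base,
    (RedSub.cellMap D eneg epos).left.opensRange.isOpen.preimage (Scheme.Hom.continuous _), ?_, fun X x y hV => ?_⟩
  · intro u₀ hu
    rintro _ ⟨s, rfl⟩
    have h : lift u₀ u₀ ≫ ((fst _ _ ≫ RedSub.cellMap D eneg epos) * (snd _ _ ≫ RedSub.cellMap D eneg epos)) = η[G] := by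
      rw [MonObj.comp_mul, lift_fst_assoc, lift_snd_assoc, hu, _root_.one_mul]
      rw [Hom.one_def, toUnit_unit, Category.id_comp]
    have h' := congrArg (fun f => f.left s) h
    rw [Set.mem_preimage]
    exact (Set.ext_iff.mp rfl _).mp (h'.symm ▸ Groth.Agent.H21Split.eta_mem_range D eneg epos s : _ ∈ Set.range _)
  · obtain ⟨z, hz⟩ := Groth.Agent.H21Split.exists_lift_range
      ((fst _ _ ≫ RedSub.cellMap D eneg epos) * (snd _ _ ≫ RedSub.cellMap D eneg epos))
      (RedSub.cellMap D eneg epos) (lift x y) hV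
    rw [MonObj.comp_mul, lift_fst_assoc, lift_snd_assoc] at hz
    refine ⟨z, hz, ?_⟩
    have := Groth.Agent.H21Split.corad_mul D b hN eneg epos z x y hz
    simpa only [Groth.Agent.H21Split.coradT, Category.assoc] using this

end Groth.Agent.S5577
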