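import Groth.Statements.S5580
import Mathlib
import Groth.Agent.H15Site.ToposFin.Eps

open ToposFin Groth.Agent.H15Site.TFin

set_option linter.style.haveILetI false
open CategoryTheory CategoryTheory.Limits Opposite Simplicial

set_option autoImplicit false
open CategoryTheory CategoryTheory.Limits Opposite
universe u
open ToposFin

namespace Groth.Agent.S5580

section
lemma main {C : Type u} [SmallCategory C] {J : GrothendieckTopology C} {Y : ToposFin.Sh J}
    {ι : Type u} (X : ι → ToposFin.Sh J) (c : Cofan X) (hc : IsColimit c) (f : c.pt ⟶ Y)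
    (hf : IsQSHom f) (i : ι) : IsQSHom (c.inj i ≫ f) := by
  haveI := mono_inj hc i
  exact isQSHom_comp (isQSHom_of_mono _) hf
end

/-- Quasi-compact and coherent cases: for the topos of sheaves of sets on a small site: let (X_i) be a
finite family of objects with coproduct X (given as a colimit cofan) and f : X -> Y a morphism with
components f_i : X_i -> Y. Then f is quasi-compact (resp. coherent) if and only if every f_i is. -/
theorem result {C : Type u} [SmallCategory C] {J : GrothendieckTopology C}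
    {Y : ToposFin.Sh J} {n : ℕ} (X : Fin n → ToposFin.Sh J) (c : Cofan X) (hc : IsColimit c)
    (f : c.pt ⟶ Y) :
    (ToposFin.IsQCHom f ↔ ∀ i, ToposFin.IsQCHom (c.inj i ≫ f)) ∧
    (ToposFin.IsCohHom f ↔ ∀ i, ToposFin.IsCohHom (c.inj i ≫ f)) := by
  let X' : ULift.{u} (Fin n) → Sh J := fun k => X k.down
  let c' : Cofan X' := Cofan.mk c.pt (fun k => c.inj k.down)
  let hc' : IsColimit c' := Cofan.IsColimit.mk _
    (fun t => Cofan.IsColimit.desc hc fun i => t.inj ⟨i⟩)
    (fun t k => Cofan.IsColimit.fac hc _ k.down)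
    (fun t m hm => Cofan.IsColimit.hom_ext hc _ _ fun i =>
      (hm ⟨i⟩).trans (Cofan.IsColimit.fac hc (fun j => t.inj ⟨j⟩) i).symm)
  have hqc : IsQCHom f ↔ ∀ i, IsQCHom (c.inj i ≫ f) :=
    ⟨fun h i => isQCHom_comp (isQCHom_inj hc' ⟨i⟩) h,
      fun h => isQCHom_of_finite_source f (jEpi_cofan hc) h⟩
  refine ⟨hqc, fun h i => ⟨hqc.1 h.1 i, main X' c' hc' f h.2 ⟨i⟩⟩, fun h => ⟨hqc.2 fun i => (h i).1, ?_⟩⟩
  exact isQSHom_cofan hc' f fun k => (h k.down).2

end Groth.Agent.S5580
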