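import Groth.Statements.S5582
import Mathlib
import Groth.Agent.H15Site.ToposFin.Present

open ToposFin Groth.Agent.H15Site.TFin

set_option linter.style.haveILetI false
open CategoryTheory CategoryTheory.Limits Opposite Simplicial

set_option autoImplicit false
open CategoryTheory CategoryTheory.Limits Opposite
universe u
open ToposFin

namespace Groth.Agent.S5582

/-- Equivalence of (i), (ii bis) and (iii), for the topos of sheaves of sets on a small site admitting a
generating family of coherent objects: the coequalizer of every pair of arrows between coherent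
objects is coherent if and only if every object X for which Hom(X, -) commutes with small filtered
colimits is coherent; and every object is a small filtered colimit of coherent objects if and only
if that same condition holds. -/
theorem result {C : Type u} [SmallCategory C]
    {J : GrothendieckTopology C} (hE : ToposFin.HasCoherentGenerators J) :
    ((∀ (X₀ X₁ : ToposFin.Sh J) (a b : X₁ ⟶ X₀), ToposFin.IsCoherent X₀ → ToposFin.IsCoherent X₁ →
        ToposFin.IsCoherent (coequalizer a b)) ↔
      (∀ X : ToposFin.Sh J, ToposFin.IsFP X → ToposFin.IsCoherent X)) ∧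
    ((∀ X : ToposFin.Sh J, ∃ (I : Type u) (_ : SmallCategory I) (_ : IsFiltered I) (D : I ⥤ ToposFin.Sh J),
        (∀ i, ToposFin.IsCoherent (D.obj i)) ∧ Nonempty (X ≅ colimit D)) ↔
      (∀ X : ToposFin.Sh J, ToposFin.IsFP X → ToposFin.IsCoherent X)) := by
  have hq := hasQCGenerators_of_coherent hE
  have hcoeq : (∀ X : Sh J, IsFP X → IsCoherent X) → ∀ (X₀ X₁ : Sh J) (a b : X₁ ⟶ X₀),
      IsCoherent X₀ → IsCoherent X₁ → IsCoherent (coequalizer a b) :=
    fun h X₀ X₁ a b h₀ h₁ => h _
      (isFP_coequalizer a b (isFP_of_isCoherent hq h₀) (isFP_of_isCoherent hq h₁))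
  have hpres : (∀ X : Sh J, IsFP X → IsCoherent X) →
      ∀ Q : Sh J, Pres (Set.ofPred fun X : Sh J => IsCoherent X) Q → IsCoherent Q := by
    rintro h Q ⟨α, β, _, _, A, B, a, b, hA, hB, ⟨e⟩⟩
    exact isCoherent_of_iso e.symm (hcoeq h _ _ a b (isCoherent_cofan (coproductIsCoproduct A) hA)
      (isCoherent_cofan (coproductIsCoproduct B) hB))
  refine ⟨⟨fun h X hX => ?_, hcoeq⟩, fun h X hX => ?_, fun h X => ?_⟩
  · obtain ⟨Q, ⟨α, β, _, _, A, B, a, b, hA, hB, ⟨e⟩⟩, i, p, hip⟩ :=
      exists_retract_pres (isGenerating_coherent hE) hX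
    exact isCoherent_of_retract i p hip (isCoherent_of_iso e.symm
      (h _ _ a b (isCoherent_cofan (coproductIsCoproduct A) hA)
        (isCoherent_cofan (coproductIsCoproduct B) hB)))
  · obtain ⟨I, _, _, D, hD, ⟨e⟩⟩ := h X
    obtain ⟨i, a, ha⟩ := (isFP_iff.1 hX I D).2 e.hom
    exact isCoherent_of_retract a (colimit.ι D i ≫ e.inv)
      (by rw [← Category.assoc, ha, e.hom_inv_id]) (hD i)
  · obtain ⟨I, i₁, i₂, D, hD, e⟩ := exists_presentation (isGenerating_coherent hE) X
    exact ⟨I, i₁, i₂, D, fun i => hpres h _ (hD i), e⟩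

end Groth.Agent.S5582
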