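import Groth.Statements.S5588
import Mathlib
import Groth.Agent.H15Site.ToposFin.Present

open ToposFin Groth.Agent.H15Site.TFin

set_option linter.style.haveILetI false
open CategoryTheory CategoryTheory.Limits Opposite Simplicial

set_option autoImplicit false
open CategoryTheory CategoryTheory.Limits Opposite
universe u
open ToposFin

namespace Groth.Agent.S5588

/-- (ii) implies (i), for the topos of sheaves of sets on a small site: let S be an isomorphism-closed
generating set of quasi-compact objects, stable under finite colimits and under fibre products. Then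
S is the set of all coherent objects (so the topos is locally coherent), and every object X for
which Hom(X, -) commutes with small filtered colimits is coherent. -/
theorem result {C : Type u} [SmallCategory C]
    {J : GrothendieckTopology C} (S : Set (ToposFin.Sh J)) (hqc : ∀ K ∈ S, ToposFin.IsQC K)
    (hiso : ∀ ⦃K L : ToposFin.Sh J⦄, K ∈ S → Nonempty (K ≅ L) → L ∈ S)
    (hgen : ToposFin.IsGenerating S) (hpb : ToposFin.ClosedUnderPullbacks S)
    (hcolim : ∀ (K : Type) [SmallCategory K] [FinCategory K] (D : K ⥤ ToposFin.Sh J),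
      (∀ k, D.obj k ∈ S) → colimit D ∈ S) :
    (∀ X : ToposFin.Sh J, X ∈ S ↔ ToposFin.IsCoherent X) ∧
    (∀ X : ToposFin.Sh J, ToposFin.IsFP X → ToposFin.IsCoherent X) := by
  have hcop : ∀ (α : Type u) [Finite α] (A : α → Sh J), (∀ i, A i ∈ S) → (∐ A) ∈ S := by
    intro α _ A hA
    obtain ⟨n, ⟨e⟩⟩ := Finite.exists_equiv_fin α
    exact hiso (hcolim (Discrete (Fin n)) (Discrete.functor (A ∘ e.symm)) (fun k => hA _))
      ⟨Sigma.reindex e.symm A⟩
  have hcoeq : ∀ {X₀ X₁ : Sh J} (a b : X₁ ⟶ X₀), X₀ ∈ S → X₁ ∈ S → coequalizer a b ∈ S := by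
    intro X₀ X₁ a b h₀ h₁
    exact hcolim WalkingParallelPair (parallelPair a b) (fun k => by cases k <;> assumption)
  have hmem : ∀ X : Sh J, IsFP X → X ∈ S := by
    intro X hX
    obtain ⟨Q, ⟨α, β, _, _, A, B, a, b, hA, hB, ⟨eQ⟩⟩, i, p, hip⟩ := exists_retract_pres hgen hX
    have hQ : Q ∈ S := hiso (hcoeq a b (hcop α A hA) (hcop β B hB)) ⟨eQ.symm⟩
    have hp : (p ≫ i) ≫ p = p := by rw [Category.assoc, hip, Category.comp_id]
    refine hiso (hcoeq (𝟙 Q) (p ≫ i) hQ hQ) ⟨?_⟩
    exact
      { hom := coequalizer.desc p (by rw [Category.id_comp, hp])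
        inv := i ≫ coequalizer.π _ _
        hom_inv_id := coequalizer.hom_ext (by
          rw [coequalizer.π_desc_assoc, ← Category.assoc, Category.comp_id, ← coequalizer.condition,
            Category.id_comp])
        inv_hom_id := by rw [Category.assoc, coequalizer.π_desc, hip] }
  have hq := hasQCGenerators_of_set hqc hgen
  exact ⟨fun X => ⟨isCoherent_of_mem hqc hgen hpb, fun hX => hmem X (isFP_of_isCoherent hq hX)⟩,
    fun X hX => isCoherent_of_mem hqc hgen hpb (hmem X hX)⟩

end Groth.Agent.S5588
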