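import Groth.Statements.S5589
import Mathlib
import Groth.Agent.H15Site.ToposFin.Alg

open ToposFin Groth.Agent.H15Site.TFin

set_option linter.style.haveILetI false
open CategoryTheory CategoryTheory.Limits Opposite Simplicial

set_option autoImplicit false
open CategoryTheory CategoryTheory.Limits Opposite
universe u
open ToposFin

namespace Groth.Agent.S5589

/-- Let f be a morphism of topoi of sheaves of sets on small sites, with inverse image functor F (left
adjoint, preserving finite limits), and let S be a generating set of quasi-compact objects of the
target topos. Then f is quasi-compact, i.e. F carries quasi-compact objects to quasi-compact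
objects, if and only if F(X) is quasi-compact for every X in S. -/
theorem result {C D : Type u} [SmallCategory C] [SmallCategory D]
    {J : GrothendieckTopology C} {K : GrothendieckTopology D}
    (F : ToposFin.Sh K ⥤ ToposFin.Sh J) (R : ToposFin.Sh J ⥤ ToposFin.Sh K) (adj : F ⊣ R)
    [PreservesFiniteLimits F]
    (S : Set (ToposFin.Sh K)) (hS : ∀ X ∈ S, ToposFin.IsQC X) (hgen : ToposFin.IsGenerating S) :
    (∀ X : ToposFin.Sh K, ToposFin.IsQC X → ToposFin.IsQC (F.obj X)) ↔ ∀ X ∈ S, ToposFin.IsQC (F.obj X) := by
  exact ⟨fun h X hX => h X (hS X hX), fun h X hX => InvImg.isQC_map F adj hgen h hX⟩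

end Groth.Agent.S5589
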