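import Groth.Statements.S5592
import Groth.Agent.H18Et.Henselian
import Groth.Agent.H18Et.Germ
import Groth.Agent.H18Et.Support

set_option autoImplicit false
set_option linter.style.haveILetI false
set_option backward.isDefEq.respectTransparency false
set_option backward.isDefEq.respectTransparency.types false
open CategoryTheory CategoryTheory.Limits AlgebraicGeometry Opposite
universe u
open EtDesc

namespace Groth.Agent.S5592

open Groth.Agent.H18Et

variable {K : Type u} [Field K] [IsSepClosed K] {Ω : Type u} [Field Ω] [IsSepClosed Ω]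

theorem exists_pointed_section (ξ : Spec (CommRingCat.of Ω) ⟶ Spec (CommRingCat.of K))
    (V : (Spec (CommRingCat.of K)).Etale) (z : (Scheme.pointSmallEtale ξ).fiber.obj V) :
    ∃ (g : EtCoh.top (Spec (CommRingCat.of K)) ⟶ V)
      (e : (Scheme.pointSmallEtale ξ).fiber.obj (EtCoh.top (Spec (CommRingCat.of K)))),
      (Scheme.pointSmallEtale ξ).fiber.map g e = z := by
  haveI : Etale V.hom := V.prop
  obtain ⟨l, hl, hl'⟩ := Scheme.exists_fac_of_etale_of_isSepClosed V.hom (𝟙 (Spec (CommRingCat.of K)))
    (ptOf z) (Subsingleton.elim (α := Spec (CommRingCat.of K)) _ _)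
  let g : EtCoh.top (Spec (CommRingCat.of K)) ⟶ V := MorphismProperty.Over.homMk l hl trivial
  obtain ⟨e, he⟩ := exists_fiber_lift g z (default : Spec (CommRingCat.of K)) hl'
  exact ⟨g, e, he⟩

theorem eq_id_of_top (g : EtCoh.top (Spec (CommRingCat.of K)) ⟶ EtCoh.top (Spec (CommRingCat.of K))) :
    g = 𝟙 _ :=
  (EtCore.topIsTerminal _).hom_ext _ _

theorem germ_top_bijective (ξ : Spec (CommRingCat.of Ω) ⟶ Spec (CommRingCat.of K))
    (F : EtDesc.Sh (Spec (CommRingCat.of K))) :
    ∃ e, Function.Bijective (germ (A := Type (u + 1)) ξ F (EtCoh.top (Spec (CommRingCat.of K))) e) := by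
  let e : (Scheme.pointSmallEtale ξ).fiber.obj (EtCoh.top (Spec (CommRingCat.of K))) :=
    Over.homMk ξ (Category.comp_id _)
  have huniq : ∀ e', e' = e := fun e' =>
    Over.OverMorphism.ext ((Category.comp_id _).symm.trans (Over.w e'))
  refine ⟨e, fun s t h => ?_, fun p => ?_⟩
  · obtain ⟨V, b, y, -, he⟩ := (germ_eq_iff (A := Type (u + 1)) ξ F _ e s t).1 h
    obtain ⟨g, e', -⟩ := exists_pointed_section ξ V y
    have h1 := congrArg (F.obj.map g.op) he
    simp only [← ConcreteCategory.comp_apply, ← Functor.map_comp, ← op_comp] at h1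
    rw [eq_id_of_top (g ≫ b)] at h1
    simpa using h1
  · obtain ⟨V, z, s, rfl⟩ := germ_surjective (A := Type (u + 1)) ξ F p
    obtain ⟨g, e', he⟩ := exists_pointed_section ξ V z
    refine ⟨F.obj.map g.op s, ?_⟩
    rw [← he, huniq e']
    exact (Scheme.pointSmallEtale ξ).toPresheafFiber_w_apply g e F.obj s

theorem isIso_of_top {F G : EtDesc.Sh (Spec (CommRingCat.of K))} (φ : F ⟶ G)
    (h : Function.Bijective (φ.hom.app (op (EtCoh.top (Spec (CommRingCat.of K)))))) : IsIso φ := by
  have hb : Function.Bijective ((Scheme.pointSmallEtale (𝟙 (Spec (CommRingCat.of K)))).sheafFiber.map φ) := by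
    obtain ⟨e, hF⟩ := germ_top_bijective (𝟙 (Spec (CommRingCat.of K))) F
    obtain ⟨e', hG⟩ := germ_top_bijective (𝟙 (Spec (CommRingCat.of K))) G
    have hee : e' = e := Over.OverMorphism.ext
      (((Category.comp_id _).symm.trans (Over.w e')).trans ((Category.comp_id _).symm.trans (Over.w e)).symm)
    subst hee
    refine (Function.Bijective.of_comp_iff _ hF).1 ?_
    convert hG.comp h using 1
    exact funext fun s => germ_naturality (A := Type (u + 1)) _ φ _ e' s
  haveI : Mono φ := mono_of_stalkSh φ fun x =>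
    ⟨K, inferInstance, inferInstance, 𝟙 _, Subsingleton.elim _ _, hb.1⟩
  haveI : Epi φ := epi_of_stalkSh φ fun x =>
    ⟨K, inferInstance, inferInstance, 𝟙 _, Subsingleton.elim _ _, hb.2⟩
  exact isIso_of_mono_of_epi φ

/-- Let k' be a separably closed extension field of a separably closed field k and u : Spec k' -> Spec k
the canonical morphism. Then the inverse image functor u^* from etale sheaves of sets on Spec k to
etale sheaves of sets on Spec k' is an equivalence of categories. -/
theorem result (k k' : Type u) [Field k] [IsSepClosed k]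
    [Field k'] [IsSepClosed k'] [Algebra k k'] :
    (EtDesc.pullSh (Spec.map (CommRingCat.ofHom (algebraMap k k')))).IsEquivalence := by
  let u₀ := Spec.map (CommRingCat.ofHom (algebraMap k k'))
  let adj := EtDesc.adjSh u₀
  haveI : Surjective u₀ := ⟨fun x => ⟨default, Subsingleton.elim _ _⟩⟩
  have hunit : ∀ G : EtDesc.Sh (Spec (CommRingCat.of k)),
      Function.Bijective ((adj.unit.app G).hom.app (op (EtCoh.top (Spec (CommRingCat.of k))))) := by
    intro G
    let ξ := 𝟙 (Spec (CommRingCat.of k'))
    obtain ⟨e, he⟩ := germ_top_bijective (ξ ≫ u₀) G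
    let T := (EtCoh.bc u₀).obj (EtCoh.top (Spec (CommRingCat.of k)))
    let y : (Scheme.pointSmallEtale ξ).fiber.obj T := (fiberCompIso u₀ ξ).inv.app _ e
    have hy : Function.Bijective (germ (A := Type (u + 1)) ξ ((EtDesc.pullSh u₀).obj G) T y) := by
      obtain ⟨e', he'⟩ := germ_top_bijective ξ ((EtDesc.pullSh u₀).obj G)
      let i := EtCore.bcTopIso u₀
      have hye : y = (Scheme.pointSmallEtale ξ).fiber.map i.inv e' := by
        have h : (Scheme.pointSmallEtale ξ).fiber.map i.hom y = e' :=
          Over.OverMorphism.ext (((Category.comp_id _).symm.trans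
            (Over.w ((Scheme.pointSmallEtale ξ).fiber.map i.hom y))).trans
            ((Category.comp_id _).symm.trans (Over.w e')).symm)
        rw [← h, ← ConcreteCategory.comp_apply, ← Functor.map_comp, i.hom_inv_id,
          CategoryTheory.Functor.map_id]
        rfl
      rw [hye]
      convert he'.comp (ConcreteCategory.bijective_of_isIso (((EtDesc.pullSh u₀).obj G).obj.map i.inv.op)) using 1
      exact funext fun s => ((Scheme.pointSmallEtale ξ).toPresheafFiber_w_apply i.inv e' ((EtDesc.pullSh u₀).obj G).obj s).symm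
    have key : ∀ s, (stalkPullShIso u₀ ξ).inv.app G (germ (A := Type (u + 1)) (ξ ≫ u₀) G _ e s) =
        germ (A := Type (u + 1)) ξ ((EtDesc.pullSh u₀).obj G) T y ((adj.unit.app G).hom.app (op _) s) := fun s =>
      ConcreteCategory.congr_hom (toPresheafFiber_hom_sheafFiberComapIso_hom
        (Scheme.pointSmallEtale ξ) (EtCoh.bc u₀) (EtCoh.coverPreserving_bc u₀) (Type (u + 1))
        (pointCompIso u₀ ξ).hom G _ e) s
    refine (Function.Bijective.of_comp_iff' hy _).1 ?_
    have hcomp : (fun s : G.obj.obj (op (EtCoh.top (Spec (CommRingCat.of k)))) =>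
        germ (A := Type (u + 1)) ξ ((EtDesc.pullSh u₀).obj G) T y ((adj.unit.app G).hom.app (op _) s)) =
        fun s => (stalkPullShIso u₀ ξ).inv.app G (germ (A := Type (u + 1)) (ξ ≫ u₀) G _ e s) :=
      funext fun s => (key s).symm
    exact (congrArg Function.Bijective hcomp).mpr
      ((ConcreteCategory.bijective_of_isIso ((stalkPullShIso u₀ ξ).inv.app G)).comp he)
  haveI hu : ∀ G, IsIso (adj.unit.app G) := fun G => isIso_of_top _ (hunit G)
  haveI : IsIso adj.unit := NatIso.isIso_of_isIso_app _
  haveI hc : ∀ F, IsIso (adj.counit.app F) := fun F => by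
    refine isIso_of_top _ ?_
    let i := EtCore.bcTopIso u₀
    haveI : IsIso ((EtDesc.pushSh u₀).map (adj.counit.app F)) := by
      haveI : IsIso (adj.unit.app ((EtDesc.pushSh u₀).obj F) ≫ (EtDesc.pushSh u₀).map (adj.counit.app F)) := by
        rw [adj.right_triangle_components]; exact IsIso.id _
      exact IsIso.of_isIso_comp_left (adj.unit.app ((EtDesc.pushSh u₀).obj F)) _
    haveI h2 : IsIso (((EtDesc.pushSh u₀).map (adj.counit.app F)).hom.app (op (EtCoh.top (Spec (CommRingCat.of k))))) :=
      inferInstanceAs (IsIso (((sheafToPresheaf _ _).map ((EtDesc.pushSh u₀).map (adj.counit.app F))).app _))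
    haveI h3 : IsIso ((adj.counit.app F).hom.app (op ((EtCoh.bc u₀).obj (EtCoh.top (Spec (CommRingCat.of k)))))) := h2
    have hn := (adj.counit.app F).hom.naturality i.hom.op
    haveI : IsIso ((adj.counit.app F).hom.app (op (EtCoh.top (Spec (CommRingCat.of k')))) ≫ F.obj.map i.hom.op) := by
      rw [show ((adj.counit.app F).hom.app (op (EtCoh.top (Spec (CommRingCat.of k')))) ≫ F.obj.map i.hom.op) = _ from hn.symm]
      exact IsIso.comp_isIso' inferInstance h3
    haveI := IsIso.of_isIso_comp_right ((adj.counit.app F).hom.app (op (EtCoh.top (Spec (CommRingCat.of k'))))) (F.obj.map i.hom.op)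
    exact ConcreteCategory.bijective_of_isIso ((adj.counit.app F).hom.app (op (EtCoh.top (Spec (CommRingCat.of k')))))
  haveI : IsIso adj.counit := NatIso.isIso_of_isIso_app _
  exact adj.toEquivalence.isEquivalence_functor

end Groth.Agent.S5592
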