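import Groth.Statements.S5594
import Groth.Agent.H15Site.SpecArrows

set_option autoImplicit false
set_option backward.isDefEq.respectTransparency false
set_option backward.isDefEq.respectTransparency.types false
open CategoryTheory CategoryTheory.Limits AlgebraicGeometry Opposite
universe u
open EtDesc

namespace Groth.Agent.S5594

/-- Let X be a scheme, x, x' points of X with strict localisations Spec R -> X and Spec R' -> X, and ξ'
: Spec κ(R') -> Spec R' the closed point, a geometric point of X over x'. Then restricting along ξ'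
is a bijection from the X-morphisms Spec R' -> Spec R (specialization arrows) onto the X-morphisms
from the geometric point Spec κ(R') to Spec R: injectivity and surjectivity are stated separately. -/
theorem result (X : Scheme.{u}) (x x' : X)
    (R : Type u) [CommRing R] [IsLocalRing R] [Algebra (X.presheaf.stalk x) R]
    [IsLocalHom (algebraMap (X.presheaf.stalk x) R)] [Hensel.IsStrictHenselization (X.presheaf.stalk x) R]
    (R' : Type u) [CommRing R'] [IsLocalRing R'] [Algebra (X.presheaf.stalk x') R']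
    [IsLocalHom (algebraMap (X.presheaf.stalk x') R')] [Hensel.IsStrictHenselization (X.presheaf.stalk x') R'] :
    (∀ g₁ g₂ : Spec (CommRingCat.of R') ⟶ Spec (CommRingCat.of R),
      g₁ ≫ Hens2.specOf X x R = Hens2.specOf X x' R' → g₂ ≫ Hens2.specOf X x R = Hens2.specOf X x' R' →
      Spec.map (CommRingCat.ofHom (IsLocalRing.residue R')) ≫ g₁ =
        Spec.map (CommRingCat.ofHom (IsLocalRing.residue R')) ≫ g₂ → g₁ = g₂) ∧
    (∀ h : Spec (CommRingCat.of (IsLocalRing.ResidueField R')) ⟶ Spec (CommRingCat.of R),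
      h ≫ Hens2.specOf X x R = Hens2.geomPt X x' R' →
      ∃ g : Spec (CommRingCat.of R') ⟶ Spec (CommRingCat.of R),
        g ≫ Hens2.specOf X x R = Hens2.specOf X x' R' ∧
        Spec.map (CommRingCat.ofHom (IsLocalRing.residue R')) ≫ g = h) := by
  refine ⟨fun g₁ g₂ h₁ h₂ h => ?_, fun h hh => ?_⟩
  · have hs := H15Site.SpecArrows.specializes_of_arrow g₁ h₁
    obtain ⟨γ₁, rfl⟩ := Spec.map_surjective g₁
    obtain ⟨γ₂, rfl⟩ := Spec.map_surjective g₂
    rw [← Spec.map_comp, ← Spec.map_comp, Spec.map_inj] at h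
    have e₁ := (H15Site.SpecArrows.comp_specOf_eq_iff hs (algebraMap (X.presheaf.stalk x') R') γ₁).1 h₁
    have e₂ := (H15Site.SpecArrows.comp_specOf_eq_iff hs (algebraMap (X.presheaf.stalk x') R') γ₂).1 h₂
    obtain ⟨g, -, hgu⟩ := (H15Site.SpecArrows.exists_lift_and_unique (R := R) (R' := R') hs).1
      ((IsLocalRing.residue R').comp γ₁.hom) (by rw [RingHom.comp_assoc, e₁, ← RingHom.comp_assoc])
    exact congrArg Spec.map (CommRingCat.hom_ext ((hgu γ₁.hom ⟨e₁, rfl⟩).trans
      (hgu γ₂.hom ⟨e₂, (congrArg CommRingCat.Hom.hom h).symm⟩).symm))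
  · have hs := H15Site.SpecArrows.specializes_of_geomArrow h hh
    obtain ⟨σ, rfl⟩ := Spec.map_surjective h
    have hh' : Spec.map σ ≫ Hens2.specOf X x R = Spec.map (CommRingCat.ofHom
        ((IsLocalRing.residue R').comp (algebraMap (X.presheaf.stalk x') R'))) ≫ X.fromSpecStalk x' := by
      rw [hh, CommRingCat.ofHom_comp, Spec.map_comp, Category.assoc]
    obtain ⟨g, ⟨hg, hgσ⟩, -⟩ := (H15Site.SpecArrows.exists_lift_and_unique (R := R) (R' := R') hs).1
      σ.hom ((H15Site.SpecArrows.comp_specOf_eq_iff hs _ σ).1 hh')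
    refine ⟨Spec.map (CommRingCat.ofHom g),
      (H15Site.SpecArrows.comp_specOf_eq_iff hs _ _).2 hg, ?_⟩
    rw [← Spec.map_comp, ← CommRingCat.ofHom_comp, hgσ]
    rfl

end Groth.Agent.S5594
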