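import Groth.Statements.S5595
import Groth.Agent.H15Site.SetDescent.Subsheaf

set_option autoImplicit false
open CategoryTheory CategoryTheory.Limits AlgebraicGeometry Opposite
universe u
open EtDesc

namespace Groth.Agent.S5595

/-- Let f : X' -> X be universally submersive and F an etale sheaf of sets on X, with f^* F its inverse
image on X' and pr_1, pr_2 the projections of X' x_X X'. Then the map from subsheaves of F to
subsheaves of f^* F is injective, and its image consists exactly of the subsheaves G' of f^* F with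
pr_1^* G' = pr_2^* G' inside pr_1^* f^* F = pr_2^* f^* F: (a) subsheaves G_1, G_2 of F with the same
inverse image are the same subobject; (b) such a G' is the inverse image of a subsheaf of F. -/
theorem result {X' X : Scheme.{u}} (f : X' ⟶ X)
    (hf : EtDesc.IsUnivSubmersive f) (F : EtDesc.Sh X) :
    (∀ (G₁ G₂ : EtDesc.Sh X) (a₁ : G₁ ⟶ F) (a₂ : G₂ ⟶ F) [Mono a₁] [Mono a₂],
      (∃ φ : (EtDesc.pullSh f).obj G₁ ≅ (EtDesc.pullSh f).obj G₂,
          φ.hom ≫ (EtDesc.pullSh f).map a₂ = (EtDesc.pullSh f).map a₁) →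
      ∃ ψ : G₁ ≅ G₂, ψ.hom ≫ a₂ = a₁) ∧
    (∀ (G' : EtDesc.Sh X') (a' : G' ⟶ (EtDesc.pullSh f).obj F) [Mono a'],
      (∃ φ : (EtDesc.pullSh (pullback.fst f f)).obj G' ≅ (EtDesc.pullSh (pullback.snd f f)).obj G',
          φ.hom ≫ (EtDesc.pullSh (pullback.snd f f)).map a' =
            (EtDesc.pullSh (pullback.fst f f)).map a' ≫ (EtDesc.canIso f F).hom) →
      ∃ (G : EtDesc.Sh X) (a : G ⟶ F) (_ : Mono a) (ψ : (EtDesc.pullSh f).obj G ≅ G'),
        ψ.hom ≫ a' = (EtDesc.pullSh f).map a) := by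
  have := Groth.Agent.H15Site.SetDescent.surjective_of_univSubmersive hf
  refine ⟨fun G₁ G₂ a₁ a₂ _ _ ⟨φ, hφ⟩ => Groth.Agent.H15Site.SetDescent.subsheaf_ext f a₁ a₂ φ hφ,
    fun G' a' _ ⟨φ, hφ⟩ => ?_⟩
  exact Groth.Agent.H15Site.SetDescent.subsheaf_descent f hf a' φ hφ

end Groth.Agent.S5595
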