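import Groth.Statements.S5596
import Groth.Agent.H18Et.StalkSets

set_option autoImplicit false
open CategoryTheory CategoryTheory.Limits AlgebraicGeometry Opposite
universe u
open EtDesc

namespace Groth.Agent.S5596

/-- A morphism v : F -> G of etale sheaves of sets on a scheme X is a monomorphism (resp. an
epimorphism) if and only if for every geometric point ξ of X (a morphism from the spectrum of a
separably closed field) the map of stalks F_ξ -> G_ξ is injective (resp. surjective). -/
theorem result {X : Scheme.{u}} {F G : EtDesc.Sh X} (v : F ⟶ G) :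
    (Mono v ↔ ∀ (Ω : Type u) [Field Ω] [IsSepClosed Ω] (ξ : Spec (CommRingCat.of Ω) ⟶ X),
      Function.Injective (((Scheme.pointSmallEtale ξ).sheafFiber (A := Type (u + 1))).map v)) ∧
    (Epi v ↔ ∀ (Ω : Type u) [Field Ω] [IsSepClosed Ω] (ξ : Spec (CommRingCat.of Ω) ⟶ X),
      Function.Surjective (((Scheme.pointSmallEtale ξ).sheafFiber (A := Type (u + 1))).map v)) := by
  exact ⟨Groth.Agent.H18Et.mono_iff_stalkSh v, Groth.Agent.H18Et.epi_iff_stalkSh v⟩

end Groth.Agent.S5596
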