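import Groth.Statements.S5598
import Groth.Agent.H02CA.PC.Gen

set_option autoImplicit false
universe w v u
open CategoryTheory CategoryTheory.Limits
open PCoh

namespace Groth.Agent.S5598
open CategoryTheory.Category CategoryTheory.Pretriangulated Groth.Agent.H02CA.PC

/-- (i') ⇔ (ii') (punctual site): let C be an abelian category and C₀ a strictly full additive
subcategory, quasi-stable under kernels of epimorphisms and quasi-liftable. An object F of D(C) is
n-pseudo-coherent (isomorphic in D(C) to a strictly n-pseudo-coherent complex) if and only if there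
are a strictly perfect complex E (bounded, all terms in C₀) and a morphism E ⟶ F of D(C) which is an
n-isomorphism: an isomorphism on H^i for i > n and an epimorphism on H^n. -/
theorem result {C : Type u} [Category.{v} C] [Abelian C] [HasDerivedCategory.{w} C]
    (P : ObjectProperty C) [P.IsClosedUnderIsomorphisms] [P.ContainsZero] (hsum : ∀ X Y : C, P X → P Y → P (X ⨯ Y))
    (hqs : PCoh.IsQuasiStableUnderKernels P) (hql : PCoh.IsQuasiLiftable P)
    (n : ℤ) (F : DerivedCategory C) :
    (∃ E : CochainComplex C ℤ, PCoh.IsStrictPC P n E ∧ Nonempty (DerivedCategory.Q.obj E ≅ F)) ↔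
      ∃ (E : CochainComplex C ℤ) (a b : ℤ) (α : DerivedCategory.Q.obj E ⟶ F),
        (∀ i : ℤ, i < a ∨ b < i → IsZero (E.X i)) ∧ (∀ i : ℤ, P (E.X i)) ∧
        (∀ i : ℤ, n < i → IsIso ((DerivedCategory.homologyFunctor C i).map α)) ∧
        Epi ((DerivedCategory.homologyFunctor C n).map α) := by
  constructor
  · intro h
    obtain ⟨b, hb⟩ := DPC.exists_bound h
    obtain ⟨E, α, hE, hP, hα⟩ := exists_approx hsum hqs hql n (max n (b + 1)) (le_max_left _ _) h
      fun i hi => hb i (by omega)
    exact ⟨E, n, max n (b + 1), α, fun i hi => hE i (by omega), hP, (dge_iff_isIso n α).1 hα⟩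
  · rintro ⟨E, a, b, α, hE, hP, hα⟩
    exact dpc_of_dge hsum hqs hql n α ⟨E, ⟨⟨b, fun i hi => hE i (Or.inr hi)⟩, fun i _ => hP i⟩, ⟨Iso.refl _⟩⟩
      ((dge_iff_isIso n α).2 hα)

end Groth.Agent.S5598
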