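import Groth.Statements.S5602
import Groth.Agent.H02CA.PC.Step

set_option autoImplicit false
universe w v u
open CategoryTheory CategoryTheory.Limits
open PCoh

namespace Groth.Agent.S5602

/-- Let C be an abelian category and C₀ a class of objects, closed under isomorphisms and quasi-stable
under kernels of epimorphisms. If E is strictly n-pseudo-coherent (bounded above, terms in C₀ from
degree n on) and H^i(E) = 0 for i > n, then H^n(E) is of C₀-finite type. -/
theorem result {C : Type u} [Category.{v} C] [Abelian C]
    (P : ObjectProperty C) [P.IsClosedUnderIsomorphisms] (hqs : PCoh.IsQuasiStableUnderKernels P)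
    (n : ℤ) (E : CochainComplex C ℤ) (hE : PCoh.IsStrictPC P n E)
    (hac : ∀ i : ℤ, n < i → IsZero (E.homology i)) :
    PCoh.IsOfFiniteType P (E.homology n) := by
  exact Groth.Agent.H02CA.PC.ft_homology_top hqs n E hE hac

end Groth.Agent.S5602
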