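import Groth.Statements.S5603
import Groth.Agent.H02CA.PC.Gen

set_option autoImplicit false
universe w v u
open CategoryTheory CategoryTheory.Limits
open PCoh

namespace Groth.Agent.S5603
open CategoryTheory.Category CategoryTheory.Pretriangulated Groth.Agent.H02CA.PC

/-- Punctual site: let C be an abelian category and C₀ a strictly full additive subcategory,
quasi-stable under kernels of epimorphisms and quasi-liftable. If F ∈ D(C) is acyclic in degrees >
n, then F is n-pseudo-coherent (isomorphic to a strictly n-pseudo-coherent complex) if and only if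
H^n(F) is of C₀-finite type. -/
theorem result {C : Type u} [Category.{v} C] [Abelian C] [HasDerivedCategory.{w} C]
    (P : ObjectProperty C) [P.IsClosedUnderIsomorphisms] [P.ContainsZero] (hsum : ∀ X Y : C, P X → P Y → P (X ⨯ Y))
    (hqs : PCoh.IsQuasiStableUnderKernels P) (hql : PCoh.IsQuasiLiftable P)
    (n : ℤ) (F : DerivedCategory C) (hac : ∀ i : ℤ, n < i → IsZero ((DerivedCategory.homologyFunctor C i).obj F)) :
    (∃ E : CochainComplex C ℤ, PCoh.IsStrictPC P n E ∧ Nonempty (DerivedCategory.Q.obj E ≅ F)) ↔ PCoh.IsOfFiniteType P ((DerivedCategory.homologyFunctor C n).obj F) := by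
  exact ⟨fun h => DPC.ft hqs h hac, dpc_of_ft hsum hqs hql n hac⟩

end Groth.Agent.S5603
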