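import Groth.Statements.S5608
import Groth.Agent.H02CA.PC.Coh

set_option autoImplicit false
universe w v u
open CategoryTheory CategoryTheory.Limits
open PCoh

namespace Groth.Agent.S5608
open CategoryTheory.Category CategoryTheory.Pretriangulated Groth.Agent.H02CA.PC

/-- Punctual site: let C be an abelian category and C₀ a strictly full additive subcategory,
quasi-liftable in C, whose objects are C₀-coherent (of C₀-finite type, and every morphism from an
object of C₀ into them has kernel of C₀-finite type). For F ∈ D(C) with bounded above cohomology and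
n an integer: F is n-pseudo-coherent (isomorphic to a strictly n-pseudo-coherent complex) if and
only if H^n(F) is of C₀-finite type and H^i(F) is C₀-coherent for every i > n. -/
theorem result {C : Type u} [Category.{v} C] [Abelian C] [HasDerivedCategory.{w} C]
    (P : ObjectProperty C) [P.IsClosedUnderIsomorphisms] [P.ContainsZero] (hsum : ∀ X Y : C, P X → P Y → P (X ⨯ Y))
    (hql : PCoh.IsQuasiLiftable P)
    (hcoh : ∀ (X E : C) (u : E ⟶ X), P X → P E → PCoh.IsOfFiniteType P (kernel u))
    (n : ℤ) (F : DerivedCategory C) (b : ℤ) (hb : ∀ i : ℤ, b < i → IsZero ((DerivedCategory.homologyFunctor C i).obj F)) :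
    (∃ E : CochainComplex C ℤ, PCoh.IsStrictPC P n E ∧ Nonempty (DerivedCategory.Q.obj E ≅ F)) ↔
      (PCoh.IsOfFiniteType P ((DerivedCategory.homologyFunctor C n).obj F) ∧
        ∀ i : ℤ, n < i → (PCoh.IsOfFiniteType P ((DerivedCategory.homologyFunctor C i).obj F) ∧
          ∀ (E : C) (u : E ⟶ (DerivedCategory.homologyFunctor C i).obj F), P E → PCoh.IsOfFiniteType P (kernel u))) := by
  constructor
  · exact coh_of_dpc hsum hql hcoh n
  · rintro ⟨h₀, h⟩
    refine dpc_of_coh hsum hql hcoh n (max n (b + 1)) (le_max_left _ _) (fun i hi => hb i (by omega))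
      (fun i hi => ?_) fun i hi => (h i hi).2
    rcases eq_or_lt_of_le hi with rfl | hi'
    · exact h₀
    · exact (h i hi').1

end Groth.Agent.S5608
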