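import Groth.Statements.S5609
import Groth.Agent.H02CA.PC.Perf2

set_option autoImplicit false
universe w v u
open CategoryTheory CategoryTheory.Limits
open PCoh

namespace Groth.Agent.S5609
open CategoryTheory.Category CategoryTheory.Pretriangulated Groth.Agent.H02CA.PC

open CategoryTheory.Pretriangulated in
/-- Punctual site: stability of perfect complexes under cones: let C be an abelian category and C₀ a
strictly full additive subcategory which is liftable (every epimorphism onto an object of C₀ splits)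
and stable under kernels of epimorphisms. If E ⟶ F ⟶ G ⟶ E⟦1⟧ is a distinguished triangle of D(C)
with E and F perfect relative to C₀ (isomorphic to bounded complexes with terms in C₀), then G is
perfect relative to C₀. -/
theorem result {C : Type u} [Category.{v} C] [Abelian C] [HasDerivedCategory.{w} C]
    (P : ObjectProperty C) [P.IsClosedUnderIsomorphisms] [P.ContainsZero] (hsum : ∀ X Y : C, P X → P Y → P (X ⨯ Y))
    (hlift : ∀ (E F : C) (u : E ⟶ F), Epi u → P F → IsSplitEpi u)
    (hst : ∀ (E F : C) (u : E ⟶ F), Epi u → P E → P F → P (kernel u))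
    (T : Triangle (DerivedCategory C)) (hT : T ∈ distinguishedTriangles)
    (h₁ : (∃ (E : CochainComplex C ℤ) (a b : ℤ), (∀ i : ℤ, i < a ∨ b < i → IsZero (E.X i)) ∧ (∀ i : ℤ, P (E.X i)) ∧ Nonempty (DerivedCategory.Q.obj E ≅ T.obj₁)))
    (h₂ : (∃ (E : CochainComplex C ℤ) (a b : ℤ), (∀ i : ℤ, i < a ∨ b < i → IsZero (E.X i)) ∧ (∀ i : ℤ, P (E.X i)) ∧ Nonempty (DerivedCategory.Q.obj E ≅ T.obj₂))) :
    (∃ (E : CochainComplex C ℤ) (a b : ℤ), (∀ i : ℤ, i < a ∨ b < i → IsZero (E.X i)) ∧ (∀ i : ℤ, P (E.X i)) ∧ Nonempty (DerivedCategory.Q.obj E ≅ T.obj₃)) := by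
  obtain ⟨E, a, b, hz, hP, he⟩ := h₁
  obtain ⟨E', a', b', hz', hP', he'⟩ := h₂
  obtain ⟨M, hM, hzM, hM'⟩ := perfect_cone hsum hlift T hT (a := a) (b := b) (a' := a') (b' := b')
    ⟨E, hP, hz, he⟩ ⟨E', hP', hz', he'⟩
  exact ⟨M, _, _, hzM, hM, hM'⟩

end Groth.Agent.S5609
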