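import Groth.Statements.S5612
import Groth.Agent.H4DR.TorAmp.PerfectChange

set_option autoImplicit false
universe u
open CategoryTheory CategoryTheory.Limits
attribute [local instance] HasDerivedCategory.standard
open DRing

namespace Groth.Agent.S5612

/-- Let A be a commutative ring all of whose modules have finite tor dimension (for instance A of finite
global dimension) and K ∈ D(A). (i) K has finite tor dimension if and only if K has bounded
cohomology. (ii) K is perfect if and only if K has bounded cohomology and is pseudo-coherent. -/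
theorem result {A : Type u} [CommRing A]
    (hA : ∀ (M : Type u) [AddCommGroup M] [Module A M], DRing.HasFiniteTorDim A M) (K : Dual.D A) :
    (DRing.HasFiniteTorDimCx A K ↔ ∃ a b : ℤ, ∀ i : ℤ, i < a ∨ b < i → Subsingleton (Dual.HD A K i)) ∧
      (DRing.IsPerfect A K ↔
        (∃ a b : ℤ, ∀ i : ℤ, i < a ∨ b < i → Subsingleton (Dual.HD A K i)) ∧ DRing.IsPseudoCoherent' A K) := by
  have key : (∃ a b : ℤ, ∀ i : ℤ, i < a ∨ b < i → Subsingleton (Dual.HD A K i)) →
      DRing.HasFiniteTorDimCx A K := by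
    rintro ⟨a, b, hb⟩
    obtain ⟨a', b', hab⟩ := Groth.Agent.H4DR.TorAmp.exists_common (Finset.Icc a b)
      (fun i => Dual.inD A (Dual.HD A K i)) fun i _ => by
        obtain ⟨d, hd⟩ := hA (Dual.HD A K i)
        exact ⟨-d, 0, (Groth.Agent.H4DR.TorAmp.ta_inD_iff d (ModuleCat.of A (Dual.HD A K i))).2 hd⟩
    refine ⟨a + a', b + b', Groth.Agent.H4DR.TorAmp.ta_of_homology (b + 1 - a).toNat a
      (fun i hi => hb i (by omega)) fun i => ?_⟩
    by_cases hi : a ≤ i ∧ i ≤ b
    · exact Groth.Agent.H4DR.TorAmp.ta_mono (by omega) (by omega) (hab i (Finset.mem_Icc.2 hi))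
    · exact Groth.Agent.H4DR.TorAmp.ta_of_isZero ((DerivedCategory.singleFunctor (ModuleCat.{u} A) 0).map_isZero
        (ModuleCat.isZero_of_iff_subsingleton.2 (hb i (by omega))))
  have key' : DRing.HasFiniteTorDimCx A K →
      ∃ a b : ℤ, ∀ i : ℤ, i < a ∨ b < i → Subsingleton (Dual.HD A K i) :=
    fun ⟨a, b, h⟩ => ⟨a, b, Groth.Agent.H4DR.TorAmp.bound_of_ta h⟩
  refine ⟨⟨key', key⟩, fun h => ?_, fun ⟨h, hpc⟩ => Groth.Agent.H4DR.TorAmp.isPerfect_iff.2 ⟨hpc, key h⟩⟩
  obtain ⟨hpc, hT⟩ := Groth.Agent.H4DR.TorAmp.isPerfect_iff.1 h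
  exact ⟨key' hT, hpc⟩

end Groth.Agent.S5612
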