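import Groth.Statements.S5613
import Mathlib

set_option autoImplicit false
universe v u
open CategoryTheory CategoryTheory.Limits CategoryTheory.Pretriangulated
open KZero
open ZeroObject

namespace Groth.Agent.S5613

/-- Let C be a pretriangulated category, L an object of C and n an integer such that the coproduct ∐_{i
≥ 0} L⟦2ni⟧ exists in C. Then cl(L) = 0 in K₀(C). -/
theorem result {C : Type u} [Category.{v} C] [Preadditive C] [HasZeroObject C]
    [HasShift C ℤ] [∀ n : ℤ, (shiftFunctor C n).Additive] [Pretriangulated C]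
    (L : C) (n : ℤ) [HasCoproduct (fun i : ℕ => (shiftFunctor C (2 * n * (i : ℤ))).obj L)] :
    KZero.clTri L = 0 := by
  classical
  have hrel : ∀ X : Triangle C, X ∈ distinguishedTriangles →
      KZero.clTri X.obj₂ = KZero.clTri X.obj₁ + KZero.clTri X.obj₃ := by
    intro X hX
    have : QuotientAddGroup.mk' (KZero.relTr (⊤ : ObjectProperty C))
        (FreeAbelianGroup.of (⟨X.obj₂, trivial⟩ : Subtype (⊤ : ObjectProperty C)) -
          FreeAbelianGroup.of ⟨X.obj₁, trivial⟩ - FreeAbelianGroup.of ⟨X.obj₃, trivial⟩) = 0 :=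
      (QuotientAddGroup.eq_zero_iff _).mpr
        (AddSubgroup.subset_closure ⟨X, trivial, trivial, trivial, hX, rfl⟩)
    rw [map_sub, map_sub, sub_sub, sub_eq_zero] at this
    exact this
  have h0 : KZero.clTri (0 : C) = 0 := by
    simpa using hrel _ (contractible_distinguished (0 : C))
  have hiso : ∀ {X Y : C}, (X ≅ Y) → KZero.clTri X = KZero.clTri Y := by
    intro X Y e
    have hd : Triangle.mk e.hom (0 : Y ⟶ 0) (0 : (0 : C) ⟶ X⟦(1 : ℤ)⟧) ∈ distinguishedTriangles :=
      isomorphic_distinguished _ (contractible_distinguished X) _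
        (Triangle.isoMk _ _ (Iso.refl _) e.symm (Iso.refl _) (e.hom_inv_id.trans (Category.id_comp _).symm) (zero_comp.trans comp_zero.symm) (zero_comp.trans comp_zero.symm))
    simpa [h0] using (hrel _ hd).symm
  have hone : ∀ X : C, KZero.clTri (X⟦(1 : ℤ)⟧) = -KZero.clTri X := by
    intro X
    have h := hrel _ (rot_of_distTriang _ (contractible_distinguished X))
    simp [h0, Triangle.rotate] at h
    exact eq_neg_of_add_eq_zero_right h.symm
  have htwo : ∀ (X : C) (a : ℤ), KZero.clTri (X⟦a + 2⟧) = KZero.clTri (X⟦a⟧) := by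
    intro X a
    rw [hiso ((shiftFunctorAdd' C (a + 1) 1 (a + 2) (by omega)).app X)]
    show KZero.clTri ((X⟦a + 1⟧)⟦(1 : ℤ)⟧) = _
    rw [hone, hiso ((shiftFunctorAdd' C a 1 (a + 1) rfl).app X)]
    show -KZero.clTri ((X⟦a⟧)⟦(1 : ℤ)⟧) = _
    rw [hone, neg_neg]
  have heven : ∀ (X : C) (m : ℤ), KZero.clTri (X⟦2 * m⟧) = KZero.clTri X := by
    intro X m
    induction m with
    | zero => exact hiso ((eqToIso (by simp)) ≪≫ (shiftFunctorZero C ℤ).app X)
    | succ i hi => rw [mul_add, mul_one, htwo, hi]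
    | pred i hi =>
      rw [← htwo, ← hi]
      congr 2
      congr 1
      ring
  let f : ℕ → C := fun i => (shiftFunctor C (2 * n * (i : ℤ))).obj L
  let e0 : f 0 ≅ L := eqToIso (by simp [f]) ≪≫ (shiftFunctorZero C ℤ).app L
  let es : ∀ i : ℕ, f (i + 1) ≅ (f i)⟦2 * n⟧ := fun i =>
    (shiftFunctorAdd' C (2 * n * (i : ℤ)) (2 * n) (2 * n * ((i + 1 : ℕ) : ℤ)) (by push_cast; ring)).app L
  let hT := Limits.isColimitCofanMkObjOfIsColimit (shiftFunctor C (2 * n)) f
    (fun i => Sigma.ι f i) (coproductIsCoproduct f)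
  let Φ : (∐ f) ⟶ L ⊞ (∐ f)⟦2 * n⟧ := Sigma.desc fun i => match i with
    | 0 => e0.hom ≫ biprod.inl
    | i + 1 => (es i).hom ≫ (shiftFunctor C (2 * n)).map (Sigma.ι f i) ≫ biprod.inr
  let t : (∐ f)⟦2 * n⟧ ⟶ ∐ f := Cofan.IsColimit.desc hT fun i => (es i).inv ≫ Sigma.ι f (i + 1)
  let Ψ : L ⊞ (∐ f)⟦2 * n⟧ ⟶ ∐ f := biprod.desc (e0.inv ≫ Sigma.ι f 0) t
  have ht : ∀ i, (shiftFunctor C (2 * n)).map (Sigma.ι f i) ≫ t = (es i).inv ≫ Sigma.ι f (i + 1) :=
    fun i => Cofan.IsColimit.fac hT _ i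
  have e : (∐ f) ≅ L ⊞ (∐ f)⟦2 * n⟧ :=
    { hom := Φ
      inv := Ψ
      hom_inv_id := Sigma.hom_ext _ _ fun i => by
        cases i with
        | zero => simp [Φ, Ψ]
        | succ i => simp [Φ, Ψ, ht]
      inv_hom_id := biprod.hom_ext' _ _ (by simp [Φ, Ψ]) (by
        simp only [Ψ, biprod.inr_desc_assoc, Category.comp_id]
        refine Cofan.IsColimit.hom_ext hT _ _ fun i => ?_
        show (shiftFunctor C (2 * n)).map (Sigma.ι f i) ≫ t ≫ Φ =
          (shiftFunctor C (2 * n)).map (Sigma.ι f i) ≫ biprod.inr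
        rw [← Category.assoc, ht]
        simp [Φ]) }
  have h := hrel _ (binaryBiproductTriangle_distinguished L ((∐ f)⟦2 * n⟧))
  simp only [binaryBiproductTriangle_obj₁, binaryBiproductTriangle_obj₂, binaryBiproductTriangle_obj₃] at h
  rw [← hiso e, heven] at h
  simpa using h.symm

end Groth.Agent.S5613
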