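import Groth.Statements.S5614


set_option autoImplicit false
universe v u
open CategoryTheory CategoryTheory.Limits CategoryTheory.Pretriangulated
open KZero

namespace Groth.Agent.S5614

/-- Let C be a pretriangulated category and S a dense set of objects, meaning that every set of objects
which contains S and which contains the third vertex of a distinguished triangle as soon as it
contains the other two is all of C. Then K₀(C) is generated by the classes of the objects of S. -/
theorem result {C : Type u} [Category.{v} C] [Preadditive C] [HasZeroObject C]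
    [HasShift C ℤ] [∀ n : ℤ, (shiftFunctor C n).Additive] [Pretriangulated C]
    (S : Set C)
    (hdense : ∀ T : Set C, S ⊆ T →
      (∀ tr : Triangle C, tr ∈ distinguishedTriangles →
        (tr.obj₁ ∈ T → tr.obj₂ ∈ T → tr.obj₃ ∈ T) ∧ (tr.obj₁ ∈ T → tr.obj₃ ∈ T → tr.obj₂ ∈ T) ∧
          (tr.obj₂ ∈ T → tr.obj₃ ∈ T → tr.obj₁ ∈ T)) → T = Set.univ) :
    AddSubgroup.closure (KZero.clTri '' S) = (⊤ : AddSubgroup (KZero.K0tri C)) := by
  set H := AddSubgroup.closure (KZero.clTri '' S)
  have hT : {X : C | KZero.clTri X ∈ H} = Set.univ := by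
    refine hdense _ (fun X hX => AddSubgroup.subset_closure ⟨X, hX, rfl⟩) fun X hX => ?_
    have hrel : KZero.clTri X.obj₂ = KZero.clTri X.obj₁ + KZero.clTri X.obj₃ := by
      have : QuotientAddGroup.mk' (KZero.relTr (⊤ : ObjectProperty C))
          (FreeAbelianGroup.of (⟨X.obj₂, trivial⟩ : Subtype (⊤ : ObjectProperty C)) -
            FreeAbelianGroup.of ⟨X.obj₁, trivial⟩ - FreeAbelianGroup.of ⟨X.obj₃, trivial⟩) = 0 :=
        (QuotientAddGroup.eq_zero_iff _).mpr
          (AddSubgroup.subset_closure ⟨X, trivial, trivial, trivial, hX, rfl⟩)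
      rw [map_sub, map_sub, sub_sub, sub_eq_zero] at this
      exact this
    refine ⟨fun h1 h2 => ?_, fun h1 h3 => ?_, fun h2 h3 => ?_⟩
    · show KZero.clTri X.obj₃ ∈ H
      rw [show KZero.clTri X.obj₃ = KZero.clTri X.obj₂ - KZero.clTri X.obj₁ by rw [hrel]; abel]
      exact sub_mem h2 h1
    · show KZero.clTri X.obj₂ ∈ H
      rw [hrel]
      exact add_mem h1 h3
    · show KZero.clTri X.obj₁ ∈ H
      rw [show KZero.clTri X.obj₁ = KZero.clTri X.obj₂ - KZero.clTri X.obj₃ by rw [hrel]; abel]
      exact sub_mem h2 h3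
  rw [eq_top_iff]
  rintro z -
  obtain ⟨w, rfl⟩ := QuotientAddGroup.mk_surjective z
  induction w using FreeAbelianGroup.induction_on with
  | zero => exact zero_mem _
  | of X => exact (Set.eq_univ_iff_forall.mp hT X.1 : KZero.clTri X.1 ∈ H)
  | neg X h => exact neg_mem h
  | add x y hx hy => exact add_mem hx hy

end Groth.Agent.S5614
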