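import Groth.Statements.S5616
import Groth.Agent.H16Derived.Efface
import Mathlib.Algebra.Homology.DerivedCategory.Ext.Map

set_option autoImplicit false
universe w w' v v' u u'
open CategoryTheory CategoryTheory.Limits
open CohDer

namespace Groth.Agent.S5616

/-- Let φ : A ⥤ B be an exact functor of abelian categories and M an object of A. The following are
equivalent: (i) for every L in A and every n, the map Ext^n_A(L, M) → Ext^n_B(φ L, φ M) induced by φ
is bijective; (ii) for every L the map Hom_A(L, M) → Hom_B(φ L, φ M) is bijective, and for every L,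
every n ≥ 1 and every x ∈ Ext^n_B(φ L, φ M) there is an epimorphism L' ⟶ L of A such that x
precomposed with its image under φ vanishes. -/
theorem result
    {A : Type u} [Category.{v} A] [Abelian A] [HasExt.{w} A]
    {B : Type u'} [Category.{v'} B] [Abelian B] [HasExt.{w'} B]
    (φ : A ⥤ B) [φ.Additive] [PreservesFiniteLimits φ] [PreservesFiniteColimits φ] (M : A) :
    (∀ (L : A) (n : ℕ), Function.Bijective (fun f : Abelian.Ext.{w} L M n => Abelian.Ext.mapExactFunctor φ f)) ↔
      ((∀ L : A, Function.Bijective (fun f : L ⟶ M => φ.map f)) ∧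
        ∀ (L : A) (n : ℕ), 1 ≤ n → ∀ x : Abelian.Ext.{w'} (φ.obj L) (φ.obj M) n,
          ∃ (L' : A) (p : L' ⟶ L), Epi p ∧ (Abelian.Ext.mk₀ (φ.map p)).comp x (zero_add n) = 0) := by
  constructor
  · intro h
    have h0 : ∀ L : A, Function.Bijective (fun f : L ⟶ M => φ.map f) := by
      intro L
      have h' := h L 0
      rw [Abelian.Ext.mapExactFunctor₀] at h'
      constructor
      · intro f g hfg
        apply Abelian.Ext.homEquiv₀.symm.injective
        apply h'.injective
        simp only [Function.comp, Equiv.apply_symm_apply]
        exact congrArg _ hfg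
      · intro g
        obtain ⟨x, hx⟩ := h'.surjective (Abelian.Ext.homEquiv₀.symm g)
        exact ⟨Abelian.Ext.homEquiv₀ x, Abelian.Ext.homEquiv₀.symm.injective hx⟩
    refine ⟨h0, fun L n hn x => ?_⟩
    obtain ⟨y, rfl⟩ := (h L n).surjective x
    obtain ⟨L', p, hp, hpy⟩ := Groth.Agent.H16Derived.ext_exists_epi_comp_eq_zero (by lia) y
    refine ⟨L', p, hp, ?_⟩
    dsimp only
    rw [← Abelian.Ext.mapExactFunctor_mk₀, ← Abelian.Ext.mapExactFunctor_comp, hpy,
      Abelian.Ext.mapExactFunctor_zero]
  · rintro ⟨h0, heff⟩ L n
    induction n generalizing L with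
    | zero =>
      rw [Abelian.Ext.mapExactFunctor₀]
      exact Abelian.Ext.homEquiv₀.symm.bijective.comp ((h0 L).comp Abelian.Ext.homEquiv₀.bijective)
    | succ n ih =>
      constructor
      · have hi : ∀ y : Abelian.Ext.{w} L M (n + 1), y.mapExactFunctor φ = 0 → y = 0 := by
          intro y hy
          obtain ⟨L', p, hp, hpy⟩ := Groth.Agent.H16Derived.ext_exists_epi_comp_eq_zero (by lia) y
          let S := ShortComplex.mk _ _ (kernel.condition p)
          have hS : S.ShortExact := { exact := ShortComplex.exact_kernel p }
          obtain ⟨z, hz⟩ := Abelian.Ext.contravariant_sequence_exact₃ hS M y hpy (n₀ := n)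
            (add_comm 1 n)
          have h2 : (hS.map_of_exact φ).extClass.comp (z.mapExactFunctor φ) (add_comm 1 n) = 0 := by
            have h1 := congrArg (fun t => Abelian.Ext.mapExactFunctor φ t) hz
            skip
            rw [Abelian.Ext.mapExactFunctor_comp, Abelian.Ext.mapExactFunctor_extClass, hy] at h1
            exact h1
          obtain ⟨w, hw⟩ := Abelian.Ext.contravariant_sequence_exact₁ (hS.map_of_exact φ)
            (φ.obj M) _ (add_comm 1 n) h2
          obtain ⟨w', rfl⟩ := (ih L').surjective w
          have h3 : (Abelian.Ext.mk₀ S.f).comp w' (zero_add n) = z := by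
            apply (ih _).injective
            dsimp only
            rw [Abelian.Ext.mapExactFunctor_comp, Abelian.Ext.mapExactFunctor_mk₀]
            exact hw
          rw [← hz, ← h3, ← Abelian.Ext.comp_assoc_of_second_deg_zero,
            hS.extClass_comp, Abelian.Ext.zero_comp]
        intro y y' hyy
        rw [← sub_eq_zero]
        apply hi
        rw [← Functor.mapExtAddHom_apply, map_sub, sub_eq_zero]
        exact hyy
      · intro x
        obtain ⟨L', p, hp, hpx⟩ := heff L (n + 1) (by lia) x
        let S := ShortComplex.mk _ _ (kernel.condition p)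
        have hS : S.ShortExact := { exact := ShortComplex.exact_kernel p }
        obtain ⟨z, hz⟩ := Abelian.Ext.contravariant_sequence_exact₃ (hS.map_of_exact φ) (φ.obj M) x
          hpx (n₀ := n) (add_comm 1 n)
        obtain ⟨z', rfl⟩ := (ih S.X₁).surjective z
        refine ⟨hS.extClass.comp z' (add_comm 1 n), ?_⟩
        dsimp only
        rw [Abelian.Ext.mapExactFunctor_comp, Abelian.Ext.mapExactFunctor_extClass]
        exact hz

end Groth.Agent.S5616
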