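import Groth.Statements.S5618
import Groth.Agent.H02CA.PC.Tower

set_option autoImplicit false
universe w v u
open CategoryTheory CategoryTheory.Limits
open PCoh

namespace Groth.Agent.S5618
open CategoryTheory.Category CategoryTheory.Pretriangulated Groth.Agent.H02CA.PC

/-- Second assertion (punctual site): let C be an abelian category and C₀ a strictly full additive
subcategory, quasi-stable under kernels of epimorphisms and quasi-liftable. If F ∈ D(C) is
pseudo-coherent and acyclic in degrees ≥ m, then F is isomorphic in D(C) to a strictly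
pseudo-coherent complex E (all terms in C₀) with E^i = 0 for i ≥ m. -/
theorem result {C : Type u} [Category.{v} C] [Abelian C] [HasDerivedCategory.{w} C]
    (P : ObjectProperty C) [P.IsClosedUnderIsomorphisms] [P.ContainsZero] (hsum : ∀ X Y : C, P X → P Y → P (X ⨯ Y))
    (hqs : PCoh.IsQuasiStableUnderKernels P) (hql : PCoh.IsQuasiLiftable P)
    (m : ℤ) (F : DerivedCategory C) (hF : PCoh.IsPC P F)
    (hac : ∀ i : ℤ, m ≤ i → IsZero ((DerivedCategory.homologyFunctor C i).obj F)) :
    ∃ E : CochainComplex C ℤ, (∀ i : ℤ, P (E.X i)) ∧ (∀ i : ℤ, m ≤ i → IsZero (E.X i)) ∧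
      Nonempty (DerivedCategory.Q.obj E ≅ F) := by
  obtain ⟨F₀, ⟨e⟩⟩ := exists_rep F
  obtain ⟨E, s, hE, hs, hz⟩ := resolveAll hsum hqs hql m (fun k => DPC.of_iso (hF k) e.symm)
    fun i hi => isZero_homology_rep e i (hac i hi)
  haveI := hs
  exact ⟨E, hE.2, hz, ⟨asIso (DerivedCategory.Q.map s) ≪≫ e⟩⟩

end Groth.Agent.S5618
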