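import Groth.Statements.S5625
import Groth.Agent.H17.QCohCat.Groth
import Groth.Agent.H10Coh.QcqsPush
import Groth.Agent.H29Fitt.PullbackQCoh
-- import your own Groth.Agent.* helpers here

set_option autoImplicit false
universe u
open CategoryTheory AlgebraicGeometry
open QCohCat

namespace Groth.Agent.S5625

/-- Let f : X ⟶ Y be a morphism of quasi-compact quasi-separated schemes and Q_X, Q_Y coherators (right
adjoints of the inclusions QCoh ⥤ Mod) on X and Y. Then Q_Y ∘ f_* and f_* ∘ Q_X agree: the two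
composite functors Mod(O_X) ⥤ Mod(O_Y) are naturally isomorphic (existence of a natural isomorphism;
the source's isomorphism is the canonical one between two right adjoints of the same functor). -/
theorem result {X Y : Scheme.{u}} [CompactSpace X] [QuasiSeparatedSpace X]
    [CompactSpace Y] [QuasiSeparatedSpace Y] (f : X ⟶ Y)
    (QX : X.Modules ⥤ QCohCat.QCoh X) (adjX : (QCohCat.isQCoh X).ι ⊣ QX)
    (QY : Y.Modules ⥤ QCohCat.QCoh Y) (adjY : (QCohCat.isQCoh Y).ι ⊣ QY) :
    Nonempty ((QX ⋙ (QCohCat.isQCoh X).ι ⋙ Scheme.Modules.pushforward f) ≅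
      (Scheme.Modules.pushforward f ⋙ QY ⋙ (QCohCat.isQCoh Y).ι)) := by
  haveI : QuasiCompact f := inferInstance
  haveI : QuasiSeparated f := inferInstance
  let P : QCohCat.QCoh Y ⥤ QCohCat.QCoh X := (QCohCat.isQCoh X).lift ((QCohCat.isQCoh Y).ι ⋙ Scheme.Modules.pullback f)
    (fun M => Groth.Agent.H29Fitt.isQCoh_pullback f M.obj M.property)
  let Q : QCohCat.QCoh X ⥤ QCohCat.QCoh Y := (QCohCat.isQCoh Y).lift ((QCohCat.isQCoh X).ι ⋙ Scheme.Modules.pushforward f)
    (fun M => @Groth.Agent.H10Coh.isQuasicoherent_pushforward _ _ f _ _ M.obj M.property)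
  have adjP : P ⊣ Q :=
    Adjunction.restrictFullyFaithful (Scheme.Modules.pullbackPushforwardAdjunction f)
      ((QCohCat.isQCoh Y).fullyFaithfulι) ((QCohCat.isQCoh X).fullyFaithfulι)
      (Iso.refl _) (Iso.refl _)
  have a1 : P ⋙ (QCohCat.isQCoh X).ι ⊣ QX ⋙ Q := adjP.comp adjX
  have a2 : P ⋙ (QCohCat.isQCoh X).ι ⊣ Scheme.Modules.pushforward f ⋙ QY :=
    (adjY.comp (Scheme.Modules.pullbackPushforwardAdjunction f)).ofNatIsoLeft (Iso.refl _)
  exact ⟨Functor.isoWhiskerRight (a1.rightAdjointUniq a2) (QCohCat.isQCoh Y).ι⟩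

end Groth.Agent.S5625
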