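import Groth.Statements.S5630
import Groth.Agent.H16Derived.TorTest.RpushAmpLoc
import Groth.Agent.H16Derived.TorTest.AbsStalk

set_option autoImplicit false
universe u
open CategoryTheory CategoryTheory.Limits AlgebraicGeometry
attribute [local instance] HasDerivedCategory.standard
open KSix

namespace Groth.Agent.S5630

open Groth.Agent.H16Derived

/-- Over the base S = Y and for f flat: let f : X ⟶ Y be flat, quasi-compact and quasi-separated with Y
quasi-compact, and let N be an integer such that R^i f_* F = 0 for all i > N and all quasi-coherent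
O_X-modules F. If E ∈ D^b(O_X) has quasi-coherent cohomology and flat amplitude in [a, b] relative
to Y (represented by a complex of Y-flat modules placed in [a, b]), then Rf_* E has tor amplitude in
[a, b + N] on Y. (The source allows any S-morphism f and tor amplitude relative to S; the relative
notion used here is the flat-representative one, adequate for flat f.) -/
theorem result {X Y : Scheme.{u}} (f : X ⟶ Y) [Flat f] [QuasiCompact f] [QuasiSeparated f]
    [CompactSpace Y] [DCoh.HasRpush f] (N : ℕ)
    (hN : ∀ (F : X.Modules), QCohCat.isQCoh X F →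
      ∀ i : ℤ, (N : ℤ) < i → IsZero (DCoh.HD ((DCoh.Rpush f).obj (DCoh.inD X F)) i))
    (E : DCoh.D X) (hqc : DCoh.IsQCohD E) (c d : ℤ) [E.IsGE c] [E.IsLE d]
    (a b : ℤ) (hE : DCoh.HasRelFlatAmplitudeIn f a b E) :
    DCoh.HasTorAmplitudeIn a (b + N) ((DCoh.Rpush f).obj E) := by
  obtain ⟨F, hv, hf, ⟨e⟩⟩ := hE
  have hqc' : DCoh.IsQCohD (DCoh.toD X F) := QCohD.isQCohD_iso e.symm hqc
  obtain ⟨K, -, -, ⟨eK⟩⟩ := Dual.exists_rep ((DCoh.Rpush f).obj (DCoh.toD X F))
  have h := TorTest.hasTorAmplitudeD_rpush_bound f (𝟙 Y) f F (Category.comp_id f) hqc' N hN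
    (TorTest.hasTorAmplitude_of_flat f hv hf) K ⟨eK⟩
  exact KFlat.Stalk.hasTorAmplitudeIn_of_iso ((DCoh.Rpush f).mapIso e.symm ≪≫ eK.symm)
    (TorTest.hasTorAmplitudeIn_of_stalk h)

end Groth.Agent.S5630
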