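import Groth.Statements.S5632
import Groth.Agent.H12Pic.TwistOn
import Groth.Agent.H28Int.Surface
import Groth.Agent.H28Int.Positive
import Groth.Agent.H17.InvertibleTensor

set_option autoImplicit false
set_option linter.style.haveILetI false
universe u
open CategoryTheory CategoryTheory.Limits AlgebraicGeometry
open Pic13

namespace Groth.Agent.S5632

/-- Let k be an algebraically closed field, X ⊆ P^n_k an integral closed subscheme of dimension r = s +
1 ≥ 1, with O_X(1) and O_X(-1) the restrictions of O(1) and O(-1). Let L be an invertible O_X-module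
with inverse L' (L ⊗ L' ≅ O_X) whose degree (c₁(L)·c₁(O_X(1))^{r-1}) is ≤ 0 and with H^0(X, L) ≠ 0.
Then L ≅ O_X (so that its degree is 0 and h^0(L) = 1). Intersection numbers are those of FGA.intNum,
which takes the inverse modules L', O_X(-1) as arguments. -/
theorem result (k : Type u) [Field k] [IsAlgClosed k] (n : ℕ) (X : Scheme.{u}) [X.Over (Spec (CommRingCat.of k))]
    (i : X ⟶ CohB1.ProjSpace n k) [IsClosedImmersion i] (hi : i ≫ CohB1.ProjSpace.toSpec n k = X ↘ Spec (CommRingCat.of k))
    [IsIntegral X] (s : ℕ) (hdim : topologicalKrullDim X = (s + 1 : ℕ))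
    (L L' : X.Modules) (hL : PicF.IsInvertible L) (hLL' : Nonempty (CohB1.tensorMod L L' ≅ Coh.structureModule X))
    (hdeg : FGA.intNum k X (s + 1)
      (Matrix.vecCons L' (fun _ : Fin s => (Scheme.Modules.pullback i).obj (Twist.twistProjSpace n k (-1))))
      (Coh.structureModule X) ≤ 0)
    (hsec : Nontrivial (Coh.HH X L 0)) :
    Nonempty (L ≅ Coh.structureModule X) := by
  haveI := Groth.Agent.H12Pic.TwistOn.isProper i hi
  obtain ⟨eL⟩ := hLL'
  obtain ⟨eH⟩ := Groth.Agent.H12Pic.TwistOn.inv_one i
  have hH := (Groth.Agent.H12Pic.TwistOn.fam i).inv (-1)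
  have hL' : PicF.IsInvertible L' :=
    Groth.Agent.H17.InvertibleTensor.isInvertible_of_tensor_iso L' L (Groth.Agent.H10Coh.Tw.commIso L' L ≪≫ eL)
  have hd : topologicalKrullDim X ≤ ((s + 1 : ℕ) : WithBot ℕ∞) := hdim.le
  obtain ⟨g, hg⟩ := Groth.Agent.H28Int.Surface.exists_section hsec
  by_cases hne : (closure ({genericPoint X} : Set X) \ (Groth.Agent.H11Ample.gen L g : Set X)).Nonempty
  · exfalso
    obtain ⟨w, -, hwG, hdimw⟩ := Groth.Agent.H28Int.exists_point_cut k hL g
      (Groth.Agent.H28Int.Surface.generic_mem_gen hL hg) hne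
    rw [Groth.Agent.H28Int.Surface.cdim_genericPoint, hdim] at hdimw
    let l := List.replicate s (Groth.Agent.H12Pic.TwistOn.O i (-1))
    have hl : ∀ A ∈ l, PicF.IsInvertible A := fun A hA => (List.eq_of_mem_replicate hA) ▸ hH
    obtain ⟨C, hC, hCd, -, hsC, hDC⟩ := Groth.Agent.H28Int.Surface.exists_zero_locus k hl
      (by simpa [l] using hd) hL hL' eL hg
    have hpos := (Groth.Agent.H28Int.pos_of_ample k l (fun A hA => (List.eq_of_mem_replicate hA) ▸
      ⟨_, Groth.Agent.H12Pic.TwistOn.isAmple_one i, ⟨eH⟩⟩) C hC hCd).2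
        ⟨w, hsC w hwG, by
          simp only [l, List.length_replicate]
          exact Groth.Agent.H28Int.le_of_add_one_le hdimw.le⟩
    rw [← hDC] at hpos
    refine absurd hdeg (not_le.2 ?_)
    rw [Groth.Agent.H28Int.intNum_eq k hd _ (fun j => ?_) (Groth.Agent.H28Int.Surface.isCoh_structure k)]
    swap
    · cases j using Fin.cases with
      | zero => exact hL'
      | succ j => exact hH
    rw [List.ofFn_succ]
    simpa [Matrix.cons_val_zero, Matrix.cons_val_succ, List.ofFn_const] using hpos
  · have htop : Groth.Agent.H11Ample.gen L g = ⊤ := TopologicalSpace.Opens.ext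
      (Set.eq_univ_of_forall fun x => by_contra fun hx => hne ⟨x, by rw [genericPoint_spec X]; trivial, hx⟩)
    haveI : IsIso (Groth.Agent.H11Tilde.homOfGlobal L g) := by
      refine Groth.Agent.H11Tilde.isIso_homOfGlobal L g fun V => ?_
      have := (Groth.Agent.H11Ample.isGen_gen (L := L) g).bijective
        (show V ≤ Groth.Agent.H11Ample.gen L g from htop ▸ le_top)
      refine Eq.mpr (congrArg Function.Bijective (funext fun r => ?_)) this
      rw [Groth.Agent.H10Coh.mres_mres]
    exact ⟨(asIso (Groth.Agent.H11Tilde.homOfGlobal L g)).symm⟩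

end Groth.Agent.S5632
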