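import Groth.Statements.S5636
import Groth.Agent.H12Pic.FinKer.Pieces
import Groth.Agent.H12Pic.Bdd.Tau

set_option autoImplicit false
set_option backward.isDefEq.respectTransparency.types false
universe u
open CategoryTheory CategoryTheory.Limits AlgebraicGeometry
open Pic13

namespace Groth.Agent.S5636

/-- Let k be an algebraically closed field, Y an integral normal proper k-scheme of dimension ≥ 3 with
an ample invertible module H, φ a global section of H and X ⊆ Y its zero scheme. Then only finitely
many isomorphism classes of invertible O_Y-modules become trivial on X: the kernel of Pic(Y) →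
Pic(X) is finite. (The published statement asserts that the kernel of the morphism of Picard schemes
is a finite group scheme and assumes Y only normal; this row states the consequence on k-points and
takes Y integral: for the disjoint union of a normal threefold and a curve of positive genus the
kernel is infinite.) -/
theorem result (k : Type u) [Field k] [IsAlgClosed k] (Y : Scheme.{u}) [Y.Over (Spec (CommRingCat.of k))]
    [IsProper (Y ↘ Spec (CommRingCat.of k))] [IsIntegral Y] (hnor : Pi1.IsNormalScheme Y) (hdim : 3 ≤ topologicalKrullDim Y)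
    (H : Y.Modules) (hH : CohB1.IsAmple H) (φ : Coh.structureModule Y ⟶ H) :
    Set.Finite {c : PicF.Cl Y | PicF.IsInvertibleCl c ∧
      PicF.IsTrivialCl (PicF.pullCl (PicF2.zeroScheme H φ).subschemeι c)} := by
  haveI := H28Int.isNoetherian k (X := Y)
  by_cases h0 : φ = 0
  · exact (H12Pic.FinKer.finite_of_eq_zero hH.1 φ h0).subset fun c hc => hc.2
  haveI := (H29RR.mono_of_ne_zero (X := Y) H11Ample.isInvertible_structureModule hH.1 h0).1
  have hd2 : (2 : WithBot ℕ∞) ≤ topologicalKrullDim Y := le_trans (by decide) hdim
  refine (H12Pic.FinKer.finite_classes hnor hd2 hH φ (H12Pic.Bdd.isBounded_nt_proper k Y)).subset ?_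
  rintro _ ⟨⟨L, rfl, hL⟩, htr⟩
  refine ⟨L, rfl, hL, ⟨hL, ?_⟩, htr⟩
  refine S5633.result k Y H hH φ
    (H12Pic.FinKer.two_le_component (Y ↘ Spec (CommRingCat.of k)) hdim hH.1 φ) L hL ?_
  letI : (PicF2.zeroScheme H φ).subscheme.Over (Spec (CommRingCat.of k)) :=
    ⟨(PicF2.zeroScheme H φ).subschemeι ≫ (Y ↘ Spec (CommRingCat.of k))⟩
  haveI : IsProper ((PicF2.zeroScheme H φ).subscheme ↘ Spec (CommRingCat.of k)) :=
    inferInstanceAs (IsProper ((PicF2.zeroScheme H φ).subschemeι ≫ _))
  obtain ⟨e⟩ := H12Pic.Sep.iso_of_cl_eq htr
  exact ((H12Pic.NumTriv.NT.structure_module k).congr k e.symm).2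

end Groth.Agent.S5636
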