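import Groth.Statements.S5637
import Groth.Agent.H12Pic.FinKer.Pieces
import Groth.Agent.H12Pic.Bdd.Tau

set_option autoImplicit false
set_option backward.isDefEq.respectTransparency.types false
universe u
open CategoryTheory CategoryTheory.Limits AlgebraicGeometry
open Pic13

namespace Groth.Agent.S5637

/-- Let k be an algebraically closed field, Y an integral normal proper k-scheme of dimension ≥ 2 with
an ample invertible module H, φ a global section of H and X ⊆ Y its zero scheme. Then among the
invertible O_Y-modules which are τ-equivalent to zero (some positive tensor power algebraically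
equivalent to zero), only finitely many isomorphism classes become trivial on X. (The published
statement asserts that the kernel of the morphism of the τ-parts of the Picard schemes is a finite
group scheme and assumes Y only normal; this row states the consequence on k-points and takes Y
integral: for the disjoint union of a normal surface and a curve of positive genus the kernel is
infinite.) -/
theorem result (k : Type u) [Field k] [IsAlgClosed k] (Y : Scheme.{u}) [Y.Over (Spec (CommRingCat.of k))]
    [IsProper (Y ↘ Spec (CommRingCat.of k))] [IsIntegral Y] (hnor : Pi1.IsNormalScheme Y) (hdim : 2 ≤ topologicalKrullDim Y)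
    (H : Y.Modules) (hH : CohB1.IsAmple H) (φ : Coh.structureModule Y ⟶ H) :
    Set.Finite {c : PicF.Cl Y | ∃ L : Y.Modules, PicF.cl L = c ∧ PicF.IsInvertible L ∧ Pic13.IsTauEquivZero k Y L ∧
      PicF.IsTrivialCl (PicF.pullCl (PicF2.zeroScheme H φ).subschemeι c)} := by
  haveI := H28Int.isNoetherian k (X := Y)
  by_cases h0 : φ = 0
  · refine (H12Pic.FinKer.finite_of_eq_zero hH.1 φ h0).subset fun c hc => ?_
    obtain ⟨L, -, -, -, htr⟩ := hc
    exact htr
  haveI := (H29RR.mono_of_ne_zero (X := Y) H11Ample.isInvertible_structureModule hH.1 h0).1
  refine (H12Pic.FinKer.finite_classes hnor hdim hH φ (H12Pic.Bdd.isBounded_nt_proper k Y)).subset ?_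
  rintro _ ⟨L, rfl, hL, htau, htr⟩
  exact ⟨L, rfl, hL, H12Pic.Bdd.nt_of_tau k hL htau, htr⟩

end Groth.Agent.S5637
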