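import Groth.Statements.S5643
import Groth.Agent.H3CAlg.PrimeMod
import Groth.Agent.H27KZero.Devissage
import Groth.Agent.H16Derived.GTheory.Closed
import Groth.Agent.H24FSch.ModSysPush

set_option autoImplicit false
universe u
open CategoryTheory CategoryTheory.Limits AlgebraicGeometry
open Classical
open SGA6

namespace Groth.Agent.S5643

open Groth.Agent.H16Derived.GTheory

theorem support_closureStructureSheaf {X : Scheme.{u}} (x : X) :
    CohB1.support (Cyc.closureStructureSheaf x) ⊆ closure ({x} : Set X) := fun y hy => by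
  rw [← specializes_iff_mem_closure]
  exact Groth.Agent.H3CAlg.PrimeMod.specializes_of_nontrivial x y (not_subsingleton_iff_nontrivial.1 hy)

theorem dim_mono {X : Scheme.{u}} {A B : Set X} (h : A ⊆ B) :
    topologicalKrullDim ↥A ≤ topologicalKrullDim ↥B :=
  (Topology.IsEmbedding.inclusion h).isInducing.topologicalKrullDim_le

/-- Let X be a Noetherian scheme and K the Grothendieck group of coherent O_X-modules. For every n, the
subgroup of K generated by the classes of coherent modules whose support has dimension ≤ n coincides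
with the subgroup generated by the classes [O_Z] of the structure sheaves (as O_X-modules) of the
integral closed subschemes Z ⊆ X of dimension ≤ n, Z running over the reduced closures of points of
X. -/
theorem result (X : Scheme.{u}) [IsNoetherian X] (n : ℕ) :
    AddSubgroup.closure {c : KZero.K0sub (fun M : X.Modules => Coh.IsCoh M) |
        ∃ G : X.Modules, Coh.IsCoh G ∧ topologicalKrullDim ↥(CohB1.support G) ≤ n ∧ c = KZero.clSub (fun M : X.Modules => Coh.IsCoh M) G} =
      AddSubgroup.closure {c : KZero.K0sub (fun M : X.Modules => Coh.IsCoh M) |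
        ∃ x : ↥X, topologicalKrullDim ↥(closure ({x} : Set ↥X)) ≤ n ∧ c = KZero.clSub (fun M : X.Modules => Coh.IsCoh M) (Cyc.closureStructureSheaf x)} := by
  classical
  let P : ObjectProperty X.Modules := fun M => Coh.IsCoh M
  have hcoh : ∀ x : X, Coh.IsCoh (Cyc.closureStructureSheaf x) := fun x =>
    Groth.Agent.H24FSch.isCoh_pushforward_of_isClosedImmersion _ (Groth.Agent.H10Coh.isCoh_structureModule' _)
  refine le_antisymm ((AddSubgroup.closure_le _).2 ?_) (AddSubgroup.closure_mono ?_)
  · rintro c ⟨G, hG, hd, rfl⟩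
    let Y' := CohB1.support G
    let P' : ObjectProperty X.Modules := fun M => Coh.IsCoh M ∧ CohB1.support M ⊆ Y'
    obtain ⟨φ, hφ⟩ := exists_lift_isAdd (P := P') (KZero.clSub P)
      (fun S hS a b d => clSub_isAdd (P := P) S hS a.1 b.1 d.1)
    let F : {x : X // closure ({x} : Set X) ⊆ Y'} → X.Modules := fun x => Cyc.closureStructureSheaf x.1
    have hF : ∀ a, Coh.IsCoh (F a) ∧ CohB1.support (F a) ⊆ Y' :=
      fun a => ⟨hcoh a.1, (support_closureStructureSheaf a.1).trans a.2⟩
    have hgen := Groth.Agent.H27KZero.closure_generic_length_one X Y' F hF fun Z _ _ hZ y hy =>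
      ⟨⟨y, hy ▸ hZ⟩, (support_closureStructureSheaf y).trans hy.le,
        Groth.Agent.H3CAlg.PrimeMod.length_self y⟩
    have h : φ (KZero.clSub P' G) ∈ AddSubgroup.map φ (AddSubgroup.closure (Set.range fun a => KZero.clSub P' (F a))) :=
      AddSubgroup.mem_map_of_mem φ (hgen.ge (AddSubgroup.mem_top _))
    rw [hφ G ⟨hG, subset_rfl⟩, AddMonoidHom.map_closure, ← Set.range_comp] at h
    refine AddSubgroup.closure_mono ?_ h
    rintro _ ⟨a, rfl⟩
    exact ⟨a.1, (dim_mono a.2).trans hd, hφ _ (hF a)⟩
  · rintro c ⟨x, hx, rfl⟩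
    exact ⟨_, hcoh x, (dim_mono (support_closureStructureSheaf x)).trans hx, rfl⟩

end Groth.Agent.S5643
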