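import Groth.Statements.S5642
import Groth.Agent.S5643
import Groth.Agent.H17.Dim
import Groth.Agent.H22Alg.CohSupport
import Groth.Agent.H10Coh.Support

set_option autoImplicit false
universe u
open CategoryTheory CategoryTheory.Limits AlgebraicGeometry
open Classical
open SGA6

namespace Groth.Agent.S5642

open Groth.Agent.H16Derived.GTheory TopologicalSpace Topology
set_option backward.isDefEq.respectTransparency false

/-- A proper specialization has smaller closure, if that of the generisation has finite dimension. -/
theorem dim_closure_lt {X : Type*} [TopologicalSpace X] [QuasiSober X] [T0Space X] {x y : X} (h : x ⤳ y) (hne : y ≠ x) {n : ℕ}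
    (hn : topologicalKrullDim ↥(closure ({x} : Set X)) ≤ n) :
    topologicalKrullDim ↥(closure ({y} : Set X)) < n := by
  let A := closure ({y} : Set X)
  let B := closure ({x} : Set X)
  haveI : QuasiSober A := (isClosed_closure (s := ({y} : Set X))).isClosedEmbedding_subtypeVal.quasiSober
  haveI : QuasiSober B := (isClosed_closure (s := ({x} : Set X))).isClosedEmbedding_subtypeVal.quasiSober
  have hAB : A ⊆ B := closure_minimal (Set.singleton_subset_iff.2 (specializes_iff_mem_closure.1 h)) isClosed_closure
  letI : PartialOrder A := specializationOrder A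
  letI : PartialOrder B := specializationOrder B
  have hxA : x ∉ A := fun hx => hne ((specializes_iff_mem_closure.2 hx).antisymm h).eq
  rw [Groth.Agent.H17.topologicalKrullDim_eq_krullDim_specialization] at hn ⊢
  have key : ∀ p : LTSeries A, p.length + 1 ≤ n := fun p => by
    let j : A → B := Set.inclusion hAB
    have hj : StrictMono j := fun a b hab => by
      refine lt_of_le_of_ne ((show b ⤳ a from hab.le).map (continuous_inclusion hAB)) fun e => hab.ne ?_
      exact Subtype.ext (congrArg (fun z : B => z.1) e)
    let top : B := ⟨x, subset_closure rfl⟩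
    have htop : (p.map j hj).last < top := by
      refine lt_of_le_of_ne ((subtype_specializes_iff _ _).2 (specializes_iff_mem_closure.2 (hAB p.last.2)) :
        top ⤳ j p.last) fun e => hxA ?_
      have e' : (p.last : X) = x := congrArg (fun z : B => z.1) e
      rw [← e']
      exact p.last.2
    have := (Order.LTSeries.length_le_krullDim ((p.map j hj).snoc top htop)).trans hn
    simp only [RelSeries.snoc_length, LTSeries.map_length] at this
    exact_mod_cast this
  have hA : Nonempty A := ⟨⟨y, subset_closure rfl⟩⟩
  obtain ⟨k, rfl⟩ : ∃ k, n = k + 1 := ⟨n - 1, by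
    have := key (RelSeries.singleton _ (⟨y, subset_closure rfl⟩ : A)); omega⟩
  refine lt_of_le_of_lt (show Order.krullDim A ≤ (k : WithBot ℕ∞) from iSup_le fun p => ?_) ?_
  · have := key p
    exact_mod_cast (show p.length ≤ k by omega)
  · exact_mod_cast Nat.lt_succ_self k

/-- Let X be a Noetherian scheme, K the Grothendieck group of coherent O_X-modules and Filt_m ⊆ K the
subgroup generated by the classes of coherent modules whose support has dimension ≤ m. Let F be
coherent with dim Supp(F) ≤ n. Then for the points x of X whose closure Z(x) has dimension n the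
stalk F_x has finite length, nonzero for only finitely many such x, and [F] ≡ Σ_x length(F_x)
[O_{Z(x)}] modulo Filt_{n-1}, where O_{Z(x)} is the structure sheaf of the reduced closed subscheme
Z(x) viewed as an O_X-module. -/
theorem result (X : Scheme.{u}) [IsNoetherian X] (n : ℕ) (F : X.Modules) (hF : Coh.IsCoh F)
    (hsupp : topologicalKrullDim ↥(CohB1.support F) ≤ n) :
    KZero.clSub (fun M : X.Modules => Coh.IsCoh M) F -
        (finsum fun x : ↥X => if topologicalKrullDim ↥(closure ({x} : Set ↥X)) = n then
          (Module.length (X.presheaf.stalk x) (F.presheaf.stalk x)).toNat • KZero.clSub (fun M : X.Modules => Coh.IsCoh M) (Cyc.closureStructureSheaf x) else 0) ∈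
      AddSubgroup.closure {c : KZero.K0sub (fun M : X.Modules => Coh.IsCoh M) |
        ∃ G : X.Modules, Coh.IsCoh G ∧ topologicalKrullDim ↥(CohB1.support G) < n ∧ c = KZero.clSub (fun M : X.Modules => Coh.IsCoh M) G} := by
  classical
  let P : ObjectProperty X.Modules := fun M => Coh.IsCoh M
  let Y' := CohB1.support F
  let P' : ObjectProperty X.Modules := fun M => Coh.IsCoh M ∧ CohB1.support M ⊆ Y'
  let O : X → KZero.K0sub P := fun x => KZero.clSub P (Cyc.closureStructureSheaf x)
  let D : X → Prop := fun x => topologicalKrullDim ↥(closure ({x} : Set ↥X)) = n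
  let T : X → X.Modules → KZero.K0sub P := fun x M => if D x then
    (Module.length (X.presheaf.stalk x) (M.presheaf.stalk x)).toNat • O x else 0
  let H : AddSubgroup (KZero.K0sub P) := AddSubgroup.closure {c |
    ∃ G : X.Modules, Coh.IsCoh G ∧ topologicalKrullDim ↥(CohB1.support G) < n ∧ c = KZero.clSub P G}
  change KZero.clSub P F - (∑ᶠ x : X, T x F) ∈ H
  have hY : IsClosed Y' := Groth.Agent.H10Coh.isClosed_support F hF.2
  -- a point of dimension `n` has no proper generisation in the support
  have hmax : ∀ x, D x → ∀ z ∈ Y', z ⤳ x → z = x := fun x hx z hz hzx => by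
    by_contra hne
    have hle : topologicalKrullDim ↥(closure ({z} : Set X)) ≤ n :=
      (Groth.Agent.S5643.dim_mono (closure_minimal (Set.singleton_subset_iff.2 hz) hY)).trans hsupp
    exact (dim_closure_lt hzx (fun e => hne e.symm) hle).ne hx
  have hzero : ∀ (M : X.Modules) (x : X), x ∉ CohB1.support M → T x M = 0 := fun M x hx => by
    have : Subsingleton (M.presheaf.stalk x) := not_not.1 hx
    show (if D x then _ else _) = _
    split_ifs
    · rw [Module.length_eq_zero_iff.2 this]
      simp
    · rfl
  have hfin0 : {x : X | D x ∧ x ∈ Y'}.Finite := by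
    haveI : NoetherianSpace X := inferInstance
    obtain ⟨S, hSf, hSc, hSi, hSU⟩ := NoetherianSpace.exists_finite_set_isClosed_irreducible hY
    refine (hSf.dependent_image fun t ht => (hSi t ht).genericPoint).subset fun x hx => ?_
    obtain ⟨t, ht, hxt⟩ := Set.mem_sUnion.1 (hSU ▸ hx.2 : x ∈ ⋃₀ S)
    refine ⟨t, ht, ?_⟩
    have hg := (hSi t ht).isGenericPoint_genericPoint (hSc t ht)
    exact hmax x hx.1 _ (hSU.ge (Set.mem_sUnion.2 ⟨t, ht, hg.mem⟩)) (hg.specializes hxt)
  have hsub : ∀ M, P' M → Function.support (fun x => T x M) ⊆ {x : X | D x ∧ x ∈ Y'} := fun M hM x hx => by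
    refine ⟨?_, hM.2 ?_⟩
    · by_contra hD
      exact hx (if_neg hD)
    · by_contra hm
      exact hx (hzero M x hm)
  have hlen : ∀ M, P' M → ∀ x, D x → Module.length (X.presheaf.stalk x) (M.presheaf.stalk x) ≠ ⊤ := fun M hM x hx =>
    (Groth.Agent.H22Alg.CohSupport.length_stalk_lt_top M hM.1 x fun z hz hzx => hmax x hx z (hM.2 (not_subsingleton_iff_nontrivial.2 hz)) hzx).ne
  let c : X.Modules → KZero.K0sub P ⧸ H := fun M =>
    QuotientAddGroup.mk' H (KZero.clSub P M - ∑ᶠ x : X, T x M)
  have hc : IsAdd (P' : X.Modules → Prop) c := fun S hS h₁ h₂ h₃ => by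
    show QuotientAddGroup.mk' H _ = QuotientAddGroup.mk' H _ + QuotientAddGroup.mk' H _
    rw [← map_add]
    refine congrArg _ ?_
    have hT : (fun x => T x S.X₂) = fun x => T x S.X₁ + T x S.X₃ := funext fun x => by
      show (if D x then _ else _) = (if D x then _ else _) + if D x then _ else _
      split_ifs with hx
      · have hl := Module.length_eq_add_of_exact _ _ (Groth.Agent.H06Mod.stalk_injective S hS x)
          (Groth.Agent.H06Mod.stalk_surjective S hS x) (Groth.Agent.H06Mod.stalk_exact S hS x)
        rw [hl, ENat.toNat_add (hlen _ h₁ x hx) (hlen _ h₃ x hx), add_smul]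
      · rw [add_zero]
    have h2 := clSub_isAdd (P := P) S hS h₁.1 h₂.1 h₃.1
    rw [show (∑ᶠ x, T x S.X₂) = ∑ᶠ x, (T x S.X₁ + T x S.X₃) from congrArg finsum hT,
      finsum_add_distrib (hfin0.subset (hsub _ h₁)) (hfin0.subset (hsub _ h₃)), h2]
    abel
  obtain ⟨φ, hφ⟩ := exists_lift_isAdd (P := P') c hc
  let E : {x : X // closure ({x} : Set X) ⊆ Y'} → X.Modules := fun x => Cyc.closureStructureSheaf x.1
  have hE : ∀ a, Coh.IsCoh (E a) ∧ CohB1.support (E a) ⊆ Y' := fun a =>
    ⟨Groth.Agent.H24FSch.isCoh_pushforward_of_isClosedImmersion _ (Groth.Agent.H10Coh.isCoh_structureModule' _),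
      (Groth.Agent.S5643.support_closureStructureSheaf a.1).trans a.2⟩
  have hgen := Groth.Agent.H27KZero.closure_generic_length_one X Y' E hE fun Z _ _ hZ y hy =>
    ⟨⟨y, hy ▸ hZ⟩, (Groth.Agent.S5643.support_closureStructureSheaf y).trans hy.le,
      Groth.Agent.H3CAlg.PrimeMod.length_self y⟩
  have hker : ∀ a, φ (KZero.clSub P' (E a)) = 0 := fun a => by
    rw [hφ _ (hE a)]
    refine (QuotientAddGroup.eq_zero_iff _).2 ?_
    have hs := Groth.Agent.S5643.support_closureStructureSheaf a.1
    by_cases ha : D a.1
    · have hT : (∑ᶠ x : X, T x (E a)) = O a.1 := by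
        rw [finsum_eq_single _ a.1 fun x hx => ?_]
        · show (if D a.1 then _ else _) = _
          rw [if_pos ha]
          erw [Groth.Agent.H3CAlg.PrimeMod.length_self a.1]
          simp
        · by_cases hm : x ∈ CohB1.support (E a)
          · refine if_neg fun hD => hx ?_
            exact (hmax x hD a.1 (a.2 (subset_closure rfl)) (specializes_iff_mem_closure.2 (hs hm))).symm
          · exact hzero _ _ hm
      rw [hT, show KZero.clSub P (E a) = O a.1 from rfl, sub_self]
      exact zero_mem _
    · have hd : topologicalKrullDim ↥(closure ({a.1} : Set X)) < n :=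
        lt_of_le_of_ne ((Groth.Agent.S5643.dim_mono a.2).trans hsupp) ha
      have hT : (∑ᶠ x : X, T x (E a)) = 0 := finsum_eq_zero_of_forall_eq_zero fun x => by
        by_cases hm : x ∈ CohB1.support (E a)
        · refine if_neg fun hD => ?_
          exact absurd hD ((Groth.Agent.S5643.dim_mono (closure_minimal (Set.singleton_subset_iff.2 (hs hm))
            isClosed_closure)).trans_lt hd).ne
        · exact hzero _ _ hm
      rw [hT, sub_zero]
      exact AddSubgroup.subset_closure ⟨_, (hE a).1, (Groth.Agent.S5643.dim_mono hs).trans_lt hd, rfl⟩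
  have h0 : φ (KZero.clSub P' F) = 0 :=
    (AddSubgroup.closure_le φ.ker).2 (by rintro _ ⟨a, rfl⟩; exact hker a) (hgen.ge (AddSubgroup.mem_top _))
  rw [hφ F ⟨hF, subset_rfl⟩] at h0
  exact (QuotientAddGroup.eq_zero_iff _).1 h0

end Groth.Agent.S5642
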