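import Groth.Statements.S5644
import Groth.Agent.H28Int.Core
import Groth.Agent.H22Alg.CMField
import Groth.Agent.H11Ample.RelAmple
import Groth.Agent.H11Ample.RelQuasiAffine
import Groth.Agent.H17.InvertibleTensor
import Groth.Agent.S11753

set_option autoImplicit false
set_option linter.style.haveILetI false
universe u
open CategoryTheory CategoryTheory.Limits AlgebraicGeometry
open Pic13

namespace Groth.Agent.S5644

open Groth.Agent

/-- A combination of binomial coefficients vanishing at all large arguments is trivial. -/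
theorem binom_unique : ∀ (r : ℕ) (c : ℕ → ℤ) (m₀ : ℕ),
    (∀ m, m₀ ≤ m → ∑ j ∈ Finset.range r, c j * ((m + j).choose j : ℤ) = 0) → ∀ j < r, c j = 0
  | 0, _, _, _, j, hj => absurd hj (Nat.not_lt_zero j)
  | r + 1, c, m₀, h, j, hj => by
    have h1 : ∀ j < r, c (j + 1) = 0 := binom_unique r (fun j => c (j + 1)) (m₀ + 1) fun m hm => by
      obtain ⟨t, rfl⟩ : ∃ t, m = t + 1 := ⟨m - 1, by omega⟩
      have e := congrArg₂ (· - ·) (h (t + 1) (by omega)) (h t (by omega))
      simp only [sub_self] at e
      rw [Finset.sum_range_succ', Finset.sum_range_succ', Nat.add_zero, Nat.add_zero, Nat.choose_zero_right,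
        Nat.choose_zero_right, add_sub_add_right_eq_sub, ← Finset.sum_sub_distrib] at e
      rw [← e]
      refine Finset.sum_congr rfl fun i _ => ?_
      rw [show t + 1 + (i + 1) = (t + 1 + i) + 1 by ring, Nat.choose_succ_succ',
        show t + (i + 1) = t + 1 + i by ring]
      push_cast
      ring
    cases j with
    | succ i => exact h1 i (by omega)
    | zero =>
      have e := h m₀ le_rfl
      rw [Finset.sum_range_succ', Finset.sum_eq_zero fun i hi => by rw [h1 i (Finset.mem_range.1 hi), zero_mul]] at e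
      simpa using e

/-- Change between the two binomial bases. -/
theorem binom_change (b : ℕ → ℤ) (m : ℕ) : ∀ n : ℕ,
    ∑ i ∈ Finset.range (n + 1), ((m + i - 1).choose i : ℤ) * b i =
      ∑ j ∈ Finset.range n, (b j - b (j + 1)) * ((m + j).choose j : ℤ) + b n * ((m + n).choose n : ℤ)
  | 0 => by simp
  | n + 1 => by
    rw [Finset.sum_range_succ, binom_change b m n, Finset.sum_range_succ,
      show m + (n + 1) - 1 = m + n by omega, show m + (n + 1) = m + n + 1 by omega, Nat.choose_succ_succ']
    push_cast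
    ring

/-- Let k be an algebraically closed field, X ⊆ P^n_k an integral closed subscheme of dimension r = s +
1, O_X(1) and O_X(-1) the restrictions of O(1) and O(-1), and L an invertible O_X-module with
inverse L'. Write the Hilbert polynomials in the binomial basis, χ(L(m)) = Σ_{j ≤ r} a_j C(m+j, j)
and χ(O_X(m)) = Σ_{j ≤ r} e_j C(m+j, j) for m ≥ 0 (Euler characteristics in degrees ≤ r). Then (i)
a_r = e_r = (c₁(O_X(1))^r), the degree of X, and (ii) a_{r-1} - e_{r-1} = (c₁(L)·c₁(O_X(1))^{r-1}),
the degree of L. Intersection numbers are those of FGA.intNum, which takes the inverse modules L',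
O_X(-1) as arguments. -/
theorem result (k : Type u) [Field k] [IsAlgClosed k] (n : ℕ) (X : Scheme.{u}) [X.Over (Spec (CommRingCat.of k))]
    (i : X ⟶ CohB1.ProjSpace n k) [IsClosedImmersion i] (hi : i ≫ CohB1.ProjSpace.toSpec n k = X ↘ Spec (CommRingCat.of k))
    [IsIntegral X] (s : ℕ) (hdim : topologicalKrullDim X = (s + 1 : ℕ))
    (L L' : X.Modules) (hL : PicF.IsInvertible L) (hLL' : Nonempty (CohB1.tensorMod L L' ≅ Coh.structureModule X))
    (a e : Fin (s + 2) → ℤ)
    (ha : ∀ m : ℕ, FGA.eulerCharLE k X (Pic13.twistOn k i L m) (s + 1) = ∑ j : Fin (s + 2), a j * ((m + j).choose j : ℤ))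
    (he : ∀ m : ℕ, FGA.eulerCharLE k X (Pic13.twistOn k i (Coh.structureModule X) m) (s + 1) =
      ∑ j : Fin (s + 2), e j * ((m + j).choose j : ℤ)) :
    a (Fin.last (s + 1)) = e (Fin.last (s + 1)) ∧
      a (Fin.last (s + 1)) = FGA.intNum k X (s + 1)
        (fun _ : Fin (s + 1) => (Scheme.Modules.pullback i).obj (Twist.twistProjSpace n k (-1))) (Coh.structureModule X) ∧
      a (Fin.castSucc (Fin.last s)) - e (Fin.castSucc (Fin.last s)) = FGA.intNum k X (s + 1)
        (Matrix.vecCons L' (fun _ : Fin s => (Scheme.Modules.pullback i).obj (Twist.twistProjSpace n k (-1))))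
        (Coh.structureModule X) := by
  haveI : IsProper (X ↘ Spec (CommRingCat.of k)) := by
    rw [← hi]
    haveI : IsProper (CohB1.ProjSpace.toSpec n k) := inferInstance
    infer_instance
  haveI := H28Int.isNoetherian k (X := X)
  have hs := H22Alg.CMField.setup k n
  let O : ℤ → X.Modules := fun d => (Scheme.Modules.pullback i).obj (Twist.twistProjSpace n k d)
  obtain ⟨eO⟩ := H11Ample.nonempty_pullback_structureModule_iso i
  have fam : H10Coh.Stab.IsTwistFamily O :=
    { inv := fun d => H11Ample.isInvertible_pullback i (hs.fam.inv d)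
      zero := by obtain ⟨z⟩ := hs.fam.zero; exact ⟨(Scheme.Modules.pullback i).mapIso z ≪≫ eO⟩
      add := fun a b => by
        obtain ⟨z⟩ := hs.fam.add a b
        obtain ⟨z'⟩ := H11Ample.exists_iso_pullback_tensor i (hs.fam.inv a) (hs.fam.inv b)
        exact ⟨z'.symm ≪≫ (Scheme.Modules.pullback i).mapIso z⟩ }
  obtain ⟨z⟩ := fam.zero
  obtain ⟨zz⟩ := fam.add 1 (-1)
  have hHH : Nonempty (CohB1.tensorMod (O 1) (O (-1)) ≅ Coh.structureModule X) :=
    ⟨zz ≪≫ eqToIso (congrArg O (by ring)) ≪≫ z⟩
  have hd : topologicalKrullDim X ≤ ((s + 1 : ℕ) : WithBot ℕ∞) := hdim.le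
  have hO : Coh.IsCoh (Coh.structureModule X) := H10Coh.isCoh_structureModule' X
  have hLc : Coh.IsCoh L :=
    H10Coh.isCoh_of_iso (H10Coh.Tw.leftUnitIso L) (H11Ample.isCoh_tensor hO hL)
  have hdimF : ∀ F : X.Modules, topologicalKrullDim (CohB1.support F) ≤ ((s + 1 : ℕ) : WithBot ℕ∞) := fun F =>
    Topology.IsInducing.subtypeVal.topologicalKrullDim_le.trans hd
  -- the Hilbert function in the second basis
  let b : X.Modules → ℕ → ℤ := fun F j => H28Int.D k (List.replicate j (O (-1))) F
  have hexp : ∀ (F : X.Modules) (_ : Coh.IsCoh F) (m : ℕ),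
      FGA.eulerCharLE k X (Pic13.twistOn k i F m) (s + 1) =
        ∑ j ∈ Finset.range (s + 1), (b F j - b F (j + 1)) * ((m + j).choose j : ℤ) +
          b F (s + 1) * ((m + (s + 1)).choose (s + 1) : ℤ) := by
    intro F hF m
    obtain ⟨e'⟩ := fam.nonempty_tensorPow m
    have hT : Coh.IsCoh (CohB1.tensorMod (CohB1.tensorPow (O 1) m) F) :=
      H28Int.isCoh_twist (H11Ample.isInvertible_tensorPow (fam.inv 1) m) hF
    rw [← binom_change, H28Int.eulerCharLE_eq k hd (show (Pic13.twistOn k i F m).IsQuasicoherent from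
        (H11Ample.isCoh_tensor hF (fam.inv m)).1),
      show Curv2.euler k X (Pic13.twistOn k i F m) =
        Curv2.euler k X (CohB1.tensorMod (CohB1.tensorPow (O 1) m) F) from
        H25Euler.euler_congr (H10Coh.Tw.commIso _ _ ≪≫ PicGrp.tensorModIso e'.symm (Iso.refl F)),
      ← H28Int.eulerCharLE_eq k hd hT.1,
      S11753.result k X (s + 1) hd (O 1) (O (-1)) (fam.inv 1) hHH F hF (s + 1) (hdimF F) m]
    refine Finset.sum_congr rfl fun j _ => ?_
    rw [H28Int.intNum_eq k hd _ (fun _ => fam.inv (-1)) hF, List.ofFn_const]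
  -- comparison of the coefficients
  have hcoef : ∀ (F : X.Modules) (_ : Coh.IsCoh F) (c : Fin (s + 2) → ℤ),
      (∀ m : ℕ, FGA.eulerCharLE k X (Pic13.twistOn k i F m) (s + 1) =
        ∑ j : Fin (s + 2), c j * ((m + j).choose j : ℤ)) →
      c (Fin.last (s + 1)) = b F (s + 1) ∧
        c (Fin.castSucc (Fin.last s)) = b F s - b F (s + 1) := by
    intro F hF c hc
    let d : ℕ → ℤ := fun j => (if h : j < s + 2 then c ⟨j, h⟩ else 0) -
      (if j = s + 1 then b F (s + 1) else b F j - b F (j + 1))
    have hz := binom_unique (s + 2) d 0 fun m _ => by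
      simp only [d, sub_mul, Finset.sum_sub_distrib]
      rw [sub_eq_zero, ← Fin.sum_univ_eq_sum_range (fun j : ℕ =>
        (if h : j < s + 2 then c ⟨j, h⟩ else 0) * ((m + j).choose j : ℤ)), Finset.sum_range_succ _ (s + 1)]
      refine Eq.trans (Finset.sum_congr rfl fun j _ => by rw [dif_pos j.2]) ((hc m).symm.trans ((hexp F hF m).trans ?_))
      rw [if_pos rfl]
      congr 1
      refine Finset.sum_congr rfl fun j hj => ?_
      rw [if_neg (Finset.mem_range.1 hj).ne]
    have h1 := hz (s + 1) (by omega)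
    have h2 := hz s (by omega)
    simp only [d, if_pos rfl, dif_pos (show s + 1 < s + 2 by omega), sub_eq_zero] at h1
    simp only [d, if_neg (show s ≠ s + 1 by omega), dif_pos (show s < s + 2 by omega), sub_eq_zero] at h2
    exact ⟨h1, h2⟩
  obtain ⟨ha1, ha2⟩ := hcoef L hLc a ha
  obtain ⟨he1, he2⟩ := hcoef _ hO e he
  obtain ⟨eL⟩ := hLL'
  have hL'i : PicF.IsInvertible L' :=
    H17.InvertibleTensor.isInvertible_of_tensor_iso L' L (H10Coh.Tw.commIso L' L ≪≫ eL)
  have hrep : ∀ j, ∀ A ∈ List.replicate j (O (-1)), PicF.IsInvertible A := fun j A hA =>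
    (List.eq_of_mem_replicate hA) ▸ fam.inv (-1)
  have htop : b L (s + 1) = b (Coh.structureModule X) (s + 1) :=
    ((H28Int.isAddFn_D k _ (hrep _)).congr (H10Coh.Tw.rightUnitIso L).symm).trans
      (H28Int.D_twist k (hrep _) hL hO (by simpa using hdimF (Coh.structureModule X)))
  refine ⟨by rw [ha1, he1, htop], ?_, ?_⟩
  · rw [ha1, htop, H28Int.intNum_eq k hd _ (fun _ => fam.inv (-1)) hO, List.ofFn_const]
  · rw [ha2, he2, htop, H28Int.intNum_eq k hd _ (fun j => ?_) hO]
    swap
    · cases j using Fin.cases with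
      | zero => exact hL'i
      | succ j => exact fam.inv (-1)
    rw [List.ofFn_succ]
    simp only [Matrix.cons_val_zero, Matrix.cons_val_succ, List.ofFn_const]
    have hl : ∀ A ∈ L' :: List.replicate s (O (-1)), PicF.IsInvertible A :=
      List.forall_mem_cons.2 ⟨hL'i, hrep s⟩
    have h1 : H28Int.D k (L' :: List.replicate s (O (-1))) L =
        H28Int.D k (L' :: List.replicate s (O (-1))) (Coh.structureModule X) :=
      ((H28Int.isAddFn_D k _ hl).congr (H10Coh.Tw.rightUnitIso L).symm).trans
        (H28Int.D_twist k hl hL hO (by simpa using hdimF (Coh.structureModule X)))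
    rw [← h1]
    show _ = H28Int.D k _ L - H28Int.D k _ (CohB1.tensorMod L' L)
    rw [(H28Int.isAddFn_D k _ (hrep s)).congr (H10Coh.Tw.commIso L' L ≪≫ eL)]
    show b L s - _ - (b _ s - _) = b L s - b _ s
    ring

end Groth.Agent.S5644
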