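import Groth.Statements.S5647
import Groth.Agent.H12Pic.Gen.Recur
import Groth.Agent.H12Pic.Bdd.Conv
import Groth.Agent.H12Pic.Hodge.Classes
import Groth.Agent.H12Pic.Hodge.Twists
import Groth.Agent.H12Pic.NumTriv.Euler
import Groth.Agent.S11753
import Groth.Agent.S5644

set_option autoImplicit false
set_option backward.isDefEq.respectTransparency.types false
universe u
open CategoryTheory CategoryTheory.Limits AlgebraicGeometry
open Pic13

namespace Groth.Agent.S5647

/-- First assertion: over the base S = Spec k with k algebraically closed: let X ⊆ P^n_k be an integral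
closed subscheme of dimension r, O_X(1) the restriction of O(1), and consider a family of invertible
O_X-modules L with Hilbert polynomials written χ(L(m)) = Σ_{j ≤ r} a_j(L) C(m+j, j) (m ≥ 0, Euler
characteristics in degrees ≤ r). Then the family is bounded if and only if the coefficients a_j(L)
stay bounded as L runs through it. (The published statement is for X projective over a Noetherian
base with a very ample O_X(1) and geometrically integral fibres of dimension r, and for families of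
classes on the fibres; this row is the case of an algebraically closed base field.) -/
theorem result (k : Type u) [Field k] [IsAlgClosed k] (n : ℕ) (X : Scheme.{u}) [X.Over (Spec (CommRingCat.of k))]
    (i : X ⟶ CohB1.ProjSpace n k) [IsClosedImmersion i] (hi : i ≫ CohB1.ProjSpace.toSpec n k = X ↘ Spec (CommRingCat.of k))
    [IsIntegral X] (r : ℕ) (hdim : topologicalKrullDim X = (r : ℕ))
    (Q : X.Modules → Prop) (hQ : ∀ L, Q L → PicF.IsInvertible L) :
    Pic13.IsBounded k X Q ↔ ∃ B : ℕ, ∀ L, Q L → ∃ a : Fin (r + 1) → ℤ,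
      (∀ m : ℕ, FGA.eulerCharLE k X (Pic13.twistOn k i L m) r = ∑ j : Fin (r + 1), a j * ((m + j).choose j : ℤ)) ∧
      ∀ j, |a j| ≤ B := by
  classical
  haveI : IsProper (CohB1.ProjSpace.toSpec n k) := inferInstance
  haveI : IsProper (X ↘ Spec (CommRingCat.of k)) := hi ▸ inferInstanceAs (IsProper (i ≫ CohB1.ProjSpace.toSpec n k))
  haveI := H28Int.isNoetherian k (X := X)
  let O := H12Pic.Gen.OP k i
  have h := H12Pic.Gen.emb_of_immersion k i
  have hd : topologicalKrullDim X ≤ ((r : ℕ) : WithBot ℕ∞) := hdim.le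
  have hLE : ∀ L, PicF.IsInvertible L → ∀ m : ℤ,
      FGA.eulerCharLE k X (Pic13.twistOn k i L m) r = H12Pic.Gen.chi k O L m := fun L hL m =>
    H28Int.eulerCharLE_eq k hd (H11Ample.isCoh_of_isInvertible (H11Ample.isInvertible_tensor hL (h.setup.fam.inv m))).1
  obtain ⟨z⟩ := h.setup.fam.zero
  constructor
  · intro hb
    obtain ⟨q, M, hM, hrep⟩ := H12Pic.Hodge.finNT_of_bdd k hQ (H12Pic.Bdd.bdd_of_isBounded hb)
    obtain ⟨a11⟩ := h.setup.fam.add 1 (-1)
    have hHH : Nonempty (CohB1.tensorMod (O 1) (O (-1)) ≅ Coh.structureModule X) :=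
      ⟨a11 ≪≫ eqToIso (congrArg O (by ring)) ≪≫ z⟩
    let b : Fin q → ℕ → ℤ := fun j t => H28Int.D k (List.replicate t (O (-1))) (M j)
    let a : Fin q → Fin (r + 1) → ℤ := fun j t => if (t : ℕ) = r then b j r else b j t - b j ((t : ℕ) + 1)
    refine ⟨Finset.univ.sup fun p : Fin q × Fin (r + 1) => (a p.1 p.2).natAbs, fun L hL => ?_⟩
    obtain ⟨j, hj⟩ := hrep L hL
    refine ⟨a j, fun m => ?_, fun t => ?_⟩
    swap
    · rw [Int.abs_eq_natAbs]
      exact_mod_cast Finset.le_sup (f := fun p : Fin q × Fin (r + 1) => (a p.1 p.2).natAbs) (Finset.mem_univ (j, t))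
    have hMi := hQ _ (hM j)
    have hMc := H11Ample.isCoh_of_isInvertible hMi
    obtain ⟨A, hA, ⟨eA⟩⟩ := H12Pic.Bdd.exists_right_inverse hMi
    have hNT := hj A hA ⟨eA⟩
    have heq : H12Pic.Gen.chi k O L m = H12Pic.Gen.chi k O (M j) m :=
      (H25Euler.euler_congr (PicGrp.tensorModIso (H12Pic.Bdd.cancelInv eA L ≪≫ H10Coh.Tw.commIso _ _)
        (Iso.refl (O (m : ℤ))) ≪≫ H10Coh.Tw.assoc _ _ _)).trans
        (H12Pic.NumTriv.euler_tensor_eq k (H11Ample.isCoh_tensor hMc (h.setup.fam.inv m)) hNT)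
    obtain ⟨e'⟩ := h.setup.fam.nonempty_tensorPow m
    have hT : Coh.IsCoh (CohB1.tensorMod (CohB1.tensorPow (O 1) m) (M j)) :=
      H28Int.isCoh_twist (H11Ample.isInvertible_tensorPow (h.setup.fam.inv 1) m) hMc
    have hexp := S11753.result k X r hd (O 1) (O (-1)) (h.setup.fam.inv 1) hHH (M j) hMc r
      ((Topology.IsInducing.subtypeVal.topologicalKrullDim_le).trans hd) m
    rw [H28Int.eulerCharLE_eq k hd hT.1, H25Euler.euler_congr
      (H10Coh.Tw.commIso _ _ ≪≫ PicGrp.tensorModIso (Iso.refl (M j)) e')] at hexp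
    rw [hLE L (hQ L hL) m, heq]
    refine hexp.trans ((Finset.sum_congr rfl fun t _ => by
      rw [H28Int.intNum_eq k hd _ (fun _ => h.setup.fam.inv (-1)) hMc, List.ofFn_const]).trans
      ((S5644.binom_change (b j) m r).trans ?_))
    rw [Fin.sum_univ_castSucc]
    simp only [a, Fin.val_last, if_pos, Fin.val_castSucc]
    congr 1
    rw [← Fin.sum_univ_eq_sum_range]
    refine Finset.sum_congr rfl fun t _ => ?_
    rw [if_neg t.2.ne]
  · rintro ⟨B, hB⟩
    rcases Nat.lt_or_ge r 2 with hr | hr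
    · have hd1 : topologicalKrullDim X ≤ ((1 : ℕ) : WithBot ℕ∞) :=
        hd.trans (by exact_mod_cast (show r ≤ 1 by omega))
      let C : ℤ := (r + 1 : ℕ) * (B : ℤ) + |Curv2.euler k X (Coh.structureModule X)|
      refine H12Pic.Bdd.Bdd.isBounded ((H12Pic.Hodge.bdd_of_finNT k (fun _ hL => hL.1)
        (H12Pic.Hodge.finNT_small k hd1 C)).subset fun L hL => ?_)
      obtain ⟨a, ha, hab⟩ := hB L hL
      have hLi := hQ L hL
      refine ⟨hLi, ?_⟩
      have h0 := ha 0
      rw [Nat.cast_zero, hLE L hLi 0] at h0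
      have e0 : Curv2.euler k X (CohB1.tensorMod L (Coh.structureModule X)) = H12Pic.Gen.chi k O L 0 :=
        H25Euler.euler_congr (PicGrp.tensorModIso (Iso.refl L) z.symm)
      have hs : |∑ j : Fin (r + 1), a j * (((0 + (j : ℕ)).choose j : ℕ) : ℤ)| ≤ (r + 1 : ℕ) * (B : ℤ) := by
        refine (Finset.abs_sum_le_sum_abs _ _).trans ((Finset.sum_le_card_nsmul _ _ (B : ℤ) fun j _ => ?_).trans (le_of_eq ?_))
        · simpa using hab j
        · simp
      simp only [H22Alg.NefQ.Q, List.length_cons, List.length_nil, H28Int.D, e0, h0]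
      norm_num
      simp at hs
      refine (abs_sub _ _).trans ?_
      rw [add_comm]
      show _ ≤ ((r + 1 : ℕ) : ℤ) * (B : ℤ) + _
      push_cast
      linarith
    · obtain ⟨s, rfl⟩ : ∃ s, r = s + 2 := ⟨r - 2, by omega⟩
      obtain ⟨B', hB'⟩ := H12Pic.Gen.degBound_of_topBound s k X O n _ h hdim (B : ℤ)
      refine H12Pic.Bdd.Bdd.isBounded ((H12Pic.Hodge.bdd_pset k hdim h.ample B').subset fun L hL => ?_)
      obtain ⟨a, ha, hab⟩ := hB L hL
      have hLi := hQ L hL
      obtain ⟨hb1, hb2⟩ := hB' L hLi ⟨a, 0, fun m _ => (hLE L hLi m).symm.trans (ha m), hab _, hab _, hab _⟩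
      exact ⟨hLi, hb1, hb2⟩

end Groth.Agent.S5647
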