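import Groth.Statements.S5648
import Groth.Agent.H12Pic.Gen.Recur
import Groth.Agent.H12Pic.Bdd.Conv
import Groth.Agent.H12Pic.Hodge.Classes

set_option autoImplicit false
set_option backward.isDefEq.respectTransparency.types false
universe u
open CategoryTheory CategoryTheory.Limits AlgebraicGeometry
open Pic13

namespace Groth.Agent.S5648

/-- Second assertion: over the base S = Spec k with k algebraically closed: let X ⊆ P^n_k be an integral
and normal closed subscheme of dimension r = s + 2 ≥ 2, O_X(1) the restriction of O(1), and consider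
a family of invertible O_X-modules L with Hilbert polynomials χ(L(m)) = Σ_{j ≤ r} a_j(L) C(m+j, j)
(m ≥ 0). If the three coefficients a_r(L), a_{r-1}(L), a_{r-2}(L) stay bounded as L runs through the
family, then the family is bounded. (The published statement is for X projective over a Noetherian
base with a very ample O_X(1) and geometrically integral and geometrically normal fibres of
dimension r, and for families of classes on the fibres; this row is the case of an algebraically
closed base field.) -/
theorem result (k : Type u) [Field k] [IsAlgClosed k] (n : ℕ) (X : Scheme.{u}) [X.Over (Spec (CommRingCat.of k))]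
    (i : X ⟶ CohB1.ProjSpace n k) [IsClosedImmersion i] (hi : i ≫ CohB1.ProjSpace.toSpec n k = X ↘ Spec (CommRingCat.of k))
    [IsIntegral X] (hnor : Pi1.IsNormalScheme X)
    (s : ℕ) (hdim : topologicalKrullDim X = (s + 2 : ℕ))
    (Q : X.Modules → Prop) (hQ : ∀ L, Q L → PicF.IsInvertible L)
    (hB : ∃ B : ℕ, ∀ L, Q L → ∃ a : Fin (s + 3) → ℤ,
      (∀ m : ℕ, FGA.eulerCharLE k X (Pic13.twistOn k i L m) (s + 2) = ∑ j : Fin (s + 3), a j * ((m + j).choose j : ℤ)) ∧
      |a (Fin.last (s + 2))| ≤ B ∧ |a (Fin.castSucc (Fin.last (s + 1)))| ≤ B ∧ |a (Fin.castSucc (Fin.castSucc (Fin.last s)))| ≤ B) :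
    Pic13.IsBounded k X Q := by
  haveI : IsProper (CohB1.ProjSpace.toSpec n k) := inferInstance
  haveI : IsProper (X ↘ Spec (CommRingCat.of k)) := hi ▸ inferInstanceAs (IsProper (i ≫ CohB1.ProjSpace.toSpec n k))
  haveI := H28Int.isNoetherian k (X := X)
  let O := H12Pic.Gen.OP k i
  have h := H12Pic.Gen.emb_of_immersion k i
  obtain ⟨B, hB⟩ := hB
  obtain ⟨B', hB'⟩ := H12Pic.Gen.degBound_of_topBound s k X O n _ h hdim (B : ℤ)
  refine H12Pic.Bdd.Bdd.isBounded ((H12Pic.Hodge.bdd_pset k hdim h.ample B').subset fun L hL => ?_)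
  obtain ⟨a, ha, h2, h1, h0⟩ := hB L hL
  have hLi := hQ L hL
  obtain ⟨hb1, hb2⟩ := hB' L hLi ⟨a, 0, fun m _ => by
    rw [← ha m, H28Int.eulerCharLE_eq k (hdim.le.trans_eq (by rfl))]
    · rfl
    · exact (H11Ample.isCoh_of_isInvertible (H11Ample.isInvertible_tensor hLi (h.setup.fam.inv _))).1, h2, h1, h0⟩
  exact ⟨hLi, hb1, hb2⟩

end Groth.Agent.S5648
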