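import Groth.Statements.S5650
import Groth.Agent.H8Props.IsoLocus.Main
import Groth.Agent.H7Lim.Topology
-- import your own Groth.Agent.* helpers here

set_option autoImplicit false
set_option linter.style.haveILetI false
universe u
open CategoryTheory CategoryTheory.Limits AlgebraicGeometry
open FlatMor

namespace Groth.Agent.S5650

/-- Let X ⟶ S be proper and of finite presentation, u : F ⟶ G a morphism of finitely presented
O_X-modules with G flat over S. Then the subfunctor of S 'making u an isomorphism' is represented by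
an open subscheme of S of finite presentation over S: there is a quasi-compact open U ⊆ S such that,
for every scheme T and t : T ⟶ S, the pullback of u to X ×_S T is an isomorphism if and only if the
image of t lies in U. -/
theorem result {X S : Scheme.{u}} (f : X ⟶ S) [IsProper f] [LocallyOfFinitePresentation f]
    (F G : X.Modules) (hF : CohB1.IsFP F) (hG : CohB1.IsFP G) (hGfl : FlatMod.IsFlatOver f G) (u : F ⟶ G) :
    ∃ U : S.Opens, QuasiCompact U.ι ∧
      ∀ (T : Scheme.{u}) (t : T ⟶ S),
        IsIso ((Scheme.Modules.pullback (pullback.fst f t)).map u) ↔ Set.range t.base ⊆ (U : Set S) := by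
  obtain ⟨ho, hr⟩ := Groth.Agent.H8Props.IsoLocus.isOpen_and_isRetrocompact_isoSet f hF hG hGfl u
  have hcl : IsClosed (f '' (Groth.Agent.H8Props.IsoLocus.isoSet u)ᶜ) := f.isClosedMap _ ho.isClosed_compl
  let U : S.Opens := ⟨Groth.Agent.H8Props.IsoLocus.baseLocus f u, hcl.isOpen_compl⟩
  have hLC : Topology.IsLocallyConstructible (U : Set S) :=
    Groth.Agent.H7Lim.isLocallyConstructible_compl (f.isLocallyConstructible_image
      (Groth.Agent.H7Lim.isLocallyConstructible_compl (hr.isLocallyConstructible ho)))
  refine ⟨U, ⟨fun W hW hWc => ?_⟩, fun T t => ⟨fun h => ?_, fun h => ?_⟩⟩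
  · rw [U.ι.isOpenEmbedding.isInducing.isCompact_iff, Set.image_preimage_eq_inter_range, Scheme.Opens.range_ι]
    exact (Groth.Agent.H7Lim.qcImage_inter_of_isCompact hLC hW hWc).isCompact
  · rintro _ ⟨τ, rfl⟩ ⟨x, hx, hfx⟩
    let f' := pullback.snd f t
    let p := Spec.map (t.residueFieldMap τ)
    have hsq : IsPullback (f.fiberι (t τ)) (f.fiberToSpecResidueField (t τ)) f (S.fromSpecResidueField (t τ)) :=
      IsPullback.of_hasPullback _ _
    have h1 : IsPullback (f'.fiberι τ ≫ pullback.fst f t) (f'.fiberToSpecResidueField τ) f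
        (T.fromSpecResidueField τ ≫ t) :=
      (IsPullback.of_hasPullback _ _).paste_horiz (IsPullback.of_hasPullback f t)
    have ht : p ≫ S.fromSpecResidueField (t τ) = T.fromSpecResidueField τ ≫ t :=
      Scheme.Hom.SpecMap_residueFieldMap_fromSpecResidueField t τ
    let q : f'.fiber τ ⟶ f.fiber (t τ) := hsq.lift (f'.fiberι τ ≫ pullback.fst f t)
      (f'.fiberToSpecResidueField τ ≫ p) (by rw [h1.w, Category.assoc, ht])
    have hq : q ≫ f.fiberι (t τ) = f'.fiberι τ ≫ pullback.fst f t := hsq.lift_fst _ _ _
    have h2 : IsPullback q (f'.fiberToSpecResidueField τ) (f.fiberToSpecResidueField (t τ)) p := by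
      refine IsPullback.of_right ?_ (hsq.lift_snd _ _ _) hsq
      rw [hq, ht]
      exact h1
    haveI : Flat p := by
      rw [HasRingHomProperty.Spec_iff (P := @Flat)]
      letI := (t.residueFieldMap τ).hom.toAlgebra
      show Module.Flat (S.residueField (t τ)) (T.residueField τ)
      infer_instance
    haveI : Subsingleton (Spec (S.residueField (t τ))) := inferInstanceAs (Subsingleton (PrimeSpectrum _))
    haveI : Surjective p := ⟨fun y => ⟨IsLocalRing.closedPoint (T.residueField τ), Subsingleton.elim _ _⟩⟩
    haveI : Flat q := MorphismProperty.of_isPullback h2.flip ‹Flat p›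
    haveI : Surjective q := MorphismProperty.of_isPullback h2.flip ‹Surjective p›
    obtain ⟨z, hz⟩ : x ∈ Set.range (f.fiberι (t τ)) := by rw [f.range_fiberι]; exact hfx
    obtain ⟨z', rfl⟩ := q.surjective z
    subst hz
    haveI := h
    have hi : IsIso ((Scheme.Modules.pullback q).map ((Scheme.Modules.pullback (f.fiberι (t τ))).map u)) := by
      have e1 : IsIso ((Scheme.Modules.pullback (f'.fiberι τ ≫ pullback.fst f t)).map u) :=
        (NatIso.isIso_map_iff (Scheme.Modules.pullbackComp (f'.fiberι τ) (pullback.fst f t)) u).1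
          (inferInstanceAs (IsIso ((Scheme.Modules.pullback (f'.fiberι τ)).map
            ((Scheme.Modules.pullback (pullback.fst f t)).map u))))
      rw [← hq] at e1
      exact (NatIso.isIso_map_iff (Scheme.Modules.pullbackComp q (f.fiberι (t τ))) u).2 e1
    have hb := (Groth.Agent.H8Props.FunDescent.isIso_iff _).1 hi z'
    exact hx (Groth.Agent.H8Props.IsoLocus.bijective_stalkLin_of_fibre f hF hG (q z') (hGfl _) u
      ⟨(Groth.Agent.H8Props.FunDescent.injective_stalkLin_pullback_iff q _ z').1 hb.1,
        (Groth.Agent.H8Props.FunDescent.surjective_stalkLin_pullback_iff q _ z').1 hb.2⟩)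
  · refine (Groth.Agent.H8Props.FunDescent.isIso_iff _).2 fun z =>
      Groth.Agent.H8Props.IsoLocus.bijective_stalkLin_pullback (pullback.fst f t) u z (not_not.1 fun hn => ?_)
    have hmem : t (pullback.snd f t z) ∈ U := h ⟨_, rfl⟩
    refine hmem ⟨pullback.fst f t z, hn, ?_⟩
    rw [← Scheme.Hom.comp_apply, pullback.condition]
    rfl

end Groth.Agent.S5650
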