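import Groth.Statements.S5651
import Groth.Agent.H8Norm.FlatMono.Main

set_option autoImplicit false
universe u
open CategoryTheory CategoryTheory.Limits AlgebraicGeometry
open FlatMor

namespace Groth.Agent.S5651

/-- Let f : X ⟶ S be proper and of finite presentation and F a finitely presented O_X-module. Then the
subfunctor of S 'making F flat over S' is represented by a surjective monomorphism of finite
presentation: there are a scheme S' and a monomorphism ι : S' ⟶ S, locally of finite presentation,
quasi-compact and surjective, such that for every scheme T and t : T ⟶ S the pullback of F to X ×_S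
T is flat over T if and only if t factors through ι. -/
theorem result {X S : Scheme.{u}} (f : X ⟶ S) [IsProper f] [LocallyOfFinitePresentation f]
    (F : X.Modules) (hF : CohB1.IsFP F) :
    ∃ (S' : Scheme.{u}) (ι : S' ⟶ S), Mono ι ∧ LocallyOfFinitePresentation ι ∧ QuasiCompact ι ∧ Surjective ι ∧
      ∀ (T : Scheme.{u}) (t : T ⟶ S),
        FlatMod.IsFlatOver (pullback.snd f t) ((Scheme.Modules.pullback (pullback.fst f t)).obj F) ↔
          ∃ t' : T ⟶ S', t' ≫ ι = t := by
  exact H8Norm.FlatMono.exists_flattening f F hF

end Groth.Agent.S5651
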