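import Groth.Statements.S5652
import Groth.Agent.H12Pic.Gen.Quad
import Groth.Agent.H16Derived.PBQCNeg

set_option autoImplicit false
set_option backward.isDefEq.respectTransparency.types false
universe u
open CategoryTheory CategoryTheory.Limits AlgebraicGeometry
open Pic13

namespace Groth.Agent.S5652

/-- Let k be an algebraically closed field, X ⊆ P^n_k an integral closed subscheme of dimension 2,
O_X(1) and O_X(-1) the restrictions of O(1) and O(-1), and L an invertible O_X-module with inverse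
L' whose degree (c₁(L)·c₁(O_X(1))) is ≤ 0. Write χ(L(m)) = a_2 C(m+2,2) + a_1 C(m+1,1) + a_0 for m ≥
0. Then (i) h^1(X, L(m)) ≤ a_1 (a_1 + 1) a_2 - a_0 for every integer m, and (ii) a_0 ≤ a_1 (a_1 +
1). Intersection numbers are those of FGA.intNum, which takes the inverse modules as arguments; h^1
is the dimension over k. -/
theorem result (k : Type u) [Field k] [IsAlgClosed k] (n : ℕ) (X : Scheme.{u}) [X.Over (Spec (CommRingCat.of k))]
    (i : X ⟶ CohB1.ProjSpace n k) [IsClosedImmersion i] (hi : i ≫ CohB1.ProjSpace.toSpec n k = X ↘ Spec (CommRingCat.of k))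
    [IsIntegral X] (hdim : topologicalKrullDim X = (2 : ℕ))
    (L L' : X.Modules) (hL : PicF.IsInvertible L) (hLL' : Nonempty (CohB1.tensorMod L L' ≅ Coh.structureModule X))
    (hdeg : FGA.intNum k X 2 (Matrix.vecCons L' (fun _ : Fin 1 => ((Scheme.Modules.pullback i).obj (Twist.twistProjSpace n k (-1))))) (Coh.structureModule X) ≤ 0)
    (a : Fin 3 → ℤ)
    (ha : ∀ m : ℕ, FGA.eulerCharLE k X (Pic13.twistOn k i L m) 2 = ∑ j : Fin 3, a j * ((m + j).choose j : ℤ)) :
    (∀ m : ℤ, (Module.finrank k (Coh.HH X (Pic13.twistOn k i L m) 1) : ℤ) ≤ a 1 * (a 1 + 1) * a 2 - a 0) ∧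
      a 0 ≤ a 1 * (a 1 + 1) := by
  haveI : IsProper (CohB1.ProjSpace.toSpec n k) := inferInstance
  haveI : IsProper (X ↘ Spec (CommRingCat.of k)) := hi ▸ inferInstanceAs (IsProper (i ≫ CohB1.ProjSpace.toSpec n k))
  haveI := H28Int.isNoetherian k (X := X)
  let O := H12Pic.Gen.OP k i
  have h := H12Pic.Gen.emb_of_immersion k i
  have hd : topologicalKrullDim X ≤ ((2 : ℕ) : WithBot ℕ∞) := hdim.le
  have hdd := H12Pic.Gen.dd_pos k h hdim
  obtain ⟨h2, h10, h00, h02⟩ := H12Pic.Gen.coeffs k h hd hL a ha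
  have hO : PicF.IsInvertible (Coh.structureModule X) := fun y => ⟨⊤, trivial, ⟨Scheme.Modules.restrictUnitIso _⟩⟩
  obtain ⟨eL⟩ := hLL'
  have hL' : PicF.IsInvertible L' := H16Derived.PBQC.isInvertible_of_inverse hL ⟨eL⟩
  obtain ⟨a11⟩ := h.setup.fam.add 1 (-1)
  obtain ⟨z⟩ := h.setup.fam.zero
  have hneg : H12Pic.Gen.chi k O L 0 - H12Pic.Gen.chi k O L (-1) ≤
      H12Pic.Gen.chi k O (Coh.structureModule X) 0 - H12Pic.Gen.chi k O (Coh.structureModule X) (-1) := by
    have e : Matrix.vecCons L' (fun _ : Fin 1 => O (-1)) = ![L', O (-1)] := by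
      funext j; fin_cases j <;> rfl
    have h1 := H12Pic.Hodge.intNum_inverses k hd (M := ![L, O 1]) (M' := ![L', O (-1)])
      (fun j => by fin_cases j; exacts [hL, h.setup.fam.inv 1])
      (fun j => by fin_cases j; exacts [hL', h.setup.fam.inv (-1)])
      (fun j => by fin_cases j; exacts [⟨eL⟩, ⟨a11 ≪≫ eqToIso (congrArg O (by ring)) ≪≫ z⟩])
      (H10Coh.isCoh_structureModule' X) ((Topology.IsInducing.subtypeVal.topologicalKrullDim_le).trans hd)
    erw [e, h1, show List.ofFn ![L, O 1] = [L, O 1] from rfl] at hdeg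
    simp only [H22Alg.NefQ.Q, List.length_cons, List.length_nil, H12Pic.Gen.D_two] at hdeg
    obtain ⟨h3, h4⟩ := H12Pic.Gen.chi_quad k h hd hL 1
    obtain ⟨h5, h6⟩ := H12Pic.Gen.chi_quad k h hd hO 1
    have c0 : Curv2.euler k X L = H12Pic.Gen.chi k O L 0 :=
      H25Euler.euler_congr ((H10Coh.Tw.rightUnitIso L).symm ≪≫ PicGrp.tensorModIso (Iso.refl L) z.symm)
    have c1 : Curv2.euler k X (Coh.structureModule X) = H12Pic.Gen.chi k O (Coh.structureModule X) 0 :=
      (H25Euler.euler_congr z.symm).trans (H12Pic.Gen.chi_structure k 0).symm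
    have c2 := H12Pic.Gen.chi_structure (X := X) k (O := O) 1
    norm_num at hdeg h4 h6
    linarith
  obtain ⟨c, hc, h2c, hall, -⟩ := H12Pic.Gen.surface_bounds k h hdim hL hneg
  rw [h00] at h2c hall
  rw [h00, h02, show a 0 - a 1 - a 0 = -a 1 by ring] at hc
  have hA : a 1 * (a 1 + 1) = (c : ℤ) * ((c : ℤ) - 1) := by rw [hc]; ring
  have hpos : 0 ≤ (c : ℤ) * ((c : ℤ) - 1) := by
    rcases c with _ | c
    · simp
    · push_cast; nlinarith
  refine ⟨fun m => ?_, by linarith⟩
  have hm : (Module.finrank k (Coh.HH X (Pic13.twistOn k i L m) 1) : ℤ) ≤ a 1 * (a 1 + 1) - a 0 := by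
    rw [hA]; exact hall m
  have : a 1 * (a 1 + 1) ≤ a 1 * (a 1 + 1) * a 2 := by
    rw [hA, h2]
    exact le_mul_of_one_le_right hpos hdd
  linarith

end Groth.Agent.S5652
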