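import Groth.Statements.S5653
import Groth.Agent.H12Pic.Gen.Quad
import Groth.Agent.H16Derived.PBQCNeg

set_option autoImplicit false
set_option backward.isDefEq.respectTransparency.types false
universe u
open CategoryTheory CategoryTheory.Limits AlgebraicGeometry
open Pic13

namespace Groth.Agent.S5653

/-- Let k be an algebraically closed field, X ⊆ P^n_k an integral closed subscheme of dimension 2,
O_X(1), O_X(-1) the restrictions of O(1), O(-1), with χ(O_X(m)) = e_2 C(m+2,2) + e_1 C(m+1,1) + e_0,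
and L an invertible O_X-module with inverse L', of degree δ = (c₁(L)·c₁(O_X(1))) ≤ 0 and with
χ(L(m)) = a_2 C(m+2,2) + a_1 C(m+1,1) + a_0 (m ≥ 0). Put β = δ (e_2 - 1) + e_1. Then a_0 ≥ (c₁(L)²)
+ 2 e_0 + (2 e_1 - a_1) C(δ, 1) + (2 e_2 - a_2) C(δ+1, 2) - β (β + 1), where C(δ, 1) = δ and C(δ+1,
2) = δ(δ+1)/2. (The published statement has +β(β+1) as its last term, which fails for O(1,-3) on P^1
× P^1 ⊆ P^3; this row has -β(β+1), the sign the published proof yields.) Intersection numbers are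
those of FGA.intNum, which takes the inverse modules as arguments. -/
theorem result (k : Type u) [Field k] [IsAlgClosed k] (n : ℕ) (X : Scheme.{u}) [X.Over (Spec (CommRingCat.of k))]
    (i : X ⟶ CohB1.ProjSpace n k) [IsClosedImmersion i] (hi : i ≫ CohB1.ProjSpace.toSpec n k = X ↘ Spec (CommRingCat.of k))
    [IsIntegral X] (hdim : topologicalKrullDim X = (2 : ℕ))
    (L L' : X.Modules) (hL : PicF.IsInvertible L) (hLL' : Nonempty (CohB1.tensorMod L L' ≅ Coh.structureModule X))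
    (hdeg : FGA.intNum k X 2 (Matrix.vecCons L' (fun _ : Fin 1 => ((Scheme.Modules.pullback i).obj (Twist.twistProjSpace n k (-1))))) (Coh.structureModule X) ≤ 0)
    (a : Fin 3 → ℤ)
    (ha : ∀ m : ℕ, FGA.eulerCharLE k X (Pic13.twistOn k i L m) 2 = ∑ j : Fin 3, a j * ((m + j).choose j : ℤ))
    (e : Fin 3 → ℤ)
    (he : ∀ m : ℕ, FGA.eulerCharLE k X (Pic13.twistOn k i (Coh.structureModule X) m) 2 = ∑ j : Fin 3, e j * ((m + j).choose j : ℤ)) :
    FGA.intNum k X 2 (Matrix.vecCons L' (fun _ : Fin 1 => L')) (Coh.structureModule X) + 2 * e 0 +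
        (2 * e 1 - a 1) * FGA.intNum k X 2 (Matrix.vecCons L' (fun _ : Fin 1 => ((Scheme.Modules.pullback i).obj (Twist.twistProjSpace n k (-1))))) (Coh.structureModule X) +
        (2 * e 2 - a 2) * (FGA.intNum k X 2 (Matrix.vecCons L' (fun _ : Fin 1 => ((Scheme.Modules.pullback i).obj (Twist.twistProjSpace n k (-1))))) (Coh.structureModule X) *
          (FGA.intNum k X 2 (Matrix.vecCons L' (fun _ : Fin 1 => ((Scheme.Modules.pullback i).obj (Twist.twistProjSpace n k (-1))))) (Coh.structureModule X) + 1) / 2) -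
        (FGA.intNum k X 2 (Matrix.vecCons L' (fun _ : Fin 1 => ((Scheme.Modules.pullback i).obj (Twist.twistProjSpace n k (-1))))) (Coh.structureModule X) * (e 2 - 1) + e 1) *
          (FGA.intNum k X 2 (Matrix.vecCons L' (fun _ : Fin 1 => ((Scheme.Modules.pullback i).obj (Twist.twistProjSpace n k (-1))))) (Coh.structureModule X) * (e 2 - 1) + e 1 + 1)
      ≤ a 0 := by
  haveI : IsProper (CohB1.ProjSpace.toSpec n k) := inferInstance
  haveI : IsProper (X ↘ Spec (CommRingCat.of k)) := hi ▸ inferInstanceAs (IsProper (i ≫ CohB1.ProjSpace.toSpec n k))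
  haveI := H28Int.isNoetherian k (X := X)
  let O := H12Pic.Gen.OP k i
  have h := H12Pic.Gen.emb_of_immersion k i
  have hd : topologicalKrullDim X ≤ ((2 : ℕ) : WithBot ℕ∞) := hdim.le
  have hdd := H12Pic.Gen.dd_pos k h hdim
  have hO : PicF.IsInvertible (Coh.structureModule X) := fun y => ⟨⊤, trivial, ⟨Scheme.Modules.restrictUnitIso _⟩⟩
  have hOc : Coh.IsCoh (Coh.structureModule X) := H10Coh.isCoh_structureModule' X
  have hdO : topologicalKrullDim (CohB1.support (Coh.structureModule X)) ≤ ((2 : ℕ) : WithBot ℕ∞) :=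
    (Topology.IsInducing.subtypeVal.topologicalKrullDim_le).trans hd
  obtain ⟨h2, h10, h00, h02⟩ := H12Pic.Gen.coeffs k h hd hL a ha
  obtain ⟨g2, g10, g00, g02⟩ := H12Pic.Gen.coeffs k h hd hO e he
  obtain ⟨eL⟩ := hLL'
  have hL' : PicF.IsInvertible L' := H16Derived.PBQC.isInvertible_of_inverse hL ⟨eL⟩
  obtain ⟨a11⟩ := h.setup.fam.add 1 (-1)
  obtain ⟨z⟩ := h.setup.fam.zero
  have c0 : ∀ F : X.Modules, Curv2.euler k X F = H12Pic.Gen.chi k O F 0 := fun F =>
    H25Euler.euler_congr ((H10Coh.Tw.rightUnitIso F).symm ≪≫ PicGrp.tensorModIso (Iso.refl F) z.symm)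
  have c1 : Curv2.euler k X (O 1) = H12Pic.Gen.chi k O (Coh.structureModule X) 1 :=
    (H12Pic.Gen.chi_structure k 1).symm
  -- the degree
  have hdeg' : H28Int.D k [L, O 1] (Coh.structureModule X) =
      FGA.intNum k X 2 (Matrix.vecCons L' (fun _ : Fin 1 => O (-1))) (Coh.structureModule X) := by
    have e : Matrix.vecCons L' (fun _ : Fin 1 => O (-1)) = ![L', O (-1)] := by
      funext j; fin_cases j <;> rfl
    rw [e, H12Pic.Hodge.intNum_inverses k hd (M := ![L, O 1]) (M' := ![L', O (-1)])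
      (fun j => by fin_cases j; exacts [hL, h.setup.fam.inv 1])
      (fun j => by fin_cases j; exacts [hL', h.setup.fam.inv (-1)])
      (fun j => by fin_cases j; exacts [⟨eL⟩, ⟨a11 ≪≫ eqToIso (congrArg O (by ring)) ≪≫ z⟩]) hOc hdO,
      show List.ofFn ![L, O 1] = [L, O 1] from rfl]
    simp [H22Alg.NefQ.Q]
  -- the square
  have hsq' : H28Int.D k [L', L'] (Coh.structureModule X) =
      FGA.intNum k X 2 (Matrix.vecCons L' (fun _ : Fin 1 => L')) (Coh.structureModule X) := by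
    rw [show Matrix.vecCons L' (fun _ : Fin 1 => L') = ![L', L'] from funext fun j => by fin_cases j <;> rfl,
      H28Int.intNum_eq k hd ![L', L'] (fun j => by fin_cases j <;> exact hL') hOc]
    rfl
  have hzero : ∀ A : X.Modules, PicF.IsInvertible A →
      H28Int.D k [L, A] (Coh.structureModule X) + H28Int.D k [L', A] (Coh.structureModule X) = 0 := fun A hA => by
    rw [← H28Int.D_cons_tensor k (l := [A]) (by simpa using hA) hL hL' hOc (by simpa using hdO)]
    show _ - _ = 0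
    rw [(H28Int.isAddFn_D k [A] (by simpa using hA)).congr
      (PicGrp.tensorModIso eL (Iso.refl _) ≪≫ H10Coh.Tw.leftUnitIso _), sub_self]
  have z1 := hzero (O 1) (h.setup.fam.inv 1)
  have z2 := hzero L' hL'
  change FGA.intNum k X 2 (Matrix.vecCons L' (fun _ : Fin 1 => O (-1))) (Coh.structureModule X) ≤ 0 at hdeg
  rw [← hdeg'] at hdeg
  show FGA.intNum k X 2 (Matrix.vecCons L' (fun _ : Fin 1 => L')) (Coh.structureModule X) + 2 * e 0 +
      (2 * e 1 - a 1) * FGA.intNum k X 2 (Matrix.vecCons L' (fun _ : Fin 1 => O (-1))) (Coh.structureModule X) +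
      (2 * e 2 - a 2) * (FGA.intNum k X 2 (Matrix.vecCons L' (fun _ : Fin 1 => O (-1))) (Coh.structureModule X) *
        (FGA.intNum k X 2 (Matrix.vecCons L' (fun _ : Fin 1 => O (-1))) (Coh.structureModule X) + 1) / 2) -
      (FGA.intNum k X 2 (Matrix.vecCons L' (fun _ : Fin 1 => O (-1))) (Coh.structureModule X) * (e 2 - 1) + e 1) *
        (FGA.intNum k X 2 (Matrix.vecCons L' (fun _ : Fin 1 => O (-1))) (Coh.structureModule X) * (e 2 - 1) + e 1 + 1)
      ≤ a 0
  rw [← hdeg', ← hsq']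
  set δ := H28Int.D k [L, O 1] (Coh.structureModule X) with hδ
  have eLL : Curv2.euler k X (CohB1.tensorMod L L') = Curv2.euler k X (Coh.structureModule X) :=
    H25Euler.euler_congr eL
  have eL1 : Curv2.euler k X (CohB1.tensorMod L (O 1)) = H12Pic.Gen.chi k O L 1 := rfl
  have eL'1 : Curv2.euler k X (CohB1.tensorMod L' (O 1)) = H12Pic.Gen.chi k O L' 1 := rfl
  have dLH := H12Pic.Gen.D_two (X := X) k (A := L) (B := O 1)
  have dL'H := H12Pic.Gen.D_two (X := X) k (A := L') (B := O 1)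
  have dLL := H12Pic.Gen.D_two (X := X) k (A := L) (B := L')
  rw [c0 (Coh.structureModule X), c0 L, c1, eL1, ← hδ] at dLH
  rw [c0 (Coh.structureModule X), c0 L', c1, eL'1] at dL'H
  rw [eLL, c0 (Coh.structureModule X), c0 L, c0 L'] at dLL
  -- the twisted inverse
  let M := CohB1.tensorMod L' (O δ)
  have hM : PicF.IsInvertible M := H11Ample.isInvertible_tensor hL' (h.setup.fam.inv δ)
  have hMj : ∀ j, H12Pic.Gen.chi k O M j = H12Pic.Gen.chi k O L' (δ + j) := H12Pic.Gen.chi_twist k h L' δ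
  obtain ⟨u0, v0⟩ := H12Pic.Gen.chi_quad k h hd hL' δ
  obtain ⟨u1, v1⟩ := H12Pic.Gen.chi_quad k h hd hL' (δ - 1)
  obtain ⟨w0, w1⟩ := H12Pic.Gen.chi_quad k h hd hL' 1
  obtain ⟨p0, p1⟩ := H12Pic.Gen.chi_quad k h hd hL 1
  obtain ⟨q0, q1⟩ := H12Pic.Gen.chi_quad k h hd hO 1
  rw [sub_self] at w1 p1 q1
  have m0 := hMj 0
  have m1 := hMj (-1)
  have m2 := hMj (-2)
  rw [add_zero] at m0
  rw [← sub_eq_add_neg] at m1 m2
  rw [show δ - 1 - 1 = δ - 2 by ring] at v1
  rw [← h2] at hdd u0 v0 u1 v1 w0 w1 p0 p1 q0 q1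
  have hae : a 2 = e 2 := h2.trans g2.symm
  have eM0 : H12Pic.Gen.chi k O L' 0 - H12Pic.Gen.chi k O L' (-1) = a 2 + e 1 - δ := by
    linarith
  have hneg : H12Pic.Gen.chi k O M 0 - H12Pic.Gen.chi k O M (-1) ≤
      H12Pic.Gen.chi k O (Coh.structureModule X) 0 - H12Pic.Gen.chi k O (Coh.structureModule X) (-1) := by
    have h1 : δ * (a 2 - 1) ≤ 0 := mul_nonpos_of_nonpos_of_nonneg hdeg (by omega)
    rw [m0, m1]
    linarith
  obtain ⟨c, hc, h2c, -, -⟩ := H12Pic.Gen.surface_bounds k h hdim hM hneg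
  have hcβ : (c : ℤ) = -(δ * (e 2 - 1) + e 1) := by
    rw [hc, m1, m2, ← hae]
    linarith
  have hpos : 0 ≤ (c : ℤ) * ((c : ℤ) - 1) := by
    rcases c with _ | c
    · simp
    · push_cast; nlinarith
  obtain ⟨y, hy⟩ : Even (δ * (δ + 1)) := Int.even_mul_succ_self δ
  rw [show δ * (δ + 1) / 2 = y by omega]
  rw [hcβ, m1] at h2c
  rw [hcβ] at hpos
  rw [← hae] at h2c hpos ⊢
  have ha1 : a 1 = e 1 + δ := by linarith
  have hy' : (2 : ℤ) * y = δ * (δ + 1) := by omega

  have hcalc : 2 * H12Pic.Gen.chi k O L' (δ - 1) = 2 * (H28Int.D k [L', L'] (Coh.structureModule X) + 2 * e 0 - a 0) +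
      2 * (2 * e 1 - a 1) * δ + a 2 * (2 * y) := by
    rw [hy']
    have : H12Pic.Gen.chi k O L' 0 = H28Int.D k [L', L'] (Coh.structureModule X) + 2 * H12Pic.Gen.chi k O (Coh.structureModule X) 0 -
        H12Pic.Gen.chi k O L 0 := by linarith
    rw [eM0, this] at u1
    have hl0 : H12Pic.Gen.chi k O L 0 = a 2 + a 1 + a 0 := by linarith
    have ho0 : H12Pic.Gen.chi k O (Coh.structureModule X) 0 = a 2 + e 1 + e 0 := by linarith
    rw [hl0, ho0] at u1
    linear_combination u1 + (2 * δ - 2) * ha1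
  linarith

end Groth.Agent.S5653
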