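import Groth.Statements.S5654
import Groth.Agent.H19Grp.ImageFactor
import Groth.Agent.H19Grp.AffineQuotient
import Groth.Agent.H11QAff.Basic
import Groth.Agent.H18Descent.Basic
import Groth.Agent.S3020

set_option autoImplicit false
set_option maxHeartbeats 1000000
set_option synthInstance.maxHeartbeats 100000
set_option linter.style.haveILetI false
set_option backward.isDefEq.respectTransparency false
universe u
open CategoryTheory MonoidalCategory CartesianMonoidalCategory MonObj GrpObj AlgebraicGeometry
open GrpSch

namespace Groth.Agent.S5654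

open CategoryTheory.Limits MonoidalCategory CartesianMonoidalCategory in
theorem isAffineHom_of_fppf_of_kernel {k : Type u} [Field k] {G C N : Over (Spec (CommRingCat.of k))} [GrpObj G] [GrpObj C]
    (p : G ⟶ C) [IsMonHom p] [Flat p.left] [Surjective p.left] [QuasiCompact p.left]
    (j : N ⟶ G) (hj : AlgGrp.IsKernel j p) [IsAffine N.left] : IsAffineHom p.left := by
  have hpb := ((H19Grp.isPullback_kernel p j hj).map (Over.forget _)).flip
  haveI : IsAffineHom N.hom := inferInstance
  have hfst : IsAffineHom (fst G N).left := MorphismProperty.pullback_fst (P := @IsAffineHom) G.hom N.hom ‹IsAffineHom N.hom›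
  refine MorphismProperty.of_pullback_snd_of_descendsAlong (P := @IsAffineHom) (Q := H18Descent.fpqc.{u})
    (f := p.left) (g := p.left) ⟨⟨‹Surjective p.left›, ‹Flat p.left›⟩, ‹QuasiCompact p.left›⟩ ?_
  have h : hpb.isoPullback.inv ≫ (fst G N).left = pullback.snd p.left p.left := hpb.isoPullback_inv_snd
  rw [← h]
  exact (MorphismProperty.cancel_left_of_respectsIso @IsAffineHom _ _).mpr hfst


/-- Let k be a field, P and Q group schemes locally of finite type over k and f : P ⟶ Q a homomorphism
of k-group schemes whose underlying morphism of schemes is quasi-affine. Then f is affine. -/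
theorem result (k : Type u) [Field k] (P Q : Over (Spec (CommRingCat.of k))) [GrpObj P] [GrpObj Q]
    [LocallyOfFiniteType P.hom] [LocallyOfFiniteType Q.hom] (f : P ⟶ Q) [IsMonHom f] (hf : Mor2.IsQuasiAffine f.left) :
    IsAffineHom f.left := by
  haveI : QuasiCompact f.left := hf.1
  haveI : IsSeparated Q.hom := H19Grp.AffineQuotient.isSeparated_of_grp Q
  haveI : LocallyOfFiniteType (f.left ≫ Q.hom) := by rw [Over.w f]; infer_instance
  haveI : LocallyOfFiniteType f.left := locallyOfFiniteType_of_comp f.left Q.hom
  obtain ⟨N, _, i, hi, _, hker⟩ := H19Grp.AffineQuotient.exists_kernel f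
  have hsq : IsPullback i.left N.hom f.left (MonObj.one (X := Q)).left := by
    have h1 := hker.map (Over.forget _)
    exact h1
  haveI : LocallyOfFiniteType N.hom := MorphismProperty.of_isPullback hsq inferInstance
  haveI : QuasiCompact N.hom := MorphismProperty.of_isPullback hsq inferInstance
  have hqa : Mor2.IsQuasiAffine N.hom := by
    rw [show N.hom = hsq.isoPullback.hom ≫ Limits.pullback.snd f.left (MonObj.one (X := Q)).left from
      hsq.isoPullback_hom_snd.symm]
    exact H11QAff.comp _ _ (H11QAff.of_isImmersion _) (H11QAff.baseChange _ hf _)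
  haveI : N.left.IsQuasiAffine :=
    haveI := hqa.2 ⊤ (isAffineOpen_top _)
    H11QAff.isQuasiAffine_of_iso (X := N.left) (Y := (N.hom ⁻¹ᵁ (⊤ : (Spec (CommRingCat.of k)).Opens) : Scheme.{u}))
      N.left.topIso.symm
  haveI : IsAffine N.left := S3020.result k N
  obtain ⟨C, _, p, c, hp, hc, hpc, _, _, _, _, _, _⟩ := H19Grp.ImageFactor.exists_image_factor P Q f (by
    have h : ∀ {X : Scheme.{u}} (g : X ⟶ Spec (CommRingCat.of k)), Flat g := fun g => inferInstance
    exact h _)
  haveI : Mono c := (Over.forget _).mono_of_mono_map (inferInstanceAs (Mono c.left))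
  have hkp : AlgGrp.IsKernel i p := H19Grp.isKernel_of
    (by rw [← cancel_mono c, Category.assoc, hpc, H19Grp.kernel_comp_eq_one hker, MonObj.one_comp c])
    (fun T a b hab => by haveI := H19Grp.kernel_mono hker; exact (cancel_mono i).mp hab)
    (fun T x hx => H19Grp.kernel_lift hker x (by rw [← hpc, ← Category.assoc, hx, MonObj.one_comp c]))
  haveI : IsAffineHom p.left := isAffineHom_of_fppf_of_kernel p i hkp
  rw [← hpc, Over.comp_left]
  infer_instance

end Groth.Agent.S5654
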