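import Groth.Statements.S5655
import Groth.Agent.H8Norm.NormalCover

set_option autoImplicit false
universe u
open CategoryTheory CategoryTheory.Limits AlgebraicGeometry
open FlatMor

namespace Groth.Agent.S5655

/-- Let S be an integral Noetherian scheme and f : X ⟶ S flat of finite type with geometrically integral
fibres. Then there are a nonempty open U ⊆ S, an integral scheme S' with a finite flat surjective
morphism h : S' ⟶ U, a scheme X' with a flat morphism q : X' ⟶ S' whose fibres are geometrically
integral and geometrically normal (normal after base change to any algebraically closed field), and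
a finite surjective morphism g : X' ⟶ X ×_S S' over S'. (The published statement says only that X is
an S-scheme integral over S, that is, flat over S with geometrically integral fibres; this row also
assumes f of finite type, and the fibres of q over all points of S' are nonempty.) -/
theorem result {X S : Scheme.{u}} [IsNoetherian S] [IsIntegral S]
    (f : X ⟶ S) [Flat f] [GeometricallyIntegral f] [LocallyOfFiniteType f] [QuasiCompact f] :
    ∃ (U : S.Opens) (S' : Scheme.{u}) (h : S' ⟶ (U : Scheme.{u})) (X' : Scheme.{u}) (q : X' ⟶ S')
      (g : X' ⟶ pullback f (h ≫ U.ι)),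
      (U : Set S).Nonempty ∧ IsIntegral S' ∧ IsFinite h ∧ Flat h ∧ Surjective h ∧
      Flat q ∧ GeometricallyIntegral q ∧
      (∀ (Ω : Type u) [Field Ω] [IsAlgClosed Ω] (σ : Spec (CommRingCat.of Ω) ⟶ S'), Pi1.IsNormalScheme (pullback q σ)) ∧
      IsFinite g ∧ Surjective g ∧ g ≫ pullback.snd f (h ≫ U.ι) = q := by
  exact H8Norm.NormalCover.main f

end Groth.Agent.S5655
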