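import Groth.Statements.S5656
import Mathlib.Algebra.Group.ForwardDiff
import Mathlib.RingTheory.Polynomial.Pochhammer
import Mathlib.RingTheory.Binomial
import Mathlib.Algebra.Polynomial.Roots
import Mathlib.Tactic

set_option autoImplicit false
universe u
open W4sga6xxiii

namespace Groth.Agent.S5656

open Polynomial

/-- A polynomial whose dilations by all `p ^ (-k)` are integer valued is constant. -/
theorem const_of_dilations (p : ℕ) (hp : 2 ≤ p) (Q : ℚ[X])
    (h : ∀ (k : ℕ) (n : ℤ), ∃ z : ℤ, Q.eval ((n : ℚ) / (p : ℚ) ^ k) = z) : Q.natDegree = 0 := by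
  by_contra hd
  set d := Q.natDegree
  set c := Q.leadingCoeff
  have hc : c ≠ 0 := leadingCoeff_ne_zero.2 fun h0 => hd (by simp [d, h0])
  have key : ∀ k : ℕ, ∃ z : ℤ, c * (1 / (p : ℚ) ^ k) ^ d * d.factorial = z := by
    intro k
    set s : ℚ := 1 / (p : ℚ) ^ k with hs
    have hs0 : s ≠ 0 := by
      have : (p : ℚ) ≠ 0 := by exact_mod_cast (show p ≠ 0 by omega)
      positivity
    set R := Q.comp (C s * X)
    have hdeg : R.natDegree = d := by rw [natDegree_comp, natDegree_C_mul_X s hs0, mul_one]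
    have hlc : R.leadingCoeff = c * s ^ d := by
      rw [leadingCoeff_comp (by rw [natDegree_C_mul_X s hs0]; exact one_ne_zero), leadingCoeff_mul, leadingCoeff_C,
        leadingCoeff_X, mul_one]
    have h1 := congrFun R.fwdDiff_iter_degree_eq_factorial 0
    simp only [hdeg, hlc, Pi.smul_apply, Pi.natCast_apply, smul_eq_mul] at h1
    rw [fwdDiff_iter_eq_sum_shift] at h1
    simp only [zero_add, nsmul_one] at h1
    choose z hz using fun j : ℕ => h k (j : ℤ)
    refine ⟨∑ j ∈ Finset.range (d + 1), ((-1 : ℤ) ^ (d - j) * (d.choose j : ℤ)) * z j, ?_⟩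
    rw [← h1]
    push_cast
    refine Finset.sum_congr rfl fun j _ => ?_
    rw [← hz j]
    simp only [R, eval_comp, eval_mul, eval_C, eval_X, zsmul_eq_mul, hs, Int.cast_natCast, one_div, div_eq_mul_inv]
    rw [mul_comm (j : ℚ)]
    push_cast
    ring_nf
  obtain ⟨k, hk⟩ : ∃ k : ℕ, |c| * d.factorial < (p : ℚ) ^ k := pow_unbounded_of_one_lt _ (by exact_mod_cast hp)
  obtain ⟨z, hz⟩ := key k
  have hpk : (0 : ℚ) < (p : ℚ) ^ k := pow_pos (by exact_mod_cast (show 0 < p by omega)) k
  have hz0 : z ≠ 0 := fun h0 => by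
    rw [h0, Int.cast_zero] at hz
    simp [hc, hpk.ne', d.factorial_ne_zero] at hz
  have hlt : |(z : ℚ)| < 1 := by
    rw [← hz, abs_mul, abs_mul, abs_pow, abs_of_pos (by positivity : (0 : ℚ) < 1 / (p : ℚ) ^ k), Nat.abs_cast]
    have h1 : (1 / (p : ℚ) ^ k) ^ d ≤ 1 / (p : ℚ) ^ k := by
      refine pow_le_of_le_one (by positivity) ?_ hd
      rw [div_le_one hpk]
      exact one_le_pow₀ (by exact_mod_cast (show 1 ≤ p by omega))
    calc |c| * (1 / (p : ℚ) ^ k) ^ d * (d.factorial : ℚ) ≤ |c| * (1 / (p : ℚ) ^ k) * d.factorial :=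
          mul_le_mul_of_nonneg_right (mul_le_mul_of_nonneg_left h1 (abs_nonneg c)) (Nat.cast_nonneg _)
      _ < 1 := by rw [mul_one_div, div_mul_eq_mul_div, div_lt_one hpk]; exact hk
  exact hz0 (Int.abs_lt_one_iff.1 (by exact_mod_cast hlt))

/-- A polynomial map is polynomial along a line. -/
theorem exists_poly {G : Type u} [AddCommGroup G] (f : G → ℚ) (hf : W4sga6xxiii.IsPolyMap f) (x : G) :
    ∃ P : ℚ[X], ∀ n : ℤ, f (n • x) = P.eval (n : ℚ) := by
  obtain ⟨m, y, -, hy⟩ := hf 1 ![x]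
  refine ⟨∑ k, C (y k / ((k 0 : ℕ).factorial : ℚ)) * descPochhammer ℚ (k 0 : ℕ), fun n => ?_⟩
  have h := hy ![n]
  simp only [Fin.sum_univ_one, Fin.prod_univ_one, Matrix.cons_val_zero] at h
  rw [h, eval_finsetSum]
  refine Finset.sum_congr rfl fun k _ => ?_
  have hf : ((k 0 : ℕ).factorial : ℚ) ≠ 0 := by exact_mod_cast (k 0 : ℕ).factorial_ne_zero
  have h2 : (descPochhammer ℤ (k 0 : ℕ)).eval n = ((k 0 : ℕ).factorial : ℤ) * Ring.choose n (k 0 : ℕ) := by
    rw [Polynomial.eval_eq_smeval, Ring.descPochhammer_eq_factorial_smul_choose, nsmul_eq_mul]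
  rw [eval_mul, eval_C, zsmul_eq_mul, mul_comm]
  have h3 : (descPochhammer ℚ (k 0 : ℕ)).eval (n : ℚ) = ((k 0 : ℕ).factorial : ℚ) * (Ring.choose n (k 0 : ℕ) : ℤ) := by
    rw [← descPochhammer_map (Int.castRingHom ℚ), Polynomial.eval_intCast_map, Int.cast_id, h2, eq_intCast]
    push_cast
    rfl
  rw [h3]
  field_simp

theorem eval_eq_const {P : ℚ[X]} (h : P.natDegree = 0) (a b : ℚ) : P.eval a = P.eval b := by
  rw [eq_C_of_natDegree_eq_zero h, eval_C, eval_C]

/-- Let G be an abelian group and G' ⊆ G a subgroup which is divisible by some prime number p (every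
element of G' is p times an element of G') and such that G/G' is a torsion group. Then every
polynomial map f : G → ℚ (admitting binomial expansions f(Σ n_i x_i) = Σ_k Π_i C(n_i, k_i) y_k along
every finite sequence x) which takes only integer values is constant. -/
theorem result {G : Type u} [AddCommGroup G] (G' : AddSubgroup G)
    (p : ℕ) (hp : p.Prime) (hdiv : ∀ x ∈ G', ∃ y ∈ G', p • y = x) (htor : ∀ x : G, ∃ n : ℤ, n ≠ 0 ∧ n • x ∈ G')
    (f : G → ℚ) (hf : W4sga6xxiii.IsPolyMap f) (hint : ∀ x, ∃ z : ℤ, f x = z) (x : G) : f x = f 0 := by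
  classical
  -- constancy on `G'`
  have hG' : ∀ z ∈ G', f z = f 0 := by
    intro z hz
    choose dv hdv using hdiv
    let s : ℕ → G' := Nat.rec ⟨z, hz⟩ fun _ a => ⟨dv a.1 a.2, (hdv a.1 a.2).1⟩
    have hs : ∀ k : ℕ, p • (s (k + 1)).1 = (s k).1 := fun k => (hdv (s k).1 (s k).2).2
    have hpk : ∀ k, ((p ^ k : ℕ) : ℤ) • (s k).1 = z := by
      intro k
      induction k with
      | zero => simp [s]
      | succ k ih => rw [natCast_zsmul, pow_succ, mul_nsmul', hs, ← natCast_zsmul, ih]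
    choose P hP using fun k => exists_poly f hf (s k).1
    have hrel : ∀ k, (P k).comp (C ((p : ℚ) ^ k) * X) = P 0 := fun k => by
      refine eq_of_infinite_eval_eq _ _ ((Set.infinite_range_of_injective (Int.cast_injective (α := ℚ))).mono ?_)
      rintro _ ⟨n, rfl⟩
      show _ = _
      have h1 : (n * ((p ^ k : ℕ) : ℤ)) • (s k).1 = n • z := by rw [mul_zsmul, hpk]
      have h2 := hP k (n * ((p ^ k : ℕ) : ℤ))
      rw [h1, show n • z = n • (s 0).1 from rfl, hP 0 n] at h2
      rw [eval_comp, eval_mul, eval_C, eval_X, h2]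
      push_cast; ring_nf
    have hd : (P 0).natDegree = 0 := by
      refine const_of_dilations p hp.two_le _ fun k n => ?_
      obtain ⟨zz, hzz⟩ := hint (n • (s k).1)
      refine ⟨zz, ?_⟩
      rw [← hzz, hP k n, ← hrel k, eval_comp, eval_mul, eval_C, eval_X]
      congr 1
      have : (p : ℚ) ^ k ≠ 0 := pow_ne_zero k (by exact_mod_cast hp.ne_zero)
      field_simp
    have h1 := hP 0 1
    have h0 := hP 0 0
    rw [one_zsmul] at h1
    rw [zero_zsmul] at h0
    rw [show f z = f (s 0).1 from rfl, h1, h0]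
    exact eval_eq_const hd _ _
  obtain ⟨P, hP⟩ := exists_poly f hf x
  obtain ⟨n, hn, hnx⟩ := htor x
  have hPc : P = Polynomial.C (f 0) := by
    refine Polynomial.eq_of_infinite_eval_eq _ _ ((Set.infinite_range_of_injective (f := fun t : ℤ => ((t * n : ℤ) : ℚ))
      fun a b h => mul_right_cancel₀ hn (Int.cast_injective h)).mono ?_)
    rintro _ ⟨t, rfl⟩
    show _ = _
    rw [← hP, Polynomial.eval_C]
    exact hG' _ (by rw [mul_zsmul]; exact G'.zsmul_mem hnx t)
  have h := hP 1
  rwa [one_zsmul, hPc, Polynomial.eval_C] at h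

end Groth.Agent.S5656
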