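import Groth.Statements.S5657
import Mathlib.RingTheory.Binomial

set_option autoImplicit false
universe u
open TensorProduct
open W4sga6xxiii

namespace Groth.Agent.S5657

open scoped TensorProduct

theorem zpow_eq_sum {A : Type u} [CommRing A] (m : ℕ) (u : Aˣ) (y : A) (hu : (u : A) = 1 + y)
    (hy : y ^ (m + 1) = 0) (n : ℤ) :
    ((u ^ n : Aˣ) : A) = ∑ j : Fin (m + 1), ((Ring.choose n (j : ℕ) : ℤ) : A) * y ^ (j : ℕ) := by
  let g : ℤ → A := fun n => ∑ j ∈ Finset.range (m + 1), ((Ring.choose n j : ℤ) : A) * y ^ j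
  have hstep : ∀ n, g (n + 1) = g n * u := fun n => by
    have h1 : g n * y = ∑ j ∈ Finset.range m, ((Ring.choose n j : ℤ) : A) * y ^ (j + 1) := by
      simp only [g, Finset.sum_mul]
      rw [Finset.sum_range_succ, mul_assoc _ (y ^ m) y, ← pow_succ, hy, mul_zero, add_zero]
      exact Finset.sum_congr rfl fun j _ => by rw [pow_succ, mul_assoc]
    rw [hu, mul_add, mul_one, h1]
    simp only [g]
    rw [Finset.sum_range_succ', Finset.sum_range_succ']
    rw [add_right_comm, ← Finset.sum_add_distrib]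
    refine congrArg₂ (· + ·) (Finset.sum_congr rfl fun j _ => ?_) (by simp)
    rw [Ring.choose_succ_succ, Int.cast_add, add_mul, add_comm]
  have h0 : g 0 = 1 := by
    simp only [g]
    rw [Finset.sum_range_succ']
    simp [Ring.choose_zero_succ]
  rw [Fin.sum_univ_eq_sum_range (fun j => ((Ring.choose n j : ℤ) : A) * y ^ j)]
  show _ = g n
  induction n using Int.induction_on with
  | zero => simp [h0]
  | succ i ih => rw [hstep, ← ih, zpow_add_one, Units.val_mul]
  | pred i ih =>
    refine (u.mul_left_inj).1 ?_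
    rw [← Units.val_mul, ← zpow_add_one, ← hstep, sub_add_cancel, ih]

/-- Let A be a commutative ring, I an ideal of A with I^{m+1} = 0, and P ⊆ Aˣ the subgroup of units of
the form 1 + y with y ∈ I. Then the map P → A ⊗_ℤ ℚ, x ↦ x ⊗ 1, is a polynomial map of degree ≤ m on
the abelian group P (written additively): along every finite sequence x_1, …, x_r in P one has
x_1^{n_1}⋯x_r^{n_r} ⊗ 1 = Σ_k Π_i C(n_i, k_i) y_k with y_k = 0 whenever k_1 + ⋯ + k_r > m. -/
theorem result (A : Type u) [CommRing A] (I : Ideal A) (m : ℕ) (hI : I ^ (m + 1) = ⊥)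
    (P : Subgroup Aˣ) (hP : ∀ u : Aˣ, u ∈ P ↔ (u : A) - 1 ∈ I) :
    W4sga6xxiii.IsPolyMapLE (fun u : Additive P => (((Additive.toMul u : P) : Aˣ) : A) ⊗ₜ[ℤ] (1 : ℚ)) m := by
  intro r x
  classical
  set U : Fin r → Aˣ := fun i => ((Additive.toMul (x i) : P) : Aˣ)
  set y : Fin r → A := fun i => (U i : A) - 1
  have hy : ∀ i, y i ∈ I := fun i => (hP _).1 (Additive.toMul (x i) : P).2
  refine ⟨fun k => (∏ i, y i ^ (k i : ℕ)) ⊗ₜ[ℤ] (1 : ℚ), fun k hk => ?_, fun n => ?_⟩
  · have h1 : ∀ s : Finset (Fin r), ∏ i ∈ s, y i ^ (k i : ℕ) ∈ I ^ (∑ i ∈ s, (k i : ℕ)) := by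
      intro s
      induction s using Finset.induction with
      | empty => simp
      | insert i s hi ih =>
        rw [Finset.prod_insert hi, Finset.sum_insert hi, pow_add]
        exact Ideal.mul_mem_mul (Ideal.pow_mem_pow (hy i) _) ih
    have h2 := Ideal.pow_le_pow_right (I := I) (show m + 1 ≤ ∑ i, (k i : ℕ) from hk) (h1 Finset.univ)
    rw [hI, Ideal.mem_bot] at h2
    simp only [h2, TensorProduct.zero_tmul]
  · have hn : ∀ i, y i ^ (m + 1) = 0 := fun i => by
      have := Ideal.pow_mem_pow (hy i) (m + 1)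
      rwa [hI, Ideal.mem_bot] at this
    have e : (((Additive.toMul (∑ i, n i • x i) : P) : Aˣ) : A) = ∏ i, ((U i ^ n i : Aˣ) : A) := by
      rw [toMul_sum]
      push_cast
      simp [U, toMul_zsmul]
    show _ ⊗ₜ[ℤ] (1 : ℚ) = _
    rw [e, Finset.prod_congr rfl fun i _ => zpow_eq_sum m (U i) (y i) (by simp [y]) (hn i) (n i),
      Fintype.prod_sum, TensorProduct.sum_tmul]
    refine Finset.sum_congr rfl fun k _ => ?_
    rw [Finset.prod_mul_distrib, TensorProduct.smul_tmul', zsmul_eq_mul, Int.cast_prod]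

end Groth.Agent.S5657
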