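import Groth.Statements.S5658
import Groth.Agent.H1CAlg.GLAbelianization
import Mathlib.RingTheory.Etale.StandardEtale
import Mathlib.RingTheory.Localization.AtPrime.Basic
import Mathlib.RingTheory.Localization.Away.Basic
import Mathlib.FieldTheory.IsAlgClosed.AlgebraicClosure
import Mathlib.GroupTheory.Commutator.Basic
import Mathlib.RingTheory.LocalRing.ResidueField.Ideal
import Mathlib.LinearAlgebra.Matrix.SpecialLinearGroup
import Mathlib.RingTheory.Spectrum.Prime.Basic
import Mathlib.Tactic.LinearCombination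
import Mathlib.Tactic.NormNum

set_option autoImplicit false
universe u
open CAlg

namespace Groth.Agent.S5658


theorem exists_etale_unit (A : Type u) [CommRing A] (p : Ideal A) [p.IsPrime] (Ω : Type u) [Field Ω] [IsAlgClosed Ω]
    [Algebra A Ω] (hker : ∀ a, algebraMap A Ω a = 0 ↔ a ∈ p) :
    ∃ (A1 : Type u) (_ : CommRing A1) (_ : Algebra A A1) (_ : Algebra.Etale A A1) (_ : A1 →ₐ[A] Ω) (u : A1),
      IsUnit u ∧ IsUnit (u - 1) := by
  by_cases h2 : (2 : A) ∈ p
  · have h3 : algebraMap A Ω (-3) ≠ 0 := fun h => by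
      have h3' : (3 : A) ∈ p := by simpa using (hker _).mp h
      exact ‹p.IsPrime›.ne_top ((Ideal.eq_top_iff_one p).mpr (by
        have := p.sub_mem h3' h2; norm_num at this; exact this))
    haveI : Nontrivial A := nontrivial_of_ne 0 1 fun h => ‹p.IsPrime›.ne_top ((Ideal.eq_top_iff_one p).mpr (h ▸ zero_mem p))
    let f : Polynomial A := Polynomial.X ^ 2 + Polynomial.X + 1
    have hfm : f.Monic := by simp only [f]; monicity!
    let P : StandardEtalePair A :=
      { f := f
        monic_f := hfm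
        g := Polynomial.C (-3)
        cond := ⟨Polynomial.C 2 * Polynomial.X + 1, Polynomial.C (-4), 1, by
          simp only [f, Polynomial.derivative_add, Polynomial.derivative_X_pow, Polynomial.derivative_X,
            Polynomial.derivative_one, map_neg, map_ofNat, Nat.cast_ofNat]
          ring⟩ }
    obtain ⟨r, hr⟩ := IsAlgClosed.exists_aeval_eq_zero Ω (f.map (algebraMap A Ω)) (by
      rw [hfm.degree_map]
      have : f.degree = 2 := by simp only [f]; compute_degree!
      rw [this]; norm_num)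
    have hr' : Polynomial.aeval r f = 0 := by
      rwa [Polynomial.aeval_map_algebraMap] at hr
    have hmap : P.HasMap r := ⟨hr', by
      show IsUnit (Polynomial.aeval r (Polynomial.C (-3)))
      rw [Polynomial.aeval_C]; exact isUnit_iff_ne_zero.mpr h3⟩
    refine ⟨P.Ring, inferInstance, inferInstance, inferInstance, P.lift r hmap, P.X, ?_⟩
    obtain ⟨hX, hg⟩ := P.hasMap_X
    have hX' : P.X ^ 2 + P.X + 1 = 0 := by simpa [P, f] using hX
    have hg' : IsUnit (-3 : P.Ring) := by
      have : IsUnit (Polynomial.aeval P.X (Polynomial.C (-3 : A))) := hg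
      rwa [Polynomial.aeval_C, map_neg, map_ofNat] at this
    refine ⟨IsUnit.of_mul_eq_one (-(P.X + 1)) (by linear_combination (-1 : P.Ring) * hX'), ?_⟩
    exact isUnit_of_mul_isUnit_left (y := P.X + 2) (by
      rwa [show (P.X - 1) * (P.X + 2) = -3 by linear_combination hX'])
  · have h2' : IsUnit (algebraMap A Ω 2) := isUnit_iff_ne_zero.mpr fun h => h2 ((hker 2).mp h)
    haveI : Algebra.Etale A (Localization.Away (2 : A)) := Algebra.Etale.of_isLocalizationAway 2
    refine ⟨Localization.Away (2 : A), inferInstance, inferInstance, inferInstance,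
      IsLocalization.liftAlgHom (M := Submonoid.powers (2 : A)) (f := Algebra.ofId A Ω) ?_, -1, isUnit_one.neg, ?_⟩
    · rintro ⟨_, k, rfl⟩
      show IsUnit (algebraMap A Ω (2 ^ k))
      rw [map_pow]; exact h2'.pow k
    · have h := IsLocalization.Away.algebraMap_isUnit (S := Localization.Away (2 : A)) (2 : A)
      rw [map_ofNat] at h
      rw [show (-1 : Localization.Away (2 : A)) - 1 = -2 by ring]
      exact h.neg

open scoped commutatorElement in
theorem exists_away_mem_commutator {B : Type u} [CommRing B] (q : Ideal B) [q.IsPrime] {n : ℕ}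
    (s : Matrix.GeneralLinearGroup (Fin n) B)
    (hs : Matrix.GeneralLinearGroup.map (algebraMap B (Localization.AtPrime q)) s ∈
      commutator (Matrix.GeneralLinearGroup (Fin n) (Localization.AtPrime q))) :
    ∃ g ∉ q, Matrix.GeneralLinearGroup.map (algebraMap B (Localization.Away g)) s ∈
      commutator (Matrix.GeneralLinearGroup (Fin n) (Localization.Away g)) := by
  classical
  let L := Localization.AtPrime q
  let ψ : ∀ g, g ∉ q → (Localization.Away g →ₐ[B] L) := fun g hg =>
    IsLocalization.liftAlgHom (M := Submonoid.powers g) (f := Algebra.ofId B L) (by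
      rintro ⟨_, k, rfl⟩
      show IsUnit (algebraMap B L (g ^ k))
      rw [map_pow]
      exact (IsLocalization.map_units L (⟨g, hg⟩ : q.primeCompl)).pow k)
  have hunit : ∀ g h : B, g ∣ h → IsUnit (algebraMap B (Localization.Away h) g) := fun g h hgh =>
    isUnit_of_dvd_unit (map_dvd (algebraMap B (Localization.Away h)) hgh) (IsLocalization.Away.algebraMap_isUnit h)
  let T : ∀ g h : B, g ∣ h → (Localization.Away g →ₐ[B] Localization.Away h) := fun g h hgh =>
    IsLocalization.liftAlgHom (M := Submonoid.powers g) (f := Algebra.ofId B (Localization.Away h)) (by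
      rintro ⟨_, k, rfl⟩
      show IsUnit (algebraMap B (Localization.Away h) (g ^ k))
      rw [map_pow]
      exact (hunit g h hgh).pow k)
  have hψT : ∀ g h (hgh : g ∣ h) (hg : g ∉ q) (hh : h ∉ q), (ψ h hh).comp (T g h hgh) = ψ g hg :=
    fun g h hgh hg hh => IsLocalization.algHom_ext (Submonoid.powers g) (Subsingleton.elim _ _)
  have hmapT : ∀ g h (hgh : g ∣ h) (hg : g ∉ q) (hh : h ∉ q) (y : (Matrix.GeneralLinearGroup (Fin n) (Localization.Away g))),
      Matrix.GeneralLinearGroup.map (ψ h hh).toRingHom (Matrix.GeneralLinearGroup.map (T g h hgh).toRingHom y) =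
        Matrix.GeneralLinearGroup.map (ψ g hg).toRingHom y := by
    intro g h hgh hg hh y
    ext i j
    show (ψ h hh) ((T g h hgh) ((y : Matrix (Fin n) (Fin n) (Localization.Away g)) i j)) = ψ g hg _
    rw [← AlgHom.comp_apply, hψT g h hgh hg hh]
  -- products of denominators
  have hprod : ∀ (ι : Type) [Fintype ι] (t : ι → B), (∀ i, t i ∉ q) → ∏ i, t i ∉ q := fun ι _ t ht h => by
    obtain ⟨i, -, hi⟩ := (Ideal.IsPrime.prod_mem_iff).mp h
    exact ht i hi
  have hmul : ∀ g h : B, g ∉ q → h ∉ q → g * h ∉ q := fun g h hg hh hgh =>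
    (Ideal.IsPrime.mem_or_mem ‹_› hgh).elim hg hh
  -- equalities descend
  have heq : ∀ g (hg : g ∉ q) (M M' : Matrix (Fin n) (Fin n) (Localization.Away g)),
      (ψ g hg).toRingHom.mapMatrix M = (ψ g hg).toRingHom.mapMatrix M' →
      ∃ h, ∃ hgh : g ∣ h, h ∉ q ∧ (T g h hgh).toRingHom.mapMatrix M = (T g h hgh).toRingHom.mapMatrix M' := by
    intro g hg M M' he
    have hel : ∀ ij : Fin n × Fin n, ∃ t, t ∉ q ∧ ∀ h (hgh : g ∣ h), t ∣ h →
        T g h hgh (M ij.1 ij.2) = T g h hgh (M' ij.1 ij.2) := by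
      intro ij
      obtain ⟨a, ⟨d, k, rfl⟩, hz⟩ := IsLocalization.exists_mk'_eq (Submonoid.powers g) (M ij.1 ij.2 - M' ij.1 ij.2)
      have h0 : ψ g hg (M ij.1 ij.2 - M' ij.1 ij.2) = 0 := by
        rw [map_sub, sub_eq_zero]
        exact congrFun (congrFun he ij.1) ij.2
      have ha : algebraMap B L a = 0 := by
        have h1 := congrArg (ψ g hg) (IsLocalization.mk'_spec (Localization.Away g) a (⟨g ^ k, k, rfl⟩ : Submonoid.powers g))
        rw [map_mul, hz, h0, zero_mul, AlgHom.commutes] at h1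
        exact h1.symm
      obtain ⟨⟨t, ht⟩, hta⟩ := (IsLocalization.map_eq_zero_iff q.primeCompl L a).mp ha
      refine ⟨t, ht, fun h hgh hth => ?_⟩
      rw [← sub_eq_zero, ← map_sub, ← hz]
      have h2 : algebraMap B (Localization.Away h) a = 0 := by
        apply (hunit t h hth).mul_right_eq_zero.mp
        rw [← map_mul, hta, map_zero]
      have h3 := congrArg (T g h hgh) (IsLocalization.mk'_spec (Localization.Away g) a (⟨g ^ k, k, rfl⟩ : Submonoid.powers g))
      rw [map_mul, AlgHom.commutes, AlgHom.commutes, h2] at h3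
      exact ((hunit g h hgh).pow k).mul_left_eq_zero.mp (by rw [← map_pow]; exact h3)
    choose t ht hte using hel
    refine ⟨g * ∏ ij, t ij, Dvd.intro _ rfl, hmul _ _ hg (hprod _ t ht), ?_⟩
    ext i j
    exact hte (i, j) (g * ∏ ij, t ij) (Dvd.intro _ rfl) (Dvd.dvd.mul_left (Finset.dvd_prod_of_mem t (Finset.mem_univ (i, j))) g)
  -- matrices descend
  have hdesc : ∀ M : Matrix (Fin n) (Fin n) L, ∃ g, ∃ hg : g ∉ q,
      ∃ M₀ : Matrix (Fin n) (Fin n) (Localization.Away g), (ψ g hg).toRingHom.mapMatrix M₀ = M := by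
    intro M
    choose a d hd using fun ij : Fin n × Fin n => IsLocalization.exists_mk'_eq q.primeCompl (M ij.1 ij.2)
    refine ⟨∏ ij, (d ij : B), hprod _ _ fun ij => (d ij).2,
      fun i j => algebraMap B _ (a (i, j)) * ↑(hunit (d (i, j) : B) (∏ ij, (d ij : B))
        (Finset.dvd_prod_of_mem (fun ij => (d ij : B)) (Finset.mem_univ (i, j)))).unit⁻¹, ?_⟩
    ext i j
    rw [RingHom.mapMatrix_apply, Matrix.map_apply, ← hd (i, j)]
    rw [eq_comm, IsLocalization.mk'_eq_iff_eq_mul]
    let ψ0 := ψ (∏ ij, (d ij : B)) (hprod _ _ fun ij => (d ij).2)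
    have key : ∀ x, ψ0 (algebraMap B _ x) = algebraMap B L x := fun x => AlgHom.commutes _ x
    rw [← key, ← key (d (i, j) : B)]
    show ψ0 _ = ψ0 _ * ψ0 _
    rw [← map_mul]
    congr 1
    rw [mul_assoc, IsUnit.val_inv_mul, mul_one]
  have hlift : ∀ x : (Matrix.GeneralLinearGroup (Fin n) L), ∃ g, ∃ hg : g ∉ q, ∃ y : (Matrix.GeneralLinearGroup (Fin n) (Localization.Away g)),
      Matrix.GeneralLinearGroup.map (ψ g hg).toRingHom y = x := by
    intro x
    obtain ⟨g₁, hg₁, M, hM⟩ := hdesc (x : Matrix (Fin n) (Fin n) L)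
    obtain ⟨g₂, hg₂, N, hN⟩ := hdesc ((x⁻¹ : (Matrix.GeneralLinearGroup (Fin n) L)) : Matrix (Fin n) (Fin n) L)
    have hg := hmul g₁ g₂ hg₁ hg₂
    let M' := (T g₁ (g₁ * g₂) (dvd_mul_right _ _)).toRingHom.mapMatrix M
    let N' := (T g₂ (g₁ * g₂) (dvd_mul_left _ _)).toRingHom.mapMatrix N
    have hM' : (ψ _ hg).toRingHom.mapMatrix M' = x := by
      rw [← hM]; ext i j
      show ψ _ hg (T g₁ (g₁ * g₂) (dvd_mul_right _ _) (M i j)) = ψ g₁ hg₁ (M i j)
      rw [← AlgHom.comp_apply, hψT g₁ (g₁ * g₂) (dvd_mul_right _ _) hg₁ hg]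
    have hN' : (ψ _ hg).toRingHom.mapMatrix N' = (x⁻¹ : (Matrix.GeneralLinearGroup (Fin n) L)) := by
      rw [← hN]; ext i j
      show ψ _ hg (T g₂ (g₁ * g₂) (dvd_mul_left _ _) (N i j)) = ψ g₂ hg₂ (N i j)
      rw [← AlgHom.comp_apply, hψT g₂ (g₁ * g₂) (dvd_mul_left _ _) hg₂ hg]
    obtain ⟨h, hgh, hh, he⟩ := heq _ hg (M' * N') 1 (by rw [map_mul, hM', hN', map_one, Units.mul_inv])
    rw [map_mul, map_one] at he
    refine ⟨h, hh, ⟨_, _, he, mul_eq_one_comm.mp he⟩, ?_⟩
    ext i j
    show ψ h hh (T _ h hgh (M' i j)) = _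
    rw [← AlgHom.comp_apply, hψT _ h hgh hg hh]
    exact congrFun (congrFun hM' i) j
  have hTc : ∀ g h (hgh : g ∣ h) (y : (Matrix.GeneralLinearGroup (Fin n) (Localization.Away g))), y ∈ commutator ((Matrix.GeneralLinearGroup (Fin n) (Localization.Away g))) →
      Matrix.GeneralLinearGroup.map (T g h hgh).toRingHom y ∈ commutator ((Matrix.GeneralLinearGroup (Fin n) (Localization.Away h))) := by
    intro g h hgh y hy
    have := Subgroup.map_commutator (⊤ : Subgroup ((Matrix.GeneralLinearGroup (Fin n) (Localization.Away g)))) ⊤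
      (Matrix.GeneralLinearGroup.map (T g h hgh).toRingHom)
    have h1 := Subgroup.mem_map_of_mem (Matrix.GeneralLinearGroup.map (T g h hgh).toRingHom) hy
    rw [commutator_def, this] at h1
    exact Subgroup.commutator_mono le_top le_top h1
  have hall : ∀ x ∈ commutator ((Matrix.GeneralLinearGroup (Fin n) L)), ∃ g, ∃ hg : g ∉ q, ∃ y ∈ commutator ((Matrix.GeneralLinearGroup (Fin n) (Localization.Away g))),
      Matrix.GeneralLinearGroup.map (ψ g hg).toRingHom y = x := by
    intro x hx
    rw [commutator_eq_closure] at hx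
    induction hx using Subgroup.closure_induction with
    | mem x hx =>
      obtain ⟨a, b, rfl⟩ := hx
      obtain ⟨g₁, hg₁, a', rfl⟩ := hlift a
      obtain ⟨g₂, hg₂, b', rfl⟩ := hlift b
      have hg := hmul g₁ g₂ hg₁ hg₂
      refine ⟨g₁ * g₂, hg, ⁅Matrix.GeneralLinearGroup.map (T g₁ (g₁ * g₂) (dvd_mul_right _ _)).toRingHom a',
        Matrix.GeneralLinearGroup.map (T g₂ (g₁ * g₂) (dvd_mul_left _ _)).toRingHom b'⁆,
        Subgroup.commutator_mem_commutator (Subgroup.mem_top _) (Subgroup.mem_top _), ?_⟩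
      rw [map_commutatorElement, hmapT g₁ (g₁ * g₂) (dvd_mul_right _ _) hg₁ hg, hmapT g₂ (g₁ * g₂) (dvd_mul_left _ _) hg₂ hg]
    | one => exact ⟨1, fun h => ‹q.IsPrime›.ne_top ((Ideal.eq_top_iff_one q).mpr h), 1, one_mem _, map_one _⟩
    | mul a b _ _ ha hb =>
      obtain ⟨g₁, hg₁, a', ha', rfl⟩ := ha
      obtain ⟨g₂, hg₂, b', hb', rfl⟩ := hb
      have hg := hmul g₁ g₂ hg₁ hg₂
      refine ⟨g₁ * g₂, hg, _, mul_mem (hTc g₁ (g₁ * g₂) (dvd_mul_right _ _) a' ha') (hTc g₂ (g₁ * g₂) (dvd_mul_left _ _) b' hb'), ?_⟩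
      rw [map_mul, hmapT g₁ (g₁ * g₂) (dvd_mul_right _ _) hg₁ hg, hmapT g₂ (g₁ * g₂) (dvd_mul_left _ _) hg₂ hg]
    | inv a _ ha =>
      obtain ⟨g, hg, a', ha', rfl⟩ := ha
      exact ⟨g, hg, a'⁻¹, inv_mem ha', map_inv _ _⟩
  obtain ⟨g, hg, y, hy, hys⟩ := hall _ hs
  obtain ⟨h, hgh, hh, he⟩ := heq g hg (y : Matrix (Fin n) (Fin n) (Localization.Away g))
    ((algebraMap B (Localization.Away g)).mapMatrix (s : Matrix (Fin n) (Fin n) B)) (by
      ext i j
      refine (congrArg (fun z : Matrix.GeneralLinearGroup (Fin n) L => (z : Matrix (Fin n) (Fin n) L) i j) hys).trans ?_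
      exact ((ψ g hg).commutes _).symm)
  refine ⟨h, hh, ?_⟩
  convert hTc g h hgh y hy using 1
  ext i j
  refine ((congrFun (congrFun he i) j).trans ?_).symm
  exact (T g h hgh).commutes _

/-- On the big étale site of a scheme the sheaf of commutator subgroups of Gl(n) is Sl(n) = Ker(det).
Concretely: let A be a commutative ring, n ≥ 0, s ∈ SL_n(A) and p a prime ideal of A. Then there are
an étale A-algebra A' with a prime ideal lying over p such that the image of s in GL_n(A') lies in
the commutator subgroup of GL_n(A'). (The inclusion of commutators in SL_n being clear, this is the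
content of the statement.) -/
theorem result (A : Type u) [CommRing A] (n : ℕ)
    (s : Matrix.SpecialLinearGroup (Fin n) A) (p : PrimeSpectrum A) :
    ∃ (A' : Type u) (_ : CommRing A') (_ : Algebra A A'), Algebra.Etale A A' ∧
      (∃ q : PrimeSpectrum A', q.asIdeal.comap (algebraMap A A') = p.asIdeal) ∧
      (Matrix.GeneralLinearGroup.map (algebraMap A A')) (Matrix.SpecialLinearGroup.toGL s) ∈
        commutator (Matrix.GeneralLinearGroup (Fin n) A') := by

  classical
  let Ω := AlgebraicClosure p.asIdeal.ResidueField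
  obtain ⟨A1, _, _, hA1, φ, u, hu, hu1⟩ := exists_etale_unit A p.asIdeal Ω (fun a => by
    rw [IsScalarTower.algebraMap_apply A p.asIdeal.ResidueField Ω,
      map_eq_zero_iff _ (algebraMap p.asIdeal.ResidueField Ω).injective, Ideal.algebraMap_residueField_eq_zero])
  let q : Ideal A1 := RingHom.ker φ.toRingHom
  haveI : q.IsPrime := RingHom.ker_isPrime _
  let s1 : Matrix.GeneralLinearGroup (Fin n) A1 :=
    Matrix.GeneralLinearGroup.map (algebraMap A A1) (Matrix.SpecialLinearGroup.toGL s)
  have hdet : Matrix.GeneralLinearGroup.det (Matrix.GeneralLinearGroup.map (algebraMap A1 (Localization.AtPrime q)) s1) = 1 := by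
    ext
    rw [Matrix.GeneralLinearGroup.val_det_apply, Units.val_one]
    show ((algebraMap A1 (Localization.AtPrime q)).mapMatrix ((algebraMap A A1).mapMatrix (s : Matrix (Fin n) (Fin n) A))).det = 1
    rw [← RingHom.map_det, ← RingHom.map_det, s.2, map_one, map_one]
  have hcomm := H1CAlg.GLAb.mem_commutator_of_det_eq_one (hu.map (algebraMap A1 (Localization.AtPrime q)))
    (by rw [← map_one (algebraMap A1 (Localization.AtPrime q)), ← map_sub]; exact hu1.map _) _ hdet
  obtain ⟨g, hg, hgs⟩ := exists_away_mem_commutator q s1 hcomm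
  have hφg : IsUnit (φ g) := isUnit_iff_ne_zero.mpr hg
  let φ' : Localization.Away g →ₐ[A] Ω := IsLocalization.liftAlgHom (M := Submonoid.powers g) (f := φ) (by
    rintro ⟨_, k, rfl⟩
    rw [map_pow]; exact hφg.pow k)
  refine ⟨Localization.Away g, inferInstance, inferInstance, ?_,
    ⟨⟨RingHom.ker φ'.toRingHom, RingHom.ker_isPrime _⟩, ?_⟩, ?_⟩
  · haveI : Algebra.Etale A1 (Localization.Away g) := Algebra.Etale.of_isLocalizationAway g
    exact Algebra.Etale.comp A A1 (Localization.Away g)
  · ext a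
    rw [Ideal.mem_comap, RingHom.mem_ker]
    show φ' (algebraMap A _ a) = 0 ↔ _
    rw [AlgHom.commutes, IsScalarTower.algebraMap_apply A p.asIdeal.ResidueField Ω,
      map_eq_zero_iff _ (algebraMap p.asIdeal.ResidueField Ω).injective, Ideal.algebraMap_residueField_eq_zero]
  · convert hgs using 1
    ext i j
    show algebraMap A (Localization.Away g) _ = algebraMap A1 (Localization.Away g) (algebraMap A A1 _)
    rw [← IsScalarTower.algebraMap_apply]

end Groth.Agent.S5658
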