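import Groth.Statements.S5659
import Groth.Agent.S5658
import Groth.Agent.H1CAlg.GLAbelianization
import Mathlib.Algebra.MonoidAlgebra.Basic
import Mathlib.RingTheory.Flat.EquationalCriterion
import Mathlib.RingTheory.Spectrum.Prime.Topology
import Mathlib.RingTheory.Etale.Basic
import Mathlib.RingTheory.Smooth.Flat
import Mathlib.LinearAlgebra.Matrix.SpecialLinearGroup

set_option autoImplicit false
universe u
open CAlg

namespace Groth.Agent.S5659

/-- Every homomorphism of group sheaves Gl(n_1) × ⋯ × Gl(n_r) → G_m is (s_1, …, s_r) ↦ det(s_1)^{m_1} ⋯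
det(s_r)^{m_r} with locally constant integers m_i uniquely determined by it. Concretely, over a
commutative ring R whose prime spectrum is connected and for ranks n_i ≥ 1: every family of group
homomorphisms α_B : GL_{n_1}(B) × ⋯ × GL_{n_r}(B) → Bˣ, one for each commutative R-algebra B and
natural in B, is given by α_B(s) = Π_i det(s_i)^{m_i} for a unique m ∈ ℤ^r. (The published statement
allows ranks n_i ≥ 0; uniqueness of m_i needs n_i ≥ 1, since Gl(0) is trivial.) -/
theorem result (R : Type u) [CommRing R] [ConnectedSpace (PrimeSpectrum R)]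
    (r : ℕ) (n : Fin r → ℕ) (hn : ∀ i, 0 < n i)
    (α : ∀ (B : Type u) [CommRing B] [Algebra R B], (∀ i, Matrix.GeneralLinearGroup (Fin (n i)) B) →* Bˣ)
    (hα : ∀ (B C : Type u) [CommRing B] [Algebra R B] [CommRing C] [Algebra R C] (φ : B →ₐ[R] C)
      (s : ∀ i, Matrix.GeneralLinearGroup (Fin (n i)) B),
      α C (fun i => Matrix.GeneralLinearGroup.map φ.toRingHom (s i)) = Units.map (φ.toRingHom : B →* C) (α B s)) :
    ∃! m : Fin r → ℤ, ∀ (B : Type u) [CommRing B] [Algebra R B] (s : ∀ i, Matrix.GeneralLinearGroup (Fin (n i)) B),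
      α B s = ∏ i, Matrix.GeneralLinearGroup.det (s i) ^ (m i) := by

  classical
  haveI : Nontrivial R := PrimeSpectrum.nonempty_iff_nontrivial.mp inferInstance
  let i0 : ∀ i, Fin (n i) := fun i => ⟨0, hn i⟩
  -- the character of each factor
  let γ : ∀ i, ∀ (B : Type u) [CommRing B] [Algebra R B], Matrix.GeneralLinearGroup (Fin (n i)) B →* Bˣ :=
    fun i B _ _ => (α B).comp (MonoidHom.mulSingle (fun j => Matrix.GeneralLinearGroup (Fin (n j)) B) i)
  have hγ : ∀ i (B C : Type u) [CommRing B] [Algebra R B] [CommRing C] [Algebra R C] (φ : B →ₐ[R] C)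
      (g : Matrix.GeneralLinearGroup (Fin (n i)) B),
      γ i C (Matrix.GeneralLinearGroup.map φ.toRingHom g) = Units.map (φ.toRingHom : B →* C) (γ i B g) := by
    intro i B C _ _ _ _ φ g
    refine Eq.trans ?_ (hα B C φ (Pi.mulSingle i g))
    show α C _ = α C _
    congr 1
    funext j
    exact (Pi.apply_mulSingle (fun j => Matrix.GeneralLinearGroup.map (n := Fin (n j)) φ.toRingHom)
      (fun j => map_one _) i g j).symm
  -- it is trivial on determinant one
  have hSL : ∀ i (B : Type u) [CommRing B] [Algebra R B] (g : Matrix.GeneralLinearGroup (Fin (n i)) B),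
      Matrix.GeneralLinearGroup.det g = 1 → γ i B g = 1 := by
    intro i B _ _ g hg
    let z : B := (γ i B g : B) - 1
    suffices hz : z = 0 by ext; exact sub_eq_zero.mp hz
    by_contra hz
    have hann : (Submodule.span B {z}).annihilator ≠ ⊤ := by
      intro h
      apply hz
      have := Submodule.annihilator_eq_top_iff.mp h
      exact (Submodule.span_singleton_eq_bot).mp this
    obtain ⟨p, hp, hpann⟩ := Ideal.exists_le_maximal _ hann
    obtain ⟨A', _, _, hA', ⟨q, hq⟩, hcomm⟩ := Groth.Agent.S5658.result B (n i)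
      ⟨(g : Matrix (Fin (n i)) (Fin (n i)) B), by
        rw [← Matrix.GeneralLinearGroup.val_det_apply, hg, Units.val_one]⟩ ⟨p, hp.isPrime⟩
    letI : Algebra R A' := ((algebraMap B A').comp (algebraMap R B)).toAlgebra
    let φ : B →ₐ[R] A' := { algebraMap B A' with commutes' := fun _ => rfl }
    have h1 : γ i A' (Matrix.GeneralLinearGroup.map (algebraMap B A') g) = 1 := by
      refine MonoidHom.mem_ker.mp (Abelianization.commutator_subset_ker _ ?_)
      convert hcomm using 1
      exact congrArg _ (Units.ext rfl)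
    have h2 := hγ i B A' φ g
    rw [show Matrix.GeneralLinearGroup.map φ.toRingHom g = Matrix.GeneralLinearGroup.map (algebraMap B A') g from rfl, h1] at h2
    have h3 : z • (1 : A') = 0 := by
      rw [Algebra.smul_def, mul_one, map_sub, map_one]
      exact sub_eq_zero.mpr (congrArg Units.val h2).symm
    obtain ⟨k, a, y, hy, ha⟩ := Module.Flat.isTrivialRelation_of_sum_smul_eq_zero (R := B) (M := A')
      (ι := Fin 1) (f := fun _ => z) (x := fun _ => (1 : A')) (by simpa using h3)
    apply q.isPrime.ne_top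
    rw [Ideal.eq_top_iff_one, show (1 : A') = ∑ j, a 0 j • y j from hy 0]
    refine sum_mem fun j _ => ?_
    rw [Algebra.smul_def]
    refine Ideal.mul_mem_right _ _ ?_
    have haj : a 0 j ∈ p := hpann (by
      rw [Submodule.mem_annihilator_span_singleton, smul_eq_mul, mul_comm]
      simpa using ha j)
    exact (SetLike.ext_iff.mp hq (a 0 j)).mpr haj
  -- reduction to the multiplicative group
  let δ : ∀ i, ∀ (B : Type u) [CommRing B], Bˣ →* Matrix.GeneralLinearGroup (Fin (n i)) B :=
    fun i B _ => H1CAlg.GLAb.diag.comp (MonoidHom.mulSingle (fun _ : Fin (n i) => Bˣ) (i0 i))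
  let β : ∀ i, ∀ (B : Type u) [CommRing B] [Algebra R B], Bˣ →* Bˣ := fun i B _ _ => (γ i B).comp (δ i B)
  have hdet : ∀ i (B : Type u) [CommRing B] (t : Bˣ), Matrix.GeneralLinearGroup.det (δ i B t) = t := by
    intro i B _ t
    show Matrix.GeneralLinearGroup.det (H1CAlg.GLAb.diag (Pi.mulSingle (i0 i) t)) = t
    rw [H1CAlg.GLAb.det_diag]
    exact Fintype.prod_pi_mulSingle' (i0 i) t
  have hγβ : ∀ i (B : Type u) [CommRing B] [Algebra R B] (g : Matrix.GeneralLinearGroup (Fin (n i)) B),
      γ i B g = β i B (Matrix.GeneralLinearGroup.det g) := by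
    intro i B _ _ g
    have h := hSL i B (g * (δ i B (Matrix.GeneralLinearGroup.det g))⁻¹) (by rw [map_mul, map_inv, hdet, mul_inv_cancel])
    rw [map_mul, map_inv, mul_inv_eq_one] at h
    exact h
  have hβ : ∀ i (B C : Type u) [CommRing B] [Algebra R B] [CommRing C] [Algebra R C] (φ : B →ₐ[R] C) (t : Bˣ),
      β i C (Units.map (φ.toRingHom : B →* C) t) = Units.map (φ.toRingHom : B →* C) (β i B t) := by
    intro i B C _ _ _ _ φ t
    refine Eq.trans (congrArg (γ i C) ?_) (hγ i B C φ _)
    refine Units.ext (Matrix.ext fun a b => ?_)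
    show Matrix.diagonal (fun j => (((Pi.mulSingle (i0 i) (Units.map (φ.toRingHom : B →* C) t) : Fin (n i) → Cˣ) j : Cˣ) : C)) a b =
      φ (Matrix.diagonal (fun j => (((Pi.mulSingle (i0 i) t : Fin (n i) → Bˣ) j : Bˣ) : B)) a b)
    by_cases hab : a = b
    · subst hab
      rw [Matrix.diagonal_apply_eq, Matrix.diagonal_apply_eq]
      by_cases ha : a = i0 i
      · subst ha; simp
      · simp [Pi.mulSingle_eq_of_ne ha]
    · rw [Matrix.diagonal_apply_ne _ hab, Matrix.diagonal_apply_ne _ hab, map_zero]
  -- natural endomorphisms of the multiplicative group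
  have key : ∀ i, ∃ m : ℤ, ∀ (B : Type u) [CommRing B] [Algebra R B] (t : Bˣ), β i B t = t ^ m := by
    intro i
    let u : Multiplicative ℤ →* (AddMonoidAlgebra R ℤ)ˣ := (AddMonoidAlgebra.of R ℤ).toHomUnits
    let P : AddMonoidAlgebra R ℤ := (β i (AddMonoidAlgebra R ℤ) (u (Multiplicative.ofAdd 1)) : AddMonoidAlgebra R ℤ)
    let c := P.coeff
    have hform : ∀ (B : Type u) [CommRing B] [Algebra R B] (t : Bˣ),
        (β i B t : B) = c.sum fun a r => r • ((t ^ a : Bˣ) : B) := by
      intro B _ _ t
      let φ : AddMonoidAlgebra R ℤ →ₐ[R] B := AddMonoidAlgebra.lift R B ℤ ((Units.coeHom B).comp (zpowersHom Bˣ t))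
      have ht : Units.map (φ.toRingHom : AddMonoidAlgebra R ℤ →* B) (u (Multiplicative.ofAdd 1)) = t := by
        refine Units.ext ?_
        show φ (AddMonoidAlgebra.single (1 : ℤ) (1 : R)) = t
        simp only [φ, AddMonoidAlgebra.lift_single, one_smul]
        simp
      have h := congrArg Units.val (hβ i (AddMonoidAlgebra R ℤ) B φ (u (Multiplicative.ofAdd 1)))
      rw [ht] at h
      rw [h]
      show φ P = _
      simp only [φ, AddMonoidAlgebra.lift_apply]
      rfl
    let u2 : Multiplicative (ℤ × ℤ) →* (AddMonoidAlgebra R (ℤ × ℤ))ˣ := (AddMonoidAlgebra.of R (ℤ × ℤ)).toHomUnits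
    have hpow : ∀ (v : ℤ × ℤ) (a : ℤ), ((u2 (Multiplicative.ofAdd v) ^ a : (AddMonoidAlgebra R (ℤ × ℤ))ˣ) : AddMonoidAlgebra R (ℤ × ℤ)) =
        AddMonoidAlgebra.single (a • v) 1 := by
      intro v a
      rw [← map_zpow]
      rfl
    have hc : ∀ a b : ℤ, c a * c b = if a = b then c a else 0 := by
      intro a b
      have h := hform (AddMonoidAlgebra R (ℤ × ℤ)) (u2 (Multiplicative.ofAdd (1, 0)) * u2 (Multiplicative.ofAdd (0, 1)))
      rw [map_mul, Units.val_mul, hform, hform, ← map_mul, ← ofAdd_add] at h
      simp only [hpow, Prod.smul_mk, smul_zero, AddMonoidAlgebra.smul_single, smul_eq_mul, mul_one, Prod.mk_add_mk,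
        add_zero, zero_add, Finsupp.sum, Finset.sum_mul, Finset.mul_sum, AddMonoidAlgebra.single_mul_single] at h
      have h' := congrArg (fun z : AddMonoidAlgebra R (ℤ × ℤ) => z.coeff (a, b)) h
      simp only [AddMonoidAlgebra.coeff_sum, Finsupp.finsetSum_apply, AddMonoidAlgebra.coeff_single,
        Finsupp.single_apply, Prod.mk.injEq, ite_and, Finset.sum_ite_irrel, Finset.sum_const_zero,
        Finset.sum_ite_eq'] at h'
      by_cases ha : a ∈ c.support <;> by_cases hb : b ∈ c.support <;>
        simp [ha, hb, Finsupp.notMem_support_iff.mp] at h' ⊢ <;> simp_all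
    have hsum : c.sum (fun _ r => r) = 1 := by
      have h := hform R 1
      rw [map_one, Units.val_one] at h
      simpa [one_zpow] using h.symm
    obtain ⟨m, hm⟩ : ∃ m, c m = 1 := by
      obtain ⟨m, hm⟩ : ∃ m, c m ≠ 0 := by
        by_contra hall
        push Not at hall
        rw [show c = 0 from Finsupp.ext hall, Finsupp.sum_zero_index] at hsum
        exact zero_ne_one hsum
      refine ⟨m, ?_⟩
      have he : IsIdempotentElem (c m) := by have := hc m m; rwa [if_pos rfl] at this
      have hclopen : IsClopen ((PrimeSpectrum.basicOpen (c m) : TopologicalSpace.Opens _) : Set (PrimeSpectrum R)) :=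
        PrimeSpectrum.isClopen_iff.mpr ⟨c m, he, rfl⟩
      rcases isClopen_iff.mp hclopen with h | h
      · exact absurd (he.eq_zero_of_isNilpotent (PrimeSpectrum.basicOpen_eq_bot_iff (c m) |>.mp (SetLike.coe_injective h))) hm
      · have hu : IsUnit (c m) := by
          by_contra hnu
          obtain ⟨M, hM, hmem⟩ := Ideal.exists_le_maximal (Ideal.span {c m}) (fun h => hnu (Ideal.span_singleton_eq_top.mp h))
          have : (⟨M, hM.isPrime⟩ : PrimeSpectrum R) ∈ ((PrimeSpectrum.basicOpen (c m) : TopologicalSpace.Opens _) : Set (PrimeSpectrum R)) := by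
            rw [h]; trivial
          exact this (hmem (Ideal.mem_span_singleton_self _))
        exact hu.mul_eq_left.mp he
    refine ⟨m, fun B _ _ t => Units.ext ?_⟩
    have hc0 : ∀ a, a ≠ m → c a = 0 := fun a ha => by
      have := hc a m
      rwa [if_neg ha, hm, mul_one] at this
    have hcs : c = Finsupp.single m 1 := by
      ext a
      by_cases ha : a = m
      · subst ha; rw [Finsupp.single_eq_same, hm]
      · rw [Finsupp.single_eq_of_ne ha, hc0 a ha]
    rw [hform, hcs, Finsupp.sum_single_index]
    · exact one_smul _ _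
    · exact zero_smul _ _
  choose m hm using key
  have hprod : ∀ (B : Type u) [CommRing B] [Algebra R B] (s : ∀ i, Matrix.GeneralLinearGroup (Fin (n i)) B),
      α B s = ∏ i, γ i B (s i) := by
    intro B _ _ s
    have hfac : ∀ (l : List (Fin r)), l.Nodup →
        α B (fun j => if j ∈ l then s j else 1) = ∏ i ∈ l.toFinset, γ i B (s i) := by
      intro l
      induction l with
      | nil =>
        intro _
        simp only [List.not_mem_nil, if_false, List.toFinset_nil, Finset.prod_empty]
        exact map_one (α B)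
      | cons a l ih =>
        intro hnd
        obtain ⟨hal, hnd'⟩ := List.nodup_cons.mp hnd
        rw [List.toFinset_cons, Finset.prod_insert (by simpa using hal), ← ih hnd']
        show _ = α B (Pi.mulSingle a (s a)) * α B _
        rw [← map_mul]
        congr 1
        funext j
        by_cases hj : j = a
        · subst hj; simp [hal]
        · simp [hj, Pi.mulSingle_eq_of_ne hj]
    have h := hfac (List.finRange r) (List.nodup_finRange r)
    simp only [List.mem_finRange, if_true, List.toFinset_finRange] at h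
    exact h
  refine ⟨m, fun B _ _ s => ?_, fun m' hm' => funext fun i => ?_⟩
  · rw [hprod B s]
    exact Finset.prod_congr rfl fun i _ => by rw [hγβ, hm]
  · let u : Multiplicative ℤ →* (AddMonoidAlgebra R ℤ)ˣ := (AddMonoidAlgebra.of R ℤ).toHomUnits
    let t := u (Multiplicative.ofAdd 1)
    have h := hm' (AddMonoidAlgebra R ℤ) (Pi.mulSingle i (δ i (AddMonoidAlgebra R ℤ) t))
    rw [Finset.prod_eq_single i (fun j _ hj => by rw [Pi.mulSingle_eq_of_ne hj, map_one, _root_.one_zpow])
      (fun h => absurd (Finset.mem_univ i) h), Pi.mulSingle_eq_same, hdet] at h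
    have h2 : t ^ (m i) = t ^ (m' i) := (hm i (AddMonoidAlgebra R ℤ) t).symm.trans h
    simp only [t, ← map_zpow] at h2
    have h3 : AddMonoidAlgebra.single (m i • (1 : ℤ)) (1 : R) = AddMonoidAlgebra.single (m' i • (1 : ℤ)) (1 : R) :=
      congrArg Units.val h2
    by_contra hne
    have h4 := congrArg (fun z : AddMonoidAlgebra R ℤ => z.coeff (m i)) h3
    simp [AddMonoidAlgebra.coeff_single, Finsupp.single_apply, hne] at h4

end Groth.Agent.S5659
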