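import Groth.Statements.S5661
import Groth.Agent.H12Pic.Gen.Univ
import Groth.Agent.H12Pic.Hodge.Restrict
import Groth.Agent.H16Derived.PBQCNeg

set_option autoImplicit false
set_option backward.isDefEq.respectTransparency.types false
universe u
open CategoryTheory CategoryTheory.Limits AlgebraicGeometry
open Pic13

namespace Groth.Agent.S5661

/-- There are universal polynomials h_2, h_3, … and g_0, g_1, … in three variables with rational
coefficients, depending neither on the field nor on the scheme, with the following property. Let k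
be an algebraically closed field, X ⊆ P^n_k an integral and normal closed subscheme of dimension r ≥
2, O_X(1), O_X(-1) the restrictions of O(1), O(-1), and L an invertible O_X-module with inverse L',
of degree (c₁(L)·c₁(O_X(1))^{r-1}) ≤ 0 and with Hilbert polynomial χ(L(m)) = Σ_{j ≤ r} a_j C(m+j,
j). Then (i) H^1(X, L(-m)) = 0 for every integer m ≥ 2 + h_2(a_{r-2}, a_{r-1}, a_r); (ii) h^1(X,
L(m)) ≤ h_r(a_{r-2}, a_{r-1}, a_r) for every integer m; (iii) |a_j| ≤ g_{r-j}(a_{r-2}, a_{r-1}, a_r)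
for j = 0, …, r. Intersection numbers are those of FGA.intNum, which takes the inverse modules as
arguments; h^1 is the dimension over k. -/
theorem result :
    ∃ (h g : ℕ → MvPolynomial (Fin 3) ℚ),
      ∀ (k : Type u) [Field k] [IsAlgClosed k] (n : ℕ) (X : Scheme.{u}) [X.Over (Spec (CommRingCat.of k))]
        (i : X ⟶ CohB1.ProjSpace n k) [IsClosedImmersion i],
        i ≫ CohB1.ProjSpace.toSpec n k = X ↘ Spec (CommRingCat.of k) → IsIntegral X → Pi1.IsNormalScheme X →
        ∀ (s : ℕ), topologicalKrullDim X = (s + 2 : ℕ) →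
        ∀ (L L' : X.Modules), PicF.IsInvertible L → Nonempty (CohB1.tensorMod L L' ≅ Coh.structureModule X) →
          FGA.intNum k X (s + 2) (Matrix.vecCons L' (fun _ : Fin (s + 1) => ((Scheme.Modules.pullback i).obj (Twist.twistProjSpace n k (-1))))) (Coh.structureModule X) ≤ 0 →
        ∀ (a : Fin (s + 3) → ℤ),
          (∀ m : ℕ, FGA.eulerCharLE k X (Pic13.twistOn k i L m) (s + 2) = ∑ j : Fin (s + 3), a j * ((m + j).choose j : ℤ)) →
          let top : Fin 3 → ℚ := fun t => (a ⟨s + t, Nat.add_lt_add_left t.isLt s⟩ : ℚ)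
          (∀ m : ℕ, 2 + MvPolynomial.eval top (h 2) ≤ (m : ℚ) →
              Subsingleton (Coh.HH X (Pic13.twistOn k i L (-(m : ℤ))) 1)) ∧
            (∀ m : ℤ, (Module.finrank k (Coh.HH X (Pic13.twistOn k i L m) 1) : ℚ) ≤ MvPolynomial.eval top (h (s + 2))) ∧
            (∀ j : Fin (s + 3), (|a j| : ℚ) ≤ MvPolynomial.eval top (g (s + 2 - j))) := by
  let Up : MvPolynomial (Fin 3) ℚ :=
    1 + (MvPolynomial.X 0 ^ 2 + MvPolynomial.X 1 ^ 2 + MvPolynomial.X 2 ^ 2)
  refine ⟨fun r => (H12Pic.Gen.HR Up (r - 2)).1,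
    fun i => Up + (i : MvPolynomial (Fin 3) ℚ) * (H12Pic.Gen.HR Up (i - 2)).1, ?_⟩
  intro k _ _ n X _ i _ hi hint hnor s hdim L L' hL hLL' hdeg a ha
  intro top
  haveI := hint
  haveI : IsProper (CohB1.ProjSpace.toSpec n k) := inferInstance
  haveI : IsProper (X ↘ Spec (CommRingCat.of k)) :=
    hi ▸ inferInstanceAs (IsProper (i ≫ CohB1.ProjSpace.toSpec n k))
  haveI := H28Int.isNoetherian k (X := X)
  let O := H12Pic.Gen.OP k i
  have h := H12Pic.Gen.emb_of_immersion k i
  obtain ⟨eL⟩ := hLL'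
  have hL' : PicF.IsInvertible L' := H16Derived.PBQC.isInvertible_of_inverse hL ⟨eL⟩
  obtain ⟨a11⟩ := h.setup.fam.add 1 (-1)
  obtain ⟨z⟩ := h.setup.fam.zero
  have hQ : H22Alg.NefQ.Q k (L :: List.replicate (s + 1) (O 1)) (Coh.structureModule X) ≤ 0 := by
    have h1 := H12Pic.Hodge.intNum_inverses k hdim.le (M := Matrix.vecCons L (fun _ : Fin (s + 1) => O 1))
      (M' := Matrix.vecCons L' (fun _ : Fin (s + 1) => O (-1)))
      (fun j => by cases j using Fin.cases with | zero => simpa using hL | succ j => simpa using h.setup.fam.inv 1)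
      (fun j => by cases j using Fin.cases with | zero => simpa using hL' | succ j => simpa using h.setup.fam.inv (-1))
      (fun j => by
        cases j using Fin.cases with
        | zero => exact ⟨eL⟩
        | succ j => exact ⟨a11 ≪≫ eqToIso (congrArg O (by ring)) ≪≫ z⟩)
      (H10Coh.isCoh_structureModule' X) ((Topology.IsInducing.subtypeVal.topologicalKrullDim_le).trans hdim.le)
    erw [h1] at hdeg
    have e : List.ofFn (Matrix.vecCons L (fun _ : Fin (s + 1) => O 1)) = L :: List.replicate (s + 1) (O 1) := by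
      rw [List.ofFn_succ]
      simp [List.replicate_succ]
    rwa [e] at hdeg
  let t : Fin 3 → ℤ := fun j => a ⟨s + j, Nat.add_lt_add_left j.isLt s⟩
  let U : ℕ := (1 + (t 0 ^ 2 + t 1 ^ 2 + t 2 ^ 2)).toNat
  have hU : (U : ℤ) = 1 + (t 0 ^ 2 + t 1 ^ 2 + t 2 ^ 2) := Int.toNat_of_nonneg (by positivity)
  have hUb : ∀ j : Fin (s + 3), s ≤ (j : ℕ) → a j ^ 2 ≤ (U : ℤ) := fun j hj => by
    obtain ⟨q, hq, e⟩ : ∃ q : ℕ, ∃ hq : q < 3, j = ⟨s + q, Nat.add_lt_add_left hq s⟩ :=
      ⟨(j : ℕ) - s, by omega, Fin.ext (by simp only; omega)⟩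
    subst e
    have := sq_nonneg (t 0); have := sq_nonneg (t 1); have := sq_nonneg (t 2)
    rw [hU]
    interval_cases q
    · show t 0 ^ 2 ≤ _; linarith
    · show t 1 ^ 2 ≤ _; linarith
    · show t 2 ^ 2 ≤ _; linarith
  have heval : MvPolynomial.eval top Up = (U : ℚ) := by
    rw [← Int.cast_natCast U, hU]
    simp only [Up, map_add, map_one, map_pow, MvPolynomial.eval_X]
    push_cast
    rfl
  have hHR : ∀ r : ℕ, MvPolynomial.eval top (H12Pic.Gen.HR Up r).1 = ((H12Pic.Gen.HR U r).1 : ℚ) := fun r => by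
    rw [(H12Pic.Gen.map_HR (MvPolynomial.eval top) Up r).1, heval]
    exact ((H12Pic.Gen.map_HR (Nat.castRingHom ℚ) U r).1).symm
  obtain ⟨hA, hB, -, hD⟩ := H12Pic.Gen.univ_bounds s k X O n _ h hnor hdim L hL hQ a (fun m => by
    rw [← ha m, H28Int.eulerCharLE_eq k hdim.le]
    · rfl
    · exact (H11Ample.isCoh_of_isInvertible (H11Ample.isInvertible_tensor hL (h.setup.fam.inv _))).1) U hUb
  refine ⟨fun m hm => ?_, fun m => ?_, fun j => ?_⟩
  · simp only [Nat.sub_self] at hm
    rw [hHR] at hm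
    have hm' : 2 + (6 * U + 2) ≤ m := by exact_mod_cast hm
    exact H22Alg.CMField.van_iff.1 ((H12Pic.Gen.van_iff_hh (k := k)
      (H11Ample.isCoh_of_isInvertible (H11Ample.isInvertible_tensor hL (h.setup.fam.inv _))) 1).2 (hA (-(m : ℤ)) (by omega)))
  · simp only [Nat.add_sub_cancel]
    rw [hHR]
    exact_mod_cast hB m 1 le_rfl (Or.inl rfl)
  · rw [map_add, map_mul, map_natCast, heval, show s + 2 - (j : ℕ) - 2 = s - j by omega, hHR]
    exact_mod_cast hD j

end Groth.Agent.S5661
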