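import Groth.Statements.S5663
import Mathlib.RingTheory.LocalRing.Module
import Mathlib.RingTheory.Support
import Mathlib.RingTheory.Ideal.KrullsHeightTheorem
import Mathlib.RingTheory.Artinian.Module
import Mathlib.Algebra.Module.LocalizedModule.Submodule
import Mathlib.RingTheory.LocalRing.ResidueField.Ideal
import Mathlib.LinearAlgebra.Dual.Lemmas

set_option autoImplicit false
universe u
open TensorProduct
open CAlg

namespace Groth.Agent.S5663

/-- Let A be a Noetherian ring and B a finite A-algebra with A → B injective (a finite schematically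
dominant morphism Spec B → Spec A). Define subalgebras B_0 = B and B_{i+1} = the equalizer of the
two maps B_i ⇉ B_i ⊗_A B_i, b ↦ b ⊗ 1, 1 ⊗ b. Then B_m = A (the image of A) for some m; equivalently
Spec B → Spec A factors as a finite chain of finite morphisms Spec B_i → Spec B_{i+1} each of which
is an effective epimorphism (B_{i+1} is the equalizer of B_i ⇉ B_i ⊗_{B_{i+1}} B_i). The sequence is
given here as any family C of subalgebras satisfying the recursion. (The published statement is for
a finite morphism X → Y of schemes with Y Noetherian and O_Y → f_*O_X injective; this row is the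
affine case.) -/
theorem result (A B : Type u) [CommRing A] [CommRing B] [Algebra A B]
    [IsNoetherianRing A] [Module.Finite A B] (hinj : Function.Injective (algebraMap A B))
    (C : ℕ → Subalgebra A B) (h0 : C 0 = ⊤)
    (hstep : ∀ (i : ℕ) (b : B), b ∈ C (i + 1) ↔ ∃ hb : b ∈ C i,
      ((⟨b, hb⟩ : C i) ⊗ₜ[A] (1 : C i) : C i ⊗[A] C i) = (1 : C i) ⊗ₜ[A] (⟨b, hb⟩ : C i)) :
    ∃ m : ℕ, C m = ⊥ := by
  classical
  let one : Submodule A B := Subalgebra.toSubmodule (⊥ : Subalgebra A B)
  let N := B ⧸ one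
  let S : ℕ → Submodule A N := fun i => (Subalgebra.toSubmodule (C i)).map one.mkQ
  have hdec : ∀ i, C (i + 1) ≤ C i := fun i b hb => ((hstep i b).mp hb).1
  have hanti : ∀ {i j}, i ≤ j → C j ≤ C i := fun {i j} h => antitone_nat_of_succ_le hdec h
  haveI : IsNoetherian A B := isNoetherian_of_isNoetherianRing_of_finite A B
  have hSanti : ∀ {i j}, i ≤ j → S j ≤ S i := fun h => Submodule.map_mono (hanti h)
  obtain ⟨i0, hi0⟩ := monotone_stabilizes_iff_noetherian.mpr ‹IsNoetherianRing A›
    ⟨fun i => (S i).annihilator, fun i j h => Submodule.annihilator_mono (hSanti h)⟩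
  refine ⟨i0, ?_⟩
  set I := (S i0).annihilator with hI
  have hann : ∀ j, i0 ≤ j → (S j).annihilator = I := fun j hj => (hi0 j hj).symm
  suffices hItop : I = ⊤ by
    rw [eq_bot_iff]
    intro b hb
    have h1 : one.mkQ b ∈ S i0 := ⟨b, hb, rfl⟩
    have h2 : (1 : A) • one.mkQ b = 0 := Submodule.mem_annihilator.mp (hItop ▸ Submodule.mem_top : (1 : A) ∈ I) _ h1
    rw [one_smul] at h2
    exact (Submodule.Quotient.mk_eq_zero one).mp h2
  by_contra hItop
  obtain ⟨p, hp⟩ := Ideal.nonempty_minimalPrimes hItop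
  haveI hpp : p.IsPrime := hp.1.1
  -- the localised chain stabilises
  let Ap := Localization.AtPrime p
  let Np := LocalizedModule p.primeCompl N
  let ι := LocalizedModule.mkLinearMap p.primeCompl N
  let J := I.map (algebraMap A Ap)
  have hmin : IsLocalRing.maximalIdeal Ap ∈ J.minimalPrimes := by
    refine ⟨⟨inferInstance, ?_⟩, fun q hq hqm => ?_⟩
    · rw [← Localization.AtPrime.map_eq_maximalIdeal]
      exact Ideal.map_mono hp.1.2
    · haveI := hq.1
      have h1 : q.comap (algebraMap A Ap) = p := by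
        refine le_antisymm ?_ (hp.2 ⟨inferInstance, Ideal.map_le_iff_le_comap.mp hq.2⟩ ?_)
        · exact (Ideal.comap_mono hqm).trans (Localization.AtPrime.comap_maximalIdeal).le
        · exact (Ideal.comap_mono hqm).trans (Localization.AtPrime.comap_maximalIdeal).le
      rw [← Localization.AtPrime.map_eq_maximalIdeal, Ideal.map_le_iff_le_comap]
      exact h1.ge
  haveI : IsArtinianRing (Ap ⧸ J) :=
    IsLocalRing.quotient_artinian_of_mem_minimalPrimes_of_isLocalRing J hmin
  let P : ℕ → Submodule Ap Np := fun i => (S i).localized' Ap p.primeCompl ι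
  have hPanti : ∀ {i j}, i ≤ j → P j ≤ P i := fun {i j} h z hz => by
    obtain ⟨m, hm, t, ht⟩ := hz
    exact ⟨m, hSanti h hm, t, ht⟩
  have hkill : Module.IsTorsionBySet Ap (P i0) J := by
    rintro ⟨z, hz⟩ ⟨c, hc⟩
    refine Subtype.ext ?_
    show c • z = 0
    obtain ⟨m, hm, t, rfl⟩ := hz
    have : J ≤ Submodule.comap (LinearMap.toSpanSingleton Ap Np (IsLocalizedModule.mk' ι m t)) ⊥ := by
      refine Ideal.map_le_iff_le_comap.mpr fun a ha => ?_
      show algebraMap A Ap a • IsLocalizedModule.mk' ι m t = 0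
      rw [algebraMap_smul, ← IsLocalizedModule.mk'_smul, Submodule.mem_annihilator.mp ha _ hm,
        IsLocalizedModule.mk'_zero]
    exact this hc
  haveI : Module.Finite Ap (P i0) := by
    haveI : Module.Finite A (S i0) := inferInstance
    exact Module.Finite.of_isLocalizedModule p.primeCompl (Submodule.toLocalized' Ap p.primeCompl ι (S i0))
  letI := Module.IsTorsionBySet.module (R := Ap) (M := P i0) (I := J) hkill
  haveI : IsScalarTower Ap (Ap ⧸ J) (P i0) := hkill.isScalarTower (S := Ap)
  haveI : Module.Finite (Ap ⧸ J) (P i0) := Module.Finite.of_restrictScalars_finite Ap _ _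
  haveI : IsArtinian Ap (P i0) :=
    isArtinian_of_surjective_algebraMap (R := Ap ⧸ J) Ideal.Quotient.mk_surjective
  obtain ⟨k, hk⟩ := IsArtinian.monotone_stabilizes (R := Ap) (M := P i0)
    ⟨fun k => OrderDual.toDual ((P (i0 + k)).comap (P i0).subtype),
      fun a b h => Submodule.comap_mono (hPanti (Nat.add_le_add_left h i0))⟩
  set j := i0 + k
  have hstab : ∀ c ∈ C j, ∃ t ∈ p.primeCompl, t • c ∈ C (j + 1) := by
    intro c hc
    have h1 : ι (one.mkQ c) ∈ P j :=
      ⟨one.mkQ c, ⟨c, hc, rfl⟩, 1, IsLocalizedModule.mk'_one _ _ _⟩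
    have h2 : (⟨ι (one.mkQ c), hPanti (Nat.le_add_right i0 k) h1⟩ : P i0) ∈
        (P (j + 1)).comap (P i0).subtype := by
      have h3 := congrArg OrderDual.ofDual (hk (k + 1) (Nat.le_succ k))
      simp only [OrderHom.coe_mk, OrderDual.ofDual_toDual] at h3
      have h4 : (⟨ι (one.mkQ c), hPanti (Nat.le_add_right i0 k) h1⟩ : P i0) ∈
          (P j).comap (P i0).subtype := h1
      exact h3 ▸ h4
    obtain ⟨m, ⟨c', hc', rfl⟩, t, ht⟩ := h2
    have h5 : ι (t.1 • one.mkQ c - one.mkQ c') = 0 := by
      rw [map_sub, map_smul, sub_eq_zero]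
      exact ((IsLocalizedModule.mk'_eq_iff).mp ht).symm
    obtain ⟨u, hu⟩ := (IsLocalizedModule.eq_zero_iff p.primeCompl ι).mp h5
    refine ⟨u.1 * t.1, mul_mem u.2 t.2, ?_⟩
    rw [Submonoid.smul_def, smul_sub, smul_smul, ← map_smul, ← map_smul, ← map_sub,
      Submodule.mkQ_apply, Submodule.Quotient.mk_eq_zero] at hu
    have h6 : (u.1 * t.1) • c - u.1 • c' ∈ C (j + 1) := (bot_le : ⊥ ≤ C (j + 1)) hu
    have := add_mem h6 (Subalgebra.smul_mem _ hc' u.1)
    rwa [sub_add_cancel] at this
  -- epimorphism at `p`: the fibre is spanned by `1`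
  let κ := p.ResidueField
  let F := TensorProduct A κ (C j)
  have hfib : ∀ c : C j, ((1 : κ) ⊗ₜ[A] c : F) ∈ Submodule.span κ {((1 : κ) ⊗ₜ[A] (1 : C j) : F)} := by
    intro c
    by_contra hne
    obtain ⟨φ, hφv, hφU⟩ := Submodule.exists_dual_map_eq_bot_of_notMem hne inferInstance
    have hφ1 : φ ((1 : κ) ⊗ₜ[A] (1 : C j)) = 0 :=
      (Submodule.mem_bot κ).mp (hφU ▸ Submodule.mem_map_of_mem (Submodule.mem_span_singleton_self _))
    obtain ⟨t, ht, htc⟩ := hstab c.1 c.2
    obtain ⟨hb, heq⟩ := (hstep j _).mp htc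
    let Ψ : TensorProduct A (C j) (C j) →ₗ[A] F :=
      TensorProduct.lift (LinearMap.mk₂ A (fun x y => φ ((1 : κ) ⊗ₜ[A] x) • ((1 : κ) ⊗ₜ[A] y : F))
        (fun x x' y => by rw [TensorProduct.tmul_add, map_add, add_smul])
        (fun r x y => by rw [TensorProduct.tmul_smul, LinearMap.map_smul_of_tower, smul_assoc])
        (fun x y y' => by rw [TensorProduct.tmul_add, smul_add])
        (fun r x y => by rw [TensorProduct.tmul_smul, smul_comm]))
    have h := congrArg Ψ heq
    have htc' : (⟨t • c.1, hb⟩ : C j) = t • c := rfl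
    have e : ∀ x y, Ψ (x ⊗ₜ[A] y) = φ ((1 : κ) ⊗ₜ[A] x) • ((1 : κ) ⊗ₜ[A] y : F) := fun x y => rfl
    rw [htc', e, e, hφ1, zero_smul, TensorProduct.tmul_smul, LinearMap.map_smul_of_tower,
      smul_assoc] at h
    have hu : IsUnit (algebraMap A κ t) := by
      rw [isUnit_iff_ne_zero, ne_eq, Ideal.algebraMap_residueField_eq_zero]
      exact ht
    rw [← algebraMap_smul κ t, hu.smul_eq_zero, smul_eq_zero] at h
    rcases h with h | h
    · exact hφv h
    · refine hne ?_
      have hall : ∀ z : F, z = 0 := by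
        intro z
        induction z using TensorProduct.induction_on with
        | zero => rfl
        | add a b ha hb => rw [ha, hb, add_zero]
        | tmul r x =>
          have hx : ((1 : κ) ⊗ₜ[A] x : F) = ((1 : κ) ⊗ₜ[A] x) * ((1 : κ) ⊗ₜ[A] (1 : C j)) := by
            rw [Algebra.TensorProduct.tmul_mul_tmul, mul_one, mul_one]
          rw [show (r ⊗ₜ[A] x : F) = r • ((1 : κ) ⊗ₜ[A] x) by
            rw [TensorProduct.smul_tmul', smul_eq_mul, mul_one], hx, h, mul_zero, smul_zero]
      rw [hall ((1 : κ) ⊗ₜ[A] c)]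
      exact zero_mem _
  let π : C j →ₗ[A] S j :=
    (one.mkQ.comp (Subalgebra.toSubmodule (C j)).subtype).codRestrict _ fun c => ⟨c.1, c.2, rfl⟩
  have hπ : Function.Surjective π := fun ⟨_, b, hb, rfl⟩ => ⟨⟨b, hb⟩, rfl⟩
  haveI : Subsingleton (TensorProduct A κ (S j)) := by
    refine subsingleton_of_forall_eq 0 fun z => ?_
    obtain ⟨w, rfl⟩ := LinearMap.lTensor_surjective κ hπ z
    have h1 : ∀ w : F, π.baseChange κ w = 0 := by
      intro w
      induction w using TensorProduct.induction_on with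
      | zero => simp
      | add a b ha hb => rw [map_add, ha, hb, add_zero]
      | tmul r c =>
        obtain ⟨s, hs⟩ := Submodule.mem_span_singleton.mp (hfib c)
        have : (r ⊗ₜ[A] c : F) = (r * s) • ((1 : κ) ⊗ₜ[A] (1 : C j) : F) := by
          rw [mul_smul, hs, TensorProduct.smul_tmul', smul_eq_mul, mul_one]
        rw [this, map_smul, LinearMap.baseChange_tmul,
          show π 1 = 0 from Subtype.ext ((Submodule.Quotient.mk_eq_zero one).mpr (one_mem (⊥ : Subalgebra A B))),
          TensorProduct.tmul_zero, smul_zero]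
    exact h1 w
  have hsupp : (⟨p, hpp⟩ : PrimeSpectrum A) ∈ Module.support A (S j) := by
    rw [Module.support_eq_zeroLocus, PrimeSpectrum.mem_zeroLocus]
    intro a ha
    refine hp.1.2 ?_
    rw [← hann j (Nat.le_add_right i0 k)]
    exact Submodule.mem_annihilator.mpr fun x hx =>
      congrArg Subtype.val (Module.mem_annihilator.mp ha (⟨x, hx⟩ : S j))
  rw [Module.mem_support_iff_nontrivial_residueField_tensorProduct] at hsupp
  exact (not_nontrivial_iff_subsingleton.mpr ‹_›) hsupp

end Groth.Agent.S5663
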