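import Groth.Statements.S5669
import Groth.Agent.H17.EdgeIso.Main
-- import your own Groth.Agent.* helpers here

set_option autoImplicit false
universe u
open CategoryTheory AlgebraicGeometry
open ProjDual

namespace Groth.Agent.S5669

/-- Let `k` be an algebraically closed field, `P = P^r_k`, `F` a coherent `O_P`-module and `i + j = r`.
Then `H^i(P, F(-m)) = 0` for all sufficiently large `m` if and only if `Ext^j_{O_{P,x}}(F_x,
O_{P,x}) = 0` for every point `x` of `P`. (The published criterion concerns a closed subset `X` of
`P` and a coherent sheaf on `X`, and is phrased as the vanishing of the sheaf `Ext^(r-i)_{O_P}(F,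
ω_P)`; this row states it for every coherent `O_P`-module, with the condition read at the stalks.) -/
theorem result (k : Type u) [Field k] [IsAlgClosed k] (r : ℕ) (F : (CohB1.ProjSpace r k).Modules) (hF : Coh.IsCoh F) (i j : ℕ) (hij : i + j = r) : (∃ m₀ : ℤ, ∀ m : ℤ, m₀ ≤ m → Subsingleton (Coh.HH (CohB1.ProjSpace r k) (Twist.twistBy (CohB1.polyGrading r k) F (-m)) i)) ↔ ∀ x : (CohB1.ProjSpace r k), Subsingleton (Abelian.Ext (ModuleCat.of ((CohB1.ProjSpace r k).presheaf.stalk x) (F.presheaf.stalk x)) (ModuleCat.of ((CohB1.ProjSpace r k).presheaf.stalk x) ((CohB1.ProjSpace r k).presheaf.stalk x)) j) := by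
  exact Groth.Agent.H17.EdgeIso.van_iff_ext_stalks F hF hij

end Groth.Agent.S5669
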