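import Groth.Statements.S5676
import Groth.Agent.LeadPic.PnRel
-- import your own Groth.Agent.* helpers here

set_option autoImplicit false
universe u
open CategoryTheory CategoryTheory.Limits AlgebraicGeometry
open PicF

namespace Groth.Agent.S5676

/-- For the trivial vector bundle (so that `P(E)` is projective `r`-space `P = P^r_Y` with its
`O_P(1)`): let `Y` be a connected Noetherian scheme and `L` an invertible `O_P`-module. Then there
exist an invertible `O_Y`-module `L'` and an integer `n` with `L ≅ π^* L' ⊗ O_P(n)`, `π : P → Y` the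
projection. Moreover, when `r ≥ 1`, the integer `n` is uniquely determined and `L'` is determined up
to isomorphism. (The published statement, for a projective bundle `P(E)`, asserts the uniqueness of
`n` without restriction; for `E` of rank one, i.e. `r = 0`, `P = Y` and every `O_P(n)` is trivial,
so `n` is not unique — hence the hypothesis `r ≥ 1` on the uniqueness clause. Only the case of a
trivial `E` is stated here.) -/
theorem result (Y : Scheme.{u}) [IsNoetherian Y] [ConnectedSpace Y] (r : ℕ) (L : (CohB1.ProjSpaceOver r Y).Modules) (hL : PicF.IsInvertible L) : (∃ (L' : Y.Modules) (n : ℤ), PicF.IsInvertible L' ∧ Nonempty (L ≅ CohB1.tensorMod ((Scheme.Modules.pullback (CohB1.ProjSpaceOver.toBase r Y)).obj L') (Twist.twistOver r Y n))) ∧ (1 ≤ r → ∀ (L₁ L₂ : Y.Modules) (n₁ n₂ : ℤ), PicF.IsInvertible L₁ → PicF.IsInvertible L₂ → Nonempty (L ≅ CohB1.tensorMod ((Scheme.Modules.pullback (CohB1.ProjSpaceOver.toBase r Y)).obj L₁) (Twist.twistOver r Y n₁)) → Nonempty (L ≅ CohB1.tensorMod ((Scheme.Modules.pullback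 (CohB1.ProjSpaceOver.toBase r Y)).obj L₂) (Twist.twistOver r Y n₂)) → n₁ = n₂ ∧ Nonempty (L₁ ≅ L₂)) := by
  refine ⟨LeadPic.PnRel.exists_decomp r Y L hL, fun hr L₁ L₂ n₁ n₂ h₁ h₂ e₁ e₂ => ?_⟩
  exact LeadPic.PnRel.decomp_unique (by omega) Y L₁ L₂ n₁ n₂ h₁ h₂ ⟨e₁.some.symm ≪≫ e₂.some⟩

end Groth.Agent.S5676
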