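import Groth.Statements.S5679
import Groth.Agent.H28Tau.Basic
import Groth.Agent.H19Grp.NeutralCompact
import Groth.Agent.H19Grp.HomFlatOpen

set_option autoImplicit false
set_option linter.style.haveILetI false
set_option backward.isDefEq.respectTransparency.types false
set_option maxHeartbeats 800000
universe u
open CategoryTheory CategoryTheory.Limits MonoidalCategory CartesianMonoidalCategory MonObj GrpObj AlgebraicGeometry
open FGA
open Groth.Agent

namespace Groth.Agent.S5679

/-- Let S be a nonempty locally Noetherian scheme and G a group scheme locally of finite type over S.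
Then there are a nonempty open subset U of S, a group scheme H of finite type over U with connected
fibres, and a homomorphism from H to the base change of G to U which is an open immersion and whose
image in G is the set of points lying over U in the union of the connected components of the
identity of the fibres of G. -/
theorem result (S : Scheme.{u}) [IsLocallyNoetherian S] [Nonempty ↥S]
    (G : Over S) [GrpObj G] [LocallyOfFiniteType G.hom] :
    ∃ U : S.Opens, (U : Set ↥S).Nonempty ∧
      ∃ (H : Over (U : Scheme.{u})) (_ : GrpObj H) (i : H ⟶ Red.bc U.ι G), IsMonHom i ∧ IsOpenImmersion i.left ∧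
        QuasiCompact H.hom ∧ LocallyOfFiniteType H.hom ∧
        (∀ u : ↥(U : Scheme.{u}), _root_.IsConnected (H.hom.base ⁻¹' {u})) ∧
        Set.range (i.left ≫ pullback.fst G.hom U.ι).base = SGA3x.neutralSet G ∩ G.hom.base ⁻¹' (U : Set ↥S) := by
  classical
  haveI : IsLocallyNoetherian G.left := LocallyOfFiniteType.isLocallyNoetherian G.hom
  haveI : LocallyOfFinitePresentation G.hom := inferInstance
  haveI : QuasiSeparated G.hom := inferInstance
  obtain ⟨_, ⟨S₀, hS₀, rfl⟩, hs₀, -⟩ := S.isBasis_affineOpens.exists_subset_of_mem_open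
    (show Classical.arbitrary S ∈ (Set.univ : Set S) from trivial) isOpen_univ
  change Scheme.Opens S at S₀
  haveI : CompactSpace S₀.toScheme := isCompact_iff_compactSpace.1 hS₀.isCompact
  haveI : IsNoetherian S₀.toScheme := ⟨⟩
  obtain ⟨K, hK, hNK, -⟩ := H19Grp.exists_compact_supset_neutralSet G S₀ hS₀.isCompact
  obtain ⟨W, hW, hKW⟩ := H28Tau.exists_compactOpen_supset G hK
  haveI : CompactSpace W.toScheme := isCompact_iff_compactSpace.1 hW
  haveI : IsNoetherian W.toScheme := ⟨⟩
  haveI : QuasiCompact (W.ι ≫ G.hom) :=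
    ⟨fun U _ _ => TopologicalSpace.NoetherianSpace.isCompact _⟩
  let N : Set W.toScheme := W.ι ⁻¹' SGA3x.neutralSet G
  have hN : Topology.IsConstructible N :=
    (H7Lim.isLocallyConstructible_preimage (H19Grp.isLocallyConstructible_neutralSet G) W.ι).isConstructible
  let Bd : Set W.toScheme := N ∩ closure Nᶜ
  have hBd : Topology.IsConstructible Bd := hN.inter (H28Top.isConstructible_of_isClosed isClosed_closure)
  let C : Set S₀.toScheme := S₀.ι ⁻¹' ((W.ι ≫ G.hom) '' Bd)
  have hC : Topology.IsConstructible C :=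
    (H7Lim.isLocallyConstructible_preimage ((W.ι ≫ G.hom).isLocallyConstructible_image
      hBd.isLocallyConstructible) S₀.ι).isConstructible
  -- a maximal point
  obtain ⟨Z, hZ⟩ : ∃ Z, Z ∈ irreducibleComponents S₀.toScheme :=
    ⟨_, irreducibleComponent_mem_irreducibleComponents ⟨Classical.arbitrary S, hs₀⟩⟩
  have hZc : IsClosed Z := isClosed_of_mem_irreducibleComponents _ hZ
  let η₀ := hZ.1.genericPoint
  have hgen : IsGenericPoint η₀ Z := hZ.1.isGenericPoint_genericPoint hZc
  have hmax : ∀ w : S₀.toScheme, w ⤳ η₀ → w = η₀ := fun w hw =>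
    hw.antisymm (hgen.specializes ((hZ.2 isIrreducible_singleton.closure
      (hgen.def ▸ closure_minimal (Set.singleton_subset_iff.2 hw.mem_closure) isClosed_closure))
      (subset_closure rfl))) |>.eq
  have hηC : η₀ ∉ C := by
    rintro ⟨z, ⟨hzN, hzcl⟩, hz⟩
    obtain ⟨Y, hY, hYi, hzY, hd⟩ := H28Top.exists_irreducible_of_mem_closure hzcl
    obtain ⟨O, hO, hne, hsub⟩ := H28Top.IsConstructible.exists_isOpen_inter_subset
      (Topology.isConstructible_compl.2 hN) hYi hd
    have hg := hYi.isGenericPoint_genericPoint hY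
    have hgN : hYi.genericPoint ∉ N := hsub ⟨(hg.mem_open_set_iff hO).2 (by rwa [Set.inter_comm]), hg.mem⟩
    have hsp : (W.ι ≫ G.hom) hYi.genericPoint ⤳ S₀.ι η₀ := hz ▸ (hg.specializes hzY).map (W.ι ≫ G.hom).continuous
    have hfib : (W.ι ≫ G.hom) hYi.genericPoint = S₀.ι η₀ := by
      have hmem : (W.ι ≫ G.hom) hYi.genericPoint ∈ S₀ := hsp.mem_open S₀.2 η₀.2
      exact congrArg S₀.ι (hmax ⟨_, hmem⟩ (S₀.ι.isOpenEmbedding.isInducing.specializes_iff.1 hsp))
    -- in the fibre the neutral set is open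
    let x : Spec (CommRingCat.of (S.residueField (S₀.ι η₀) : Type u)) ⟶ S := S.fromSpecResidueField (S₀.ι η₀)
    let Gx := Red.bc x G
    haveI : LocallyOfFiniteType Gx.hom := inferInstanceAs (LocallyOfFiniteType (pullback.snd G.hom x))
    haveI : IsLocallyNoetherian Gx.left := LocallyOfFiniteType.isLocallyNoetherian Gx.hom
    have hrange : Set.range (pullback.fst G.hom x) = G.hom ⁻¹' {S₀.ι η₀} := G.hom.range_fiberι _
    obtain ⟨a, ha⟩ : W.ι hYi.genericPoint ∈ Set.range (pullback.fst G.hom x) := hrange ▸ hfib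
    obtain ⟨b, hb⟩ : W.ι z ∈ Set.range (pullback.fst G.hom x) := hrange ▸ hz
    have hab : a ⤳ b := by
      refine (G.hom.fiberι (S₀.ι η₀)).isEmbedding.isInducing.specializes_iff.1 ?_
      exact (show pullback.fst G.hom x a ⤳ pullback.fst G.hom x b by
        rw [ha, hb]; exact (hg.specializes hzY).map W.ι.continuous)
    have hopen : IsOpen (connectedComponent (α := Gx.left) (H19Grp.ept Gx)) := H19Grp.isOpen_component Gx
    refine hgN ?_
    have hb' : b ∈ pullback.fst G.hom x ⁻¹' SGA3x.neutralSet G := by rw [Set.mem_preimage, hb]; exact hzN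
    rw [H19Grp.preimage_neutralSet_field] at hb'
    have ha' := hab.mem_open hopen hb'
    rw [← H19Grp.preimage_neutralSet_field, Set.mem_preimage, ha] at ha'
    exact ha'
  have hηcl : η₀ ∉ closure C := fun h => by
    obtain ⟨Y, hY, hYi, hηY, hd⟩ := H28Top.exists_irreducible_of_mem_closure h
    obtain ⟨O, hO, hne, hsub⟩ := H28Top.IsConstructible.exists_isOpen_inter_subset hC hYi hd
    have hg := hYi.isGenericPoint_genericPoint hY
    exact hηC (hmax _ (hg.specializes hηY) ▸ hsub ⟨(hg.mem_open_set_iff hO).2 (by rwa [Set.inter_comm]), hg.mem⟩)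
  let U : S.Opens := ⟨S₀.ι '' (closure C)ᶜ, S₀.ι.isOpenEmbedding.isOpenMap _ isClosed_closure.isOpen_compl⟩
  refine ⟨U, ⟨_, η₀, hηcl, rfl⟩, ?_⟩
  have hopen : IsOpen (SGA3x.neutralSet G ∩ G.hom ⁻¹' (U : Set S)) := by
    have h : SGA3x.neutralSet G ∩ G.hom ⁻¹' (U : Set S) =
        W.ι '' ((closure Nᶜ)ᶜ) ∩ G.hom ⁻¹' (U : Set S) := by
      ext y
      refine ⟨fun ⟨hy, hyU⟩ => ⟨?_, hyU⟩, fun ⟨hy, hyU⟩ => ⟨?_, hyU⟩⟩
      · obtain ⟨s', hs', hss'⟩ := hyU
        have hyW : y ∈ W := hKW (hNK ⟨hy, show G.hom y ∈ S₀ from hss' ▸ s'.2⟩)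
        exact ⟨⟨y, hyW⟩, fun hcl => hs' (subset_closure ⟨⟨y, hyW⟩, ⟨hy, hcl⟩, hss'.symm⟩), rfl⟩
      · obtain ⟨w, hw, rfl⟩ := hy
        exact not_not.1 fun hwN => hw (subset_closure hwN)
    rw [h]
    exact (W.ι.isOpenEmbedding.isOpenMap _ isClosed_closure.isOpen_compl).inter (U.2.preimage G.hom.continuous)
  haveI : LocallyOfFinitePresentation (Red.bc U.ι G).hom :=
    inferInstanceAs (LocallyOfFinitePresentation (pullback.snd G.hom U.ι))
  have hr : Set.range (pullback.fst G.hom U.ι) = G.hom ⁻¹' (U : Set S) := by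
    rw [Scheme.Pullback.range_fst, U.range_ι]
  have hN' : IsOpen (SGA3x.neutralSet (Red.bc U.ι G)) := by
    rw [H19Grp.neutralSet_baseChange]
    have h2 := hopen.preimage (pullback.fst G.hom U.ι).continuous
    rwa [Set.preimage_inter, ← hr, Set.preimage_range, Set.inter_univ] at h2
  obtain ⟨inst, hi⟩ := H19Grp.exists_grpObj_neutralOpen (Red.bc U.ι G) hN'
  refine ⟨H19Grp.neutralOpen _ hN', inst, H19Grp.neutralOpenι _ hN', hi, ?_, ?_, ?_, fun u => ?_, ?_⟩
  · exact inferInstanceAs (IsOpenImmersion (H19Grp.neutralOpens _ hN').ι)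
  · exact H19Grp.quasiCompact_neutralOpen _ hN' ⊤ (fun _ => trivial) (.inl inferInstance)
  · exact inferInstanceAs (LocallyOfFiniteType ((H19Grp.neutralOpens _ hN').ι ≫ (Red.bc U.ι G).hom))
  · have hind := (H19Grp.neutralOpens _ hN').ι.isOpenEmbedding.isInducing
    have him : (H19Grp.neutralOpens _ hN').ι '' ((H19Grp.neutralOpen _ hN').hom ⁻¹' {u}) =
        H19Grp.neutralAt (Red.bc U.ι G) u := by
      rw [← H19Grp.neutralSet_inter_fibre]
      ext y
      exact ⟨fun ⟨w, hw, h⟩ => h ▸ ⟨w.2, hw⟩, fun ⟨hy, hyu⟩ => ⟨⟨y, hy⟩, hyu, rfl⟩⟩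
    have hirr : _root_.IsConnected (H19Grp.neutralAt (Red.bc U.ι G) u) :=
      (H19Grp.isIrreducible_neutralAt _ u).isConnected
    rw [← him] at hirr
    exact ⟨hirr.nonempty.of_image, hind.isPreconnected_image.1 hirr.isPreconnected⟩
  · rw [← hr, ← Set.image_preimage_eq_inter_range, ← H19Grp.neutralSet_baseChange,
      ← H19Grp.range_neutralOpenι (Red.bc U.ι G) hN', ← Set.range_comp]
    rfl

end Groth.Agent.S5679
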