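import Groth.Statements.S5680
import Groth.Agent.H28PicTan.NthRoot
import Groth.Agent.H12Pic.PicCurve.SmoothPic

set_option autoImplicit false
set_option linter.style.haveILetI false
set_option backward.isDefEq.respectTransparency.types false
set_option maxHeartbeats 1600000
universe u
open CategoryTheory CategoryTheory.Limits AlgebraicGeometry
open FGA
open Groth.Agent

namespace Groth.Agent.S5680

/-- Let A be an artinian local ring with maximal ideal m and ν ≥ 1 an integer with m^(ν+1) = 0; let X be
a scheme proper and flat over Spec A, n a natural number whose image in the residue field of A is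
nonzero, L an invertible module on X and L' an invertible module on the closed subscheme X ×_A
Spec(A/m^ν) whose n-th tensor power is isomorphic to the pullback of L. Then there is an invertible
module M on X whose n-th tensor power is isomorphic to L (existence of an isomorphism). -/
theorem result (A : Type u) [CommRing A] [IsArtinianRing A] [IsLocalRing A]
    (ν : ℕ) (hν : 1 ≤ ν) (hm : IsLocalRing.maximalIdeal A ^ (ν + 1) = ⊥)
    (X : Scheme.{u}) (f : X ⟶ Spec (CommRingCat.of A)) [IsProper f] [Flat f]
    (n : ℕ) (hn : (n : IsLocalRing.ResidueField A) ≠ 0)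
    (L : X.Modules) (hL : PicF.IsInvertible L)
    (L' : (pullback f (Spec.map (CommRingCat.ofHom (Ideal.Quotient.mk (IsLocalRing.maximalIdeal A ^ ν))))).Modules)
    (hL' : PicF.IsInvertible L')
    (hroot : Nonempty (CohB1.tensorPow L' n ≅
      (Scheme.Modules.pullback (pullback.fst f (Spec.map (CommRingCat.ofHom (Ideal.Quotient.mk (IsLocalRing.maximalIdeal A ^ ν)))))).obj L)) :
    ∃ M : X.Modules, PicF.IsInvertible M ∧ Nonempty (CohB1.tensorPow M n ≅ L) := by
  let g : Spec (CommRingCat.of (A ⧸ IsLocalRing.maximalIdeal A ^ ν)) ⟶ Spec (CommRingCat.of A) :=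
    Spec.map (CommRingCat.ofHom (Ideal.Quotient.mk (IsLocalRing.maximalIdeal A ^ ν)))
  haveI : IsClosedImmersion g := IsClosedImmersion.spec_of_surjective _ Ideal.Quotient.mk_surjective
  have hI : (IsLocalRing.maximalIdeal A ^ ν) ^ 2 = ⊥ := by
    rw [eq_bot_iff, ← pow_mul, ← hm]
    exact Ideal.pow_le_pow_right (by omega)
  have hi : (pullback.fst f g).ker * (pullback.fst f g).ker = ⊥ := by
    rw [Scheme.IdealSheafData.ker_fst_of_isClosedImmersion, ← H29Blow.comap_mul,
      H12Pic.PicCurve.SmoothPic.ker_thick_mul_self hI, eq_bot_iff, ← Scheme.IdealSheafData.le_map_iff_comap_le]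
    exact bot_le
  have hA : IsUnit (n : A) := by
    by_contra h
    refine hn ?_
    rw [← map_natCast (IsLocalRing.residue A)]
    exact (IsLocalRing.residue_eq_zero_iff _).2 h
  have hu : IsUnit (n : Γ(X, ⊤)) := by
    have h := hA.map (f.appTop.hom.comp (Scheme.ΓSpecIso (CommRingCat.of A)).inv.hom)
    rwa [map_natCast] at h
  obtain ⟨e⟩ := hroot
  obtain ⟨c, hc, hcn, -⟩ := H28PicTan.exists_root_closedImm (pullback.fst f g) hi n hu
    (c := H25Theta.cls L') ⟨L', rfl, hL'⟩ (d := H25Theta.cls L) ⟨L, rfl, hL⟩
    (by rw [← H25Theta.cls_pow, H25Theta.pull_cls]; exact Quot.sound ⟨e⟩)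
  obtain ⟨M, rfl, hM⟩ := hc
  refine ⟨M, hM, H25Theta.cls_eq.1 ?_⟩
  rw [H25Theta.cls_pow]
  exact hcn

end Groth.Agent.S5680
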