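import Groth.Statements.S5681
import Groth.Agent.S11755
import Groth.Agent.H28PicGrp.Group
import Groth.Agent.H28PicNorm.Proper
import Groth.Agent.H28PicNorm.BaseChange
import Groth.Agent.H18Descent.Basic

set_option autoImplicit false
set_option linter.style.haveILetI false
set_option backward.isDefEq.respectTransparency.types false
set_option maxHeartbeats 1600000
universe u
open CategoryTheory CategoryTheory.Limits AlgebraicGeometry
open FGA
open Groth.Agent

namespace Groth.Agent.S5681

/-- Let k be a field and X a scheme proper over k and geometrically normal (normal after every finite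
field extension of k in the same universe). Suppose the relative Picard functor of X over k,
sheafified for the etale topology, is represented by a k-scheme P locally of finite type over k
through the family of maps φ (classes of invertible modules on X ×_k T ↦ k-morphisms from T to P).
Then the connected component of the identity point of P (the image of the class of the structure
sheaf) is open and, as an open subscheme, is proper over k. (Local finite type of P is recorded as a
hypothesis.) -/
theorem result (k : Type u) [Field k] (X : Scheme.{u})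
    (f : X ⟶ Spec (CommRingCat.of k)) [IsProper f]
    (hnorm : ∀ (k' : Type u) [Field k'] [Algebra k k'], Module.Finite k k' →
      Pi1.IsNormalScheme (pullback f (Spec.map (CommRingCat.ofHom (algebraMap k k')))))
    (P : Over (Spec (CommRingCat.of k))) [LocallyOfFiniteType P.hom]
    (φ : ∀ T : Over (Spec (CommRingCat.of k)), PicF.Cl (PicF.XT f T) → (T ⟶ P)) (hP : PicRel.IsRelPic f P φ)
    (pt : ↥(Spec (CommRingCat.of k))) :
    ∃ U : P.left.Opens, (U : Set ↥P.left) =
        connectedComponent ((φ (Over.mk (𝟙 _)) (PicF.cl (Coh.structureModule _))).left.base pt) ∧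
      IsProper (U.ι ≫ P.hom) := by
  letI := H28PicGrp.grpObj hP
  obtain ⟨-, U, hU, hqc, -⟩ := Groth.Agent.S11755.result k f P φ hP
  haveI : Subsingleton ↥(Spec (CommRingCat.of k)) := inferInstanceAs (Subsingleton (PrimeSpectrum k))
  refine ⟨U, by rw [hU, Subsingleton.elim pt (IsLocalRing.closedPoint k)], ?_⟩
  haveI := hqc
  haveI : IsSeparated P.hom := (Groth.Agent.S11755.result k f P φ hP).1
  have hUc : IsClosed (U : Set P.left) := hU ▸ isClosed_connectedComponent
  let K := AlgebraicClosure k
  let g : Spec (CommRingCat.of K) ⟶ Spec (CommRingCat.of k) := Spec.map (CommRingCat.ofHom (algebraMap k K))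
  let PK := H12Pic.PicCurve.BaseChangePic.bcP g P
  let VK : PK.left.Opens := pullback.fst P.hom g ⁻¹ᵁ U
  haveI : LocallyOfFiniteType PK.hom := inferInstanceAs (LocallyOfFiniteType (pullback.snd P.hom g))
  let e : VK.toScheme ⟶ pullback (U.ι ≫ P.hom) g :=
    pullback.lift (pullback.fst P.hom g ∣_ U) (VK.ι ≫ pullback.snd P.hom g) (by
      rw [morphismRestrict_ι_assoc, pullback.condition, Category.assoc])
  haveI : IsIso e := by
    let j := pullback.map (U.ι ≫ P.hom) g P.hom g U.ι (𝟙 _) (𝟙 _) (by simp) (by simp)
    haveI : IsOpenImmersion j :=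
      MorphismProperty.pullbackMap (P := @IsOpenImmersion) (inferInstanceAs (IsOpenImmersion U.ι))
        (inferInstanceAs (IsOpenImmersion (𝟙 _))) rfl (Category.id_comp g).symm
    have he : e ≫ j = VK.ι := by
      refine pullback.hom_ext ?_ ?_
      · rw [Category.assoc, pullback.lift_fst, ← Category.assoc, pullback.lift_fst, morphismRestrict_ι]
      · rw [Category.assoc, pullback.lift_snd, Category.comp_id, pullback.lift_snd]
    have hr : Set.range VK.ι = Set.range j := by
      rw [Scheme.Pullback.range_map, Scheme.Opens.range_ι, Scheme.Opens.range_ι]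
      ext z
      simp [VK]
    have : e = (IsOpenImmersion.isoOfRangeEq VK.ι j hr).hom := by
      rw [← cancel_mono j, he, IsOpenImmersion.isoOfRangeEq_hom_fac]
    rw [this]
    infer_instance
  have hsnd : e ≫ pullback.snd (U.ι ≫ P.hom) g = VK.ι ≫ PK.hom := pullback.lift_snd _ _ _
  haveI : QuasiCompact (VK.ι ≫ PK.hom) := by rw [← hsnd]; infer_instance
  haveI : LocallyOfFiniteType (pullback.snd f g) := inferInstance
  have hUC : UniversallyClosed (VK.ι ≫ PK.hom) :=
    H28PicNorm.universallyClosed_of_clopen (H28PicNorm.isNormalScheme_algebraic f hnorm K)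
      (H28PicNorm.isRelPic_bc f g hP) VK (hUc.preimage (pullback.fst P.hom g).continuous)
  haveI : UniversallyClosed (pullback.snd (U.ι ≫ P.hom) g) :=
    (MorphismProperty.cancel_left_of_respectsIso @UniversallyClosed e _).1 (hsnd ▸ hUC)
  haveI : IsProper (pullback.snd (U.ι ≫ P.hom) g) := { }
  exact MorphismProperty.of_pullback_snd_of_descendsAlong (P := @IsProper)
    (Q := Groth.Agent.H18Descent.fpqc) (g := g) ⟨⟨inferInstance, inferInstance⟩, inferInstance⟩ inferInstance

end Groth.Agent.S5681
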