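import Groth.Statements.S5682
import Groth.Agent.H28SemiAb.Descend
import Groth.Agent.H28SemiAb.NeronNhd
import Groth.Agent.H28SemiAb.ReducedPow
import Groth.Agent.H19Chev.Complement

set_option autoImplicit false
set_option linter.style.haveILetI false
set_option backward.isDefEq.respectTransparency false
set_option backward.isDefEq.respectTransparency.types false
set_option maxHeartbeats 1600000
set_option synthInstance.maxHeartbeats 200000
attribute [local instance] CategoryTheory.Functor.grpObjObj
universe u
open CategoryTheory CategoryTheory.Limits MonoidalCategory CartesianMonoidalCategory MonObj GrpObj AlgebraicGeometry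
open FGA

attribute [local instance 2000] CategoryTheory.Hom.group CategoryTheory.Hom.monoid

namespace Groth.Agent.S5682

/-- Let k be a field and G a commutative group scheme of finite type over k such that the base change of
G to an algebraic closure of k contains no closed subgroup scheme isomorphic to the additive group.
Then there is a closed subgroup scheme H of G which is smooth over k and whose underlying set is the
connected component of the identity point of G; in other words the reduced identity component of G
is a smooth subgroup scheme. -/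
theorem result (k : Type u) [Field k]
    (G : Over (Spec (CommRingCat.of k))) [GrpObj G] [IsCommMonObj G] [LocallyOfFiniteType G.hom] [QuasiCompact G.hom]
    (hGa : ∀ pt : ↥(Spec (CommRingCat.of k)), SGA7.FibreUnipotentRankZero pt G)
    (pt : ↥(Spec (CommRingCat.of k))) :
    ∃ (H : Over (Spec (CommRingCat.of k))) (_ : GrpObj H) (i : H ⟶ G), IsMonHom i ∧ IsClosedImmersion i.left ∧
      Smooth H.hom ∧ Set.range i.left.base = connectedComponent (η[G].left.base pt) := by
  let Ω := AlgebraicClosure ((Spec (CommRingCat.of k)).residueField pt)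
  let g : Spec (CommRingCat.of Ω) ⟶ Spec (CommRingCat.of k) := Red.geomPt pt
  obtain ⟨gL, hilm⟩ := Groth.Agent.H19Grp.exists_grpObj_idComp G
  let L := Groth.Agent.H19Grp.idComp G
  let il : L ⟶ G := Groth.Agent.H19Grp.idCompι G
  haveI : IsMonHom il := hilm
  haveI : IsClosedImmersion il.left := inferInstanceAs (IsClosedImmersion (Groth.Agent.H19Grp.idCompι G).left)
  haveI : Mono il := Over.mono_of_mono_left _
  haveI : IsCommMonObj L := Groth.Agent.H28SemiAb.isCommMonObj_of_mono il
  haveI : LocallyOfFiniteType L.hom := by rw [← Over.w il]; infer_instance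
  haveI : QuasiCompact L.hom := by rw [← Over.w il]; infer_instance
  have hrange := Groth.Agent.H19Grp.range_idCompι G
  haveI : ConnectedSpace L.left := by
    have hc : _root_.IsConnected (Set.range il.left) := hrange ▸ isConnected_connectedComponent
    haveI : ConnectedSpace (Set.range il.left) := isConnected_iff_connectedSpace.1 hc
    exact il.left.isClosedEmbedding.isEmbedding.toHomeomorph.symm.surjective.connectedSpace
      il.left.isClosedEmbedding.isEmbedding.toHomeomorph.symm.continuous
  haveI : GeometricallyConnected L.hom :=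
    Groth.Agent.H28NT.geometricallyConnected_of_section L.hom η[L].left (Over.w η[L])
  let LΩ := (Over.pullback g).obj L
  haveI : ConnectedSpace LΩ.left :=
    GeometricallyConnected.geometrically_connectedSpace (f := L.hom) g _ _ (IsPullback.of_hasPullback L.hom g)
  haveI : LocallyOfFiniteType LΩ.hom := inferInstanceAs (LocallyOfFiniteType (pullback.snd L.hom g))
  haveI : QuasiCompact LΩ.hom := inferInstanceAs (QuasiCompact (pullback.snd L.hom g))
  have hG : Groth.Agent.H28SemiAb.NoGa ((Over.pullback g).obj G) := fun j hj hjc => hGa pt j hj hjc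
  haveI : IsClosedImmersion ((Over.pullback g).map il).left :=
    MorphismProperty.of_isPullback (Groth.Agent.H28SemiAb.isPullback_bc g il).flip inferInstance
  have hL : Groth.Agent.H28SemiAb.NoGa LΩ := hG.of_closed ((Over.pullback g).map il)
  obtain ⟨n, R, gR, rr, d, hn, hrr, hrrc, hRr, hrrs, hd⟩ := Groth.Agent.H28SemiAb.exists_pow_factor_reduced LΩ
  haveI := hrr; haveI := hrrc; haveI := hRr; haveI := hrrs
  haveI : Mono rr := Over.mono_of_mono_left _
  haveI : IsCommMonObj R := Groth.Agent.H28SemiAb.isCommMonObj_of_mono rr
  haveI : LocallyOfFiniteType R.hom := by rw [← Over.w rr]; infer_instance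
  haveI : QuasiCompact R.hom := by rw [← Over.w rr]; infer_instance
  haveI : Smooth R.hom := Groth.Agent.H19Grp.smooth_of_isReduced_perfect R
  haveI : ConnectedSpace R.left := by
    let e : R.left ≃ₜ LΩ.left := rr.left.isClosedEmbedding.isEmbedding.toHomeomorph.trans
      ((Homeomorph.setCongr rr.left.surjective.range_eq).trans (Homeomorph.Set.univ _))
    exact e.symm.surjective.connectedSpace e.symm.continuous
  obtain ⟨hRs, -⟩ := Groth.Agent.H28SemiAb.surjective_flat_pow R (hL.of_closed rr) hn
  haveI := hRs
  haveI hs : Surjective ((Over.pullback g).map ((𝟙 L) ^ n : L ⟶ L)).left := by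
    rw [Groth.Agent.H28SemiAb.map_pow_id g L n]
    haveI : Surjective ((((𝟙 R) ^ n : R ⟶ R) ≫ rr).left) := by rw [Over.comp_left]; infer_instance
    rw [Groth.Agent.H19Chev.id_pow_comp rr n] at this
    haveI : Surjective (rr.left ≫ ((𝟙 LΩ) ^ n : LΩ ⟶ LΩ).left) := by rw [← Over.comp_left]; exact this
    exact Surjective.of_comp rr.left _
  haveI : IsMonHom ((𝟙 L) ^ n : L ⟶ L) := Groth.Agent.H28SemiAb.isMonHom_pow n
  obtain ⟨C, gC, p, i, hp, hi, hpi, hpf, hps, hpp, hic⟩ :=
    Groth.Agent.H19Quot.AbelianCat.exists_image ((𝟙 L) ^ n : L ⟶ L) ⟨inferInstance, inferInstance⟩ ⟨inferInstance, inferInstance⟩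
  haveI := hp; haveI := hi; haveI := hpf; haveI := hps; haveI := hpp; haveI := hic
  haveI : Mono i := Over.mono_of_mono_left _
  haveI : Surjective i.left := by
    have hsq := Groth.Agent.H28SemiAb.isPullback_bc g ((𝟙 L) ^ n : L ⟶ L)
    haveI := (Groth.Agent.H28SemiAb.fpqc_fst g L).1.1
    haveI : Surjective (((Over.pullback g).map ((𝟙 L) ^ n : L ⟶ L)).left ≫ pullback.fst L.hom g) := by
      haveI := (Groth.Agent.H28SemiAb.fpqc_fst g L).1.1
      infer_instance
    rw [hsq.w] at this
    haveI h2 : Surjective ((𝟙 L) ^ n : L ⟶ L).left := Surjective.of_comp (pullback.fst L.hom g) _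
    rw [← hpi, Over.comp_left] at h2
    haveI := h2
    exact Surjective.of_comp p.left _
  let pΩ := (Over.pullback g).map p
  let iΩ := (Over.pullback g).map i
  have hsqp := Groth.Agent.H28SemiAb.isPullback_bc g p
  have hsqi := Groth.Agent.H28SemiAb.isPullback_bc g i
  haveI : Flat pΩ.left := MorphismProperty.of_isPullback (P := @Flat) hsqp.flip hpf
  haveI : Surjective pΩ.left := MorphismProperty.of_isPullback (P := @Surjective) hsqp.flip hps
  haveI : LocallyOfFinitePresentation pΩ.left := MorphismProperty.of_isPullback (P := @LocallyOfFinitePresentation) hsqp.flip hpp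
  haveI : IsClosedImmersion iΩ.left := MorphismProperty.of_isPullback (P := @IsClosedImmersion) hsqi.flip hic
  haveI : Surjective iΩ.left := MorphismProperty.of_isPullback (P := @Surjective) hsqi.flip inferInstance
  haveI : IsMonHom pΩ := inferInstance
  have hpiΩ : pΩ ≫ iΩ = d ≫ rr := by
    rw [hd, ← Functor.map_comp, hpi, Groth.Agent.H28SemiAb.map_pow_id g L n]
  obtain ⟨v, hv, -⟩ := Groth.Agent.H19Grp.QuotientDesc.existsUnique_desc pΩ d fun T a b hab => by
    rw [← cancel_mono rr, Category.assoc, Category.assoc, ← hpiΩ, reassoc_of% hab]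
  have hvr : v ≫ rr = iΩ := Groth.Agent.H19Chev.cancel_quotient pΩ (by rw [← Category.assoc, hv, hpiΩ])
  haveI : IsClosedImmersion (v.left ≫ rr.left) := by rw [← Over.comp_left, hvr]; infer_instance
  haveI : IsClosedImmersion v.left := IsClosedImmersion.of_comp v.left rr.left
  haveI : Surjective v.left := ⟨fun y => by
    obtain ⟨x, hx⟩ := iΩ.left.surjective (rr.left y)
    refine ⟨x, rr.left.isEmbedding.injective ?_⟩
    rw [← hx, ← hvr, Over.comp_left, Scheme.Hom.comp_apply]⟩
  haveI : IsIso v.left := isIso_of_isClosedImmersion_of_surjective v.left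
  haveI : IsReduced ((Over.pullback g).obj C).left := isReduced_of_isOpenImmersion v.left
  haveI : LocallyOfFiniteType C.hom := by rw [← Over.w i]; infer_instance
  haveI : LocallyOfFiniteType ((Over.pullback g).obj C).hom := inferInstanceAs (LocallyOfFiniteType (pullback.snd C.hom g))
  have hCΩ : Smooth ((Over.pullback g).obj C).hom := Groth.Agent.H19Grp.smooth_of_isReduced_perfect _
  obtain ⟨hg1, hg2, hg3⟩ := Groth.Agent.H28SemiAb.fpqc_field g
  have hC : Smooth C.hom := MorphismProperty.of_isPullback_of_descendsAlong (P := @Smooth)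
    (Q := @Surjective ⊓ @Flat ⊓ @QuasiCompact) (IsPullback.of_hasPullback C.hom g).flip ⟨⟨hg1, hg2⟩, hg3⟩ hCΩ
  refine ⟨C, gC, i ≫ il, inferInstance, by rw [Over.comp_left]; infer_instance, hC, ?_⟩
  rw [Over.comp_left, Scheme.Hom.comp_base, TopCat.coe_comp, Set.range_comp, i.left.surjective.range_eq, Set.image_univ,
    hrange]
  exact congrArg (fun z => connectedComponent (η[G].left z)) (Subsingleton.elim (α := PrimeSpectrum k) _ pt)

end Groth.Agent.S5682
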