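import Groth.Statements.S5684
import Groth.Agent.H12Pic.InvDesc.CoverLocal
import Groth.Agent.H23Para.CounitDescent

set_option autoImplicit false
universe u
open CategoryTheory CategoryTheory.Limits AlgebraicGeometry
open FGA

namespace Groth.Agent.S5684

/-- Let f : X ⟶ S be quasi-compact and separated with the induced maps from sections of the structure
sheaf of S to sections of the structure sheaf of X bijective over every open of S, and let g : S' ⟶
S be flat, surjective and quasi-compact. If L is an invertible module on X whose pullback to X ×_S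
S' is isomorphic to the pullback along the second projection of some invertible module on S', then L
is isomorphic to the pullback along f of some invertible module on S. -/
theorem result {X S S' : Scheme.{u}} (f : X ⟶ S)
    [QuasiCompact f] [IsSeparated f] (hf : ∀ U : S.Opens, Function.Bijective (f.app U))
    (g : S' ⟶ S) [Flat g] [Surjective g] [QuasiCompact g]
    (L : X.Modules) (hL : PicF.IsInvertible L)
    (hdesc : ∃ N' : S'.Modules, PicF.IsInvertible N' ∧
      Nonempty ((Scheme.Modules.pullback (pullback.fst f g)).obj L ≅ (Scheme.Modules.pullback (pullback.snd f g)).obj N')) :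
    ∃ N : S.Modules, PicF.IsInvertible N ∧ Nonempty (L ≅ (Scheme.Modules.pullback f).obj N) := by
  obtain ⟨N', hN', ⟨θ₀⟩⟩ := hdesc
  refine Groth.Agent.H28Pinch.exists_invertible_of_locally_trivial f hf L fun s => ?_
  obtain ⟨V, hV, hsV, -⟩ := exists_isAffineOpen_mem_and_subset (U := (⊤ : S.Opens)) (x := s) trivial
  haveI : IsAffine V.toScheme := hV
  choose U hU hxU hUV hν using fun x : (g ⁻¹ᵁ V : S'.Opens) =>
    Groth.Agent.H12Pic.InvDesc.exists_affine_trivial hN' x.2
  obtain ⟨t, ht⟩ := (QuasiCompact.isCompact_preimage (f := g) _ V.isOpen hV.isCompact).elim_finite_subcover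
    (fun x => (U x : Set S')) (fun x => (U x).isOpen) fun x hx => Set.mem_iUnion.2 ⟨⟨x, hx⟩, hxU _⟩
  haveI : ∀ k : t, IsAffine (U k.1).toScheme := fun k => hU k.1
  let u : ∀ k : t, (U k.1).toScheme ⟶ V.toScheme := fun k => IsOpenImmersion.lift V.ι ((U k.1).ι ≫ g) (by
    rintro _ ⟨x, rfl⟩
    rw [Scheme.Opens.range_ι]
    exact hUV k.1 x.2)
  have hu : ∀ k, u k ≫ V.ι = (U k.1).ι ≫ g := fun k => IsOpenImmersion.lift_fac _ _ _
  haveI : ∀ k, Flat (u k) := fun k => by
    haveI : Flat (u k ≫ V.ι) := (hu k).symm ▸ inferInstance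
    exact Groth.Agent.H12Pic.InvDesc.flat_of_comp_ι (u k)
  obtain ⟨W, hW, g', hg, hgs, ⟨θ⟩⟩ := Groth.Agent.H12Pic.InvDesc.exists_cover_of_finite f (κ := t) u (fun v => by
    obtain ⟨x, hx⟩ := g.surjective (V.ι v)
    obtain ⟨i, hi, hxi⟩ := Set.mem_iUnion₂.1 (ht (show x ∈ ((g ⁻¹ᵁ V : S'.Opens) : Set S') by
      change g x ∈ V
      rw [hx]
      exact v.2))
    exact ⟨⟨i, hi⟩, ⟨x, hxi⟩, V.ι.isOpenEmbedding.injective (by
      rw [← Scheme.Hom.comp_apply, hu, Scheme.Hom.comp_apply]
      exact hx)⟩) L (fun k => by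
    rw [hu]
    exact Groth.Agent.H12Pic.InvDesc.nonempty_iso_of_twist f g _ θ₀ (hν k.1).some)
  have hbij : ∀ O : V.toScheme.Opens, Function.Bijective ((f ∣_ V).app O) := fun O => by
    rw [morphismRestrict_app]
    exact Function.Bijective.comp (g := X.presheaf.map (eqToHom (image_morphismRestrict_preimage f V O)).op)
      (ConcreteCategory.bijective_of_isIso _) (hf _)
  haveI : QuasiCompact (f ∣_ V) := IsZariskiLocalAtTarget.restrict ‹QuasiCompact f› V
  haveI : IsSeparated (f ∣_ V) := IsZariskiLocalAtTarget.restrict ‹IsSeparated f› V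
  let L' := (Scheme.Modules.pullback (f ⁻¹ᵁ V).ι).obj L
  obtain ⟨hN, hiso, -⟩ := Groth.Agent.H23Para.invertible_and_counit_of_trivial (f ∣_ V) hbij g' L'
    (Groth.Agent.H11Ample.isInvertible_pullback _ hL) (Groth.Agent.H12Pic.InvDesc.triv_restrict f g' θ)
  obtain ⟨D, hsD, ⟨ν⟩⟩ := hN ⟨s, hsV⟩
  refine ⟨V.ι ''ᵁ D, ⟨⟨s, hsV⟩, hsD, rfl⟩, Groth.Agent.H12Pic.InvDesc.triv_of_restrict f D ?_⟩
  exact (Scheme.Modules.pullback _).mapIso
      (asIso ((Scheme.Modules.pullbackPushforwardAdjunction (f ∣_ V)).counit.app L')).symm ≪≫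
    (Scheme.Modules.pullbackComp _ _).app _ ≪≫
    (Scheme.Modules.pullbackCongr (morphismRestrict_ι (f ∣_ V) D).symm).app _ ≪≫
    ((Scheme.Modules.pullbackComp _ D.ι).app _).symm ≪≫
    (Scheme.Modules.pullback _).mapIso (((Scheme.Modules.restrictFunctorIsoPullback D.ι).app _).symm ≪≫ ν) ≪≫
    PicLoc.pullbackStructureIso _

end Groth.Agent.S5684
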