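import Groth.Statements.S5686
import Groth.Agent.H28PicTan.NthPower

set_option autoImplicit false
universe u
open CategoryTheory CategoryTheory.Limits AlgebraicGeometry
open FGA

namespace Groth.Agent.S5686

/-- Let S be a locally Noetherian scheme, f : X ⟶ S proper and flat, and suppose the relative Picard
functor of X over S (sheafified for the etale topology) is represented by an S-scheme P, locally of
finite type over S, through the family of maps φ. Let n be a natural number and m : P ⟶ P an
S-morphism such that for every S-scheme T and every invertible module L on X ×_S T, φ applied to the
class of the n-th tensor power of L equals φ applied to the class of L followed by m (so m is the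
n-th power map of the Picard scheme). Then m is etale at all points of P whose residue
characteristic is prime to n: the restriction of m to the open subset of P where n is invertible is
etale. (Local finite type of P over S is recorded as a hypothesis.) -/
theorem result {X S : Scheme.{u}} [IsLocallyNoetherian S] (f : X ⟶ S) [IsProper f] [Flat f]
    (P : Over S) [LocallyOfFiniteType P.hom] (φ : ∀ T : Over S, PicF.Cl (PicF.XT f T) → (T ⟶ P))
    (hP : PicRel.IsRelPic f P φ) (n : ℕ) (m : P ⟶ P)
    (hm : ∀ (T : Over S) (L : (PicF.XT f T).Modules), PicF.IsInvertible L →
      φ T (PicF.cl (CohB1.tensorPow L n)) = φ T (PicF.cl L) ≫ m) :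
    Etale ((P.left.basicOpen (n : Γ(P.left, ⊤))).ι ≫ m.left) := by
  exact Groth.Agent.H28PicTan.etale_pow hP n m hm

end Groth.Agent.S5686
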