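import Groth.Statements.S5687
import Groth.Agent.H28PicTan.Obstruction
import Groth.Agent.H9Hens.BranchNormal
import Groth.Agent.H17.PullCl

set_option autoImplicit false
set_option linter.style.haveILetI false
set_option backward.isDefEq.respectTransparency.types false
set_option maxHeartbeats 1600000
universe u
open CategoryTheory CategoryTheory.Limits AlgebraicGeometry
open FGA
open Groth.Agent

namespace Groth.Agent.S5687

/-- Let S be a locally Noetherian scheme, f : X ⟶ S proper and flat, and P an S-scheme locally of finite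
type over S representing the relative Picard functor of X over S sheafified for the etale topology.
Let s be a point of S such that the second cohomology group of the structure sheaf of the fibre X_s
vanishes. Then there is an open neighbourhood U of s such that the inverse image of U in P is smooth
over S. (Local finite type of P over S is recorded as a hypothesis.) -/
theorem result {X S : Scheme.{u}} [IsLocallyNoetherian S] (f : X ⟶ S)
    [IsProper f] [Flat f] (P : Over S) [LocallyOfFiniteType P.hom] (hP : PicRel.RepresentedBy f P) (s : S)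
    (h2 : Subsingleton (Coh.HH (pullback f (S.fromSpecResidueField s)) (Coh.structureModule _) 2)) :
    ∃ U : S.Opens, s ∈ U ∧ Smooth ((P.hom ⁻¹ᵁ U).ι ≫ P.hom) := by
  haveI : LocallyOfFinitePresentation f := inferInstance
  haveI : LocallyOfFinitePresentation P.hom := inferInstance
  obtain ⟨φ, hP⟩ := hP
  have h2' : Subsingleton (CohIII.fiberH f (Coh.structureModule X) s 2) := by
    obtain ⟨e⟩ := H11Ample.nonempty_pullback_structureModule_iso (f.fiberι s)
    exact H28PicTan.subsingleton_HH_of_iso e.symm 2 h2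
  obtain ⟨W, hsW, hW⟩ := H28PicTan.exists_obstruction_nhd f s h2'
  refine ⟨W, hsW, H14IsoNat.SHCrit.smooth_of_lifting _ fun R _ _ _ I hI a b hab => ?_⟩
  haveI : IsClosedImmersion (H14IsoNat.SHCrit.thick I) :=
    IsClosedImmersion.spec_of_surjective _ Ideal.Quotient.mk_surjective
  -- the closed point goes to `W`
  obtain ⟨z, hz⟩ : ∃ z, H14IsoNat.SHCrit.thick I z = IsLocalRing.closedPoint R :=
    H8Props.FormallySmoothScheme.comap_mk_surjective hI _
  have hb : b (IsLocalRing.closedPoint R) ∈ W := by
    rw [← hz, ← Scheme.Hom.comp_apply, hab]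
    exact (a z).2
  -- the class over the thickened base
  haveI : Nontrivial (R ⧸ I) := Ideal.Quotient.nontrivial_iff.2 (fun h => by
    rw [h, Ideal.top_pow] at hI; exact top_ne_bot hI)
  haveI : IsLocalRing (R ⧸ I) := IsLocalRing.of_surjective' (Ideal.Quotient.mk I) Ideal.Quotient.mk_surjective
  haveI : HenselianLocalRing (R ⧸ I) := H9Hens.henselianLocalRing_quotient I
  haveI : IsLocalHom (Ideal.Quotient.mk I) :=
    .of_surjective _ Ideal.Quotient.mk_surjective
  haveI : IsSepClosed (IsLocalRing.ResidueField (R ⧸ I)) :=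
    H9Hens.isSepClosed_of_ringEquiv (RingEquiv.ofBijective (IsLocalRing.ResidueField.map (Ideal.Quotient.mk I))
      ⟨RingHom.injective _, fun y => by
        obtain ⟨y, rfl⟩ := IsLocalRing.residue_surjective y
        obtain ⟨x, rfl⟩ := Ideal.Quotient.mk_surjective y
        exact ⟨IsLocalRing.residue R x, rfl⟩⟩)
  let t : Spec (CommRingCat.of (R ⧸ I)) ⟶ S := H14IsoNat.SHCrit.thick I ≫ b
  let gT : Over.mk t ⟶ P := Over.homMk (a ≫ (P.hom ⁻¹ᵁ W).ι) (by
    show (a ≫ _) ≫ P.hom = t
    rw [Category.assoc]; exact hab.symm)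
  obtain ⟨c, hc, hcg⟩ := H28PicTan.exists_class (R ⧸ I) t hP gT
  -- the thickening of `X_R`
  let Q : Over S := Over.mk b
  let j : Over.mk t ⟶ Q := Over.homMk (H14IsoNat.SHCrit.thick I) rfl
  let i : pullback f t ⟶ pullback f b := PicF.XTmap f j
  have hsq : IsPullback i (pullback.snd f t) (pullback.snd f b) (H14IsoNat.SHCrit.thick I) :=
    IsPullback.of_right (h₁₂ := pullback.fst f b) (v₁₃ := f) (h₂₂ := b)
      (by rw [show i ≫ pullback.fst f b = pullback.fst f t from H17.PullCl.XTmap_fst f j]
          exact IsPullback.of_hasPullback f t)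
      (H17.PullCl.XTmap_snd f j) (IsPullback.of_hasPullback f b)
  haveI : IsClosedImmersion i := MorphismProperty.of_isPullback hsq.flip ‹_›
  have hker : i.ker = (H14IsoNat.SHCrit.thick I).ker.comap (pullback.snd f b) := by
    rw [← hsq.isoPullback_hom_fst, Scheme.Hom.ker_comp_of_isIso,
      Scheme.IdealSheafData.ker_fst_of_isClosedImmersion]
  have hi : i.ker * i.ker = ⊥ := by
    rw [hker, ← H29Blow.comap_mul, H12Pic.PicCurve.SmoothPic.ker_thick_mul_self hI,
      eq_bot_iff, ← Scheme.IdealSheafData.le_map_iff_comap_le]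
    exact bot_le
  obtain ⟨d, hd, hdc⟩ := H12Pic.PicCurve.SmoothPic.exists_lift_cl i hi (hW R b hb I _ hker) c hc
  let h : Q ⟶ P := φ Q d
  have hn : j ≫ h = gT := by
    rw [← hP.natural Q (Over.mk t) j d hd]
    exact (congrArg (φ (Over.mk t)) hdc).trans hcg
  have hlift : ∀ x, h.left x ∈ P.hom ⁻¹ᵁ W := fun x => by
    show P.hom (h.left x) ∈ W
    rw [← Scheme.Hom.comp_apply, Over.w h]
    exact ((IsLocalRing.specializes_closedPoint x).map b.continuous).mem_open W.2 hb
  have hr : Set.range h.left ⊆ Set.range (P.hom ⁻¹ᵁ W).ι := by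
    rintro _ ⟨x, rfl⟩
    rw [Scheme.Opens.range_ι]; exact hlift x
  refine ⟨IsOpenImmersion.lift (P.hom ⁻¹ᵁ W).ι h.left hr, ?_, ?_⟩
  · rw [← cancel_mono (P.hom ⁻¹ᵁ W).ι, Category.assoc, IsOpenImmersion.lift_fac]
    exact congrArg (fun m => m.left) hn
  · rw [IsOpenImmersion.lift_fac_assoc]; exact Over.w h

end Groth.Agent.S5687
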