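import Groth.Statements.S5688
import Groth.Agent.S5681
import Groth.Agent.S11755
import Groth.Agent.H28PicGrp.Group
import Groth.Agent.H28Geom.Field

set_option autoImplicit false
set_option linter.style.haveILetI false
set_option backward.isDefEq.respectTransparency.types false
set_option maxHeartbeats 1600000
universe u
open CategoryTheory CategoryTheory.Limits AlgebraicGeometry
open FGA
open Groth.Agent MonoidalCategory CartesianMonoidalCategory MonObj

namespace Groth.Agent.S5688

/-- Let k be a field and X a scheme proper over k and geometrically normal (normal after every finite
field extension of k in the same universe); suppose the relative Picard functor of X over k,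
sheafified for the etale topology, is represented by a k-scheme P locally of finite type through the
family of maps φ. Then there is a closed subscheme A of P which is smooth and proper over k and
whose underlying set is the connected component of the identity point of P (the image of the class
of the structure sheaf); being reduced with underlying set a subgroup, A is the abelian subvariety
of P with underlying set the identity component. (The published statement assumes X normal; for a
regular projective curve over an imperfect field whose base change to an algebraic closure is a
cuspidal rational curve the identity component of the Picard scheme is unipotent and not proper, and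
the published proof uses properness of the identity component, which needs the base change of X to
every finite extension of k to be normal; so X is taken geometrically normal here.) -/
theorem result (k : Type u) [Field k] (X : Scheme.{u})
    (f : X ⟶ Spec (CommRingCat.of k)) [IsProper f]
    (hnorm : ∀ (k' : Type u) [Field k'] [Algebra k k'], Module.Finite k k' →
      Pi1.IsNormalScheme (pullback f (Spec.map (CommRingCat.ofHom (algebraMap k k')))))
    (P : Over (Spec (CommRingCat.of k))) [LocallyOfFiniteType P.hom]
    (φ : ∀ T : Over (Spec (CommRingCat.of k)), PicF.Cl (PicF.XT f T) → (T ⟶ P)) (hP : PicRel.IsRelPic f P φ)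
    (pt : ↥(Spec (CommRingCat.of k))) :
    ∃ (A : Scheme.{u}) (i : A ⟶ P.left), IsClosedImmersion i ∧ Smooth (i ≫ P.hom) ∧ IsProper (i ≫ P.hom) ∧
      Set.range i.base = connectedComponent ((φ (Over.mk (𝟙 _)) (PicF.cl (Coh.structureModule _))).left.base pt) := by
  letI := H28PicGrp.grpObj hP
  haveI : IsCommMonObj P := H28PicGrp.isCommMonObj hP
  obtain ⟨U, hU, hprop⟩ := Groth.Agent.S5681.result k X f hnorm P φ hP pt
  haveI := hprop
  haveI : IsSeparated P.hom := (Groth.Agent.S11755.result k f P φ hP).1
  haveI : Subsingleton ↥(Spec (CommRingCat.of k)) := inferInstanceAs (Subsingleton (PrimeSpectrum k))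
  haveI : Subsingleton ↥(𝟙_ (Over (Spec (CommRingCat.of k)))).left :=
    inferInstanceAs (Subsingleton (Spec (CommRingCat.of k)))
  let e0 : P.left := (η[P]).left (IsLocalRing.closedPoint k)
  have he0 : (φ (Over.mk (𝟙 _)) (PicF.cl (Coh.structureModule _))).left.base pt = e0 := by
    have h : φ (Over.mk (𝟙 (Spec (CommRingCat.of k)))) (PicF.cl (Coh.structureModule _)) =
        toUnit _ ≫ η[P] := by
      rw [← Hom.one_def, H28PicGrp.one_eq hP]
      rfl
    rw [h]
    exact congrArg (η[P]).left (Subsingleton.elim _ _)
  rw [he0] at hU ⊢
  let Cc : TopologicalSpace.Closeds P.left := ⟨connectedComponent e0, isClosed_connectedComponent⟩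
  let ID := Scheme.IdealSheafData.vanishingIdeal Cc
  let i := ID.subschemeι
  have hri : Set.range i.base = connectedComponent e0 := by
    show Set.range ID.subschemeι = _
    exact H17.range_vanishingIdeal_subschemeι Cc
  refine ⟨ID.subscheme, i, inferInstance, ?_, ?_, hri⟩
  swap
  · have hr : Set.range i ⊆ Set.range U.ι := by rw [Scheme.Opens.range_ι, hU]; exact hri.le
    have hfac : IsOpenImmersion.lift U.ι i hr ≫ U.ι = i := IsOpenImmersion.lift_fac _ _ _
    haveI : IsClosedImmersion (IsOpenImmersion.lift U.ι i hr ≫ U.ι) := by rw [hfac]; infer_instance
    haveI : IsClosedImmersion (IsOpenImmersion.lift U.ι i hr) := IsClosedImmersion.of_comp _ U.ι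
    rw [← hfac, Category.assoc]
    infer_instance
  haveI : IsReduced ID.subscheme := H17.isReduced_vanishingIdeal_subscheme Cc
  haveI : LocallyOfFiniteType (i ≫ P.hom) := inferInstance
  obtain ⟨T, hT, hTu⟩ := H28Geom.exists_dense_torsion P i U hU hri
  haveI : GeometricallyReduced (i ≫ P.hom) := H28Geom.geometricallyReduced_of_dense _ T hT hTu
  exact H28Geom.smooth_of_geometricallyReduced P i (hri ▸ hU ▸ U.2)

end Groth.Agent.S5688
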