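import Groth.Statements.S5691
import Mathlib.CategoryTheory.Limits.Types.Equalizers
import Mathlib.CategoryTheory.Limits.Types.Filtered
import Mathlib.CategoryTheory.Subobject.ArtinianObject
import Mathlib.CategoryTheory.Elements

set_option autoImplicit false
universe u
open CategoryTheory CategoryTheory.Limits
open FGA

namespace Groth.Agent.S5691

/-- Let C be a small category with finite limits all of whose objects are artinian (the subobjects of
each object satisfy the descending chain condition), and let F be a set-valued functor on C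
preserving finite limits. Then F is strictly pro-representable: there are a small cofiltered
category J and a diagram D : J ⥤ C all of whose transition morphisms are epimorphisms such that F is
isomorphic to the colimit of the corepresentable functors Hom(D j, -). -/
theorem result {C : Type u} [SmallCategory C]
    [HasFiniteLimits C] (hart : ∀ X : C, IsArtinianObject X) (F : C ⥤ Type u) [PreservesFiniteLimits F] :
    ∃ (J : Type u) (_ : SmallCategory J) (_ : IsCofiltered J) (D : J ⥤ C),
      (∀ ⦃j j' : J⦄ (a : j ⟶ j'), Epi (D.map a)) ∧ Nonempty (F ≅ colimit (D.op ⋙ coyoneda)) := by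
  classical
  -- two morphisms out of X agreeing on a minimal element are equal; minimal elements dominate everything
  let Min : ObjectProperty F.Elements := fun e => ∀ ⦃Y : C⦄ (i : Y ⟶ e.1), Mono i → (∃ y, F.map i y = e.2) → IsIso i
  have eqlift : ∀ {X Y : C} (f g : X ⟶ Y) (x : F.obj X), F.map f x = F.map g x →
      ∃ y, F.map (equalizer.ι f g) y = x := by
    intro X Y f g x h
    have hl : IsLimit (Fork.ofι (F.map (equalizer.ι f g))
        (by rw [← F.map_comp, ← F.map_comp, equalizer.condition]) : Fork (F.map f) (F.map g)) :=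
      isLimitForkMapOfIsLimit F (equalizer.condition f g) (equalizerIsEqualizer f g)
    obtain ⟨y, hy, -⟩ := Types.unique_of_type_equalizer _ _ hl x h
    exact ⟨y, hy⟩
  have uniq : ∀ {e : F.Elements}, Min e → ∀ {Y : C} (f g : e.1 ⟶ Y), F.map f e.2 = F.map g e.2 → f = g := by
    intro e he Y f g h
    have : IsIso (equalizer.ι f g) := he _ inferInstance (eqlift f g e.2 h)
    exact eq_of_epi_equalizer
  have dom : ∀ e : F.Elements, ∃ m : F.Elements, Min m ∧ Nonempty (m ⟶ e) := by
    rintro ⟨X, x⟩
    have := hart X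
    obtain ⟨P, ⟨y, hy⟩, hP⟩ := (wellFounded_lt (α := Subobject X)).has_min
      {P : Subobject X | ∃ y, F.map P.arrow y = x}
      ⟨Subobject.mk (𝟙 X), F.map (Subobject.underlyingIso (𝟙 X)).inv x, by
        rw [← Functor.map_comp_apply]; simp⟩
    refine ⟨⟨(P : C), y⟩, ?_, ⟨⟨P.arrow, hy⟩⟩⟩
    intro Z i hi hz
    obtain ⟨z, hz⟩ := hz
    let Q := Subobject.mk (i ≫ P.arrow)
    have hQ : Q ≤ P := Subobject.mk_le_of_comm i rfl
    have hQP : ¬ Q < P := hP Q ⟨F.map (Subobject.underlyingIso (i ≫ P.arrow)).inv z, by
      rw [← Functor.map_comp_apply]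
      simp only [Q, Subobject.underlyingIso_arrow, Functor.map_comp_apply]
      exact (congrArg _ hz).trans hy⟩
    have heq : Q = P := eq_of_le_of_not_lt hQ hQP
    have hle : P ≤ Q := heq.ge
    refine ⟨⟨Subobject.ofLE P Q hle ≫ (Subobject.underlyingIso (i ≫ P.arrow)).hom, ?_, ?_⟩⟩
    · rw [← cancel_mono i, ← cancel_mono P.arrow]
      simp [Category.assoc, Q]
    · rw [← cancel_mono P.arrow]
      simp [Category.assoc, Q]
  have cofil : IsCofiltered Min.FullSubcategory := by
    obtain ⟨t⟩ : Nonempty F.Elements := by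
      let z := (Types.isTerminalEquivUnique _).toFun (IsTerminal.isTerminalObj F (⊤_ C) terminalIsTerminal)
      exact ⟨⟨⊤_ C, z.default⟩⟩
    obtain ⟨m, hm, -⟩ := dom t
    have : Nonempty Min.FullSubcategory := ⟨⟨m, hm⟩⟩
    refine { cone_objs := ?_, cone_maps := ?_ }
    · rintro ⟨a, ha⟩ ⟨b, hb⟩
      let e := (Types.binaryProductIso (F.obj a.1) (F.obj b.1)).inv (a.2, b.2)
      let c : F.obj (a.1 ⨯ b.1) := (PreservesLimitPair.iso F a.1 b.1).inv e
      obtain ⟨m, hm, ⟨p⟩⟩ := dom ⟨a.1 ⨯ b.1, c⟩
      have h1 : F.map prod.fst c = a.2 := by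
        rw [← types_comp_apply (g := F.map prod.fst)]
        simp [c, e]
      have h2 : F.map prod.snd c = b.2 := by
        rw [← types_comp_apply (g := F.map prod.snd)]
        simp [c, e]
      exact ⟨⟨m, hm⟩, ObjectProperty.homMk (p ≫ CategoryOfElements.homMk ⟨a.1 ⨯ b.1, c⟩ a prod.fst h1),
        ObjectProperty.homMk (p ≫ CategoryOfElements.homMk ⟨a.1 ⨯ b.1, c⟩ b prod.snd h2), trivial⟩
    · intro a b f g
      have : f = g := by
        ext : 2
        exact uniq a.property _ _ (f.hom.2.trans g.hom.2.symm)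
      exact ⟨a, 𝟙 a, by rw [this]⟩
  let D : Min.FullSubcategory ⥤ C := Min.ι ⋙ CategoryOfElements.π F
  refine ⟨Min.FullSubcategory, inferInstance, cofil, D, ?_, ?_⟩
  · intro j j' a
    refine ⟨fun {Z} g h w => uniq j'.property g h ?_⟩
    have e := congrArg (fun q => F.map q j.obj.2) w
    change F.map (a.hom.1 ≫ g) j.obj.2 = F.map (a.hom.1 ≫ h) j.obj.2 at e
    erw [Functor.map_comp_apply, Functor.map_comp_apply, a.hom.2] at e
    exact e
  let c : Cocone (D.op ⋙ coyoneda) :=
    { pt := F
      ι :=
        { app := fun j => coyonedaEquiv.symm j.unop.obj.2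
          naturality := fun i j a => by
            ext T x
            change F.map (a.unop.hom.1 ≫ x) _ = F.map x _
            erw [Functor.map_comp_apply, a.unop.hom.2] ; rfl } }
  have hc : IsColimit c := evaluationJointlyReflectsColimits c fun T =>
    Types.FilteredColimit.isColimitOf _ _
      (fun t => by
        obtain ⟨m, hm, ⟨p⟩⟩ := dom ⟨T, t⟩
        exact ⟨Opposite.op ⟨m, hm⟩, p.1, p.2.symm⟩)
      (fun i j f g h => by
        obtain ⟨k, a, b, -⟩ := cofil.cone_objs i.unop j.unop
        refine ⟨Opposite.op k, a.op, b.op, uniq k.property (a.hom.1 ≫ f) (b.hom.1 ≫ g) ?_⟩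
        erw [Functor.map_comp_apply, Functor.map_comp_apply, a.hom.2, b.hom.2]
        exact h)
  exact ⟨hc.coconePointUniqueUpToIso (colimit.isColimit _)⟩

end Groth.Agent.S5691
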