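import Groth.Statements.S5692
import Groth.Agent.H29Fitt.LocFree
import Groth.Agent.H29Fitt.Comap
import Groth.Agent.H29Fitt.FreeLocal

set_option autoImplicit false
universe u
set_option linter.style.haveILetI false
open CategoryTheory CategoryTheory.Limits AlgebraicGeometry
open FGA

namespace Groth.Agent.S5692

/-- Let S be a locally Noetherian scheme, M a coherent module on S and r a natural number. Then there is
an immersion e : Z ⟶ S with the following universal property: for every scheme T and every morphism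
g : T ⟶ S, the pullback of M along g is locally free of rank r if and only if g factors through e.
If moreover M is generated by r sections on a neighbourhood of every point of S (equivalently all
fibres of M have rank at most r), then e is a closed immersion. -/
theorem result (S : Scheme.{u}) [IsLocallyNoetherian S]
    (M : S.Modules) (hM : Coh.IsCoh M) (r : ℕ) :
    ∃ (Z : Scheme.{u}) (e : Z ⟶ S), IsImmersion e ∧
      (∀ (T : Scheme.{u}) (g : T ⟶ S),
        FlatMod.IsFinLocFreeOfRank r ((Scheme.Modules.pullback g).obj M) ↔ ∃ g' : T ⟶ Z, g' ≫ e = g) ∧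
      ((∀ s : ↥S, ∃ U : S.Opens, s ∈ U ∧ ∃ p : FlatMod.freeMod (↑U) r ⟶ M.restrict U.ι, Epi p) →
        IsClosedImmersion e) := by
  have hq : Coh.IsQCoh M := hM.1
  have hF : CohB1.IsFT M := hM.2
  have hmono : ∀ k l : ℕ, k ≤ l → Fitt.sheafIdeal M k ≤ Fitt.sheafIdeal M l := fun k l hkl => by
    intro U
    rw [Groth.Agent.H29Fitt.sheafIdeal_ideal M hq hF k U,
      Groth.Agent.H29Fitt.sheafIdeal_ideal M hq hF l U]
    refine Ideal.span_mono ?_
    rintro d ⟨n, x, a, hx, ha, rfl⟩
    exact ⟨n, x, a, hx, fun i hi => ha i (by omega), rfl⟩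
  let O : S.Opens := (Fitt.sheafIdeal M r).support.compl
  let I : S.IdealSheafData := ⨆ k : Fin r, Fitt.sheafIdeal M k
  refine ⟨(I.comap O.ι).subscheme, (I.comap O.ι).subschemeι ≫ O.ι, inferInstance, fun T f => ?_, fun hepi => ?_⟩
  swap
  · haveI : IsIso O.ι := by
      have hO : O = ⊤ := by
        refine top_le_iff.mp fun s _ => ?_
        obtain ⟨U, hs, p, hp⟩ := hepi s
        exact Groth.Agent.H29Fitt.not_mem_support_of_epi M hq hF p hp s hs
      rw [hO]
      exact S.topIso.isIso_hom
    infer_instance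
  refine Iff.symm ?_
  have hq' := Groth.Agent.H29Fitt.isQCoh_pullback f M hq
  have hft' := Groth.Agent.H29Fitt.isFT_pullback f M hq hF
  rw [Groth.Agent.H29Fitt.isFinLocFreeOfRank_iff _ hq' hft' r]
  simp only [← Groth.Agent.H29Fitt.sheafIdeal_comap f M hq hF]
  have hbot : (∀ k : ℕ, k < r → (Fitt.sheafIdeal M k).comap f = ⊥) ↔ I.comap f = ⊥ := by
    rw [show I.comap f = ⨆ k : Fin r, (Fitt.sheafIdeal M k).comap f from
      (Scheme.IdealSheafData.map_gc f).l_iSup, iSup_eq_bot]
    exact ⟨fun h k => h k k.2, fun h k hk => h ⟨k, hk⟩⟩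
  have htop : (∀ k : ℕ, r ≤ k → (Fitt.sheafIdeal M k).comap f = ⊤) ↔
      Set.range f.base ⊆ (O : Set S) := by
    constructor
    · rintro h _ ⟨t, rfl⟩ hmem
      have h' := congrArg Scheme.IdealSheafData.support (h r le_rfl)
      rw [Scheme.IdealSheafData.support_comap, Scheme.IdealSheafData.support_top] at h'
      exact (SetLike.ext_iff.1 h' t).1 hmem
    · intro h k hk
      refine top_le_iff.1 (le_trans ?_ (Scheme.IdealSheafData.comap_mono f (hmono r k hk)))
      refine top_le_iff.2 ((Scheme.IdealSheafData.support_eq_bot_iff _).1 ?_)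
      rw [Scheme.IdealSheafData.support_comap]
      exact TopologicalSpace.Closeds.ext (Set.eq_empty_iff_forall_notMem.2 fun t ht => h ⟨t, rfl⟩ ht)
  rw [hbot, htop]
  constructor
  · rintro ⟨g, rfl⟩
    refine ⟨?_, ?_⟩
    · have h0 : (I.comap O.ι).comap (I.comap O.ι).subschemeι = ⊥ := by
        rw [← le_bot_iff, ← Scheme.IdealSheafData.le_map_iff_comap_le, Scheme.IdealSheafData.map_bot,
          Scheme.IdealSheafData.ker_subschemeι]
      rw [Scheme.IdealSheafData.comap_comp, Scheme.IdealSheafData.comap_comp, h0,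
        Scheme.IdealSheafData.comap_bot]
    · rintro _ ⟨t, rfl⟩
      exact ((I.comap O.ι).subschemeι (g t)).2
  · rintro ⟨hI, hO⟩
    let g₀ : T ⟶ O := IsOpenImmersion.lift O.ι f (by simpa using hO)
    have hg₀ : g₀ ≫ O.ι = f := IsOpenImmersion.lift_fac _ _ _
    have hker : (I.comap O.ι).subschemeι.ker ≤ g₀.ker := by
      rw [Scheme.IdealSheafData.ker_subschemeι, ← Scheme.IdealSheafData.map_bot,
        Scheme.IdealSheafData.le_map_iff_comap_le, ← Scheme.IdealSheafData.comap_comp, hg₀, hI]
    refine ⟨IsClosedImmersion.lift (I.comap O.ι).subschemeι g₀ hker, ?_⟩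
    rw [← Category.assoc, IsClosedImmersion.lift_fac, hg₀]

end Groth.Agent.S5692
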