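import Groth.Statements.S5693
import Groth.Agent.H19Grp.NeutralConstr
import Groth.Agent.H7Lim.Topology

set_option autoImplicit false
universe u
open CategoryTheory CategoryTheory.Limits MonoidalCategory CartesianMonoidalCategory MonObj GrpObj AlgebraicGeometry
open FGA
open Groth.Agent

namespace Groth.Agent.S5693

/-- Let S be a locally Noetherian scheme, G a commutative group scheme locally of finite type over S and
n ≥ 1 an integer. The set of points x of G for which n is the least positive integer such that the
n-th power morphism sends x into the union of the connected components of the identity of the fibres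
is locally constructible in G (the order function on the torsion-component set is locally
constructible). -/
theorem result (S : Scheme.{u}) [IsLocallyNoetherian S] (G : Over S) [GrpObj G]
    [IsCommMonObj G] [LocallyOfFiniteType G.hom] (n : ℕ) (hn : 0 < n) :
    Topology.IsLocallyConstructible {x : ↥G.left | ((𝟙 G : G ⟶ G) ^ n).left.base x ∈ SGA3x.neutralSet G ∧
      ∀ d : ℕ, 0 < d → d < n → ((𝟙 G : G ⟶ G) ^ d).left.base x ∉ SGA3x.neutralSet G} := by
  classical
  haveI : IsLocallyNoetherian G.left := LocallyOfFiniteType.isLocallyNoetherian G.hom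
  haveI : LocallyOfFinitePresentation G.hom := inferInstance
  haveI : QuasiSeparated G.hom := inferInstance
  have h0 : Topology.IsLocallyConstructible (SGA3x.neutralSet G) := H19Grp.isLocallyConstructible_neutralSet G
  have hp : ∀ d : ℕ, Topology.IsLocallyConstructible (((𝟙 G : G ⟶ G) ^ d).left.base ⁻¹' SGA3x.neutralSet G) :=
    fun d => H7Lim.isLocallyConstructible_preimage h0 _
  have hrest : Topology.IsLocallyConstructible
      (⋂ d : (Finset.Ioo 0 n : Finset ℕ), (((𝟙 G : G ⟶ G) ^ (d : ℕ)).left.base ⁻¹' SGA3x.neutralSet G)ᶜ) :=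
    Topology.IsLocallyConstructible.iInter fun d x => let ⟨U, h1, h2, h3⟩ := hp d x; ⟨U, h1, h2, h3.compl⟩
  refine (congrArg Topology.IsLocallyConstructible ?_).mpr ((hp n).inter hrest)
  ext x
  simp only [Set.mem_inter_iff, Set.mem_preimage, Set.mem_iInter, Set.mem_compl_iff, Set.mem_ofPred]
  exact ⟨fun h => ⟨h.1, fun d => h.2 d (Finset.mem_Ioo.1 d.2).1 (Finset.mem_Ioo.1 d.2).2⟩,
    fun h => ⟨h.1, fun d h1 h2 => h.2 ⟨d, Finset.mem_Ioo.2 ⟨h1, h2⟩⟩⟩⟩

end Groth.Agent.S5693
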