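import Groth.Statements.S5695
import Groth.Agent.H28Tau.Closed

set_option autoImplicit false
set_option linter.style.haveILetI false
set_option backward.isDefEq.respectTransparency.types false
universe u
open CategoryTheory CategoryTheory.Limits MonoidalCategory CartesianMonoidalCategory MonObj GrpObj AlgebraicGeometry
open FGA
open Groth.Agent

namespace Groth.Agent.S5695

/-- Let S be a locally Noetherian scheme all of whose residue fields have the same characteristic p (so
the characteristic exponent is max(p, 1)), and G a commutative group scheme locally of finite type
over S such that the union of the connected components of the identity in the fibres of G is closed.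
Then the set of points x of G such that for some integer n ≥ 1 prime to max(p, 1) the n-th power
morphism sends x into that union, is closed in G. -/
theorem result (S : Scheme.{u}) [IsLocallyNoetherian S]
    (p : ℕ) (hS : ∀ s : ↥S, ringChar (S.residueField s) = p)
    (G : Over S) [GrpObj G] [IsCommMonObj G] [LocallyOfFiniteType G.hom] (h0 : IsClosed (SGA3x.neutralSet G)) :
    IsClosed {x : ↥G.left | ∃ n : ℕ, 0 < n ∧ Nat.Coprime n (max p 1) ∧
      ((𝟙 G : G ⟶ G) ^ n).left.base x ∈ SGA3x.neutralSet G} := by
  exact H28Tau.isClosed_sigmaSet G h0 (max p 1)

end Groth.Agent.S5695
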