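import Groth.Statements.S5696
import Groth.Agent.H28Tau.Open

set_option autoImplicit false
set_option linter.style.haveILetI false
set_option backward.isDefEq.respectTransparency.types false
universe u
open CategoryTheory CategoryTheory.Limits MonoidalCategory CartesianMonoidalCategory MonObj GrpObj AlgebraicGeometry
open FGA
open Groth.Agent

namespace Groth.Agent.S5696

/-- Let S be a locally Noetherian scheme all of whose residue fields have the same characteristic, with
characteristic exponent p, and G a commutative group scheme locally of finite type over S such that
for every integer n ≥ 1 prime to p the n-th power morphism of G is an open map. Then the set of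
points x of G some p^h-th power of which (h ≥ 0) lies in the union of the connected components of
the identity of the fibres is open in G. -/
theorem result (S : Scheme.{u}) [IsLocallyNoetherian S]
    (p : ℕ) (hS : ∀ s : ↥S, ringExpChar (S.residueField s) = p)
    (G : Over S) [GrpObj G] [IsCommMonObj G] [LocallyOfFiniteType G.hom]
    (hopen : ∀ n : ℕ, 0 < n → Nat.Coprime n p → IsOpenMap ((𝟙 G : G ⟶ G) ^ n).left.base) :
    IsOpen {x : ↥G.left | ∃ h : ℕ, ((𝟙 G : G ⟶ G) ^ (p ^ h)).left.base x ∈ SGA3x.neutralSet G} := by
  exact H28Tau.isOpen_rhoSet G p hS hopen

end Groth.Agent.S5696
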