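import Groth.Statements.S5697
import Groth.Agent.S5330
import Groth.Agent.H19Grp.NeutralUnivOpen
import Groth.Agent.H19Grp.NeutralConstr
import Groth.Agent.H28Top.Spectral
import Groth.Agent.H7Lim.Topology

set_option autoImplicit false
set_option linter.style.haveILetI false
set_option backward.isDefEq.respectTransparency.types false
set_option maxHeartbeats 800000
universe u
open CategoryTheory CategoryTheory.Limits MonoidalCategory CartesianMonoidalCategory MonObj GrpObj AlgebraicGeometry
open FGA
open Groth.Agent

namespace Groth.Agent.S5697

/-- Let S be a locally Noetherian scheme and G a commutative group scheme locally of finite type over S.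
Assume that the union of the connected components of the identity of the fibres of G is closed in G,
and that G ⟶ S is universally open at the points of that union: for every base change S' ⟶ S, the
structure map of G' = G ×_S S' is open at every point of the identity-component set of G' (the image
of every open neighbourhood is a neighbourhood). Then the prime-to-p torsion component set (points x
some n-th power of which, n ≥ 1 prime to the residue characteristic exponent, lies in the
identity-component set) is universally open over S at the points of the identity-component set, in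
the same sense: for every base change S' ⟶ S, every point x' of the identity-component set of G' and
every open neighbourhood U of x', the image in S' of the intersection of U with the prime-to-p
torsion component set of G' is a neighbourhood of the image of x'. (The published statement
concludes this at every point of the prime-to-p torsion component set; it fails for the closed
subgroup scheme of the constant group ℤ/2 over a discrete valuation ring of residue characteristic
different from 2 that keeps the non-identity element only over the closed point: there the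
identity-component set is a copy of the base, all hypotheses hold, and the isolated non-identity
point over the closed point is 2-torsion with image the closed point alone. The published proof
treats neighbourhoods of points of the identity-component set, so the conclusion is stated at those
points here.) -/
theorem result (S : Scheme.{u}) [IsLocallyNoetherian S]
    (G : Over S) [GrpObj G] [IsCommMonObj G] [LocallyOfFiniteType G.hom] (h0 : IsClosed (SGA3x.neutralSet G))
    (hopen : ∀ (S' : Scheme.{u}) (g : S' ⟶ S) (x' : ↥(Red.bc g G).left), x' ∈ SGA3x.neutralSet (Red.bc g G) →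
      ∀ U : Set ↥(Red.bc g G).left, IsOpen U → x' ∈ U →
        (Red.bc g G).hom.base '' U ∈ nhds ((Red.bc g G).hom.base x'))
    (S' : Scheme.{u}) (g : S' ⟶ S) (x' : ↥(Red.bc g G).left)
    (hx' : x' ∈ SGA3x.neutralSet (Red.bc g G))
    (U : Set ↥(Red.bc g G).left) (hU : IsOpen U) (hxU : x' ∈ U) :
    (Red.bc g G).hom.base '' (U ∩ {x : ↥(Red.bc g G).left | ∃ n : ℕ, 0 < n ∧ Nat.Coprime n (ringExpChar (S'.residueField ((Red.bc g G).hom.base x))) ∧
        ((𝟙 (Red.bc g G) : (Red.bc g G) ⟶ (Red.bc g G)) ^ n).left.base x ∈ SGA3x.neutralSet (Red.bc g G)}) ∈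
      nhds ((Red.bc g G).hom.base x') := by
  classical
  haveI : IsLocallyNoetherian G.left := LocallyOfFiniteType.isLocallyNoetherian G.hom
  haveI : LocallyOfFinitePresentation G.hom := inferInstance
  haveI : QuasiSeparated G.hom := inferInstance
  have hdim : H19Grp.DimLocConst G := by
    rw [H19Grp.DimLocConst, IsLocallyConstant.iff_exists_open]
    intro s
    have hu : ∀ x ∈ (SGA3x.neutralSet G ∩ G.hom.base ⁻¹' {s}), EGA43.IsUnivOpenAt G.hom x := by
      intro x hx Y' k z hz V hV
      obtain ⟨V', hV'V, hV', hzV'⟩ := mem_nhds_iff.1 hV
      refine Filter.mem_of_superset (hopen Y' k z ?_ V' hV' hzV') (Set.image_mono hV'V)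
      rw [H19Grp.neutralSet_baseChange, Set.mem_preimage]
      exact hz ▸ hx.1
    obtain ⟨O, hO, hc⟩ := (Groth.Agent.S5330.result S G s).2.1 hu
    obtain ⟨O', hO'O, hO', hsO'⟩ := mem_nhds_iff.1 hO
    exact ⟨O', hO', hsO', fun t ht => hc t (hO'O ht)⟩
  let G' := Red.bc g G
  haveI : LocallyOfFinitePresentation G'.hom := inferInstanceAs (LocallyOfFinitePresentation (pullback.snd G.hom g))
  haveI : QuasiSeparated G'.hom := inferInstanceAs (QuasiSeparated (pullback.snd G.hom g))
  obtain ⟨_, ⟨V, hV, rfl⟩, hyV, -⟩ := S'.isBasis_affineOpens.exists_subset_of_mem_open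
    (show G'.hom x' ∈ (Set.univ : Set S') from trivial) isOpen_univ
  change Scheme.Opens S' at V
  obtain ⟨_, ⟨Ua, hUa, rfl⟩, hxUa, hUaU⟩ := G'.left.isBasis_affineOpens.exists_subset_of_mem_open
    (show x' ∈ U ∩ G'.hom ⁻¹' (V : Set S') from ⟨hxU, hyV⟩) (hU.inter (V.2.preimage G'.hom.continuous))
  change Scheme.Opens G'.left at Ua
  have hle : Ua ≤ G'.hom ⁻¹ᵁ V := fun z hz => (hUaU hz).2
  haveI : IsAffine Ua.toScheme := hUa
  haveI : IsAffine V.toScheme := hV
  let f := G'.hom.resLE V Ua hle
  haveI : LocallyOfFinitePresentation f := inferInstance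
  let C : Set V.toScheme := f '' (Ua.ι ⁻¹' SGA3x.neutralSet G')
  have hC : Topology.IsConstructible C :=
    (f.isLocallyConstructible_image
      (H7Lim.isLocallyConstructible_preimage (H19Grp.isLocallyConstructible_neutralSet G') Ua.ι)).isConstructible
  have hf : ∀ w : Ua.toScheme, V.ι (f w) = G'.hom (Ua.ι w) := fun w =>
    congrArg (fun m : Ua.toScheme ⟶ S' => m w) (G'.hom.resLE_comp_ι hle)
  haveI : CompactSpace V.toScheme := inferInstance
  haveI : SpectralSpace V.toScheme := {}
  let y₀ : V.toScheme := ⟨G'.hom x', hyV⟩
  have hnb : C ∈ nhds y₀ := by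
    rw [mem_nhds_iff]
    refine ⟨(closure Cᶜ)ᶜ, fun z hz => not_not.1 fun h => hz (subset_closure h), isClosed_closure.isOpen_compl,
      fun h => ?_⟩
    obtain ⟨e, heC, hey⟩ := H28Top.exists_specializes_of_mem_closure
      (H28Top.isClosed_constr_of_isConstructible (Topology.isConstructible_compl.2 hC)) h
    have hcl : x' ∈ closure (H19Grp.neutralAt G' (V.ι e)) :=
      H19Grp.neutralAt_subset_closure G hdim g (show V.ι e ⤳ G'.hom x' from hey.map V.ι.continuous)
        ((H19Grp.mem_neutralSet_iff G' x').1 hx')
    obtain ⟨w, hwUa, hw⟩ := mem_closure_iff.1 hcl Ua Ua.2 hxUa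
    refine heC ⟨⟨w, hwUa⟩, H19Grp.neutralAt_subset_neutralSet G' _ hw, V.ι.isOpenEmbedding.injective ?_⟩
    rw [hf]
    exact connectedComponentIn_subset (G'.hom ⁻¹' {V.ι e}) _ hw
  refine Filter.mem_of_superset ((V.ι.isOpenEmbedding.isOpenMap).image_mem_nhds hnb) ?_
  rintro _ ⟨_, ⟨w, hw, rfl⟩, rfl⟩
  refine ⟨Ua.ι w, ⟨(hUaU w.2).1, 1, one_pos, Nat.coprime_one_left _, ?_⟩, (hf w).symm⟩
  rw [pow_one]
  exact hw

end Groth.Agent.S5697
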