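import Groth.Statements.S5699
import Mathlib
import Groth.Agent.H22Alg.MumfordBddQuot

set_option autoImplicit false
universe u
open CategoryTheory CategoryTheory.Limits AlgebraicGeometry
open FGA

namespace Groth.Agent.S5699

/-- Let k be an algebraically closed field, P projective n-space over k, E a coherent module on P and Φ
a finite set of functions from ℤ to ℤ. Then the coherent quotient modules F of E whose Hilbert
function r ↦ χ(P, F(r)) (alternating sum of the dimensions of the cohomology groups in degrees at
most n) lies in Φ form a bounded family: there are a k-scheme T of finite type and a coherent module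
on P ×_k T such that every such F is isomorphic to its fibre at some k-point of T. Stated over an
algebraically closed field; the published statement is the relative version over a Noetherian base
for classes of sheaves on the fibres, which this special case does not cover. -/
theorem result (k : Type u) [Field k] [IsAlgClosed k] (n : ℕ)
    (E : (CohB1.ProjSpace n k).Modules) (hE : Coh.IsCoh E) (Φ : Set (ℤ → ℤ)) (hΦ : Φ.Finite) :
    Pic13.IsBounded k (CohB1.ProjSpace n k) (fun F =>
      Coh.IsCoh F ∧ (∃ p : E ⟶ F, Epi p) ∧
        (fun r : ℤ => FGA.eulerCharLE k (CohB1.ProjSpace n k)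
          (CohB1.tensorMod F (Twist.twistProjSpace n k r)) n) ∈ Φ) := by
  haveI := Groth.Agent.H22Alg.CMHyper.noetherian k n
  haveI := Groth.Agent.H22Alg.MumfordBound.proper_toSpec (k := k) (n := n)
  obtain ⟨r, f, hf⟩ := hΦ.fin_embedding
  choose M hM using fun j : Fin r => Groth.Agent.H22Alg.MumfordBddQuot.exists_reg_quot hE (f j)
  choose a b hab using fun j : Fin r =>
    Groth.Agent.H22Alg.MumfordBdd.exists_presentation (k := k) (n := n) (M j) (f j)
  have hfam := (Groth.Agent.H22Alg.CMField.setup k n).fam
  refine Groth.Agent.H22Alg.BoundedCoker.isBounded_cokernels_finite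
    (A := fun j => ∐ fun _ : Fin (a j) => Twist.twistProjSpace n k (-(M j)))
    (B := fun j => ∐ fun _ : Fin (b j) => Twist.twistProjSpace n k (-(M j + 1)))
    (fun j => Groth.Agent.H10Coh.isCoh_sigma _ fun _ => Groth.Agent.H11Ample.isCoh_of_isInvertible (hfam.inv _))
    (fun j => Groth.Agent.H10Coh.isCoh_sigma _ fun _ => Groth.Agent.H11Ample.isCoh_of_isInvertible (hfam.inv _))
    _ ?_
  rintro F ⟨hF, hp, hmem⟩
  rw [← hf] at hmem
  obtain ⟨j, hj⟩ := hmem
  have he : ∀ d : ℤ, Curv2.euler k (CohB1.ProjSpace n k)
      (CohB1.tensorMod F (Twist.twistProjSpace n k d)) = f j d := fun d => by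
    rw [Groth.Agent.H22Alg.MumfordField.euler_eq_eulerCharLE
      (Groth.Agent.H11Ample.isCoh_tensor hF (hfam.inv d)).1, hj]
  obtain ⟨u, hu⟩ := hab j F hF (hM j F hF hp he) he
  exact ⟨j, u, hu⟩

end Groth.Agent.S5699
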