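import Groth.Statements.S5701
import Groth.Agent.H23EtaleSub.Basic

set_option autoImplicit false
universe u v
open TensorProduct
open Dix

namespace Groth.Agent.S5701

/-- Let k be a field and A a finite-dimensional k-algebra which is absolutely semisimple (its base
change to an algebraic closure of k is a semisimple ring). For a subalgebra L of A, call L étale
when it is commutative and all its elements are separable over k. Then L is étale and equal to its
own centralizer in A if and only if L is a maximal étale subalgebra of A. -/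
theorem result (k : Type u) [Field k] (A : Type v) [Ring A] [Algebra k A] [FiniteDimensional k A] (hss : IsSemisimpleRing (AlgebraicClosure k ⊗[k] A)) (L : Subalgebra k A) : ((∀ x ∈ L, ∀ y ∈ L, x * y = y * x) ∧ Algebra.IsSeparable k L ∧ Subalgebra.centralizer k (L : Set A) = L) ↔ ((∀ x ∈ L, ∀ y ∈ L, x * y = y * x) ∧ Algebra.IsSeparable k L ∧ ∀ L' : Subalgebra k A, (∀ x ∈ L', ∀ y ∈ L', x * y = y * x) → Algebra.IsSeparable k L' → L ≤ L' → L' = L) := by
  constructor
  · rintro ⟨hc, hs, hcent⟩
    refine ⟨hc, hs, fun L' hc' _ hle => le_antisymm (fun x hx => ?_) hle⟩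
    rw [← hcent, Subalgebra.mem_centralizer_iff]
    exact fun g hg => hc' g (hle hg) x hx
  · rintro ⟨hc, hs, hmax⟩
    refine ⟨hc, hs, le_antisymm ?_ ?_⟩
    swap
    · exact fun x hx => (Subalgebra.mem_centralizer_iff k).mpr fun g hg => hc g hg x hx
    intro c hcmem
    letI : CommRing L := { (inferInstance : Ring L) with mul_comm := fun x y => Subtype.ext (hc x x.2 y y.2) }
    haveI : Algebra.IsSeparable k L := hs
    haveI := hss
    suffices key : ∀ z, (∀ l, L.val l * z = z * L.val l) → IsSeparable k z → z ∈ L.val.range by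
      obtain ⟨l, rfl⟩ := H23EtaleSub.centralizer_eq_of_maximal (AlgebraicClosure k) L.val
        Subtype.val_injective key c
        (fun l => (Subalgebra.mem_centralizer_iff k).mp hcmem l l.2)
      exact l.2
    intro z hz hzs
    have hZc : ∀ x ∈ (insert z (L : Set A)), ∀ y ∈ (insert z (L : Set A)), x * y = y * x := by
      rintro x (rfl | hx) y (rfl | hy)
      exacts [rfl, (hz ⟨y, hy⟩).symm, hz ⟨x, hx⟩, hc x hx y hy]
    let L' := Algebra.adjoin k (insert z (L : Set A))
    letI : CommRing L' := Algebra.adjoinCommRingOfComm k hZc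
    let Z := Algebra.adjoin k ({z} : Set A)
    letI : CommRing Z := Algebra.adjoinCommRingOfComm k (by rintro a (rfl : a = z) b (rfl : b = a); rfl)
    haveI : Algebra.IsSeparable k Z := H18Az.Separable.separable_of_mem_adjoin (IsSeparable.isIntegral hzs) hzs
    haveI : Algebra.FormallyUnramified k L := H23EtaleSub.formallyUnramified_of_isSeparable
    haveI : Algebra.FormallyUnramified k Z := H23EtaleSub.formallyUnramified_of_isSeparable
    haveI : Algebra.FormallyUnramified k (L ⊗[k] Z) := Algebra.FormallyUnramified.comp k L (L ⊗[k] Z)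
    have hL' : (L : Subalgebra k A) ≤ L' := fun x hx => Algebra.subset_adjoin (Set.mem_insert_of_mem z hx)
    have hZ' : Z ≤ L' := Algebra.adjoin_le (Set.singleton_subset_iff.mpr (Algebra.subset_adjoin (Set.mem_insert z _)))
    let g : L ⊗[k] Z →ₐ[k] L' := Algebra.TensorProduct.lift (Subalgebra.inclusion hL') (Subalgebra.inclusion hZ')
      (fun _ _ => mul_comm _ _)
    have hg : Function.Surjective g := by
      intro w
      suffices h : L' ≤ (g.range.map L'.val) by
        obtain ⟨v, ⟨t, rfl⟩, hv⟩ := h w.2
        exact ⟨t, Subtype.ext hv⟩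
      refine Algebra.adjoin_le (Set.insert_subset ?_ fun x hx => ?_)
      · exact ⟨_, ⟨1 ⊗ₜ[k] ⟨z, Algebra.self_mem_adjoin_singleton k z⟩, rfl⟩, (congrArg Subtype.val (Algebra.TensorProduct.lift_tmul _ _ _ _ _)).trans (by
          simp only [map_one, one_mul, mul_one]; rfl)⟩
      · exact ⟨_, ⟨(⟨x, hx⟩ : L) ⊗ₜ[k] 1, rfl⟩, (congrArg Subtype.val (Algebra.TensorProduct.lift_tmul _ _ _ _ _)).trans (by
          simp only [map_one, one_mul, mul_one]; rfl)⟩
    haveI : Algebra.FormallyUnramified k L' := Algebra.FormallyUnramified.of_surjective g hg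
    have hs' : Algebra.IsSeparable k L' := H23EtaleSub.isSeparable_of_formallyUnramified
    have heq := hmax L' (fun x hx y hy => congrArg Subtype.val (mul_comm (⟨x, hx⟩ : L') ⟨y, hy⟩)) hs' hL'
    exact ⟨⟨z, heq ▸ Algebra.subset_adjoin (Set.mem_insert z _)⟩, rfl⟩

end Groth.Agent.S5701
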