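import Groth.Statements.S5703
import Groth.Agent.H23Az.Ops
import Groth.Agent.H9Hens.Pair
import Groth.Agent.H9Hens.SchemeSections
import Mathlib.RingTheory.LocalRing.Module

set_option autoImplicit false
universe u v
open TensorProduct
open Dix

namespace Groth.Agent.S5703

open IsLocalRing in
/-- A map of finite free modules inducing a bijection on the special fibres is bijective. -/
theorem bij_of_residue {R : Type u} [CommRing R] [IsLocalRing R] {X M V : Type u} [AddCommGroup X] [Module R X]
    [Module.Free R X] [Module.Finite R X] [AddCommGroup M] [Module R M] [Module.Free R M] [Module.Finite R M]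
    [AddCommGroup V] [Module R V] [Module (ResidueField R) V] [IsScalarTower R (ResidueField R) V]
    (i : X →ₗ[R] M) (ev : M →ₗ[R] V) (φ : ResidueField R ⊗[R] X ≃ₗ[ResidueField R] V)
    (hev : ∀ x, ev x = 0 → x ∈ maximalIdeal R • (⊤ : Submodule R M))
    (hi : ∀ x, ev (i x) = φ (1 ⊗ₜ x)) : Function.Bijective i := by
  let m := maximalIdeal R
  have hres : ∀ (z : ResidueField R ⊗[R] X), ∃ w : X, (1 : ResidueField R) ⊗ₜ[R] w = z := by
    intro z
    induction z using TensorProduct.induction_on with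
    | zero => exact ⟨0, TensorProduct.tmul_zero _ _⟩
    | tmul s w =>
      obtain ⟨r, rfl⟩ := residue_surjective s
      exact ⟨r • w, by rw [TensorProduct.tmul_smul, TensorProduct.smul_tmul', Algebra.smul_def, mul_one]; rfl⟩
    | add x y hx hy =>
      obtain ⟨u, rfl⟩ := hx
      obtain ⟨v, rfl⟩ := hy
      exact ⟨u + v, TensorProduct.tmul_add _ _ _⟩
  have hle : m • (⊤ : Submodule R M) ≤ LinearMap.ker ev := Submodule.smul_le.2 fun a ha y _ => by
    rw [LinearMap.mem_ker, map_smul, ← algebraMap_smul (ResidueField R) a,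
      show algebraMap R (ResidueField R) a = 0 from (residue_eq_zero_iff a).2 ha, zero_smul]
  constructor
  · obtain ⟨r, hr⟩ := (split_injective_iff_lTensor_residueField_injective i).2 (by
      rw [injective_iff_map_eq_zero]
      intro z hz
      obtain ⟨x, rfl⟩ := hres z
      rw [LinearMap.lTensor_tmul] at hz
      have hz' : i x ∈ m • (⊤ : Submodule R M) := by
        have h := congrArg (TensorProduct.quotTensorEquivQuotSMul M m) hz
        change TensorProduct.quotTensorEquivQuotSMul M m ((Ideal.Quotient.mk m 1) ⊗ₜ[R] i x) = _ at h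
        rw [TensorProduct.quotTensorEquivQuotSMul_mk_tmul, one_smul] at h
        exact (Submodule.Quotient.mk_eq_zero _).1 (h.trans (LinearEquiv.map_zero _))
      have h0 : ev (i x) = 0 := hle hz'
      rw [hi] at h0
      exact φ.map_eq_zero_iff.1 h0)
    exact Function.LeftInverse.injective (g := r) (LinearMap.congr_fun hr)
  · rw [← LinearMap.range_eq_top]
    refine top_le_iff.1 (Submodule.le_of_le_smul_of_le_jacobson_bot (I := m) Module.Finite.fg_top
      (maximalIdeal_le_jacobson ⊥) fun x _ => ?_)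
    obtain ⟨w, hw⟩ := hres (φ.symm (ev x))
    have : x - i w ∈ m • (⊤ : Submodule R M) := hev _ (by rw [map_sub, hi, hw, φ.apply_symm_apply, sub_self])
    rw [← add_sub_cancel (i w) x]
    exact Submodule.add_mem_sup ⟨w, rfl⟩ this

/-- Let R be a henselian local ring with residue field k and let A, B be Azumaya algebras over R. Then
every isomorphism of k-algebras e₀ : k ⊗_R A ≃ k ⊗_R B is induced by an isomorphism of R-algebras e
: A ≃ B, in the sense that e₀ (1 ⊗ a) = 1 ⊗ e(a) for all a. In particular Azumaya algebras over R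
with isomorphic special fibres are isomorphic. -/
theorem result (R : Type u) [CommRing R] [HenselianLocalRing R] (A : Type u) [Ring A] [Algebra R A] [IsAzumaya R A] (B : Type u) [Ring B] [Algebra R B] [IsAzumaya R B] (e₀ : (IsLocalRing.ResidueField R ⊗[R] A) ≃ₐ[IsLocalRing.ResidueField R] (IsLocalRing.ResidueField R ⊗[R] B)) : ∃ e : A ≃ₐ[R] B, ∀ a : A, e₀ ((1 : IsLocalRing.ResidueField R) ⊗ₜ[R] a) = (1 : IsLocalRing.ResidueField R) ⊗ₜ[R] (e a) := by
  classical
  let k := IsLocalRing.ResidueField R
  let m := IsLocalRing.maximalIdeal R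
  haveI : HenselianRing R m := Groth.Agent.H9Hens.henselianRing_maximalIdeal R
  haveI : Module.Free R A := Module.free_of_flat_of_isLocalRing
  haveI : Module.Free R B := Module.free_of_flat_of_isLocalRing
  haveI : IsAzumaya k (k ⊗[R] B) := Groth.Agent.H23Az.isAzumaya_baseChange R k B
  let C := A ⊗[R] Bᵐᵒᵖ
  haveI : Module.Free R Bᵐᵒᵖ := Module.Free.of_equiv (MulOpposite.opLinearEquiv R)
  haveI : Module.Finite R Bᵐᵒᵖ := Module.Finite.equiv (MulOpposite.opLinearEquiv R)
  let E₀ := Module.End k (k ⊗[R] B)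
  let incA : A →ₐ[R] k ⊗[R] B :=
    (e₀.toAlgHom.restrictScalars R).comp Algebra.TensorProduct.includeRight
  let incB : B →ₐ[R] k ⊗[R] B := Algebra.TensorProduct.includeRight
  let lA : A →ₐ[R] E₀ := ((Algebra.lmul k (k ⊗[R] B)).restrictScalars R).comp incA
  let rB : Bᵐᵒᵖ →ₐ[R] E₀ :=
    { toFun := fun b => LinearMap.mulRight k (incB b.unop)
      map_one' := LinearMap.ext fun y => by simp
      map_mul' := fun b b' => LinearMap.ext fun y => by
        change y * incB (b'.unop * b.unop) = y * incB b'.unop * incB b.unop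
        rw [map_mul, mul_assoc]
      map_zero' := LinearMap.ext fun y => by simp
      map_add' := fun b b' => LinearMap.ext fun y => by
        change y * incB (b.unop + b'.unop) = y * incB b.unop + y * incB b'.unop
        rw [map_add, mul_add]
      commutes' := fun r => LinearMap.ext fun y => by
        change y * incB (algebraMap R B r) = r • y
        rw [AlgHom.commutes, Algebra.algebraMap_eq_smul_one, mul_smul_comm, mul_one] }
  let Θ : C →ₐ[R] E₀ := Algebra.TensorProduct.lift lA rB fun a b => by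
    refine LinearMap.ext fun y => ?_
    exact (mul_assoc _ _ _).symm
  have hΘ : ∀ (a : A) (b : B) (y : k ⊗[R] B),
      Θ (a ⊗ₜ MulOpposite.op b) y = incA a * (y * incB b) := fun a b y => by
    simp only [Θ, Algebra.TensorProduct.lift_tmul]
    rfl
  -- `Θ` induces an isomorphism on the special fibre
  let Θ₀ : k ⊗[R] C →ₗ[k] E₀ := Θ.toLinearMap.liftBaseChange k
  have hres : ∀ (M : Type u) [AddCommGroup M] [Module R M] (z : k ⊗[R] M), ∃ w : M, (1 : k) ⊗ₜ[R] w = z := by
    intro M _ _ z
    induction z using TensorProduct.induction_on with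
    | zero => exact ⟨0, TensorProduct.tmul_zero _ _⟩
    | tmul s w =>
      obtain ⟨r, rfl⟩ := IsLocalRing.residue_surjective s
      exact ⟨r • w, by rw [TensorProduct.tmul_smul, TensorProduct.smul_tmul', Algebra.smul_def, mul_one]; rfl⟩
    | add x y hx hy =>
      obtain ⟨u, rfl⟩ := hx
      obtain ⟨v, rfl⟩ := hy
      exact ⟨u + v, TensorProduct.tmul_add _ _ _⟩
  have hsurj : Function.Surjective Θ := by
    intro g
    obtain ⟨z, rfl⟩ := (IsAzumaya.bij (R := k) (A := k ⊗[R] B)).2 g
    induction z using TensorProduct.induction_on with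
    | zero => exact ⟨0, by rw [map_zero, map_zero]⟩
    | tmul u v =>
      obtain ⟨a, ha⟩ := hres A (e₀.symm u)
      obtain ⟨b, hb⟩ := hres B v.unop
      refine ⟨a ⊗ₜ MulOpposite.op b, LinearMap.ext fun y => ?_⟩
      rw [hΘ, AlgHom.mulLeftRight_apply, mul_assoc]
      change e₀ ((1 : k) ⊗ₜ a) * (y * ((1 : k) ⊗ₜ b)) = _
      rw [ha, hb, AlgEquiv.apply_symm_apply]
    | add x y hx hy =>
      obtain ⟨u, hu⟩ := hx
      obtain ⟨v, hv⟩ := hy
      exact ⟨u + v, by rw [map_add, map_add, hu, hv]⟩
  have hinj : Function.Injective Θ₀ := by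
    refine (LinearMap.injective_iff_surjective_of_finrank_eq_finrank ?_).2 fun g => ?_
    · have h1 : Module.finrank R A = Module.finrank R B := by
        rw [← Module.finrank_baseChange (R := k) (S := R) (M' := A),
          ← Module.finrank_baseChange (R := k) (S := R) (M' := B)]
        exact e₀.toLinearEquiv.finrank_eq
      rw [Module.finrank_baseChange, Module.finrank_tensorProduct, Module.finrank_linearMap,
        Module.finrank_baseChange, h1, (MulOpposite.opLinearEquiv R : B ≃ₗ[R] Bᵐᵒᵖ).finrank_eq]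
    · obtain ⟨z, hz⟩ := hsurj g
      exact ⟨(1 : k) ⊗ₜ z, by simp [Θ₀, hz]⟩
  have hmem : ∀ (M : Type u) [AddCommGroup M] [Module R M] (z : M),
      (1 : k) ⊗ₜ[R] z = 0 ↔ z ∈ m • (⊤ : Submodule R M) := by
    intro M _ _ z
    change (Ideal.Quotient.mk m 1 : R ⧸ m) ⊗ₜ[R] z = 0 ↔ _
    rw [← LinearEquiv.map_eq_zero_iff (TensorProduct.quotTensorEquivQuotSMul M m),
      TensorProduct.quotTensorEquivQuotSMul_mk_tmul, one_smul, Submodule.Quotient.mk_eq_zero]
  have hker : ∀ z, Θ z = 0 → z ∈ m • (⊤ : Submodule R C) := fun z hz => by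
    rw [← hmem C z]
    exact hinj (by simp [Θ₀, hz])
  have hker' : ∀ z ∈ m • (⊤ : Submodule R C), Θ z = 0 := fun z hz => by
    rw [← hmem C z] at hz
    have := congrArg Θ₀ hz
    simpa [Θ₀] using this
  -- the rank one projection and its lift
  obtain ⟨ℓ, hℓ⟩ := (LinearMap.toSpanSingleton k (k ⊗[R] B) 1).exists_leftInverse_of_injective
    (LinearMap.ker_eq_bot.2 fun s t hst => FaithfulSMul.algebraMap_injective k (k ⊗[R] B) (by
      rw [Algebra.algebraMap_eq_smul_one, Algebra.algebraMap_eq_smul_one]; exact hst))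
  have hℓ1 : ℓ 1 = 1 := by simpa using LinearMap.congr_fun hℓ 1
  let P : E₀ := (LinearMap.toSpanSingleton k (k ⊗[R] B) 1).comp ℓ
  have hP : P * P = P := LinearMap.ext fun y => by
    change P (P y) = P y
    change ℓ (ℓ y • (1 : k ⊗[R] B)) • (1 : k ⊗[R] B) = ℓ y • 1
    rw [map_smul, hℓ1, smul_eq_mul, mul_one]
  obtain ⟨c, hc⟩ := hsurj P
  obtain ⟨e, he, hΘe⟩ : ∃ e : C, IsIdempotentElem e ∧ Θ e = P := by
    let D := Algebra.adjoin R ({c} : Set C)
    haveI : Module.Finite R D := Module.Finite.of_fg (IsIntegral.fg_adjoin_singleton (Algebra.IsIntegral.isIntegral c))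
    letI : CommRing D := { (inferInstance : Ring D) with mul_comm := fun x y => IsMulCommutative.is_comm.comm x y }
    let L := m.map (algebraMap R D)
    have hL : ∀ x ∈ L, Θ.comp D.val x = 0 := fun x hx => by
      have hle : L ≤ RingHom.ker (Θ.comp D.val).toRingHom := Ideal.map_le_iff_le_comap.2 fun r hr => by
        rw [Ideal.mem_comap, RingHom.mem_ker]
        change Θ ((algebraMap R D r : D) : C) = 0
        refine hker' _ ?_
        change ((algebraMap R D r : D) : C) ∈ _
        rw [Subalgebra.coe_algebraMap, Algebra.algebraMap_eq_smul_one]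
        exact Submodule.smul_mem_smul hr trivial
      exact hle hx
    let g : D ⧸ L →+* E₀ := Ideal.Quotient.lift L (Θ.comp D.val).toRingHom hL
    have hnil : ∀ x ∈ RingHom.ker g, IsNilpotent x := by
      intro x hx
      obtain ⟨x, rfl⟩ := Ideal.Quotient.mk_surjective x
      have hx' : (x : C) ∈ m • (⊤ : Submodule R C) := hker _ hx
      have hrange : LinearMap.range (Algebra.lmul R C (x : C)) ≤ m • (⊤ : Submodule R C) := by
        rintro _ ⟨y, rfl⟩
        refine Submodule.smul_induction_on hx' (fun r hr z _ => ?_) (fun u v hu hv => ?_)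
        · rw [map_smul, LinearMap.smul_apply]
          exact Submodule.smul_mem_smul hr trivial
        · rw [map_add, LinearMap.add_apply]
          exact add_mem hu hv
      obtain ⟨p, hp, -, hcoeff, hp0⟩ :=
        LinearMap.exists_monic_and_natDegree_eq_and_coeff_mem_pow_and_aeval_eq_zero R _ m hrange
      rw [Polynomial.aeval_algHom_apply] at hp0
      have hp1 : Polynomial.aeval x p = 0 := Subtype.ext (by
        have := LinearMap.congr_fun hp0 1
        rw [Polynomial.aeval_subalgebra_coe]
        simpa using this)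
      refine ⟨p.natDegree, ?_⟩
      have h2 := congrArg (Ideal.Quotient.mk L) hp1
      rw [map_zero, Polynomial.aeval_eq_sum_range, map_sum, Finset.sum_range_succ,
        Finset.sum_eq_zero (fun i hi => ?_), zero_add, hp.coeff_natDegree, one_smul, map_pow] at h2
      · exact h2
      · rw [Ideal.Quotient.eq_zero_iff_mem, Algebra.smul_def]
        refine Ideal.mul_mem_right _ _ (Ideal.mem_map_of_mem _ ?_)
        exact Ideal.pow_le_self (Nat.sub_ne_zero_of_lt (Finset.mem_range.1 hi)) (hcoeff i)
    obtain ⟨e', he', hge⟩ := exists_isIdempotentElem_eq_of_ker_isNilpotent g hnil P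
      ⟨Ideal.Quotient.mk L ⟨c, Algebra.subset_adjoin rfl⟩, hc⟩ hP
    obtain ⟨b, rfl⟩ := Ideal.Quotient.mk_surjective e'
    obtain ⟨e, he, heb⟩ := Groth.Agent.H9Hens.exists_idem_lift (I := m) b (by
      rw [← Ideal.Quotient.eq_zero_iff_mem, map_sub, map_mul, he'.eq, sub_self])
    refine ⟨(e : C), he.map D.val, ?_⟩
    have h2 := congrArg g ((Ideal.Quotient.mk_eq_mk_iff_sub_mem e b).2 heb)
    exact h2.trans hge
  -- the bimodule `C e`
  let pr : C →ₗ[R] C := LinearMap.mulRight R e
  let M : Submodule R C := LinearMap.range pr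
  have hM : ∀ x ∈ M, x * e = x := by
    rintro _ ⟨y, rfl⟩
    change (y * e) * e = y * e
    rw [mul_assoc, he.eq]
  haveI : Module.Projective R M :=
    Module.Projective.of_split M.subtype pr.rangeRestrict (LinearMap.ext fun x => Subtype.ext (hM x x.2))
  haveI : Module.Finite R M := Module.Finite.range pr
  haveI : Module.Flat R M := inferInstance
  haveI : Module.Free R M := Module.free_of_flat_of_isLocalRing (R := R) (P := M)
  let iA : A →ₗ[R] M := pr.rangeRestrict.comp
    (Algebra.TensorProduct.includeLeft : A →ₐ[R] C).toLinearMap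
  let iB : B →ₗ[R] M := pr.rangeRestrict.comp
    ((Algebra.TensorProduct.includeRight : Bᵐᵒᵖ →ₐ[R] C).toLinearMap.comp (MulOpposite.opLinearEquiv R).toLinearMap)
  let ev : M →ₗ[R] k ⊗[R] B :=
    { toFun := fun x => Θ x.1 1
      map_add' := fun x y => by rw [Submodule.coe_add, map_add]; rfl
      map_smul' := fun r x => by rw [Submodule.coe_smul, map_smul]; rfl }
  have hevA : ∀ a, ev (iA a) = incA a := fun a => by
    change Θ (((a ⊗ₜ[R] (1 : Bᵐᵒᵖ)) : C) * e) 1 = _
    rw [map_mul, hΘe, Module.End.mul_apply, ← MulOpposite.op_one, hΘ]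
    simp [P, hℓ1]
  have hevB : ∀ b, ev (iB b) = incB b := fun b => by
    change Θ ((((1 : A) ⊗ₜ[R] MulOpposite.op b) : C) * e) 1 = _
    rw [map_mul, hΘe, Module.End.mul_apply, hΘ]
    simp [P, hℓ1]
  have hev : ∀ x, ev x = 0 → x ∈ m • (⊤ : Submodule R M) := fun x hx => by
    have h1 : Θ x.1 = 0 := by
      refine LinearMap.ext fun y => ?_
      rw [← hM x x.2, map_mul, hΘe, Module.End.mul_apply]
      change Θ x.1 (ℓ y • (1 : k ⊗[R] B)) = 0
      rw [map_smul, show Θ x.1 1 = 0 from hx, smul_zero]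
    have h2 : pr.rangeRestrict x.1 = x := Subtype.ext (hM x x.2)
    rw [← h2]
    refine (Submodule.smul_mono le_rfl le_top : m • (⊤ : Submodule R C).map pr.rangeRestrict ≤ m • ⊤) ?_
    rw [← Submodule.map_smul'']
    exact Submodule.mem_map_of_mem (hker _ h1)
  have hjA : Function.Bijective iA := by
    refine bij_of_residue (R := R) (X := A) (M := M) (V := k ⊗[R] B) iA ?_ ?_ ?_ ?_
    · exact ev
    · exact e₀.toLinearEquiv
    · exact hev
    · exact hevA
  let jA := LinearEquiv.ofBijective iA hjA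
  have hjB : Function.Bijective iB := by
    refine bij_of_residue (R := R) (X := B) (M := M) (V := k ⊗[R] B) iB ?_ ?_ ?_ ?_
    · exact ev
    · exact LinearEquiv.refl k _
    · exact hev
    · exact hevB
  let jB := LinearEquiv.ofBijective iB hjB
  let φ : A ≃ₗ[R] B := jA.trans jB.symm
  have hφ : ∀ a, ((a ⊗ₜ[R] (1 : Bᵐᵒᵖ)) : C) * e = ((1 : A) ⊗ₜ[R] MulOpposite.op (φ a)) * e := fun a =>
    (congrArg Subtype.val (jB.apply_symm_apply (jA a))).symm
  have hmul : ∀ a a', φ (a * a') = φ a * φ a' := by
    intro a a'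
    refine jB.injective (Subtype.ext ?_)
    change ((1 : A) ⊗ₜ[R] MulOpposite.op (φ (a * a')) : C) * e = ((1 : A) ⊗ₜ[R] MulOpposite.op (φ a * φ a')) * e
    rw [← hφ, show ((a * a') ⊗ₜ[R] (1 : Bᵐᵒᵖ) : C) = (a ⊗ₜ 1) * (a' ⊗ₜ 1) by
      rw [Algebra.TensorProduct.tmul_mul_tmul, one_mul], mul_assoc, hφ a', ← mul_assoc,
      Algebra.TensorProduct.tmul_mul_tmul, mul_one, one_mul,
      show (a ⊗ₜ[R] MulOpposite.op (φ a') : C) = ((1 : A) ⊗ₜ MulOpposite.op (φ a')) * (a ⊗ₜ 1) by
        rw [Algebra.TensorProduct.tmul_mul_tmul, one_mul, mul_one],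
      mul_assoc, hφ a, ← mul_assoc, Algebra.TensorProduct.tmul_mul_tmul, one_mul, ← MulOpposite.op_mul]
  have hone : φ 1 = 1 := by
    refine jB.injective (Subtype.ext ?_)
    change ((1 : A) ⊗ₜ[R] MulOpposite.op (φ 1) : C) * e = ((1 : A) ⊗ₜ[R] MulOpposite.op (1 : B)) * e
    rw [← hφ]
    rfl
  refine ⟨AlgEquiv.ofLinearEquiv φ hone hmul, fun a => ?_⟩
  have h := congrArg ev (jB.apply_symm_apply (jA a))
  exact ((hevB (φ a)).symm.trans (h.trans (hevA a))).symm

end Groth.Agent.S5703
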