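import Groth.Statements.S5706
import Groth.Agent.H05EGA4.EtCl.RestrictApps

set_option autoImplicit false
universe u
open CategoryTheory AlgebraicGeometry
open Dix

namespace Groth.Agent.S5706

/-- Let X be a noetherian scheme such that for every scheme U étale over X all local rings of U are
factorial domains. Then the restriction map from H²(X_et, G_m) to the product of the groups H²(Spec
O_{X,x}, G_m), x running over the maximal points of X (generic points of the irreducible
components), is injective. The restriction maps are the pullbacks EtLim.HGmPull along Spec O_{X,x} →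
X, whose exactness hypothesis is carried as an instance binder. -/
theorem result (X : Scheme.{u}) [IsNoetherian X] (hfact : ∀ (U : X.Etale) (v : U.left), IsDomain (U.left.presheaf.stalk v) ∧ UniqueFactorizationMonoid (U.left.presheaf.stalk v)) [∀ x : X, Limits.PreservesFiniteLimits (EtCoh.pull (X.fromSpecStalk x))] (ξ : EtCoh.H X (EtCoh.Gm X) 2) (hξ : ∀ x : X, (∀ y : X, y ⤳ x → y = x) → EtLim.HGmPull (X.fromSpecStalk x) 2 ξ = 0) : ξ = 0 := by
  exact Groth.Agent.H05EGA4.EtCl.restrict_injective_factorial hfact ξ hξ

end Groth.Agent.S5706
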