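import Groth.Statements.S5728
import Groth.Agent.H11Sym.SpansEpi
import Groth.Agent.H11Sym.Bundle
import Groth.Agent.H11Proj.ProjTransfer
import Groth.Agent.H10Coh.QcqsPush
import Groth.Agent.H28Mero.Gen

set_option autoImplicit false
universe u
open CategoryTheory CategoryTheory.Limits AlgebraicGeometry TopologicalSpace Opposite
open scoped HomogeneousIdeal
open EGA2

namespace Groth.Agent.S5728

/-- Let f : X → Y be a proper morphism and L an invertible O_X-module which is very ample relative to f
and whose direct image f_*L (a quasi-coherent O_Y-module) is of finite type. Then f is projective: X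
is isomorphic over Y to the relative homogeneous spectrum of a quasi-coherent graded O_Y-algebra
generated by its degree-one part, with that part of finite type. -/
theorem result {X Y : Scheme.{u}} (f : X ⟶ Y) [IsProper f]
    (L : X.Modules) (hL : PicF.IsInvertible L) (hva : RelProj.IsRelVeryAmple f L)
    (hft : CohB1.IsFT ((Scheme.Modules.pushforward f).obj L)) : RelProj.IsProjective f := by
  obtain ⟨E₀, hE₀, u, hu⟩ := Groth.Agent.H11Sym.isRelVeryAmple_iff.1 hva
  haveI : L.IsQuasicoherent := Groth.Agent.H28Mero.isQCoh_of_isInvertible hL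
  have hE : Coh.IsQCoh ((Scheme.Modules.pushforward f).obj L) := Groth.Agent.H10Coh.isQuasicoherent_pushforward f L
  have hu' : Groth.Agent.H11Sym.Emb (𝟙 ((Scheme.Modules.pushforward f).obj L)) :=
    Groth.Agent.H11Sym.Emb.of_factor u (by rwa [Category.comp_id])
  obtain ⟨𝒯, j, hT⟩ := Groth.Agent.H11Sym.exists_isGrSymAlg _ hE
  obtain ⟨P, p, chart, hP⟩ := Groth.Agent.H11Proj.exists_isRelProj 𝒯
  obtain ⟨O1, lam, hO⟩ := Groth.Agent.H11Tilde.exists_isRelTwist hP 1
  obtain ⟨r, hr, τ, hτ⟩ := Groth.Agent.H11Sym.exists_toBundle hE hT hP hO hu'.spans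
  haveI := Groth.Agent.H11Sym.isImmersion_of_emb hE hT hP hO hr hτ hu'
  have hgen : 𝒯.IsGenDegOne := Groth.Agent.H11Sym.isGenDegOne hE hT
  have hft' : 𝒯.IsFTDeg 1 := Groth.Agent.H11Sym.isFTDeg_one hE hft hT
  haveI := Groth.Agent.H11Proj.isSeparated_relProj hP
  haveI : IsProper (r ≫ p) := hr.symm ▸ inferInstance
  haveI : IsProper r := IsProper.of_comp r p
  haveI : IsClosedImmersion r := IsClosedImmersion.of_isPreimmersion r r.isClosedMap.isClosed_range
  refine Groth.Agent.H11Proj.isProjective_of_isClosedImmersion_lift (g := 𝟙 Y) (h := r)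
    (hc := (Category.comp_id f).trans hr.symm) ⟨𝒯, P, p, chart, Iso.refl P, hgen, hft', hP, Category.id_comp p⟩ ?_
  have : IsClosedImmersion (pullback.lift r f ((Category.comp_id f).trans hr.symm).symm ≫ pullback.fst p (𝟙 Y)) := by
    rw [pullback.lift_fst]
    infer_instance
  exact IsClosedImmersion.of_comp _ (pullback.fst p (𝟙 Y))

end Groth.Agent.S5728
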