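import Groth.Statements.S5730
import Groth.Agent.H11Sym.BundleTwist
import Groth.Agent.H11Proj.RelTwistAmple

set_option autoImplicit false
universe u
open CategoryTheory CategoryTheory.Limits AlgebraicGeometry TopologicalSpace Opposite
open scoped HomogeneousIdeal
open EGA2

namespace Groth.Agent.S5730

/-- Let E be a quasi-coherent O_Y-module and L an invertible O_Y-module, 𝒮 (with j : E → 𝒮) the graded
symmetric algebra of E and 𝒯 (with k : E ⊗ L → 𝒯) that of E ⊗ L, and let p : P → Y, q : Q → Y be the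
projective bundles P(E) = Proj(𝒮) and P(E ⊗ L) = Proj(𝒯) with their charts over affine opens. Then
there is an isomorphism i : P ≅ Q over Y such that, for every n ≥ 0 and all twisting sheaves O_P(n)
and O_Q(n) (modules given with their chart identifications), i^*O_Q(n) is isomorphic to O_P(n) ⊗
p^*(L^{⊗n}). (Existence of the isomorphisms only: the published statement names a canonical i and
canonical identifications, and states the twist relation for every integer n; this row asserts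
existence and the relation for n ≥ 0.) -/
theorem result {Y P Q : Scheme.{u}} (E : Y.Modules) (hE : Coh.IsQCoh E)
    (L : Y.Modules) (hL : PicF.IsInvertible L)
    (𝒮 : RelProj.QCGrAlg Y) (j : E ⟶ 𝒮.toModule) (hj : RelProj.IsGrSymAlg E 𝒮 j)
    (𝒯 : RelProj.QCGrAlg Y) (k : CohB1.tensorMod E L ⟶ 𝒯.toModule) (hk : RelProj.IsGrSymAlg (CohB1.tensorMod E L) 𝒯 k)
    (p : P ⟶ Y)
    (chart : ∀ (U : Y.Opens) (hU : IsAffineOpen U), ((p ⁻¹ᵁ U : P.Opens) : Scheme.{u}) ≅ Proj (𝒮.deg U hU))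
    (hP : RelProj.IsRelProj 𝒮 p chart) (q : Q ⟶ Y)
    (chartQ : ∀ (U : Y.Opens) (hU : IsAffineOpen U), ((q ⁻¹ᵁ U : Q.Opens) : Scheme.{u}) ≅ Proj (𝒯.deg U hU))
    (hQ : RelProj.IsRelProj 𝒯 q chartQ) :
    ∃ i : P ≅ Q, i.hom ≫ q = p ∧
      ∀ (n : ℕ) (OP : P.Modules)
        (lamP : ∀ (U : Y.Opens) (hU : IsAffineOpen U),
          OP ⟶ (Scheme.Modules.pushforward (RelProj.emb p chart U hU)).obj (GrTwist.twist (𝒮.deg U hU) (n : ℤ)))
        (OQ : Q.Modules)
        (lamQ : ∀ (U : Y.Opens) (hU : IsAffineOpen U),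
          OQ ⟶ (Scheme.Modules.pushforward (RelProj.emb q chartQ U hU)).obj (GrTwist.twist (𝒯.deg U hU) (n : ℤ))),
        RelProj.IsRelTwist 𝒮 p chart (n : ℤ) OP lamP → RelProj.IsRelTwist 𝒯 q chartQ (n : ℤ) OQ lamQ →
          Nonempty ((Scheme.Modules.pullback i.hom).obj OQ ≅
            CohB1.tensorMod OP ((Scheme.Modules.pullback p).obj (CohB1.tensorPow L n))) := by
  have hgenS := H11Sym.isGenDegOne hE hj
  have hEL : Coh.IsQCoh (CohB1.tensorMod E L) := H11Ample.isQCoh_tensor hE hL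
  have hgenT := H11Sym.isGenDegOne hEL hk
  obtain ⟨OP, lamP, hOP⟩ := H11Tilde.exists_isRelTwist hP (1 : ℤ)
  obtain ⟨OQ, lamQ, hOQ⟩ := H11Tilde.exists_isRelTwist hQ (1 : ℤ)
  obtain ⟨i, hi, ⟨τ⟩⟩ := H11Sym.exists_bundle_iso hE hEL hL hj hk hP hQ hOP hOQ
  refine ⟨i, hi, fun n OPn lamPn OQn lamQn hOPn hOQn => ?_⟩
  obtain ⟨a⟩ := H11Proj.RelTwistAmple.nonempty_relTwist_iso_tensorPow hP hgenS hOP n OPn lamPn hOPn
  obtain ⟨b⟩ := H11Proj.RelTwistAmple.nonempty_relTwist_iso_tensorPow hQ hgenT hOQ n OQn lamQn hOQn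
  have hOPi := H11Sym.isInvertible_twist_one hE hj hP hOP
  have hOQi := H11Sym.isInvertible_twist_one hEL hk hQ hOQ
  obtain ⟨c⟩ := H11Ample.exists_iso_pullback_tensorPow i.hom hOQi n
  obtain ⟨d⟩ := H11Ample.exists_iso_tensorPow_tensor hOPi (H11Ample.isInvertible_pullback p hL) n
  obtain ⟨e⟩ := H11Ample.exists_iso_pullback_tensorPow p hL n
  obtain ⟨g⟩ : Nonempty (CohB1.tensorPow ((Scheme.Modules.pullback i.hom).obj OQ) n ≅
      CohB1.tensorPow (CohB1.tensorMod OP ((Scheme.Modules.pullback p).obj L)) n) := by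
    clear * - τ
    induction n with
    | zero => exact ⟨Iso.refl _⟩
    | succ n ih =>
      obtain ⟨g⟩ := ih
      exact ⟨PicGrp.tensorModIso g τ⟩
  exact ⟨(Scheme.Modules.pullback i.hom).mapIso b ≪≫ c ≪≫ g ≪≫ d.symm ≪≫
    PicGrp.tensorModIso a.symm e.symm⟩

end Groth.Agent.S5730
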