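import Groth.Statements.S5734
import Groth.Agent.H11Sym.BundleCoprod
import Groth.Agent.H11Tilde.Rel
import Groth.Agent.H11Proj.RelProjMap
import Groth.Agent.H11Proj.ProjMapSurj

set_option autoImplicit false
universe u
open CategoryTheory CategoryTheory.Limits AlgebraicGeometry TopologicalSpace Opposite
open scoped HomogeneousIdeal
open EGA2

namespace Groth.Agent.S5734

/-- Let E and F be quasi-coherent O_Y-modules with graded symmetric algebras 𝒮E, 𝒮F and let 𝒮 be the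
graded symmetric algebra of E ⊕ F; let πE : 𝒮 → 𝒮E and πF : 𝒮 → 𝒮F be the graded algebra
homomorphisms induced by the two projections of E ⊕ F (compatible with the structure maps from E ⊕
F, E and F), the irrelevant ideal of the target being generated by the image of that of the source
over every affine open (so that the induced morphisms of homogeneous spectra are everywhere
defined). Let P(E ⊕ F), P(E), P(F) be the projective bundles with their charts and hE : P(E) → P(E ⊕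
F), hF : P(F) → P(E ⊕ F) the morphisms chartwise induced by πE and πF. Then the morphism P(E) ⨿ P(F)
→ P(E ⊕ F) which restricts to hE and hF is a closed immersion: the disjoint union of P(E) and P(F)
is a closed subscheme of P(E ⊕ F). -/
theorem result {Y PE PF P : Scheme.{u}} (E F : Y.Modules)
    (hE : Coh.IsQCoh E) (hF : Coh.IsQCoh F) (𝒮E 𝒮F 𝒮 : RelProj.QCGrAlg Y)
    (jE : E ⟶ 𝒮E.toModule) (hjE : RelProj.IsGrSymAlg E 𝒮E jE)
    (jF : F ⟶ 𝒮F.toModule) (hjF : RelProj.IsGrSymAlg F 𝒮F jF)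
    (j : E ⊞ F ⟶ 𝒮.toModule) (hj : RelProj.IsGrSymAlg (E ⊞ F) 𝒮 j)
    (πE : 𝒮.toQCAlg ⟶ 𝒮E.toQCAlg) (hπE : RelProj.IsGradedHom πE)
    (hjπE : j ≫ RelSpec.QCAlg.Hom.toModuleMap πE = biprod.fst ≫ jE)
    (πF : 𝒮.toQCAlg ⟶ 𝒮F.toQCAlg) (hπF : RelProj.IsGradedHom πF)
    (hjπF : j ≫ RelSpec.QCAlg.Hom.toModuleMap πF = biprod.snd ≫ jF)
    (hirrE : ∀ (U : Y.Opens) (hU : IsAffineOpen U),
      (𝒮E.deg U hU)₊ ≤ ((𝒮.deg U hU)₊).map (RelProj.gradedHomAt πE hπE U hU))
    (hirrF : ∀ (U : Y.Opens) (hU : IsAffineOpen U),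
      (𝒮F.deg U hU)₊ ≤ ((𝒮.deg U hU)₊).map (RelProj.gradedHomAt πF hπF U hU))
    (p : P ⟶ Y) (pE : PE ⟶ Y) (pF : PF ⟶ Y)
    (chart : ∀ (U : Y.Opens) (hU : IsAffineOpen U), ((p ⁻¹ᵁ U : P.Opens) : Scheme.{u}) ≅ Proj (𝒮.deg U hU))
    (chartE : ∀ (U : Y.Opens) (hU : IsAffineOpen U), ((pE ⁻¹ᵁ U : PE.Opens) : Scheme.{u}) ≅ Proj (𝒮E.deg U hU))
    (chartF : ∀ (U : Y.Opens) (hU : IsAffineOpen U), ((pF ⁻¹ᵁ U : PF.Opens) : Scheme.{u}) ≅ Proj (𝒮F.deg U hU))
    (hP : RelProj.IsRelProj 𝒮 p chart) (hPE : RelProj.IsRelProj 𝒮E pE chartE) (hPF : RelProj.IsRelProj 𝒮F pF chartF)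
    (hE' : PE ⟶ P) (hhE : RelProj.IsRelProjMap πE hπE hirrE chart chartE hE')
    (hF' : PF ⟶ P) (hhF : RelProj.IsRelProjMap πF hπF hirrF chart chartF hF') :
    IsClosedImmersion (coprod.desc hE' hF') := by
  have hdE : ∀ U hU (x : Γ(E ⊞ F, U)), H11Sym.japp (B := 𝒮.toQCAlg) j U x ∈ 𝒮.deg U hU 1 :=
    fun U hU x => hj.2 U hU x
  haveI : IsClosedImmersion hE' :=
    H11Proj.relProjMap_of_charts hP hPE hhE fun U hU => H11Proj.isClosedImmersion_map_of_surjOn _ _
      (H11Sym.BundleCoprod.surjOn_of_split πE hπE biprod.fst hjπE hE hjE hdE biprod.inl biprod.inl_fst U hU)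
  haveI : IsClosedImmersion hF' :=
    H11Proj.relProjMap_of_charts hP hPF hhF fun U hU => H11Proj.isClosedImmersion_map_of_surjOn _ _
      (H11Sym.BundleCoprod.surjOn_of_split πF hπF biprod.snd hjπF hF hjF hdE biprod.inr biprod.inr_snd U hU)
  refine H11Sym.BundleCoprod.isClosedImmersion_desc hE' hF' fun a b hab => ?_
  have hwE := H11Proj.relProjMap_over hP hPE hhE
  have hwF := H11Proj.relProjMap_over hP hPF hhF
  have hpp : pE a = pF b := by
    rw [← hwE, ← hwF, Scheme.Hom.comp_apply, Scheme.Hom.comp_apply, hab]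
  obtain ⟨⟨U, hU⟩, haU⟩ := Opens.mem_iSup.1 ((iSup_affineOpens_eq_top Y).ge (Set.mem_univ (pE a)))
  have hbU : pF b ∈ U := hpp ▸ haU
  obtain ⟨v, rfl⟩ := H11QMap.exists_emb_eq (chart := chartE) hU haU
  obtain ⟨w, rfl⟩ := H11QMap.exists_emb_eq (chart := chartF) hU hbU
  have hmE : Proj.map (RelProj.gradedHomAt πE hπE U hU) (hirrE U hU) ≫ RelProj.emb p chart U hU =
      RelProj.emb pE chartE U hU ≫ hE' := by
    rw [RelProj.emb, RelProj.emb, Category.assoc, hhE U hU, Iso.inv_hom_id_assoc]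
  have hmF : Proj.map (RelProj.gradedHomAt πF hπF U hU) (hirrF U hU) ≫ RelProj.emb p chart U hU =
      RelProj.emb pF chartF U hU ≫ hF' := by
    rw [RelProj.emb, RelProj.emb, Category.assoc, hhF U hU, Iso.inv_hom_id_assoc]
  have e : ProjectiveSpectrum.comap (RelProj.gradedHomAt πE hπE U hU) (hirrE U hU) v =
      ProjectiveSpectrum.comap (RelProj.gradedHomAt πF hπF U hU) (hirrF U hU) w := by
    refine (RelProj.emb p chart U hU).isOpenEmbedding.injective ?_
    exact ((congr($(hmE).base v)).trans hab).trans (congr($(hmF).base w)).symm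
  obtain ⟨c, hc, hcv⟩ := H11Tilde.exists_degOne_notMem (𝒮E.deg U hU) (H11Sym.isGenDegOne hE hjE U hU) v
  obtain ⟨x, rfl⟩ := (H11Sym.mem_deg_one hE hjE hU).1 hc
  refine hcv ?_
  let z : 𝒮.presheaf.obj (op U) := H11Sym.japp (B := 𝒮.toQCAlg) j U ((biprod.inl : E ⟶ E ⊞ F).app U x)
  have h0 : RelProj.gradedHomAt πF hπF U hU z = 0 := by
    refine (H11Sym.BundleCoprod.map_japp πF biprod.snd hjπF U _).trans ?_
    exact (congrArg (H11Sym.japp (B := 𝒮F.toQCAlg) jF U)
      (congr($(congrArg (fun k => Scheme.Modules.Hom.app k U) (biprod.inl_snd (X := E) (Y := F))) x))).trans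
      (map_zero (jF.app U).hom)
  have h1 : RelProj.gradedHomAt πE hπE U hU z = H11Sym.japp (B := 𝒮E.toQCAlg) jE U x := by
    refine (H11Sym.BundleCoprod.map_japp πE biprod.fst hjπE U _).trans ?_
    exact congrArg (H11Sym.japp (B := 𝒮E.toQCAlg) jE U)
      (congr($(congrArg (fun k => Scheme.Modules.Hom.app k U) (biprod.inl_fst (X := E) (Y := F))) x))
  have hw : z ∈ (ProjectiveSpectrum.comap (RelProj.gradedHomAt πF hπF U hU) (hirrF U hU) w).asHomogeneousIdeal.toIdeal :=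
    (congrArg (· ∈ w.asHomogeneousIdeal.toIdeal) h0).mpr (zero_mem _)
  rw [← e] at hw
  exact (congrArg (· ∈ v.asHomogeneousIdeal.toIdeal) h1).mp hw

end Groth.Agent.S5734
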