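import Groth.Statements.S5739
import Groth.Agent.H24FSch.NearIso

set_option autoImplicit false
set_option linter.style.haveILetI false
universe u
open FCompl

open CategoryTheory AlgebraicGeometry

namespace Groth.Agent.S5739

open AlgebraicGeometry CategoryTheory in
/-- Isomorphism case (completions presented by the closed subschemes of the powers of an ideal sheaf on
the base and of its inverse image ideals; the compatibility hypothesis hc always holds and is
carried as data for the completed morphism). Let Z be a locally Noetherian scheme, g : X → Z and h :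
Y → Z proper morphisms, f : X → Y a morphism with f ≫ h = g, and 𝓙 an ideal sheaf on Z. Then every
level of the completed morphism X̂ → Ŷ between the completions along the inverse image ideals of 𝓙
is an isomorphism if and only if there is an open subset U of Z containing the support of 𝓙 such
that the restriction g⁻¹(U) → h⁻¹(U) of f is an isomorphism. -/
theorem result {X Y Z : Scheme.{u}} [IsLocallyNoetherian Z]
    (g : X ⟶ Z) (h : Y ⟶ Z) [IsProper g] [IsProper h] (f : X ⟶ Y) (w : f ≫ h = g)
    (𝓙 : Z.IdealSheafData) (hc : FSch.PowCompat f (𝓙.comap g) (𝓙.comap h)) :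
    (∀ n : ℕ, IsIso ((FSch.completionMap f (𝓙.comap g) (𝓙.comap h) hc : FSch.Hom _ _).app n)) ↔
      ∃ U : Z.Opens, (𝓙.support : Set Z) ⊆ U ∧ IsIso (f ∣_ h ⁻¹ᵁ U) := by
  refine ⟨fun hl => Groth.Agent.H24FSch.exists_open_isIso g h f w 𝓙 hc hl, ?_⟩
  rintro ⟨U, hU, hi⟩ n
  exact Groth.Agent.H24FSch.app_of_restrict (MorphismProperty.isomorphisms Scheme.{u}) g h f w 𝓙 hc U hU hi n

end Groth.Agent.S5739
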