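import Groth.Statements.S5742
import Groth.Agent.H05EGA4.Points
import Mathlib.AlgebraicGeometry.SpreadingOut
import Mathlib.RingTheory.Filtration
-- import your own Groth.Agent.* helpers here

set_option autoImplicit false
set_option linter.style.haveILetI false
set_option backward.isDefEq.respectTransparency false
universe u
open Coherent

namespace Groth.Agent.S5742

open AlgebraicGeometry CategoryTheory CategoryTheory.Limits IsLocalRing

/-- Infinitesimal neighbourhoods of a closed point factor through the thickenings. -/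
theorem exists_lift_thick {A : Type u} [CommRing A] (I : Ideal A) {X : Scheme.{u}}
    (f : X ⟶ Spec (CommRingCat.of A)) (x : X) (hx : I ≤ (f x).asIdeal) (n : ℕ) :
    ∃ l : Spec (CommRingCat.of (X.presheaf.stalk x ⧸ maximalIdeal (X.presheaf.stalk x) ^ (n + 1))) ⟶
        CohB1.thick f I n,
      l ≫ CohB1.thickι f I n =
        Spec.map (CommRingCat.ofHom (Ideal.Quotient.mk
          (maximalIdeal (X.presheaf.stalk x) ^ (n + 1)))) ≫ X.fromSpecStalk x := by
  let α : CommRingCat.of A ⟶ X.presheaf.stalk x := Spec.preimage (X.fromSpecStalk x ≫ f)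
  have hα : Spec.map α = X.fromSpecStalk x ≫ f := Spec.map_preimage _
  have hI : I ≤ (maximalIdeal (X.presheaf.stalk x)).comap α.hom := by
    have e : Spec.map α (closedPoint (X.presheaf.stalk x)) = f x := by
      rw [hα, Scheme.Hom.comp_apply, Scheme.fromSpecStalk_closedPoint]
    rw [← e] at hx
    exact hx
  have hk : ∀ a ∈ I ^ (n + 1),
      ((Ideal.Quotient.mk (maximalIdeal (X.presheaf.stalk x) ^ (n + 1))).comp α.hom) a = 0 := by
    intro a ha
    rw [RingHom.comp_apply, Ideal.Quotient.eq_zero_iff_mem]
    exact Ideal.le_comap_pow α.hom (n + 1) (Ideal.pow_right_mono hI (n + 1) ha)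
  refine ⟨pullback.lift (Spec.map (CommRingCat.ofHom (Ideal.Quotient.mk
      (maximalIdeal (X.presheaf.stalk x) ^ (n + 1)))) ≫ X.fromSpecStalk x)
    (Spec.map (CommRingCat.ofHom (Ideal.Quotient.lift (I ^ (n + 1)) _ hk))) ?_,
    pullback.lift_fst _ _ _⟩
  rw [Category.assoc, ← hα, ← Spec.map_comp, CohB1.specQuot, ← Spec.map_comp]
  rfl


open AlgebraicGeometry CategoryTheory CategoryTheory.Limits in
/-- Let A be a Noetherian ring separated and complete for the I-adic topology, X proper over Spec A and
Y locally of finite type over Spec A; write X_n = X ×_A Spec(A/I^(n+1)). Two A-morphisms φ, ψ : X →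
Y whose restrictions to X_n coincide for every n are equal. (The published statement takes Y
separated and of finite type over A, which the surjectivity half needs; injectivity uses neither
separatedness nor quasi-compactness of Y. Together with the existence of an A-morphism inducing any
compatible system of morphisms X_n → Y_n, this is the bijectivity of f ↦ f̂ from A-morphisms X → Y
to morphisms of the completions.) -/
theorem result (A : Type u) [CommRing A] [IsNoetherianRing A]
    (I : Ideal A) [IsAdicComplete I A] {X Y : Scheme.{u}} (f : X ⟶ Spec (CommRingCat.of A))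
    (h : Y ⟶ Spec (CommRingCat.of A)) [IsProper f] [LocallyOfFiniteType h] (φ ψ : X ⟶ Y)
    (hφ : φ ≫ h = f) (hψ : ψ ≫ h = f)
    (e : ∀ n : ℕ, CohB1.thickι f I n ≫ φ = CohB1.thickι f I n ≫ ψ) : φ = ψ := by
  have : IsLocallyNoetherian X := LocallyOfFiniteType.isLocallyNoetherian f
  have key : ∀ x : X, IsClosed ({x} : Set X) → ∃ U : X.Opens, x ∈ U ∧ U.ι ≫ φ = U.ι ≫ ψ := by
    intro x hx
    have hI : I ≤ (f x).asIdeal := by
      have h1 : IsClosed ({f x} : Set (Spec (CommRingCat.of A))) := by
        rw [← Set.image_singleton]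
        exact f.isClosedMap _ hx
      have h2 : (f x).asIdeal.IsMaximal := (PrimeSpectrum.isClosed_singleton_iff_isMaximal _).1 h1
      exact (IsAdicComplete.le_jacobson_bot I).trans (sInf_le ⟨bot_le, h2⟩)
    have hq : ∀ n : ℕ,
        Spec.map (CommRingCat.ofHom (Ideal.Quotient.mk
          (IsLocalRing.maximalIdeal (X.presheaf.stalk x) ^ (n + 1)))) ≫ X.fromSpecStalk x ≫ φ =
        Spec.map (CommRingCat.ofHom (Ideal.Quotient.mk
          (IsLocalRing.maximalIdeal (X.presheaf.stalk x) ^ (n + 1)))) ≫ X.fromSpecStalk x ≫ ψ := by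
      intro n
      obtain ⟨l, hl⟩ := exists_lift_thick I f x hI n
      rw [← Category.assoc, ← hl, Category.assoc, e n, ← Category.assoc, hl, Category.assoc]
    have exy : φ x = ψ x := by
      have h0 := hq 0
      have hne : IsLocalRing.maximalIdeal (X.presheaf.stalk x) ^ (0 + 1) ≠ ⊤ := by
        simpa using (IsLocalRing.maximalIdeal.isMaximal (X.presheaf.stalk x)).ne_top
      have : Nontrivial (X.presheaf.stalk x ⧸ IsLocalRing.maximalIdeal (X.presheaf.stalk x) ^ (0 + 1)) :=
        Ideal.Quotient.nontrivial_iff.2 hne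
      have : IsLocalRing (X.presheaf.stalk x ⧸ IsLocalRing.maximalIdeal (X.presheaf.stalk x) ^ (0 + 1)) :=
        IsLocalRing.of_surjective' _ Ideal.Quotient.mk_surjective
      have := congr($h0 (IsLocalRing.closedPoint _))
      simp only [Scheme.Hom.comp_apply] at this
      have hc : Spec.map (CommRingCat.ofHom (Ideal.Quotient.mk
          (IsLocalRing.maximalIdeal (X.presheaf.stalk x) ^ (0 + 1)))) (IsLocalRing.closedPoint _) =
          IsLocalRing.closedPoint (X.presheaf.stalk x) := by
        refine (PrimeSpectrum.ext ((IsLocalRing.maximalIdeal.isMaximal (X.presheaf.stalk x)).eq_of_le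
          (PrimeSpectrum.isPrime _).ne_top ?_)).symm
        intro a ha
        change Ideal.Quotient.mk (IsLocalRing.maximalIdeal (X.presheaf.stalk x) ^ (0 + 1)) a ∈
          IsLocalRing.maximalIdeal _
        rw [Ideal.Quotient.eq_zero_iff_mem.2 (by simpa using ha)]
        exact zero_mem _
      erw [hc, Scheme.fromSpecStalk_closedPoint] at this
      exact this
    refine spread_out_unique_of_isGermInjective φ ψ exy ?_
    ext a
    refine sub_eq_zero.1 ?_
    rw [← Ideal.mem_bot, ← Ideal.iInf_pow_eq_bot_of_isLocalRing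
      (IsLocalRing.maximalIdeal (X.presheaf.stalk x)) (IsLocalRing.maximalIdeal.isMaximal _).ne_top,
      Ideal.mem_iInf]
    intro n
    refine Ideal.pow_le_pow_right (Nat.le_succ n) ?_
    rw [← Ideal.Quotient.eq_zero_iff_mem, map_sub, sub_eq_zero]
    have h1 := hq n
    rw [← Scheme.SpecMap_stalkMap_fromSpecStalk φ, ← Scheme.SpecMap_stalkMap_fromSpecStalk ψ,
      ← Scheme.SpecMap_stalkSpecializes_fromSpecStalk (Inseparable.of_eq exy.symm).specializes,
      ← Spec.map_comp_assoc, ← Spec.map_comp_assoc, ← Spec.map_comp_assoc, cancel_mono] at h1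
    exact RingHom.congr_fun (congrArg CommRingCat.Hom.hom (Spec.map_injective h1)) a
  have hcov : ∀ x : X, ∃ U : X.Opens, x ∈ U ∧ U.ι ≫ φ = U.ι ≫ ψ := by
    intro x
    obtain ⟨y, hy, hyc⟩ := Groth.Agent.H05EGA4.exists_closedPoint X (closure {x}) isClosed_closure
      ⟨x, subset_closure rfl⟩
    obtain ⟨U, hU, hU'⟩ := key y hyc
    exact ⟨U, (specializes_iff_mem_closure.2 hy).mem_open U.2 hU, hU'⟩
  choose U hU hU' using hcov
  refine (Scheme.openCoverOfIsOpenCover _ U (top_unique fun x _ =>
    TopologicalSpace.Opens.mem_iSup.2 ⟨x, hU x⟩)).hom_ext _ _ fun i => hU' i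

end Groth.Agent.S5742
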