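import Groth.Statements.S5744
import Groth.Agent.H10Coh.QCohOps
import Groth.Agent.H10Coh.BaseChange
import Groth.Agent.H10Coh.AffCover
-- import your own Groth.Agent.* helpers here

set_option autoImplicit false
set_option linter.style.haveILetI false
set_option backward.isDefEq.respectTransparency false
universe u
open Coherent

namespace Groth.Agent.S5744

open CategoryTheory CategoryTheory.Limits AlgebraicGeometry TopologicalSpace Opposite

theorem pi_eq_iInf {X : Scheme.{u}} {κ : Type*} (g : κ → X.Opens) [HasProduct g] : (∏ᶜ g : X.Opens) = ⨅ i, g i :=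
  le_antisymm (le_iInf fun i => leOfHom (Pi.π g i)) (leOfHom (Pi.lift fun i => homOfLE (iInf_le g i)))



open AlgebraicGeometry CategoryTheory in
/-- For the Čech complex of sheaves indexed by all ordered tuples with products as terms; over a finite
index type these terms are finite direct sums. Let X be a separated scheme, (U_i)_{i ∈ ι} a finite
family of affine opens covering X, and F a quasi-coherent O_X-module. Then for every p the degree-p
term of the Čech complex of sheaves 𝔠(𝒰, F), the product over ordered (p+1)-tuples of the direct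
images (j_{i_0…i_p})_*(F|_{U_{i_0…i_p}}), is a quasi-coherent O_X-module. -/
theorem result {X : Scheme.{u}} [X.IsSeparated] {ι : Type u}
    [Finite ι] (𝒰 : ι → X.Opens) (h𝒰 : ∀ i, IsAffineOpen (𝒰 i)) (hcov : ⨆ i, 𝒰 i = ⊤)
    (F : X.Modules) [Coh.IsQCoh F] (p : ℕ) :
    Coh.IsQCoh (((CechOX.cechSh 𝒰).obj F).X p) := by
  haveI : ∀ s : Fin (p + 1) → ι, Coh.IsQCoh ((CechOX.pushRestr (∏ᶜ (𝒰 ∘ s))).obj F) := fun s => by
    have hW : IsAffineOpen (∏ᶜ (𝒰 ∘ s) : X.Opens) := by
      rw [pi_eq_iInf]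
      exact IsAffineOpen.iInf fun k => h𝒰 _
    haveI : IsAffineHom (∏ᶜ (𝒰 ∘ s) : X.Opens).ι := ⟨fun V hV => by
      rw [← (∏ᶜ (𝒰 ∘ s) : X.Opens).ι.isAffineOpen_iff_of_isOpenImmersion,
        Scheme.Hom.image_preimage_eq_opensRange_inf, Scheme.Opens.opensRange_ι]
      exact hW.inf hV⟩
    haveI : IsAffine ((∏ᶜ (𝒰 ∘ s) : X.Opens) : Scheme.{u}) := hW
    haveI := Scheme.Modules.isQuasicoherent_restrictFunctor (∏ᶜ (𝒰 ∘ s) : X.Opens).ι F
    exact H10Coh.isQuasicoherent_pushforward_of_isAffineHom (∏ᶜ (𝒰 ∘ s) : X.Opens).ι _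
  change Coh.IsQCoh (∏ᶜ fun s : Fin (p + 1) → ι => (CechOX.pushRestr (∏ᶜ (𝒰 ∘ s))).obj F)
  obtain ⟨n, ⟨e⟩⟩ := Finite.exists_equiv_fin (Fin (p + 1) → ι)
  haveI := Fintype.ofFinite (Fin (p + 1) → ι)
  exact @H10Coh.isQuasicoherent_of_iso _ _ _ ((biproduct.isoProduct _) ≪≫
      (Pi.whiskerEquiv e.symm fun _ => Iso.refl _))
    (H10Coh.isQuasicoherent_biproduct fun k : Fin n => (CechOX.pushRestr (∏ᶜ (𝒰 ∘ e.symm k))).obj F)


end Groth.Agent.S5744
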