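import Groth.Statements.S5748
import Groth.Agent.H10Coh.AffineBCTwist
import Groth.Agent.H8Props.IndPoint.RelAmple
import Groth.Agent.H11Proj.ProjectiveProps
import Groth.Agent.LeadUV.GG
import Groth.Agent.H11Ample.RelCounit

set_option linter.style.haveILetI false
set_option backward.isDefEq.respectTransparency.types false

set_option autoImplicit false
universe u
open CategoryTheory CategoryTheory.Limits AlgebraicGeometry Opposite TopologicalSpace
open Coherent

namespace Groth.Agent.S5748

open Groth.Agent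
attribute [local instance 10000] H10Coh.hasSheafifyAb H10Coh.hasWeakSheafifyAb H10Coh.hasExtAb H10Coh.enoughInjAb

/-- Let Y be a Noetherian scheme, f : X → Y a projective morphism, L an invertible O_X-module ample
relative to f, g : Y' → Y an affine morphism locally of finite type (the spectrum of a
quasi-coherent O_Y-algebra 𝒮 of finite type) and X' = X ×_Y Y' with projections g' : X' → X and f' :
X' → Y'. The quasi-coherent modules of finite type over the pulled-back O_X-algebra f^*𝒮 = g'_*
O_{X'} are the direct images g'_* G of the coherent O_{X'}-modules G, and they are presented here in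
that form. For such a module ℳ = g'_* G there is N such that for every n ≥ N the higher direct
images R^p f_*(ℳ ⊗ L^{⊗n}) (of the underlying abelian sheaf) vanish for all p > 0 and the canonical
morphism f^* f_*(ℳ ⊗ L^{⊗n}) → ℳ ⊗ L^{⊗n} is an epimorphism. -/
theorem result {X Y X' Y' : Scheme.{u}}
    [AlgebraicGeometry.IsNoetherian Y] (f : X ⟶ Y) (hf : RelProj.IsProjective f)
    (L : X.Modules) (hL : PicF.IsInvertible L) (hamp : RelAmple.IsRelAmple f L)
    (g : Y' ⟶ Y) [IsAffineHom g] [LocallyOfFiniteType g] (g' : X' ⟶ X) (f' : X' ⟶ Y')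
    (hsq : IsPullback g' f' f g) (G : X'.Modules) (hG : Coh.IsCoh G) :
    ∃ N : ℕ, ∀ n : ℕ, N ≤ n →
      (∀ p : ℕ, 0 < p →
        IsZero ((Coh.RpushAb f p).obj (Coh.toAb (CohB1.tensorMod ((Coh.push g').obj G) (CohB1.tensorPow L n))))) ∧
      Epi ((Scheme.Modules.pullbackPushforwardAdjunction f).counit.app
        (CohB1.tensorMod ((Coh.push g').obj G) (CohB1.tensorPow L n))) := by
  haveI : IsProper f := H11Proj.isProper_of_isProjective hf
  haveI : IsProper f' := MorphismProperty.of_isPullback hsq inferInstance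
  haveI : IsLocallyNoetherian Y' := LocallyOfFiniteType.isLocallyNoetherian g
  haveI : CompactSpace Y' := QuasiCompact.compactSpace_of_compactSpace g
  haveI : IsNoetherian Y' := {}
  haveI : IsAffineHom g' := MorphismProperty.of_isPullback hsq.flip inferInstance
  haveI : IsLocallyNoetherian X' := LocallyOfFiniteType.isLocallyNoetherian f'
  haveI : CompactSpace X' := QuasiCompact.compactSpace_of_compactSpace f'
  let L' := (Scheme.Modules.pullback g').obj L
  have hL' : PicF.IsInvertible L' := H11Ample.isInvertible_pullback g' hL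
  have hamp' : RelAmple.IsRelAmple f' L' := H8Props.IndPoint.isRelAmple_of_isPullback hsq hamp
  have ha : ∀ W : Y'.Opens, IsAffineOpen W → CohB1.IsAmple (L'.restrict (f' ⁻¹ᵁ W).ι) :=
    fun W hW => hamp'.2 ⟨W, hW⟩
  obtain ⟨N₁, -, hN₁⟩ := H11Ample.eventually_epi_counit hamp' hG
  classical
  choose V hV hxV using fun y : Y => (show ∃ V : Y.Opens, IsAffineOpen V ∧ y ∈ V from
    (exists_isAffineOpen_mem_and_subset (U := (⊤ : Y.Opens)) (x := y) trivial).imp fun _ h => ⟨h.1, h.2.1⟩)
  obtain ⟨T, hT⟩ := CompactSpace.elim_nhds_subcover (fun y => (V y : Set Y))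
    fun y => (V y).isOpen.mem_nhds (hxV y)
  choose K hK using fun y => H10Coh.Tw.exists_vanishing_relAmple f' hL' ha G hG ((hV y).preimage g)
  refine ⟨N₁ + ∑ y ∈ T, K y, fun n hn => ?_⟩
  let M := CohB1.tensorMod G (CohB1.tensorPow L' n)
  haveI hMq : M.IsQuasicoherent := (H11Ample.isCoh_tensor hG (H11Ample.isInvertible_tensorPow hL' n)).1
  obtain ⟨e⟩ := LeadUV.AdicSys.nonempty_push_twist g' G hL (Iso.refl L') n
  let P := (Coh.push g').obj M
  haveI hPq : P.IsQuasicoherent := H10Coh.isQuasicoherent_pushforward g' M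
  have hpre : ∀ W : Y.Opens, g' ⁻¹ᵁ (f ⁻¹ᵁ W) = f' ⁻¹ᵁ (g ⁻¹ᵁ W) := fun W => by
    rw [← Scheme.Hom.comp_preimage, hsq.w, Scheme.Hom.comp_preimage]
  refine ⟨fun p hp => ?_, ?_⟩
  · obtain ⟨m, rfl⟩ : ∃ m, p = m + 1 := ⟨p - 1, by omega⟩
    haveI : ((H10Coh.MRes.inj P).Z 0).IsQuasicoherent := hPq
    haveI := H10Coh.isQuasicoherent_hdir f (H10Coh.MRes.inj P) m
    have hz : IsZero (H10Coh.hdir f (H10Coh.MRes.inj P) m) := by
      refine H10Coh.Tw.isZero_of_qcoh_cover _ (fun y : {y // y ∈ T} => V y.1) (fun y => hV y.1)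
        (fun z => ?_) fun y => ?_
      · obtain ⟨y, hy, hz⟩ := Set.mem_iUnion₂.1 (hT.ge (Set.mem_univ z))
        exact ⟨⟨y, hy⟩, hz⟩
      · have h := hK y.1 n ((Finset.single_le_sum (fun i _ => Nat.zero_le (K i)) y.2).trans (by omega)) (m + 1)
          (Nat.succ_pos m)
        rw [← hpre] at h
        have h' : Subsingleton (H10Coh.HnM P (m + 1) (f ⁻¹ᵁ V y.1)) :=
          @Equiv.subsingleton _ _ (H10Coh.affineLerayEquiv g' M (m + 1) (f ⁻¹ᵁ V y.1)).toEquiv h
        exact @Equiv.subsingleton _ _ (H10Coh.hdirEquiv f (H10Coh.MRes.inj P) m (hV y.1)).symm.toEquiv h'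
    exact (((H10Coh.shF Y).map_isZero hz).of_iso (H10Coh.nonempty_rpushAb_iso_hdir f P m).some.symm).of_iso
      ((Coh.RpushAb f (m + 1)).mapIso ((H10Coh.shF X).mapIso e))
  · have hsp : ∀ W : Y.Opens, IsAffineOpen W → H10Inj.GGOn.SpansOn M (f' ⁻¹ᵁ (g ⁻¹ᵁ W)) :=
      fun W hW => (S10869.epi_counit_iff_spansOn f' M hMq).1 (hN₁ n (by omega)) _ (hW.preimage g)
    haveI h0 : Epi ((Scheme.Modules.pullbackPushforwardAdjunction f).counit.app P) :=
      (S10869.epi_counit_iff_spansOn f P hPq).2 fun W hW =>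
        H10Coh.AffineBC.spansOn_push hsq M hW (hsp W hW)
    have hnat := (Scheme.Modules.pullbackPushforwardAdjunction f).counit.naturality e.inv
    haveI : Epi ((Scheme.Modules.pullbackPushforwardAdjunction f).counit.app P ≫ e.inv) :=
      epi_comp _ _
    exact epi_of_epi_fac hnat

end Groth.Agent.S5748
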