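import Groth.Statements.S5749
import Groth.Agent.H10Coh.SerreVanishing2
import Mathlib.RingTheory.Length
-- import your own Groth.Agent.* helpers here

set_option autoImplicit false
set_option linter.style.haveILetI false
set_option backward.isDefEq.respectTransparency false
universe u
open Coherent

namespace Groth.Agent.S5749

section
open AlgebraicGeometry CategoryTheory CategoryTheory.Limits
open Groth.Agent.H10Coh Groth.Agent.H10Coh.Tw Groth.Agent.H11Tilde Groth.Agent.H11Ample

/-- Higher cohomology of the large twists of a coherent module on a closed subscheme of projective space vanishes. -/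
theorem exists_vanishing {A : Type u} [CommRing A] [IsNoetherianRing A] (r : ℕ) {X : Scheme.{u}}
    (i : X ⟶ CohB1.ProjSpace r A) [IsClosedImmersion i] (F : X.Modules) (hF : Coh.IsCoh F) :
    ∃ k₀ : ℕ, ∀ k : ℕ, k₀ ≤ k → ∀ p, 0 < p →
      Subsingleton (Coh.HH X (CohB1.tensorMod F
        ((Scheme.Modules.pullback i).obj (Twist.twistProjSpace r A (k : ℤ)))) p) := by
  haveI : IsFinite i := inferInstance
  obtain ⟨K, hK⟩ := exists_vanishing_proj r ((Coh.push i).obj F) (isCoh_push_of_isFinite i _ hF)
  refine ⟨K, fun k hk p hp => ?_⟩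
  have h1 : ∀ x : Proj (Pn.Gr r A), ∃ f ∈ Pn.Gr r A 1, f ∉ x.asHomogeneousIdeal := fun x => by
    obtain ⟨l, hl⟩ := exists_mem_basicOpen_X (n := r) (R := A) x
    exact ⟨_, X_mem l, hl⟩
  have hO : PicF.IsInvertible (Twist.twistProjSpace r A (k : ℤ)) := isInvertible_twist (Pn.Gr r A) h1 k
  obtain ⟨e⟩ := nonempty_push_tensor_iso i F hO
  have hv := subsingleton_of_iso e (hK k hk p hp)
  haveI : (CohB1.tensorMod F ((Scheme.Modules.pullback i).obj
      (Twist.twistProjSpace r A (k : ℤ)))).IsQuasicoherent :=
    isQCoh_tensor hF.1 (isInvertible_pullback i hO)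
  have hv' := @Equiv.subsingleton _ _ (affineLerayEquiv i (CohB1.tensorMod F ((Scheme.Modules.pullback i).obj
      (Twist.twistProjSpace r A (k : ℤ)))) p ⊤).symm.toEquiv hv
  exact @Equiv.subsingleton _ _ (HHEquiv _ p).toEquiv hv'

end


open AlgebraicGeometry CategoryTheory in
/-- Let A be an Artinian local ring, i : X → P^r_A a closed immersion compatible with the structure
morphisms to Spec A (X projective over A with the very ample module i^* O(1)), F a coherent
O_X-module and F(n) = F ⊗ i^* O(n). Then for all sufficiently large n the Euler characteristic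
χ_A(F(n)) = Σ_{j ≤ r} (-1)^j length_A H^j(X, F(n)) equals the length of H^0(X, F(n)), the A-module
of global sections of F(n). -/
theorem result (A : Type u) [CommRing A]
    [IsArtinianRing A] [IsLocalRing A] (r : ℕ) (X : Scheme.{u}) [X.Over (Spec (CommRingCat.of A))]
    (i : X ⟶ CohB1.ProjSpace r A) [IsClosedImmersion i]
    (hi : i ≫ CohB1.ProjSpace.toSpec r A = X ↘ Spec (CommRingCat.of A)) (F : X.Modules) (hF : Coh.IsCoh F) :
    ∃ N : ℤ, ∀ n : ℤ, N ≤ n →
      ((Finset.range (r + 1)).sum fun j => (-1 : ℤ) ^ j *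
        ((Module.length A (Coh.HH X (CohB1.tensorMod F
          ((Scheme.Modules.pullback i).obj (Twist.twistProjSpace r A n))) j)).toNat : ℤ)) =
      ((Module.length A (Coh.HH X (CohB1.tensorMod F
          ((Scheme.Modules.pullback i).obj (Twist.twistProjSpace r A n))) 0)).toNat : ℤ) := by
  obtain ⟨K, hK⟩ := exists_vanishing r i F hF
  refine ⟨(K : ℤ), fun n hn => ?_⟩
  obtain ⟨k, rfl⟩ : ∃ k : ℕ, n = (k : ℤ) := ⟨n.toNat, by omega⟩
  rw [Finset.sum_eq_single 0]
  · rw [pow_zero, one_mul]
  · intro j _ hj
    haveI := hK k (by exact_mod_cast hn) j (Nat.pos_of_ne_zero hj)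
    rw [Module.length_eq_zero, ENat.toNat_zero, Nat.cast_zero, mul_zero]
  · simp

end Groth.Agent.S5749
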