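import Groth.Statements.S5750
import Groth.Agent.S5749
import Mathlib.Analysis.Polynomial.Basic
-- import your own Groth.Agent.* helpers here

set_option autoImplicit false
set_option linter.style.haveILetI false
set_option backward.isDefEq.respectTransparency false
universe u
open Coherent

namespace Groth.Agent.S5750

open AlgebraicGeometry CategoryTheory in
/-- Let A be an Artinian local ring, i : X → P^r_A a closed immersion compatible with the structure
morphisms to Spec A, F a coherent O_X-module and F(n) = F ⊗ i^* O(n). If a polynomial P over ℚ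
satisfies P(n) = χ_A(F(n)) = Σ_{j ≤ r} (-1)^j length_A H^j(X, F(n)) for every integer n (the Hilbert
polynomial of F), then the leading coefficient of P is non-negative. -/
theorem result (A : Type u) [CommRing A]
    [IsArtinianRing A] [IsLocalRing A] (r : ℕ) (X : Scheme.{u}) [X.Over (Spec (CommRingCat.of A))]
    (i : X ⟶ CohB1.ProjSpace r A) [IsClosedImmersion i]
    (hi : i ≫ CohB1.ProjSpace.toSpec r A = X ↘ Spec (CommRingCat.of A)) (F : X.Modules) (hF : Coh.IsCoh F)
    (P : Polynomial ℚ)
    (hP : ∀ n : ℤ, ((Finset.range (r + 1)).sum fun j => (-1 : ℚ) ^ j *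
        ((Module.length A (Coh.HH X (CohB1.tensorMod F
          ((Scheme.Modules.pullback i).obj (Twist.twistProjSpace r A n))) j)).toNat : ℚ)) = P.eval (n : ℚ)) :
    0 ≤ P.leadingCoeff := by
  obtain ⟨N, hN⟩ := Groth.Agent.S5749.result A r X i hi F hF
  have hpos : ∀ n : ℤ, N ≤ n → 0 ≤ P.eval (n : ℚ) := by
    intro n hn
    rw [← hP n]
    have h := congrArg (fun z : ℤ => (z : ℚ)) (hN n hn)
    push_cast at h
    rw [h]
    positivity
  by_contra hlc
  rw [not_le] at hlc
  by_cases hd : 0 < P.degree
  · have ht : Filter.Tendsto (fun x : ℚ => P.eval x) Filter.atTop Filter.atBot :=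
      (Polynomial.tendsto_atBot_iff_leadingCoeff_nonpos P).2 ⟨hd, hlc.le⟩
    obtain ⟨x₀, hx₀⟩ := Filter.eventually_atTop.1 (ht.eventually (Filter.eventually_le_atBot (-1 : ℚ)))
    have h1 := hx₀ ((max N ⌈x₀⌉ : ℤ) : ℚ) ((Int.le_ceil x₀).trans (by exact_mod_cast le_max_right _ _))
    have h2 := hpos (max N ⌈x₀⌉) (le_max_left _ _)
    linarith
  · rw [not_lt] at hd
    have e := Polynomial.eq_C_of_degree_le_zero hd
    have h2 := hpos N le_rfl
    rw [e, Polynomial.eval_C] at h2
    rw [e, Polynomial.leadingCoeff_C] at hlc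
    linarith

end Groth.Agent.S5750
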