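import Groth.Statements.S5753
import Groth.Agent.H05EGA4.DepthMisc

set_option autoImplicit false
universe u
open EGA41

open Groth.Agent Groth.Agent.H05EGA4 IsLocalRing
open scoped Pointwise

namespace Groth.Agent.S5753

/-- Let A be a Noetherian local ring with maximal ideal m and residue field k, and N a finitely
generated A-module. Then no element of m is N-regular (multiplication by it injective) if and only
if Hom_A(k, N) is nonzero. Applied to N = M/(x_1 M + ... + x_n M) for an M-regular sequence (x_i) in
m, this says that the sequence cannot be extended by an element of m if and only if Hom_A(k, M/(x_1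
M + ... + x_n M)) ≠ 0. (The published statement allows an arbitrary module; for the direct sum N of
the quotients of a two-dimensional regular local ring by all its height-one primes no element of m
is N-regular while Hom_A(k, N) = 0, and the published proof uses finiteness of the set of associated
primes, so N is taken finitely generated here.) -/
theorem result (A : Type u) [CommRing A]
    [IsLocalRing A] [IsNoetherianRing A] (N : Type u) [AddCommGroup N] [Module A N] [Module.Finite A N] :
    (∀ x ∈ IsLocalRing.maximalIdeal A, ¬ IsSMulRegular N x) ↔
      Nontrivial (IsLocalRing.ResidueField A →ₗ[A] N) := by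
  constructor
  · intro h
    obtain ⟨p, hp, hle⟩ := H4Depth.exists_associatedPrime_ge_of_no_regular (I := maximalIdeal A) h
    rw [← (maximalIdeal.isMaximal A).eq_of_le hp.isPrime.ne_top hle] at hp
    obtain ⟨-, z, hz⟩ := isAssociatedPrime_iff.mp hp
    have hz' : maximalIdeal A ≤ LinearMap.ker (LinearMap.toSpanSingleton A N z) := fun a ha => by
      have := hz.le ha
      rwa [Submodule.mem_colon_singleton, Submodule.mem_bot] at this
    refine nontrivial_of_ne (Submodule.liftQ (maximalIdeal A) (LinearMap.toSpanSingleton A N z) hz') 0 fun h0 => ?_
    have h1 : (Submodule.liftQ (maximalIdeal A) (LinearMap.toSpanSingleton A N z) hz') (Submodule.Quotient.mk 1) = 0 := by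
      rw [h0]; rfl
    rw [Submodule.liftQ_apply, LinearMap.toSpanSingleton_apply, one_smul] at h1
    refine (maximalIdeal.isMaximal A).ne_top (hz.trans ?_)
    rw [h1]
    simp
  · intro h x hx hreg
    obtain ⟨f, hf⟩ := exists_ne (0 : ResidueField A →ₗ[A] N)
    refine hf (LinearMap.ext fun t => hreg ?_)
    obtain ⟨a, rfl⟩ := residue_surjective t
    show x • f (residue A a) = x • (0 : N)
    rw [smul_zero, ← map_smul, Algebra.smul_def, ResidueField.algebraMap_eq, (residue_eq_zero_iff x).mpr hx, zero_mul,
      map_zero]

end Groth.Agent.S5753
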