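import Groth.Statements.S5755
import Groth.Agent.H05EGA4.DepthMisc

set_option autoImplicit false
universe u
open EGA41

open Groth.Agent Groth.Agent.H05EGA4 IsLocalRing
open scoped Pointwise

namespace Groth.Agent.S5755

/-- A reduced Noetherian local ring A has depth 0 if and only if A is a field. -/
theorem result (A : Type u) [CommRing A] [IsLocalRing A]
    [IsNoetherianRing A] [IsReduced A] : LocCoh.depth A A = 0 ↔ IsField A := by
  rw [LocCoh.depth, H4Depth.idealDepth_eq_zero_iff_exists_associatedPrime
    (H4Depth.maximalIdeal_smul_top_ne_top (R := A) (M := A))]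
  constructor
  · rintro ⟨p, hp, hle⟩
    obtain ⟨hpp, z, hz⟩ := isAssociatedPrime_iff.mp hp
    rw [IsLocalRing.isField_iff_maximalIdeal_eq]
    by_contra hne
    refine hne ((eq_bot_iff).mpr fun a ha => ?_)
    have hz0 : z ≠ 0 := fun h => hpp.ne_top (by rw [hz, h]; simp)
    have haz : ∀ b ∈ maximalIdeal A, b * z = 0 := fun b hb => by
      have := hz.le (hle hb)
      rwa [Submodule.mem_colon_singleton, Submodule.mem_bot, smul_eq_mul] at this
    by_cases hzm : z ∈ maximalIdeal A
    · exact absurd (IsReduced.eq_zero z ⟨2, by rw [pow_two]; exact haz z hzm⟩) hz0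
    · exact Ideal.mem_bot.mpr ((IsLocalRing.notMem_maximalIdeal.mp hzm).mul_left_eq_zero.mp (haz a ha))
  · intro h
    obtain ⟨p, hp⟩ := associatedPrimes.nonempty A A
    exact ⟨p, hp, (IsLocalRing.isField_iff_maximalIdeal_eq.mp h).le.trans bot_le⟩

end Groth.Agent.S5755
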