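import Groth.Statements.S5756
import Groth.Agent.H05EGA4.DepthMisc

set_option autoImplicit false
universe u
open EGA41

open Groth.Agent Groth.Agent.H05EGA4 IsLocalRing
open scoped Pointwise

namespace Groth.Agent.S5756

/-- Suppose A and B are Noetherian local rings and ρ : A → B is a local homomorphism. Given a B-module M
that, viewed as an A-module through ρ, is finitely generated, the depth of M over A coincides with
the depth of M over B. -/
theorem result (A B : Type u) [CommRing A] [CommRing B] [IsLocalRing A]
    [IsLocalRing B] [IsNoetherianRing A] [IsNoetherianRing B] [Algebra A B] [IsLocalHom (algebraMap A B)]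
    (M : Type u) [AddCommGroup M] [Module B M] [Module A M] [IsScalarTower A B M] [Module.Finite A M] :
    LocCoh.depth A M = LocCoh.depth B M := by
  haveI : Module.Finite B M := Module.Finite.of_restrictScalars_finite A B M
  rcases subsingleton_or_nontrivial M with hs | hnt
  · rw [LocCoh.depth, LocCoh.depth, H4Depth.idealDepth_eq_top (Subsingleton.elim _ _),
      H4Depth.idealDepth_eq_top (Subsingleton.elim _ _)]
  obtain ⟨n, hn⟩ := ENat.ne_top_iff_exists.mp (H4Depth.idealDepth_ne_top
    (H4Depth.maximalIdeal_smul_top_ne_top (R := A) (M := M)))
  exact hn.symm.trans (DepthMisc.depth_eq_of_finite (A := A) (B := B) n M hn.symm).symm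

end Groth.Agent.S5756
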