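import Groth.Statements.S5764
import Groth.Agent.H05EGA4.SamuelParams
import Groth.Agent.H05EGA4.DepthMisc

set_option autoImplicit false
universe u
open EGA41

open Groth.Agent Groth.Agent.H05EGA4 IsLocalRing
open scoped Pointwise

namespace Groth.Agent.S5764

/-- Let B be an integral domain, A a local subring of B which is integrally closed (in its field of
fractions), and suppose B is integral over A. Then dim(B_n) = dim(A) for every maximal ideal n of B. -/
theorem result (A B : Type u) [CommRing A]
    [CommRing B] [IsDomain B] [Algebra A B] (hinj : Function.Injective (algebraMap A B)) [IsDomain A]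
    [IsLocalRing A] [IsIntegrallyClosed A] [Algebra.IsIntegral A B] (n : Ideal B) [n.IsMaximal] :
    ringKrullDim (Localization.AtPrime n) = ringKrullDim A := by
  haveI : FaithfulSMul A B := (faithfulSMul_iff_algebraMap_injective A B).mpr hinj
  rw [IsLocalization.AtPrime.ringKrullDim_eq_height n]
  have hn : n.comap (algebraMap A B) = maximalIdeal A :=
    IsLocalRing.eq_maximalIdeal (Ideal.isMaximal_comap_of_isIntegral_of_isMaximal n)
  refine le_antisymm ?_ (iSup_le fun l => ?_)
  · refine (Ideal.height_le_ringKrullDim_of_ne_top (Ideal.IsPrime.ne_top inferInstance)).trans ?_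
    refine Order.krullDim_le_of_strictMono (fun q : PrimeSpectrum B => PrimeSpectrum.comap (algebraMap A B) q) fun q q' h => ?_
    exact Ideal.IsIntegral.comap_lt_comap (R := A) (show q.asIdeal < q'.asIdeal from h)
  · obtain ⟨l', hlen, hlast⟩ : ∃ l' : LTSeries (PrimeSpectrum A), l.length ≤ l'.length ∧ l'.last.asIdeal = maximalIdeal A := by
      rcases eq_or_lt_of_le (IsLocalRing.le_maximalIdeal l.last.isPrime.ne_top) with h | h
      · exact ⟨l, le_rfl, h⟩
      · refine ⟨l.snoc ⟨maximalIdeal A, inferInstance⟩ h, ?_, by simp⟩
        simp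
    haveI : n.LiesOver l'.last.asIdeal := ⟨by rw [hlast]; exact hn.symm⟩
    obtain ⟨L, hL, hLlast, -⟩ := Ideal.exists_ltSeries_of_hasGoingDown (S := B) l' n
    have h1 : (L.length : ℕ∞) ≤ n.height := by
      rw [show n.height = Order.height (⟨n, inferInstance⟩ : PrimeSpectrum B) from PrimeSpectrum.height_eq_orderHeight ⟨n, inferInstance⟩]
      exact Order.length_le_height (by rw [hLlast])
    have h2 : (l.length : ℕ∞) ≤ n.height := le_trans (by rw [hL]; exact_mod_cast hlen) h1
    exact_mod_cast h2

end Groth.Agent.S5764
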