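import Groth.Statements.S5765
import Mathlib
import Groth.Agent.H05EGA4.DimLocal

set_option autoImplicit false
set_option maxHeartbeats 400000
universe u
open EGA41

open IsLocalRing TensorProduct Groth.Agent.H05EGA4
open scoped Pointwise

namespace Groth.Agent.S5765

/-- Let A be a ring, M a finitely generated A-module and p a prime ideal of A. Then dim_{A_p}(M_p) +
dim_A(M/pM) ≤ dim_A(M). -/
theorem result (A : Type u) [CommRing A] (M : Type u)
    [AddCommGroup M] [Module A M] [Module.Finite A M] (p : Ideal A) [p.IsPrime] :
    Module.supportDim (Localization.AtPrime p) (LocalizedModule p.primeCompl M) +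
        Module.supportDim A (M ⧸ (p • (⊤ : Submodule A M))) ≤ Module.supportDim A M := by
  by_cases hp : (⟨p, ‹_›⟩ : PrimeSpectrum A) ∈ Module.support A M
  swap
  · have : Subsingleton (LocalizedModule p.primeCompl M) := Module.notMem_support_iff.mp hp
    rw [(Module.supportDim_eq_bot_iff_subsingleton (Localization.AtPrime p) _).mpr this,
      WithBot.bot_add]
    exact bot_le
  let a : Module.support A M := ⟨⟨p, ‹_›⟩, hp⟩
  have : Nonempty (Module.support A M) := ⟨a⟩
  let ι := algebraMap A (Localization.AtPrime p)
  have hmem : ∀ P : Module.support (Localization.AtPrime p) (LocalizedModule p.primeCompl M),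
      PrimeSpectrum.comap ι P.1 ∈ Module.support A M ∧
        (PrimeSpectrum.comap ι P.1).asIdeal ≤ p := by
    intro P
    constructor
    · rw [Module.support_eq_zeroLocus]
      intro r hr
      obtain ⟨z, hz⟩ := Module.mem_support_iff'.mp P.2
      by_contra hrP
      refine hz (ι r) hrP ?_
      induction z using LocalizedModule.induction_on with
      | h m s =>
        rw [algebraMap_smul, LocalizedModule.smul'_mk, Module.mem_annihilator.mp hr,
          LocalizedModule.zero_mk]
    · calc (PrimeSpectrum.comap ι P.1).asIdeal
          ≤ (maximalIdeal (Localization.AtPrime p)).comap ι :=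
            Ideal.comap_mono (le_maximalIdeal P.1.2.ne_top)
        _ = p := Localization.AtPrime.under_maximalIdeal
  have h1 : Module.supportDim (Localization.AtPrime p) (LocalizedModule p.primeCompl M) ≤
      (Order.height a : WithBot ℕ∞) := by
    rw [Order.height_eq_krullDim_Iic]
    refine Order.krullDim_le_of_strictMono
      (fun P => (⟨⟨PrimeSpectrum.comap ι P.1, (hmem P).1⟩, (hmem P).2⟩ : Set.Iic a)) ?_
    intro P Q h
    have hle : (P.1 : PrimeSpectrum _) < Q.1 := h
    exact (OrderEmbedding.strictMono (IsLocalization.AtPrime.primeSpectrumOrderIso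
      (Localization.AtPrime p) p).toOrderEmbedding) hle
  have h2 : Module.supportDim A (M ⧸ (p • (⊤ : Submodule A M))) ≤
      (Order.coheight a : WithBot ℕ∞) := by
    rw [Order.coheight_eq_krullDim_Ici]
    refine Order.krullDim_le_of_strictMono (fun P => (⟨⟨P.1, ?_⟩, ?_⟩ : Set.Ici a)) fun _ _ h => h
    · exact ((Module.support_quotient p).subset P.2).1
    · exact ((Module.support_quotient p).subset P.2).2
  refine (add_le_add h1 h2).trans ?_
  rw [Module.supportDim, Order.krullDim_eq_iSup_height_add_coheight_of_nonempty, ← WithBot.coe_add,
    WithBot.coe_le_coe]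
  exact le_iSup (fun b => Order.height b + Order.coheight b) a


end Groth.Agent.S5765
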