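import Groth.Statements.S5766
import Groth.Agent.H05EGA4.IntegralDim
import Mathlib.RingTheory.KrullDimension.Module
import Mathlib.RingTheory.Finiteness.Cardinality

set_option autoImplicit false
universe u
open EGA41

namespace Groth.Agent.S5766

/-- Let A be a Noetherian ring, ρ : A → B a ring homomorphism and M a B-module which is finitely
generated as an A-module via ρ. Then the dimension of M as an A-module equals its dimension as a
B-module. -/
theorem result (A B : Type u) [CommRing A] [CommRing B] [IsNoetherianRing A]
    [Algebra A B] (M : Type u) [AddCommGroup M] [Module B M] [Module A M] [IsScalarTower A B M]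
    [Module.Finite A M] : Module.supportDim A M = Module.supportDim B M := by
  have : Module.Finite B M := Module.Finite.of_restrictScalars_finite A B M
  rw [Module.supportDim_eq_ringKrullDim_quotient_annihilator, Module.supportDim_eq_ringKrullDim_quotient_annihilator]
  let A' := A ⧸ Module.annihilator A M
  let B' := B ⧸ Module.annihilator B M
  have hle : Module.annihilator A M = (Module.annihilator B M).comap (algebraMap A B) := by
    ext a
    simp [Module.mem_annihilator]
  let φ : A' →+* B' := Ideal.quotientMap _ (algebraMap A B) hle.le
  let _ := φ.toAlgebra
  have hφ : Function.Injective (algebraMap A' B') := Ideal.quotientMap_injective' hle.ge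
  let ψ : B' →ₗ[A] Module.End A M :=
    (Ideal.Quotient.liftₐ (Module.annihilator B M) (Algebra.lsmul A A M : B →ₐ[A] Module.End A M)
      (fun b hb => LinearMap.ext fun m => Module.mem_annihilator.1 hb m)).toLinearMap
  have hψ : Function.Injective ψ := by
    rw [injective_iff_map_eq_zero]
    intro x hx
    obtain ⟨b, rfl⟩ := Ideal.Quotient.mk_surjective x
    refine Ideal.Quotient.eq_zero_iff_mem.2 (Module.mem_annihilator.2 fun m => ?_)
    exact LinearMap.congr_fun hx m
  have : Module.Finite A B' := Module.Finite.of_injective ψ hψ
  have : IsScalarTower A A' B' := IsScalarTower.of_algebraMap_eq fun a => rfl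
  have : Module.Finite A' B' := Module.Finite.of_restrictScalars_finite A A' B'
  exact ((Groth.Agent.H05EGA4.dim_int A' B').2 hφ).symm


end Groth.Agent.S5766
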