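import Groth.Statements.S5767
import Mathlib
import Groth.Agent.H05EGA4.DimLocal

set_option autoImplicit false
set_option maxHeartbeats 400000
universe u
open EGA41

open IsLocalRing TensorProduct Groth.Agent.H05EGA4
open scoped Pointwise

namespace Groth.Agent.S5767

/-- Let A be a semi-local Noetherian ring, M a finitely generated A-module and x an element of the
Jacobson radical of A. One always has dim(M/xM) ≥ dim(M) - 1; equality dim(M/xM) = dim(M) - 1 holds
if and only if x belongs to none of the prime ideals p of Supp(M) with dim(A/p) = dim(M). Stated as: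
dim(M/xM) + 1 = dim(M) iff x avoids those primes. -/
theorem result (A : Type u) [CommRing A] [IsNoetherianRing A]
    [Finite (MaximalSpectrum A)] (M : Type u) [AddCommGroup M] [Module A M] [Module.Finite A M] (x : A)
    (hx : x ∈ Ring.jacobson A) :
    Module.supportDim A (QuotSMulTop x M) + 1 = Module.supportDim A M ↔
      ∀ p : PrimeSpectrum A, p ∈ Module.support A M →
        ringKrullDim (A ⧸ p.asIdeal) = Module.supportDim A M → x ∉ p.asIdeal := by
  cases subsingleton_or_nontrivial M with
  | inl h =>
    rw [(Module.supportDim_eq_bot_iff_subsingleton A M).mpr h,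
      (Module.supportDim_eq_bot_iff_subsingleton A _).mpr inferInstance, WithBot.bot_add]
    simp [Module.support_eq_empty]
  | inr h =>
    have hfin : Module.supportDim A M < ⊤ := by
      refine (Module.supportDim_le_ringKrullDim A M).trans_lt ?_
      cases nonempty_fintype (MaximalSpectrum A)
      obtain ⟨N, hN⟩ : ∃ N : ℕ, ∀ m : MaximalSpectrum A, m.asIdeal.height.toNat ≤ N :=
        ⟨_, fun m => Finset.le_sup (f := fun m : MaximalSpectrum A => m.asIdeal.height.toNat)
          (Finset.mem_univ m)⟩
      refine lt_of_le_of_lt ((ringKrullDim_le_iff_isMaximal_height_le ((N : ℕ∞) : WithBot ℕ∞)).mpr ?_)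
        (WithBot.coe_lt_coe.mpr (ENat.natCast_lt_top N))
      intro m hm
      have : m.height ≠ ⊤ := Ideal.height_ne_top hm.ne_top
      rw [WithBot.coe_le_coe]
      have h1 : m.height.toNat ≤ N := hN ⟨m, hm⟩
      exact (ENat.natCast_toNat this).ge.trans (Nat.cast_le.mpr h1)
    have hge := Module.supportDim_le_supportDim_quotSMulTop_succ_of_mem_jacobson (M := M)
      ((Module.annihilator A M).ringJacobson_le_jacobson hx)
    obtain ⟨n, hn⟩ : ∃ n : ℕ, Module.supportDim A M = (n : ℕ∞) := by
      have h0 : Module.supportDim A M ≠ ⊥ := (Module.supportDim_ne_bot_iff_nontrivial A M).mpr h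
      revert hfin h0
      generalize Module.supportDim A M = d
      intro h1 h0
      induction d using WithBot.recBotCoe with
      | bot => exact absurd rfl h0
      | coe e =>
        induction e using ENat.recTopCoe with
        | top => exact absurd rfl h1.ne
        | coe m => exact ⟨m, rfl⟩
    have hV : Module.support A (QuotSMulTop x M) =
        Module.support A M ∩ PrimeSpectrum.zeroLocus {x} := Module.support_quotSMulTop x
    constructor
    · intro heq p hp hdim hxp
      have h3 : ringKrullDim (A ⧸ p.asIdeal) ≤ Module.supportDim A (QuotSMulTop x M) := by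
        rw [ringKrullDim_quotient]
        refine Order.krullDim_le_of_strictMono (fun q => ⟨q.1, ?_⟩) fun _ _ h => h
        rw [hV]
        exact ⟨Module.mem_support_mono q.2 hp, Set.singleton_subset_iff.mpr (q.2 hxp)⟩
      rw [hdim] at h3
      rw [hn] at heq h3
      have : ((n : ℕ∞) : WithBot ℕ∞) + 1 ≤ (n : ℕ∞) := le_trans (by gcongr) heq.le
      norm_cast at this
      omega
    · intro hav
      refine le_antisymm ?_ hge
      have key : ∀ l : LTSeries (Module.support A (QuotSMulTop x M)), l.length < n := by
        intro l
        have hq := hV.subset l.head.2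
        let q : PrimeSpectrum A := l.head.1
        have hup : (l.length : WithBot ℕ∞) ≤ ringKrullDim (A ⧸ q.asIdeal) := by
          rw [ringKrullDim_quotient]
          let f : ∀ i, PrimeSpectrum.zeroLocus (q.asIdeal : Set A) := fun i =>
            ⟨(l i).1, SetLike.coe_subset_coe.mpr (l.head_le i)⟩
          let l' : LTSeries (PrimeSpectrum.zeroLocus (q.asIdeal : Set A)) :=
            ⟨l.length, f, fun i => l.step i⟩
          exact le_iSup (fun s : LTSeries _ => (s.length : WithBot ℕ∞)) l'
        have hle : ringKrullDim (A ⧸ q.asIdeal) ≤ Module.supportDim A M := by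
          rw [ringKrullDim_quotient]
          exact Order.krullDim_le_of_strictMono
            (fun r => ⟨r.1, Module.mem_support_mono r.2 hq.1⟩) fun _ _ h => h
        rw [hn] at hle
        have hlt : ringKrullDim (A ⧸ q.asIdeal) < ((n : ℕ∞) : WithBot ℕ∞) :=
          lt_of_le_of_ne hle fun he =>
            hav q hq.1 (he.trans hn.symm) (Set.singleton_subset_iff.mp hq.2)
        have := hup.trans_lt hlt
        exact_mod_cast this
      rw [hn]
      rcases Nat.eq_zero_or_pos n with h0 | h0
      · have : IsEmpty (Module.support A (QuotSMulTop x M)) :=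
          ⟨fun a => by simpa [h0] using key (RelSeries.singleton _ a)⟩
        rw [Module.supportDim, Order.krullDim_eq_bot, WithBot.bot_add]
        exact bot_le
      · have h4 : Module.supportDim A (QuotSMulTop x M) ≤ ((n - 1 : ℕ) : ℕ∞) :=
          iSup_le fun l => by
            have := key l
            exact_mod_cast (show l.length ≤ n - 1 by omega)
        calc Module.supportDim A (QuotSMulTop x M) + 1
            ≤ (((n - 1 : ℕ) : ℕ∞) : WithBot ℕ∞) + 1 := by gcongr
          _ = ((n : ℕ∞) : WithBot ℕ∞) := by norm_cast; omega


end Groth.Agent.S5767
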