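import Groth.Statements.S5768
import Groth.Agent.H05EGA4.SamuelParams
import Groth.Agent.H05EGA4.DepthMisc

set_option autoImplicit false
universe u
open EGA41

open Groth.Agent Groth.Agent.H05EGA4 IsLocalRing
open scoped Pointwise

namespace Groth.Agent.S5768

/-- Let A be a semi-local Noetherian ring with Jacobson radical r, M a nonzero finitely generated
A-module and x_1, ..., x_k elements of r. One always has dim(M/(x_1 M + ... + x_k M)) ≥ dim(M) - k,
and equality holds if and only if there exist further elements of r which together with the x_i form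
a system of parameters for M (dim(M) elements of r modulo which M has finite length). -/
theorem result (A : Type u) [CommRing A]
    [IsNoetherianRing A] [Finite (MaximalSpectrum A)] (M : Type u) [AddCommGroup M] [Module A M]
    [Module.Finite A M] [Nontrivial M] (xs : List A) (hxs : ∀ x ∈ xs, x ∈ Ring.jacobson A) :
    Module.supportDim A (M ⧸ (Ideal.ofList xs • (⊤ : Submodule A M))) + xs.length = Module.supportDim A M ↔
      ∃ ys : List A, (∀ y ∈ ys, y ∈ Ring.jacobson A) ∧
        ((xs ++ ys).length : WithBot ℕ∞) = Module.supportDim A M ∧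
        IsFiniteLength A (M ⧸ (Ideal.ofList (xs ++ ys) • (⊤ : Submodule A M))) := by
  let I := Ideal.ofList xs
  haveI : Nontrivial (M ⧸ (I • (⊤ : Submodule A M))) := Submodule.Quotient.nontrivial_iff.mpr
    (Submodule.top_ne_ideal_smul_of_le_jacobson_annihilator
      ((Ideal.span_le.mpr fun x hx => hxs x hx).trans (Module.annihilator A M).ringJacobson_le_jacobson)).symm
  obtain ⟨e, he⟩ := Samuel.exists_nat_supportDim (A := A) (M ⧸ (I • (⊤ : Submodule A M)))
  obtain ⟨d, hd⟩ := Samuel.exists_nat_supportDim (A := A) M
  have hdle : d ≤ xs.length + e := by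
    have := Samuel.supportDim_le_add_length M hxs he.le
    rw [hd] at this
    exact_mod_cast this
  rw [he, hd]
  constructor
  · intro h
    have h' : e + xs.length = d := by exact_mod_cast h
    obtain ⟨ys, hys, hy, hfin⟩ := Samuel.exists_parameters_list (A := A) (M ⧸ (I • (⊤ : Submodule A M))) he.le
    rw [(Samuel.quotSupEquiv I (Ideal.ofList ys)).length_eq, ← Ideal.ofList_append] at hfin
    refine ⟨ys, hy, ?_, Module.length_ne_top_iff.mp hfin⟩
    have h1 := Samuel.supportDim_le_of_list M (fun z hz => (List.mem_append.mp hz).elim (hxs z) (hy z)) hfin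
    rw [hd] at h1
    have h2 : d ≤ (xs ++ ys).length := by exact_mod_cast h1
    rw [List.length_append] at h2 ⊢
    exact_mod_cast (show xs.length + ys.length = d by omega)
  · rintro ⟨ys, hy, hlen, hfin⟩
    have hfin' : Module.length A ((M ⧸ (I • (⊤ : Submodule A M))) ⧸ (Ideal.ofList ys • (⊤ : Submodule A (M ⧸ (I • (⊤ : Submodule A M)))))) ≠ ⊤ := by
      rw [(Samuel.quotSupEquiv I (Ideal.ofList ys)).length_eq, ← Ideal.ofList_append]
      exact Module.length_ne_top_iff.mpr hfin
    have h1 := Samuel.supportDim_le_of_list (A := A) _ hy hfin'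
    rw [he] at h1
    have h2 : e ≤ ys.length := by exact_mod_cast h1
    have h3 : xs.length + ys.length = d := by
      rw [List.length_append] at hlen
      exact_mod_cast hlen
    exact_mod_cast (show e + xs.length = d by omega)

end Groth.Agent.S5768
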