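import Groth.Statements.S5771
import Mathlib
import Groth.Agent.H05EGA4.DimLocal

set_option autoImplicit false
set_option maxHeartbeats 400000
universe u
open EGA41

open IsLocalRing TensorProduct Groth.Agent.H05EGA4
open scoped Pointwise

namespace Groth.Agent.S5771

/-- Let φ : A → B be a local homomorphism of Noetherian local rings, m the maximal ideal of A, and
suppose mB is an ideal of definition of B (equivalently dim(B/mB) = 0). Then dim(B) ≤ dim(A); if
moreover A is an integral domain and dim(A) = dim(B), then φ is injective. -/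
theorem result (A B : Type u) [CommRing A] [CommRing B]
    [IsLocalRing A] [IsLocalRing B] [IsNoetherianRing A] [IsNoetherianRing B] [Algebra A B]
    [IsLocalHom (algebraMap A B)]
    (hdef : ringKrullDim (B ⧸ (IsLocalRing.maximalIdeal A).map (algebraMap A B)) = 0) :
    ringKrullDim B ≤ ringKrullDim A ∧
      (IsDomain A → ringKrullDim A = ringKrullDim B → Function.Injective (algebraMap A B)) := by
  refine ⟨?_, ?_⟩
  · simpa [hdef] using dimLocalHom A B
  intro _ heq
  rw [RingHom.injective_iff_ker_eq_bot]
  by_contra hne
  obtain ⟨a, ha, ha0⟩ := Submodule.exists_mem_ne_zero_of_ne_bot hne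
  have h1 := dimLocalHomQuot A B (Ideal.span {a}) ⊥ (by
    rw [Ideal.span_le, Set.singleton_subset_iff]
    exact RingHom.mem_ker.mp ha)
  rw [bot_sup_eq, hdef, add_zero, ringKrullDim_eq_of_ringEquiv (RingEquiv.quotientBot B), ← heq] at h1
  have h2 := ringKrullDim_quotient_succ_le_of_nonZeroDivisor (R := A)
    (mem_nonZeroDivisors_of_ne_zero ha0)
  have h3 : ringKrullDim A + 1 ≤ ringKrullDim A := le_trans (by gcongr) h2
  have h4 : ringKrullDim A < ⊤ := ringKrullDim_lt_top
  have h5 : ringKrullDim A ≠ ⊥ := ringKrullDim_ne_bot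
  revert h3 h4 h5
  generalize ringKrullDim A = d
  intro h3 h4 h5
  induction d using WithBot.recBotCoe with
  | bot => exact h5 rfl
  | coe e =>
    induction e using ENat.recTopCoe with
    | top => exact h4.ne rfl
    | coe m =>
      have h3' : (((m + 1 : ℕ) : ℕ∞) : WithBot ℕ∞) ≤ ((m : ℕ∞) : WithBot ℕ∞) := by
        simpa using h3
      norm_cast at h3'
      omega


end Groth.Agent.S5771
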