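import Groth.Statements.S5772
import Mathlib
import Groth.Agent.H05EGA4.DimLocal

set_option autoImplicit false
set_option maxHeartbeats 400000
universe u
open scoped Pointwise
open EGA41

open IsLocalRing TensorProduct Groth.Agent.H05EGA4
open scoped Pointwise

namespace Groth.Agent.S5772

/-- Let A be a Noetherian ring, M a finitely generated A-module and f an element of A. Then f is
M-regular (multiplication by f on M is injective) if and only if f is M-quasi-regular, i.e. the
canonical surjection (M/fM)[T] → gr(M) for the (f)-adic filtration is bijective, which amounts to: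
for every k ≥ 0 and x ∈ M, f^k x ∈ f^(k+1) M implies x ∈ fM. -/
theorem result (A : Type u) [CommRing A] [IsNoetherianRing A] (M : Type u)
    [AddCommGroup M] [Module A M] [Module.Finite A M] (f : A) :
    IsSMulRegular M f ↔
      ∀ (k : ℕ) (x : M), f ^ k • x ∈ f ^ (k + 1) • (⊤ : Submodule A M) → x ∈ f • (⊤ : Submodule A M) := by
  constructor
  · intro h k x hx
    obtain ⟨y, -, hy⟩ := (Submodule.mem_smul_pointwise_iff_exists _ _ _).mp hx
    rw [pow_succ, mul_smul] at hy
    exact (Submodule.mem_smul_pointwise_iff_exists _ _ _).mpr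
      ⟨y, trivial, (h.pow k) hy⟩
  · intro h
    rw [isSMulRegular_iff_right_eq_zero_of_smul]
    intro x hx
    have hk : ∀ k : ℕ, ∃ y, f ^ k • y = x := by
      intro k
      induction k with
      | zero => exact ⟨x, by simp⟩
      | succ k ih =>
        obtain ⟨y, hy⟩ := ih
        have h0 : f ^ (k + 1) • y = 0 := by rw [pow_succ', mul_smul, hy, hx]
        obtain ⟨z, -, hz⟩ := (Submodule.mem_smul_pointwise_iff_exists _ _ _).mp
          (h (k + 1) y (h0 ▸ Submodule.zero_mem _))
        exact ⟨z, by rw [pow_succ, mul_smul, hz, hy]⟩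
    have hmem : x ∈ ⨅ i : ℕ, Ideal.span {f} ^ i • (⊤ : Submodule A M) := by
      rw [Submodule.mem_iInf]
      intro i
      obtain ⟨y, hy⟩ := hk i
      rw [← hy, Ideal.span_singleton_pow]
      exact Submodule.smul_mem_smul (Ideal.mem_span_singleton_self _) trivial
    obtain ⟨r, hr⟩ := (Ideal.mem_iInf_smul_pow_eq_bot_iff _ x).mp hmem
    obtain ⟨c, hc⟩ := Ideal.mem_span_singleton.mp r.2
    rw [← hr, hc, mul_comm, mul_smul, hx, smul_zero]


end Groth.Agent.S5772
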