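import Groth.Statements.S5775
import Mathlib
import Groth.Agent.H05EGA4.FlatRegular

set_option autoImplicit false
set_option maxHeartbeats 400000
universe u
open EGA41

open IsLocalRing TensorProduct RingTheory.Sequence Groth.Agent.H05EGA4
open scoped Pointwise

namespace Groth.Agent.S5775

/-- Let A → B be a local homomorphism of Noetherian local rings, m the maximal ideal of A, M a finitely
generated B-module flat over A and R a B-submodule of M such that M/R is flat over A. Let f_1, ...,
f_n be elements of the maximal ideal of B such that (i) f_i M ⊆ R for all i, (ii) the images of the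
f_i form an (M/mM)-regular sequence, and (iii) the submodule f_1 (M/mM) + ... + f_n (M/mM) is the
image of R in M/mM. Then (f_i) is an M-regular sequence and R = f_1 M + ... + f_n M. -/
theorem result (A B : Type u) [CommRing A] [CommRing B] [IsLocalRing A]
    [IsLocalRing B] [IsNoetherianRing A] [IsNoetherianRing B] [Algebra A B] [IsLocalHom (algebraMap A B)]
    (M : Type u) [AddCommGroup M] [Module B M] [Module A M] [IsScalarTower A B M] [Module.Finite B M]
    [Module.Flat A M] (R : Submodule B M) (hR : Module.Flat A (M ⧸ R)) (fs : List B)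
    (hfs : ∀ f ∈ fs, f ∈ IsLocalRing.maximalIdeal B) (h1 : Ideal.ofList fs • (⊤ : Submodule B M) ≤ R)
    (h2 : RingTheory.Sequence.IsWeaklyRegular
      (M ⧸ ((IsLocalRing.maximalIdeal A).map (algebraMap A B) • (⊤ : Submodule B M))) fs)
    (h3 : Ideal.ofList fs • (⊤ : Submodule B
        (M ⧸ ((IsLocalRing.maximalIdeal A).map (algebraMap A B) • (⊤ : Submodule B M)))) =
      R.map ((IsLocalRing.maximalIdeal A).map (algebraMap A B) • (⊤ : Submodule B M)).mkQ) :
    RingTheory.Sequence.IsWeaklyRegular M fs ∧ R = Ideal.ofList fs • (⊤ : Submodule B M) := by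
  refine ⟨(isWeaklyRegular_and_flat_of_fibre fs M h2).1, le_antisymm ?_ h1⟩
  set 𝔐 := (maximalIdeal A).map (algebraMap A B) with h𝔐
  have hcap : ∀ r : R, (r : M) ∈ (𝔐 • ⊤ : Submodule B M) → r ∈ (𝔐 • ⊤ : Submodule B R) := by
    intro r hr
    rw [mem_map_smul_top_iff] at hr ⊢
    have hinj := LinearMap.lTensor_injective_of_exact_of_flat
      ((Submodule.mkQ R).restrictScalars A) (Submodule.mkQ_surjective R)
      (R.subtype.restrictScalars A) R.injective_subtype
      (fun x => by
        show Submodule.Quotient.mk x = 0 ↔ _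
        rw [Submodule.Quotient.mk_eq_zero]
        exact ⟨fun hx => ⟨⟨x, hx⟩, rfl⟩, fun ⟨y, hy⟩ => hy ▸ y.2⟩)
      (A ⧸ maximalIdeal A)
    have h4 := (injective_iff_map_eq_zero _).mp hinj ((1 : A ⧸ maximalIdeal A) ⊗ₜ r) (by
      rw [LinearMap.lTensor_tmul]
      apply (TensorProduct.quotTensorEquivQuotSMul M _).injective
      rw [map_zero, ← map_one (Ideal.Quotient.mk (maximalIdeal A)),
        TensorProduct.quotTensorEquivQuotSMul_mk_tmul, one_smul, Submodule.Quotient.mk_eq_zero]
      exact hr)
    have h5 := congr(TensorProduct.quotTensorEquivQuotSMul R (maximalIdeal A) $h4)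
    rwa [map_zero, ← map_one (Ideal.Quotient.mk (maximalIdeal A)),
      TensorProduct.quotTensorEquivQuotSMul_mk_tmul, one_smul, Submodule.Quotient.mk_eq_zero] at h5
  set P := Ideal.ofList fs • (⊤ : Submodule B M) with hP
  refine Submodule.le_of_le_smul_of_le_jacobson_bot (IsNoetherian.noetherian R)
    ((map_maximalIdeal_le (algebraMap A B)).trans (maximalIdeal_le_jacobson _)) (N := P) ?_
  intro r hr
  have hmem : (Submodule.mkQ (𝔐 • ⊤ : Submodule B M)) r ∈
      P.map (Submodule.mkQ (𝔐 • ⊤ : Submodule B M)) := by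
    rw [hP, Submodule.map_smul'', Submodule.map_top, Submodule.range_mkQ, h3]
    exact Submodule.mem_map_of_mem hr
  obtain ⟨p, hp, hpr⟩ := hmem
  have hd : r - p ∈ (𝔐 • ⊤ : Submodule B M) := (Submodule.Quotient.eq _).mp hpr.symm
  have h6 := hcap ⟨r - p, sub_mem hr (h1 hp)⟩ hd
  have h7 : r - p ∈ 𝔐 • R := by
    have := Submodule.mem_map_of_mem (f := R.subtype) h6
    rwa [Submodule.map_smul'', Submodule.map_subtype_top] at this
  exact Submodule.mem_sup.mpr ⟨p, hp, r - p, h7, by abel⟩


end Groth.Agent.S5775
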