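import Groth.Statements.S5780
import Mathlib
import Groth.Agent.H05EGA4.DimLocal

set_option autoImplicit false
set_option maxHeartbeats 400000
universe u
open EGA41

open IsLocalRing TensorProduct Groth.Agent.H05EGA4
open scoped Pointwise

namespace Groth.Agent.S5780

/-- Let A be a Noetherian local ring with maximal ideal m. If every element of m which is not in m² is a
zero divisor in A, then there is a nonzero c in A with c m = 0, i.e. m is an associated prime of A. -/
theorem result (A : Type u) [CommRing A]
    [IsLocalRing A] [IsNoetherianRing A]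
    (h : ∀ a ∈ IsLocalRing.maximalIdeal A, a ∉ IsLocalRing.maximalIdeal A ^ 2 → ¬ IsSMulRegular A a) :
    IsLocalRing.maximalIdeal A ∈ associatedPrimes A A := by
  classical
  have hfin : (associatedPrimes A A).Finite := associatedPrimes.finite A A
  let S : Finset (Option (Ideal A)) := insert none (hfin.toFinset.image some)
  let F : Option (Ideal A) → Ideal A := fun o => o.getD (maximalIdeal A ^ 2)
  have hsub : (maximalIdeal A : Set A) ⊆ ⋃ i ∈ (↑S : Set (Option (Ideal A))), F i := by
    intro a ha
    by_cases ha2 : a ∈ maximalIdeal A ^ 2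
    · exact Set.mem_biUnion (x := none) (by simp [S]) ha2
    · have : a ∈ ⋃ P ∈ associatedPrimes A A, (P : Set A) := by
        rw [biUnion_associatedPrimes_eq_compl_regular]; exact h a ha ha2
      obtain ⟨P, hP, haP⟩ := Set.mem_iUnion₂.mp this
      exact Set.mem_biUnion (x := some P) (by simp [S, hP]) haP
  obtain ⟨i, hi, hle⟩ := (Ideal.subset_union_prime none none (by
    intro i hi hne _
    simp only [S, Finset.mem_insert, hne, false_or, Finset.mem_image, Set.Finite.mem_toFinset] at hi
    obtain ⟨P, hP, rfl⟩ := hi
    exact hP.isPrime)).mp hsub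
  simp only [S, Finset.mem_insert, Finset.mem_image, Set.Finite.mem_toFinset] at hi
  rcases hi with rfl | ⟨P, hP, rfl⟩
  · have hle' : maximalIdeal A ≤ maximalIdeal A • maximalIdeal A := by
      simpa [F, pow_two] using hle
    have hbot : maximalIdeal A = ⊥ :=
      Submodule.eq_bot_of_le_smul_of_le_jacobson_bot _ _ (IsNoetherian.noetherian _) hle'
        (maximalIdeal_le_jacobson _)
    obtain ⟨P, hP⟩ := associatedPrimes.nonempty A A
    have : P = maximalIdeal A := le_antisymm (le_maximalIdeal hP.isPrime.ne_top) (hbot ▸ bot_le)
    exact this ▸ hP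
  · have : maximalIdeal A = P := le_antisymm hle (le_maximalIdeal hP.isPrime.ne_top)
    exact this ▸ hP


end Groth.Agent.S5780
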