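import Groth.Statements.S5781
import Groth.Agent.H05EGA4.Regular

set_option autoImplicit false
universe u
open EGA41

open CategoryTheory IsLocalRing Groth.Agent.H05EGA4

namespace Groth.Agent.S5781

/-- Suppose A is a Noetherian local ring whose maximal ideal is m, and take a ∈ m with a ∉ m². Then the
quotient m/am contains a direct summand isomorphic to m/Aa: concretely, one can find A-linear maps f
: m/Aa → m/am and g : m/am → m/Aa such that g ∘ f is the identity. -/
theorem result (A : Type u) [CommRing A] [IsLocalRing A]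
    [IsNoetherianRing A] (a : A) (ha : a ∈ IsLocalRing.maximalIdeal A) (ha2 : a ∉ IsLocalRing.maximalIdeal A ^ 2) :
    ∃ (f : (↥(IsLocalRing.maximalIdeal A) ⧸ Submodule.span A {(⟨a, ha⟩ : ↥(IsLocalRing.maximalIdeal A))}) →ₗ[A]
          QuotSMulTop a ↥(IsLocalRing.maximalIdeal A))
      (g : QuotSMulTop a ↥(IsLocalRing.maximalIdeal A) →ₗ[A]
          (↥(IsLocalRing.maximalIdeal A) ⧸ Submodule.span A {(⟨a, ha⟩ : ↥(IsLocalRing.maximalIdeal A))})),
      g.comp f = LinearMap.id := by
  exact exists_splitting a ha ha2


end Groth.Agent.S5781
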