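import Groth.Statements.S5783
import Mathlib
import Groth.Agent.H8Props.MiracleFlat
import Groth.Agent.H1CAlg.FlatDepthModule
import Groth.Agent.H4Depth.CM
import Groth.Agent.H05EGA4.IntegralDim

set_option autoImplicit false
universe u
open EGA41

open Groth.Agent IsLocalRing LocCoh
open scoped Pointwise TensorProduct

namespace Groth.Agent.S5783

/-- Let A be a regular local ring, B a local ring and ρ : A → B a local homomorphism making B a finitely
generated A-module. Then B is a free A-module if and only if B is a Cohen-Macaulay ring and ρ is
injective (the latter being equivalent to dim(B) = dim(A)). -/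
theorem result (A B : Type u) [CommRing A] [CommRing B]
    [IsRegularLocalRing A] [IsLocalRing B] [Algebra A B] [IsLocalHom (algebraMap A B)] [Module.Finite A B] :
    Module.Free A B ↔ LocCoh.IsCohenMacaulayLocalRing B ∧ Function.Injective (algebraMap A B) := by
  haveI : IsNoetherianRing B := isNoetherian_of_tower A inferInstance
  set J := (maximalIdeal A).map (algebraMap A B) with hJ
  haveI : Nontrivial (B ⧸ J) := Ideal.Quotient.nontrivial_iff.mpr
    (ne_top_of_le_ne_top (maximalIdeal.isMaximal B).ne_top (map_maximalIdeal_le _))
  haveI : IsArtinianRing (B ⧸ J) := by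
    haveI : Module.Finite (A ⧸ maximalIdeal A) (B ⧸ J) := Module.Finite.of_restrictScalars_finite A _ _
    letI := Ideal.Quotient.field (maximalIdeal A)
    exact isArtinian_of_tower (A ⧸ maximalIdeal A) inferInstance
  have hdim0 : ringKrullDim (B ⧸ J) = 0 := ringKrullDimZero_iff_ringKrullDim_eq_zero.mp inferInstance
  have hdimeq : Function.Injective (algebraMap A B) → ringKrullDim B = ringKrullDim A := fun h => by
    exact (H05EGA4.dim_int A B).2 h
  constructor
  · intro hfree
    have hinj : Function.Injective (algebraMap A B) := by
      haveI : Module.FaithfullyFlat A B := inferInstance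
      exact FaithfulSMul.algebraMap_injective A B
    refine ⟨?_, hinj⟩
    have hd : depth B B = depth A A := by
      rw [← H4Depth.depth_congr (TensorProduct.AlgebraTensorModule.rid A B B),
        H1CAlg.FlatDepthModule.depth_tensor]
      have e : (B ⧸ (maximalIdeal A).map (algebraMap A B) • (⊤ : Submodule B B)) ≃ₗ[B] B ⧸ J :=
        Submodule.quotEquivOfEq _ _ (by rw [smul_eq_mul, Ideal.mul_top])
      rw [H4Depth.depth_congr e]
      have h := H4Depth.depth_le_supportDim (R := B) (M := B ⧸ J)
      rw [Module.supportDim_quotient_eq_ringKrullDim, hdim0] at h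
      rw [show depth B (B ⧸ J) = 0 from le_antisymm (by exact_mod_cast h) zero_le, add_zero]
    have hA : IsCohenMacaulayLocalRing A := H4Depth.isCohenMacaulayLocalRing_of_regular A
    refine ⟨?_⟩
    rw [Module.supportDim_self_eq_ringKrullDim, hd, hdimeq hinj, ← Module.supportDim_self_eq_ringKrullDim]
    exact hA.supportDim_eq_depth
  · rintro ⟨hCM, hinj⟩
    haveI := hCM
    haveI : Module.Flat A B := H8Props.MiracleFlat.flat_of_regular_of_cohenMacaulay A B
      (by rw [← hJ, hdim0, add_zero, hdimeq hinj])
    exact Module.free_of_flat_of_isLocalRing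

end Groth.Agent.S5783
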