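import Groth.Statements.S5795
import Groth.Agent.H28Top.Dim

set_option autoImplicit false
universe u
open TopDim

namespace Groth.Agent.S5795

/-- Let X be a Noetherian Kolmogoroff space and x a point of X. Then x is isolated in X if and only if
dim_x(X) = 0. -/
theorem result (X : Type u) [TopologicalSpace X]
    [TopologicalSpace.NoetherianSpace X] [T0Space X] (x : X) :
    IsOpen ({x} : Set X) ↔ FlatMor.localDim X x = 0 := by
  constructor
  · intro h
    refine le_antisymm ((Groth.Agent.H28Top.localDim_le x (U := ⟨{x}, h⟩) rfl).trans ?_) (le_iInf fun U => ?_)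
    · haveI : DiscreteTopology (({x} : Set X)) := inferInstance
      exact topologicalKrullDim_zero_of_discreteTopology _
    · haveI : Nonempty (TopologicalSpace.IrreducibleCloseds (U.1 : Set X)) :=
        ⟨⟨closure {⟨x, U.2⟩}, isIrreducible_singleton.closure, isClosed_closure⟩⟩
      exact Order.krullDim_nonneg
  · intro h
    obtain ⟨U, hU, hUeq⟩ := Groth.Agent.H28Top.exists_localDim_eq x
    obtain ⟨-, hd⟩ := Groth.Agent.H28Top.finite_discrete_of_dim_le_zero (X := (U : Set X)) (hUeq.trans h).le
    have := U.isOpen.isOpenMap_subtype_val _ (isOpen_discrete ({⟨x, hU⟩} : Set (U : Set X)))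
    simpa using this

end Groth.Agent.S5795
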