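import Groth.Statements.S5798
import Groth.Agent.H28Top.Dim

set_option autoImplicit false
universe u
open TopDim

namespace Groth.Agent.S5798

/-- If (U_i) is an open covering of a topological space X, then dim(X) = sup_i dim(U_i). -/
theorem result (X : Type u) [TopologicalSpace X] (ι : Type u)
    (U : ι → TopologicalSpace.Opens X) (hcov : ⨆ i, U i = ⊤) :
    topologicalKrullDim X = ⨆ i, topologicalKrullDim (U i) := by
  refine le_antisymm (Groth.Agent.H28Top.dim_le_of_chains fun s => ?_)
    (iSup_le fun i => topologicalKrullDim_subspace_le X _)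
  obtain ⟨z, hz⟩ := s.head.isIrreducible.nonempty
  obtain ⟨i, hi⟩ := TopologicalSpace.Opens.mem_iSup.mp (show z ∈ ⨆ i, U i by rw [hcov]; trivial)
  exact le_iSup_of_le i (Groth.Agent.H28Top.chain_le_dim_of_isOpen s (U i).isOpen ⟨z, hz, hi⟩)

end Groth.Agent.S5798
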