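import Groth.Statements.S5799
import Groth.Agent.H28Top.Dim

set_option autoImplicit false
universe u
open TopDim

namespace Groth.Agent.S5799

/-- If (X_i) is a locally finite covering of a topological space X by closed subsets, then dim(X) =
sup_i dim(X_i). -/
theorem result (X : Type u) [TopologicalSpace X]
    (ι : Type u) (Y : ι → Set X) (hY : ∀ i, IsClosed (Y i)) (hlf : LocallyFinite Y) (hcov : ⋃ i, Y i = Set.univ) :
    topologicalKrullDim X = ⨆ i, topologicalKrullDim (Y i) := by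
  classical
  refine Groth.Agent.H28Top.dim_eq_iSup_of_subset Y fun Z => ?_
  obtain ⟨z, hz⟩ := Z.isIrreducible.nonempty
  obtain ⟨V, hV, hfin⟩ := hlf z
  obtain ⟨W, hWV, hWo, hzW⟩ := mem_nhds_iff.mp hV
  have hsub : (Z : Set X) ⊆ ⋃ i ∈ hfin.toFinset, Y i := by
    refine (subset_closure_inter_of_isPreirreducible_of_isOpen Z.isIrreducible.isPreirreducible hWo
      ⟨z, hz, hzW⟩).trans (closure_minimal ?_ (hfin.toFinset.finite_toSet.isClosed_biUnion fun i _ => hY i))
    rintro x ⟨-, hxW⟩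
    obtain ⟨i, hi⟩ := Set.mem_iUnion.mp (hcov.ge (Set.mem_univ x))
    exact Set.mem_biUnion (hfin.mem_toFinset.mpr ⟨x, hi, hWV hxW⟩) hi
  obtain ⟨C, hC, hZC⟩ := isIrreducible_iff_sUnion_isClosed.mp Z.isIrreducible (hfin.toFinset.image Y)
    (by simp only [Finset.mem_image]; rintro _ ⟨i, -, rfl⟩; exact hY i)
    (hsub.trans (by simp [Set.sUnion_image]))
  obtain ⟨i, -, rfl⟩ := Finset.mem_image.mp hC
  exact ⟨i, hZC⟩

end Groth.Agent.S5799
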