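import Groth.Statements.S5800
import Groth.Agent.H28Top.Dim

set_option autoImplicit false
universe u
open TopDim

namespace Groth.Agent.S5800

/-- Let X be a topological space, x a point of X and (Y_i) a finite family of closed subsets each
containing x whose union is X. Then dim_x(X) = sup_i dim_x(Y_i). (The published statement lets the
Y_i be closed subsets of a neighbourhood U of x covering U; this row is the case U = X.) -/
theorem result (X : Type u) [TopologicalSpace X] (x : X)
    (ι : Type u) [Finite ι] (Y : ι → Set X) (hY : ∀ i, IsClosed (Y i)) (hx : ∀ i, x ∈ Y i)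
    (hcov : ⋃ i, Y i = Set.univ) :
    FlatMor.localDim X x = ⨆ i, FlatMor.localDim (Y i) ⟨x, hx i⟩ := by
  refine le_antisymm ?_ (iSup_le fun i => ?_)
  · choose V hV hVeq using fun i => Groth.Agent.H28Top.exists_localDim_eq (⟨x, hx i⟩ : Y i)
    choose O hO hOV using fun i => isOpen_induced_iff.mp (V i).isOpen
    let U : TopologicalSpace.Opens X := ⟨⋂ i, O i, isOpen_iInter_of_finite hO⟩
    have hxU : x ∈ U := Set.mem_iInter.mpr fun i => show (⟨x, hx i⟩ : Y i) ∈ Subtype.val ⁻¹' O i from (hOV i).symm ▸ hV i
    refine (Groth.Agent.H28Top.localDim_le x hxU).trans ?_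
    rw [Groth.Agent.H28Top.dim_eq_iSup_of_finite_closed_cover (fun i => (Subtype.val ⁻¹' Y i : Set (U : Set X)))
      (fun i => (hY i).preimage continuous_subtype_val) (by rw [← Set.preimage_iUnion, hcov, Set.preimage_univ])]
    refine iSup_mono fun i => ?_
    rw [← hVeq i]
    let f : (Subtype.val ⁻¹' Y i : Set (U : Set X)) → (V i : Set (Y i)) := fun z =>
      ⟨⟨z.1.1, z.2⟩, show (⟨z.1.1, z.2⟩ : Y i) ∈ (V i : Set (Y i)) from hOV i ▸ Set.mem_iInter.mp z.1.2 i⟩
    refine Topology.IsInducing.topologicalKrullDim_le (f := f) ?_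
    have h1 : Topology.IsInducing (fun w : (V i : Set (Y i)) => w.1.1) :=
      Topology.IsInducing.subtypeVal.comp Topology.IsInducing.subtypeVal
    refine h1.of_comp_iff.mp ?_
    show Topology.IsInducing (Subtype.val ∘ Subtype.val)
    exact Topology.IsInducing.subtypeVal.comp Topology.IsInducing.subtypeVal
  · refine le_iInf fun U => ?_
    refine iInf_le_of_le ⟨⟨Subtype.val ⁻¹' (U.1 : Set X), U.1.isOpen.preimage continuous_subtype_val⟩, U.2⟩ ?_
    let f : (Subtype.val ⁻¹' (U.1 : Set X) : Set (Y i)) → (U.1 : Set X) := fun z => ⟨z.1.1, z.2⟩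
    refine Topology.IsInducing.topologicalKrullDim_le (f := f) ?_
    refine Topology.IsInducing.subtypeVal.of_comp_iff.mp ?_
    show Topology.IsInducing (Subtype.val ∘ Subtype.val)
    exact Topology.IsInducing.subtypeVal.comp Topology.IsInducing.subtypeVal

end Groth.Agent.S5800
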