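import Groth.Statements.S5806
import Mathlib
import Groth.Agent.H05EGA4.FlatRegular

set_option autoImplicit false
set_option maxHeartbeats 400000
universe u
open EGA41

open IsLocalRing TensorProduct RingTheory.Sequence Groth.Agent.H05EGA4
open scoped Pointwise

namespace Groth.Agent.S5806

open TensorProduct in
/-- Let A be a ring, B a commutative A-algebra, (f_i)_{1 ≤ i ≤ n} elements of B and M a B-module.
Suppose (f_i) is M-regular and each of the A-modules M/(f_1 M + ... + f_i M), 0 ≤ i ≤ n, is flat.
Then for every ring homomorphism A → A', writing M' = M ⊗_A A' and f'_i = f_i ⊗ 1, the sequence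
(f'_i) is M'-regular and the A'-modules M'/(f'_1 M' + ... + f'_{i-1} M') are flat: concretely,
identifying M'/(f'_1 M' + ... + f'_{i-1} M') with A' ⊗_A (M/(f_1 M + ... + f_{i-1} M)),
multiplication by f_i on the latter is injective and the latter is A'-flat, for 1 ≤ i ≤ n. (The
published hypothesis lists only the flatness of M/(f_1 M + ... + f_{i-1} M) for 1 ≤ i ≤ n, omitting
M/(f_1 M + ... + f_n M); with that omission the case n = 1, A = B = k[t], M = k[t], f_1 = t, A' =
k[t]/(t) fails, since t acts as zero on k ⊗_A M = k, and the published proof uses the flatness of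
M/(f_1 M + ... + f_i M) for every i ≤ n; so flatness of all these quotients is assumed here.) -/
theorem result (A B : Type u) [CommRing A]
    [CommRing B] [Algebra A B] (M : Type u) [AddCommGroup M] [Module B M] [Module A M] [IsScalarTower A B M]
    (fs : List B) (hreg : RingTheory.Sequence.IsWeaklyRegular M fs)
    (hflat : ∀ i : ℕ, i ≤ fs.length → Module.Flat A (M ⧸ (Ideal.ofList (fs.take i) • (⊤ : Submodule B M))))
    (A' : Type u) [CommRing A'] [Algebra A A'] (i : Fin fs.length) :
    Function.Injective (LinearMap.lTensor A'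
        (((LinearMap.lsmul B (M ⧸ (Ideal.ofList (fs.take i) • (⊤ : Submodule B M)))) (fs.get i)).restrictScalars A)) ∧
      Module.Flat A' (A' ⊗[A] (M ⧸ (Ideal.ofList (fs.take i) • (⊤ : Submodule B M)))) := by
  have := hflat i i.2.le
  refine ⟨?_, inferInstance⟩
  have hr : IsSMulRegular (M ⧸ (Ideal.ofList (fs.take i) • (⊤ : Submodule B M))) (fs.get i) :=
    ((isWeaklyRegular_iff_Fin _ _).mp hreg) i
  have := hflat (i + 1) i.2
  have heq : Ideal.ofList (fs.take (i + 1)) = Ideal.ofList (fs.get i :: fs.take i) := by
    rw [List.take_succ_eq_append_getElem i.2, Ideal.ofList_append, Ideal.ofList_singleton,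
      Ideal.ofList_cons, sup_comm]
    rfl
  let e := (Submodule.quotEquivOfEq _ _ (congrArg (· • (⊤ : Submodule B M)) heq) ≪≫ₗ
    Submodule.quotOfListConsSMulTopEquivQuotSMulTopOuter M (fs.get i) (fs.take i)).restrictScalars A
  have := Module.Flat.of_linearEquiv e.symm
  have hqs : Function.Surjective ((Submodule.mkQ (fs.get i • (⊤ : Submodule B
      (M ⧸ (Ideal.ofList (fs.take i) • (⊤ : Submodule B M)))))).restrictScalars A) :=
    fun y => Submodule.Quotient.mk_surjective _ y
  refine LinearMap.lTensor_injective_of_exact_of_flat _ hqs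
    (((LinearMap.lsmul B (M ⧸ (Ideal.ofList (fs.take i) • (⊤ : Submodule B M)))) (fs.get i)).restrictScalars A)
    hr ?_ A'
  intro y
  show Submodule.Quotient.mk y = 0 ↔ _
  rw [Submodule.Quotient.mk_eq_zero, Submodule.mem_smul_pointwise_iff_exists]
  exact ⟨fun ⟨z, _, hz⟩ => ⟨z, hz⟩, fun ⟨z, hz⟩ => ⟨z, trivial, hz⟩⟩


end Groth.Agent.S5806
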