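import Groth.Statements.S5807
import Groth.Agent.H05EGA4.Regular
import Mathlib.RingTheory.RegularLocalRing.Polynomial
import Mathlib.RingTheory.FiniteType
import Mathlib.RingTheory.Localization.Defs

set_option autoImplicit false
universe u
open EGA41

open CategoryTheory IsLocalRing Groth.Agent.H05EGA4

namespace Groth.Agent.S5807

/-- Let A be a Noetherian ring which is a quotient of a regular ring B, and C an A-algebra of finite
type. Then every ring of fractions of C is a quotient of a regular ring. -/
theorem result (B A C : Type u) [CommRing B]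
    [IsRegularRing B] [CommRing A] (π : B →+* A) (hπ : Function.Surjective π) [CommRing C] [Algebra A C]
    [Algebra.FiniteType A C] (S : Submonoid C) :
    ∃ (R : Type u) (_ : CommRing R) (_ : IsRegularRing R) (f : R →+* Localization S),
      Function.Surjective f := by
  obtain ⟨n, φ, hφ⟩ := Algebra.FiniteType.iff_quotient_mvPolynomial''.1 ‹Algebra.FiniteType A C›
  let ψ : MvPolynomial (Fin n) B →+* C := φ.toRingHom.comp (MvPolynomial.map π)
  have hψ : Function.Surjective ψ := hφ.comp (MvPolynomial.map_surjective π hπ)
  refine ⟨Localization (S.comap ψ.toMonoidHom), inferInstance, isRegularRing_of_isLocalization (S.comap ψ.toMonoidHom) _,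
    IsLocalization.map (M := S.comap ψ.toMonoidHom) (T := S) (Localization S) ψ le_rfl, ?_⟩
  intro y
  obtain ⟨⟨c, s⟩, rfl⟩ := IsLocalization.mk'_surjective S y
  obtain ⟨c', rfl⟩ := hψ c
  obtain ⟨s', hs'⟩ := hψ s
  refine ⟨IsLocalization.mk' _ c' (⟨s', show ψ s' ∈ S by rw [hs']; exact s.2⟩ : S.comap ψ.toMonoidHom), ?_⟩
  refine (IsLocalization.map_mk' (T := S) _ _ _).trans ?_
  show IsLocalization.mk' (Localization S) (ψ c') _ = IsLocalization.mk' (Localization S) (ψ c') s
  exact congrArg _ (Subtype.ext hs')


end Groth.Agent.S5807
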