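import Groth.Statements.S5808
import Groth.Agent.H05EGA4.SamuelParams
import Groth.Agent.H05EGA4.DepthMisc

set_option autoImplicit false
universe u
open EGA41

open Groth.Agent Groth.Agent.H05EGA4 IsLocalRing
open scoped Pointwise

namespace Groth.Agent.S5808

/-- Let A be a semi-local Noetherian ring with spectrum X and Jacobson radical r, and a an ideal of A
distinct from A with codim(V(a), X) = h > 0 (h is the height of a). Then there exist h elements x_1,
..., x_h of a which are part of a system of parameters of A (so lie in r and can be completed by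
elements of r to dim(A) elements generating an ideal modulo which A has finite length) and such that
codim(V(a), V(x_1 A + ... + x_h A)) = 0, i.e. the image of a in A/(x_1 A + ... + x_h A) has height
0. -/
theorem result (A : Type u) [CommRing A] [IsNoetherianRing A]
    [Finite (MaximalSpectrum A)] (a : Ideal A) (ha : a ≠ ⊤) (h : ℕ) (hh : a.height = h) (hpos : 0 < h) :
    ∃ x : Fin h → A, (∀ i, x i ∈ a) ∧ (∀ i, x i ∈ Ring.jacobson A) ∧
      (∃ ys : List A, (∀ y ∈ ys, y ∈ Ring.jacobson A) ∧
        (((h + ys.length : ℕ) : ℕ∞) : WithBot ℕ∞) = ringKrullDim A ∧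
        IsFiniteLength A (A ⧸ (Ideal.span (Set.range x) ⊔ Ideal.ofList ys))) ∧
      (a.map (Ideal.Quotient.mk (Ideal.span (Set.range x)))).height = 0 := by
  haveI : Nontrivial A := ⟨⟨0, 1, fun h01 => ha ((Ideal.eq_top_iff_one a).mpr (h01 ▸ zero_mem a))⟩⟩
  obtain ⟨d, hd⟩ := Samuel.exists_nat_supportDim (A := A) A
  rw [Module.supportDim_self_eq_ringKrullDim] at hd
  have hd0 : Module.supportDim A (A ⧸ (⊥ : Ideal A)) ≤ d := by
    rw [Module.supportDim_quotient_eq_ringKrullDim, ringKrullDim_eq_of_ringEquiv (RingEquiv.quotientBot A), hd]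
  have hhd : h ≤ d := by
    have := Ideal.height_le_ringKrullDim_of_ne_top ha
    rw [hh, hd] at this
    exact_mod_cast this
  obtain ⟨x, hx, hdim, hP⟩ := Samuel.exists_parameters_in_ideal a hh.ge hd0 hhd h le_rfl
  obtain ⟨ys, hys, hy, hfin⟩ := Samuel.exists_parameters_list (A := A) (A ⧸ Ideal.span (Set.range x)) hdim
  refine ⟨x, fun i => (hx i).1, fun i => (hx i).2, ⟨ys, hy, ?_, ?_⟩, ?_⟩
  · let I := Ideal.span (Set.range x)
    let e1 : (A ⧸ (I • (⊤ : Submodule A A))) ≃ₗ[A] (A ⧸ I) := Submodule.quotEquivOfEq _ _ (by rw [smul_eq_mul, Ideal.mul_top])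
    have hfin' : Module.length A (A ⧸ ((I ⊔ Ideal.ofList ys) • (⊤ : Submodule A A))) ≠ ⊤ := by
      rw [← (Samuel.quotSupEquiv I (Ideal.ofList ys)).length_eq]
      refine ne_top_of_le_ne_top hfin (le_of_eq ?_)
      refine (Submodule.Quotient.equiv _ _ e1 ?_).length_eq
      rw [Submodule.map_smul'', Submodule.map_top, LinearEquiv.range]
    have hlist : Ideal.ofList (List.ofFn x ++ ys) = I ⊔ Ideal.ofList ys := by
      rw [Ideal.ofList_append]
      congr 1
      rw [Ideal.ofList]
      congr 1
      ext b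
      simp [List.mem_ofFn]
    rw [← hlist] at hfin'
    have h1 := Samuel.supportDim_le_of_list (A := A) A (fun z hz => (List.mem_append.mp hz).elim
      (fun h => by obtain ⟨i, rfl⟩ := List.mem_ofFn.mp h; exact (hx i).2) (hy z)) hfin'
    rw [Module.supportDim_self_eq_ringKrullDim, hd, List.length_append, List.length_ofFn] at h1
    have h2 : d ≤ h + ys.length := by exact_mod_cast h1
    rw [hd]
    exact_mod_cast (show h + ys.length = d by omega)
  · let I := Ideal.span (Set.range x)
    have hJ : (Ideal.ofList ys • (⊤ : Submodule A (A ⧸ I))) = Submodule.map (Submodule.mkQ I) (Ideal.ofList ys) := by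
      conv_rhs => rw [show Ideal.ofList ys = Ideal.ofList ys • (⊤ : Submodule A A) by rw [smul_eq_mul, Ideal.mul_top],
        Submodule.map_smul'', Submodule.map_top, Submodule.range_mkQ]
    refine Module.length_ne_top_iff.mp (ne_top_of_le_ne_top hfin (le_of_eq ?_))
    exact ((Submodule.quotEquivOfEq _ _ hJ).trans
      (Submodule.quotientQuotientEquivQuotientSup I (Ideal.ofList ys))).length_eq.symm
  · obtain ⟨q, hq, hqh⟩ : ∃ q ∈ a.minimalPrimes, q.height = h := by
      rw [Ideal.height_eq_inf_minimalPrimes] at hh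
      obtain ⟨q₀, hq₀⟩ := Ideal.nonempty_minimalPrimes ha
      haveI : Nonempty a.minimalPrimes := ⟨⟨q₀, hq₀⟩⟩
      obtain ⟨q, hq⟩ := ciInf_mem (fun q : a.minimalPrimes => q.1.height)
      refine ⟨q.1, q.2, ?_⟩
      refine hq.trans ?_
      rw [← hh, iInf_subtype]
    haveI := hq.isPrime
    have hIq : Ideal.span (Set.range x) ≤ q := Ideal.span_le.mpr (by rintro _ ⟨i, rfl⟩; exact hq.1.2 (hx i).1)
    refine le_antisymm ?_ zero_le
    haveI : (q.map (Ideal.Quotient.mk (Ideal.span (Set.range x)))).IsPrime :=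
      Ideal.map_isPrime_of_surjective Ideal.Quotient.mk_surjective (by rw [Ideal.mk_ker]; exact hIq)
    refine (Ideal.height_mono (Ideal.map_mono hq.1.2)).trans (le_of_eq (Ideal.height_eq_zero_iff.mpr ?_))
    refine ⟨⟨inferInstance, bot_le⟩, fun r hr hrq => ?_⟩
    haveI := hr.1
    have h1 : r.comap (Ideal.Quotient.mk _) ≤ q := by
      refine (Ideal.comap_mono hrq).trans ?_
      rw [Ideal.comap_map_of_surjective' _ Ideal.Quotient.mk_surjective, Ideal.mk_ker, sup_eq_left.mpr hIq]
    rcases eq_or_lt_of_le h1 with h2 | h2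
    · rw [← h2, Ideal.map_comap_of_surjective _ Ideal.Quotient.mk_surjective]
    · exfalso
      have hnm : ¬ (r.comap (Ideal.Quotient.mk _)).IsMaximal := fun hm =>
        hq.isPrime.ne_top (hm.1.2 q h2)
      have h3 := hP _ inferInstance hnm (fun y hy => by
        rw [Ideal.mem_comap, Ideal.Quotient.eq_zero_iff_mem.mpr hy]
        exact zero_mem r)
      have h4 := Ideal.height_add_one_le_of_lt_of_isPrime h2
      rw [hqh] at h4
      have h5 : ((h + 1 : ℕ) : ℕ∞) ≤ (h : ℕ∞) := by
        rw [Nat.cast_succ]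
        exact (add_le_add h3 le_rfl).trans h4
      have h6 : h + 1 ≤ h := by exact_mod_cast h5
      omega

end Groth.Agent.S5808
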