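import Groth.Statements.S5810
import Mathlib
import Groth.Agent.H24Adic.CompletionNoetherian
import Groth.Agent.H1CAlg.FlatDepthModule
import Groth.Agent.H4Depth.DepthLemmas

set_option autoImplicit false
universe u
open EGA41

open Groth.Agent IsLocalRing LocCoh
open scoped TensorProduct Pointwise

namespace Groth.Agent.S5810

/-- Let A be a Noetherian local ring with maximal ideal m and M a finitely generated A-module; write Â
and M̂ for the m-adic completions. Then prof_A(M) = prof_Â(M̂). -/
theorem result (A : Type u) [CommRing A] [IsLocalRing A] [IsNoetherianRing A] (M : Type u)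
    [AddCommGroup M] [Module A M] [Module.Finite A M] :
    LocCoh.depth (AdicCompletion (IsLocalRing.maximalIdeal A) A) (AdicCompletion (IsLocalRing.maximalIdeal A) M) =
      LocCoh.depth A M := by
  have hfg : (maximalIdeal A).FG := IsNoetherian.noetherian _
  haveI : IsLocalRing (AdicCompletion (maximalIdeal A) A) := AdicCompletion.isLocalRing_of_fg hfg
  haveI := H24Adic.isNoetherianRing_adicCompletion (maximalIdeal A)
  haveI : Module.Flat A (AdicCompletion (maximalIdeal A) A) := AdicCompletion.flat_of_isNoetherian _
  have hmax : maximalIdeal (AdicCompletion (maximalIdeal A) A) =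
      (maximalIdeal A).map (algebraMap A (AdicCompletion (maximalIdeal A) A)) :=
    AdicCompletion.maximalIdeal_eq_map_of_fg hfg
  haveI : IsLocalHom (algebraMap A (AdicCompletion (maximalIdeal A) A)) :=
    ((IsLocalRing.local_hom_TFAE _).out 2 0).mp hmax.ge
  rw [← H4Depth.depth_congr (AdicCompletion.ofTensorProductEquivOfFiniteNoetherian (maximalIdeal A) M),
    H1CAlg.FlatDepthModule.depth_tensor]
  haveI : Nontrivial (AdicCompletion (maximalIdeal A) A ⧸ (maximalIdeal A).map (algebraMap A (AdicCompletion (maximalIdeal A) A)) •
      (⊤ : Submodule (AdicCompletion (maximalIdeal A) A) (AdicCompletion (maximalIdeal A) A))) :=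
    Submodule.Quotient.nontrivial_iff.mpr (H1CAlg.FlatDepthModule.smul_top_ne_top hmax.ge)
  have h0 : depth (AdicCompletion (maximalIdeal A) A)
      (AdicCompletion (maximalIdeal A) A ⧸ (maximalIdeal A).map (algebraMap A (AdicCompletion (maximalIdeal A) A)) •
        (⊤ : Submodule (AdicCompletion (maximalIdeal A) A) (AdicCompletion (maximalIdeal A) A))) = 0 := by
    refine (H4Depth.idealDepth_eq_zero_iff (H1CAlg.FlatDepthModule.smul_top_ne_top le_rfl)).mpr fun y hy hreg => ?_
    obtain ⟨z, hz⟩ := exists_ne (0 : AdicCompletion (maximalIdeal A) A ⧸ (maximalIdeal A).map (algebraMap A (AdicCompletion (maximalIdeal A) A)) •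
      (⊤ : Submodule (AdicCompletion (maximalIdeal A) A) (AdicCompletion (maximalIdeal A) A)))
    refine hz (hreg ?_)
    obtain ⟨z, rfl⟩ := Submodule.Quotient.mk_surjective _ z
    simp only [smul_zero, ← Submodule.Quotient.mk_smul, Submodule.Quotient.mk_eq_zero]
    exact Submodule.smul_mem_smul (hmax ▸ hy) trivial
  rw [h0, add_zero]

end Groth.Agent.S5810
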