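import Groth.Statements.S5813
import Groth.Agent.H05EGA4.ExalBasic

set_option autoImplicit false
universe u
open EGA41

open Groth.Agent.H05EGA4
namespace Groth.Agent.S5813

/-- Injectivity, commutative form. Let J be an ideal of the commutative ring B, C = B ⧸ J, M a C-module.
Two B-extensions of C by M whose induced linear maps J/J² → M (obtained from the restriction to J of
the structure map B → E) coincide are equivalent. -/
theorem result {B : Type u} [CommRing B] (J : Ideal B)
    {M : Type u} [AddCommGroup M] [Module (B ⧸ J) M] [Module B M] [IsScalarTower B (B ⧸ J) M]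
    (X Y : Exal.Ext B (B ⧸ J) M) (h : X.conormalMap J = Y.conormalMap J) :
    Nonempty (X.Equiv Y) := by
  open ExalBasic in
  have key : ∀ Z : Exal.Ext B (B ⧸ J) M, ∀ z : J, Z.incl (Z.conormalMap J (J.toCotangent z)) = algebraMap B Z.E z :=
    fun Z z => Z.incl_kerLift _ (Z.proj_algebraMap_eq_zero J z)
  have hrep : ∀ x : X.E, ∃ (b : B) (m : M), x = algebraMap B X.E b + X.incl m := fun x => by
    obtain ⟨b, hb⟩ := Ideal.Quotient.mk_surjective (X.proj x)
    obtain ⟨m, hm⟩ := (X.isExtension.exact (x - algebraMap B X.E b)).mp (by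
      rw [map_sub, AlgHom.commutes, Ideal.Quotient.algebraMap_eq, hb, sub_self])
    exact ⟨b, m, by rw [hm, add_sub_cancel]⟩
  choose β μ hβ using hrep
  let g : X.E → Y.E := fun x => algebraMap B Y.E (β x) + Y.incl (μ x)
  have hg : ∀ (x : X.E) (b : B) (m : M), x = algebraMap B X.E b + X.incl m → g x = algebraMap B Y.E b + Y.incl m := by
    intro x b m hx
    have h1 : algebraMap B X.E b + X.incl m = algebraMap B X.E (β x) + X.incl (μ x) := hx.symm.trans (hβ x)
    have hj : b - β x ∈ J := by
      have h2 := congrArg X.proj h1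
      rw [map_add, map_add, proj_incl, proj_incl, add_zero, add_zero, AlgHom.commutes, AlgHom.commutes] at h2
      exact Ideal.Quotient.eq.mp h2
    have h3 : μ x = X.conormalMap J (J.toCotangent ⟨_, hj⟩) + m := X.isExtension.incl_injective (by
      rw [map_add, key X, map_sub]
      linear_combination -h1)
    show algebraMap B Y.E (β x) + Y.incl (μ x) = _
    rw [h3, h, map_add, key Y, map_sub]
    ring
  let f : X.E →ₐ[B] Y.E :=
    { toFun := g
      map_one' := (hg 1 1 0 (by simp)).trans (by simp)
      map_mul' := fun x y => by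
        have hx := hg x _ _ (hβ x)
        have hy := hg y _ _ (hβ y)
        rw [hx, hy, hg (x * y) (β x * β y) (algebraMap B (B ⧸ J) (β x) • μ y + algebraMap B (B ⧸ J) (β y) • μ x) ?_]
        · rw [map_mul, map_add, incl_smul Y (Y.proj.commutes (β x)), incl_smul Y (Y.proj.commutes (β y))]
          linear_combination (-1 : Y.E) * incl_mul_incl Y (μ x) (μ y)
        · conv_lhs => rw [hβ x, hβ y]
          rw [map_mul, map_add, incl_smul X (X.proj.commutes (β x)), incl_smul X (X.proj.commutes (β y))]
          linear_combination incl_mul_incl X (μ x) (μ y)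
      map_zero' := (hg 0 0 0 (by simp)).trans (by simp)
      map_add' := fun x y => by
        rw [hg x _ _ (hβ x), hg y _ _ (hβ y), hg (x + y) (β x + β y) (μ x + μ y) ?_]
        · rw [map_add, map_add]; ring
        · conv_lhs => rw [hβ x, hβ y]
          rw [map_add, map_add]; ring
      commutes' := fun b => (hg _ b 0 (by simp)).trans (by simp) }
  obtain ⟨e, -⟩ := equiv_of_hom (X := X) (Y := Y) f (fun x => by
      show Y.proj (g x) = X.proj x
      conv_rhs => rw [hβ x]
      rw [hg x _ _ (hβ x), map_add, map_add, proj_incl, proj_incl, AlgHom.commutes, AlgHom.commutes])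
    (fun z => (hg _ 0 z (by simp)).trans (by simp))
  exact ⟨e⟩

end Groth.Agent.S5813
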