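import Groth.Statements.S5814
import Groth.Agent.H05EGA4.ExalBasic

set_option autoImplicit false
universe u
open EGA41

open Groth.Agent.H05EGA4
attribute [local instance] Exal.opModule Exal.isCentralScalar_opModule
namespace Groth.Agent.S5814

/-- Surjectivity, commutative form. Let J be an ideal of the commutative ring B, C = B ⧸ J, M a
C-module. Every linear map w : J/J² → M arises from a B-extension of C by M: there is an extension
whose induced map J/J² → M is w. Together with the injectivity statement this is the canonical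
bijection between Hom_C(J/J², M) and the classes of B-extensions of C by M. -/
theorem result {B : Type u} [CommRing B] (J : Ideal B)
    {M : Type u} [AddCommGroup M] [Module (B ⧸ J) M] [Module B M] [IsScalarTower B (B ⧸ J) M]
    (w : J.Cotangent →ₗ[B] M) :
    ∃ X : Exal.Ext B (B ⧸ J) M, X.conormalMap J = w := by
  classical
  open ExalBasic in
  have hact : ∀ (b : B), b ∈ J → ∀ m : M, b • m = 0 := fun b hb m => by
    rw [← IsScalarTower.algebraMap_smul (B ⧸ J) b, Ideal.Quotient.algebraMap_eq, Ideal.Quotient.eq_zero_iff_mem.2 hb, zero_smul]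
  letI : CommRing (TrivSqZeroExt B M) := inferInstance
  let N : Ideal (TrivSqZeroExt B M) :=
    { carrier := {t | ∃ j : J, TrivSqZeroExt.fst t = j ∧ TrivSqZeroExt.snd t = -w (J.toCotangent j)}
      add_mem' := by
        rintro s t ⟨i, h1, h2⟩ ⟨j, h3, h4⟩
        exact ⟨i + j, by rw [TrivSqZeroExt.fst_add, h1, h3, Submodule.coe_add],
          by rw [TrivSqZeroExt.snd_add, h2, h4, map_add, map_add, neg_add]⟩
      zero_mem' := ⟨0, by simp, by simp⟩
      smul_mem' := by
        rintro r t ⟨j, h1, h2⟩
        refine ⟨TrivSqZeroExt.fst r • j, ?_, ?_⟩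
        · rw [smul_eq_mul, TrivSqZeroExt.fst_mul, h1]; rfl
        · rw [smul_eq_mul, TrivSqZeroExt.snd_mul, h1, h2, op_smul_eq_smul, hact _ j.2, add_zero, smul_neg, map_smul, map_smul] }
  let q : TrivSqZeroExt B M →+* TrivSqZeroExt B M ⧸ N := Ideal.Quotient.mk N
  let al : B →+* TrivSqZeroExt B M ⧸ N := q.comp (TrivSqZeroExt.inlHom B M)
  letI : Algebra B (TrivSqZeroExt B M ⧸ N) := al.toAlgebra
  let ft : TrivSqZeroExt B M →+* B ⧸ J :=
    (Ideal.Quotient.mk J).comp
      { toFun := fun t => TrivSqZeroExt.fst t
        map_one' := TrivSqZeroExt.fst_one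
        map_mul' := TrivSqZeroExt.fst_mul
        map_zero' := TrivSqZeroExt.fst_zero
        map_add' := TrivSqZeroExt.fst_add }
  let p : TrivSqZeroExt B M ⧸ N →+* B ⧸ J := Ideal.Quotient.lift N ft (by
    rintro t ⟨j, h1, -⟩
    show Ideal.Quotient.mk J (TrivSqZeroExt.fst t) = 0
    rw [h1, Ideal.Quotient.eq_zero_iff_mem]; exact j.2)
  let X : Exal.Ext B (B ⧸ J) M :=
    { E := TrivSqZeroExt B M ⧸ N
      proj := { p with commutes' := fun b => rfl }
      incl :=
        { toFun := fun m => q (TrivSqZeroExt.inr m)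
          map_zero' := by rw [TrivSqZeroExt.inr_zero, map_zero]
          map_add' := fun a b => by rw [TrivSqZeroExt.inr_add, map_add] }
      isExtension :=
        { proj_surjective := fun c => by
            obtain ⟨b, rfl⟩ := Ideal.Quotient.mk_surjective c
            exact ⟨q (TrivSqZeroExt.inl b), rfl⟩
          incl_injective := fun a b h => by
            obtain ⟨j, h1, h2⟩ := Ideal.Quotient.eq.mp h
            rw [TrivSqZeroExt.fst_sub, TrivSqZeroExt.fst_inr, TrivSqZeroExt.fst_inr, sub_zero] at h1
            have hj : j = 0 := Subtype.ext h1.symm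
            rw [TrivSqZeroExt.snd_sub, TrivSqZeroExt.snd_inr, TrivSqZeroExt.snd_inr, hj, map_zero, map_zero, neg_zero] at h2
            exact sub_eq_zero.mp h2
          exact := fun x => by
            obtain ⟨t, rfl⟩ := Ideal.Quotient.mk_surjective x
            constructor
            · intro ht
              have hj : TrivSqZeroExt.fst t ∈ J := Ideal.Quotient.eq_zero_iff_mem.mp ht
              refine ⟨TrivSqZeroExt.snd t + w (J.toCotangent ⟨_, hj⟩), Ideal.Quotient.eq.mpr ⟨-⟨_, hj⟩, ?_, ?_⟩⟩
              · simp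
              · simp only [TrivSqZeroExt.snd_sub, TrivSqZeroExt.snd_inr, map_neg]
                abel
            · rintro ⟨m, hm⟩
              rw [← hm]
              show Ideal.Quotient.mk J (TrivSqZeroExt.fst (TrivSqZeroExt.inr m : TrivSqZeroExt B M)) = 0
              rw [TrivSqZeroExt.fst_inr, map_zero]
          mul_incl := fun x z => by
            obtain ⟨t, rfl⟩ := Ideal.Quotient.mk_surjective x
            show q t * q (TrivSqZeroExt.inr z) = q (TrivSqZeroExt.inr (Ideal.Quotient.mk J (TrivSqZeroExt.fst t) • z))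
            rw [← map_mul]
            refine congrArg q (TrivSqZeroExt.ext ?_ ?_)
            · rw [TrivSqZeroExt.fst_mul, TrivSqZeroExt.fst_inr, TrivSqZeroExt.fst_inr, mul_zero]
            · rw [TrivSqZeroExt.snd_mul, TrivSqZeroExt.fst_inr, TrivSqZeroExt.snd_inr, TrivSqZeroExt.snd_inr,
                ← Ideal.Quotient.algebraMap_eq, IsScalarTower.algebraMap_smul, MulOpposite.op_zero, zero_smul, add_zero] } }
  refine ⟨X, LinearMap.ext fun c => ?_⟩
  obtain ⟨j, rfl⟩ := J.toCotangent_surjective c
  apply X.isExtension.incl_injective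
  rw [show X.conormalMap J (J.toCotangent j) = X.idealToKer J j from rfl]
  refine (X.incl_kerLift _ (X.proj_algebraMap_eq_zero J j)).trans ?_
  show q (TrivSqZeroExt.inl (j : B)) = q (TrivSqZeroExt.inr (w (J.toCotangent j)))
  refine Ideal.Quotient.eq.mpr ⟨j, ?_, ?_⟩
  · simp
  · simp

end Groth.Agent.S5814
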