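import Groth.Statements.S5815
import Mathlib

set_option autoImplicit false
universe u
open EGA41


namespace Groth.Agent.S5815

/-- Discrete case. A commutative A-algebra B is formally smooth if and only if every A-extension of B by
a B-module L is trivial (has an A-algebra section). A and B are taken in one universe and L ranges
over that universe. (The published statement is for topological rings, with direct-limit classes of
extensions; this row is its discrete case.) -/
theorem result (A B : Type u) [CommRing A] [CommRing B] [Algebra A B] :
    Algebra.FormallySmooth A B ↔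
      ∀ (L : Type u) [AddCommGroup L] [Module B L] (X : Exal.Ext A B L), X.IsTrivial := by
  constructor
  · intro h L _ _ X
    have hnil : IsNilpotent (RingHom.ker (X.proj : X.E →+* B)) := by
      refine ⟨2, le_bot_iff.mp ?_⟩
      rw [sq]
      refine Submodule.smul_le.mpr fun x hx y hy => ?_
      obtain ⟨z, rfl⟩ := (X.isExtension.exact y).mp hy
      show x • X.incl z = (0 : X.E)
      rw [smul_eq_mul, X.isExtension.mul_incl, show X.proj x = 0 from hx, zero_smul, map_zero]
    exact ⟨Algebra.FormallySmooth.liftOfSurjective (AlgHom.id A B) X.proj X.isExtension.proj_surjective hnil,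
      Algebra.FormallySmooth.liftOfSurjective_apply (AlgHom.id A B) X.proj X.isExtension.proj_surjective hnil⟩
  · intro h
    rw [Algebra.FormallySmooth.iff_comp_surjective]
    intro C _ _ I hI g
    have htor : Module.IsTorsionBySet C I (I : Set C) := fun x a => Subtype.ext (by
      have h2 : (a : C) * x ∈ I ^ 2 := by rw [sq]; exact Ideal.mul_mem_mul a.2 x.2
      rw [hI, Ideal.mem_bot] at h2
      exact h2)
    letI : Module (C ⧸ I) I := htor.module
    letI : Module B I := Module.compHom I g.toRingHom
    let E : Subalgebra A (C × B) :=
      AlgHom.equalizer ((Ideal.Quotient.mkₐ A I).comp (AlgHom.fst A C B)) (g.comp (AlgHom.snd A C B))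
    let incl : I →+ E :=
      { toFun := fun z => ⟨((z : C), 0), show Ideal.Quotient.mk I (z : C) = g 0 by
          rw [map_zero, Ideal.Quotient.eq_zero_iff_mem]; exact z.2⟩
        map_zero' := Subtype.ext (Prod.ext rfl rfl)
        map_add' := fun x y => Subtype.ext (Prod.ext rfl (add_zero (0 : B)).symm) }
    let Y : Exal.Ext A B I :=
      { E := E
        proj := (AlgHom.snd A C B).comp E.val
        incl := incl
        isExtension :=
          { proj_surjective := fun b => by
              obtain ⟨c, hc⟩ := Ideal.Quotient.mk_surjective (g b)
              exact ⟨⟨(c, b), hc⟩, rfl⟩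
            incl_injective := fun x y hxy => Subtype.ext (congrArg Prod.fst (congrArg Subtype.val hxy))
            exact := fun x => ⟨fun hx => ⟨⟨x.1.1, by
                have h2 : Ideal.Quotient.mk I x.1.1 = g x.1.2 := x.2
                rw [show x.1.2 = 0 from hx, map_zero, Ideal.Quotient.eq_zero_iff_mem] at h2
                exact h2⟩, Subtype.ext (Prod.ext rfl (show (0 : B) = x.1.2 from (show x.1.2 = 0 from hx).symm))⟩,
              fun ⟨z, hz⟩ => hz ▸ rfl⟩
            mul_incl := fun x z => Subtype.ext (Prod.ext (by
              show x.1.1 * (z : C) = ((g x.1.2 • z : I) : C)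
              rw [← (show Ideal.Quotient.mk I x.1.1 = g x.1.2 from x.2)]
              rfl) (mul_zero _)) } }
    obtain ⟨σ, hσ⟩ := h I Y
    refine ⟨((AlgHom.fst A C B).comp E.val).comp σ, AlgHom.ext fun b => ?_⟩
    exact (σ b).2.trans (congrArg g (hσ b))

end Groth.Agent.S5815
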