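import Groth.Statements.S5816
import Groth.Agent.H05EGA4.ExalBasic

set_option autoImplicit false
universe u
open EGA41

open Groth.Agent.H05EGA4
attribute [local instance] Exal.opModule Exal.isCentralScalar_opModule
namespace Groth.Agent.S5816

/-- Discrete case. For ring maps Λ → A → B, B is formally smooth over A relative to Λ (square-zero test
ideals) if and only if every A-extension of B by a B-module L which is Λ-trivial is A-trivial. Λ, A,
B are taken in one universe and L ranges over it. (The published statement is for topological rings;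
this row is its discrete case.) -/
theorem result (Λ A B : Type u) [CommRing Λ]
    [CommRing A] [CommRing B] [Algebra Λ A] [Algebra Λ B] [Algebra A B] [IsScalarTower Λ A B] :
    EGA41.IsFormallySmoothRel Λ A B ↔
      ∀ (L : Type u) [AddCommGroup L] [Module B L] (X : Exal.Ext A B L),
        X.IsTrivialOver Λ → X.IsTrivial := by
  open ExalBasic in
  constructor
  · rintro h L _ _ X ⟨s, hs⟩
    letI : Algebra Λ X.E := inferInstanceAs (Algebra Λ (X.RestrictCarrier Λ))
    haveI : IsScalarTower Λ A X.E := IsScalarTower.of_algebraMap_eq fun _ => rfl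
    let J : Ideal X.E := RingHom.ker X.proj
    have hJ : J ^ 2 = ⊥ := le_bot_iff.mp (by
      rw [sq]
      refine Ideal.mul_le.mpr fun x hx y hy => ?_
      obtain ⟨z, rfl⟩ := (X.isExtension.exact x).mp hx
      obtain ⟨w, rfl⟩ := (X.isExtension.exact y).mp hy
      rw [incl_mul_incl]; exact zero_mem _)
    let q : (X.E ⧸ J) ≃ₐ[A] B := Ideal.quotientKerAlgEquivOfSurjective X.isExtension.proj_surjective
    let s' : B →ₐ[Λ] X.E := s
    have hq : ∀ x, q (Ideal.Quotient.mk J x) = X.proj x := fun x => rfl
    obtain ⟨v, hv⟩ := h X.E J hJ q.symm.toAlgHom ⟨s', AlgHom.ext fun b => by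
      show Ideal.Quotient.mk J (s' b) = q.symm b
      apply q.injective
      rw [hq, AlgEquiv.apply_symm_apply]
      exact hs b⟩
    refine ⟨v, fun b => ?_⟩
    have h2 : Ideal.Quotient.mk J (v b) = q.symm b := congrArg (fun f => f b) hv
    rw [← hq, h2, AlgEquiv.apply_symm_apply]
  · intro h C _ _ _ _ J hJ u₀ hu
    obtain ⟨u, hu⟩ := hu
    have htor : Module.IsTorsionBySet C J (J : Set C) := fun x a => Subtype.ext (by
      have h2 : (a : C) * x ∈ J ^ 2 := by rw [sq]; exact Ideal.mul_mem_mul a.2 x.2
      rw [hJ, Ideal.mem_bot] at h2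
      exact h2)
    letI : Module (C ⧸ J) J := htor.module
    letI : Module B J := Module.compHom J u₀.toRingHom
    let E : Subalgebra A (C × B) :=
      AlgHom.equalizer ((Ideal.Quotient.mkₐ A J).comp (AlgHom.fst A C B)) (u₀.comp (AlgHom.snd A C B))
    let incl : J →+ E :=
      { toFun := fun z => ⟨((z : C), 0), show Ideal.Quotient.mk J (z : C) = u₀ 0 by
          rw [map_zero, Ideal.Quotient.eq_zero_iff_mem]; exact z.2⟩
        map_zero' := Subtype.ext (Prod.ext rfl rfl)
        map_add' := fun x y => Subtype.ext (Prod.ext rfl (add_zero (0 : B)).symm) }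
    let Y : Exal.Ext A B J :=
      { E := E
        proj := (AlgHom.snd A C B).comp E.val
        incl := incl
        isExtension :=
          { proj_surjective := fun b => by
              obtain ⟨c, hc⟩ := Ideal.Quotient.mk_surjective (u₀ b)
              exact ⟨⟨(c, b), hc⟩, rfl⟩
            incl_injective := fun x y hxy => Subtype.ext (congrArg Prod.fst (congrArg Subtype.val hxy))
            exact := fun x => ⟨fun hx => ⟨⟨x.1.1, by
                have h2 : Ideal.Quotient.mk J x.1.1 = u₀ x.1.2 := x.2
                rw [show x.1.2 = 0 from hx, map_zero, Ideal.Quotient.eq_zero_iff_mem] at h2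
                exact h2⟩, Subtype.ext (Prod.ext rfl (show (0 : B) = x.1.2 from (show x.1.2 = 0 from hx).symm))⟩,
              fun ⟨z, hz⟩ => hz ▸ rfl⟩
            mul_incl := fun x z => Subtype.ext (Prod.ext (by
              show x.1.1 * (z : C) = ((u₀ x.1.2 • z : J) : C)
              rw [← (show Ideal.Quotient.mk J x.1.1 = u₀ x.1.2 from x.2)]
              rfl) (mul_zero _)) } }
    have hmem : ∀ b, (u b, b) ∈ E := fun b => show Ideal.Quotient.mk J (u b) = u₀ b from congrArg (fun f => f b) hu
    have htriv : Y.IsTrivialOver Λ := by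
      refine ⟨{ toFun := fun b => (⟨(u b, b), hmem b⟩ : E)
                map_one' := Subtype.ext (Prod.ext (map_one u) rfl)
                map_mul' := fun x y => Subtype.ext (Prod.ext (map_mul u x y) rfl)
                map_zero' := Subtype.ext (Prod.ext (map_zero u) rfl)
                map_add' := fun x y => Subtype.ext (Prod.ext (map_add u x y) rfl)
                commutes' := fun l => Subtype.ext (Prod.ext ?_ ?_) }, fun b => rfl⟩
      · show u (algebraMap Λ B l) = algebraMap A C (algebraMap Λ A l)
        rw [u.commutes, ← IsScalarTower.algebraMap_apply]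
      · show algebraMap Λ B l = algebraMap A B (algebraMap Λ A l)
        rw [← IsScalarTower.algebraMap_apply]
    obtain ⟨σ, hσ⟩ := h J Y htriv
    refine ⟨((AlgHom.fst A C B).comp E.val).comp σ, AlgHom.ext fun b => ?_⟩
    exact (σ b).2.trans (congrArg u₀ (hσ b))

end Groth.Agent.S5816
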