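import Groth.Statements.S5817
import Groth.Agent.H05EGA4.ExalBasic

set_option autoImplicit false
universe u v
open EGA41

open Groth.Agent.H05EGA4
attribute [local instance] Exal.opModule Exal.isCentralScalar_opModule
namespace Groth.Agent.S5817

/-- Commutative rings, exactness at Der_A(B, L). For ring maps A → B → C and a C-module L, the
B-extension of C by L attached to an A-derivation D : B → L (middle ring C ⊕ L, made a B-algebra
through x ↦ (x, D x)) is trivial if and only if D is the composite of B → C with an A-derivation C →
L. -/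
theorem result {A : Type u} {B C L : Type v} [CommRing A] [CommRing B] [CommRing C]
    [Algebra A B] [Algebra B C] [Algebra A C] [IsScalarTower A B C]
    [AddCommGroup L] [Module C L] [Module B L] [IsScalarTower B C L] [Module A L] [IsScalarTower A B L]
    [IsScalarTower A C L]
    (D : Derivation A B L) :
    (Exal.Ext.ofDerivation (C := C) D).IsTrivial ↔
      ∃ D' : Derivation A C L, D'.compAlgebraMap B = D := by
  constructor
  · rintro ⟨s, hs⟩
    have hfst : ∀ c, TrivSqZeroExt.fst (s c) = c := hs
    refine ⟨Derivation.mk'
      { toFun := fun c => TrivSqZeroExt.snd (s c)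
        map_add' := fun c d => by
          rw [map_add]; exact TrivSqZeroExt.snd_add _ _
        map_smul' := fun a c => ?_ } fun c d => ?_, Derivation.ext fun b => ?_⟩
    · rw [RingHom.id_apply, ← algebraMap_smul B a c, map_smul, Algebra.smul_def]
      show TrivSqZeroExt.snd (HMul.hMul (α := TrivSqZeroExt C L) (β := TrivSqZeroExt C L) (γ := TrivSqZeroExt C L)
        (Exal.Ext.derivationHom (C := C) D (algebraMap A B a)) (s c)) = _
      rw [TrivSqZeroExt.snd_mul]
      show TrivSqZeroExt.fst (TrivSqZeroExt.inl (algebraMap B C (algebraMap A B a)) + TrivSqZeroExt.inr (D (algebraMap A B a))) • _ + _ = _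
      simp only [TrivSqZeroExt.fst_add, TrivSqZeroExt.fst_inl, TrivSqZeroExt.fst_inr, add_zero, op_smul_eq_smul]
      have h2 : TrivSqZeroExt.snd (Exal.Ext.derivationHom (C := C) D (algebraMap A B a)) = (0 : L) := by
        show TrivSqZeroExt.snd (TrivSqZeroExt.inl (algebraMap B C (algebraMap A B a)) + TrivSqZeroExt.inr (D (algebraMap A B a))) = 0
        simp
      rw [h2, smul_zero, add_zero, ← IsScalarTower.algebraMap_apply, IsScalarTower.algebraMap_smul]
    · simp only [LinearMap.coe_mk, AddHom.coe_mk]
      rw [map_mul]
      refine (TrivSqZeroExt.snd_mul _ _).trans ?_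
      rw [hfst, hfst, op_smul_eq_smul]
    · show TrivSqZeroExt.snd (s (algebraMap B C b)) = D b
      rw [AlgHom.commutes]
      show TrivSqZeroExt.snd (TrivSqZeroExt.inl (algebraMap B C b) + TrivSqZeroExt.inr (D b)) = D b
      simp
  · rintro ⟨D', hD'⟩
    refine ⟨{ toFun := fun c => (TrivSqZeroExt.inl c + TrivSqZeroExt.inr (D' c) : TrivSqZeroExt C L)
              map_one' := (Exal.Ext.derivationHom (C := C) D').map_one
              map_mul' := (Exal.Ext.derivationHom (C := C) D').map_mul
              map_zero' := (Exal.Ext.derivationHom (C := C) D').map_zero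
              map_add' := (Exal.Ext.derivationHom (C := C) D').map_add
              commutes' := fun b => ?_ }, fun c => ?_⟩
    · show (TrivSqZeroExt.inl (algebraMap B C b) + TrivSqZeroExt.inr (D' (algebraMap B C b)) : TrivSqZeroExt C L) =
        TrivSqZeroExt.inl (algebraMap B C b) + TrivSqZeroExt.inr (D b)
      rw [← hD']
      rfl
    · show TrivSqZeroExt.fst (TrivSqZeroExt.inl c + TrivSqZeroExt.inr (D' c) : TrivSqZeroExt C L) = c
      simp

end Groth.Agent.S5817
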