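import Groth.Statements.S5818
import Groth.Agent.H05EGA4.ExalBasic

set_option autoImplicit false
universe u v
open EGA41

open Groth.Agent.H05EGA4
attribute [local instance] Exal.opModule Exal.isCentralScalar_opModule
namespace Groth.Agent.S5818

/-- Commutative rings, exactness at Exalcom_B(C, L) on underlying pointed sets. For ring maps A → B → C
and a C-module L, a B-extension of C by L is A-trivial if and only if it is equivalent to the
extension attached to some A-derivation B → L. -/
theorem result {A : Type u} {B C L : Type v} [CommRing A] [CommRing B] [CommRing C]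
    [Algebra A B] [Algebra B C] [Algebra A C] [IsScalarTower A B C]
    [AddCommGroup L] [Module C L] [Module B L] [IsScalarTower B C L] [Module A L] [IsScalarTower A B L]
    [IsScalarTower A C L]
    (X : Exal.Ext B C L) :
    X.IsTrivialOver A ↔
      ∃ D : Derivation A B L, Nonempty (X.Equiv (Exal.Ext.ofDerivation (C := C) D)) := by
  open ExalBasic in
  constructor
  · rintro ⟨s, hs⟩
    letI : Algebra A X.E := inferInstanceAs (Algebra A (X.RestrictCarrier A))
    let s' : C →ₐ[A] X.E := s
    let g : B →ₐ[A] X.E := { algebraMap B X.E with commutes' := fun a => rfl }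
    let t : B →ₐ[A] X.E := s'.comp (IsScalarTower.toAlgHom A B C)
    let D : Derivation A B L := diffDerivation X g t (fun b => X.proj.commutes b) (fun b => hs _)
    have hD : ∀ b, X.incl (D b) = algebraMap B X.E b - s' (algebraMap B C b) :=
      incl_diffDerivation X g t (fun b => X.proj.commutes b) (fun b => hs _)
    refine ⟨D, ?_⟩
    let φ : TrivSqZeroExt C L → X.E := fun t => s' (TrivSqZeroExt.fst t) + X.incl (TrivSqZeroExt.snd t)
    let f : (Exal.Ext.ofDerivation (C := C) D).E →ₐ[B] X.E :=
      { toFun := φ
        map_one' := by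
          show s' (TrivSqZeroExt.fst (1 : TrivSqZeroExt C L)) + X.incl (TrivSqZeroExt.snd (1 : TrivSqZeroExt C L)) = 1
          rw [TrivSqZeroExt.fst_one, TrivSqZeroExt.snd_one, map_one, map_zero, add_zero]
        map_mul' := fun (x y : TrivSqZeroExt C L) => by
          show s' (TrivSqZeroExt.fst (x * y)) + X.incl (TrivSqZeroExt.snd (x * y)) =
            (s' (TrivSqZeroExt.fst x) + X.incl (TrivSqZeroExt.snd x)) * (s' (TrivSqZeroExt.fst y) + X.incl (TrivSqZeroExt.snd y))
          rw [TrivSqZeroExt.fst_mul, TrivSqZeroExt.snd_mul, op_smul_eq_smul, map_mul, map_add,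
            incl_smul X (hs (TrivSqZeroExt.fst x)), incl_smul X (hs (TrivSqZeroExt.fst y))]
          show _ = _
          linear_combination (-1 : X.E) * incl_mul_incl X (TrivSqZeroExt.snd x) (TrivSqZeroExt.snd y)
        map_zero' := by
          show s' (TrivSqZeroExt.fst (0 : TrivSqZeroExt C L)) + X.incl (TrivSqZeroExt.snd (0 : TrivSqZeroExt C L)) = 0
          rw [TrivSqZeroExt.fst_zero, TrivSqZeroExt.snd_zero, map_zero, map_zero, add_zero]
        map_add' := fun (x y : TrivSqZeroExt C L) => by
          show s' (TrivSqZeroExt.fst (x + y)) + X.incl (TrivSqZeroExt.snd (x + y)) =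
            (s' (TrivSqZeroExt.fst x) + X.incl (TrivSqZeroExt.snd x)) + (s' (TrivSqZeroExt.fst y) + X.incl (TrivSqZeroExt.snd y))
          rw [TrivSqZeroExt.fst_add, TrivSqZeroExt.snd_add, map_add, map_add]
          abel
        commutes' := fun b => by
          show s' (TrivSqZeroExt.fst (TrivSqZeroExt.inl (algebraMap B C b) + TrivSqZeroExt.inr (D b) : TrivSqZeroExt C L)) +
            X.incl (TrivSqZeroExt.snd (TrivSqZeroExt.inl (algebraMap B C b) + TrivSqZeroExt.inr (D b) : TrivSqZeroExt C L)) = _
          simp only [TrivSqZeroExt.fst_add, TrivSqZeroExt.snd_add, TrivSqZeroExt.fst_inl, TrivSqZeroExt.fst_inr,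
            TrivSqZeroExt.snd_inl, TrivSqZeroExt.snd_inr, add_zero, zero_add, hD]
          abel }
    obtain ⟨e, -⟩ := equiv_of_hom f (fun (x : TrivSqZeroExt C L) => by
        show X.proj (s' (TrivSqZeroExt.fst x) + X.incl _) = TrivSqZeroExt.fst x
        rw [map_add, proj_incl, add_zero]
        exact hs _)
      (fun z => by
        show s' (TrivSqZeroExt.fst (TrivSqZeroExt.inr z : TrivSqZeroExt C L)) + X.incl (TrivSqZeroExt.snd (TrivSqZeroExt.inr z : TrivSqZeroExt C L)) = X.incl z
        rw [TrivSqZeroExt.fst_inr, TrivSqZeroExt.snd_inr, map_zero, zero_add])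
    exact ⟨e.symm⟩
  · rintro ⟨D, ⟨e⟩⟩
    let σ : C → (Exal.Ext.ofDerivation (C := C) D).E := fun c => (TrivSqZeroExt.inl c : TrivSqZeroExt C L)
    refine ⟨{ toFun := fun c => e.toAlgEquiv.symm (σ c)
              map_one' := by
                show e.toAlgEquiv.symm (σ 1) = (1 : X.E)
                rw [show σ 1 = 1 from TrivSqZeroExt.inl_one L, map_one]
              map_mul' := fun c d => by
                show e.toAlgEquiv.symm (σ (c * d)) = (e.toAlgEquiv.symm (σ c) * e.toAlgEquiv.symm (σ d) : X.E)
                rw [← map_mul]; exact congrArg _ (TrivSqZeroExt.inl_mul L c d)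
              map_zero' := by
                show e.toAlgEquiv.symm (σ 0) = (0 : X.E)
                rw [show σ 0 = 0 from TrivSqZeroExt.inl_zero L, map_zero]
              map_add' := fun c d => by
                show e.toAlgEquiv.symm (σ (c + d)) = (e.toAlgEquiv.symm (σ c) + e.toAlgEquiv.symm (σ d) : X.E)
                rw [← map_add]; exact congrArg _ (TrivSqZeroExt.inl_add L c d)
              commutes' := fun a => ?_ }, fun c => ?_⟩
    · show e.toAlgEquiv.symm (σ (algebraMap A C a)) = algebraMap B X.E (algebraMap A B a)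
      rw [← e.toAlgEquiv.symm.commutes (algebraMap A B a)]
      refine congrArg _ ?_
      show (TrivSqZeroExt.inl (algebraMap A C a) : TrivSqZeroExt C L) =
        TrivSqZeroExt.inl (algebraMap B C (algebraMap A B a)) + TrivSqZeroExt.inr (D (algebraMap A B a))
      rw [D.map_algebraMap, TrivSqZeroExt.inr_zero, add_zero, ← IsScalarTower.algebraMap_apply]
    · show X.proj (e.toAlgEquiv.symm (σ c)) = c
      rw [← e.proj_apply, AlgEquiv.apply_symm_apply]
      rfl

end Groth.Agent.S5818
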