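import Groth.Statements.S5819
import Groth.Agent.H05EGA4.ExalBasic

set_option autoImplicit false
universe u v
open EGA41

open Groth.Agent.H05EGA4
attribute [local instance] Exal.opModule Exal.isCentralScalar_opModule
namespace Groth.Agent.S5819

/-- Commutative rings, exactness at Exalcom_A(C, L) on underlying pointed sets. For ring maps A → B → C
and a C-module L, an A-extension Y of C by L pulls back to a trivial A-extension of B if and only if
Y is equivalent to some B-extension of C by L viewed as an A-extension. -/
theorem result {A : Type u} {B C L : Type v} [CommRing A]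
    [CommRing B] [CommRing C] [Algebra A B] [Algebra B C] [Algebra A C] [IsScalarTower A B C]
    [AddCommGroup L] [Module C L] [Module B L] [IsScalarTower B C L]
    (Y : Exal.Ext A C L) :
    (Y.pullback B).IsTrivial ↔
      ∃ X : Exal.Ext B C L, Nonempty ((X.restrictBase A).Equiv Y) := by
  open ExalBasic in
  constructor
  · rintro ⟨t, ht⟩
    let φ : B →ₐ[A] Y.E := (AlgHom.fst A Y.E B).comp ((Y.fiberProd B).val.comp t)
    have hφ : ∀ b, Y.proj (φ b) = algebraMap B C b := fun b => by
      have h2 : Y.proj (φ b) = algebraMap B C ((t b : Y.fiberProd B).1.2) := (t b : Y.fiberProd B).2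
      rw [h2]
      exact congrArg _ (ht b)
    letI algY : Algebra B Y.E := φ.toRingHom.toAlgebra
    let X : Exal.Ext B C L :=
      { E := Y.E
        algebra := algY
        proj := { Y.proj.toRingHom with commutes' := hφ }
        incl := Y.incl
        isExtension := ⟨Y.isExtension.proj_surjective, Y.isExtension.incl_injective, Y.isExtension.exact, Y.isExtension.mul_incl⟩ }
    let f : (X.restrictBase A).E →ₐ[A] Y.E :=
      { toFun := fun x => x
        map_one' := rfl
        map_mul' := fun _ _ => rfl
        map_zero' := rfl
        map_add' := fun _ _ => rfl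
        commutes' := φ.commutes }
    obtain ⟨e, -⟩ := equiv_of_hom f (fun x => rfl) (fun z => rfl)
    exact ⟨X, ⟨e⟩⟩
  · rintro ⟨X, ⟨e⟩⟩
    let g : B → Y.E := fun b => e.toAlgEquiv (algebraMap B X.E b : X.RestrictCarrier A)
    have hp : ∀ b, Y.proj (g b) = algebraMap B C b := fun b => by
      refine (e.proj_apply _).trans ?_
      exact X.proj.commutes b
    refine ⟨{ toFun := fun b => ⟨(g b, b), hp b⟩
              map_one' := Subtype.ext (Prod.ext ?_ rfl)
              map_mul' := fun x y => Subtype.ext (Prod.ext ?_ rfl)
              map_zero' := Subtype.ext (Prod.ext ?_ rfl)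
              map_add' := fun x y => Subtype.ext (Prod.ext ?_ rfl)
              commutes' := fun a => Subtype.ext (Prod.ext ?_ rfl) }, fun b => rfl⟩
    · show e.toAlgEquiv (algebraMap B X.E 1 : X.RestrictCarrier A) = 1
      rw [map_one (algebraMap B X.E)]; exact map_one e.toAlgEquiv
    · show e.toAlgEquiv (algebraMap B X.E (x * y) : X.RestrictCarrier A) = g x * g y
      rw [map_mul (algebraMap B X.E)]; exact map_mul e.toAlgEquiv _ _
    · show e.toAlgEquiv (algebraMap B X.E 0 : X.RestrictCarrier A) = 0
      rw [map_zero (algebraMap B X.E)]; exact map_zero e.toAlgEquiv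
    · show e.toAlgEquiv (algebraMap B X.E (x + y) : X.RestrictCarrier A) = g x + g y
      rw [map_add (algebraMap B X.E)]; exact map_add e.toAlgEquiv _ _
    · exact e.toAlgEquiv.commutes a

end Groth.Agent.S5819
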