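import Groth.Statements.S5820
import Groth.Agent.H05EGA4.CharHom

set_option autoImplicit false
universe u v
open EGA41

open Groth.Agent.H05EGA4
namespace Groth.Agent.S5820

/-- For ring maps A → B → C, a C-module L and a B-extension X of C by L with middle ring E which is
A-trivial, there is exactly one C-linear map χ from the imperfection module Υ_{C/B/A} = ker(C ⊗_B
Ω_{B/A} → Ω_{C/A}) to L making the defining square commute, i.e. such that z ↦ 1 ⊗ d(χ z) ∈ C ⊗_E
Ω_{E/A} agrees on Υ_{C/B/A} with the map induced by B → E. This χ is the characteristic homomorphism
of X. (The published statement also asserts that both rows of its diagram are exact; this row states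
only the commutativity of the left square and the existence and uniqueness of χ.) -/
theorem result {A : Type u} {B C L : Type v} [CommRing A] [CommRing B] [CommRing C]
    [Algebra A B] [Algebra B C] [Algebra A C] [IsScalarTower A B C] [AddCommGroup L] [Module C L]
    (X : Exal.Ext B C L) (hX : X.IsTrivialOver A) :
    ∃! χ : ↥(EGA41.imperfection A B C) →ₗ[C] L, X.IsCharHom A χ := by
  exact CharHom.existsUnique_charHom A X hX

end Groth.Agent.S5820
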