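import Groth.Statements.S5823
import Groth.Agent.H05EGA4.CharHom

set_option autoImplicit false
universe u v
open scoped TensorProduct
open EGA41

open Groth.Agent.H05EGA4
namespace Groth.Agent.S5823

/-- Surjectivity. For ring maps A → B → C and a C-module L, assume (i) L is an injective C-module, or
(ii) Υ_{C/B/A} is a direct summand of C ⊗_B Ω_{B/A} and Ω_{C/A} → Ω_{C/B} has a right inverse. Then
every C-linear map Υ_{C/B/A} → L is the characteristic homomorphism of an A-trivial B-extension of C
by L. -/
theorem result {A : Type u} {B C L : Type v} [CommRing A] [CommRing B] [CommRing C]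
    [Algebra A B] [Algebra B C] [Algebra A C] [IsScalarTower A B C] [AddCommGroup L] [Module C L]
    (h : Module.Injective C L ∨
      ((∃ r : C ⊗[B] Ω[B⁄A] →ₗ[C] ↥(EGA41.imperfection A B C), ∀ z : ↥(EGA41.imperfection A B C), r z = z) ∧
        ∃ s : Ω[C⁄B] →ₗ[C] Ω[C⁄A], ∀ ω : Ω[C⁄B], KaehlerDifferential.map A B C C (s ω) = ω))
    (χ : ↥(EGA41.imperfection A B C) →ₗ[C] L) :
    ∃ X : Exal.Ext B C L, X.IsTrivialOver A ∧ X.IsCharHom A χ := by
  exact CharHom.exists_charHom A (h.imp id And.left) χ

end Groth.Agent.S5823
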