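import Groth.Statements.S5825
import Groth.Agent.H05EGA4.TopModLI

set_option autoImplicit false
universe u v w
open EGA41

namespace Groth.Agent.S5825

/-- Let A be a topological ring, M, N topological A-modules with the topologies deduced from that of A,
and u : M → N a continuous linear map with dense image (a formal epimorphism). Then u is a formal
bimorphism (dense image and inducing) if and only if, for every open ideal J of A, the induced map
M/JM → N/JN is bijective (injectivity and surjectivity are written out elementwise). -/
theorem result {A : Type u} {M : Type v} {N : Type w} [CommRing A]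
    [TopologicalSpace A] [AddCommGroup M] [Module A M] [TopologicalSpace M] [AddCommGroup N] [Module A N]
    [TopologicalSpace N] (hM : TopMod.IsDeduced A M) (hN : TopMod.IsDeduced A N) (u : M →L[A] N)
    (hu : DenseRange u) :
    IsDenseInducing u ↔
      ∀ J : Ideal A, IsOpen (J : Set A) →
        (∀ x : M, u x ∈ (J • ⊤ : Submodule A N) → x ∈ (J • ⊤ : Submodule A M)) ∧
          ∀ y : N, ∃ x : M, y - u x ∈ (J • ⊤ : Submodule A N) := by
  exact H05EGA4.TopModLI.isDenseInducing_iff hM hN u hu

end Groth.Agent.S5825
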