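import Groth.Statements.S5828
import Groth.Agent.H05EGA4.ExalBasic

set_option autoImplicit false
universe u v
open EGA41

open Groth.Agent.H05EGA4
namespace Groth.Agent.S5828

/-- Commutative case. For an A-extension X of C by a C-module L, with middle ring E, projection p and
inclusion i, the A-derivations D : C → L and the self-equivalences of X correspond under D ↦ (x ↦ x
+ i (D (p x))): every derivation defines a self-equivalence with this formula, and every
self-equivalence is of this form for exactly one derivation. (Bijection of sets; the published
statement also records compatibility with the group laws.) -/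
theorem result {A : Type u} {C L : Type v} [CommRing A] [CommRing C] [Algebra A C]
    [AddCommGroup L] [Module C L] [Module A L] [IsScalarTower A C L] (X : Exal.Ext A C L) :
    (∀ D : Derivation A C L, ∃ e : X.Equiv X, ∀ x : X.E, e.toAlgEquiv x = x + X.incl (D (X.proj x))) ∧
      ∀ e : X.Equiv X, ∃! D : Derivation A C L, ∀ x : X.E, e.toAlgEquiv x = x + X.incl (D (X.proj x)) := by
  open ExalBasic in
  constructor
  · intro D
    let g : X.E → X.E := fun x => x + X.incl (D (X.proj x))
    have hmul : ∀ x y, g (x * y) = g x * g y := fun x y => by
      have h1 : X.incl (X.proj x • D (X.proj y)) = x * X.incl (D (X.proj y)) := incl_smul X rfl _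
      have h2 : X.incl (X.proj y • D (X.proj x)) = y * X.incl (D (X.proj x)) := incl_smul X rfl _
      show x * y + X.incl (D (X.proj (x * y))) = _
      rw [map_mul X.proj, Derivation.leibniz, map_add X.incl, h1, h2]
      show _ = (x + X.incl (D (X.proj x))) * (y + X.incl (D (X.proj y)))
      linear_combination (-1 : X.E) * incl_mul_incl X (D (X.proj x)) (D (X.proj y))
    have hone : g 1 = 1 := by
      show (1 : X.E) + X.incl (D (X.proj 1)) = 1
      rw [map_one, Derivation.map_one_eq_zero, map_zero, add_zero]
    have hzero : g 0 = 0 := by
      show (0 : X.E) + X.incl (D (X.proj 0)) = 0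
      rw [map_zero, map_zero, map_zero, add_zero]
    have hadd : ∀ x y, g (x + y) = g x + g y := fun x y => by
      show x + y + X.incl (D (X.proj (x + y))) = _
      rw [map_add, map_add, map_add]
      show _ = (x + X.incl _) + (y + X.incl _)
      abel
    let f : X.E →ₐ[A] X.E :=
      { toFun := g
        map_one' := hone
        map_mul' := hmul
        map_zero' := hzero
        map_add' := hadd
        commutes' := fun a => by
          show algebraMap A X.E a + X.incl (D (X.proj (algebraMap A X.E a))) = algebraMap A X.E a
          rw [AlgHom.commutes, Derivation.map_algebraMap, map_zero, add_zero] }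
    obtain ⟨e, he⟩ := equiv_of_hom (X := X) (Y := X) f (fun x => by
        show X.proj (x + X.incl _) = X.proj x
        rw [map_add, proj_incl, add_zero])
      (fun z => by
        show X.incl z + X.incl (D (X.proj (X.incl z))) = X.incl z
        rw [proj_incl, map_zero, map_zero, add_zero])
    exact ⟨e, he⟩
  · intro e
    have hσ : ∀ c, X.proj (Function.surjInv X.isExtension.proj_surjective c) = c :=
      Function.surjInv_eq X.isExtension.proj_surjective
    let δ : X.E → L := fun x => X.kerLift (e.toAlgEquiv x - x) (proj_sub (e.proj_apply x))
    have hδ : ∀ x, X.incl (δ x) = e.toAlgEquiv x - x := fun x => X.incl_kerLift _ (proj_sub (e.proj_apply x))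
    have hwd : ∀ x y, X.proj x = X.proj y → δ x = δ y := fun x y h => by
      apply X.isExtension.incl_injective
      obtain ⟨z, hz⟩ := (X.isExtension.exact (x - y)).mp (proj_sub h)
      have h2 := e.apply_incl z
      rw [hz, map_sub] at h2
      rw [hδ, hδ]
      linear_combination h2
    let δ' : C → L := fun c => δ (Function.surjInv X.isExtension.proj_surjective c)
    have hδ' : ∀ x, δ' (X.proj x) = δ x := fun x => hwd _ _ (hσ _)
    have hadd : ∀ c d, δ' (c + d) = δ' c + δ' d := fun c d => by
      obtain ⟨x, rfl⟩ := X.isExtension.proj_surjective c
      obtain ⟨y, rfl⟩ := X.isExtension.proj_surjective d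
      rw [← map_add, hδ', hδ', hδ']
      apply X.isExtension.incl_injective
      rw [map_add X.incl, hδ, hδ, hδ, map_add]
      abel
    have halg : ∀ a : A, δ' (algebraMap A C a) = 0 := fun a => by
      rw [← X.proj.commutes, hδ']
      apply X.isExtension.incl_injective
      rw [hδ, map_zero, AlgEquiv.commutes, sub_self]
    have hmul : ∀ c d, δ' (c * d) = c • δ' d + d • δ' c := fun c d => by
      obtain ⟨x, rfl⟩ := X.isExtension.proj_surjective c
      obtain ⟨y, rfl⟩ := X.isExtension.proj_surjective d
      rw [← map_mul, hδ', hδ', hδ']
      apply X.isExtension.incl_injective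
      rw [map_add X.incl, hδ, incl_smul X rfl, incl_smul X rfl, hδ, hδ, map_mul]
      have h0 := incl_mul_incl X (δ x) (δ y)
      rw [hδ, hδ] at h0
      linear_combination h0
    let D : Derivation A C L := Derivation.mk'
      { toFun := δ'
        map_add' := hadd
        map_smul' := fun a c => by
          rw [RingHom.id_apply, Algebra.smul_def, hmul, halg, smul_zero, add_zero, IsScalarTower.algebraMap_smul] }
      hmul
    refine ⟨D, fun x => ?_, fun D' hD' => Derivation.ext fun c => ?_⟩
    · show e.toAlgEquiv x = x + X.incl (δ' (X.proj x))
      rw [hδ', hδ, add_sub_cancel]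
    · obtain ⟨x, rfl⟩ := X.isExtension.proj_surjective c
      apply X.isExtension.incl_injective
      show _ = X.incl (δ' (X.proj x))
      rw [hδ', hδ, hD', add_sub_cancel_left]

end Groth.Agent.S5828
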