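import Groth.Statements.S5829
import Mathlib

set_option autoImplicit false
universe u v w
open EGA41


namespace Groth.Agent.S5829

/-- Commutative case. Let B be a topological A-algebra in which the square of every open ideal is open,
and L a discrete B-module killed by an open ideal of B. Then every A-derivation B → L is continuous:
the submodule of continuous derivations is everything. (The topology of A is irrelevant and is not
assumed.) -/
theorem result {A : Type u} {B : Type v} {L : Type w} [CommRing A] [CommRing B]
    [Algebra A B] [AddCommGroup L] [Module A L] [Module B L] [IsScalarTower A B L] [TopologicalSpace B]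
    [IsTopologicalRing B] [TopologicalSpace L] [DiscreteTopology L] [ContinuousAdd L] [ContinuousConstSMul B L]
    (hsq : ∀ I : Ideal B, IsOpen (I : Set B) → IsOpen ((I ^ 2 : Ideal B) : Set B))
    (K : Ideal B) (hK : IsOpen (K : Set B)) (hKL : ∀ x ∈ K, ∀ z : L, x • z = 0) :
    TopMod.DerCont A B L = ⊤ := by
  rw [eq_top_iff]
  rintro D -
  show Continuous D
  have h0 : ∀ z ∈ (K ^ 2 : Ideal B), D z = 0 := by
    intro z hz
    rw [sq] at hz
    refine Submodule.smul_induction_on hz (fun a ha b hb => ?_) (fun x y hx hy => ?_)
    · rw [smul_eq_mul, Derivation.leibniz, hKL a ha, hKL b hb, add_zero]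
    · rw [map_add, hx, hy, add_zero]
  refine continuous_discrete_rng.mpr fun l => ?_
  rw [isOpen_iff_forall_mem_open]
  intro x hx
  refine ⟨(fun z => z - x) ⁻¹' ((K ^ 2 : Ideal B) : Set B), fun y hy => ?_, (hsq K hK).preimage (by fun_prop), by simp⟩
  have h1 := h0 (y - x) hy
  rw [map_sub, sub_eq_zero] at h1
  exact h1.trans hx

end Groth.Agent.S5829
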