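import Groth.Statements.S5830
import Mathlib

set_option autoImplicit false
set_option maxHeartbeats 800000
universe u v
open EGA41

open Cardinal TensorProduct

namespace Groth.Agent.S5830

/-- Discrete case. If B is a formally smooth A-algebra then, for every B-module L, every A-bilinear
symmetric Hochschild 2-cocycle f : B × B → L (f(xy, z) + z f(x, y) = x f(y, z) + f(x, yz)) is a
Hochschild 2-coboundary: f(x, y) = x g(y) − g(xy) + y g(x) for some A-linear g : B → L. (The
published statement is for topological algebras and open ideals; this row is its discrete case.) -/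
theorem result {A : Type u} {B : Type v} [CommRing A] [CommRing B]
    [Algebra A B] [Algebra.FormallySmooth A B] {L : Type v} [AddCommGroup L] [Module B L] [Module A L]
    [IsScalarTower A B L] (f : B →ₗ[A] B →ₗ[A] L) (hsymm : ∀ x y : B, f x y = f y x)
    (hcoc : ∀ x y z : B, f (x * y) z + z • f x y = x • f y z + f x (y * z)) :
    ∃ g : B →ₗ[A] L, ∀ x y : B, f x y = x • g y - g (x * y) + y • g x := by
  let c := f 1 1
  have h1 : ∀ z, f 1 z = z • c := by
    intro z
    have := hcoc 1 1 z
    simp only [one_mul, one_smul] at this
    exact (add_left_cancel this).symm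
  letI : CommRing (B × L) :=
    { (inferInstance : AddCommGroup (B × L)) with
      mul := fun p q => (p.1 * q.1, p.1 • q.2 + q.1 • p.2 + f p.1 q.1)
      one := (1, -c)
      mul_assoc := fun ⟨x, l⟩ ⟨y, m⟩ ⟨z, n⟩ => by
        refine Prod.ext (mul_assoc x y z) ?_
        show (x * y) • n + z • (x • m + y • l + f x y) + f (x * y) z =
          x • (y • n + z • m + f y z) + (y * z) • l + f x (y * z)
        have := hcoc x y z
        simp only [smul_add, smul_smul, mul_comm z x, mul_comm z y]
        linear_combination (norm := module) this
      one_mul := fun ⟨y, m⟩ => by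
        refine Prod.ext (one_mul y) ?_
        show (1 : B) • m + y • (-c) + f 1 y = m
        rw [h1]; module
      mul_one := fun ⟨y, m⟩ => by
        refine Prod.ext (mul_one y) ?_
        show y • (-c) + (1 : B) • m + f y 1 = m
        rw [hsymm, h1]; module
      left_distrib := fun ⟨x, l⟩ ⟨y, m⟩ ⟨z, n⟩ => by
        refine Prod.ext (mul_add x y z) ?_
        show x • (m + n) + (y + z) • l + f x (y + z) = (x • m + y • l + f x y) + (x • n + z • l + f x z)
        rw [map_add]; module
      right_distrib := fun ⟨x, l⟩ ⟨y, m⟩ ⟨z, n⟩ => by
        refine Prod.ext (add_mul x y z) ?_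
        show (x + y) • n + z • (l + m) + f (x + y) z = (x • n + z • l + f x z) + (y • n + z • m + f y z)
        rw [map_add, LinearMap.add_apply]; module
      zero_mul := fun ⟨y, m⟩ => by
        refine Prod.ext (zero_mul y) ?_
        show (0 : B) • m + y • (0 : L) + f 0 y = 0
        simp
      mul_zero := fun ⟨y, m⟩ => by
        refine Prod.ext (mul_zero y) ?_
        show y • (0 : L) + (0 : B) • m + f y 0 = 0
        simp
      mul_comm := fun ⟨x, l⟩ ⟨y, m⟩ => by
        refine Prod.ext (mul_comm x y) ?_
        show x • m + y • l + f x y = y • l + x • m + f y x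
        rw [hsymm x y]; abel }
  have hmul : ∀ p q : B × L, p * q = (p.1 * q.1, p.1 • q.2 + q.1 • p.2 + f p.1 q.1) := fun _ _ => rfl
  let i : A →+* B × L :=
    { toFun := fun a => (algebraMap A B a, -(a • c))
      map_one' := by simp only [map_one, one_smul]; rfl
      map_zero' := by simp
      map_add' := fun a b => by simp [add_smul, add_comm]
      map_mul' := fun a b => by
        rw [hmul]
        refine Prod.ext (map_mul _ a b) ?_
        have h2 : f (algebraMap A B a) (algebraMap A B b) = (a * b) • c := by
          simp only [Algebra.algebraMap_eq_smul_one, map_smul, LinearMap.smul_apply, smul_smul,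
            mul_comm b a]
          rfl
        show -((a * b) • c) = algebraMap A B a • -(b • c) + algebraMap A B b • -(a • c) + _
        rw [h2, algebraMap_smul, algebraMap_smul]; module }
  letI : Algebra A (B × L) := i.toAlgebra' fun _ _ => mul_comm _ _
  have hi : ∀ a, algebraMap A (B × L) a = (algebraMap A B a, -(a • c)) := fun _ => rfl
  let π : B × L →ₐ[A] B :=
    { toFun := Prod.fst
      map_one' := rfl
      map_mul' := fun _ _ => rfl
      map_zero' := rfl
      map_add' := fun _ _ => rfl
      commutes' := fun _ => rfl }
  have hπ : Function.Surjective π := fun b => ⟨(b, 0), rfl⟩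
  have hnil : IsNilpotent (RingHom.ker (π : B × L →+* B)) := by
    refine ⟨2, ?_⟩
    rw [pow_two, Ideal.zero_eq_bot, ← le_bot_iff, Ideal.mul_le]
    intro p hp q hq
    have hp : p.1 = 0 := hp
    have hq : q.1 = 0 := hq
    rw [Ideal.mem_bot, hmul]
    simp [hp, hq]
  let s := Algebra.FormallySmooth.liftOfSurjective (AlgHom.id A B) π hπ hnil
  have hs : ∀ x, (s x).1 = x := fun x =>
    Algebra.FormallySmooth.liftOfSurjective_apply _ π hπ hnil x
  have hsm : ∀ (a : A) (p : B × L), algebraMap A (B × L) a * p = (a • p.1, a • p.2) := by
    intro a p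
    rw [hi, hmul]
    refine Prod.ext (Algebra.smul_def a p.1).symm ?_
    show algebraMap A B a • p.2 + p.1 • (-(a • c)) + f (algebraMap A B a) p.1 = a • p.2
    rw [algebraMap_smul, Algebra.algebraMap_eq_smul_one, map_smul, LinearMap.smul_apply, h1,
      smul_neg, smul_comm p.1]
    module
  refine ⟨{ toFun := fun x => -(s x).2, map_add' := fun x y => ?_, map_smul' := fun a x => ?_ },
    fun x y => ?_⟩
  · rw [map_add]; exact neg_add _ _
  · rw [Algebra.smul_def, map_mul, AlgHom.commutes, hsm, RingHom.id_apply, smul_neg]
  · have h := congrArg Prod.snd (map_mul s x y)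
    rw [hmul] at h
    dsimp only at h
    rw [hs, hs] at h
    show f x y = x • -(s y).2 - -(s (x * y)).2 + y • -(s x).2
    rw [h]; module


end Groth.Agent.S5830
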