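import Groth.Statements.S5831
import Mathlib

set_option autoImplicit false
universe u
open EGA41

namespace Groth.Agent.S5831

/-- Discrete case. Let B be an A-algebra which is a projective A-module (A and B in one universe). If
for every B-module L in that universe every A-bilinear symmetric Hochschild 2-cocycle B × B → L is a
coboundary, then B is formally smooth over A. (The published statement assumes B formally projective
as a topological A-module; for discrete rings this is projectivity.) -/
theorem result {A B : Type u} [CommRing A]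
    [CommRing B] [Algebra A B] [Module.Projective A B]
    (h : ∀ (L : Type u) [AddCommGroup L] [Module B L] [Module A L] [IsScalarTower A B L]
      (f : B →ₗ[A] B →ₗ[A] L), (∀ x y : B, f x y = f y x) →
        (∀ x y z : B, f (x * y) z + z • f x y = x • f y z + f x (y * z)) →
          ∃ g : B →ₗ[A] L, ∀ x y : B, f x y = x • g y - g (x * y) + y • g x) :
    Algebra.FormallySmooth A B := by
  refine Algebra.FormallySmooth.of_comp_surjective fun E _ _ J hJ ψ => ?_
  obtain ⟨s, hs⟩ := Module.projective_lifting_property (Ideal.Quotient.mkₐ A J).toLinearMap ψ.toLinearMap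
    (Ideal.Quotient.mkₐ_surjective A J)
  have hs' : ∀ b, Ideal.Quotient.mk J (s b) = ψ b := fun b => LinearMap.congr_fun hs b
  have hJJ : ∀ x ∈ J, ∀ y ∈ J, x * y = 0 := fun x hx y hy => by
    have := Ideal.mul_mem_mul hx hy
    rwa [← sq, hJ, Ideal.mem_bot] at this
  have hzero : ∀ {e : E} (x : J), Ideal.Quotient.mk J e = 0 → e * x = 0 := fun {e} x he =>
    hJJ e (Ideal.Quotient.eq_zero_iff_mem.1 he) x x.2
  letI : SMul B J := ⟨fun b x => ⟨s b * x, J.mul_mem_left _ x.2⟩⟩
  have hsm : ∀ (b : B) (x : J), ((b • x : J) : E) = s b * x := fun b x => rfl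
  letI : Module B J :=
    { one_smul := fun x => Subtype.ext (by
        have h1 := hzero (e := s 1 - 1) x (by rw [map_sub, hs', map_one, map_one, sub_self])
        rw [hsm]; linear_combination h1)
      mul_smul := fun a b x => Subtype.ext (by
        have h1 := hzero (e := s (a * b) - s a * s b) x
          (by rw [map_sub, hs', map_mul ψ, map_mul (Ideal.Quotient.mk J), hs', hs', sub_self])
        rw [hsm, hsm, hsm]; linear_combination h1)
      smul_zero := fun b => Subtype.ext (by simp [hsm])
      smul_add := fun b x y => Subtype.ext (by simp [hsm, mul_add])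
      add_smul := fun a b x => Subtype.ext (by simp [hsm, add_mul])
      zero_smul := fun x => Subtype.ext (by simp [hsm]) }
  haveI : IsScalarTower A B J := ⟨fun a b x => Subtype.ext (by
    rw [hsm, map_smul, smul_mul_assoc]
    rfl)⟩
  let F : B → B → E := fun x y => s x * s y - s (x * y)
  have hmem : ∀ x y, F x y ∈ J := fun x y => by
    rw [← Ideal.Quotient.eq_zero_iff_mem, map_sub, hs', map_mul (Ideal.Quotient.mk J), hs', hs', map_mul ψ, sub_self]
  let f : B →ₗ[A] B →ₗ[A] J := LinearMap.mk₂ A (fun x y => ⟨F x y, hmem x y⟩)
    (fun x y z => Subtype.ext (by simp only [F, map_add, add_mul, Submodule.coe_add]; ring))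
    (fun a x y => Subtype.ext (by simp only [F, map_smul, smul_mul_assoc, smul_sub, SetLike.val_smul_of_tower]))
    (fun x y z => Subtype.ext (by simp only [F, map_add, mul_add, Submodule.coe_add]; ring))
    (fun a x y => Subtype.ext (by simp only [F, map_smul, mul_smul_comm, smul_sub, SetLike.val_smul_of_tower]))
  obtain ⟨g, hg⟩ := h J f (fun x y => Subtype.ext (by
      show F x y = F y x
      simp only [F]; rw [mul_comm (s x), mul_comm x y]))
    (fun x y z => Subtype.ext (by
      show F (x * y) z + s z * F x y = s x * F y z + F x (y * z)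
      simp only [F]; rw [mul_assoc x y z]; ring))
  have hgm : ∀ x y, F x y = s x * g y - g (x * y) + s y * g x := fun x y => congrArg Subtype.val (hg x y)
  have hmul : ∀ x y, s (x * y) - (g (x * y) : E) = (s x - g x) * (s y - g y) := fun x y => by
    have h1 := hgm x y
    simp only [F] at h1
    linear_combination -h1 - hJJ _ (g x).2 _ (g y).2
  let w₀ : B →ₗ[A] E := s - (J.restrictScalars A).subtype ∘ₗ g
  have h11 : s 1 - (g 1 : E) = 1 := by
    have h1 := hmul 1 1
    rw [one_mul] at h1
    have hu : IsUnit (s 1 - (g 1 : E)) := by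
      have hn : IsNilpotent (s 1 - (g 1 : E) - 1) := ⟨2, by
        have : s 1 - (g 1 : E) - 1 ∈ J := by
          rw [← Ideal.Quotient.eq_zero_iff_mem, map_sub, map_sub, hs',
            Ideal.Quotient.eq_zero_iff_mem.2 (g 1).2, map_one, map_one, sub_zero, sub_self]
        rw [sq]; exact hJJ _ this _ this⟩
      simpa using hn.isUnit_add_one
    exact (hu.mul_eq_left).1 h1.symm
  refine ⟨AlgHom.ofLinearMap w₀ h11 hmul, AlgHom.ext fun b => ?_⟩
  show Ideal.Quotient.mk J (s b - (g b : E)) = ψ b
  rw [map_sub, hs', Ideal.Quotient.eq_zero_iff_mem.2 (g b).2, sub_zero]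

end Groth.Agent.S5831
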