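import Groth.Statements.S5832
import Groth.Agent.H05EGA4.ExalBasic

set_option autoImplicit false
universe u u' v
open EGA41

open Groth.Agent.H05EGA4
attribute [local instance] Exal.opModule Exal.isCentralScalar_opModule
namespace Groth.Agent.S5832

section
variable {Λ : Type u} {A : Type u'} {C L : Type v} [CommRing Λ] [CommRing A] [CommRing C] [Algebra Λ A] [Algebra A C]
  [AddCommGroup L] [Module C L] [Module A L] [IsScalarTower A C L] [Module Λ L] [IsScalarTower Λ A L]

/-- `a ↦ (a, D a)`. -/
noncomputable def derHom (D : Derivation Λ A L) : A →+* TrivSqZeroExt C L where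
  toFun x := TrivSqZeroExt.inl (algebraMap A C x) + TrivSqZeroExt.inr (D x)
  map_one' := by rw [map_one, Derivation.map_one_eq_zero, TrivSqZeroExt.inr_zero, add_zero, TrivSqZeroExt.inl_one]
  map_mul' x y := by
    apply TrivSqZeroExt.ext
    · simp
    · simp only [TrivSqZeroExt.snd_add, TrivSqZeroExt.snd_inl, TrivSqZeroExt.snd_inr, zero_add,
        TrivSqZeroExt.snd_mul, TrivSqZeroExt.fst_add, TrivSqZeroExt.fst_inl, TrivSqZeroExt.fst_inr, add_zero,
        Derivation.leibniz, op_smul_eq_smul, IsScalarTower.algebraMap_smul]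
  map_zero' := by rw [map_zero, map_zero, TrivSqZeroExt.inl_zero, TrivSqZeroExt.inr_zero, add_zero]
  map_add' x y := by
    rw [map_add, map_add, TrivSqZeroExt.inl_add, TrivSqZeroExt.inr_add]
    abel

/-- Carrier of the extension attached to `D`. -/
@[nolint unusedArguments]
def DerC (_D : Derivation Λ A L) : Type v := TrivSqZeroExt C L

instance (D : Derivation Λ A L) : CommRing (DerC (C := C) D) := inferInstanceAs (CommRing (TrivSqZeroExt C L))

noncomputable instance (D : Derivation Λ A L) : Algebra A (DerC (C := C) D) :=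
  (derHom (C := C) D : A →+* DerC (C := C) D).toAlgebra

/-- The extension attached to a derivation, with the base in any universe. -/
noncomputable def derExt (D : Derivation Λ A L) : Exal.Ext A C L where
  E := DerC (C := C) D
  proj :=
    { toFun := fun x => TrivSqZeroExt.fst x
      map_one' := TrivSqZeroExt.fst_one
      map_mul' := TrivSqZeroExt.fst_mul
      map_zero' := TrivSqZeroExt.fst_zero
      map_add' := TrivSqZeroExt.fst_add
      commutes' := fun x => by
        change TrivSqZeroExt.fst (TrivSqZeroExt.inl (algebraMap A C x) + TrivSqZeroExt.inr (D x)) = _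
        rw [TrivSqZeroExt.fst_add, TrivSqZeroExt.fst_inl, TrivSqZeroExt.fst_inr, add_zero] }
  incl := (TrivSqZeroExt.inrHom C L).toAddMonoidHom
  isExtension :=
    { proj_surjective := fun c => ⟨TrivSqZeroExt.inl c, rfl⟩
      incl_injective := TrivSqZeroExt.inr_injective
      exact := fun x => ⟨fun hx => ⟨TrivSqZeroExt.snd x, TrivSqZeroExt.ext hx.symm rfl⟩, by rintro ⟨z, rfl⟩; rfl⟩
      mul_incl := fun x z => by
        refine TrivSqZeroExt.ext ?_ ?_
        · change TrivSqZeroExt.fst x * 0 = 0
          exact mul_zero _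
        · change TrivSqZeroExt.fst x • z + MulOpposite.op (0 : C) • TrivSqZeroExt.snd x = TrivSqZeroExt.fst x • z
          rw [MulOpposite.op_zero, zero_smul, add_zero] }
end

/-- Surjectivity at the end of the sequence. For ring maps Λ → A → B → C and a C-module L, every
Λ-trivial A-extension of B by L is equivalent to the inverse image along B → C of a Λ-trivial
A-extension of C by L. (Exactness at the other places is that of the six-term derivation-extension
sequence restricted to Λ-trivial classes.) -/
theorem result {Λ : Type u} {A : Type u'} {B C L : Type v}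
    [CommRing Λ] [CommRing A] [CommRing B] [CommRing C] [Algebra Λ A] [Algebra Λ B] [Algebra Λ C]
    [Algebra A B] [Algebra B C] [Algebra A C] [IsScalarTower Λ A B] [IsScalarTower Λ A C] [IsScalarTower A B C]
    [AddCommGroup L] [Module C L] [Module B L] [IsScalarTower B C L]
    (Y : Exal.Ext A B L) (hY : Y.IsTrivialOver Λ) :
    ∃ X : Exal.Ext A C L, X.IsTrivialOver Λ ∧ Nonempty ((X.pullback B).Equiv Y) := by
  open ExalBasic in
  obtain ⟨s, hs⟩ := hY
  letI : Algebra Λ Y.E := inferInstanceAs (Algebra Λ (Y.RestrictCarrier Λ))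
  letI : Module A L := Module.compHom L (algebraMap A B)
  haveI : IsScalarTower A B L := IsScalarTower.of_algebraMap_smul fun _ _ => rfl
  letI : Module Λ L := Module.compHom L (algebraMap Λ B)
  haveI : IsScalarTower Λ A L := IsScalarTower.of_algebraMap_smul fun r z => by
    show algebraMap A B (algebraMap Λ A r) • z = algebraMap Λ B r • z
    rw [← IsScalarTower.algebraMap_apply]
  haveI : IsScalarTower A C L := IsScalarTower.of_algebraMap_smul fun a z => by
    show algebraMap A C a • z = algebraMap A B a • z
    rw [IsScalarTower.algebraMap_apply A B C, IsScalarTower.algebraMap_smul]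
  let s' : B →ₐ[Λ] Y.E := s
  let g : A →ₐ[Λ] Y.E := { algebraMap A Y.E with commutes' := fun a => rfl }
  let t : A →ₐ[Λ] Y.E := s'.comp (IsScalarTower.toAlgHom Λ A B)
  let D : Derivation Λ A L := diffDerivation Y g t (fun a => Y.proj.commutes a) (fun a => hs _)
  have hD : ∀ a, Y.incl (D a) = algebraMap A Y.E a - s' (algebraMap A B a) :=
    incl_diffDerivation Y g t (fun a => Y.proj.commutes a) (fun a => hs _)
  let X : Exal.Ext A C L := derExt (C := C) D
  refine ⟨X, ?_, ?_⟩
  · refine ⟨{ toFun := fun c => (TrivSqZeroExt.inl c : TrivSqZeroExt C L)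
              map_one' := TrivSqZeroExt.inl_one L
              map_mul' := TrivSqZeroExt.inl_mul L
              map_zero' := TrivSqZeroExt.inl_zero L
              map_add' := TrivSqZeroExt.inl_add L
              commutes' := fun l => ?_ }, fun c => rfl⟩
    show (TrivSqZeroExt.inl (algebraMap Λ C l) : TrivSqZeroExt C L) =
      TrivSqZeroExt.inl (algebraMap A C (algebraMap Λ A l)) + TrivSqZeroExt.inr (D (algebraMap Λ A l))
    rw [D.map_algebraMap, TrivSqZeroExt.inr_zero, add_zero, ← IsScalarTower.algebraMap_apply]
  · let φ : X.fiberProd B → Y.E := fun x => s' x.1.2 + Y.incl (TrivSqZeroExt.snd (x.1.1 : TrivSqZeroExt C L))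
    have hfst : ∀ x : X.fiberProd B, TrivSqZeroExt.fst (x.1.1 : TrivSqZeroExt C L) = algebraMap B C x.1.2 := fun x => x.2
    let f : (X.pullback B).E →ₐ[A] Y.E :=
      { toFun := φ
        map_one' := by
          show s' 1 + Y.incl (TrivSqZeroExt.snd (1 : TrivSqZeroExt C L)) = 1
          rw [TrivSqZeroExt.snd_one, map_one, map_zero, add_zero]
        map_mul' := fun (x y : X.fiberProd B) => by
          show s' (x.1.2 * y.1.2) + Y.incl (TrivSqZeroExt.snd (HMul.hMul (α := TrivSqZeroExt C L) (β := TrivSqZeroExt C L)
            (γ := TrivSqZeroExt C L) x.1.1 y.1.1)) = φ x * φ y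
          rw [TrivSqZeroExt.snd_mul, op_smul_eq_smul, hfst, hfst, IsScalarTower.algebraMap_smul,
            IsScalarTower.algebraMap_smul, map_mul, map_add, incl_smul Y (hs x.1.2), incl_smul Y (hs y.1.2)]
          show _ = (s' x.1.2 + _) * (s' y.1.2 + _)
          linear_combination (-1 : Y.E) * incl_mul_incl Y (TrivSqZeroExt.snd (x.1.1 : TrivSqZeroExt C L)) (TrivSqZeroExt.snd (y.1.1 : TrivSqZeroExt C L))
        map_zero' := by
          show s' 0 + Y.incl (TrivSqZeroExt.snd (0 : TrivSqZeroExt C L)) = 0
          rw [TrivSqZeroExt.snd_zero, map_zero, map_zero, add_zero]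
        map_add' := fun (x y : X.fiberProd B) => by
          show s' (x.1.2 + y.1.2) + Y.incl (TrivSqZeroExt.snd (HAdd.hAdd (α := TrivSqZeroExt C L) (β := TrivSqZeroExt C L)
            (γ := TrivSqZeroExt C L) x.1.1 y.1.1)) = φ x + φ y
          rw [TrivSqZeroExt.snd_add, map_add, map_add]
          show _ = (s' x.1.2 + _) + (s' y.1.2 + _)
          abel
        commutes' := fun a => by
          show s' (algebraMap A B a) + Y.incl (TrivSqZeroExt.snd (TrivSqZeroExt.inl (algebraMap A C a) + TrivSqZeroExt.inr (D a) : TrivSqZeroExt C L)) = _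
          rw [TrivSqZeroExt.snd_add, TrivSqZeroExt.snd_inl, TrivSqZeroExt.snd_inr, zero_add, hD, add_sub_cancel] }
    obtain ⟨e, -⟩ := equiv_of_hom (Y := Y) f (fun (x : X.fiberProd B) => by
        show Y.proj (s' x.1.2 + Y.incl _) = x.1.2
        rw [map_add, proj_incl, add_zero]
        exact hs _)
      (fun z => by
        show s' 0 + Y.incl (TrivSqZeroExt.snd (TrivSqZeroExt.inr z : TrivSqZeroExt C L)) = Y.incl z
        rw [TrivSqZeroExt.snd_inr, map_zero, zero_add])
    exact ⟨e⟩

end Groth.Agent.S5832
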