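import Groth.Statements.S5833
import Groth.Agent.H05EGA4.CharHomInf

set_option autoImplicit false
universe u v
open scoped TensorProduct
open EGA41

open Groth.Agent.H05EGA4
namespace Groth.Agent.S5833

/-- Let Λ → A → B be ring maps, K an ideal of B, C = B ⧸ K, and suppose E = B ⧸ K², as an extension of C
by K/K², is Λ-trivial. Let χ : Υ_{C/A/Λ} → K/K² be the characteristic homomorphism of E as an
A-extension, relative to Λ → A. Then: (a) the kernel of χ consists of the elements of Υ_{C/A/Λ} ⊆ C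
⊗_A Ω_{A/Λ} whose image in C ⊗_B Ω_{B/Λ} is zero (that image map is written as the base change to C
of B ⊗_A Ω_{A/Λ} → Ω_{B/Λ}, through the canonical identification C ⊗_B (B ⊗_A Ω_{A/Λ}) = C ⊗_A
Ω_{A/Λ}); (b) the image of χ is the kernel of the conormal map K/K² → C ⊗_B Ω_{B/A}, x ↦ 1 ⊗ dx.
This is the exact sequence 0 → Υ^C_{B/A/Λ} → Υ_{C/A/Λ} → K/K² → C ⊗_B Ω_{B/A} → Ω_{C/A} → 0 up to
its last two (conormal-sequence) terms. -/
theorem result {Λ : Type u} {A B : Type v} [CommRing Λ]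
    [CommRing A] [CommRing B] [Algebra Λ A] [Algebra Λ B] [Algebra A B] [IsScalarTower Λ A B] (K : Ideal B)
    (htriv : ((Exal.Ext.infinitesimal K).restrictBase A).IsTrivialOver Λ)
    (χ : ↥(EGA41.imperfection Λ A (B ⧸ K)) →ₗ[B ⧸ K] K.Cotangent)
    (hχ : ((Exal.Ext.infinitesimal K).restrictBase A).IsCharHom Λ χ) :
    (∀ z : ↥(EGA41.imperfection Λ A (B ⧸ K)),
        χ z = 0 ↔
          ((KaehlerDifferential.mapBaseChange Λ A B).baseChange (B ⧸ K))
              ((TensorProduct.AlgebraTensorModule.cancelBaseChange A B (B ⧸ K) (B ⧸ K) Ω[A⁄Λ]).symm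
                (z : (B ⧸ K) ⊗[A] Ω[A⁄Λ])) = 0) ∧
      ∀ (x : B) (hx : x ∈ K),
        K.toCotangent ⟨x, hx⟩ ∈ LinearMap.range χ ↔
          (1 : B ⧸ K) ⊗ₜ[B] KaehlerDifferential.D A B x = (0 : (B ⧸ K) ⊗[B] Ω[B⁄A]) := by
  exact CharHomInf.exact_charHom K htriv χ hχ

end Groth.Agent.S5833
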