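import Groth.Statements.S5835
import Groth.Agent.H05EGA4.FieldSep

set_option autoImplicit false
universe v w
open scoped TensorProduct
open EGA41

namespace Groth.Agent.S5835

/-- For fields k₀ ⊆ k ⊆ K ⊆ L, the map of imperfection modules Υ_{L/K/k₀} → Υ_{L/K/k} induced by
Ω_{K/k₀} → Ω_{K/k} is injective (k is k₀-admissible for the extension L of K) in each of the
following cases: L is separable over k; L is separable over K; k lies in k₀(K^p), p the
characteristic exponent. Separable means geometrically reduced (not necessarily algebraic). -/
theorem result {k : Type v} {k₀ K L : Type w}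
    [Field k₀] [Field k] [Field K] [Field L] [Algebra k₀ k] [Algebra k₀ K] [Algebra k₀ L] [Algebra k K]
    [Algebra k L] [Algebra K L] [IsScalarTower k₀ k K] [IsScalarTower k₀ k L] [IsScalarTower k₀ K L]
    [IsScalarTower k K L] (p : ℕ) [ExpChar K p]
    (h : Algebra.IsGeometricallyReduced k L ∨ Algebra.IsGeometricallyReduced K L ∨
      ∀ x : k, algebraMap k K x ∈ EGA41.pPowerSubalgebra p k₀ K) :
    ∀ z : L ⊗[K] Ω[K⁄k₀], z ∈ EGA41.imperfection k₀ K L →
      (KaehlerDifferential.map k₀ k K K).baseChange L z = 0 → z = 0 := by
  intro z hz hz0
  have hKL : Algebra.FormallySmooth K L → z = 0 := fun hfs => by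
    haveI := hfs
    exact Groth.Agent.H05EGA4.FieldSep.injective_of_formallySmooth k₀ K L (hz.trans (map_zero _).symm)
  rcases h with h | h | h
  · haveI := h
    haveI := Groth.Agent.H05EGA4.FieldSep.formallySmooth_of_isGeometricallyReduced k L
    have hker := lTensor_exact L (KaehlerDifferential.exact_mapBaseChange_map k₀ k K)
      (KaehlerDifferential.map_surjective k₀ k K)
    obtain ⟨η, rfl⟩ := (hker z).1 hz0
    let e : L ⊗[K] (K ⊗[k] Ω[k⁄k₀]) ≃ₗ[L] L ⊗[k] Ω[k⁄k₀] :=
      TensorProduct.AlgebraTensorModule.cancelBaseChange k K L L Ω[k⁄k₀]
    have hnat : ∀ y, KaehlerDifferential.mapBaseChange k₀ K L ((KaehlerDifferential.mapBaseChange k₀ k K).lTensor L y) =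
        KaehlerDifferential.mapBaseChange k₀ k L (e y) := by
      intro y
      induction y using TensorProduct.induction_on with
      | zero => simp
      | add a b ha hb => simp only [map_add, ha, hb]
      | tmul l x =>
        induction x using TensorProduct.induction_on with
        | zero => simp
        | add a b ha hb => simp only [TensorProduct.tmul_add, map_add, ha, hb]
        | tmul c w =>
          simp only [e, LinearMap.lTensor_tmul, TensorProduct.AlgebraTensorModule.cancelBaseChange_tmul,
            KaehlerDifferential.mapBaseChange_tmul, map_smul, LinearMap.map_smul_of_tower]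
          have hw : w ∈ Submodule.span k (Set.range (KaehlerDifferential.D k₀ k)) := by
            rw [KaehlerDifferential.span_range_derivation]; trivial
          rw [smul_assoc, smul_comm c l]
          congr 2
          induction hw using Submodule.span_induction with
          | mem y hy =>
            obtain ⟨a, rfl⟩ := hy
            simp only [KaehlerDifferential.map_D, ← IsScalarTower.algebraMap_apply]
          | zero => simp
          | add a b _ _ ha hb => simp only [map_add, ha, hb]
          | smul a x _ hx => simp only [map_smul, LinearMap.map_smul_of_tower, hx]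
    have h0 : e η = 0 := Groth.Agent.H05EGA4.FieldSep.injective_of_formallySmooth k₀ k L
      (((hnat η).symm.trans hz).trans (map_zero _).symm)
    rw [e.map_eq_zero_iff.1 h0, map_zero]
  · haveI := h
    exact hKL (Groth.Agent.H05EGA4.FieldSep.formallySmooth_of_isGeometricallyReduced K L)
  · rcases Groth.Agent.H05EGA4.FieldSep.map_injective_of_le p h with hi | rfl
    · have hi' : Function.Injective ((KaehlerDifferential.map k₀ k K K).lTensor L) :=
        Module.Flat.lTensor_preserves_injective_linearMap _ hi
      exact hi' (hz0.trans (map_zero _).symm)
    · haveI : CharP K 0 := by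
        cases ‹ExpChar K 1› with
        | zero => exact CharP.ofCharZero K
        | prime hp => exact absurd hp Nat.not_prime_one
      haveI : CharZero K := CharP.charP_to_charZero K
      exact hKL (Groth.Agent.H05EGA4.formallySmooth_of_perfectField K L)

end Groth.Agent.S5835
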