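import Groth.Statements.S5840
import Groth.Agent.H26ZClos.Basic
import Groth.Agent.H10Coh.QCohOps
import Mathlib.CategoryTheory.Limits.FunctorCategory.Basic

set_option autoImplicit false
universe u
open ZClos

namespace Groth.Agent.S5840

open CategoryTheory CategoryTheory.Limits AlgebraicGeometry in
/-- For a locally Noetherian scheme X and a subset Z of X stable under specialization, the Z-closure
functor F ↦ H⁰_{X/Z}(F) on O_X-modules (the filtered colimit, over the closed subsets T of X inside
Z, of the direct images of the restrictions of F to X ∖ T) is left exact: it preserves finite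
limits. -/
theorem result (X : Scheme.{u}) [IsLocallyNoetherian X] (Z : Set X)
    (hZ : StableUnderSpecialization Z) : PreservesFiniteLimits (ZClos.H0 Z) := by
  haveI hU : ∀ U : X.Opens, PreservesFiniteLimits (ZClos.resPush U) := fun U => inferInstance
  haveI : PreservesFiniteLimits (ZClos.diagram Z) := ⟨fun J _ _ => preservesLimitsOfShape_of_evaluation _ J fun T =>
    (inferInstance : PreservesLimitsOfShape J (ZClos.resPush T.U))⟩
  haveI : PreservesFiniteLimits (colim : (ZClos.Cl Z ⥤ X.Modules) ⥤ X.Modules) := HasExactColimitsOfShape.preservesFiniteLimits
  exact comp_preservesFiniteLimits _ _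

end Groth.Agent.S5840
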