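import Groth.Statements.S5841
import Groth.Agent.H26ZClos.Basic
import Groth.Agent.H10Coh.QCohExt
import Groth.Agent.H10Coh.QcqsPush

set_option autoImplicit false
universe u
open ZClos

namespace Groth.Agent.S5841

open CategoryTheory CategoryTheory.Limits AlgebraicGeometry in
/-- For a locally Noetherian scheme X, a subset Z of X stable under specialization and a quasi-coherent
O_X-module F, the Z-closure H⁰_{X/Z}(F) is quasi-coherent. -/
theorem result (X : Scheme.{u}) [IsLocallyNoetherian X] (Z : Set X)
    (hZ : StableUnderSpecialization Z) (F : X.Modules) (hF : Coh.IsQCoh F) :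
    Coh.IsQCoh ((ZClos.H0 Z).obj F) := by
  haveI : F.IsQuasicoherent := hF
  refine H10Coh.isQuasicoherent_colimit ((ZClos.diagram Z).obj F) fun T => ?_
  haveI := Scheme.Modules.isQuasicoherent_restrictFunctor T.U.ι F
  exact H10Coh.isQuasicoherent_pushforward T.U.ι _

end Groth.Agent.S5841
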