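import Groth.Statements.S5845
import Groth.Agent.H26ZClos.Crit

set_option autoImplicit false
universe u
open ZClos

namespace Groth.Agent.S5845

open CategoryTheory CategoryTheory.Limits AlgebraicGeometry in
/-- a) ⇔ b'), bijective case: for a locally Noetherian scheme X, a subset Z of X stable under
specialization and an arbitrary O_X-module F, F is Z-closed if and only if for every closed subset T
of X contained in Z and every quasi-compact (that is, Noetherian) open subset V of X, the
restriction map Γ(V, F) → Γ(V ∩ (X ∖ T), F) is bijective. -/
theorem result (X : Scheme.{u}) [IsLocallyNoetherian X] (Z : Set X)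
    (hZ : StableUnderSpecialization Z) (F : X.Modules) :
    ZClos.IsZClosed Z F ↔ ∀ (T : ZClos.Cl Z) (V : X.Opens), IsCompact (V : Set X) →
      Function.Bijective (F.presheaf.map (homOfLE (inf_le_left : V ⊓ T.U ≤ V)).op) := by
  rw [H26ZClos.isZClosed_iff_res]
  refine ⟨fun h T V _ => h T V, fun h T V => H26ZClos.bijective_of_basis F T.U X.isBasis_affineOpens (fun W hW => ?_) V⟩
  exact h T W (hW : IsAffineOpen W).isCompact

end Groth.Agent.S5845
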