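import Groth.Statements.S5852
import Groth.Agent.H26ZClos.Universal

set_option autoImplicit false
universe u
open ZClos

namespace Groth.Agent.S5852

open CategoryTheory CategoryTheory.Limits AlgebraicGeometry in
/-- For a locally Noetherian scheme X, a subset Z of X stable under specialization, O_X-modules F and F'
with F' Z-closed, and a homomorphism u : F → F' whose kernel and cokernel have support inside Z (the
map induced by u on stalks is bijective at every point outside Z): the homomorphism v : H⁰_{X/Z}(F)
→ F' with u = v ∘ ρ_{X/Z} is an isomorphism. -/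
theorem result (X : Scheme.{u}) [IsLocallyNoetherian X] (Z : Set X)
    (hZ : StableUnderSpecialization Z) (F F' : X.Modules) (hF' : ZClos.IsZClosed Z F') (u : F ⟶ F')
    (hu : ∀ x : X, x ∉ Z →
      Function.Bijective ((TopCat.Presheaf.stalkFunctor (C := Ab.{u}) x).map u.mapPresheaf))
    (v : (ZClos.H0 Z).obj F ⟶ F') (hv : ZClos.rhoApp Z F ≫ v = u) : IsIso v := by
  refine H26ZClos.isIso_of_stalk_bijective hZ (H26ZClos.isZClosed_H0 F)
    (by haveI : IsIso (ZClos.rhoApp Z F') := hF'; exact inferInstanceAs (Mono (ZClos.rhoApp Z F'))) v fun x hx => ?_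
  have h1 := hu x hx
  rw [← hv] at h1
  change Function.Bijective ((H26ZClos.stalkFun x).map (ZClos.rhoApp Z F ≫ v)) at h1
  rw [Functor.map_comp] at h1
  exact (Function.Bijective.of_comp_iff _ (H26ZClos.rhoStalk_bijective F hx)).1 h1

end Groth.Agent.S5852
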