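import Groth.Statements.S5858
import Groth.Agent.H17.ZDepth.Loci
-- import your own Groth.Agent.* helpers here

set_option autoImplicit false
universe u
open ZClos

namespace Groth.Agent.S5858

open CategoryTheory CategoryTheory.Limits AlgebraicGeometry in
/-- For a locally Noetherian scheme X, a subset Z of X stable under specialization and a coherent
O_X-module F whose Z-closure H⁰_{X/Z}(F) is coherent: for every associated point x of F outside Z
and every specialization y of x lying in Z, the closure of y has codimension at least 2 in the
closure of x, that is, the quotient of O_{X,y} by the prime ideal of the generization x has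
dimension at least 2. -/
theorem result (X : Scheme.{u}) [IsLocallyNoetherian X] (Z : Set X)
    (hZ : StableUnderSpecialization Z) (F : X.Modules) (hF : Coh.IsCoh F)
    (hH : Coh.IsCoh ((ZClos.H0 Z).obj F))
    (x : X) (hx : x ∈ AssSch.Ass F) (hxZ : x ∉ Z) (y : X) (hy : y ∈ Z) (h : x ⤳ y) :
    (2 : WithBot ℕ∞) ≤ ringKrullDim (X.presheaf.stalk y ⧸
      (IsLocalRing.maximalIdeal (X.presheaf.stalk x)).comap (X.presheaf.stalkSpecializes h).hom) := by
  exact Groth.Agent.H17.ZDepth.two_le_dim_quot hZ F hH hx hxZ hy h

end Groth.Agent.S5858
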