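import Groth.Statements.S5860
import Groth.Agent.H17.ZDepth.Loci
-- import your own Groth.Agent.* helpers here

set_option autoImplicit false
universe u
open ZClos

namespace Groth.Agent.S5860

open CategoryTheory CategoryTheory.Limits AlgebraicGeometry in
/-- Let X be a locally Noetherian scheme and F a coherent O_X-module with support all of X, having no
associated point at which the local ring of X has dimension 1, and such that F' = H⁰_{X/Z}(F) is
coherent, Z = Z^(2)(X) being the set of points whose local ring has dimension at least 2. Then F'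
satisfies (S_2): at every point x, depth(F'_x) ≥ min(2, dim F'_x). -/
theorem result (X : Scheme.{u}) [IsLocallyNoetherian X] (F : X.Modules) (hF : Coh.IsCoh F)
    (hsupp : ∀ x : X, Nontrivial (F.presheaf.stalk x))
    (hass : ∀ x ∈ AssSch.Ass F, ringKrullDim (X.presheaf.stalk x) ≠ 1)
    (hH : Coh.IsCoh ((ZClos.H0 (ZClos.dimGe X 2)).obj F)) (x : X) :
    min (2 : WithBot ℕ∞) (Module.supportDim (X.presheaf.stalk x) (((ZClos.H0 (ZClos.dimGe X 2)).obj F).presheaf.stalk x)) ≤
      ((LocCoh.depth (X.presheaf.stalk x) (((ZClos.H0 (ZClos.dimGe X 2)).obj F).presheaf.stalk x) : ℕ∞) : WithBot ℕ∞) := by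
  exact Groth.Agent.H17.ZDepth.hasS2_H0 hass hH x

end Groth.Agent.S5860
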