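import Groth.Statements.S5864
import Groth.Agent.H06RadPt.BiratFlat

set_option autoImplicit false
universe u
open RadPt

namespace Groth.Agent.S5864

open CategoryTheory AlgebraicGeometry in
/-- Let f : X → Y be a morphism of schemes whose induced morphism of reduced schemes is birational (f
maps the maximal points of X bijectively onto those of Y, with one-point fibres and trivial residue
field extensions over the maximal points of Y), g : Y' → Y a flat morphism and f' : X ×_Y Y' → Y'
the base change (any cartesian square). Then the morphism of reduced schemes induced by f' is
birational in the same sense. -/
theorem result {X Y X' Y' : Scheme.{u}} {f : X ⟶ Y} {g : Y' ⟶ Y} [Flat g] {f' : X' ⟶ Y'} {g' : X' ⟶ X}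
    (sq : IsPullback g' f' f g) (hf : RadPt.IsBirational f) : RadPt.IsBirational f' := by
  exact Groth.Agent.H06RadPt.isBirational_of_isPullback sq hf

end Groth.Agent.S5864
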