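import Groth.Statements.S5869
import Groth.Agent.H17.ZFinite.Spec
-- import your own Groth.Agent.* helpers here

set_option autoImplicit false
universe u
open ZClos

namespace Groth.Agent.S5869

open CategoryTheory CategoryTheory.Limits AlgebraicGeometry in
/-- a) ⇔ b): for a Noetherian ring A with X = Spec A, the following are equivalent: a) for every prime
ideal q of A, writing B = A/q, the ring B^(1) (intersection of the localizations of B at its
height-one primes) is a finite B-algebra; b) for every finite A-module M and every subset Z of X
stable under specialization such that, for every associated prime p of M not in Z and every prime p'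
∈ Z containing p, the image of p' in A/p has height at least 2, the Z-closure H⁰_{X/Z} of the module
M~ is coherent. -/
theorem result (A : Type u) [CommRing A] [IsNoetherianRing A] :
    (∀ (q : Ideal A) [q.IsPrime], EGA4.HeightOneHullFinite (A ⧸ q)) ↔
      ∀ (M : Type u) [AddCommGroup M] [Module A M] [Module.Finite A M]
        (Z : Set (PrimeSpectrum A)), StableUnderSpecialization Z →
        (∀ x : PrimeSpectrum A, x.asIdeal ∈ associatedPrimes A M → x ∉ Z →
          ∀ y ∈ Z, x.asIdeal ≤ y.asIdeal → (2 : ℕ∞) ≤ (y.asIdeal.map (Ideal.Quotient.mk x.asIdeal)).height) →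
        Coh.IsCoh ((ZClos.H0 (X := Spec (CommRingCat.of A)) Z).obj (EGA4.tildeOf A M)) := by
  exact ⟨fun hA M _ _ _ Z hZ hcond => Groth.Agent.H17.ZFinite.isCoh_H0_tilde hA M Z hZ hcond,
    fun h q _ => Groth.Agent.H17.ZFinite.heightOneHullFinite_of_isCoh h q⟩

end Groth.Agent.S5869
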