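import Groth.Statements.S5870
import Groth.Agent.H26ZClos.Universal

set_option autoImplicit false
universe u
open ZClos

namespace Groth.Agent.S5870

open CategoryTheory CategoryTheory.Limits AlgebraicGeometry in
/-- For a locally Noetherian scheme X, a subset Z of X stable under specialization and an arbitrary
O_X-module F, the Z-closure H⁰_{X/Z}(F) is zero if and only if the support of F is contained in Z,
that is, the stalk of F at every point outside Z is zero. -/
theorem result (X : Scheme.{u}) [IsLocallyNoetherian X] (Z : Set X)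
    (hZ : StableUnderSpecialization Z) (F : X.Modules) :
    IsZero ((ZClos.H0 Z).obj F) ↔ ∀ x : X, x ∉ Z → Subsingleton (F.presheaf.stalk x) := by
  constructor
  · intro h x hx
    haveI : Subsingleton (((ZClos.H0 Z).obj F).presheaf.stalk x) := by
      haveI := H26ZClos.preservesColimitsOfShape_stalkFun x (ZClos.Cl Z)
      haveI : (H26ZClos.stalkFun (X := X) x).PreservesZeroMorphisms := by
        haveI : (H26ZClos.toAb (X := X)).PreservesZeroMorphisms := ⟨fun _ _ => rfl⟩
        unfold H26ZClos.stalkFun
        infer_instance
      exact AddCommGrpCat.subsingleton_of_isZero ((H26ZClos.stalkFun x).map_isZero h)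
    exact (H26ZClos.rhoStalk_bijective F hx).1.subsingleton
  intro h
  have hp : ZClos.IsZPure Z ((ZClos.H0 Z).obj F) := by
    haveI : IsIso (ZClos.rhoApp Z ((ZClos.H0 Z).obj F)) := H26ZClos.isZClosed_H0 F
    exact inferInstanceAs (Mono (ZClos.rhoApp Z ((ZClos.H0 Z).obj F)))
  rw [IsZero.iff_id_eq_zero]
  ext W a
  show a = 0
  refine H26ZClos.eq_of_germ_eq hZ hp _ _ fun x hx hxZ => ?_
  haveI := h x hxZ
  haveI : Subsingleton (((ZClos.H0 Z).obj F).presheaf.stalk x) := (H26ZClos.rhoStalk_bijective F hxZ).2.subsingleton
  exact Subsingleton.elim _ _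

end Groth.Agent.S5870
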