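import Groth.Statements.S5873
import Groth.Agent.H8Norm.AssGeneric

set_option autoImplicit false
universe u
open CategoryTheory AlgebraicGeometry
open Cons9

namespace Groth.Agent.S5873

/-- Let S be an integral Noetherian scheme with generic point η, f : X ⟶ S a morphism of finite type and
F a coherent O_X-module; for s in S write F_s for the pullback of F to the scheme-theoretic fibre
X_s. For an associated point x of F_η let Z_x denote the closure in X of the image of x, and (Z_x)_s
its trace on X_s (the preimage under X_s ⟶ X). Then there is an open neighbourhood U of η such that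
for every s in U: (a) the associated points of F_s are exactly the maximal points (those admitting
no proper generization inside the set) of the sets (Z_x)_s, for x running over the associated points
of F_η, so that the associated prime cycles of F_s are the irreducible components of the (Z_x)_s;
(b) for distinct associated points x, x' of F_η the maximal points of (Z_x)_s and of (Z_x')_s are
pairwise distinct; (c) for every associated point x of F_η and every maximal point z of (Z_x)_s, the
point z is a maximal associated point of F_s (no other associated point of F_s generizes it) if and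
only if x is a maximal associated point of F_η. -/
theorem result {X S : Scheme.{u}} [IsIntegral S] [IsNoetherian S]
    (f : X ⟶ S) [LocallyOfFiniteType f] [QuasiCompact f]
    (F : X.Modules) [Coh.IsQCoh F] (hF : CohB1.IsFP F) :
    ∃ U : S.Opens, genericPoint S ∈ U ∧ ∀ s ∈ U,
      (AssSch.Ass ((Scheme.Modules.pullback (f.fiberι s)).obj F) =
          ⋃ x ∈ AssSch.Ass ((Scheme.Modules.pullback (f.fiberι (genericPoint S))).obj F),
            {z : ↥(f.fiber s) | z ∈ ((f.fiberι s).base ⁻¹' closure {(f.fiberι (genericPoint S)).base x}) ∧ ∀ z' ∈ ((f.fiberι s).base ⁻¹' closure {(f.fiberι (genericPoint S)).base x}), z' ⤳ z → z' = z}) ∧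
      (∀ x ∈ AssSch.Ass ((Scheme.Modules.pullback (f.fiberι (genericPoint S))).obj F), ∀ x' ∈ AssSch.Ass ((Scheme.Modules.pullback (f.fiberι (genericPoint S))).obj F), x ≠ x' →
          Disjoint {z : ↥(f.fiber s) | z ∈ ((f.fiberι s).base ⁻¹' closure {(f.fiberι (genericPoint S)).base x}) ∧ ∀ z' ∈ ((f.fiberι s).base ⁻¹' closure {(f.fiberι (genericPoint S)).base x}), z' ⤳ z → z' = z}
            {z : ↥(f.fiber s) | z ∈ ((f.fiberι s).base ⁻¹' closure {(f.fiberι (genericPoint S)).base x'}) ∧ ∀ z' ∈ ((f.fiberι s).base ⁻¹' closure {(f.fiberι (genericPoint S)).base x'}), z' ⤳ z → z' = z}) ∧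
      (∀ x ∈ AssSch.Ass ((Scheme.Modules.pullback (f.fiberι (genericPoint S))).obj F),
        ∀ z ∈ {z : ↥(f.fiber s) | z ∈ ((f.fiberι s).base ⁻¹' closure {(f.fiberι (genericPoint S)).base x}) ∧ ∀ z' ∈ ((f.fiberι s).base ⁻¹' closure {(f.fiberι (genericPoint S)).base x}), z' ⤳ z → z' = z},
          ((∀ y ∈ AssSch.Ass ((Scheme.Modules.pullback (f.fiberι s)).obj F), y ⤳ z → y = z) ↔
            (∀ y ∈ AssSch.Ass ((Scheme.Modules.pullback (f.fiberι (genericPoint S))).obj F), y ⤳ x → y = x))) := by
  exact H8Norm.AssGeneric.exists_nhd_ass f F ‹_› hF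

end Groth.Agent.S5873
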