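import Groth.Statements.S5886
import Groth.Agent.H17.ConsPropBasic

set_option autoImplicit false
universe u
open CategoryTheory AlgebraicGeometry
open ConsProp

namespace Groth.Agent.S5886

open CategoryTheory Limits AlgebraicGeometry TopologicalSpace Topology Set
open Groth.Agent.H17.ConsProp

/-- The property of an algebraic k-scheme X of being finite over k is a constructible property of
algebraic schemes (invariant under extension of the base field; over an integral Noetherian base,
for a family of finite type, the set of points with finite fibre or its complement contains a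
nonempty open subset). -/
theorem result :
    ConsProp.IsCons (fun Y T g => AlgebraicGeometry.IsFinite g) := by
  have key : ∀ {Y T : Scheme} (g : Y ⟶ T) [IsIntegral T] [Subsingleton T] [LocallyOfFiniteType g] [QuasiCompact g],
      IsFinite g ↔ topologicalKrullDim Y ≤ 0 := by
    intro Y T g _ _ _ _
    refine ⟨fun _ => ?_, fun h => ?_⟩
    · rw [← dim_fiber_eq_of_subsingleton g (genericPoint T)]
      exact (Groth.Agent.H7Flat.dim_fiber_le_iff g _ 0).2 fun x _ => (lqf_iff_fibreDimAt g).1 inferInstance x
    · haveI := fiber_finite_of_dim_le_zero g fun t => by rw [dim_fiber_eq_of_subsingleton g t]; exact h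
      exact IsFinite.of_locallyQuasiFinite g
  refine ⟨fun Y Y' T T' g g' e h _ _ _ _ _ _ hc => ?_, fun X S u _ _ _ _ => ?_⟩
  · haveI : LocallyOfFiniteType g' := MorphismProperty.of_isPullback hc ‹_›
    haveI : QuasiCompact g' := MorphismProperty.of_isPullback hc ‹_›
    show IsFinite g ↔ IsFinite g'
    rw [key g, key g', dim_eq_of_isPullback hc]
  · have : ConsProp.locus (fun Y T g => IsFinite g) u = {s | topologicalKrullDim (u.fiber s) ≤ 0} := by
      ext s
      haveI : LocallyOfFiniteType (u.fiberToSpecResidueField s) := Groth.Agent.H8Props.FieldDim.locallyOfFiniteType_fiberToSpec u s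
      haveI : QuasiCompact (u.fiberToSpecResidueField s) := MorphismProperty.pullback_snd _ _ ‹_›
      exact key _
    rw [this]
    haveI : LocallyOfFinitePresentation u := Groth.Agent.H12AlgSp.lfp_of_lft_of_isLocallyNoetherian u
    exact interior_or_of_isConstructible (Groth.Agent.H7Flat.isLocallyConstructible_dim_fiber_le u 0).isConstructible

end Groth.Agent.S5886
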