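import Groth.Statements.S5887
import Groth.Agent.H17.ConsPropBasic

set_option autoImplicit false
universe u
open CategoryTheory AlgebraicGeometry
open ConsProp

namespace Groth.Agent.S5887

open CategoryTheory Limits AlgebraicGeometry TopologicalSpace Topology Set
open Groth.Agent.H17.ConsProp

/-- The property of an algebraic k-scheme X of being radicial over k (structure morphism universally
injective) is a constructible property of algebraic schemes. -/
theorem result :
    ConsProp.IsCons (fun Y T g => AlgebraicGeometry.UniversallyInjective g) := by
  refine ⟨isFieldStable_universallyInjective, fun X S u _ _ _ _ => ?_⟩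
  have : ConsProp.locus (fun Y T g => UniversallyInjective g) u = {s : S | ∀ z : ↑(pullback u u),
      (𝟙 S : S ⟶ S) (u (pullback.fst u u z)) = s → z ∈ range (pullback.diagonal u)} := by
    ext s
    show UniversallyInjective (u.fiberToSpecResidueField s) ↔ _
    rw [universallyInjective_iff_of_mono (f' := u.fiberToSpecResidueField s)
      (IsPullback.of_hasPullback u (S.fromSpecResidueField s))]
    simp only [Scheme.range_fromSpecResidueField, mem_singleton_iff, mem_setOf_eq]
    rfl
  rw [this]
  exact interior_or_of_isConstructible (isConstructible_universallyInjective u (𝟙 S))

end Groth.Agent.S5887
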