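import Groth.Statements.S5888
import Groth.Agent.H17.ConsPropBasic

set_option autoImplicit false
universe u
open CategoryTheory AlgebraicGeometry
open ConsProp

namespace Groth.Agent.S5888

open CategoryTheory Limits AlgebraicGeometry TopologicalSpace Topology Set
open Groth.Agent.H17.ConsProp

/-- For a given set Φ of values (natural numbers, with −∞ = ⊥ the dimension of the empty scheme), the
property of an algebraic k-scheme X that the dimension of X belongs to Φ is a constructible property
of algebraic schemes. The dimension is the Krull dimension of the underlying topological space,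
valued in WithBot ℕ∞. -/
theorem result (Φ : Set (WithBot ℕ∞)) :
    ConsProp.IsCons (fun Y T g => topologicalKrullDim ↥Y ∈ Φ) := by
  refine ⟨fun Y Y' T T' g g' e h _ _ _ _ _ _ hc => by
    show topologicalKrullDim Y ∈ Φ ↔ topologicalKrullDim Y' ∈ Φ
    rw [dim_eq_of_isPullback hc], fun X S u _ _ _ _ => ?_⟩
  haveI : LocallyOfFinitePresentation u := Groth.Agent.H12AlgSp.lfp_of_lft_of_isLocallyNoetherian u
  have hle : ∀ d, IsConstructible {s : S | topologicalKrullDim (u.fiber s) ≤ d} := fun d =>
    (Groth.Agent.H7Flat.isLocallyConstructible_dim_fiber_le u d).isConstructible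
  obtain ⟨E, hE, hηE, hEeq⟩ : ∃ E : Set S, IsConstructible E ∧ genericPoint S ∈ E ∧
      ∀ s ∈ E, topologicalKrullDim (u.fiber s) = topologicalKrullDim (u.fiber (genericPoint S)) := by
    obtain ⟨n, hn⟩ := Groth.Agent.H7Flat.exists_nat_dim_fiber u (genericPoint S)
    generalize hd : topologicalKrullDim (u.fiber (genericPoint S)) = d at hn
    induction d with
    | bot => exact ⟨_, hle ⊥, hd.le, fun s hs => le_bot_iff.1 hs⟩
    | coe d =>
      obtain ⟨m, rfl⟩ : ∃ m : ℕ, d = m := by
        induction d with
        | top => exact absurd (WithBot.coe_le_coe.1 hn) (by exact not_le.2 (ENat.coe_lt_top n))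
        | coe m => exact ⟨m, rfl⟩
      rcases m with _ | m
      · refine ⟨_, (hle 0).sdiff (hle ⊥), ⟨hd.le, fun h => ?_⟩, fun s hs => le_antisymm hs.1 ?_⟩
        · have := hd.symm.trans_le h
          simp at this
        · rcases eq_or_ne (topologicalKrullDim (u.fiber s)) ⊥ with h | h
          · exact absurd h.le hs.2
          · obtain ⟨a, ha⟩ := WithBot.ne_bot_iff_exists.mp h
            rw [← ha]; exact WithBot.coe_le_coe.2 (by simp)
      · refine ⟨_, (hle ((m + 1 : ℕ) : ℕ∞)).sdiff (hle ((m : ℕ) : ℕ∞)), ⟨hd.le, fun h => ?_⟩, fun s hs => le_antisymm hs.1 ?_⟩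
        · have := hd.symm.trans_le h
          norm_cast at this
          omega
        · have h2 : ¬ topologicalKrullDim (u.fiber s) ≤ ((m : ℕ) : ℕ∞) := hs.2
          rcases eq_or_ne (topologicalKrullDim (u.fiber s)) ⊥ with h | h
          · exact absurd (h.le.trans bot_le) h2
          · obtain ⟨a, ha⟩ := WithBot.ne_bot_iff_exists.mp h
            rw [← ha] at h2 ⊢
            refine WithBot.coe_le_coe.2 ?_
            have h3 : ¬ a ≤ (m : ℕ∞) := fun e => h2 (WithBot.coe_le_coe.2 e)
            induction a with
            | top => exact le_top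
            | coe a => norm_cast at h3 ⊢; omega
  rcases interior_or_of_isConstructible hE with h | h
  · by_cases hΦ : topologicalKrullDim (u.fiber (genericPoint S)) ∈ Φ
    · exact .inl (h.mono (interior_mono fun s hs => show topologicalKrullDim (u.fiber s) ∈ Φ by rw [hEeq s hs]; exact hΦ))
    · exact .inr (h.mono (interior_mono fun s hs hs' => hΦ (hEeq s hs ▸ hs')))
  · exfalso
    obtain ⟨z, hz⟩ := h
    exact interior_subset ((genericPoint_specializes z).mem_open isOpen_interior hz) hηE

end Groth.Agent.S5888
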