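import Groth.Statements.S5889
import Groth.Agent.H17.ConsPropBasic

set_option autoImplicit false
universe u
open CategoryTheory AlgebraicGeometry
open ConsProp

namespace Groth.Agent.S5889

open CategoryTheory Limits AlgebraicGeometry TopologicalSpace Topology Set
open Groth.Agent.H17.ConsProp

/-- Being quasi-finite (locally of finite type, quasi-compact, with discrete fibres) is a constructible
property of morphisms of algebraic schemes. -/
theorem result :
    ConsProp.IsConsMor
      (fun X Y T f g => AlgebraicGeometry.LocallyOfFiniteType f ∧ AlgebraicGeometry.QuasiCompact f ∧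
        AlgebraicGeometry.LocallyQuasiFinite f) := by
  refine ⟨fun X X' Y Y' T T' f g f' g' eX eY h _ _ _ _ _ _ _ _ hY hX => ?_, fun X Y S f g _ _ _ _ _ _ => ?_⟩
  · haveI := surjective_of_subsingleton h
    haveI : Surjective eY := MorphismProperty.of_isPullback hY.flip ‹_›
    haveI : Surjective eX := MorphismProperty.of_isPullback hX.flip ‹_›
    haveI : LocallyOfFiniteType f := locallyOfFiniteType_of_comp f g
    haveI : IsLocallyNoetherian Y := LocallyOfFiniteType.isLocallyNoetherian g
    haveI : QuasiSeparated g := inferInstance
    haveI : QuasiCompact f := QuasiCompact.of_comp f g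
    haveI : LocallyOfFiniteType f' := MorphismProperty.of_isPullback hX ‹_›
    haveI : QuasiCompact f' := MorphismProperty.of_isPullback hX ‹_›
    simp only [lqf_iff_fibreDimAt, *, true_and]
    refine ⟨fun h' x' => by rw [Groth.Agent.H8Props.FieldDim.fibreDimAt_baseChange f hX]; exact h' _, fun h' x => ?_⟩
    obtain ⟨x', rfl⟩ := eX.surjective x
    rw [← Groth.Agent.H8Props.FieldDim.fibreDimAt_baseChange f hX]
    exact h' x'
  · haveI := isNoetherian_of_finiteType g
    haveI : LocallyOfFiniteType f := locallyOfFiniteType_of_comp f g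
    haveI : QuasiCompact f := QuasiCompact.of_comp f g
    haveI := isNoetherian_of_finiteType f
    have : ConsProp.locusMor (fun X Y T f g => LocallyOfFiniteType f ∧ QuasiCompact f ∧ LocallyQuasiFinite f) f g =
        {s | (f ≫ g) ⁻¹' {s} ⊆ {x | FlatMor.fibreDimAt f x ≤ 0}} := by
      ext s
      have hc := Groth.Agent.H8Props.FibreCriterion.isPullback_fiberMap f g s
      haveI : LocallyOfFiniteType (MoreMor.fiberMap f g s) := MorphismProperty.of_isPullback hc ‹_›
      haveI : QuasiCompact (MoreMor.fiberMap f g s) := MorphismProperty.of_isPullback hc ‹_›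
      constructor
      · rintro ⟨-, -, h⟩ x hx
        obtain ⟨x', rfl⟩ : x ∈ range ((f ≫ g).fiberι s) := ((f ≫ g).range_fiberι s).symm ▸ hx
        show FlatMor.fibreDimAt f _ ≤ 0
        rw [← Groth.Agent.H8Props.FieldDim.fibreDimAt_baseChange f hc]
        exact (lqf_iff_fibreDimAt _).1 h x'
      · intro h
        refine ⟨inferInstance, inferInstance, (lqf_iff_fibreDimAt _).2 fun x' => ?_⟩
        rw [Groth.Agent.H8Props.FieldDim.fibreDimAt_baseChange f hc]
        exact h (((f ≫ g).range_fiberι s).subset (mem_range_self x'))
    rw [this]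
    exact interior_or_of_isConstructible (isConstructible_locusMor_forall (f ≫ g)
      (Groth.Agent.H28Top.isConstructible_of_isOpen (Groth.Agent.H7Flat.isOpen_fibreDimAt_le' f 0)))

end Groth.Agent.S5889
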