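import Groth.Statements.S5890
import Groth.Agent.H17.ConsPropBasic

set_option autoImplicit false
universe u
open CategoryTheory AlgebraicGeometry
open ConsProp

namespace Groth.Agent.S5890

open CategoryTheory Limits AlgebraicGeometry TopologicalSpace Topology Set
open Groth.Agent.H17.ConsProp

/-- Being radicial (universally injective) is a constructible property of morphisms of algebraic
schemes. -/
theorem result :
    ConsProp.IsConsMor (fun X Y T f g => AlgebraicGeometry.UniversallyInjective f) := by
  refine ⟨fun X X' Y Y' T T' f g f' g' eX eY h _ _ _ _ _ _ _ _ hY hX => ?_, fun X Y S f g _ _ _ _ _ _ => ?_⟩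
  · haveI := surjective_of_subsingleton h
    haveI : Surjective eY := MorphismProperty.of_isPullback hY.flip ‹_›
    exact ⟨fun hf => MorphismProperty.of_isPullback hX hf, fun hf => universallyInjective_of_isPullback hX (h := hf)⟩
  · haveI := isNoetherian_of_finiteType g
    haveI : LocallyOfFiniteType f := locallyOfFiniteType_of_comp f g
    haveI : QuasiCompact f := QuasiCompact.of_comp f g
    have : ConsProp.locusMor (fun X Y T f g => UniversallyInjective f) f g = {s : S | ∀ z : ↑(pullback f f),
        g (f (pullback.fst f f z)) = s → z ∈ range (pullback.diagonal f)} := by
      ext s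
      show UniversallyInjective (MoreMor.fiberMap f g s) ↔ _
      rw [universallyInjective_iff_of_mono (Groth.Agent.H8Props.FibreCriterion.isPullback_fiberMap f g s)]
      simp only [Scheme.Hom.range_fiberι, mem_preimage, mem_singleton_iff, mem_setOf_eq]
    rw [this]
    exact interior_or_of_isConstructible (isConstructible_universallyInjective f g)

end Groth.Agent.S5890
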