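import Groth.Statements.S5901
import Groth.Agent.H17.ConsPairExists
import Groth.Agent.H06EGA8.Descend
import Groth.Agent.H06EGA8.DescendLQF
import Groth.Agent.H7Lim.DescendIso
import Groth.Agent.H7Lim.DescendDiagonal

set_option autoImplicit false
universe u
open CategoryTheory AlgebraicGeometry
open ConsPropPair

namespace Groth.Agent.S5901

open CategoryTheory Limits AlgebraicGeometry Groth.Agent.H7Lim Groth.Agent.H06EGA8

/-- Case of the property of being a monomorphism: let P(X, Y, k) be the relation between a field k and
two algebraic k-schemes X, Y: there are an extension field k′ of k (a one-point integral scheme T′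
over T = Spec k) and a k′-morphism g : X_(k′) ⟶ Y_(k′) between the base changes (cartesian squares
over T′ ⟶ T) which is a monomorphism of schemes. Then P is an ind-constructible property of pairs of
algebraic schemes. -/
theorem result :
    ConsPropPair.IsIndConsPair
      (fun X Y T gX gY => ∃ (T' X' Y' : Scheme.{u}) (h : T' ⟶ T) (gX' : X' ⟶ T') (gY' : Y' ⟶ T')
        (eX : X' ⟶ X) (eY : Y' ⟶ Y), IsIntegral T' ∧ Subsingleton ↥T' ∧
          IsPullback eX gX' gX h ∧ IsPullback eY gY' gY h ∧
            ∃ g : X' ⟶ Y', g ≫ gY' = gX' ∧ CategoryTheory.Mono g) := by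
  exact Groth.Agent.H17.ConsPair.isIndConsPair (MorphismProperty.monomorphisms Scheme.{u})
    (descends_mono.mono fun _ _ f (_ : LocallyOfFinitePresentation f) => (inferInstance : LocallyOfFiniteType f))

end Groth.Agent.S5901
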