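import Groth.Statements.S5903
import Groth.Agent.H17.ConsPairExists
import Groth.Agent.H06EGA8.Descend
import Groth.Agent.H06EGA8.DescendLQF
import Groth.Agent.H7Lim.DescendIso
import Groth.Agent.H7Lim.DescendDiagonal

set_option autoImplicit false
universe u
open CategoryTheory AlgebraicGeometry
open ConsPropPair

namespace Groth.Agent.S5903

open CategoryTheory Limits AlgebraicGeometry Groth.Agent.H7Lim Groth.Agent.H06EGA8

/-- Case of the property of being quasi-finite: let P(X, Y, k) be the relation between a field k and two
algebraic k-schemes X, Y: there are an extension field k′ of k (a one-point integral scheme T′ over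
T = Spec k) and a k′-morphism g : X_(k′) ⟶ Y_(k′) between the base changes (cartesian squares over
T′ ⟶ T) which is quasi-finite (locally of finite type, quasi-compact, with discrete fibres). Then P
is an ind-constructible property of pairs of algebraic schemes. -/
theorem result :
    ConsPropPair.IsIndConsPair
      (fun X Y T gX gY => ∃ (T' X' Y' : Scheme.{u}) (h : T' ⟶ T) (gX' : X' ⟶ T') (gY' : Y' ⟶ T')
        (eX : X' ⟶ X) (eY : Y' ⟶ Y), IsIntegral T' ∧ Subsingleton ↥T' ∧
          IsPullback eX gX' gX h ∧ IsPullback eY gY' gY h ∧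
            ∃ g : X' ⟶ Y', g ≫ gY' = gX' ∧ (AlgebraicGeometry.LocallyOfFiniteType g ∧ AlgebraicGeometry.QuasiCompact g ∧
              AlgebraicGeometry.LocallyQuasiFinite g)) := by
  let Q : MorphismProperty Scheme.{u} := fun _ _ g => LocallyOfFiniteType g ∧ QuasiCompact g ∧ LocallyQuasiFinite g
  haveI : Q.IsStableUnderBaseChange := by
    refine ⟨fun {_ _ _ _} f g f' g' sq h => ⟨?_, ?_, ?_⟩⟩
    · exact MorphismProperty.of_isPullback (P := @LocallyOfFiniteType) sq h.1
    · exact MorphismProperty.of_isPullback (P := @QuasiCompact) sq h.2.1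
    · exact MorphismProperty.of_isPullback (P := @LocallyQuasiFinite) sq h.2.2
  refine Groth.Agent.H17.ConsPair.isIndConsPair Q ?_
  intro J _ _ E d hd _ e _ _ T a _ _ ha h
  haveI : LocallyOfFinitePresentation a := ha
  obtain ⟨j, φ, hj⟩ := descendsAffine_locallyQuasiFinite.descends J E d hd e a (inferInstance : LocallyOfFiniteType a) h.2.2
  haveI : QuasiCompact a := quasiCompact_of_compactSpace a
  exact ⟨j, φ, inferInstance, inferInstance, hj⟩

end Groth.Agent.S5903
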