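import Groth.Statements.S5904
import Groth.Agent.H17.ConsPairExists
import Groth.Agent.H7Lim.Proper.Descend

set_option autoImplicit false
universe u
open CategoryTheory AlgebraicGeometry
open ConsPropPair

namespace Groth.Agent.S5904

/-- Case of the property of being proper: let P(X, Y, k) be the relation between a field k and two
algebraic k-schemes X, Y: there are an extension field k′ of k (a one-point integral scheme T′ over
T = Spec k) and a k′-morphism g : X_(k′) ⟶ Y_(k′) between the base changes (cartesian squares over
T′ ⟶ T) which is proper. Then P is an ind-constructible property of pairs of algebraic schemes. -/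
theorem result :
    ConsPropPair.IsIndConsPair
      (fun X Y T gX gY => ∃ (T' X' Y' : Scheme.{u}) (h : T' ⟶ T) (gX' : X' ⟶ T') (gY' : Y' ⟶ T')
        (eX : X' ⟶ X) (eY : Y' ⟶ Y), IsIntegral T' ∧ Subsingleton ↥T' ∧
          IsPullback eX gX' gX h ∧ IsPullback eY gY' gY h ∧
            ∃ g : X' ⟶ Y', g ≫ gY' = gX' ∧ AlgebraicGeometry.IsProper g) := by
  exact Groth.Agent.H17.ConsPair.isIndConsPair @AlgebraicGeometry.IsProper
    (Groth.Agent.H7Lim.descends_isProper.mono fun _ _ f (_ : LocallyOfFinitePresentation f) => inferInstance)

end Groth.Agent.S5904
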