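import Groth.Statements.S5909
import Groth.Agent.H06Mod.StalkFaithful
import Groth.Agent.H06Mod.StalkExact

set_option autoImplicit false
universe u
open CategoryTheory AlgebraicGeometry
open EGA43

namespace Groth.Agent.S5909

/-- Case Z_λ = X: let X be a scheme, (u_i : F ⟶ G_i) a finite family (finite index set) of homomorphisms
of quasi-coherent O_X-modules which is separating (a section of F over an open subset killed by
every u_i is zero), and g : X' ⟶ X a flat morphism. Then the family (g^*u_i : g^*F ⟶ g^*G_i) is
separating. (The published statement allows a finite family of homomorphisms into direct images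
(f_λ)_*G_λ along quasi-compact morphisms f_λ; this row is the case Z_λ = X, to which the general
case reduces.) -/
theorem result {X X' : Scheme.{u}} (F : X.Modules) [Coh.IsQCoh F] {ι : Type u} [Finite ι]
    (G : ι → X.Modules) [∀ i, Coh.IsQCoh (G i)] (u : ∀ i, F ⟶ G i) (g : X' ⟶ X) [Flat g]
    (h : ∀ (V : (X).Opens) (t : ↑((F).presheaf.obj (Opposite.op V))), (∀ i, (Scheme.Modules.Hom.mapPresheaf (u i)).app (Opposite.op V) t = 0) → t = 0) :
    ∀ (V : (X').Opens) (t : ↑(((Scheme.Modules.pullback g).obj F).presheaf.obj (Opposite.op V))), (∀ i, (Scheme.Modules.Hom.mapPresheaf ((Scheme.Modules.pullback g).map (u i))).app (Opposite.op V) t = 0) → t = 0 := by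
  classical
  haveI := Fintype.ofFinite ι
  intro V t ht
  refine TopCat.Presheaf.section_ext ⟨((Scheme.Modules.pullback g).obj F).presheaf,
    ((Scheme.Modules.pullback g).obj F).isSheaf⟩ V t 0 fun x hx => ?_
  let y := g.base x
  let L : F.presheaf.stalk y →ₗ[X.presheaf.stalk y] ∀ i, (G i).presheaf.stalk y :=
    LinearMap.pi fun i => H06Mod.stalkLin (u i) y
  have hL : Function.Injective L := by
    refine (injective_iff_map_eq_zero _).mpr fun m hm => ?_
    obtain ⟨U, hU, s, rfl⟩ := F.presheaf.exists_germ_eq m
    have hW : ∀ i, ∃ (W : X.Opens) (j : W ⟶ U), y ∈ W ∧ (u i).app W (F.presheaf.map j.op s) = 0 := by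
      intro i
      have hi : (G i).presheaf.germ U y hU ((u i).app U s) = (G i).presheaf.germ U y hU 0 := by
        rw [map_zero, ← H06Mod.stalkLin_germ]
        exact congrFun hm i
      obtain ⟨W, hyW, iU, iU', heq⟩ := (G i).presheaf.germ_eq y hU hU _ _ hi
      refine ⟨W, iU, hyW, ?_⟩
      rw [map_zero] at heq
      exact (congr($((u i).mapPresheaf.naturality iU.op) s)).trans heq
    choose W j hyW hjW using hW
    let W₀ : X.Opens := U ⊓ Finset.univ.inf W
    have hyW₀ : y ∈ W₀ := ⟨hU, by
      show y ∈ ((Finset.univ.inf W : X.Opens) : Set X)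
      rw [TopologicalSpace.Opens.coe_finset_inf]
      simp only [Finset.inf_eq_iInf, Set.iInf_eq_iInter, Set.mem_iInter]
      exact fun i _ => hyW i⟩
    have hz : F.presheaf.map (homOfLE (inf_le_left : W₀ ≤ U)).op s = 0 := by
      refine h W₀ _ fun i => ?_
      have hle : W₀ ≤ W i := inf_le_right.trans (Finset.inf_le (Finset.mem_univ i))
      rw [show F.presheaf.map (homOfLE (inf_le_left : W₀ ≤ U)).op s =
        F.presheaf.map (homOfLE hle).op (F.presheaf.map (j i).op s) by
          rw [← ConcreteCategory.comp_apply, ← F.presheaf.map_comp]; rfl]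
      refine (congr($((u i).mapPresheaf.naturality (homOfLE hle).op) (F.presheaf.map (j i).op s))).trans ?_
      show (G i).presheaf.map _ ((u i).app (W i) (F.presheaf.map (j i).op s)) = 0
      rw [hjW i, map_zero]
    rw [← F.presheaf.germ_res_apply (homOfLE (inf_le_left : W₀ ≤ U)) y hyW₀ s, hz, map_zero]
  letI := H06Mod.stalkAlgebra g x
  haveI : Module.Flat (X.presheaf.stalk y) (X'.presheaf.stalk x) := Flat.stalkMap g x
  rw [map_zero]
  obtain ⟨z, hz⟩ := (H06Mod.pullStalkLin_bijective g F x).2
    (((Scheme.Modules.pullback g).obj F).presheaf.germ V x hx t)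
  rw [← hz]
  suffices z = 0 by rw [this, map_zero]
  apply Module.Flat.lTensor_preserves_injective_linearMap L hL (M := X'.presheaf.stalk x)
  rw [map_zero]
  apply (TensorProduct.piRight (X.presheaf.stalk y) (X.presheaf.stalk y) (X'.presheaf.stalk x)
    (fun i => (G i).presheaf.stalk y)).injective
  rw [map_zero]
  funext i
  rw [Pi.zero_apply]
  have key : ∀ w, H06Mod.pullStalkLin g (G i) x (TensorProduct.piRight (X.presheaf.stalk y)
      (X.presheaf.stalk y) (X'.presheaf.stalk x) (fun i => (G i).presheaf.stalk y)
        (L.lTensor (X'.presheaf.stalk x) w) i) =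
      H06Mod.stalkLin ((Scheme.Modules.pullback g).map (u i)) x (H06Mod.pullStalkLin g F x w) := by
    intro w
    induction w using TensorProduct.induction_on with
    | zero => simp
    | add a b ha hb => simp only [map_add, Pi.add_apply, ha, hb]
    | tmul r m =>
      rw [LinearMap.lTensor_tmul, TensorProduct.piRight_apply, TensorProduct.piRightHom_tmul,
        H06Mod.pullStalkLin_tmul, H06Mod.pullStalkLin_tmul, map_smul]
      exact congrArg (r • ·) (H06Mod.pullStalk_naturality g F x (u i) m).symm
  apply (H06Mod.pullStalkLin_bijective g (G i) x).1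
  rw [key, hz, map_zero, H06Mod.stalkLin_germ]
  rw [show Scheme.Modules.Hom.app ((Scheme.Modules.pullback g).map (u i)) V t = 0 from ht i, map_zero]

end Groth.Agent.S5909
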