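import Groth.Statements.S5910
import Groth.Agent.H06Sep.SchemeSpec

set_option autoImplicit false
universe u
open CategoryTheory AlgebraicGeometry
open TensorProduct
open EGA43

namespace Groth.Agent.S5910

set_option backward.isDefEq.respectTransparency false

open Groth.Agent.H06Sep


open CategoryTheory.Limits in
/-- Separating assertion: over an affine base and in the case Z_λ = X: let A be a commutative ring, p :
X ⟶ Spec A an A-scheme, F a quasi-coherent O_X-module, (G_i) quasi-coherent O_X-modules flat over
Spec A and u_i : F ⟶ G_i homomorphisms. Let J be a nilpotent ideal of A all of whose successive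
quotients J^k/J^{k+1} are free (A/J)-modules, and X₀ = X ×_{Spec A} Spec(A/J). If the family of
pullbacks of the u_i to X₀ is separating (a section of the pulled-back F over an open subset killed
by every member is zero), then (u_i) is separating. (The published statement has an arbitrary base
S, a nilpotent quasi-coherent ideal of O_S whose successive quotients are locally free over O_S
modulo the ideal, homomorphisms into direct images (f_λ)_*G_λ, and the same assertion for
universally separating families; the assertion is local on S and on X, and this row is the case of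
an affine base with free successive quotients and Z_λ = X.) -/
theorem result {X : Scheme.{u}} (A : CommRingCat.{u}) (p : X ⟶ Spec A)
    (J : Ideal ↑A) (hJ : IsNilpotent J) (hfree : ∀ k : ℕ, Module.Free (↑A ⧸ J) ((↑A ⧸ J) ⊗[↑A] ↥(J ^ k)))
    (F : X.Modules) [Coh.IsQCoh F] {ι : Type u} (G : ι → X.Modules) [∀ i, Coh.IsQCoh (G i)]
    (hG : ∀ i, FlatMod.IsFlatOver p (G i)) (u : ∀ i, F ⟶ G i)
    (h0 : ∀ (V : (pullback p (Spec.map (CommRingCat.ofHom (Ideal.Quotient.mk J)))).Opens) (t : ↑(((Scheme.Modules.pullback (pullback.fst p (Spec.map (CommRingCat.ofHom (Ideal.Quotient.mk J))))).obj F).presheaf.obj (Opposite.op V))), (∀ i, (Scheme.Modules.Hom.mapPresheaf ((Scheme.Modules.pullback (pullback.fst p (Spec.map (CommRingCat.ofHom (Ideal.Quotient.mk J))))).map (u i))).app (Opposite.op V) t = 0) → t = 0) :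
    ∀ (V : (X).Opens) (t : ↑((F).presheaf.obj (Opposite.op V))), (∀ i, (Scheme.Modules.Hom.mapPresheaf (u i)).app (Opposite.op V) t = 0) → t = 0 := by
  exact separating_of_nilpotent p J hJ (fun k => haveI := hfree k; inferInstance) ‹_› (fun i => inferInstance) hG h0

end Groth.Agent.S5910
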