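import Groth.Statements.S5911
import Groth.Agent.H06SepFlat.Basic

set_option autoImplicit false
universe u
open TensorProduct
open EGA43

namespace Groth.Agent.S5911

/-- Let A be a Noetherian ring, J an ideal of A and M an A-module which is ideally separated for the
J-adic topology (for every ideal a of A the module a ⊗_A M is J-adically separated). Let (p_i) be a
finite family of prime ideals of A containing J, let J_n be the intersection of the symbolic powers
p_i^{(n)} (preimages in A of the n-th powers of the maximal ideals of the local rings A_{p_i}), and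
assume every power J^n contains some J_m. Then M is flat if and only if (A/J) ⊗_A M is flat over A/J
and M_{p_i} is flat over A_{p_i} for every i. -/
theorem result {A : Type u} [CommRing A] [IsNoetherianRing A]
    (J : Ideal A) (M : Type u) [AddCommGroup M] [Module A M]
    (hsep : ∀ a : Ideal A, IsHausdorff J (↥a ⊗[A] M))
    {r : ℕ} (p : Fin r → Ideal A) [∀ i, (p i).IsPrime] (hp : ∀ i, J ≤ p i)
    (htop : ∀ n : ℕ, ∃ m : ℕ,
      ⨅ i, Ideal.comap (algebraMap A (Localization.AtPrime (p i))) (IsLocalRing.maximalIdeal (Localization.AtPrime (p i)) ^ m) ≤ J ^ n) :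
    Module.Flat A M ↔
      Module.Flat (A ⧸ J) ((A ⧸ J) ⊗[A] M) ∧
        ∀ i, Module.Flat (Localization.AtPrime (p i)) (LocalizedModule (p i).primeCompl M) := by
  refine ⟨fun h => ⟨Module.Flat.baseChange A (A ⧸ J) M, fun i => ?_⟩, fun ⟨h1, h2⟩ => ?_⟩
  · haveI : Module.Flat (Localization.AtPrime (p i)) (Localization.AtPrime (p i) ⊗[A] M) :=
      Module.Flat.baseChange A _ M
    exact Module.Flat.of_linearEquiv (LocalizedModule.equivTensorProduct (p i).primeCompl M)
  · exact H06SepFlat.flat_of_symPow p J hsep hp htop

end Groth.Agent.S5911
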