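import Groth.Statements.S5912
import Groth.Agent.H06Flat.IdealSep

set_option autoImplicit false
universe u
open TensorProduct
open EGA43

namespace Groth.Agent.S5912

/-- Let A be a Noetherian ring, J an ideal of A and M an A-module which is ideally separated for the
J-adic topology (for every ideal a of A the module a ⊗_A M is J-adically separated), and suppose
every quotient J^k/J^{k+1} is a flat (A/J)-module (the associated graded ring of A along J is flat
over A/J). Then M is flat if and only if (A/J) ⊗_A M is flat over A/J and M_p is flat over A_p for
every associated prime p of the A-module A/J. -/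
theorem result {A : Type u} [CommRing A] [IsNoetherianRing A]
    (J : Ideal A) (M : Type u) [AddCommGroup M] [Module A M]
    (hsep : ∀ a : Ideal A, IsHausdorff J (↥a ⊗[A] M))
    (hgr : ∀ k : ℕ, Module.Flat (A ⧸ J) ((A ⧸ J) ⊗[A] ↥(J ^ k))) :
    Module.Flat A M ↔
      Module.Flat (A ⧸ J) ((A ⧸ J) ⊗[A] M) ∧
        ∀ q : associatedPrimes A (A ⧸ J),
          haveI : q.1.IsPrime := IsAssociatedPrime.isPrime q.2
          Module.Flat (Localization.AtPrime q.1) (LocalizedModule q.1.primeCompl M) := by
  classical
  constructor
  · intro h
    exact ⟨inferInstance, fun p =>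
      haveI : p.1.IsPrime := IsAssociatedPrime.isPrime p.2
      Module.Flat.of_linearEquiv (LocalizedModule.equivTensorProduct p.1.primeCompl M)⟩
  · rintro ⟨hJM, hloc⟩
    haveI := hJM
    refine H06Flat.flat_of_isIdeallySeparated J M hsep fun n => ?_
    cases n with
    | zero =>
      rw [pow_zero]
      haveI : Subsingleton (A ⧸ (1 : Ideal A)) := Ideal.Quotient.subsingleton_iff.mpr Ideal.one_eq_top
      infer_instance
    | succ n =>
      refine H06Flat.flat_quotient_pow J M hgr (fun q hq _ => ?_) n
      haveI := hloc ⟨q, hq⟩
      exact Module.Flat.of_linearEquiv (LocalizedModule.equivTensorProduct q.primeCompl M).symm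

end Groth.Agent.S5912
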