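import Groth.Statements.S5913
import Groth.Agent.H06Jacobson.Rings

set_option autoImplicit false
universe u
open CategoryTheory AlgebraicGeometry
open EGA43

namespace Groth.Agent.S5913

open EGA43
set_option linter.style.haveILetI false

/-- In the locally Noetherian form: a locally Noetherian scheme X is Jacobson if and only if it has no
subscheme isomorphic to the spectrum of a semi-local integral domain of dimension 1, i.e. there is
no immersion Spec R ⟶ X with R an integral domain having finitely many maximal ideals and Krull
dimension 1. -/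
theorem result (X : Scheme.{u}) [IsLocallyNoetherian X] :
    JacobsonSpace X ↔
      ∀ (R : CommRingCat.{u}) [IsDomain R] (i : Spec R ⟶ X) [IsImmersion i],
        ¬ (Finite (MaximalSpectrum R) ∧ ringKrullDim R = 1) := by
  constructor
  · intro hJ R _ i _ ⟨hfin, hdim⟩
    haveI : JacobsonSpace (Spec R) := by
      haveI : JacobsonSpace (i.coborderRange : Scheme) :=
        JacobsonSpace.of_isOpenEmbedding i.coborderRange.ι.isOpenEmbedding
      exact JacobsonSpace.of_isClosedEmbedding i.liftCoborder.isClosedEmbedding
    haveI : IsJacobsonRing R := PrimeSpectrum.isJacobsonRing_iff_jacobsonSpace.mpr this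
    haveI : IsLocallyNoetherian (Spec R) := LocallyOfFiniteType.isLocallyNoetherian i
    haveI : IsNoetherianRing R := isLocallyNoetherian_Spec.mp inferInstance
    let e : (R ⧸ (⊥ : Ideal R)) ≃+* R := RingEquiv.quotientBot R
    refine (H06Jacobson.isJacobsonRing_iff_no_semilocal_dim_one R).mp inferInstance ⊥ ⟨?_, ?_⟩
    · refine Finite.of_injective (fun m : MaximalSpectrum (R ⧸ (⊥ : Ideal R)) =>
        (⟨m.asIdeal.comap e.symm, Ideal.comap_isMaximal_of_surjective _ e.symm.surjective⟩ :
          MaximalSpectrum R)) fun a b hab => MaximalSpectrum.ext ?_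
      have h1 := congrArg MaximalSpectrum.asIdeal hab
      exact Ideal.comap_injective_of_surjective _ e.symm.surjective h1
    · rw [ringKrullDim_eq_of_ringEquiv e, hdim]
  · intro h
    have hcov : ∀ V : X.affineOpens, JacobsonSpace (V.1 : Set X) := by
      intro V
      haveI : IsNoetherianRing Γ(X, V) := IsLocallyNoetherian.component_noetherian V
      suffices IsJacobsonRing Γ(X, V) by
        haveI := this
        haveI : JacobsonSpace (Spec Γ(X, V)) := PrimeSpectrum.isJacobsonRing_iff_jacobsonSpace.mp this
        exact JacobsonSpace.of_isOpenEmbedding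
          (V.2.isoSpec.hom.isOpenEmbedding)
      refine (H06Jacobson.isJacobsonRing_iff_no_semilocal_dim_one _).mpr fun p _ hp => ?_
      haveI : IsClosedImmersion (Spec.map (CommRingCat.ofHom (Ideal.Quotient.mk p))) :=
        IsClosedImmersion.spec_of_surjective _ Ideal.Quotient.mk_surjective
      haveI : IsOpenImmersion V.2.fromSpec := V.2.isOpenImmersion_fromSpec
      haveI : IsImmersion (Spec.map (CommRingCat.ofHom (Ideal.Quotient.mk p))) := inferInstance
      haveI : IsImmersion V.2.fromSpec := inferInstance
      exact h (CommRingCat.of (Γ(X, V) ⧸ p))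
        (Spec.map (CommRingCat.ofHom (Ideal.Quotient.mk p)) ≫ V.2.fromSpec) hp
    exact (TopologicalSpace.IsOpenCover.jacobsonSpace_iff (iSup_affineOpens_eq_top X)).mpr hcov

end Groth.Agent.S5913
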