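import Groth.Statements.S5914
import Groth.Agent.H06EGA12.ConstrLoci

set_option autoImplicit false
universe u
open CategoryTheory AlgebraicGeometry
open EGA43

namespace Groth.Agent.S5914

/-- Let f : X ⟶ S be locally of finite presentation and F a quasi-coherent O_X-module of finite
presentation. For x in X with s = f x write F_s for the pullback of F to the fibre X_s and
prof*_x(F_s) = prof((F_s)_x) + dim cl_{X_s}{x} for its rectified depth at x (depth of the stalk of
F_s at x over the local ring of the fibre, which is +∞ for the zero stalk, plus the Krull dimension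
of the closure of x in the fibre). Then the function x ↦ prof*_x(F_{f(x)}) is locally constructible:
for every n in ℕ∞ the set of x with prof*_x(F_{f(x)}) = n is a locally constructible subset of X.
(The published statement calls the function constructible and takes its hypotheses from a
neighbouring result stated without a module; the hypotheses here, f locally of finite presentation
and F quasi-coherent of finite presentation, are the ones its proof uses, and local constructibility
of the level sets is what that proof establishes.) -/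
theorem result {X S : Scheme.{u}} (f : X ⟶ S) [LocallyOfFinitePresentation f]
    (F : X.Modules) [Coh.IsQCoh F] (hF : CohB1.IsFP F) (n : ℕ∞) :
    Topology.IsLocallyConstructible {x : X |
      ((CInt.fiberDepth f F x : ℕ∞) : WithBot ℕ∞) +
          topologicalKrullDim ↥(closure ({f.asFiber x} : Set ↥(f.fiber (f.base x)))) = ((n : ℕ∞) : WithBot ℕ∞)} := by
  have hdim : ∀ x : X, ∃ t : ℕ, topologicalKrullDim ↥(closure ({f.asFiber x} : Set ↥(f.fiber (f.base x)))) = (t : WithBot ℕ∞) ∧
      ((H8Props.FieldDim.cdim (f.asFiber x)).unbotD 0).toNat = t := by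
    intro x
    obtain ⟨c, hxc⟩ := H06EGA12.exists_chart f F hF x
    obtain ⟨p, Q, hQ⟩ := c.exists_corr (f.asFiber x) (by rw [f.fiberι_asFiber]; exact hxc)
    exact ⟨_, hQ.cdim_eq, by rw [hQ.cdim_eq]; rfl⟩
  have hge : ∀ N : ℕ, Topology.IsLocallyConstructible {x : X | (N : WithBot ℕ∞) ≤
      ((CInt.fiberDepth f F x : ℕ∞) : WithBot ℕ∞) +
        topologicalKrullDim ↥(closure ({f.asFiber x} : Set ↥(f.fiber (f.base x))))} := by
    intro N
    convert H06EGA12.isLocallyConstructible_onFibreDim
      (Φ := fun t A _ _ M _ _ => (N : WithBot ℕ∞) ≤ ((LocCoh.depth A M : ℕ∞) : WithBot ℕ∞) + (t : WithBot ℕ∞))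
      f F hF (fun t => H06EGA12.semilinearInvariant_le_depth_add N _) (H06EGA12.affineOpenDim_rectifiedDepth N) using 1
    ext x
    obtain ⟨t, ht, ht'⟩ := hdim x
    simp only [Set.mem_setOf_eq, H06EGA12.OnFibreDim, H06EGA12.OnFibre, ht']
    rw [ht]
    rfl
  induction n using ENat.recTopCoe with
  | top =>
    convert H06EGA12.isLocallyConstructible_onFibre f F hF H06EGA12.semilinearInvariant_depth_eq_top
      H06EGA12.affineOpenDim_depth_eq_top using 1
    ext x
    obtain ⟨t, ht, -⟩ := hdim x
    show _ ↔ CInt.fiberDepth f F x = ⊤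
    simp only [Set.mem_setOf_eq]
    rw [ht]
    generalize CInt.fiberDepth f F x = a
    constructor
    · intro h
      have h' : a + (t : ℕ∞) = ⊤ := WithBot.coe_inj.1 h
      exact (WithTop.add_eq_top.1 h').resolve_right (ENat.natCast_ne_top t)
    · rintro rfl
      exact WithBot.coe_inj.2 (top_add _)
  | coe m =>
    convert (hge m).inter (H06EGA12.isLocallyConstructible_compl (hge (m + 1))) using 1
    ext x
    obtain ⟨t, ht, -⟩ := hdim x
    simp only [Set.mem_inter_iff, Set.mem_compl_iff, Set.mem_setOf_eq]
    rw [ht]
    generalize CInt.fiberDepth f F x = a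
    induction a using ENat.recTopCoe with
    | top =>
      have h1 : ((⊤ : ℕ∞) : WithBot ℕ∞) + (t : WithBot ℕ∞) = ⊤ := WithBot.coe_inj.2 (top_add _)
      rw [h1]
      exact iff_of_false (fun h => ENat.natCast_ne_top m (WithBot.coe_inj.1 h).symm) (fun h => h.2 le_top)
    | coe a =>
      have h1 : (((a : ℕ∞)) : WithBot ℕ∞) + (t : WithBot ℕ∞) = ((a + t : ℕ) : WithBot ℕ∞) := by push_cast; rfl
      have h2 : (((m : ℕ∞)) : WithBot ℕ∞) = ((m : ℕ) : WithBot ℕ∞) := rfl
      rw [h1, h2, Nat.cast_inj, Nat.cast_le, Nat.cast_le]
      omega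

end Groth.Agent.S5914
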