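import Groth.Statements.S5915
import Groth.Agent.H06EGA11c.AdicScheme
import Groth.Agent.H06EGA11c.AdicFinite
import Groth.Agent.H06EGA9.FlatFibreBC

set_option autoImplicit false
universe u
open CategoryTheory AlgebraicGeometry
open EGA43

namespace Groth.Agent.S5915

set_option backward.isDefEq.respectTransparency false

open CategoryTheory.Limits in
/-- Let Y be locally Noetherian, f : X ⟶ Y locally of finite type, F a coherent O_X-module, x a point of
X and y = f x. Let φ : O_{Y,y} ⟶ A' be an injective ring homomorphism which is finite (A' finitely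
generated as an O_{Y,y}-module), Y' = Spec A' ⟶ Y the induced Y-scheme, X' = X ×_Y Y' and F' the
pullback of F to X'. Then F is f-flat at x if and only if F' is flat over Y' at every point of X'
lying over x and over a closed point of Y'. (The published statement treats more generally a Zariski
ring A' whose radical pulls back to the maximal ideal and whose map on completions is injective;
this row is the case of a finite algebra with injective structure map, in which those conditions
hold.) -/
theorem result {X Y : Scheme.{u}} [IsLocallyNoetherian Y]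
    (f : X ⟶ Y) [LocallyOfFiniteType f] (F : X.Modules) (hF : Coh.IsCoh F) (x : X)
    (A' : CommRingCat.{u}) (φ : Y.presheaf.stalk (f.base x) ⟶ A') (hfin : φ.hom.Finite)
    (hinj : Function.Injective φ.hom) :
    FlatMod.IsFlatOverAt f F x ↔
      ∀ x' : ↥(pullback f (Spec.map φ ≫ Y.fromSpecStalk (f.base x))), pullback.fst f (Spec.map φ ≫ Y.fromSpecStalk (f.base x)) x' = x →
        IsClosed ({pullback.snd f (Spec.map φ ≫ Y.fromSpecStalk (f.base x)) x'} : Set ↥(Spec A')) →
          FlatMod.IsFlatOverAt (pullback.snd f (Spec.map φ ≫ Y.fromSpecStalk (f.base x))) ((Scheme.Modules.pullback (pullback.fst f (Spec.map φ ≫ Y.fromSpecStalk (f.base x)))).obj F) x' := by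
  haveI : IsLocallyNoetherian X := LocallyOfFiniteType.isLocallyNoetherian f
  refine ⟨fun h x' hx' _ => H06Mod.isFlatOverAt_baseChange f _ F x' (by rw [hx']; exact h), fun h => ?_⟩
  let O := Y.presheaf.stalk (f.base x)
  letI : Algebra O A' := φ.hom.toAlgebra
  haveI : Module.Finite O A' := hfin
  have hint : φ.hom.IsIntegral := hfin.to_isIntegral
  haveI : ∀ n : MaximalSpectrum A', IsLocalHom ((algebraMap A' (Localization.AtPrime n.asIdeal)).comp φ.hom) :=
    fun n => by
      refine ⟨fun a ha => ?_⟩
      by_contra hu
      have hm : (n.asIdeal.comap (algebraMap O A')).IsMaximal :=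
        Ideal.isMaximal_comap_of_isIntegral_of_isMaximal n.asIdeal
      have h1 : φ.hom a ∈ n.asIdeal := by
        have : a ∈ n.asIdeal.comap (algebraMap O A') := by
          rw [IsLocalRing.eq_maximalIdeal hm]; exact hu
        exact this
      have h2 := (IsLocalization.AtPrime.to_map_mem_maximal_iff (Localization.AtPrime n.asIdeal) n.asIdeal (φ.hom a)).2 h1
      exact h2 ha
  refine H06EGA11c.isFlatOverAt_of_adic_family f F hF x (fun n : MaximalSpectrum A' => Localization.AtPrime n.asIdeal)
    (fun n => (algebraMap A' (Localization.AtPrime n.asIdeal)).comp φ.hom)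
    (fun N => H06EGA11c.exists_finset_adic φ hfin hinj N) fun n x' hx hcl => ?_
  let ψ : Spec (CommRingCat.of (Localization.AtPrime n.asIdeal)) ⟶ Spec A' :=
    Spec.map (CommRingCat.ofHom (algebraMap A' (Localization.AtPrime n.asIdeal)))
  let g := Spec.map φ ≫ Y.fromSpecStalk (f.base x)
  let gn := Spec.map (CommRingCat.ofHom ((algebraMap A' (Localization.AtPrime n.asIdeal)).comp φ.hom)) ≫
    Y.fromSpecStalk (f.base x)
  have hg : ψ ≫ g = gn := by
    simp only [ψ, g, gn, ← Category.assoc, ← Spec.map_comp]
    rfl
  let j : pullback f gn ⟶ pullback f g := pullback.lift (pullback.fst f gn) (pullback.snd f gn ≫ ψ)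
    (by rw [Category.assoc, hg, pullback.condition])
  have hj1 : j ≫ pullback.fst f g = pullback.fst f gn := pullback.lift_fst _ _ _
  have hj2 : j ≫ pullback.snd f g = pullback.snd f gn ≫ ψ := pullback.lift_snd _ _ _
  have hc : IsPullback j (pullback.snd f gn) (pullback.snd f g) ψ :=
    IsPullback.of_right (by rw [hj1, hg]; exact IsPullback.of_hasPullback f gn) hj2
      (IsPullback.of_hasPullback f g)
  have h1 : FlatMod.IsFlatOverAt (pullback.snd f g) ((Scheme.Modules.pullback (pullback.fst f g)).obj F) (j x') := by
    refine h (j x') ?_ ?_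
    · rw [← Scheme.Hom.comp_apply, hj1]; exact hx
    · rw [← Scheme.Hom.comp_apply, hj2, Scheme.Hom.comp_apply, hcl]
      refine (PrimeSpectrum.isClosed_singleton_iff_isMaximal _).2 ?_
      rw [show (ψ (IsLocalRing.closedPoint (Localization.AtPrime n.asIdeal))).asIdeal = n.asIdeal from
        Localization.AtPrime.comap_maximalIdeal]
      exact n.isMaximal
  exact (H06EGA9.isFlatOverAt_congr_iso _ (((Scheme.Modules.pullbackComp j (pullback.fst f g)).app F) ≪≫
    (Scheme.Modules.pullbackCongr hj1).app F) x').1 (H06EGA9.isFlatOverAt_of_isPullback hc _ x' h1)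

end Groth.Agent.S5915
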