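import Groth.Statements.S5916
import Groth.Agent.H06Sep.SchemeSpec

set_option autoImplicit false
universe u
open CategoryTheory AlgebraicGeometry
open EGA43

namespace Groth.Agent.S5916

set_option backward.isDefEq.respectTransparency false

open Groth.Agent.H06Sep


open CategoryTheory.Limits in
/-- Case Z_λ = X: let A be a commutative ring, p : X ⟶ Spec A an A-scheme, F a quasi-coherent
O_X-module, (G_i) quasi-coherent O_X-modules flat over Spec A and u_i : F ⟶ G_i a separating family
of homomorphisms (a section of F over an open subset killed by every u_i is zero). Let φ : A ⟶ A' be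
a ring homomorphism. If for every factorisation A ⟶ B ⟶ A' of φ with A ⟶ B of finite type and B ⟶ A'
injective (every finitely generated sub-A-algebra B of A') the family pulled back to X ×_{Spec A}
Spec B is separating, then the family pulled back to X ×_{Spec A} Spec A' is separating. (The
published statement allows homomorphisms into direct images (f_λ)_*G_λ of modules G_λ flat over the
base; this row is the case Z_λ = X.) -/
theorem result {X : Scheme.{u}} (A A' : CommRingCat.{u}) (φ : A ⟶ A')
    (p : X ⟶ Spec A) (F : X.Modules) [Coh.IsQCoh F] {ι : Type u} (G : ι → X.Modules) [∀ i, Coh.IsQCoh (G i)]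
    (hG : ∀ i, FlatMod.IsFlatOver p (G i)) (u : ∀ i, F ⟶ G i)
    (h : ∀ (V : (X).Opens) (t : ↑((F).presheaf.obj (Opposite.op V))), (∀ i, (Scheme.Modules.Hom.mapPresheaf (u i)).app (Opposite.op V) t = 0) → t = 0)
    (hfg : ∀ (B : CommRingCat.{u}) (a : A ⟶ B) (b : B ⟶ A'), a ≫ b = φ → Function.Injective b.hom → a.hom.FiniteType →
      ∀ (V : (pullback p (Spec.map a)).Opens) (t : ↑(((Scheme.Modules.pullback (pullback.fst p (Spec.map a))).obj F).presheaf.obj (Opposite.op V))), (∀ i, (Scheme.Modules.Hom.mapPresheaf ((Scheme.Modules.pullback (pullback.fst p (Spec.map a))).map (u i))).app (Opposite.op V) t = 0) → t = 0) :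
    ∀ (V : (pullback p (Spec.map φ)).Opens) (t : ↑(((Scheme.Modules.pullback (pullback.fst p (Spec.map φ))).obj F).presheaf.obj (Opposite.op V))), (∀ i, (Scheme.Modules.Hom.mapPresheaf ((Scheme.Modules.pullback (pullback.fst p (Spec.map φ))).map (u i))).app (Opposite.op V) t = 0) → t = 0 := by
  exact separating_of_finiteType p ‹_› (fun i => inferInstance) hG hfg

end Groth.Agent.S5916
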