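import Groth.Statements.S5918
import Groth.Agent.H06EGA11c.Detect
import Groth.Agent.H06EGA11c.Point
import Groth.Agent.H10Coh.FinType2

set_option autoImplicit false
universe u
open CategoryTheory AlgebraicGeometry
open EGA43

namespace Groth.Agent.S5918

set_option backward.isDefEq.respectTransparency false

open CategoryTheory.Limits in
/-- Let A be an Artinian local ring, f : X ⟶ Spec A locally of finite type, F a coherent O_X-module and
x a point of X. Let (g_i : Y_i ⟶ Spec A) be a family of A-schemes such that an element of A whose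
image in every Γ(Y_i, O_{Y_i}) is zero is itself zero. If, for every i, the pullback of F to X
×_{Spec A} Y_i is flat over Y_i at every point lying over x, then F is f-flat at x. -/
theorem result {A : Type u} [CommRing A]
    [IsArtinianRing A] [IsLocalRing A] {X : Scheme.{u}} (f : X ⟶ Spec (CommRingCat.of A))
    [LocallyOfFiniteType f] (F : X.Modules) (hF : Coh.IsCoh F) (x : X)
    {ι : Type u} (Y : ι → Scheme.{u}) (g : ∀ i, Y i ⟶ Spec (CommRingCat.of A))
    (hg : ∀ a : A, (∀ i, (g i).appTop ((Scheme.ΓSpecIso (CommRingCat.of A)).inv a) = 0) → a = 0)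
    (hflat : ∀ (i : ι) (x' : ↥(pullback f (g i))), pullback.fst f (g i) x' = x →
      FlatMod.IsFlatOverAt (pullback.snd f (g i)) ((Scheme.Modules.pullback (pullback.fst f (g i))).obj F) x') :
    FlatMod.IsFlatOverAt f F x := by
  haveI : IsLocallyNoetherian X := LocallyOfFiniteType.isLocallyNoetherian f
  let eA := (Scheme.ΓSpecIso (CommRingCat.of A)).commRingCatIsoToRingEquiv
  haveI : IsLocalRing Γ(Spec (CommRingCat.of A), ⊤) := eA.symm.isLocalRing
  haveI : IsArtinianRing Γ(Spec (CommRingCat.of A), ⊤) := eA.symm.surjective.isArtinianRing (f := eA.symm.toRingHom)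
  obtain ⟨U, hU, hxU, -⟩ := exists_isAffineOpen_mem_and_subset (U := (⊤ : X.Opens)) (x := x) trivial
  haveI : IsNoetherianRing Γ(X, U) := IsLocallyNoetherian.component_noetherian ⟨U, hU⟩
  haveI : F.IsQuasicoherent := hF.1
  haveI : Module.Finite Γ(X, U) Γ(F, U) := H10Coh.finite_sections F hF.2 hU
  let V : (Spec (CommRingCat.of A)).Opens := ⊤
  have hV : IsAffineOpen V := isAffineOpen_top _
  have eU : U ≤ f ⁻¹ᵁ V := le_top
  letI : ∀ p : (i : ι) × Y i, Algebra Γ(Spec (CommRingCat.of A), V) ((Y p.1).presheaf.stalk p.2) := fun p =>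
    ((g p.1).appLE V ⊤ le_top ≫ (Y p.1).presheaf.germ ⊤ p.2 trivial).hom.toAlgebra
  letI := (f.appLE V U eU).hom.toAlgebra
  letI := Module.compHom Γ(F, U) (f.appLE V U eU).hom
  haveI : IsScalarTower Γ(Spec (CommRingCat.of A), V) Γ(X, U) Γ(F, U) := .of_algebraMap_smul fun _ _ => rfl
  refine (H8Props.FlatLocus.isFlatOverAt_iff_localizedModule f F hF.1 hV hU eU ⟨x, hxU⟩).2
    (H06EGA11c.flat_localizedModule_of_family _ (fun p : (i : ι) × Y i => (Y p.1).presheaf.stalk p.2)
      (fun a ha => ?_) fun p Q _ hQR hQC => ?_)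
  · refine eA.injective ((hg _ fun i => ?_).trans (map_zero eA).symm)
    show (g i).appTop.hom ((Scheme.ΓSpecIso _).inv.hom ((Scheme.ΓSpecIso _).hom.hom a)) = 0
    rw [← CommRingCat.comp_apply (Scheme.ΓSpecIso _).hom, Iso.hom_inv_id, CommRingCat.id_apply]
    refine TopCat.Presheaf.section_ext (Y i).sheaf _ _ _ fun y hy => ?_
    refine Eq.trans ?_ (map_zero _).symm
    have h3 := ha ⟨i, y⟩
    rw [RingHom.algebraMap_toAlgebra, show (g i).appLE V ⊤ le_top = (g i).appTop from by
      simp [Scheme.Hom.appLE, V]] at h3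
    exact h3
  · obtain ⟨i, y⟩ := p
    obtain ⟨W, hW, hyW, -⟩ := exists_isAffineOpen_mem_and_subset (U := (⊤ : (Y i).Opens)) (x := y) trivial
    letI : Algebra Γ(Spec (CommRingCat.of A), V) Γ(Y i, W) := ((g i).appLE V W le_top).hom.toAlgebra
    letI : Algebra Γ(Spec (CommRingCat.of A), V) ((Y i).presheaf.stalk y) :=
      ((g i).appLE V ⊤ le_top ≫ (Y i).presheaf.germ ⊤ y trivial).hom.toAlgebra
    let φ : Γ(Y i, W) →ₐ[Γ(Spec (CommRingCat.of A), V)] (Y i).presheaf.stalk y :=
      { ((Y i).presheaf.germ W y hyW).hom with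
        commutes' := fun r => by
          show ((g i).appLE V W le_top ≫ (Y i).presheaf.germ W y hyW).hom r = _
          rw [RingHom.algebraMap_toAlgebra]
          congr 2
          simp [Scheme.Hom.appLE, Category.assoc]
          rfl }
    obtain ⟨x', hx, hy, h1, -, h3⟩ := H06EGA11c.exists_point (IsPullback.of_hasPullback f (g i)) F hF.1 hU
      hV eU hW le_top (Q.comap (H06EGA11.mapBC Γ(X, U) φ).toRingHom)
    have hxx : pullback.fst f (g i) x' = x := by
      have h := PrimeSpectrum.ext ((h1.trans (by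
        rw [← hQR, Ideal.comap_comap]
        congr 1
        exact RingHom.ext fun r => (H06EGA11.mapBC Γ(X, U) φ).commutes r)) :
          (hU.primeIdealOf ⟨_, hx⟩).asIdeal = (hU.primeIdealOf ⟨x, hxU⟩).asIdeal)
      have := congrArg hU.fromSpec h
      rwa [hU.fromSpec_primeIdealOf, hU.fromSpec_primeIdealOf] at this
    haveI := h3 (hflat i x' hxx)
    exact H06EGA11.flat_localizedModule_baseChange φ Q

end Groth.Agent.S5918
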