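import Groth.Statements.S5919
import Groth.Agent.H06EGA12.Scheme

set_option autoImplicit false
open CategoryTheory AlgebraicGeometry
universe u
open EGA43

namespace Groth.Agent.S5919

/-- For k ≥ 1: let f : X ⟶ Y be a proper morphism of finite presentation and F a finitely presented
O_X-module which is f-flat; for y in Y write F_y for the restriction of F to the fibre X_y. Let k ≥
1 be a natural number. Then the set of points y of Y such that, at every point x of X_y, the stalk
of F_y at x is an equidimensional module over the local ring of X_y at x (every minimal prime of its
support has quotient of dimension equal to the dimension of the module) and satisfies Serre's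
condition (S_k) over it, is open in Y. (The published statement allows every integer k. For k ≤ 0
condition (S_k) is empty and the set is the locus of fibres whose module is equidimensional at every
point, which need not be open: over a discrete valuation ring take the flat projective family whose
general fibre is a plane together with a line meeting it in one point and whose special fibre is
supported on that plane, with an embedded component through the point; every stalk of the special
fibre then has irreducible support, so the closed point of the base is in the set, while the generic
point is not. So k ≥ 1 is assumed here.) -/
theorem result {X Y : Scheme.{u}} (f : X ⟶ Y) [IsProper f]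
    [LocallyOfFinitePresentation f] (F : X.Modules) (hF : CohB1.IsFP F) (hflat : FlatMod.IsFlatOver f F)
    (k : ℕ) (hk : 1 ≤ k) :
    IsOpen {y : Y | ∀ x : ↥(f.fiber y),
      EGA4.IsEquidimModule ((f.fiber y).presheaf.stalk x) (((Scheme.Modules.pullback (f.fiberι y)).obj F).presheaf.stalk x) ∧
        LocCoh.HasSk k ((f.fiber y).presheaf.stalk x) (((Scheme.Modules.pullback (f.fiberι y)).obj F).presheaf.stalk x)} := by
  exact H06EGA12.isOpen_setOf_forall_onFibre f F hF hflat (H06EGA12.semilinearInvariant_equidim k)
    (H06EGA12.affineOpen_equidim k hk)

end Groth.Agent.S5919
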