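import Groth.Statements.S5923
import Groth.Agent.H06EGA12.GeomNormalOpen

set_option autoImplicit false
open CategoryTheory AlgebraicGeometry
universe u
open EGA43

namespace Groth.Agent.S5923

open Groth.Agent

/-- Let f : X ⟶ Y be a morphism locally of finite presentation. The set of points x of X such that f is
flat at x and the fibre of f through x is geometrically normal at x over the residue field of f x —
for every finite field extension K of that residue field and every point x' over x of the base
change of the fibre to K, the local ring at x' is an integrally closed domain — is open in X. In
particular, when f is moreover flat, the set of x at which the fibre through x is geometrically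
normal is open. -/
theorem result {X Y : Scheme.{u}} (f : X ⟶ Y) [LocallyOfFinitePresentation f] :
    IsOpen {x : X | (f.stalkMap x).hom.Flat ∧
      ∀ (K : Type u) [Field K] [Algebra (IsLocalRing.ResidueField (Y.presheaf.stalk (f.base x))) K],
        Module.Finite (IsLocalRing.ResidueField (Y.presheaf.stalk (f.base x))) K →
        ∀ x' : ↥(FBase.bc (f.fiberToSpecResidueField (f.base x)) K),
          (FBase.bcπ (f.fiberToSpecResidueField (f.base x)) K).base x' = f.asFiber x →
          IsDomain ((FBase.bc (f.fiberToSpecResidueField (f.base x)) K).presheaf.stalk x') ∧
            IsIntegrallyClosed ((FBase.bc (f.fiberToSpecResidueField (f.base x)) K).presheaf.stalk x')} := by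
  convert H06EGA12.isOpen_flat_inter_normalLocus f using 1
  ext x
  exact and_congr_right fun _ => (H06EGA12.mem_normalLocus_iff f x).symm

end Groth.Agent.S5923
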