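import Groth.Statements.S5924
import Groth.Agent.H05EGA4.EtaleFac

set_option autoImplicit false
open CategoryTheory AlgebraicGeometry
universe u
open EGA43

namespace Groth.Agent.S5924

set_option backward.isDefEq.respectTransparency false

/-- Let Y be an irreducible locally Noetherian scheme, f : X ⟶ Y a morphism locally of finite type which
is equidimensional at the point x, and suppose that x is not a maximal point of its fibre f⁻¹(f x),
i.e. some point of the fibre other than x specializes to x. Then there exist an affine open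
neighbourhood U of x and a section g of O_X over U such that g vanishes at x (x is not in the basic
open set of g) while every maximal point of f⁻¹(f x) lying in U is in the basic open set of g. -/
theorem result {X Y : Scheme.{u}} [IrreducibleSpace Y]
    [IsLocallyNoetherian Y] (f : X ⟶ Y) [LocallyOfFiniteType f] (x : X) (hf : EGA43.IsEquidimAt f x)
    (hx : ∃ x' : X, f.base x' = f.base x ∧ x' ≠ x ∧ x ∈ closure ({x'} : Set X)) :
    ∃ U : X.Opens, IsAffineOpen U ∧ x ∈ U ∧ ∃ g : Γ(X, U), x ∉ X.basicOpen g ∧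
      ∀ z : X, f.base z = f.base x → (∀ z' : X, f.base z' = f.base x → z ∈ closure ({z'} : Set X) → z' = z) →
        z ∈ U → z ∈ X.basicOpen g := by
  classical
  obtain ⟨U, hU, hxU, -⟩ := exists_isAffineOpen_mem_and_subset (U := (⊤ : X.Opens)) (x := x) trivial
  let y := f x
  let ι := f.fiberι y
  haveI : LocallyOfFiniteType (f.fiberToSpecResidueField y) :=
    MorphismProperty.pullback_snd _ _ (inferInstance : LocallyOfFiniteType f)
  haveI : IsLocallyNoetherian (f.fiber y) := LocallyOfFiniteType.isLocallyNoetherian (f.fiberToSpecResidueField y)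
  let V : (f.fiber y).Opens := ι ⁻¹ᵁ U
  have hVc : IsCompact (V : Set (f.fiber y)) := by
    haveI : CompactSpace U.toScheme := isCompact_iff_compactSpace.1 hU.isCompact
    haveI : QuasiCompact (U.ι ≫ f) := inferInstance
    rw [ι.isEmbedding.isInducing.isCompact_iff]
    have e : ι '' (V : Set (f.fiber y)) = U.ι '' ((U.ι ≫ f) ⁻¹' {y}) := by
      ext z
      constructor
      · rintro ⟨w, hw, rfl⟩
        refine ⟨⟨ι w, hw⟩, ?_, rfl⟩
        show f (ι w) = y
        have h1 : ι w ∈ Set.range ι := ⟨w, rfl⟩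
        rwa [Scheme.Hom.range_fiberι] at h1
      · rintro ⟨w, hw, rfl⟩
        have h1 : U.ι w ∈ Set.range ι := by rw [Scheme.Hom.range_fiberι]; exact hw
        obtain ⟨v, hv⟩ := h1
        exact ⟨v, show ι v ∈ U from hv ▸ w.2, hv⟩
    rw [e]
    exact ((U.ι ≫ f).isCompact_preimage_singleton y).image U.ι.continuous
  haveI : CompactSpace V := isCompact_iff_compactSpace.1 hVc
  haveI : Nonempty V.toScheme := by
    have h1 : x ∈ Set.range ι := by rw [Scheme.Hom.range_fiberι]; rfl
    obtain ⟨v, hv⟩ := h1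
    exact ⟨⟨v, show ι v ∈ U from hv.symm ▸ hxU⟩⟩
  haveI : CompactSpace V.toScheme := ‹CompactSpace V›
  haveI : AlgebraicGeometry.IsNoetherian V.toScheme := {}
  let p : X → Ideal Γ(X, U) := fun z => if hz : z ∈ U then (hU.primeIdealOf ⟨z, hz⟩).asIdeal else ⊤
  let M : Set V.toScheme := {v | ∀ w, w ⤳ v → w = v}
  have hM : M.Finite := H05EGA4.EtaleFac.finite_maximal (α := V.toScheme)
  let px := (hU.primeIdealOf ⟨x, hxU⟩).asIdeal
  let zX : V.toScheme → X := fun v => ι (V.ι v)
  have hzU : ∀ v, zX v ∈ U := fun v => v.2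
  have hne : ∀ v ∈ M, ¬ px ≤ p (zX v) := by
    intro v hv hle
    simp only [p, dif_pos (hzU v)] at hle
    have hsp : x ⤳ zX v := by
      have h1 := ((PrimeSpectrum.le_iff_specializes (hU.primeIdealOf ⟨x, hxU⟩) (hU.primeIdealOf ⟨zX v, hzU v⟩)).1 hle).map hU.fromSpec.continuous
      rwa [IsAffineOpen.fromSpec_primeIdealOf, IsAffineOpen.fromSpec_primeIdealOf] at h1
    have hxr : x ∈ Set.range ι := by rw [Scheme.Hom.range_fiberι]; rfl
    obtain ⟨x₁, hx₁⟩ := hxr
    have hxV : x₁ ∈ V := by show ι x₁ ∈ U; rw [hx₁]; exact hxU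
    have hx₁v : (⟨x₁, hxV⟩ : V.toScheme) = v := hv _ (by
      rw [← V.ι.isEmbedding.isInducing.specializes_iff, ← (f.fiberι y).isEmbedding.isInducing.specializes_iff]
      show ι x₁ ⤳ ι (V.ι v)
      rw [hx₁]; exact hsp)
    obtain ⟨x', hfx', hne', hcl⟩ := hx
    have hx'r : x' ∈ Set.range ι := by rw [Scheme.Hom.range_fiberι]; exact hfx'
    obtain ⟨x₂, hx₂⟩ := hx'r
    have hsp' : x' ⤳ x := specializes_iff_mem_closure.2 hcl
    have hx'U : x' ∈ U := hsp'.mem_open U.isOpen hxU
    have hx₂V : x₂ ∈ V := by show ι x₂ ∈ U; rw [hx₂]; exact hx'U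
    have h3 : (⟨x₂, hx₂V⟩ : V.toScheme) = v := hv _ (by
      rw [← hx₁v, ← V.ι.isEmbedding.isInducing.specializes_iff, ← (f.fiberι y).isEmbedding.isInducing.specializes_iff]
      show ι x₂ ⤳ ι x₁
      rw [hx₁, hx₂]; exact hsp')
    apply hne'
    rw [← hx₂, ← hx₁]
    exact congrArg ι (congrArg Subtype.val (h3.trans hx₁v.symm))
  obtain ⟨g, hgx, hg⟩ : ∃ g ∈ px, ∀ v ∈ M, g ∉ p (zX v) := by
    by_contra hcon
    push Not at hcon
    have hsub : (px : Set Γ(X, U)) ⊆ ⋃ v ∈ (hM.toFinset : Set V.toScheme), (p (zX v) : Set Γ(X, U)) := fun g hg => by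
      obtain ⟨v, hv, hgv⟩ := hcon g hg
      exact Set.mem_iUnion₂.2 ⟨v, hM.mem_toFinset.2 hv, hgv⟩
    obtain ⟨v, hv, hle⟩ := (Ideal.subset_union_prime (f := fun v => p (zX v)) (s := hM.toFinset)
      (Classical.arbitrary _) (Classical.arbitrary _) fun i _ _ _ => by simp only [p, dif_pos (hzU i)]; infer_instance).1 hsub
    exact hne v (hM.mem_toFinset.1 hv) hle
  refine ⟨U, hU, hxU, g, ?_, ?_⟩
  · intro hc
    have : hU.primeIdealOf ⟨x, hxU⟩ ∈ hU.fromSpec ⁻¹ᵁ X.basicOpen g := by
      show hU.fromSpec (hU.primeIdealOf ⟨x, hxU⟩) ∈ X.basicOpen g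
      rw [IsAffineOpen.fromSpec_primeIdealOf]; exact hc
    rw [hU.fromSpec_preimage_basicOpen] at this
    exact this hgx
  · intro z hz hzmax hzU'
    have hzr : z ∈ Set.range ι := by rw [Scheme.Hom.range_fiberι]; exact hz
    obtain ⟨z₁, hz₁⟩ := hzr
    have hz₁V : z₁ ∈ V := by show ι z₁ ∈ U; rw [hz₁]; exact hzU'
    have hzM : (⟨z₁, hz₁V⟩ : V.toScheme) ∈ M := fun w hw => by
      have h1 : zX w ⤳ z := by
        rw [← hz₁]; exact (hw.map V.ι.continuous).map ι.continuous
      have h2 := hzmax (zX w) (Scheme.Hom.range_fiberι f y ▸ Set.mem_range_self (V.ι w) :) (specializes_iff_mem_closure.1 h1)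
      exact Subtype.ext (ι.isEmbedding.injective (h2.trans hz₁.symm))
    have h4 := hg _ hzM
    rw [show zX ⟨z₁, hz₁V⟩ = z from hz₁] at h4
    simp only [p, dif_pos hzU'] at h4
    have h5 : hU.primeIdealOf ⟨z, hzU'⟩ ∈ hU.fromSpec ⁻¹ᵁ X.basicOpen g := by
      rw [hU.fromSpec_preimage_basicOpen]; exact h4
    have h6 : hU.fromSpec (hU.primeIdealOf ⟨z, hzU'⟩) ∈ X.basicOpen g := h5
    rwa [IsAffineOpen.fromSpec_primeIdealOf] at h6

end Groth.Agent.S5924
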