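import Groth.Statements.S5925
import Groth.Agent.H06EGA14.EquidimCutZero

set_option autoImplicit false
open CategoryTheory AlgebraicGeometry
universe u
open EGA43

namespace Groth.Agent.S5925

open Groth.Agent Groth.Agent.H06EGA14 Groth.Agent.H8Props.FieldDim

/-- Let Y be an irreducible locally Noetherian scheme, f : X ⟶ Y a morphism locally of finite type which
is equidimensional at the point x, y = f x and e = dim_x(f⁻¹(y)). Let g be a global section of O_X
vanishing at x whose zero set X' contains no maximal point of f⁻¹(y). Then X', with its reduced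
closed subscheme structure, is equidimensional over Y at x; dim_x(X' ∩ f⁻¹(y)) = e − 1; and every
irreducible component of X' containing x has codimension 1 in X, i.e. the local ring of X at its
generic point has Krull dimension 1. (Stated for a global section; the published statement takes g
on an affine open neighbourhood of x, to which this applies after restriction, and its codimension
assertion codim(X', X) = 1 is read for the components of X' through x: a component of the zero set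
not passing through x can be a whole irreducible component of X disjoint from the fibre, of
codimension 0.) -/
theorem result {X Y : Scheme.{u}} [IrreducibleSpace Y]
    [IsLocallyNoetherian Y] (f : X ⟶ Y) [LocallyOfFiniteType f] (x : X) (hf : EGA43.IsEquidimAt f x)
    (g : Γ(X, ⊤)) (hgx : x ∈ X.zeroLocus ({g} : Set Γ(X, ⊤)))
    (hmax : ∀ z : X, f.base z = f.base x → (∀ z' : X, f.base z' = f.base x → z ∈ closure ({z'} : Set X) → z' = z) →
      z ∉ X.zeroLocus ({g} : Set Γ(X, ⊤))) :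
    (∀ w : ↥(Scheme.IdealSheafData.vanishingIdeal ⟨X.zeroLocus ({g} : Set Γ(X, ⊤)), X.zeroLocus_isClosed _⟩).subscheme,
        (Scheme.IdealSheafData.vanishingIdeal ⟨X.zeroLocus ({g} : Set Γ(X, ⊤)), X.zeroLocus_isClosed _⟩).subschemeι.base w = x →
        EGA43.IsEquidimAt ((Scheme.IdealSheafData.vanishingIdeal ⟨X.zeroLocus ({g} : Set Γ(X, ⊤)), X.zeroLocus_isClosed _⟩).subschemeι ≫ f) w) ∧
      FlatMor.localDim ↥(X.zeroLocus ({g} : Set Γ(X, ⊤)) ∩ f.base ⁻¹' {f.base x}) ⟨x, ⟨hgx, rfl⟩⟩ + 1 = FlatMor.fibreDimAt f x ∧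
      ∀ Z ∈ irreducibleComponents ↥(X.zeroLocus ({g} : Set Γ(X, ⊤))), (⟨x, hgx⟩ : ↥(X.zeroLocus ({g} : Set Γ(X, ⊤)))) ∈ Z →
        ∀ ξ : ↥(X.zeroLocus ({g} : Set Γ(X, ⊤))), closure ({ξ} : Set ↥(X.zeroLocus ({g} : Set Γ(X, ⊤)))) = Z →
          ringKrullDim (X.presheaf.stalk (ξ : X)) = 1 := by
  haveI : IsLocallyNoetherian X := LocallyOfFiniteType.isLocallyNoetherian f
  set S := X.zeroLocus ({g} : Set Γ(X, ⊤)) with hS
  let C : TopologicalSpace.Closeds X := ⟨S, X.zeroLocus_isClosed _⟩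
  let ι' := (Scheme.IdealSheafData.vanishingIdeal C).subschemeι
  have hr : Set.range ι' = S := by
    simp only [ι', Scheme.IdealSheafData.range_subschemeι, Scheme.IdealSheafData.coe_support_vanishingIdeal]
    rfl
  obtain ⟨w₀, hw₀⟩ : x ∈ Set.range ι' := hr ▸ hgx
  obtain ⟨e, he, hall, -⟩ := dim_data_of_isEquidimAt f x hf
  obtain ⟨a, ha⟩ : ∃ a : ℕ, FlatMor.fibreDimAt (ι' ≫ f) w₀ = (a : ℕ) := by
    obtain ⟨ξ, -, -, -, hd⟩ := exists_maximal_generization (ι' ≫ f) w₀
    obtain ⟨a, hc, -⟩ := H06Equidim.exists_trdeg_asFiber (ι' ≫ f) ξ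
    exact ⟨a, hd.symm.trans hc⟩
  have han : a + 1 ≤ e := by
    obtain ⟨ξ, hξ, hgξ, -, hd⟩ := exists_maximal_generization (ι' ≫ f) w₀
    rw [cdim_asFiber_comp_closedImmersion, ha] at hd
    have hξx : ι' ξ ⤳ x := hw₀ ▸ hξ.map ι'.continuous
    have hle : a ≤ e := by
      exact_mod_cast hd.ge.trans ((H06Equidim.cdim_asFiber_le_fibreDimAt f _).trans (hall _ hξx).le)
    by_contra hcon
    obtain rfl : a = e := by omega
    have hmaxfib : ∀ z', f z' = f (ι' ξ) → z' ⤳ ι' ξ → z' = ι' ξ := fun z' hz' hsp =>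
      H06Equidim.eq_of_specializes_of_cdim_eq f (ι' ξ) (hd.trans (hall _ hξx).symm) z' hsp hz'
    have hy : f (ι' ξ) = f x := by rw [← hw₀, ← Scheme.Hom.comp_apply, hgξ, Scheme.Hom.comp_apply]
    exact hmax (ι' ξ) hy (fun z' hz' hcl => hmaxfib z' (hz'.trans hy.symm) (specializes_iff_mem_closure.mpr hcl))
      (hr ▸ Set.mem_range_self ξ)
  have hcodim : ∀ v ∈ S, (∀ z ∈ S, z ⤳ v → z = v) → ringKrullDim (X.presheaf.stalk v) ≤ (1 : ℕ) :=
    fun v hv hmin => by exact_mod_cast ringKrullDim_stalk_le_one_of_zeroLocus g v hv hmin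
  have key := fun w hw hd => isEquidimAt_closedSubscheme ι' f x hf w hw 1 a e he hd han fun ζ _ hmaxζ => by
    refine hcodim _ (hr ▸ Set.mem_range_self ζ) fun z hz hsp => ?_
    obtain ⟨z', rfl⟩ : z ∈ Set.range ι' := hr ▸ hz
    rw [hmaxζ z' (ι'.isEmbedding.isInducing.specializes_iff.mp hsp)]
  obtain ⟨-, h2, h3, h4⟩ := key w₀ hw₀ ha.le
  refine ⟨fun w hw => ?_, ?_, fun Z hZ hxZ ξ hξ => ?_⟩
  · have hww : w = w₀ := ι'.isEmbedding.injective (hw.trans hw₀.symm)
    exact (key w hw (hww ▸ ha.le)).1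
  · rw [localDim_inter_eq_fibreDimAt ι' f w₀ hr hw₀ ⟨hgx, rfl⟩, ha, he]
    exact_mod_cast h2
  · obtain ⟨ζ, hζ⟩ : (ξ : X) ∈ Set.range ι' := hr ▸ ξ.2
    rw [← hξ] at hxZ hZ
    have hζw : ζ ⤳ w₀ := ι'.isEmbedding.isInducing.specializes_iff.mp (by
      rw [hζ, hw₀]
      exact (specializes_iff_mem_closure.mpr hxZ).map continuous_subtype_val)
    have hmaxζ : ∀ v, v ⤳ ζ → v = ζ := fun v hv => by
      apply ι'.isEmbedding.injective
      let v' : ↥S := ⟨ι' v, hr ▸ Set.mem_range_self v⟩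
      have h1 : v' ⤳ ξ := Topology.IsInducing.subtypeVal.specializes_iff.mp (hζ ▸ hv.map ι'.continuous)
      haveI : QuasiSober ↥S := (X.zeroLocus_isClosed _).isClosedEmbedding_subtypeVal.quasiSober
      haveI : T0Space ↥S := Topology.IsEmbedding.subtypeVal.t0Space
      have h2 : closure ({v'} : Set ↥S) = closure {ξ} :=
        (hZ.eq_of_ge isIrreducible_singleton.closure
          (closure_minimal (Set.singleton_subset_iff.mpr h1.mem_closure) isClosed_closure))
      have h3 : v' = ξ := (show IsGenericPoint v' (closure ({ξ} : Set ↥S)) from h2).eq rfl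
      exact (congrArg Subtype.val h3).trans hζ.symm
    rw [← hζ]
    exact_mod_cast h4 ζ hζw hmaxζ

end Groth.Agent.S5925
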