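import Groth.Statements.S5926
import Groth.Agent.H06FlatVal.Scheme
import Groth.Agent.H06SecComp.Interior
import Groth.Agent.H06EGA15.DimConst
import Groth.Agent.H06EGA14.DvrBase
import Groth.Agent.H18HTop.SpecLiftDVR

set_option autoImplicit false
open CategoryTheory AlgebraicGeometry
universe u
open EGA43

namespace Groth.Agent.S5926

open Groth.Agent Groth.Agent.H06EGA15

/-- Let Y be a reduced locally Noetherian scheme, f : X ⟶ Y a morphism locally of finite type with a
section g : Y ⟶ X, X_y^0 the connected component of f⁻¹(y) containing g y, and suppose every X_y^0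
is geometrically irreducible over κ(y) (its preimage in the base change of X_y to any field
extension K of κ(y) is irreducible). Let x₀ be a point of X lying in X_{y₀}^0, y₀ = f x₀. If y ↦ dim
X_y^0 is constant on a neighbourhood of y₀ and the fibre f⁻¹(y₀) is geometrically reduced at x₀,
then f is flat at x₀. -/
theorem result {X Y : Scheme.{u}} [IsLocallyNoetherian Y]
    [IsReduced Y] (f : X ⟶ Y) [LocallyOfFiniteType f] (g : Y ⟶ X) (hg : g ≫ f = 𝟙 Y)
    (hirr : ∀ y : Y, (∀ (K : Type u) [Field K] [Algebra (IsLocalRing.ResidueField (Y.presheaf.stalk y)) K],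
        IsIrreducible ((FBase.bcπ (f.fiberToSpecResidueField y) K ≫ f.fiberι y).base ⁻¹' connectedComponentIn (f.base ⁻¹' {y}) (g.base y))))
    (x₀ : X) (hx₀ : x₀ ∈ MoreMor.sectionComponents f g)
    (hconst : (∃ V ∈ nhds (f.base x₀), ∀ z ∈ V, topologicalKrullDim ↥(connectedComponentIn (f.base ⁻¹' {z}) (g.base z)) = topologicalKrullDim ↥(connectedComponentIn (f.base ⁻¹' {(f.base x₀)}) (g.base (f.base x₀)))))
    (hred : FBase.IsGeomReducedAt (f.fiberToSpecResidueField (f.base x₀)) (f.asFiber x₀)) :
    (f.stalkMap x₀).hom.Flat := by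
  haveI : LocallyOfFinitePresentation f := H18HTop.locallyOfFinitePresentation_of_noetherian f
  obtain ⟨V, hV, hVc⟩ := hconst
  refine H06FlatVal.flat_stalkMap_of_forall_dvr f x₀ fun D _ _ _ φ _ x' h1 h2 => ?_
  let k := Spec.map (CommRingCat.ofHom φ) ≫ Y.fromSpecStalk (f x₀)
  let p := Limits.pullback.fst f k
  let q := Limits.pullback.snd f k
  have hkc : k (IsLocalRing.closedPoint D) = f x₀ := by
    show Y.fromSpecStalk (f x₀) (Spec.map (CommRingCat.ofHom φ) (IsLocalRing.closedPoint D)) = _
    refine (congrArg (Y.fromSpecStalk (f x₀)) (?_ : _ = IsLocalRing.closedPoint (Y.presheaf.stalk (f x₀)))).trans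
      Scheme.fromSpecStalk_closedPoint
    exact IsLocalRing.comap_closedPoint φ
  have hfp : ∀ z, f (p z) = k (q z) := fun z => by
    rw [← Scheme.Hom.comp_apply, Limits.pullback.condition, Scheme.Hom.comp_apply]
  refine H06EGA14.flat_stalkMap_of_isOpenAt q x' h2 (fun z hz hzq _ => ?_) ?_
  · have hfz : f (p z) = f x₀ := by rw [hfp, hzq, show q x' = IsLocalRing.closedPoint D from h2, hkc]
    have hsp : p z ⤳ x₀ := h1 ▸ hz.map p.continuous
    have hmem : p z ∈ connectedComponentIn (f.base ⁻¹' {f x₀}) (g.base (f x₀)) :=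
      mem_component_of_specializes f g hg hx₀ hfz hsp
    refine isUnivOpenAt_of_dim_component_const f g hg hirr (fun y' hy' => ?_) hmem _ k z rfl
    exact (hVc y' (mem_of_mem_nhds (hy' hV))).ge
  · obtain ⟨v, hv⟩ := (f.range_fiberι (k (q.base x'))).ge (show p x' ∈ f ⁻¹' {k (q x')} from hfp x')
    refine isReduced_stalk_fiber_of_isGeomReducedAt f k _ (q.asFiber x') v ?_
      (H06SecComp.isGeomReducedAt_of_fiberι f hred _ v (hv.trans h1))
    show p (q.fiberι _ (q.asFiber x')) = _
    rw [q.fiberι_asFiber, hv]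

end Groth.Agent.S5926
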