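import Groth.Statements.S5927
import Groth.Agent.H06EGA15.DimConst

set_option autoImplicit false
open CategoryTheory AlgebraicGeometry
universe u
open EGA43

namespace Groth.Agent.S5927

open Groth.Agent.H06EGA15 Groth.Agent.H06EGA14 Groth.Agent.H8Props.FieldDim

/-- Let Y be a locally Noetherian scheme, f : X ⟶ Y a morphism locally of finite type with a section g :
Y ⟶ X, X_y^0 the connected component of f⁻¹(y) containing g y, every X_y^0 geometrically irreducible
over κ(y), and y₀ a point of Y such that f is universally open at the generic point of X_{y₀}^0.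
Suppose moreover that either (α) the fibre f⁻¹(y₀) is geometrically reduced at g y₀, or (β) dim
f⁻¹(y') = dim X_{y'}^0 for the generic point y' of every irreducible component of Y containing y₀.
Then y ↦ dim X_y^0 is constant on a neighbourhood of y₀. -/
theorem result {X Y : Scheme.{u}} [IsLocallyNoetherian Y] (f : X ⟶ Y)
    [LocallyOfFiniteType f] (g : Y ⟶ X) (hg : g ≫ f = 𝟙 Y)
    (hirr : ∀ y : Y, (∀ (K : Type u) [Field K] [Algebra (IsLocalRing.ResidueField (Y.presheaf.stalk y)) K],
        IsIrreducible ((FBase.bcπ (f.fiberToSpecResidueField y) K ≫ f.fiberι y).base ⁻¹' connectedComponentIn (f.base ⁻¹' {y}) (g.base y))))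
    (y₀ : Y) (hopen : ∀ ξ ∈ connectedComponentIn (f.base ⁻¹' {y₀}) (g.base y₀), connectedComponentIn (f.base ⁻¹' {y₀}) (g.base y₀) ⊆ closure {ξ} → EGA43.IsUnivOpenAt f ξ)
    (hαβ : FBase.IsGeomReducedAt (f.fiberToSpecResidueField (f.base (g.base y₀))) (f.asFiber (g.base y₀)) ∨
      (∀ y' : Y, y₀ ∈ closure {y'} → closure {y'} ∈ irreducibleComponents (Y : Type u) →
        topologicalKrullDim ↥(f.fiber y') = topologicalKrullDim ↥(connectedComponentIn (f.base ⁻¹' {y'}) (g.base y')))) :
    (∃ V ∈ nhds y₀, ∀ z ∈ V, topologicalKrullDim ↥(connectedComponentIn (f.base ⁻¹' {z}) (g.base z)) = topologicalKrullDim ↥(connectedComponentIn (f.base ⁻¹' {y₀}) (g.base y₀))) := by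
  have hirr' := fun y => GeomIrr.isIrreducible f g hg hirr y
  refine exists_nhd_dim_component_eq f g hg hirr' y₀ fun η hη hmax => ?_
  rcases hαβ with hα | hβ
  · exact fibreDimAt_section_le_of_geomReduced f g hg hirr y₀ hopen hα hη
  · have hfg := f_g_apply f g hg
    obtain ⟨θ, hθS, hθ⟩ := exists_generic_in_fibre f (hirr' y₀) (connectedComponentIn_subset _ _)
      fun z hz hc => mem_connectedComponentIn_of_mem_closure (hfg y₀) hz hc
    have hfθ : f θ = y₀ := apply_eq_of_mem hθS
    obtain ⟨η', -, hη'η, -, hd⟩ := exists_generic_of_isOpenAt f θ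
      (fun z' hz' hsp => (hsp.antisymm (hθ z' (mem_component_of_specializes f g hg hθS (hz'.trans hfθ) hsp))).eq)
      (isOpenAt_of_isUnivOpenAt f (hopen θ hθS fun z hz => (hθ z hz).mem_closure)) η (hfθ ▸ hη) hmax
    have hcomp : closure {η} ∈ irreducibleComponents (Y : Type u) :=
      H06Equidim.closure_singleton_mem_irreducibleComponents _ hmax
    calc FlatMor.fibreDimAt f (g y₀) ≤ cdim (f.asFiber θ) := by
          obtain ⟨ξ, hξ, hξy, hξmax, hξd⟩ := exists_maximal_generization f (g y₀)
          have hξS := mem_component_of_specializes f g hg (mem_component f g hg y₀) (hξy.trans (hfg y₀)) hξ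
          rw [← hξd, hξmax θ (hfθ.trans (hξy.trans (hfg y₀)).symm) (hθ ξ hξS)]
      _ ≤ FlatMor.fibreDimAt f θ := H06Equidim.cdim_asFiber_le_fibreDimAt f θ
      _ ≤ cdim (f.asFiber η') := hd
      _ ≤ topologicalKrullDim ↥(f.fiber η) := hη'η ▸ topologicalKrullDim_subspace_le _ _
      _ = FlatMor.fibreDimAt f (g η) :=
          (hβ η hη.mem_closure hcomp).trans (dim_component_eq f g hg η (hirr' η))

end Groth.Agent.S5927
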