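import Groth.Statements.S5928
import Groth.Agent.S5926
import Groth.Agent.S4955
import Groth.Agent.H06SecComp.OpenLocus
import Groth.Agent.H18HTop.SpecLiftDVR

set_option autoImplicit false
open CategoryTheory AlgebraicGeometry
universe u
open EGA43

namespace Groth.Agent.S5928

open Groth.Agent

/-- Let f : X ⟶ Y be a morphism with a section g : Y ⟶ X, and suppose that either Y is locally
Noetherian and f is locally of finite type, or f is of finite presentation. Let X_y^0 be the
connected component of f⁻¹(y) containing g y and X^0 ⊆ X the union of the X_y^0, and suppose every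
X_y^0 is geometrically irreducible over κ(y). Then the set W of points x of X^0 such that y ↦ dim
X_y^0 is constant on a neighbourhood of f x and the fibre f⁻¹(f x) is geometrically reduced at x
over κ(f x) is open in X. (The published statement asks that the whole component X_{f x}^0 be
geometrically reduced rather than geometrically reduced at x; with that reading the set need not be
open: over the affine line Spec k[t] take X = Spec k[t, s, e]/(e², e(ts − 1)) with the section s = e
= 0, whose fibres are lines carrying an embedded point at s = 1/t for t ≠ 0 and a reduced line at t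
= 0, so that the set would be the closed fibre over t = 0; the published proof, through the openness
of the locus where the fibre is geometrically reduced at the point, gives the pointwise form stated
here.) -/
theorem result {X Y : Scheme.{u}} (f : X ⟶ Y) (g : Y ⟶ X)
    (hg : g ≫ f = 𝟙 Y)
    (hfin : (IsLocallyNoetherian Y ∧ LocallyOfFiniteType f) ∨
      (LocallyOfFinitePresentation f ∧ QuasiCompact f ∧ QuasiSeparated f))
    (hirr : ∀ y : Y, (∀ (K : Type u) [Field K] [Algebra (IsLocalRing.ResidueField (Y.presheaf.stalk y)) K],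
        IsIrreducible ((FBase.bcπ (f.fiberToSpecResidueField y) K ≫ f.fiberι y).base ⁻¹' connectedComponentIn (f.base ⁻¹' {y}) (g.base y)))) :
    IsOpen {x : X | x ∈ MoreMor.sectionComponents f g ∧ (∃ V ∈ nhds (f.base x), ∀ z ∈ V, topologicalKrullDim ↥(connectedComponentIn (f.base ⁻¹' {z}) (g.base z)) = topologicalKrullDim ↥(connectedComponentIn (f.base ⁻¹' {(f.base x)}) (g.base (f.base x)))) ∧
      FBase.IsGeomReducedAt (f.fiberToSpecResidueField (f.base x)) (f.asFiber x)} := by
  have aux : ∀ {X Y : Scheme.{u}} [IsReduced Y] (f : X ⟶ Y) (g : Y ⟶ X), g ≫ f = 𝟙 Y →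
      ((IsLocallyNoetherian Y ∧ LocallyOfFiniteType f) ∨
        (LocallyOfFinitePresentation f ∧ QuasiCompact f ∧ QuasiSeparated f)) → H06EGA15.GeomIrr f g →
      IsOpen {x : X | x ∈ MoreMor.sectionComponents f g ∧ (∃ V ∈ nhds (f.base x), ∀ z ∈ V, topologicalKrullDim ↥(connectedComponentIn (f.base ⁻¹' {z}) (g.base z)) = topologicalKrullDim ↥(connectedComponentIn (f.base ⁻¹' {(f.base x)}) (g.base (f.base x)))) ∧
        FBase.IsGeomReducedAt (f.fiberToSpecResidueField (f.base x)) (f.asFiber x)} := by
    clear hfin hirr hg g f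
    intro X Y _ f g hg hfin hirr
    refine isOpen_iff_forall_mem_open.mpr fun x ⟨hx, hconst, hred⟩ => ?_
    have hirr₀ := fun y => H06EGA15.GeomIrr.isIrreducible f g hg hirr y
    haveI : LocallyOfFiniteType f := by
      rcases hfin with ⟨_, hf⟩ | ⟨hf, _, _⟩
      · exact hf
      · haveI := hf; infer_instance
    obtain ⟨V₀, hV₀, hVc⟩ := hconst
    let V : Y.Opens := ⟨interior V₀, isOpen_interior⟩
    have hxV : f x ∈ V := mem_interior_iff_mem_nhds.mpr hV₀
    have hd : ∀ η ∈ V, FlatMor.fibreDimAt f (g (f x)) ≤ FlatMor.fibreDimAt f (g η) := fun η hη => by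
      rw [← H06EGA15.dim_component_eq f g hg _ (hirr₀ _), ← H06EGA15.dim_component_eq f g hg _ (hirr₀ _)]
      exact (hVc η (interior_subset hη)).ge
    obtain ⟨hlfp, hflat, hint⟩ : LocallyOfFinitePresentation f ∧ (f.stalkMap x).hom.Flat ∧
        x ∈ interior (MoreMor.sectionComponents f g) := by
      rcases hfin with ⟨hY, hf⟩ | ⟨hf, hqc, hqs⟩
      · haveI := hY
        haveI := hf
        haveI : LocallyOfFinitePresentation f := H18HTop.locallyOfFinitePresentation_of_noetherian f
        exact ⟨inferInstance, S5926.result f g hg hirr x hx ⟨V₀, hV₀, hVc⟩ hred,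
          H06SecComp.mem_interior_of_generization f g hg hirr₀ fun z hz =>
            H06SecComp.mem_sectionComponents_of_generization f g hg hirr hx
              (fun η hη => hd η (hη.mem_open V.isOpen hxV)) hred hz⟩
      · haveI := hf
        haveI := hqc
        haveI := hqs
        refine ⟨hf, (S4955.result f g hg hirr x hx ⟨V₀, hV₀, hVc⟩).2 inferInstance hred,
          (H05EGA4.ConsChart.mem_interior_iff (H05EGA4.ConsChart.isLocallyConstructible_iff.mp
            (H06SecComp.isLocallyConstructible_sectionComponents_fp f g hg)).1 x).mpr fun z hz =>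
          H06SecComp.mem_sectionComponents_of_generization_fp f g hg hirr hx V hxV hd hred hz⟩
    haveI := hlfp
    refine ⟨{w | (f.stalkMap w).hom.Flat ∧ w ∈ H06GeomRed.Locus f} ∩ f ⁻¹' (V : Set Y) ∩
      interior (MoreMor.sectionComponents f g), ?_,
      ((H06GeomRed.isOpen_setOf_flat_and_mem_locus f).inter (V.isOpen.preimage f.continuous)).inter isOpen_interior,
      ⟨⟨⟨hflat, hred⟩, hxV⟩, hint⟩⟩
    rintro w ⟨⟨⟨-, hw1⟩, hw2⟩, hw3⟩
    refine ⟨interior_subset (s := MoreMor.sectionComponents f g) hw3, ⟨V, V.isOpen.mem_nhds hw2, fun z hz => ?_⟩, hw1⟩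
    rw [hVc z (interior_subset hz), hVc (f.base w) (interior_subset hw2)]
  let I := Scheme.IdealSheafData.vanishingIdeal (X := Y) ⊤
  let k := I.subschemeι
  haveI : IsReduced I.subscheme := H17.isReduced_vanishingIdeal_subscheme _
  haveI : Surjective k := ⟨fun y => (H17.range_vanishingIdeal_subschemeι (X := Y) ⊤).ge trivial⟩
  let f' := Limits.pullback.snd f k
  let p := Limits.pullback.fst f k
  let g' : I.subscheme ⟶ Limits.pullback f k := Limits.pullback.lift (k ≫ g) (𝟙 _)
    (by rw [Category.assoc, hg, Category.comp_id, Category.id_comp])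
  have hg' : g' ≫ f' = 𝟙 _ := Limits.pullback.lift_snd _ _ _
  have hgg' : g' ≫ p = k ≫ g := Limits.pullback.lift_fst _ _ _
  have hP : IsPullback p f' f k := IsPullback.of_hasPullback f k
  haveI : Surjective p := inferInstance
  have hfin' : (IsLocallyNoetherian I.subscheme ∧ LocallyOfFiniteType f') ∨
      (LocallyOfFinitePresentation f' ∧ QuasiCompact f' ∧ QuasiSeparated f') := by
    rcases hfin with ⟨hY, hf⟩ | ⟨hf, hqc, hqs⟩
    · haveI := hY
      haveI := hf
      exact Or.inl ⟨LocallyOfFiniteType.isLocallyNoetherian k, inferInstance⟩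
    · haveI := hf
      haveI := hqc
      haveI := hqs
      exact Or.inr ⟨inferInstance, inferInstance, inferInstance⟩
  have hlft : LocallyOfFiniteType f := by
    rcases hfin with ⟨_, hf⟩ | ⟨hf, _, _⟩
    · exact hf
    · haveI := hf; infer_instance
  have hirr' := H06SecComp.geomIrr_baseChange hP hg' hg hgg' hirr
  have hirr₀ := fun y => H06EGA15.GeomIrr.isIrreducible f g hg hirr y
  have hdim : ∀ t, topologicalKrullDim ↥(connectedComponentIn (f'.base ⁻¹' {t}) (g'.base t)) =
      topologicalKrullDim ↥(connectedComponentIn (f.base ⁻¹' {k t}) (g.base (k t))) := fun t => by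
    haveI := hlft
    rw [H06EGA15.dim_component_eq f' g' hg' _ (H06EGA15.GeomIrr.isIrreducible f' g' hg' hirr' t),
      H06EGA15.dim_component_eq f g hg _ (hirr₀ (k t)), H8Props.FieldDim.fibreDimAt_baseChange f hP,
      ← Scheme.Hom.comp_apply, hgg', Scheme.Hom.comp_apply]
  have hk : Topology.IsInducing k := k.isEmbedding.isInducing
  refine (p.isClosedEmbedding.isClosedMap.isQuotientMap p.continuous p.surjective).isOpen_preimage.mp ?_
  convert! aux f' g' hg' hfin' hirr' using 1
  ext a
  have hfa : k (f' a) = f (p a) := by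
    rw [← Scheme.Hom.comp_apply, ← hP.w, Scheme.Hom.comp_apply]
  refine and_congr (H06SecComp.mem_component_iff_of_model hP hg' hg hgg' a).symm (and_congr ?_ ?_)
  · constructor
    · rintro ⟨V, hV, hVc⟩
      refine ⟨k ⁻¹' V, k.continuous.continuousAt.preimage_mem_nhds (hfa.symm ▸ hV), fun t ht => ?_⟩
      rw [hdim, hdim, hfa]
      exact hVc (k t) ht
    · rintro ⟨V, hV, hVc⟩
      rw [hk.nhds_eq_comap] at hV
      obtain ⟨U, hU, hUV⟩ := hV
      refine ⟨U, hfa ▸ hU, fun z hz => ?_⟩
      obtain ⟨t, rfl⟩ := k.surjective z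
      have := hVc t (hUV hz)
      rw [hdim, hdim, hfa] at this
      exact this
  · exact ⟨fun h => H06SecComp.isGeomReducedAt_baseChange hP h, fun h => H06SecComp.isGeomReducedAt_of_model hP h⟩

end Groth.Agent.S5928
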