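import Groth.Statements.S5931
import Groth.Agent.H06EGA12.GeomRkOpen

set_option autoImplicit false
open CategoryTheory AlgebraicGeometry
universe u
open EGA43

namespace Groth.Agent.S5931

open Groth.Agent CategoryTheory.Limits

/-- Let f : X ⟶ Y be a flat morphism locally of finite presentation and k a natural number. The set of
points x of X such that the fibre X_{f x} satisfies the geometric condition (R_k) at x (for every
finite field extension K of the residue field of f x and every point x' over x of the base change of
X_{f x} to K, the local ring at x' satisfies Serre's condition (R_k)), the local ring of X_{f x} at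
x is equidimensional (the quotients by its minimal primes all have its dimension), and x lies on no
embedded associated cycle of X_{f x} (every associated prime of that local ring is a minimal prime),
is open in X. -/
theorem result {X Y : Scheme.{u}} (f : X ⟶ Y) [Flat f]
    [LocallyOfFinitePresentation f] (k : ℕ) :
    IsOpen {x : X | (∀ (K : Type u) [Field K] [Algebra (IsLocalRing.ResidueField (Y.presheaf.stalk (f.base x))) K],
        Module.Finite (IsLocalRing.ResidueField (Y.presheaf.stalk (f.base x))) K →
        ∀ x' : ↥(FBase.bc (f.fiberToSpecResidueField (f.base x)) K),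
          (FBase.bcπ (f.fiberToSpecResidueField (f.base x)) K).base x' = f.asFiber x →
          LocCoh.HasRk k ((FBase.bc (f.fiberToSpecResidueField (f.base x)) K).presheaf.stalk x')) ∧
      EGA4.IsEquidim ↑((f.fiber (f.base x)).presheaf.stalk (f.asFiber x)) ∧ (∀ p ∈ associatedPrimes ↑((f.fiber (f.base x)).presheaf.stalk (f.asFiber x)) ↑((f.fiber (f.base x)).presheaf.stalk (f.asFiber x)), p ∈ minimalPrimes ↑((f.fiber (f.base x)).presheaf.stalk (f.asFiber x)))} := by
  convert H06EGA12.isOpen_equiLocus_diff_rkBad f k using 1
  ext x
  refine Iff.trans ?_ (Iff.trans and_comm (and_congr_left fun _ => (H06EGA12.mem_equiLocus_iff f x).symm))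
  refine and_congr_left fun _ => ?_
  refine Iff.trans ?_ (H06EGA12.geomHasRk_fibre_iff f x k)
  haveI : LocallyOfFinitePresentation (Y := Spec (CommRingCat.of (IsLocalRing.ResidueField (Y.presheaf.stalk (f.base x)))))
      (f.fiberToSpecResidueField (f x)) :=
    MorphismProperty.of_isPullback (P := @LocallyOfFinitePresentation)
      (IsPullback.of_hasPullback f (Y.fromSpecResidueField (f x))) ‹_›
  exact (H06EGA12.geomHasRk_iff_finite (k := IsLocalRing.ResidueField (Y.presheaf.stalk (f.base x))) (f.fiberToSpecResidueField (f x)) (f.asFiber x) k).trans
    (H06EGA12.geomHasRk_iff (k := IsLocalRing.ResidueField (Y.presheaf.stalk (f.base x))) (f.fiberToSpecResidueField (f x)) (f.asFiber x) k).symm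

end Groth.Agent.S5931
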