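import Groth.Statements.S5932
import Groth.Agent.H06EGA12.GeomRkOpen
import Groth.Agent.H06EGA12.ProperForall

set_option autoImplicit false
open CategoryTheory AlgebraicGeometry
universe u
open EGA43

namespace Groth.Agent.S5932

open Groth.Agent CategoryTheory.Limits

/-- Let f : X ⟶ Y be a proper, flat morphism of finite presentation and k ≥ 1 a natural number. The set
of points y of Y such that the fibre X_y satisfies the geometric condition (R_k) (for every finite
field extension K of κ(y), every local ring of the base change of X_y to K satisfies (R_k)), is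
equidimensional at each of its points (every local ring of X_y has all quotients by minimal primes
of the same dimension) and has no embedded associated cycle (every associated prime of every local
ring of X_y is minimal), is open in Y. -/
theorem result {X Y : Scheme.{u}} (f : X ⟶ Y) [IsProper f]
    [Flat f] [LocallyOfFinitePresentation f] (k : ℕ) (hk : 1 ≤ k) :
    IsOpen {y : Y | ∀ x : ↥(f.fiber y), (∀ (K : Type u) [Field K] [Algebra (IsLocalRing.ResidueField (Y.presheaf.stalk y)) K],
        Module.Finite (IsLocalRing.ResidueField (Y.presheaf.stalk y)) K →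
        ∀ x' : ↥(FBase.bc (f.fiberToSpecResidueField y) K),
          (FBase.bcπ (f.fiberToSpecResidueField y) K).base x' = x →
          LocCoh.HasRk k ((FBase.bc (f.fiberToSpecResidueField y) K).presheaf.stalk x')) ∧
      EGA4.IsEquidim ↑((f.fiber y).presheaf.stalk x) ∧ (∀ p ∈ associatedPrimes ↑((f.fiber y).presheaf.stalk x) ↑((f.fiber y).presheaf.stalk x), p ∈ minimalPrimes ↑((f.fiber y).presheaf.stalk x))} := by
  refine H06EGA12.isOpen_setOf_forall_fibre f (fun y x => (∀ (K : Type u) [Field K] [Algebra (IsLocalRing.ResidueField (Y.presheaf.stalk y)) K],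
        Module.Finite (IsLocalRing.ResidueField (Y.presheaf.stalk y)) K →
        ∀ x' : ↥(FBase.bc (f.fiberToSpecResidueField y) K),
          (FBase.bcπ (f.fiberToSpecResidueField y) K).base x' = x →
          LocCoh.HasRk k ((FBase.bc (f.fiberToSpecResidueField y) K).presheaf.stalk x')) ∧
      EGA4.IsEquidim ↑((f.fiber y).presheaf.stalk x) ∧ (∀ p ∈ associatedPrimes ↑((f.fiber y).presheaf.stalk x) ↑((f.fiber y).presheaf.stalk x), p ∈ minimalPrimes ↑((f.fiber y).presheaf.stalk x)))
    (H06EGA12.isOpen_equiLocus_diff_rkBad f k) fun x => ?_
  refine Iff.symm ?_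
  refine Iff.trans ?_ (Iff.trans and_comm (and_congr_left fun _ => (H06EGA12.mem_equiLocus_iff f x).symm))
  refine and_congr_left fun _ => ?_
  refine Iff.trans ?_ (H06EGA12.geomHasRk_fibre_iff f x k)
  haveI : LocallyOfFinitePresentation (Y := Spec (CommRingCat.of (IsLocalRing.ResidueField (Y.presheaf.stalk (f.base x)))))
      (f.fiberToSpecResidueField (f x)) :=
    MorphismProperty.of_isPullback (P := @LocallyOfFinitePresentation)
      (IsPullback.of_hasPullback f (Y.fromSpecResidueField (f x))) ‹_›
  exact (H06EGA12.geomHasRk_iff_finite (k := IsLocalRing.ResidueField (Y.presheaf.stalk (f.base x))) (f.fiberToSpecResidueField (f x)) (f.asFiber x) k).trans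
    (H06EGA12.geomHasRk_iff (k := IsLocalRing.ResidueField (Y.presheaf.stalk (f.base x))) (f.fiberToSpecResidueField (f x)) (f.asFiber x) k).symm

end Groth.Agent.S5932
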