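import Groth.Statements.S5937
import Groth.Agent.H29Omega.StalkKaehler
import Groth.Agent.H17.FPExt.Colimit
import Groth.Agent.H17.OmegaStalk

set_option autoImplicit false
universe u
open CategoryTheory CategoryTheory.Limits AlgebraicGeometry
open Unram17

namespace Groth.Agent.S5937

set_option backward.isDefEq.respectTransparency false
set_option linter.style.haveILetI false

/-- Take a morphism of schemes f : X ⟶ Y and an O_X-module Ω' equipped with a universal Y-derivation d :
O_X → Ω' (so that Ω' is a sheaf of differentials of X over Y). Then f is formally unramified if and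
only if Ω' is a zero object of the category of O_X-modules. -/
theorem result {X Y : Scheme.{u}} (f : X ⟶ Y)
    (Ω' : X.Modules) (d : OmegaSh.Der f Ω') (hd : OmegaSh.IsUniversal d) :
    FormallyUnramified f ↔ IsZero Ω' := by
  have hst : ∀ x : X, Subsingleton (Ω'.presheaf.stalk x) ↔ (f.stalkMap x).hom.FormallyUnramified := fun x => by
    obtain ⟨e, -⟩ := H29Omega.exists_stalkEquiv d hd x
    letI : Algebra (Y.presheaf.stalk (f.base x)) (X.presheaf.stalk x) := (f.stalkMap x).hom.toAlgebra
    rw [show (f.stalkMap x).hom.FormallyUnramified ↔ Algebra.FormallyUnramified _ _ from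
      RingHom.formallyUnramified_algebraMap, Algebra.formallyUnramified_iff]
    exact e.toEquiv.subsingleton_congr
  constructor
  · intro h
    exact H17.FPExt.isZero_of_stalk Ω' fun x => (hst x).2 (FormallyUnramified.stalkMap f x)
  · intro h
    have hs : ∀ x : X, (f.stalkMap x).hom.FormallyUnramified := fun x => by
      refine (hst x).1 ⟨fun a b => ?_⟩
      have key : ∀ m : Ω'.presheaf.stalk x, m = 0 := fun m => by
        obtain ⟨U, hU, s, rfl⟩ := Ω'.presheaf.exists_germ_eq m
        have hs0 : s = 0 :=
          congrArg (fun φ : Ω' ⟶ Ω' => Scheme.Modules.Hom.app φ U s) (h.eq_of_src (𝟙 Ω') 0)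
        rw [hs0]
        exact map_zero _
      rw [key a, key b]
    refine ⟨fun {U} hU {V} hV e => ?_⟩
    algebraize [(f.appLE U V e).hom]
    refine Algebra.formallyUnramified_iff_forall.2 fun q => ?_
    have hq := (H17.OmegaStalk.formallyUnramified_stalkMap_iff hV hU e
      (x := hV.fromSpec q) (hV.range_fromSpec.le (Set.mem_range_self q))).1 (hs _)
    have : hV.primeIdealOf ⟨hV.fromSpec q, hV.range_fromSpec.le (Set.mem_range_self q)⟩ = q :=
      hV.fromSpec.isOpenEmbedding.injective (hV.fromSpec_primeIdealOf _)
    rwa [this] at hq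

end Groth.Agent.S5937
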