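import Groth.Statements.S5939
import Groth.Agent.H06Desc.QcQs

set_option autoImplicit false
universe u
open CategoryTheory AlgebraicGeometry
open Unram17

namespace Groth.Agent.S5939

/-- Let f : X ⟶ Y be faithfully flat, locally of finite presentation and quasi-compact, and let g : Y ⟶
Z be a morphism such that f ≫ g is of finite presentation (locally of finite presentation,
quasi-compact and quasi-separated). Then g is quasi-compact and quasi-separated; together with the
descent of local finite presentation along f this says that g is of finite presentation. This is the
case f quasi-compact. -/
theorem result {X Y Z : Scheme.{u}} (f : X ⟶ Y) (g : Y ⟶ Z)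
    [Surjective f] [Flat f] [LocallyOfFinitePresentation f] [QuasiCompact f]
    [LocallyOfFinitePresentation (f ≫ g)] [QuasiCompact (f ≫ g)] [QuasiSeparated (f ≫ g)] :
    QuasiCompact g ∧ QuasiSeparated g := by
  exact ⟨Groth.Agent.H06Desc.quasiCompact_of_surjective_comp f g, Groth.Agent.H06Desc.quasiSeparated_of_surjective_comp f g⟩

end Groth.Agent.S5939
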