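import Groth.Statements.S5945
import Groth.Agent.H06EGA8.DescendThree

set_option autoImplicit false
universe u
open CategoryTheory AlgebraicGeometry
open Unram17

namespace Groth.Agent.S5945

/-- Let S = lim S_i be a cofiltered limit of schemes with affine transition maps, let X₀ and Y₀ be
schemes locally of finite presentation over a stage S_{i₀}, f₀ : X₀ ⟶ Y₀ an S_{i₀}-morphism, and f :
X ⟶ Y the base change of f₀ along S ⟶ S_{i₀} (base changes are expressed by pullback squares). Let x
be a point of X; for a stage j over i₀ the canonical projection X ⟶ X_j is the morphism rX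
determined by its composites to X₀ and to S_j. Then f is formally unramified (equivalently
unramified, local finite presentation being automatic here) on some open neighbourhood of x if and
only if, for some index j over i₀, f_j is formally unramified on some open neighbourhood of the
image of x in X_j. This is the case of unramified morphisms. -/
theorem result {I : Type u} [SmallCategory I] [IsCofiltered I]
    (D : I ⥤ Scheme.{u}) (c : Limits.Cone D) (hc : Limits.IsLimit c)
    [∀ (i j : I) (f : i ⟶ j), IsAffineHom (D.map f)] (i₀ : I)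
    {X₀ Y₀ : Scheme.{u}} (f₀ : X₀ ⟶ Y₀) (g₀ : Y₀ ⟶ D.obj i₀)
    [LocallyOfFinitePresentation g₀] [LocallyOfFinitePresentation (f₀ ≫ g₀)]
    {X Y : Scheme.{u}} (f : X ⟶ Y) (g : Y ⟶ c.pt) (qY : Y ⟶ Y₀) (qX : X ⟶ X₀)
    (hY : IsPullback qY g g₀ (c.π.app i₀)) (hX : IsPullback qX f f₀ qY) (x : ↥X) :
    (∃ U : X.Opens, x ∈ U ∧ FormallyUnramified (U.ι ≫ f)) ↔
      ∃ (j : I) (φ : j ⟶ i₀) (Xj Yj : Scheme.{u}) (fj : Xj ⟶ Yj) (gj : Yj ⟶ D.obj j) (pY : Yj ⟶ Y₀)
        (pX : Xj ⟶ X₀) (rX : X ⟶ Xj), IsPullback pY gj g₀ (D.map φ) ∧ IsPullback pX fj f₀ pY ∧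
          rX ≫ pX = qX ∧ rX ≫ fj ≫ gj = f ≫ g ≫ c.π.app j ∧ ∃ V : Xj.Opens, rX.base x ∈ V ∧ FormallyUnramified (V.ι ≫ fj) := by
  have := Groth.Agent.H7Lim.locallyOfFinitePresentation_of_comp f₀ g₀
  exact Groth.Agent.H06EGA8.exists_descend_at_iff hc (P := @FormallyUnramified) Groth.Agent.H06EGA8.descendsAffine_formallyUnramified'
    (fun u v _ h => by haveI : FormallyUnramified u := h; exact MorphismProperty.comp_mem _ u v h inferInstance) i₀ f₀ g₀ hY hX x

end Groth.Agent.S5945
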