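import Groth.Statements.S5947
import Groth.Agent.H29Omega.DerAffine
-- import your own Groth.Agent.* helpers here

set_option autoImplicit false
universe u
open CategoryTheory AlgebraicGeometry TopologicalSpace
open Nrm16

namespace Groth.Agent.S5947

/-- Let A be a commutative ring, B an A-algebra and L a B-module; put S = Spec A, X = Spec B and let F
be the O_X-module associated with L. For an S-derivation D of O_X into F write Γ(D) : B → L for its
effect on global sections (global sections of O_X and of F being identified with B and L by the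
canonical isomorphisms). Then D ↦ Γ(D) is a bijection from the set of S-derivations of O_X into F
onto the set of A-derivations of B into L: every Γ(D) is an A-derivation, and every A-derivation of
B into L is Γ(D) for exactly one D. (The published statement asserts an isomorphism of B-modules; no
module structure is placed on sheaf derivations here, so this row states the bijection.) -/
theorem result (A B : Type u) [CommRing A] [CommRing B] [Algebra A B]
    (L : Type u) [AddCommGroup L] [Module B L] [Module A L] [IsScalarTower A B L] :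
    (∀ D : OmegaSh.Der (Spec.map (CommRingCat.ofHom (algebraMap A B))) (tilde (ModuleCat.of (CommRingCat.of B) L)),
      ∃ δ : Derivation A B L, ∀ t : B, D.app ⊤ ((Scheme.ΓSpecIso (CommRingCat.of B)).inv t) =
        (tilde.isoTop (ModuleCat.of (CommRingCat.of B) L)).hom (δ t)) ∧
    ∀ δ : Derivation A B L,
      ∃! D : OmegaSh.Der (Spec.map (CommRingCat.ofHom (algebraMap A B))) (tilde (ModuleCat.of (CommRingCat.of B) L)),
        ∀ t : B, D.app ⊤ ((Scheme.ΓSpecIso (CommRingCat.of B)).inv t) =
          (tilde.isoTop (ModuleCat.of (CommRingCat.of B) L)).hom (δ t) := by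
  let R : CommRingCat := CommRingCat.of B
  let M : ModuleCat R := ModuleCat.of (CommRingCat.of B) L
  let F : (Spec R).Modules := tilde M
  let eR : B →+* Γ(Spec R, ⊤) := (Scheme.ΓSpecIso R).inv.hom
  let eL : L →+ Γ(F, ⊤) := (tilde.isoTop M).hom.hom.toAddMonoidHom
  let eL' : Γ(F, ⊤) →+ L := (tilde.isoTop M).inv.hom.toAddMonoidHom
  have hL : ∀ x, eL' (eL x) = x := fun x =>
    ConcreteCategory.congr_hom (tilde.isoTop M).hom_inv_id x
  have hL' : ∀ x, eL (eL' x) = x := fun x =>
    ConcreteCategory.congr_hom (tilde.isoTop M).inv_hom_id x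
  have hsm : ∀ (b : B) (x : L), eL (b • x) = eR b • eL x := fun b x =>
    ((tilde.isoTop M).hom.hom.map_smul b x).trans rfl
  have hnat : ∀ a : A, (Spec.map (CommRingCat.ofHom (algebraMap A B))).appTop
      ((Scheme.ΓSpecIso (CommRingCat.of A)).inv a) = eR (algebraMap A B a) := fun a =>
    (ConcreteCategory.congr_hom
      (Scheme.ΓSpecIso_inv_naturality (CommRingCat.ofHom (algebraMap A B))) a).symm
  refine ⟨fun D => ?_, fun δ => ?_⟩
  · let d : B → L := fun t => eL' (D.app ⊤ (eR t))
    have hd : ∀ t, D.app ⊤ (eR t) = eL (d t) := fun t => (hL' _).symm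
    have hmul : ∀ s t, d (s * t) = s • d t + t • d s := fun s t => by
      have h := Groth.Agent.H29Omega.DerAffine.app_top_mul F D (eR s) (eR t)
      rw [← map_mul, hd, hd, hd, ← hsm, ← hsm, ← map_add] at h
      exact Function.LeftInverse.injective hL h
    have hzero : ∀ a : A, d (algebraMap A B a) = 0 := fun a => by
      have h := D.d_app (X := Opposite.op ⊤) ((Scheme.ΓSpecIso (CommRingCat.of A)).inv a)
      refine Function.LeftInverse.injective hL ?_
      rw [← hd, map_zero, ← hnat]
      exact h
    refine ⟨Derivation.mk'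
      { toFun := d
        map_add' := fun s t => by simp only [d, map_add]
        map_smul' := fun a t => by
          rw [RingHom.id_apply, Algebra.smul_def, hmul, hzero, smul_zero, add_zero,
            algebraMap_smul] } hmul, hd⟩
  · let δ' : Γ(Spec R, ⊤) →+ Γ(F, ⊤) :=
      eL.comp (δ.toLinearMap.toAddMonoidHom.comp (Scheme.ΓSpecIso R).hom.hom.toAddMonoidHom)
    have hR : ∀ x, eR ((Scheme.ΓSpecIso R).hom x) = x := fun x =>
      ConcreteCategory.congr_hom (Scheme.ΓSpecIso R).hom_inv_id x
    have hR' : ∀ b, (Scheme.ΓSpecIso R).hom (eR b) = b := fun b =>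
      ConcreteCategory.congr_hom (Scheme.ΓSpecIso R).inv_hom_id b
    have hδ : ∀ a b : Γ(Spec R, ⊤), δ' (a * b) = a • δ' b + b • δ' a := fun a b => by
      conv_rhs => enter [1, 1]; rw [← hR a]
      conv_rhs => enter [2, 1]; rw [← hR b]
      show eL (δ ((Scheme.ΓSpecIso R).hom (a * b))) = eR _ • eL _ + eR _ • eL _
      rw [map_mul, δ.leibniz, map_add, hsm, hsm]
      rfl
    obtain ⟨D, hD⟩ := Groth.Agent.H29Omega.DerAffine.exists_der (X := Spec R)
      (S := Spec (CommRingCat.of A)) F hδ (Spec.map (CommRingCat.ofHom (algebraMap A B))) (fun c => by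
        obtain ⟨a, rfl⟩ : ∃ a, (Scheme.ΓSpecIso (CommRingCat.of A)).inv a = c :=
          ⟨_, ConcreteCategory.congr_hom (Scheme.ΓSpecIso (CommRingCat.of A)).hom_inv_id c⟩
        rw [hnat]
        show eL (δ ((Scheme.ΓSpecIso R).hom (eR (algebraMap A B a)))) = 0
        rw [hR', δ.map_algebraMap, map_zero])
    refine ⟨D, fun t => ?_, fun D' hD' =>
      Groth.Agent.H29Omega.DerAffine.injective_app_top F _ (AddMonoidHom.ext fun x => ?_)⟩
    · show D.app ⊤ (eR t) = eL (δ t)
      rw [hD]
      exact congrArg (fun b => eL (δ b)) (hR' t)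
    · show D'.app ⊤ x = D.app ⊤ x
      rw [hD, ← hR x]
      exact (hD' _).trans (congrArg (fun b => eL (δ b)) (hR' _).symm)

end Groth.Agent.S5947
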