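import Groth.Statements.S5954
import Groth.Agent.H17.PMapBase.Main
import Groth.Agent.H17.KoszTwist.Stalk
-- import your own Groth.Agent.* helpers here

set_option autoImplicit false
universe u
open CategoryTheory CategoryTheory.Limits AlgebraicGeometry TopologicalSpace Opposite
open Nrm16

namespace Groth.Agent.S5954

/-- Let f : X ⟶ S and g : S' ⟶ S be morphisms and X' a fibre product of X and S' over S with projections
u : X' ⟶ X and f' : X' ⟶ S'. For every n let φ : u^* P^n_{X/S} ⟶ P^n_{X'/S'} be the canonical
O_{X'}-linear map of sheaves of principal parts of order n, the one sending the pullback of d^n b to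
d^n (u♯ b) for every local function b on X. Then φ is an isomorphism. (The published statement also
asserts that the canonical map u^*Ω_{X/S} ⟶ Ω_{X'/S'} of sheaves of differentials compatible with
the universal derivations is bijective; this row states only the assertion on sheaves of principal
parts.) -/
theorem result {X S X' S' : Scheme.{u}} (f : X ⟶ S) (g : S' ⟶ S)
    (u : X' ⟶ X) (f' : X' ⟶ S') (hsq : IsPullback u f' f g) (n : ℕ)
    (φ : (Scheme.Modules.pullback u).obj (PrinPart.P f n) ⟶ PrinPart.P f' n)
    (hφ : PrinPart.IsPMap f f' u n φ) :
    IsIso φ := by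
  exact Groth.Agent.H29Omega.isIso_of_bijective_stalkLin φ fun x' =>
    Groth.Agent.H17.PMapBase.bijective_stalk g u f' hsq φ hφ x'

end Groth.Agent.S5954
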