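import Groth.Statements.S5959
import Groth.Agent.H17.PrinAffine
import Groth.Agent.H29Fitt.PullbackQCoh
import Groth.Agent.H10Coh.BaseChange
-- import your own Groth.Agent.* helpers here

set_option autoImplicit false
universe u
open CategoryTheory CategoryTheory.Limits AlgebraicGeometry TopologicalSpace Opposite
open Nrm16

namespace Groth.Agent.S5959

/-- Let f : X ⟶ S be a morphism of schemes, n a natural number and F a quasi-coherent O_X-module. Then
P^n_{X/S}(F), the sheaf of principal parts of order n of F with its left O_X-module structure, is a
quasi-coherent O_X-module. (The published statement asserts this for either of the two O_X-module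
structures of P^n_{X/S}(F); this row states it for the left structure, the one the sheaf of
principal parts carries here.) -/
theorem result {X S : Scheme.{u}} (f : X ⟶ S) (n : ℕ) (F : X.Modules)
    (hF : Coh.IsQCoh F) :
    Coh.IsQCoh (PrinPart.PMod f n F) := by
  have := Groth.Agent.H17.PrinAffine.isIntegralHom_of_section (PrinPart.diagCl f) n (PrinPart.pr1 f n)
    (PrinPart.toNbhd_pr1 f n)
  have h := Groth.Agent.H29Fitt.isQCoh_pullback (PrinPart.pr2 f n) F hF
  haveI : ((Scheme.Modules.pullback (PrinPart.pr2 f n)).obj F).IsQuasicoherent := h
  exact Groth.Agent.H10Coh.isQuasicoherent_pushforward_of_isAffineHom (PrinPart.pr1 f n) _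

end Groth.Agent.S5959
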