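import Groth.Statements.S5960
import Groth.Agent.H17.PrinOps

set_option autoImplicit false
universe u
open CategoryTheory CategoryTheory.Limits AlgebraicGeometry TopologicalSpace Opposite
open Nrm16

namespace Groth.Agent.S5960

open CategoryTheory CategoryTheory.Limits AlgebraicGeometry Opposite TopologicalSpace
open Groth.Agent Groth.Agent.H17

/-- Let f : X ⟶ S be a morphism of schemes, F and G two O_X-modules, n a natural number and D : F ⟶ G a
homomorphism of sheaves of abelian groups that is linear for the functions pulled back from S. Then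
D is a differential operator of order at most n relative to S if and only if for every open U of X,
every family a_1, …, a_(n+1) of n + 1 functions on U and every section t of F over U, the
alternating sum over the subsets H of the index set of (-1)^(card H) · (∏_{i ∈ H} a_i) · D((∏_{i ∉
H} a_i) · t) is zero. -/
theorem result {X S : Scheme.{u}} (f : X ⟶ S) (F G : X.Modules) (n : ℕ)
    (D : F.presheaf ⟶ G.presheaf)
    (hlin : ∀ (V : S.Opens) (s : Γ(S, V)) (U : X.Opens) (hU : U ≤ f ⁻¹ᵁ V) (t : Γ(F, U)),
      D.app (op U) (X.presheaf.map (homOfLE hU).op (f.app V s) • t) =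
        X.presheaf.map (homOfLE hU).op (f.app V s) • D.app (op U) t) :
    PrinPart.IsDiffOpLE f F G n D ↔
      ∀ (U : X.Opens) (a : Fin (n + 1) → Γ(X, U)) (t : Γ(F, U)),
        (∑ H : Finset (Fin (n + 1)),
          ((-1 : ℤ) ^ H.card) • ((∏ i ∈ H, a i) • D.app (op U) ((∏ i ∈ Hᶜ, a i) • t))) = 0 := by
  refine ⟨fun hD U a t => ?_, fun h => ?_⟩
  · rw [PrinFactor.isDiffOpLE_iff] at hD
    refine PrinFactor.germ_ext fun x hx => ?_
    letI := H06Mod.stalkAlgebra f x
    letI := FlatMod.moduleStalkOver f F x
    letI := FlatMod.moduleStalkOver f G x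
    haveI := PrinFactor.isScalarTower_stalk f F x
    haveI := PrinFactor.isScalarTower_stalk f G x
    obtain ⟨hl, hd⟩ := hD x
    rw [map_zero, ← PrinOps.stalkOp_altSum D hx]
    exact (Groth.Agent.H06DiffOp.diffOp_iff_sum_fin _).mp hd _ _
  · rw [PrinFactor.isDiffOpLE_iff]
    intro x
    letI := H06Mod.stalkAlgebra f x
    letI := FlatMod.moduleStalkOver f F x
    letI := FlatMod.moduleStalkOver f G x
    haveI := PrinFactor.isScalarTower_stalk f F x
    haveI := PrinFactor.isScalarTower_stalk f G x
    have hl : PrinFactor.IsBaseLinear f D x := by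
      intro s m
      obtain ⟨V, hV, s, rfl⟩ := S.presheaf.exists_germ_eq s
      obtain ⟨W, hW, t, rfl⟩ := F.presheaf.exists_germ_eq m
      let U : X.Opens := W ⊓ f ⁻¹ᵁ V
      have hxU : x ∈ U := ⟨hW, hV⟩
      have e1 : algebraMap (S.presheaf.stalk (f.base x)) (X.presheaf.stalk x) (S.presheaf.germ V (f.base x) hV s) =
          X.presheaf.germ U x hxU (X.presheaf.map (homOfLE (inf_le_right : U ≤ f ⁻¹ᵁ V)).op (f.app V s)) := by
        rw [TopCat.Presheaf.germ_res_apply]
        exact Scheme.Hom.germ_stalkMap_apply f V x hV s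
      have e2 : F.presheaf.germ W x hW t =
          F.presheaf.germ U x hxU (F.presheaf.map (homOfLE (inf_le_left : U ≤ W)).op t) := by
        rw [TopCat.Presheaf.germ_res_apply]
      rw [e1, e2, ← H06Mod.germ_smul, PrinFactor.stalkOp_germ, PrinFactor.stalkOp_germ, hlin V s U inf_le_right,
        H06Mod.germ_smul]
    refine ⟨hl, (Groth.Agent.H06DiffOp.diffOp_iff_sum_fin _).mpr fun b m => ?_⟩
    obtain ⟨U, hU, a, t, ha, rfl⟩ := PrinOps.exists_common b m
    obtain rfl := funext ha
    refine (PrinOps.stalkOp_altSum D hU _ a t).trans ?_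
    rw [h U a t, map_zero]

end Groth.Agent.S5960
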