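import Groth.Statements.S5961
import Groth.Agent.H17.PrinOps

set_option autoImplicit false
universe u
open CategoryTheory CategoryTheory.Limits AlgebraicGeometry TopologicalSpace Opposite
open Nrm16

namespace Groth.Agent.S5961

open CategoryTheory CategoryTheory.Limits AlgebraicGeometry Opposite TopologicalSpace
open Groth.Agent Groth.Agent.H17

/-- Let f : X ⟶ S be a morphism of schemes, G an O_X-module and D : O_X ⟶ G a differential operator of
order at most 1 relative to S. Then D can be written in exactly one way as v + d with v : O_X ⟶ G an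
O_X-linear map and d an S-derivation of O_X into G. -/
theorem result {X S : Scheme.{u}} (f : X ⟶ S) (G : X.Modules)
    (D : (Coh.structureModule X).presheaf ⟶ G.presheaf)
    (hD : PrinPart.IsDiffOpLE f (Coh.structureModule X) G 1 D) :
    ∃! p : (Coh.structureModule X ⟶ G) × OmegaSh.Der f G,
      ∀ (U : X.Opens) (a : Γ(X, U)),
        D.app (op U) (OmegaSh.strSect X U a) = p.1.app U (OmegaSh.strSect X U a) + p.2.app U a := by
  rw [PrinFactor.isDiffOpLE_iff] at hD
  let D₀ : ∀ U : X.Opens, Γ(X, U) →+ Γ(G, U) := fun U => (D.app (op U)).hom.comp (OmegaSh.strSect X U)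
  have hres : ∀ (U V : X.Opens) (e : V ≤ U) (a : Γ(X, U)),
      D₀ V (X.presheaf.map (homOfLE e).op a) = G.presheaf.map (homOfLE e).op (D₀ U a) := fun U V e a =>
    congr($(D.naturality (homOfLE e).op) (OmegaSh.strSect X U a))
  have hone : ∀ (U V : X.Opens) (e : V ≤ U), D₀ V 1 = G.presheaf.map (homOfLE e).op (D₀ U 1) :=
    fun U V e => (congrArg (D₀ V) (map_one (X.presheaf.map (homOfLE e).op).hom).symm).trans (hres U V e 1)
  have hgerm : ∀ (U : X.Opens) (x : X) (hx : x ∈ U) (a : Γ(X, U)),
      PrinFactor.stalkOp D x ((Coh.structureModule X).presheaf.germ U x hx (OmegaSh.strSect X U a)) =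
        G.presheaf.germ U x hx (D₀ U a) := fun U x hx a => PrinFactor.stalkOp_germ D U x hx _
  have hleib : ∀ (U : X.Opens) (a b : Γ(X, U)),
      D₀ U (a * b) - (a * b) • D₀ U 1 = a • (D₀ U b - b • D₀ U 1) + b • (D₀ U a - a • D₀ U 1) := by
    intro U a b
    refine PrinFactor.germ_ext fun x hx => ?_
    letI := H06Mod.stalkAlgebra f x
    letI := FlatMod.moduleStalkOver f (Coh.structureModule X) x
    letI := FlatMod.moduleStalkOver f G x
    haveI := PrinFactor.isScalarTower_stalk f (Coh.structureModule X) x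
    haveI := PrinFactor.isScalarTower_stalk f G x
    obtain ⟨hl, hd⟩ := hD x
    let O := Coh.structureModule X
    have h := hd (X.presheaf.germ U x hx a) (X.presheaf.germ U x hx b)
      (O.presheaf.germ U x hx (OmegaSh.strSect X U 1))
    have e1 : b • OmegaSh.strSect X U 1 = OmegaSh.strSect X U b := mul_one b
    have e2 : a • OmegaSh.strSect X U 1 = OmegaSh.strSect X U a := mul_one a
    have e3 : a • OmegaSh.strSect X U b = OmegaSh.strSect X U (a * b) := rfl
    have e : ∀ m, PrinFactor.opLin f hl m = PrinFactor.stalkOp D x m := fun _ => rfl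
    simp only [Groth.Agent.H06DiffOp.comm_apply, e] at h
    simp only [O, ← H06Mod.germ_smul, e1, e2, e3, hgerm, ← map_sub] at h
    rw [show D₀ U (a * b) - (a * b) • D₀ U 1 =
        (D₀ U (a * b) - a • D₀ U b) + (a • D₀ U b - (a * b) • D₀ U 1) by abel, map_add, h, ← map_add]
    congr 1
    rw [smul_sub a, mul_smul]
    abel
  have hbase : ∀ (V : S.Opens) (s : Γ(S, V)), D₀ (f ⁻¹ᵁ V) (f.app V s) = f.app V s • D₀ (f ⁻¹ᵁ V) 1 := by
    intro V s
    refine PrinFactor.germ_ext fun x hx => ?_
    letI := H06Mod.stalkAlgebra f x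
    letI := FlatMod.moduleStalkOver f (Coh.structureModule X) x
    letI := FlatMod.moduleStalkOver f G x
    obtain ⟨hl, -⟩ := hD x
    have h := hl (S.presheaf.germ V (f.base x) hx s)
      ((Coh.structureModule X).presheaf.germ (f ⁻¹ᵁ V) x hx (OmegaSh.strSect X _ 1))
    rw [show algebraMap (S.presheaf.stalk (f.base x)) (X.presheaf.stalk x) (S.presheaf.germ V (f.base x) hx s) =
      X.presheaf.germ (f ⁻¹ᵁ V) x hx (f.app V s) from Scheme.Hom.germ_stalkMap_apply f V x hx s,
      ← H06Mod.germ_smul, show f.app V s • OmegaSh.strSect X _ 1 = OmegaSh.strSect X _ (f.app V s) from mul_one (f.app V s),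
      hgerm, hgerm, ← H06Mod.germ_smul] at h
    exact h
  let D₁ : (Coh.structureModule X).presheaf ⟶ G.presheaf :=
    { app := fun U => AddCommGrpCat.ofHom
        (AddMonoidHom.mk' (fun a => OmegaSh.fnSect X U.unop a • D₀ U.unop 1) fun a b =>
          add_smul (OmegaSh.fnSect X U.unop a) (OmegaSh.fnSect X U.unop b) _)
      naturality := fun U V i => by
        ext a
        show OmegaSh.fnSect X V.unop _ • D₀ V.unop 1 = G.presheaf.map i (OmegaSh.fnSect X U.unop a • D₀ U.unop 1)
        rw [hone U.unop V.unop i.unop.le]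
        exact (Scheme.Modules.map_smul G i.unop (OmegaSh.fnSect X U.unop a) _).symm }
  obtain ⟨v, hv⟩ := PrinOps.exists_hom_of_linear D₁ fun U a t => by
    show (a * OmegaSh.fnSect X U t) • D₀ U 1 = a • (OmegaSh.fnSect X U t • D₀ U 1)
    rw [mul_smul]
  have hv' : ∀ U a, v.app U (OmegaSh.strSect X U a) = a • D₀ U 1 := fun U a => hv U _
  let d : OmegaSh.Der f G :=
    { d := fun {U} => AddMonoidHom.mk' (fun a => D₀ U.unop a - (show Γ(X, U.unop) from a) • D₀ U.unop 1)
        fun a b => by
          show D₀ U.unop ((show Γ(X, U.unop) from a) + b) -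
            ((show Γ(X, U.unop) from a) + b) • D₀ U.unop 1 = _
          rw [map_add, add_smul]; abel
      d_mul := fun {U} a b => hleib U.unop a b
      d_map := fun {U V} i a => by
        show D₀ V.unop _ - _ • D₀ V.unop 1 = G.presheaf.map i (D₀ U.unop a - (show Γ(X, U.unop) from a) • D₀ U.unop 1)
        rw [map_sub, show i = (homOfLE i.unop.le).op from Subsingleton.elim _ _, hres, Scheme.Modules.map_smul,
          ← hone]
      d_app := fun {V} s => sub_eq_zero.mpr (hbase V.unop s) }
  refine ⟨(v, d), fun U a => ?_, fun p hp => ?_⟩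
  · show D₀ U a = v.app U _ + (D₀ U a - a • D₀ U 1)
    rw [hv']; abel
  have h1 : ∀ U, p.1.app U (OmegaSh.strSect X U 1) = D₀ U 1 := fun U => by
    have h := hp U 1
    rw [show p.2.app U 1 = 0 from p.2.d_one (op U), add_zero] at h
    exact h.symm
  have h2 : p.1 = v := PrinFactor.hom_ext_germ fun U s x hx => congrArg _ (by
    rw [show s = OmegaSh.fnSect X U s • OmegaSh.strSect X U 1 from (mul_one (OmegaSh.fnSect X U s)).symm,
      Scheme.Modules.Hom.app_smul, Scheme.Modules.Hom.app_smul, h1, hv', one_smul])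
  refine Prod.ext h2 (PresheafOfModules.Derivation.ext (funext fun U => AddMonoidHom.ext fun a => ?_))
  have h := hp U.unop a
  rw [h2, hv'] at h
  show p.2.app U.unop a = D₀ U.unop a - (show Γ(X, U.unop) from a) • D₀ U.unop 1
  exact eq_sub_of_add_eq' h.symm

end Groth.Agent.S5961
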