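import Groth.Statements.S5964
import Groth.Agent.H17.GrBase.FlatGr
-- import your own Groth.Agent.* helpers here

set_option autoImplicit false
universe u
open CategoryTheory CategoryTheory.Limits AlgebraicGeometry TopologicalSpace Opposite
open Nrm16

namespace Groth.Agent.S5964

/-- Let g : X ⟶ Y be a morphism with a section f : Y ⟶ X which is a closed immersion, u : Y' ⟶ Y a
morphism, X' a fibre product of X and Y' over Y with projections v : X' ⟶ X and g' : X' ⟶ Y', and f'
: Y' ⟶ X' the induced section of g'. Let m be such that the graded pieces Gr_k(f) = I^k/I^(k+1) of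
the ideal of f are flat O_Y-modules for every k ≤ m. Then for every n ≤ m the canonical
O_{Y'}-linear map φ : u^* Gr_n(f) ⟶ Gr_n(f') is an isomorphism. (The published statement allows any
section f, and also covers the case u flat, in which the conclusion holds for every n with no
flatness hypothesis on the graded pieces; this row assumes f a closed immersion, the case in which
the graded pieces are formed here, and states only the case of flat graded pieces.) -/
theorem result {X Y X' Y' : Scheme.{u}} (g : X ⟶ Y) (f : Y ⟶ X)
    [IsClosedImmersion f] (hf : f ≫ g = 𝟙 Y) (u : Y' ⟶ Y) (v : X' ⟶ X) (g' : X' ⟶ Y')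
    (hsq : IsPullback v g' g u) (f' : Y' ⟶ X') (hf' : f' ≫ g' = 𝟙 Y') (hf'v : f' ≫ v = u ≫ f)
    (m : ℕ) (hflat : ∀ k ≤ m, FlatMod.IsFlat (PrinPart.grMod f k)) {n : ℕ} (hn : n ≤ m)
    (φ : (Scheme.Modules.pullback u).obj (PrinPart.grMod f n) ⟶ PrinPart.grMod f' n)
    (hφ : PrinPart.IsGrMap f' f v u n φ) :
    IsIso φ := by
  have hker : f'.ker = f.ker.comap v :=
    Groth.Agent.H17.GrBase.ker_eq_comap (f := f) (v := v) (u := u) (f' := f') (Groth.Agent.H17.GrBase.section_cartesian hf hsq hf' hf'v)
  exact Groth.Agent.H29Omega.isIso_of_bijective_stalkLin φ fun y =>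
    ⟨Groth.Agent.H17.GrBase.injective_stalk_of_flat hf hsq hf' hf'v
      (fun k hk z => hflat k (hk.le.trans hn) z) φ hφ y,
     Groth.Agent.H17.GrBase.surjective_stalk φ hker hφ y⟩

end Groth.Agent.S5964
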