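import Groth.Statements.S5967
import Groth.Agent.H17.PrinUnit
import Groth.Agent.H17.PrinSymm
import Groth.Agent.H17.PrinStalk
import Groth.Agent.H16Derived.KFlat.RestrictD
-- import your own Groth.Agent.* helpers here

set_option autoImplicit false
universe u
open CategoryTheory CategoryTheory.Limits AlgebraicGeometry TopologicalSpace Opposite
open Nrm16

namespace Groth.Agent.S5967

/-- Let f : X ⟶ S be a morphism of schemes and n a natural number, and assume that P^n_{X/S} is a flat
O_X-module for its left structure. Then the functor F ↦ P^n_{X/S}(F) on O_X-modules preserves finite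
limits (so it is exact). -/
theorem result {X S : Scheme.{u}} (f : X ⟶ S) (n : ℕ)
    (hP : FlatMod.IsFlat (PrinPart.P f n)) :
    PreservesFiniteLimits
      ((Scheme.Modules.pullback (PrinPart.pr2 f n)) ⋙ (Scheme.Modules.pushforward (PrinPart.pr1 f n))) := by
  have hp1 : Flat (PrinPart.pr1 f n) := by
    refine Flat.of_stalkMap _ fun y => ?_
    let p := PrinPart.pr1 f n
    let E := Groth.Agent.H17.PrinUnit.E f n
    have hind : Topology.IsInducing p.base :=
      (Function.LeftInverse.isEmbedding (f := PrinPart.toNbhd f n) (g := p)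
        (Groth.Agent.H17.PrinChart.toNbhd_pr1_apply f n) (PrinPart.toNbhd f n).continuous p.continuous).isInducing
    let O := X.presheaf.stalk (p.base y)
    letI : Algebra O ((PrinPart.nbhd f n).presheaf.stalk y) := (p.stalkMap y).hom.toAlgebra
    show Module.Flat O ((PrinPart.nbhd f n).presheaf.stalk y)
    have hstalk : Groth.Agent.H17.PrinStalk.stalkTo p y rfl = (p.stalkMap y).hom := by
      simp [Groth.Agent.H17.PrinStalk.stalkTo, TopCat.Presheaf.stalkSpecializes_refl]
    let m := E.presheaf.germ (p ⁻¹ᵁ ⊤) y trivial (Groth.Agent.H17.PrinUnit.one f n ⊤)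
    have hgen : Function.Bijective fun r : (PrinPart.nbhd f n).presheaf.stalk y => r • m :=
      ((Groth.Agent.H17.PrinUnit.isGen_one (X := X) ⊤).pullSect (PrinPart.pr2 f n)).res
        (PrinPart.preimage_pr1 f n ⊤).le y trivial
    let P := AddEquiv.ofBijective (Groth.Agent.H17.PrinStalk.pushTo p E y rfl)
      (Groth.Agent.H17.PrinStalk.pushTo_bijective p hind E y rfl)
    let e : (PrinPart.P f n).presheaf.stalk (p.base y) ≃ₗ[O] (PrinPart.nbhd f n).presheaf.stalk y :=
      { P.trans (AddEquiv.ofBijective (AddMonoidHom.mk' (fun r => r • m) fun a b => add_smul a b m) hgen).symm with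
        map_smul' := fun r z => by
          let G := AddEquiv.ofBijective (AddMonoidHom.mk' (fun r => r • m) fun a b => add_smul a b m) hgen
          show G.symm (P (r • z)) = (p.stalkMap y).hom r * G.symm (P z)
          apply G.injective
          rw [G.apply_symm_apply]
          refine (Groth.Agent.H17.PrinStalk.pushTo_smul p E y rfl r z).trans ?_
          rw [hstalk]
          show (p.stalkMap y).hom r • P z = ((p.stalkMap y).hom r * G.symm (P z)) • m
          rw [mul_smul]
          exact congrArg ((p.stalkMap y).hom r • ·) (G.apply_symm_apply (P z)).symm }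
    haveI : Module.Flat O ((PrinPart.P f n).presheaf.stalk (p.base y)) := hP (p.base y)
    exact Module.Flat.of_linearEquiv e.symm
  obtain ⟨σ, -, hσσ, hσ1, -, -⟩ := Groth.Agent.H17.PrinSymm.exists_symm f n
  have : IsIso σ := ⟨σ, hσσ, hσσ⟩
  have : Flat (PrinPart.pr2 f n) := hσ1 ▸ inferInstance
  have := Groth.Agent.H16Derived.KFlat.Stalk.preservesFiniteLimits_pullback_of_flat (PrinPart.pr2 f n)
  have : PreservesFiniteLimits (Scheme.Modules.pushforward (PrinPart.pr1 f n)) := inferInstance
  exact comp_preservesFiniteLimits _ _

end Groth.Agent.S5967
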