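import Groth.Statements.S5973
import Groth.Agent.H10Coh.FinType2
import Groth.Agent.H29Blow.IdealMod
import Groth.Agent.H17.OmegaLocal
import Groth.Agent.H17.ConsModModels
import Groth.Agent.H7Lim.IdealDescent
-- import your own Groth.Agent.* helpers here

set_option autoImplicit false
universe u
open CategoryTheory CategoryTheory.Limits AlgebraicGeometry TopologicalSpace Opposite
open Nrm16

namespace Groth.Agent.S5973

/-- Let f : Y ⟶ X be a closed immersion which is locally of finite presentation. Then for every n the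
n-th graded piece Gr_n(f) = I^n/I^(n+1) of the ideal of f, as an O_Y-module, is quasi-coherent of
finite type. (The published statement allows any immersion locally of finite presentation; this row
states the case of a closed immersion.) -/
theorem result {Y X : Scheme.{u}} (f : Y ⟶ X) [IsClosedImmersion f]
    [LocallyOfFinitePresentation f] (n : ℕ) :
    Coh.IsCoh (PrinPart.grMod f n) := by
  refine Groth.Agent.H17.ConsProp.isCoh_pullback f ?_
  refine (Groth.Agent.H10Coh.isCoh_iff_finite_sections _).2
    ⟨Groth.Agent.H17.OmegaLocal.isQuasicoherent_idealMod _, fun U hU => ?_⟩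
  have hfg : ((f.ker ^ n).ideal ⟨U, hU⟩).FG :=
    (Groth.Agent.H7Lim.ker_fg_of_locallyOfFinitePresentation f ⟨U, hU⟩).pow
  let φ : Γ(ClSub.idealMod (f.ker ^ n), U) →ₗ[Γ(X, U)] ↥((f.ker ^ n).ideal ⟨U, hU⟩) :=
    { toFun := fun m => ⟨OmegaSh.idealSect (f.ker ^ n) U m,
        (Groth.Agent.H29Blow.mem_ideal_iff_exists_idealSect _ hU _).2 ⟨m, rfl⟩⟩
      map_add' := fun a b => Subtype.ext (map_add _ a b)
      map_smul' := fun r m => Subtype.ext (Groth.Agent.H29Blow.idealSect_smul _ U r m) }
  have hb : Function.Bijective φ := ⟨fun a b h =>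
    Groth.Agent.H29Blow.idealSect_injective _ U (congrArg Subtype.val h), fun ⟨a, ha⟩ =>
    ((Groth.Agent.H29Blow.mem_ideal_iff_exists_idealSect _ hU a).1 ha).imp fun m hm => Subtype.ext hm⟩
  haveI : Module.Finite Γ(X, U) ↥((f.ker ^ n).ideal ⟨U, hU⟩) := Module.Finite.iff_fg.2 hfg
  exact Module.Finite.equiv (LinearEquiv.ofBijective φ hb).symm

end Groth.Agent.S5973
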