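import Groth.Statements.S5976
import Groth.Agent.H17.Conormal.DiffSeq
-- import your own Groth.Agent.* helpers here

set_option autoImplicit false
universe u
open CategoryTheory CategoryTheory.Limits AlgebraicGeometry TopologicalSpace Opposite
open Nrm16

namespace Groth.Agent.S5976

/-- Let f : Y ⟶ Z be a morphism and j : X ⟶ Y a quasi-compact immersion. Let (Ω_{Y/Z}, d) and (Ω_{X/Z},
d') be sheaves of differentials (universal derivations), φ : N_{X/Y} ⟶ j^*Ω_{Y/Z} the canonical map
from the conormal sheaf of j (class of a local section s of the ideal ↦ pullback of d s) and c :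
j^*Ω_{Y/Z} ⟶ Ω_{X/Z} the canonical map compatible with the derivations. Then c is an epimorphism and
the image of φ is the kernel of c: the sequence N_{X/Y} ⟶ j^*Ω_{Y/Z} ⟶ Ω_{X/Z} ⟶ 0 is exact. (The
published statement allows any immersion j; this row assumes j quasi-compact, the case in which the
conormal sheaf used here is that of j.) -/
theorem result {X Y Z : Scheme.{u}} (f : Y ⟶ Z) (j : X ⟶ Y)
    [IsImmersion j] [QuasiCompact j]
    (ΩY : Y.Modules) (dY : OmegaSh.Der f ΩY) (hY : OmegaSh.IsUniversal dY)
    (ΩX : X.Modules) (dX : OmegaSh.Der (j ≫ f) ΩX) (hX : OmegaSh.IsUniversal dX)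
    (φ : Omega.conormal j ⟶ (Scheme.Modules.pullback j).obj ΩY) (hφ : OmegaSh.IsConormalDiff j dY φ)
    (c : (Scheme.Modules.pullback j).obj ΩY ⟶ ΩX) (hc : OmegaSh.IsDiffCompat j dY dX c) :
    Epi c ∧ imageSubobject φ = kernelSubobject c := by
  obtain ⟨w, hex, hepi⟩ := Groth.Agent.H17.Conormal.exact_conormalDiffSeq f j hY hX hφ hc
  exact ⟨hepi, (ShortComplex.exact_iff_image_eq_kernel _).1 hex⟩

end Groth.Agent.S5976
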