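import Groth.Statements.S5977
import Groth.Agent.H17.PrinOps

set_option autoImplicit false
universe u
open CategoryTheory CategoryTheory.Limits AlgebraicGeometry TopologicalSpace Opposite
open Nrm16

namespace Groth.Agent.S5977

open CategoryTheory CategoryTheory.Limits AlgebraicGeometry Opposite TopologicalSpace
open Groth.Agent Groth.Agent.H17

/-- Let f : Y ⟶ Z be a morphism and j : X ⟶ Y a closed immersion, and let φ : j^* P^n_{Y/Z} ⟶ P^n_{X/Z}
be the canonical O_X-linear map of sheaves of principal parts of order n, the one sending the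
pullback of d^n b to d^n (j♯ b). Then φ is an epimorphism. (The published statement also identifies
the kernel of φ as the ideal generated by the pullback of d^n of the ideal of j; this row states the
surjectivity.) -/
theorem result {X Y Z : Scheme.{u}} (f : Y ⟶ Z) (j : X ⟶ Y) [IsClosedImmersion j] (n : ℕ)
    (φ : (Scheme.Modules.pullback j).obj (PrinPart.P f n) ⟶ PrinPart.P (j ≫ f) n)
    (hφ : PrinPart.IsPMap f (j ≫ f) j n φ) :
    Epi φ := by
  refine ⟨fun {G} a b hab => PrinFactor.hom_ext (j ≫ f) n _ _ a b fun V t => ?_⟩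
  refine PrinFactor.germ_ext fun x hx => ?_
  obtain ⟨c, hc⟩ := j.stalkMap_surjective x (X.presheaf.germ V x hx (OmegaSh.fnSect X V t))
  obtain ⟨U, hU, c, rfl⟩ := Y.presheaf.exists_germ_eq c
  rw [Scheme.Hom.germ_stalkMap_apply] at hc
  obtain ⟨W, hW, eU, eV, heq⟩ := X.presheaf.germ_eq x hU hx (j.app U c) (OmegaSh.fnSect X V t) hc
  have h := congrArg (fun c' => Scheme.Modules.Hom.app c' (j ⁻¹ᵁ U)
    (OmegaSh.pullSect j (PrinPart.P f n) U (PrinPart.dn f n U c))) hab
  change a.app (j ⁻¹ᵁ U) (φ.app _ _) = b.app (j ⁻¹ᵁ U) (φ.app _ _) at h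
  rw [hφ U c] at h
  let P := PrinPart.P (j ≫ f) n
  have key : P.presheaf.map eV.op (PrinPart.dP (j ≫ f) n (Coh.structureModule X) V t) =
      P.presheaf.map eU.op (PrinPart.dn (j ≫ f) n (j ⁻¹ᵁ U) (j.app U c)) := by
    rw [show eV = homOfLE eV.le from Subsingleton.elim _ _, show eU = homOfLE eU.le from Subsingleton.elim _ _]
    show _ = P.presheaf.map _ (PrinPart.dP (j ≫ f) n (Coh.structureModule X) _ _)
    rw [← PrinPart.dP_map, ← PrinPart.dP_map]
    exact congrArg _ heq.symm
  rw [← TopCat.Presheaf.germ_res_apply G.presheaf eV x hW, ← TopCat.Presheaf.germ_res_apply G.presheaf eV x hW,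
    ← show a.app W (P.presheaf.map eV.op _) = G.presheaf.map eV.op (a.app V _) from congr($(a.mapPresheaf.naturality eV.op) _),
    ← show b.app W (P.presheaf.map eV.op _) = G.presheaf.map eV.op (b.app V _) from congr($(b.mapPresheaf.naturality eV.op) _),
    key,
    show a.app W (P.presheaf.map eU.op _) = G.presheaf.map eU.op (a.app (j ⁻¹ᵁ U) _) from congr($(a.mapPresheaf.naturality eU.op) _),
    show b.app W (P.presheaf.map eU.op _) = G.presheaf.map eU.op (b.app (j ⁻¹ᵁ U) _) from congr($(b.mapPresheaf.naturality eU.op) _),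
    h]

end Groth.Agent.S5977
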