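import Groth.Statements.S5978
import Groth.Agent.H17.PrinOps
import Groth.Agent.H17.PrinOmega
import Groth.Agent.S5960

set_option autoImplicit false
universe u
open CategoryTheory CategoryTheory.Limits AlgebraicGeometry TopologicalSpace Opposite
open Nrm16

namespace Groth.Agent.S5978

open CategoryTheory CategoryTheory.Limits AlgebraicGeometry Opposite TopologicalSpace
open Groth.Agent Groth.Agent.H17

/-- Let f : X ⟶ S be a quasi-separated morphism, Ω_{X/S} its sheaf of differentials (the conormal sheaf
of the diagonal) with its derivation d, e : O_X ⟶ P^1_{X/S} the O_X-linear map s ↦ s·1 and ι :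
Ω_{X/S} ⟶ P^1_{X/S} the O_X-linear map with ι(d s) = d^1 s − s·1 for every local function s. Then
the map O_X ⊕ Ω_{X/S} ⟶ P^1_{X/S} induced by e and ι is an isomorphism of O_X-modules for the left
structure of P^1_{X/S}; in other words Ω_{X/S} is identified with the augmentation ideal of
P^1_{X/S} and d s = d^1 s − s. (The published text takes this as the definition of Ω_{X/S} for every
f; here Ω_{X/S} is the conormal sheaf of the diagonal, formed for quasi-separated f, and the
identification is stated.) -/
theorem result {X S : Scheme.{u}} (f : X ⟶ S) [QuasiSeparated f]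
    (e : Coh.structureModule X ⟶ PrinPart.P f 1)
    (he : ∀ (U : X.Opens) (s : Γ(X, U)), e.app U (OmegaSh.strSect X U s) = s • PrinPart.dn f 1 U 1)
    (ι : Omega.sheaf f ⟶ PrinPart.P f 1)
    (hι : ∀ (U : X.Opens) (s : Γ(X, U)),
      ι.app U ((OmegaSh.dOmega f).app U s) = PrinPart.dn f 1 U s - s • PrinPart.dn f 1 U 1) :
    IsIso (coprod.desc e ι) := by
  let O := Coh.structureModule X
  let G := O ⨿ Omega.sheaf f
  let i₁ : O ⟶ G := coprod.inl
  let i₂ : Omega.sheaf f ⟶ G := coprod.inr
  let d := (OmegaSh.dOmega f).app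
  let σ : ∀ U : X.Opens, Γ(X, U) →+ Γ(G, U) := fun U =>
    (i₁.app U).hom.comp (OmegaSh.strSect X U) + (i₂.app U).hom.comp (d U)
  have hσ : ∀ U s, σ U s = i₁.app U (OmegaSh.strSect X U s) + i₂.app U (d U s) := fun _ _ => rfl
  let D : O.presheaf ⟶ G.presheaf :=
    { app := fun U => AddCommGrpCat.ofHom ((σ U.unop).comp (OmegaSh.fnSect X U.unop))
      naturality := fun U V j => by
        ext t
        show σ V.unop (X.presheaf.map j (OmegaSh.fnSect X U.unop t)) =
          G.presheaf.map j (σ U.unop (OmegaSh.fnSect X U.unop t))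
        rw [show j = (homOfLE j.unop.le).op from Subsingleton.elim _ _]
        rw [hσ, hσ, map_add, ← PrinOmega.app_res, ← PrinOmega.app_res]
        erw [← (OmegaSh.dOmega f).d_map]
        rfl }
  have hsmul : ∀ (U : X.Opens) (a : Γ(X, U)) (t : Γ(O, U)),
      σ U (OmegaSh.fnSect X U (a • t)) = a • σ U (OmegaSh.fnSect X U t) +
        OmegaSh.fnSect X U t • i₂.app U (d U a) := by
    intro U a t
    rw [hσ, hσ, show OmegaSh.fnSect X U (a • t) = a * OmegaSh.fnSect X U t from rfl,
      show d U (a * OmegaSh.fnSect X U t) = a • d U (OmegaSh.fnSect X U t) + OmegaSh.fnSect X U t • d U a from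
        OmegaSh.dSect_mul f U _ _,
      show OmegaSh.strSect X U (a * OmegaSh.fnSect X U t) = a • t from rfl, Scheme.Modules.Hom.app_smul,
      map_add, Scheme.Modules.Hom.app_smul, Scheme.Modules.Hom.app_smul, smul_add]
    exact (add_assoc _ _ _).symm
  have hD : PrinPart.IsDiffOpLE f O G 1 D := by
    refine (Groth.Agent.S5960.result f O G 1 D fun V s U hU t => ?_).mpr fun U a t => ?_
    · refine (hsmul U _ t).trans ?_
      have : d U (X.presheaf.map (homOfLE hU).op (f.app V s)) = 0 := OmAff.dSect_appLE f V U hU s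
      rw [this, map_zero, smul_zero, add_zero]
      rfl
    · rw [show (Finset.univ : Finset (Finset (Fin (1 + 1)))) = {∅, {0}, {1}, Finset.univ} from by decide]
      rw [Finset.sum_insert (by decide), Finset.sum_insert (by decide), Finset.sum_insert (by decide),
        Finset.sum_singleton]
      simp only [Finset.card_empty, Finset.card_singleton, Finset.card_univ, Fintype.card_fin, pow_zero, pow_one,
        Finset.prod_empty, Finset.prod_singleton, Finset.compl_univ, Finset.compl_empty, one_smul,
        show ({0} : Finset (Fin (1 + 1)))ᶜ = {1} from by decide, show ({1} : Finset (Fin (1 + 1)))ᶜ = {0} from by decide]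
      show σ U (OmegaSh.fnSect X U ((∏ i, a i) • t)) + ((-1 : ℤ) • (a 0 • σ U (OmegaSh.fnSect X U (a 1 • t))) +
        ((-1 : ℤ) • (a 1 • σ U (OmegaSh.fnSect X U (a 0 • t))) + ((-1 : ℤ) ^ 2) • ((∏ i, a i) • σ U (OmegaSh.fnSect X U t)))) = 0
      have hd : d U (a 0 * a 1) = a 0 • d U (a 1) + a 1 • d U (a 0) := OmegaSh.dSect_mul f U _ _
      rw [Fin.prod_univ_two, hsmul, hsmul, hsmul, hd, map_add, Scheme.Modules.Hom.app_smul,
        Scheme.Modules.Hom.app_smul, neg_one_sq, one_smul, neg_one_zsmul, neg_one_zsmul]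
      simp only [smul_add, mul_smul]
      rw [smul_comm (a 0) (OmegaSh.fnSect X U t), smul_comm (a 1) (OmegaSh.fnSect X U t),
        smul_comm (a 1) (a 0) (σ U (OmegaSh.fnSect X U t))]
      abel
  obtain ⟨u, hu⟩ := hD
  have hu' : ∀ (U : X.Opens) (s : Γ(X, U)), u.app U (PrinPart.dn f 1 U s) =
      i₁.app U (OmegaSh.strSect X U s) + i₂.app U (d U s) := fun U s => (hu U (OmegaSh.strSect X U s)).symm
  have hu1 : ∀ U : X.Opens, u.app U (PrinPart.dn f 1 U 1) = i₁.app U (OmegaSh.strSect X U 1) := fun U => by
    rw [hu', show d U 1 = 0 from PrinOmega.dSect_one f U, map_zero, add_zero]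
  have he1 : ∀ (U : X.Opens) (s : Γ(X, U)), i₁.app U (OmegaSh.strSect X U s) = s • i₁.app U (OmegaSh.strSect X U 1) :=
    fun U s => by
      rw [← Scheme.Modules.Hom.app_smul]
      exact congrArg _ (mul_one s).symm
  refine ⟨u, ?_, ?_⟩
  · refine coprod.hom_ext ?_ ?_
    · rw [← Category.assoc, coprod.inl_desc, Category.comp_id]
      refine PrinFactor.hom_ext_germ fun U t x hx => congrArg _ ?_
      show u.app U (e.app U (OmegaSh.strSect X U (OmegaSh.fnSect X U t))) = i₁.app U _
      rw [he, Scheme.Modules.Hom.app_smul, hu1, ← he1]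
      rfl
    · rw [← Category.assoc, coprod.inr_desc, Category.comp_id]
      refine PrinOmega.omega_ext f _ _ _ fun U s => ?_
      show u.app U (ι.app U ((OmegaSh.dOmega f).app U s)) = i₂.app U (d U s)
      rw [hι, map_sub, Scheme.Modules.Hom.app_smul, hu', hu1, ← he1]
      abel
  · refine PrinFactor.hom_ext f 1 _ _ _ _ fun U t => ?_
    show (coprod.desc e ι).app U (u.app U (PrinPart.dn f 1 U (OmegaSh.fnSect X U t))) = PrinPart.dn f 1 U (OmegaSh.fnSect X U t)
    rw [hu', map_add]
    have hl : ∀ z, (coprod.desc e ι).app U (i₁.app U z) = e.app U z := fun z =>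
      congr($(congr(Scheme.Modules.Hom.app $(coprod.inl_desc e ι) U)) z)
    have hr : ∀ z, (coprod.desc e ι).app U (i₂.app U z) = ι.app U z := fun z =>
      congr($(congr(Scheme.Modules.Hom.app $(coprod.inr_desc e ι) U)) z)
    rw [hl, hr, he]
    erw [hι]
    abel

end Groth.Agent.S5978
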