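import Groth.Statements.S5980
import Groth.Agent.H17.Conormal.OpenImm
-- import your own Groth.Agent.* helpers here

set_option autoImplicit false
universe u
open CategoryTheory CategoryTheory.Limits AlgebraicGeometry TopologicalSpace Opposite
open Nrm16

namespace Groth.Agent.S5980

/-- Consider a point y of Y and an immersion j : Y ⟶ X that is quasi-compact and locally of finite
presentation. The stalk at y of the conormal sheaf N_{Y/X} = I/I² is zero exactly when y has an open
neighbourhood U in Y on which the restriction of j is an open immersion. (The published statement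
covers every immersion locally of finite presentation. Here j is additionally assumed quasi-compact,
since in that case the conormal sheaf used here is the one attached to j.) -/
theorem result {Y X : Scheme.{u}} (j : Y ⟶ X) [IsImmersion j]
    [QuasiCompact j] [LocallyOfFinitePresentation j] (y : Y) :
    (∃ U : Y.Opens, y ∈ U ∧ IsOpenImmersion (U.ι ≫ j)) ↔
      Subsingleton ((Omega.conormal j).presheaf.stalk y) := by
  refine ⟨?_, Groth.Agent.H17.Conormal.exists_isOpenImmersion_of_subsingleton j y⟩
  rintro ⟨U, hyU, hU⟩
  refine Groth.Agent.H17.Conormal.subsingleton_of_ker_eq_bot j y ?_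
  haveI := hU
  have h := Scheme.Hom.stalkMap_comp U.ι j ⟨y, hyU⟩
  haveI : IsIso ((U.ι ≫ j).stalkMap ⟨y, hyU⟩) := inferInstance
  rw [h] at this
  have hiota : IsIso (U.ι.stalkMap ⟨y, hyU⟩) := inferInstance
  have hiso : IsIso (j.stalkMap y) :=
    @IsIso.of_isIso_comp_right _ _ _ _ _ _ _ hiota this
  haveI := hiso
  exact (RingHom.injective_iff_ker_eq_bot _).1 (ConcreteCategory.bijective_of_isIso (j.stalkMap y)).1

end Groth.Agent.S5980
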