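import Groth.Statements.S5981
import Groth.Agent.H17.PrinOps

set_option autoImplicit false
universe u
open CategoryTheory CategoryTheory.Limits AlgebraicGeometry TopologicalSpace Opposite
open Nrm16

namespace Groth.Agent.S5981

open CategoryTheory CategoryTheory.Limits AlgebraicGeometry Opposite TopologicalSpace
open Groth.Agent Groth.Agent.H17

/-- Let f : X ⟶ Y and g : Y ⟶ Z be morphisms of schemes and n a natural number, and let φ : (𝟙_X)^*
P^n_{X/Z} ⟶ P^n_{X/Y} be the canonical O_X-linear map of sheaves of principal parts of order n, the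
one sending the pullback of d^n b (relative to Z) to d^n b (relative to Y) for every local function
b. Then φ is an epimorphism. (The published statement also describes the kernel as the ideal
generated by the image of the augmentation ideal of f^* P^n_{Y/Z}; this row states the
surjectivity.) -/
theorem result {X Y Z : Scheme.{u}} (f : X ⟶ Y) (g : Y ⟶ Z) (n : ℕ)
    (φ : (Scheme.Modules.pullback (𝟙 X)).obj (PrinPart.P (f ≫ g) n) ⟶ PrinPart.P f n)
    (hφ : PrinPart.IsPMap (f ≫ g) f (𝟙 X) n φ) :
    Epi φ := by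
  refine ⟨fun {G} a b hab => PrinFactor.hom_ext f n _ _ a b fun U t => ?_⟩
  have e := hφ U (OmegaSh.fnSect X U t)
  have h := congrArg (fun c => Scheme.Modules.Hom.app c ((𝟙 X : X ⟶ X) ⁻¹ᵁ U)
    (OmegaSh.pullSect (𝟙 X) (PrinPart.P (f ≫ g) n) U (PrinPart.dn (f ≫ g) n U (OmegaSh.fnSect X U t)))) hab
  change a.app ((𝟙 X : X ⟶ X) ⁻¹ᵁ U) (φ.app _ _) = b.app ((𝟙 X : X ⟶ X) ⁻¹ᵁ U) (φ.app _ _) at h
  rw [e] at h
  exact h

end Groth.Agent.S5981
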