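import Groth.Statements.S5982
import Groth.Agent.H7Lim.TransReg.WeaklyRegular
-- import your own Groth.Agent.* helpers here

set_option autoImplicit false
universe u
open CategoryTheory AlgebraicGeometry
open CInt

namespace Groth.Agent.S5982

/-- Let S = lim S_i be a cofiltered limit of schemes with affine, flat transition maps, such that either
every S_i is locally Noetherian or every transition map is surjective; let S_{i₀} be a quasi-compact
stage and f_1, …, f_n global sections of the structure sheaf of S_{i₀}. Then the images of the f_k
form a regular sequence for the structure sheaf of S (that is, a weakly regular sequence in Γ(U,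
O_S) for every affine open U of S; no condition on the last quotient) if and only if, for some index
j over i₀, their images form a regular sequence for the structure sheaf of S_j in the same sense.
This is the case of the structure sheaf. -/
theorem result {I : Type u} [SmallCategory I] [IsCofiltered I]
    (D : I ⥤ Scheme.{u}) (c : Limits.Cone D) (hc : Limits.IsLimit c)
    [∀ (i j : I) (f : i ⟶ j), IsAffineHom (D.map f)]
    (hflat : ∀ (i j : I) (f : i ⟶ j), Flat (D.map f))
    (hcase : (∀ i : I, IsLocallyNoetherian (D.obj i)) ∨
      ∀ (i j : I) (f : i ⟶ j), Surjective (D.map f))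
    (i₀ : I) [CompactSpace (D.obj i₀)] (fs : List Γ(D.obj i₀, ⊤)) :
    (∀ U : c.pt.affineOpens, RingTheory.Sequence.IsWeaklyRegular Γ(c.pt, U.1)
        (fs.map (fun f => (c.pt.presheaf.map (homOfLE (le_top : U.1 ≤ ⊤)).op).hom ((c.π.app i₀).appTop.hom f)))) ↔
      ∃ (j : I) (φ : j ⟶ i₀), ∀ U : (D.obj j).affineOpens,
        RingTheory.Sequence.IsWeaklyRegular Γ(D.obj j, U.1)
          (fs.map (fun f => ((D.obj j).presheaf.map (homOfLE (le_top : U.1 ≤ ⊤)).op).hom ((D.map φ).appTop.hom f))) := by
  refine Iff.trans (Iff.trans ?_ (H7Lim.WReg.wrAt_limit_iff hc hflat hcase i₀ fs)) ?_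
  · rw [← H7Lim.WReg.forall_wrOn_iff]
    simp only [H7Lim.WReg.WROn, List.map_map]
    rfl
  · refine exists_congr fun j => exists_congr fun φ => ?_
    rw [← H7Lim.WReg.forall_wrOn_iff]
    simp only [H7Lim.WReg.WROn, List.map_map]
    rfl

end Groth.Agent.S5982
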