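import Groth.Statements.S5983
import Groth.Agent.H7Lim.TransReg.RegularImmersion
-- import your own Groth.Agent.* helpers here

set_option autoImplicit false
universe u
open CategoryTheory AlgebraicGeometry
open CInt

namespace Groth.Agent.S5983

/-- Let S = lim S_i be a cofiltered limit of schemes with affine, flat transition maps, S_{i₀} a stage
and j₀ : X₀ ⟶ S_{i₀} an immersion with X₀ quasi-compact; assume either that every S_i is locally
Noetherian, or that every transition map is surjective and j₀ is locally of finite presentation.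
Then the base change X₀ ×_{S_{i₀}} S ⟶ S of j₀ is a regular immersion if and only if, for some index
j over i₀, the base change X₀ ×_{S_{i₀}} S_j ⟶ S_j is a regular immersion. -/
theorem result {I : Type u} [SmallCategory I] [IsCofiltered I]
    (D : I ⥤ Scheme.{u}) (c : Limits.Cone D) (hc : Limits.IsLimit c)
    [∀ (i j : I) (f : i ⟶ j), IsAffineHom (D.map f)]
    (hflat : ∀ (i j : I) (f : i ⟶ j), Flat (D.map f))
    (i₀ : I) {X₀ : Scheme.{u}} (j₀ : X₀ ⟶ D.obj i₀) [CompactSpace X₀] [IsImmersion j₀]
    (hcase : (∀ i : I, IsLocallyNoetherian (D.obj i)) ∨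
      ((∀ (i j : I) (f : i ⟶ j), Surjective (D.map f)) ∧ LocallyOfFinitePresentation j₀)) :
    RegImm.IsRegularImmersion RegImm.Kind.regular (Limits.pullback.snd j₀ (c.π.app i₀)) ↔
      ∃ (j : I) (φ : j ⟶ i₀),
        RegImm.IsRegularImmersion RegImm.Kind.regular (Limits.pullback.snd j₀ (D.map φ)) := by
  exact H7Lim.WReg.regImm_limit_iff hc hflat i₀ j₀ hcase

end Groth.Agent.S5983
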