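import Groth.Statements.S9762
import Groth.Agent.S1354
import Groth.Agent.H18HTop.ProperSquare
-- import your own Groth.Agent.* helpers here

set_option autoImplicit false
set_option linter.style.haveILetI false
universe u
open FlatMor

namespace Groth.Agent.S9762

open AlgebraicGeometry CategoryTheory Limits

set_option backward.isDefEq.respectTransparency false in
theorem quasiFiniteAt_of_isolated {X S : Scheme.{u}} (f : X ⟶ S) [LocallyOfFiniteType f] (s : S)
    (ξ : ↑(f.fiber s)) (hξ : IsOpen ({ξ} : Set ↑(f.fiber s))) :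
    f (f.fiberι s ξ) = s ∧ f.QuasiFiniteAt (f.fiberι s ξ) := by
  have key : ∀ (x : X) (s : S) (_ : f x = s) (ξ : ↑(f.fiber s)), f.fiberι s ξ = x →
      IsOpen ({ξ} : Set ↑(f.fiber s)) → f.QuasiFiniteAt x := by
    rintro x _ rfl ξ hx hξ
    obtain rfl : ξ = f.asFiber x := (f.fiberι (f x)).isEmbedding.injective (hx.trans (f.fiberι_asFiber x).symm)
    exact f.quasiFiniteAt_iff_isOpen_singleton_asFiber.mpr hξ
  have hs : f (f.fiberι s ξ) = s := by
    have : f.fiberι s ξ ∈ Set.range (f.fiberι s) := ⟨ξ, rfl⟩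
    rwa [f.range_fiberι s] at this
  exact ⟨hs, key _ s hs ξ rfl hξ⟩

set_option backward.isDefEq.respectTransparency false in
theorem exists_fiber_homeo {X S U : Scheme.{u}} (f : X ⟶ S) (g : U ⟶ S) (u : U) (s : S)
    (hu : g u = s) (hres : Function.Bijective (g.residueFieldMap u)) :
    ∃ φ : ↑((pullback.snd f g).fiber u) ≃ₜ ↑(f.fiber s),
      ∀ w, f.fiberι s (φ w) = pullback.fst f g ((pullback.snd f g).fiberι u w) := by
  subst hu
  haveI : IsIso (g.residueFieldMap u) := (ConcreteCategory.isIso_iff_bijective _).mpr hres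
  have htop : IsPullback ((pullback.snd f g).fiberι u ≫ pullback.fst f g)
      ((pullback.snd f g).fiberToSpecResidueField u) f
      (Spec.map (g.residueFieldMap u) ≫ S.fromSpecResidueField (g u)) := by
    rw [g.SpecMap_residueFieldMap_fromSpecResidueField u]
    exact (IsPullback.of_hasPullback (pullback.snd f g) (U.fromSpecResidueField u)).paste_horiz
      (IsPullback.of_hasPullback f g)
  have hf : IsPullback (f.fiberι (g u)) (f.fiberToSpecResidueField (g u)) f (S.fromSpecResidueField (g u)) :=
    IsPullback.of_hasPullback _ _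
  let φ : (pullback.snd f g).fiber u ⟶ f.fiber (g u) :=
    hf.lift ((pullback.snd f g).fiberι u ≫ pullback.fst f g)
      ((pullback.snd f g).fiberToSpecResidueField u ≫ Spec.map (g.residueFieldMap u))
      (by rw [Category.assoc _ (Spec.map _)]; exact htop.w)
  have hsq : IsPullback φ ((pullback.snd f g).fiberToSpecResidueField u)
      (f.fiberToSpecResidueField (g u)) (Spec.map (g.residueFieldMap u)) :=
    IsPullback.of_right (by rw [hf.lift_fst]; exact htop) (hf.lift_snd _ _ _) hf
  haveI : IsIso φ := hsq.isIso_fst_of_isIso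
  refine ⟨(asIso φ).hom.homeomorph, fun w => ?_⟩
  show f.fiberι (g u) (φ w) = _
  rw [← Scheme.Hom.comp_apply, hf.lift_fst]
  rfl

set_option backward.isDefEq.respectTransparency false in
theorem isFinite_iSup {X U : Scheme.{u}} (f : X ⟶ U) [IsSeparated f] [LocallyOfFiniteType f]
    {ι : Type u} [Finite ι] (V : ι → X.Opens) (h : ∀ i, IsFinite ((V i).ι ≫ f)) :
    IsFinite ((⨆ i, V i).ι ≫ f) := by
  let j : ∀ i, (V i : Scheme.{u}) ⟶ ↑(⨆ i, V i) := fun i => X.homOfLE (le_iSup V i)
  have hj : ∀ i, j i ≫ (⨆ i, V i).ι ≫ f = (V i).ι ≫ f := fun i => by simp [j]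
  haveI : Surjective (Sigma.desc j) := Surjective.sigmaDesc_of_union_range_eq_univ
    (Set.eq_univ_of_forall fun x => by
      obtain ⟨i, hi⟩ := TopologicalSpace.Opens.mem_iSup.1 x.2
      refine Set.mem_iUnion.2 ⟨i, ⟨x.1, hi⟩, ?_⟩
      apply (⨆ i, V i).ι.isOpenEmbedding.injective
      rw [← Scheme.Hom.comp_apply, Scheme.homOfLE_ι]
      rfl)
  haveI : UniversallyClosed (Sigma.desc j ≫ (⨆ i, V i).ι ≫ f) := by
    rw [show Sigma.desc j ≫ (⨆ i, V i).ι ≫ f = Sigma.desc (fun i => (V i).ι ≫ f) from
      Sigma.hom_ext _ _ fun i => by rw [Sigma.ι_desc_assoc, Sigma.ι_desc]; exact hj i]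
    haveI := h
    exact H18HTop.universallyClosed_sigmaDesc (fun i => (V i).ι ≫ f)
  haveI : UniversallyClosed ((⨆ i, V i).ι ≫ f) := UniversallyClosed.of_comp_surjective (Sigma.desc j) _
  haveI : LocallyQuasiFinite ((⨆ i, V i).ι ≫ f) := by
    refine (IsZariskiLocalAtSource.iff_of_iSup_eq_top (P := @LocallyQuasiFinite)
      (fun i => (⨆ i, V i).ι ⁻¹ᵁ V i) ?_).2 fun i => ?_
    · refine eq_top_iff.2 fun x _ => ?_
      obtain ⟨i, hi⟩ := TopologicalSpace.Opens.mem_iSup.1 x.2
      exact TopologicalSpace.Opens.mem_iSup.2 ⟨i, hi⟩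
    · haveI := h i
      rw [← Category.assoc, ← morphismRestrict_ι (⨆ i, V i).ι (V i), Category.assoc]
      infer_instance
  exact (IsFinite.iff_isProper_and_locallyQuasiFinite _).2 ⟨{}, inferInstance⟩


open AlgebraicGeometry CategoryTheory Limits in
/-- For f : X ⟶ S separated and locally of finite type, and a point s of S such that only finitely many
points of the fibre over s are isolated, some elementary étale neighbourhood (U, u) of (S, s) admits
an open and closed V ⊆ U ×_S X, finite over U, such that no point of the fibre over u lying outside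
V is isolated in that fibre. The published statement also asserts that the complement of V has empty
fibre over u when the fibre over s is finite; this row omits that clause. -/
theorem result {X S : Scheme.{u}} (f : X ⟶ S) [LocallyOfFiniteType f] [IsSeparated f] (s : S)
    (hfin : {x : ↑(f.fiber s) | IsOpen ({x} : Set ↑(f.fiber s))}.Finite) :
    ∃ (U : Scheme.{u}) (g : U ⟶ S) (u : U), Hens2.IsEtaleNbhd g u s ∧
      ∃ V : (pullback f g).Opens, IsClopen (V : Set ↑(pullback f g)) ∧ IsFinite (V.ι ≫ pullback.snd f g) ∧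
        ∀ w : ↑((pullback.snd f g).fiber u), (pullback.snd f g).fiberι u w ∉ V →
          ¬ IsOpen ({w} : Set ↑((pullback.snd f g).fiber u)) := by
  classical
  haveI := hfin.to_subtype
  obtain ⟨n, ⟨e⟩⟩ := Finite.exists_equiv_fin {x : ↑(f.fiber s) | IsOpen ({x} : Set ↑(f.fiber s))}
  let x : Fin n → X := fun i => f.fiberι s (e.symm i).1
  obtain ⟨U, g, u, hnhd, V, v, hV⟩ := Groth.Agent.S1354.result f s x
    (fun i => (quasiFiniteAt_of_isolated f s _ (e.symm i).2).1)
    (fun i => (quasiFiniteAt_of_isolated f s _ (e.symm i).2).2)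
  have hclosed : ∀ i, IsClosed (V i : Set ↑(pullback f g)) := fun i => by
    haveI := (hV i).2.1
    haveI : UniversallyClosed (V i).ι := UniversallyClosed.of_comp_of_isSeparated (V i).ι (pullback.snd f g)
    have := (V i).ι.isClosedMap.isClosed_range
    rwa [Scheme.Opens.range_ι] at this
  refine ⟨U, g, u, hnhd, ⨆ i : ULift.{u} (Fin n), V i.down, ⟨?_, TopologicalSpace.Opens.isOpen _⟩,
    isFinite_iSup (pullback.snd f g) (fun i : ULift.{u} (Fin n) => V i.down) (fun i => (hV i.down).2.1), ?_⟩
  · rw [TopologicalSpace.Opens.coe_iSup]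
    exact isClosed_iUnion_of_finite fun i => hclosed i.down
  · intro w hw hopen
    obtain ⟨φ, hφ⟩ := exists_fiber_homeo f g u s hnhd.base_eq hnhd.residue_bijective
    have hφw : IsOpen ({φ w} : Set ↑(f.fiber s)) := by
      rw [← Set.image_singleton]; exact φ.isOpenMap _ hopen
    let i := e ⟨φ w, hφw⟩
    obtain ⟨hvV, -, hvu, -, hvx, -⟩ := hV i
    obtain ⟨w', hw'⟩ : v i ∈ Set.range ((pullback.snd f g).fiberι u) := by
      rw [(pullback.snd f g).range_fiberι u]; exact hvu
    have : w' = w := by
      apply φ.injective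
      apply (f.fiberι s).isEmbedding.injective
      rw [hφ w', hw', hvx]
      simp [x, i]
    subst this
    exact hw (TopologicalSpace.Opens.mem_iSup.2 ⟨⟨i⟩, hw' ▸ hvV⟩)


end Groth.Agent.S9762
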