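import Groth.Statements.S5985
import Groth.Agent.S9762

set_option autoImplicit false
universe u
open CategoryTheory AlgebraicGeometry
open Unram

namespace Groth.Agent.S5985

/-- Let f : X ⟶ Y be separated and locally of finite type, and y a point of Y whose fibre f⁻¹(y) is
finite (hence discrete). Then there are an étale morphism g : Y' ⟶ Y, a point y' of Y' with g(y') =
y inducing an isomorphism of residue fields κ(y) ≅ κ(y'), and two complementary open subschemes V, W
of X' = X ×_Y Y' such that V ⟶ Y' is finite and W contains no point of X' lying over y'. -/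
theorem result {X Y : Scheme.{u}} (f : X ⟶ Y)
    [LocallyOfFiniteType f] [IsSeparated f] (y : Y) (hfin : (f ⁻¹' {y}).Finite) :
    ∃ (Y' : Scheme.{u}) (g : Y' ⟶ Y) (y' : Y'), Etale g ∧ g y' = y ∧
      IsIso (g.residueFieldMap y') ∧
      ∃ (V W : (Limits.pullback f g).Opens), IsCompl V W ∧
        IsFinite (V.ι ≫ Limits.pullback.snd f g) ∧
        ∀ x : ↥(Limits.pullback f g), Limits.pullback.snd f g x = y' → x ∈ V := by
  classical
  haveI hff : Finite ↑(f.fiber y) := by
    haveI := hfin.to_subtype
    exact Finite.of_equiv _ (f.fiberHomeo y).symm.toEquiv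
  haveI : LocallyOfFiniteType (f.fiberToSpecResidueField y) :=
    inferInstanceAs (LocallyOfFiniteType (Limits.pullback.snd f (Y.fromSpecResidueField y)))
  haveI : LocallyQuasiFinite (f.fiberToSpecResidueField y) :=
    LocallyQuasiFinite.of_finite_preimage_singleton _ fun _ => Set.toFinite _
  haveI hdisc : DiscreteTopology ↑(f.fiber y) := by
    have h := (f.fiberToSpecResidueField y).isDiscrete_preimage_singleton (default : Spec (Y.residueField y))
    have huniv : (f.fiberToSpecResidueField y) ⁻¹' {(default : Spec (Y.residueField y))} = Set.univ :=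
      Set.eq_univ_of_forall fun z => Subsingleton.elim _ _
    rw [huniv, isDiscrete_univ_iff] at h
    exact h
  obtain ⟨U, g, u, hn, V, hV, hVf, hVu⟩ := S9762.result f y (Set.toFinite _)
  refine ⟨U, g, u, hn.etale, hn.base_eq, (ConcreteCategory.isIso_iff_bijective _).mpr hn.residue_bijective,
    V, ⟨(V : Set ↑(Limits.pullback f g))ᶜ, hV.1.isOpen_compl⟩, ?_, hVf, fun x hx => ?_⟩
  · simp [isCompl_iff, disjoint_iff, codisjoint_iff, SetLike.ext'_iff]
  · obtain ⟨w, rfl⟩ : x ∈ Set.range ((Limits.pullback.snd f g).fiberι u) := by
      rw [(Limits.pullback.snd f g).range_fiberι u]; exact hx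
    by_contra hw
    obtain ⟨φ, -⟩ := S9762.exists_fiber_homeo f g u y hn.base_eq hn.residue_bijective
    refine hVu w hw ?_
    have := (isOpen_discrete ({φ w} : Set ↑(f.fiber y))).preimage φ.continuous
    rwa [← Set.image_singleton, φ.preimage_image] at this

end Groth.Agent.S5985
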