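import Groth.Statements.S5989
import Groth.Agent.H05EGA4.PSKaehler

set_option autoImplicit false
universe u
open scoped TensorProduct
open EGA418

namespace Groth.Agent.S5989

/-- Let k be a field of characteristic p > 0 such that k is finite over its subfield k^p of p-th powers
(the Frobenius endomorphism of k is a finite ring map), C a complete Noetherian local k-algebra
which is an integral domain whose residue field is a finite extension of k, n the dimension of C, L
a fraction field of C and Υ the module of imperfection of L over k (the kernel of L ⊗_k Ω_k ⟶ Ω_L on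
absolute differentials). Then dim_L Ω_{L/k} = n + dim_L Υ, and the module of differentials Ω_{C/k}
is a finitely generated C-module. -/
theorem result (p : ℕ) [Fact p.Prime]
    (k C L : Type u) [Field k] [CharP k p] (hk : (frobenius k p).Finite) [CommRing C] [IsDomain C]
    [IsNoetherianRing C] [IsLocalRing C] [Algebra k C] [IsAdicComplete (IsLocalRing.maximalIdeal C) C]
    [Module.Finite k (IsLocalRing.ResidueField C)] (n : ℕ) (hn : ringKrullDim C = n)
    [Field L] [Algebra C L] [IsFractionRing C L] [Algebra k L] [IsScalarTower k C L] :
    Module.finrank L (Ω[L⁄k]) =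
        n + Module.finrank L (LinearMap.ker (KaehlerDifferential.mapBaseChange ℤ k L)) ∧
      Module.Finite C (Ω[C⁄k]) := by
  obtain ⟨_, _, _, _, K, _, _, _, _, _, _, _, _, _⟩ := Groth.Agent.H05EGA4.PSKaehler.setup (k := k) (n := n) C L hn
  obtain ⟨-, hiff, heq⟩ := Groth.Agent.H05EGA4.PSKaehler.cartier_through k K L
    (Groth.Agent.H05EGA4.PSKaehler.alpha_injective n K L)
  obtain ⟨hfin, hrank⟩ := Groth.Agent.H05EGA4.PSKaehler.finrank_eq_n (n := n) K L p hk
  exact ⟨by rw [heq (hiff.1 hfin), hrank], Groth.Agent.H05EGA4.PSKaehler.finite_kaehler_of_finite (n := n) p hk C⟩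

end Groth.Agent.S5989
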