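import Groth.Statements.S5991
import Groth.Agent.H05EGA4.CompletedKaehler
import Groth.Agent.H24Adic.Basic
import Mathlib

set_option autoImplicit false
universe u
open scoped TensorProduct
open EGA418

namespace Groth.Agent.S5991

theorem range_map_eq_ker {S : Type u} [CommRing S] [IsNoetherianRing S] [IsLocalRing S]
    [IsAdicComplete (IsLocalRing.maximalIdeal S) S] {M' M M'' : Type u} [AddCommGroup M'] [Module S M']
    [AddCommGroup M] [Module S M] [AddCommGroup M''] [Module S M''] (f : M' →ₗ[S] M) (g : M →ₗ[S] M'')
    (hex : Function.Exact f g) (hg : Function.Surjective g)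
    [Module.Finite S (M ⧸ (IsLocalRing.maximalIdeal S • ⊤ : Submodule S M))] :
    LinearMap.range (AdicCompletion.map (IsLocalRing.maximalIdeal S) f) =
      LinearMap.ker (AdicCompletion.map (IsLocalRing.maximalIdeal S) g) := by
  set I := IsLocalRing.maximalIdeal S with hI
  haveI : Module.Finite S (AdicCompletion I M) := H05EGA4.CompletedKaehler.finite_adicCompletion I
  refine le_antisymm ?_ fun x hx => ?_
  · rintro _ ⟨y, rfl⟩
    rw [LinearMap.mem_ker, AdicCompletion.map_comp_apply, hex.linearMap_comp_eq_zero, AdicCompletion.map_zero]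
    rfl
  · let fS : AdicCompletion I M' →ₗ[S] AdicCompletion I M := (AdicCompletion.map I f).restrictScalars S
    show x ∈ LinearMap.range fS
    rw [← Submodule.Quotient.mk_eq_zero, ← Submodule.mem_bot S,
      ← Ideal.iInf_pow_smul_eq_bot_of_isLocalRing I (IsLocalRing.maximalIdeal.isMaximal S).ne_top, Submodule.mem_iInf]
    intro n
    obtain ⟨m, hm⟩ := Submodule.Quotient.mk_surjective _ (x.val n)
    have h0 : g m ∈ (I ^ n • ⊤ : Submodule S M'') := by
      rw [← Submodule.Quotient.mk_eq_zero]
      have h := congrArg (fun z : AdicCompletion I M'' => z.val n) (LinearMap.mem_ker.1 hx)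
      simp only [AdicCompletion.map_val_apply, ← hm] at h
      exact h
    have hmap : (I ^ n • ⊤ : Submodule S M'') = (I ^ n • ⊤ : Submodule S M).map g := by
      rw [Submodule.map_smul'', Submodule.map_top, LinearMap.range_eq_top.2 hg]
    rw [hmap] at h0
    obtain ⟨m0, hm0, hgm⟩ := h0
    obtain ⟨y, hy⟩ := (hex (m - m0)).1 (by rw [map_sub, hgm, sub_self])
    have hker : x - fS (AdicCompletion.of I M' y) ∈ (I ^ n • ⊤ : Submodule S (AdicCompletion I M)) := by
      rw [AdicCompletion.pow_smul_top_eq_ker_eval (IsNoetherian.noetherian I), LinearMap.mem_ker, map_sub, sub_eq_zero]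
      show x.val n = AdicCompletion.eval I M n (AdicCompletion.map I f (AdicCompletion.of I M' y))
      rw [AdicCompletion.map_of, AdicCompletion.eval_of, ← hm, hy, Submodule.mkQ_apply, Submodule.Quotient.eq,
        sub_sub_cancel]
      exact hm0
    have h2 := Submodule.mem_map_of_mem (f := (LinearMap.range fS).mkQ) hker
    rw [Submodule.map_smul'', Submodule.map_top, Submodule.range_mkQ, Submodule.mkQ_apply,
      Submodule.Quotient.mk_sub, (Submodule.Quotient.mk_eq_zero (LinearMap.range fS)).2 ⟨_, rfl⟩, sub_zero] at h2
    exact h2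

/-- Let k be a field, R and S complete Noetherian local k-algebras such that the module of differentials
of the residue field of S over k is finite-dimensional, and let S be a finite R-algebra through a
k-algebra homomorphism R → S. Write m for the maximal ideal of S and complete m-adically. Then the
S-module Ω_{S/R} is m-adically complete (it is its own completion), and the sequence of completed
modules (S ⊗_R Ω_{R/k})^ ⟶ (Ω_{S/k})^ ⟶ (Ω_{S/R})^ ⟶ 0, induced by the canonical maps S ⊗_R Ω_{R/k}
⟶ Ω_{S/k} ⟶ Ω_{S/R}, is exact: the second map is surjective and its kernel is the image of the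
first. -/
theorem result (k R S : Type u) [Field k] [CommRing R] [IsNoetherianRing R]
    [IsLocalRing R] [Algebra k R] [IsAdicComplete (IsLocalRing.maximalIdeal R) R]
    [CommRing S] [IsNoetherianRing S] [IsLocalRing S] [Algebra k S]
    [IsAdicComplete (IsLocalRing.maximalIdeal S) S] [Algebra R S] [IsScalarTower k R S]
    [Module.Finite R S] [Module.Finite (IsLocalRing.ResidueField S) (Ω[IsLocalRing.ResidueField S⁄k])] :
    IsAdicComplete (IsLocalRing.maximalIdeal S) (Ω[S⁄R]) ∧
      Function.Surjective (AdicCompletion.map (IsLocalRing.maximalIdeal S) (KaehlerDifferential.map k R S S)) ∧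
      LinearMap.range (AdicCompletion.map (IsLocalRing.maximalIdeal S) (KaehlerDifferential.mapBaseChange k R S)) =
        LinearMap.ker (AdicCompletion.map (IsLocalRing.maximalIdeal S) (KaehlerDifferential.map k R S S)) := by
  let n := IsLocalRing.maximalIdeal S
  have hg := KaehlerDifferential.map_surjective k R S
  haveI : Module.Finite S n := Module.Finite.of_fg (IsNoetherian.noetherian n)
  haveI : Module.Finite S n.Cotangent := Module.Finite.of_surjective _ n.toCotangent_surjective
  haveI : Module.Finite (S ⧸ n) n.Cotangent := Module.Finite.of_restrictScalars_finite S (S ⧸ n) _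
  haveI : Module.Finite (S ⧸ n) (Ω[S ⧸ n⁄k]) := ‹Module.Finite (IsLocalRing.ResidueField S) (Ω[IsLocalRing.ResidueField S⁄k])›
  haveI : Module.Finite S (Ω[S⁄k] ⧸ (n • ⊤ : Submodule S Ω[S⁄k])) :=
    H05EGA4.CompletedKaehler.finite_quotient_smul n
  refine ⟨H24Adic.isAdicComplete_of_finite n, AdicCompletion.map_surjective_of_mkQ_comp_surjective ?_,
    range_map_eq_ker _ _ (KaehlerDifferential.exact_mapBaseChange_map k R S) hg⟩
  exact (Submodule.mkQ_surjective _).comp hg

end Groth.Agent.S5991
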