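import Groth.Statements.S5992
import Groth.Agent.H05EGA4.PSSep

set_option autoImplicit false
universe u
open scoped TensorProduct
open EGA418

namespace Groth.Agent.S5992

/-- Let k be a field of characteristic exponent p such that k is finite over its subfield k^p (the
Frobenius endomorphism of k is a finite ring map), and A a complete Noetherian local k-algebra which
is an integral domain, not a field, whose residue field is a finite extension of k; let n = dim A.
Then there is a finite purely inseparable extension k' of k such that, A' denoting the reduction of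
k' ⊗_k A modulo its nilradical, A' is a local domain and there is a local k'-algebra homomorphism
from the power series ring k'[[T_1, …, T_n]] to A' which is injective, makes A' a finite algebra,
and is unramified at the zero ideal of A' (so the fraction field of A' is a finite separable
extension of that of k'[[T_1, …, T_n]]). -/
theorem result (p : ℕ) (k A : Type u) [Field k]
    [ExpChar k p] (hk : (frobenius k p).Finite) [CommRing A] [IsDomain A] [IsNoetherianRing A] [IsLocalRing A]
    [Algebra k A] [IsAdicComplete (IsLocalRing.maximalIdeal A) A]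
    [Module.Finite k (IsLocalRing.ResidueField A)] (hA : ¬ IsField A) (n : ℕ) (hn : ringKrullDim A = n) :
    ∃ (k' : Type u) (_ : Field k') (_ : Algebra k k'), Module.Finite k k' ∧ IsPurelyInseparable k k' ∧
      ∃ (_ : IsDomain ((k' ⊗[k] A) ⧸ nilradical (k' ⊗[k] A)))
        (_ : IsLocalRing ((k' ⊗[k] A) ⧸ nilradical (k' ⊗[k] A)))
        (_ : Algebra (MvPowerSeries (Fin n) k') ((k' ⊗[k] A) ⧸ nilradical (k' ⊗[k] A)))
        (_ : IsScalarTower k' (MvPowerSeries (Fin n) k') ((k' ⊗[k] A) ⧸ nilradical (k' ⊗[k] A))),
        IsLocalHom (algebraMap (MvPowerSeries (Fin n) k') ((k' ⊗[k] A) ⧸ nilradical (k' ⊗[k] A))) ∧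
        Function.Injective (algebraMap (MvPowerSeries (Fin n) k') ((k' ⊗[k] A) ⧸ nilradical (k' ⊗[k] A))) ∧
        Module.Finite (MvPowerSeries (Fin n) k') ((k' ⊗[k] A) ⧸ nilradical (k' ⊗[k] A)) ∧
        Algebra.IsUnramifiedAt (MvPowerSeries (Fin n) k') (⊥ : Ideal ((k' ⊗[k] A) ⧸ nilradical (k' ⊗[k] A))) := by
  have hF : Module.Finite (frobenius k p).fieldRange k := by
    obtain ⟨s, hs⟩ := @Module.Finite.fg_top k k _ _ (@Algebra.toModule k k _ _ (frobenius k p).toAlgebra) hk
    refine ⟨⟨s, eq_top_iff.2 fun x h => ?_⟩⟩
    clear h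
    have hx : x ∈ @Submodule.span k k _ _ (@Algebra.toModule k k _ _ (frobenius k p).toAlgebra) (s : Set k) := by
      rw [hs]; trivial
    induction hx using Submodule.span_induction with
    | mem y hy => exact Submodule.subset_span hy
    | zero => exact zero_mem _
    | add y z _ _ hy hz => exact add_mem hy hz
    | smul c y _ hy => exact Submodule.smul_mem _ (⟨frobenius k p c, c, rfl⟩ : (frobenius k p).fieldRange) hy
  rcases (inferInstance : ExpChar k p) with _ | hp
  · haveI : IsReduced ((k ⊗[k] FractionRing A) ⧸ nilradical (k ⊗[k] FractionRing A)) :=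
      (Ideal.isRadical_iff_quotient_reduced _).1 (Ideal.radical_isRadical _)
    haveI : Algebra.IsGeometricallyReduced k ((k ⊗[k] FractionRing A) ⧸ nilradical (k ⊗[k] FractionRing A)) :=
      Groth.Agent.H06Red.isGeometricallyReduced_of_perfectField k ((k ⊗[k] FractionRing A) ⧸ nilradical (k ⊗[k] FractionRing A))
    exact ⟨k, inferInstance, inferInstance, inferInstance, inferInstance,
      Groth.Agent.H05EGA4.PSSep.main 1 k k A hA n hn (Or.inl rfl) (FractionRing A) inferInstance⟩
  · haveI : Fact p.Prime := ⟨hp⟩
    obtain ⟨k', _, _, hfin, hpi, hred⟩ := Groth.Agent.H05EGA4.PSSep.exists_extension p k A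
    haveI := hfin
    haveI := hpi
    exact ⟨k', inferInstance, inferInstance, hfin, hpi,
      Groth.Agent.H05EGA4.PSSep.main p k k' A hA n hn (Or.inr hF) (FractionRing A) hred⟩

end Groth.Agent.S5992
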