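import Groth.Statements.S5993
import Groth.Agent.H05EGA4.CTensor
import Groth.Agent.H8Props.FlatDepth

set_option autoImplicit false
set_option linter.style.haveILetI false
universe u
open scoped TensorProduct
open EGA418

open TensorProduct Groth.Agent Groth.Agent.H05EGA4 IsLocalRing

namespace Groth.Agent.S5993

/-- Let k be a field, A a complete Noetherian local k-algebra with maximal ideal m whose residue field
is a finite extension of k, k' an extension field of k, I the ideal of A ⊗_k k' generated by m, and
A' the completed tensor product of A and k' over k, namely the I-adic completion of A ⊗_k k'. Then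
A' is a Noetherian ring with finitely many maximal ideals, complete and separated for the ideal
generated by m, and for every maximal ideal M of A' the local ring A'_M is complete, faithfully flat
over A, of the same dimension as A, and has residue field finite over k'. -/
theorem result (k A k' : Type u) [Field k]
    [CommRing A] [IsNoetherianRing A] [IsLocalRing A] [Algebra k A]
    [IsAdicComplete (IsLocalRing.maximalIdeal A) A] [Module.Finite k (IsLocalRing.ResidueField A)]
    [Field k'] [Algebra k k'] (I : Ideal (A ⊗[k] k'))
    (hI : I = (IsLocalRing.maximalIdeal A).map (algebraMap A (A ⊗[k] k'))) :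
    IsNoetherianRing (AdicCompletion I (A ⊗[k] k')) ∧
      Finite (MaximalSpectrum (AdicCompletion I (A ⊗[k] k'))) ∧
      IsAdicComplete ((IsLocalRing.maximalIdeal A).map (algebraMap A (AdicCompletion I (A ⊗[k] k'))))
        (AdicCompletion I (A ⊗[k] k')) ∧
      ∀ M : MaximalSpectrum (AdicCompletion I (A ⊗[k] k')),
        IsAdicComplete (IsLocalRing.maximalIdeal (Localization.AtPrime M.asIdeal))
            (Localization.AtPrime M.asIdeal) ∧
          Module.FaithfullyFlat A (Localization.AtPrime M.asIdeal) ∧
          ringKrullDim (Localization.AtPrime M.asIdeal) = ringKrullDim A ∧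
          (((Ideal.Quotient.mk M.asIdeal).comp (algebraMap (A ⊗[k] k') (AdicCompletion I (A ⊗[k] k')))).comp
              Algebra.TensorProduct.includeRight.toRingHom).Finite := by
  have hIeq : EGA4.cTensorIdeal k A k' = I := by
    rw [hI, EGA4.cTensorIdeal, IsLocalRing.maximalIdeal_eq_bot, Ideal.map_bot, sup_bot_eq]
    rfl
  subst hIeq
  haveI : IsAdicComplete (maximalIdeal k') k' := by rw [IsLocalRing.maximalIdeal_eq_bot]; infer_instance
  let C := EGA4.CTensor k A k'
  haveI := CT.isNoetherianRing_cTensor k A k'
  have hm : (maximalIdeal A).map (algebraMap A C) = (EGA4.cTensorIdeal k A k').map (algebraMap (A ⊗[k] k') C) :=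
    (CT.map_maximalIdeal k A k').trans (congrArg (Ideal.map (algebraMap (A ⊗[k] k') C)) hI.symm)
  refine ⟨CT.isNoetherianRing_cTensor k A k', CT.finite_maximalSpectrum k A k', ?_, fun M => ?_⟩
  · rw [hm]
    exact AdicCompletion.isAdicComplete_self _ (CT.fg k A k')
  haveI := M.isMaximal
  let CM := Localization.AtPrime M.asIdeal
  haveI := CT.flat_left k A k'
  haveI : Module.Flat A CM := Module.Flat.trans A C CM
  have hle : (maximalIdeal A).map (algebraMap A CM) ≤ maximalIdeal CM := by
    rw [IsScalarTower.algebraMap_eq A C CM, ← Ideal.map_map, ← Localization.AtPrime.map_eq_maximalIdeal]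
    exact Ideal.map_mono (hm.trans_le (CT.cTensorIdeal_le k A k' M.asIdeal))
  haveI hloc : IsLocalHom (algebraMap A CM) := ((local_hom_TFAE (algebraMap A CM)).out 0 2).mpr hle
  haveI : Module.FaithfullyFlat A CM := Module.FaithfullyFlat.of_flat_of_isLocalHom
  refine ⟨CT.isAdicComplete_atMaximal k A k' M.asIdeal, inferInstance, ?_, ?_⟩
  · haveI : Nontrivial (CM ⧸ (maximalIdeal A).map (algebraMap A CM)) :=
      Ideal.Quotient.nontrivial_iff.mpr (ne_top_of_le_ne_top (maximalIdeal.isMaximal CM).ne_top hle)
    haveI : IsLocalRing (CM ⧸ (maximalIdeal A).map (algebraMap A CM)) := .of_surjective' _ Ideal.Quotient.mk_surjective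
    rw [Groth.Agent.H8Props.FlatDepth.ringKrullDim_eq_add A CM]
    haveI : Ring.KrullDimLE 0 (CM ⧸ (maximalIdeal A).map (algebraMap A CM)) := Ring.krullDimLE_zero_iff.mpr fun p hp => by
      let q := p.comap (Ideal.Quotient.mk _)
      have h1 : ((maximalIdeal A).map (algebraMap A C)).map (algebraMap C CM) ≤ q := by
        rw [Ideal.map_map, ← IsScalarTower.algebraMap_eq]
        intro x hx
        show Ideal.Quotient.mk _ x ∈ p
        rw [Ideal.Quotient.eq_zero_iff_mem.mpr hx]
        exact zero_mem _
      rw [hm, Ideal.map_le_iff_le_comap] at h1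
      have h2 := (CT.isMaximal_of_le k A k' (q.comap (algebraMap C CM)) h1).1
      have h3 : q.comap (algebraMap C CM) = M.asIdeal := h2.eq_of_le M.isMaximal.ne_top
        (((IsLocalization.AtPrime.orderIsoOfPrime CM M.asIdeal) ⟨q, inferInstance⟩).2.2)
      have h4 : q = maximalIdeal CM := le_antisymm (le_maximalIdeal (Ideal.IsPrime.ne_top inferInstance)) (by
        rw [← Localization.AtPrime.map_eq_maximalIdeal]
        exact (Ideal.map_mono h3.ge).trans Ideal.map_comap_le)
      have h5 := Ideal.map_comap_of_surjective _ Ideal.Quotient.mk_surjective p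
      rw [← h5]
      refine (Ideal.map_eq_top_or_isMaximal_of_surjective _ Ideal.Quotient.mk_surjective ?_).resolve_left
        (by rw [h5]; exact hp.ne_top)
      show q.IsMaximal
      rw [h4]
      exact maximalIdeal.isMaximal CM
    rw [le_antisymm (Ring.krullDimLE_iff.mp inferInstance) (ringKrullDim_nonneg_of_nontrivial
      (R := CM ⧸ (maximalIdeal A).map (algebraMap A CM))), Nat.cast_zero, add_zero]
  · letI : Algebra k' (A ⊗[k] k') := Algebra.TensorProduct.rightAlgebra
    exact RingHom.finite_algebraMap.mpr (CT.finite_quotient k A k' M.asIdeal fun _ => rfl)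

end Groth.Agent.S5993
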