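import Groth.Statements.S5995
import Groth.Agent.H06Unram.RationalSection

set_option autoImplicit false
universe u
open CategoryTheory AlgebraicGeometry
open Unram

namespace Groth.Agent.S5995

/-- Let Y be a reduced scheme whose irreducible components form a locally finite family and all of whose
local rings are geometrically unibranch, f : X ⟶ Y a separated, locally of finite type, formally
unramified morphism, and u : U ⟶ X a section of f over a dense open U of Y which cannot be extended:
whenever v is a section of f over an open V agreeing with u on U ∩ V, V is contained in U (so U is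
the domain of definition of the rational section defined by u). Then the image u(U) is an open and
closed subset of X. -/
theorem result {X Y : Scheme.{u}} [IsReduced Y]
    (hcomp : LocallyFinite (fun Z : ↥(irreducibleComponents ↥Y) => (Z : Set ↥Y)))
    (f : X ⟶ Y) [IsSeparated f] [LocallyOfFiniteType f] [FormallyUnramified f]
    (U : Y.Opens) (hU : Dense (U : Set ↥Y)) (u : (U : Scheme.{u}) ⟶ X) (hu : u ≫ f = U.ι)
    (hY : ∀ y : Y, CAlg2.IsGeomUnibranch (Y.presheaf.stalk y))
    (hmax : ∀ (V : Y.Opens) (v : (V : Scheme.{u}) ⟶ X), v ≫ f = V.ι →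
      Y.homOfLE (inf_le_left : U ⊓ V ≤ U) ≫ u = Y.homOfLE (inf_le_right : U ⊓ V ≤ V) ≫ v → V ≤ U) :
    IsOpen (Set.range u) ∧ IsClosed (Set.range u) := by
  haveI := H06Unram.isOpenImmersion_section f U.ι u hu
  refine ⟨u.isOpenEmbedding.isOpen_range, isClosed_iff_clusterPt.mpr fun z hz => ?_⟩
  have hz' : z ∈ closure (Set.range u) := mem_closure_iff_clusterPt.mpr hz
  obtain ⟨V, v, hzV, hv, hagree⟩ := H06Unram.exists_section_nhd hcomp f U hU u hu z (hY _) hz'
  have hzU : f z ∈ U := hmax V v hv hagree hzV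
  -- the image of the section is closed in the preimage of `U`
  let u₁ : (U : Scheme.{u}) ⟶ (f ⁻¹ᵁ U).toScheme := IsOpenImmersion.lift (f ⁻¹ᵁ U).ι u (by
    rintro _ ⟨w, rfl⟩
    rw [Scheme.Opens.range_ι]
    show f (u w) ∈ U
    rw [← Scheme.Hom.comp_apply, hu]
    exact w.2)
  have hu₁ : u₁ ≫ (f ⁻¹ᵁ U).ι = u := IsOpenImmersion.lift_fac _ _ _
  have hsec : u₁ ≫ (f ∣_ U) = 𝟙 _ := by
    rw [← cancel_mono U.ι, Category.assoc, morphismRestrict_ι, reassoc_of% hu₁, hu, Category.id_comp]
  haveI : IsSeparated (f ∣_ U) := IsZariskiLocalAtTarget.restrict ‹_› U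
  haveI : IsClosedImmersion (u₁ ≫ (f ∣_ U)) := by rw [hsec]; infer_instance
  haveI : IsClosedImmersion u₁ := IsClosedImmersion.of_comp u₁ (f ∣_ U)
  let z₁ : (f ⁻¹ᵁ U).toScheme := ⟨z, hzU⟩
  have hz₁ : z₁ ∈ closure (Set.range u₁) := by
    rw [(f ⁻¹ᵁ U).ι.isOpenEmbedding.isInducing.closure_eq_preimage_closure_image]
    show z ∈ closure _
    rw [← Set.range_comp]
    convert hz' using 3
    funext w
    rw [Function.comp_apply, ← Scheme.Hom.comp_apply, hu₁]
  rw [u₁.isClosedEmbedding.isClosed_range.closure_eq] at hz₁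
  obtain ⟨w, hw⟩ := hz₁
  refine ⟨w, ?_⟩
  rw [← hu₁, Scheme.Hom.comp_apply, hw]
  rfl

end Groth.Agent.S5995
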