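import Groth.Statements.S5996
import Groth.Agent.H06Unram.RationalSection

set_option autoImplicit false
universe u
open CategoryTheory AlgebraicGeometry
open Unram

namespace Groth.Agent.S5996

/-- Let Y be a reduced scheme whose irreducible components form a locally finite family, f : X ⟶ Y a
separated, locally of finite type, formally unramified morphism such that f(T) is closed in Y for
every closed irreducible subset T of X, and u : U ⟶ X a section of f over a dense open U of Y. Then
for every point y of Y whose local ring is geometrically unibranch there are an open V ∋ y and a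
section v : V ⟶ X of f agreeing with u on U ∩ V: the rational section defined by u is defined at
every geometrically unibranch point. -/
theorem result {X Y : Scheme.{u}} [IsReduced Y]
    (hcomp : LocallyFinite (fun Z : ↥(irreducibleComponents ↥Y) => (Z : Set ↥Y)))
    (f : X ⟶ Y) [IsSeparated f] [LocallyOfFiniteType f] [FormallyUnramified f]
    (U : Y.Opens) (hU : Dense (U : Set ↥Y)) (u : (U : Scheme.{u}) ⟶ X) (hu : u ≫ f = U.ι)
    (hcl : ∀ T : Set ↥X, IsClosed T → IsIrreducible T → IsClosed (f '' T))
    (y : Y) (hy : CAlg2.IsGeomUnibranch (Y.presheaf.stalk y)) :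
    ∃ (V : Y.Opens) (v : (V : Scheme.{u}) ⟶ X), y ∈ V ∧ v ≫ f = V.ι ∧
      Y.homOfLE (inf_le_left : U ⊓ V ≤ U) ≫ u = Y.homOfLE (inf_le_right : U ⊓ V ≤ V) ≫ v := by
  obtain ⟨Z, ⟨hZ, hyZ⟩, -⟩ := H06Unram.existsUnique_component y
    (H06Unram.minimalPrimes_subsingleton_of_isDomain_red hy.1.1)
  obtain ⟨W, hyW, _⟩ := H06Unram.exists_integral_nhd hcomp y hy
  let η : W.toScheme := genericPoint W.toScheme
  let y' : W.toScheme := ⟨y, hyW⟩
  have hηy : W.ι η ⤳ y := ((genericPoint_spec W.toScheme).specializes (Set.mem_univ y')).map W.ι.continuous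
  have hηU : W.ι η ∈ U := by
    obtain ⟨w, hwW, hwU⟩ := hU.inter_open_nonempty W W.2 ⟨_, hyW⟩
    exact (((genericPoint_spec W.toScheme).specializes (Set.mem_univ ⟨w, hwW⟩)).map W.ι.continuous).mem_open U.2 hwU
  let e : (U : Scheme.{u}) := ⟨W.ι η, hηU⟩
  have hfe : f (u e) = W.ι η := by rw [← Scheme.Hom.comp_apply, hu]; rfl
  have hcl' := hcl (closure {u e}) isClosed_closure isIrreducible_singleton.closure
  obtain ⟨z, hz, hfz⟩ := hηy.mem_closed hcl' ⟨u e, subset_closure rfl, hfe⟩
  obtain rfl : f z = y := hfz
  exact H06Unram.exists_section_nhd hcomp f U hU u hu z hy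
    (closure_mono (show {u e} ⊆ Set.range u from Set.singleton_subset_iff.mpr ⟨e, rfl⟩) hz)

end Groth.Agent.S5996
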