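import Groth.Statements.S6712
import Groth.Agent.H8Props.FibreIsoLocus

set_option autoImplicit false
universe u
open CategoryTheory AlgebraicGeometry
open DEquiv

namespace Groth.Agent.S6712

open CategoryTheory.Limits in
theorem snd_eq {S X Y T : Scheme.{u}} (h : Y ⟶ S) (p : X ⟶ Y) (i : T ⟶ S)
    (e₁ : (p ≫ h) ≫ 𝟙 S = p ≫ h) (e₂ : i ≫ 𝟙 S = 𝟙 T ≫ i) :
    pullback.snd p (pullback.fst h i) =
      (pullbackRightPullbackFstIso h i p).hom ≫
        pullback.map (p ≫ h) i h i p (𝟙 _) (𝟙 _) e₁ e₂ := by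
  apply pullback.hom_ext
  · simp only [pullback.map, Category.assoc]
    erw [pullback.lift_fst]
    rw [pullbackRightPullbackFstIso_hom_fst_assoc, pullback.condition]
  · simp only [pullback.map, Category.assoc]
    erw [pullback.lift_snd, Category.comp_id]
    rw [pullbackRightPullbackFstIso_hom_snd]

open CategoryTheory.Limits in
theorem isIso_snd_iff {S X Y T : Scheme.{u}} (h : Y ⟶ S) (p : X ⟶ Y) (i : T ⟶ S)
    (e₁ : (p ≫ h) ≫ 𝟙 S = p ≫ h) (e₂ : i ≫ 𝟙 S = 𝟙 T ≫ i) :
    IsIso (pullback.snd p (pullback.fst h i)) ↔ IsIso (pullback.map (p ≫ h) i h i p (𝟙 _) (𝟙 _) e₁ e₂) := by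
  rw [snd_eq h p i e₁ e₂]
  exact isIso_comp_left_iff _ _


open CategoryTheory.Limits in
/-- Let S be a Noetherian scheme, s ∈ S, and p : X ⟶ Y a morphism over S where X ⟶ S and Y ⟶ S are
proper and X ⟶ S is flat. If the fibre X_s ⟶ Y_s of p is an isomorphism, then there is an open
neighbourhood U of s such that the base change X_U ⟶ Y_U of p is an isomorphism. -/
theorem result
    {S X Y : Scheme.{u}} [IsNoetherian S] (s : S) (g : X ⟶ S) (h : Y ⟶ S) (p : X ⟶ Y)
    (w : p ≫ h = g) [IsProper g] [IsProper h] [Flat g]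
    (hs : IsIso (pullback.map g (S.fromSpecResidueField s) h (S.fromSpecResidueField s) p (𝟙 _)
      (𝟙 _) ((Category.comp_id g).trans w.symm)
      ((Category.comp_id _).trans (Category.id_comp _).symm))) :
    ∃ U : S.Opens, s ∈ U ∧
      IsIso (pullback.map g U.ι h U.ι p (𝟙 _) (𝟙 _) ((Category.comp_id g).trans w.symm)
        ((Category.comp_id _).trans (Category.id_comp _).symm)) := by
  haveI : LocallyOfFinitePresentation h := inferInstance
  subst w
  haveI : LocallyOfFinitePresentation (p ≫ h) := inferInstance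
  obtain ⟨U, hU, hiso⟩ := H8Props.FibreCriterion.exists_isIso_morphismRestrict p h
  refine ⟨U, (hU s).2 ((isIso_snd_iff h p _ _ _).2 hs), ?_⟩
  haveI := hiso
  refine (isIso_snd_iff h p U.ι _ _).1
    (H8Props.FibreCriterion.isIso_restrict_snd p (h ⁻¹ᵁ U) _ ?_)
  rintro _ ⟨z, rfl⟩
  rw [Scheme.Opens.range_ι]
  show h (CategoryTheory.Limits.pullback.fst h U.ι z) ∈ U
  rw [← Scheme.Hom.comp_apply, CategoryTheory.Limits.pullback.condition, Scheme.Hom.comp_apply]
  exact (U.opensRange_ι.le ⟨_, rfl⟩)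


end Groth.Agent.S6712
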