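import Groth.Statements.S5997
import Groth.Agent.LeadDefPn.Lift
import Groth.Agent.S11763
import Groth.Agent.S6712
import Groth.Agent.S3572
import Groth.Agent.S3573
import Groth.Agent.S4406
import Groth.Agent.S0844
import Groth.Agent.H22Alg.PnBC
import Groth.Agent.H28Vert.ExcNum
import Groth.Agent.H11Ample.RelQuasiAffine
import Groth.Agent.H11Ample.ToPn
import Groth.Agent.H17.PullSectLocal
import Groth.Agent.H28Mero.Gen

set_option autoImplicit false
set_option linter.style.haveILetI false
universe u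
open SGA1

attribute [-instance] CategoryTheory.catToReflQuiver

namespace Groth.Agent.S5997

section
open AlgebraicGeometry CategoryTheory CategoryTheory.Limits

/-- The closed fibre is the fibre at the closed point. -/
theorem exists_fibre_sq {A : Type u} [CommRing A] [IsLocalRing A] :
    ∃ ε : Spec ((Spec (CommRingCat.of A)).residueField (IsLocalRing.closedPoint A)) ≅
        Spec (CommRingCat.of (IsLocalRing.ResidueField A)),
      ε.hom ≫ Spec.map (CommRingCat.ofHom (IsLocalRing.residue A)) =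
        (Spec (CommRingCat.of A)).fromSpecResidueField (IsLocalRing.closedPoint A) := by
  let S := Spec (CommRingCat.of A)
  let g := Spec.map (CommRingCat.ofHom (IsLocalRing.residue A))
  haveI : IsClosedImmersion g := IsClosedImmersion.spec_of_surjective _ IsLocalRing.residue_surjective
  obtain ⟨x, hx⟩ : ∃ x, (S.SpecToEquivOfField (IsLocalRing.ResidueField A)) g = x := ⟨_, rfl⟩
  obtain ⟨y, φ⟩ := x
  have hg : Spec.map φ ≫ S.fromSpecResidueField y = g :=
    (congrArg (S.SpecToEquivOfField (IsLocalRing.ResidueField A)).symm hx).symm.trans (Equiv.symm_apply_apply _ _)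
  obtain rfl : y = IsLocalRing.closedPoint A := by
    have h : g (IsLocalRing.closedPoint (IsLocalRing.ResidueField A)) = y := by
      rw [← hg, Scheme.Hom.comp_apply]
      exact Scheme.fromSpecResidueField_apply _ _
    rw [← h]
    exact IsLocalRing.comap_closedPoint (IsLocalRing.residue A)
  haveI : IsClosedImmersion (Spec.map φ ≫ S.fromSpecResidueField (IsLocalRing.closedPoint A)) := by
    rw [hg]; infer_instance
  haveI : IsClosedImmersion (Spec.map φ) := IsClosedImmersion.of_comp (Spec.map φ) (S.fromSpecResidueField _)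
  have hsur : Function.Surjective φ := fun b => by
    obtain ⟨t, ht⟩ := (IsClosedImmersion.isAffine_surjective_of_isAffine (f := Spec.map φ)).2
      ((Scheme.ΓSpecIso (CommRingCat.of (IsLocalRing.ResidueField A))).inv b)
    refine ⟨(Scheme.ΓSpecIso _).hom t, (ConcreteCategory.bijective_of_isIso
      (Scheme.ΓSpecIso (CommRingCat.of (IsLocalRing.ResidueField A))).inv).1 ?_⟩
    rw [← CommRingCat.comp_apply, Scheme.ΓSpecIso_inv_naturality, CommRingCat.comp_apply]
    erw [← CommRingCat.comp_apply (Scheme.ΓSpecIso _).hom, Iso.hom_inv_id]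
    exact ht
  haveI : IsIso φ := (ConcreteCategory.isIso_iff_bijective φ).2 ⟨φ.hom.injective, hsur⟩
  exact ⟨(asIso (Spec.map φ)).symm, (Iso.inv_comp_eq (asIso (Spec.map φ))).2 hg.symm⟩

/-- Vanishing on the fibre from vanishing on the model. -/
theorem subsingleton_fibre {Z F X Pk P : Scheme.{u}} (θ : Z ≅ F) (e : Z ≅ Pk) (ι : F ⟶ X) (j : Z ⟶ X)
    (hθ : θ.hom ≫ ι = j) (π : Pk ⟶ P) (L : X.Modules) (hL : PicF.IsInvertible L) (M : P.Modules) (N : Pk.Modules)
    (θt : (Scheme.Modules.pullback π).obj M ≅ N)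
    (α : (Scheme.Modules.pullback j).obj L ≅ (Scheme.Modules.pullback (e.hom ≫ π)).obj M) (n : ℕ)
    (h : Subsingleton (Coh.HH Pk N n)) :
    Subsingleton (Coh.HH F ((Scheme.Modules.pullback ι).obj L) n) := by
  have hqF : Coh.IsQCoh ((Scheme.Modules.pullback ι).obj L) :=
    H29Fitt.isQCoh_pullback _ _ (H28Mero.isQCoh_of_isInvertible hL)
  refine @H28Vert.subsingleton_HH_of_pullback_iso _ _ θ _ hqF n ?_
  refine @H28Vert.subsingleton_HH_of_pullback_iso _ _ e.symm _ (H29Fitt.isQCoh_pullback _ _ hqF) n ?_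
  refine H10Coh.subsingleton_HH_of_iso ?_ n h
  exact θt.symm ≪≫ (Scheme.Modules.pullbackCongr (show π = e.inv ≫ e.hom ≫ π by simp)).app _ ≪≫
    ((Scheme.Modules.pullbackComp e.inv (e.hom ≫ π)).app _).symm ≪≫
    (Scheme.Modules.pullback e.inv).mapIso (α.symm ≪≫ (Scheme.Modules.pullbackCongr hθ.symm).app L ≪≫
      ((Scheme.Modules.pullbackComp θ.hom ι).app L).symm)

/-- The identification of the pullbacks along a composite carries the sections. -/
theorem compat {Z X P : Scheme.{u}} (j : Z ⟶ X) (ρ : X ⟶ P) (q : Z ⟶ P) (M : P.Modules) (L : X.Modules)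
    (τ : (Scheme.Modules.pullback ρ).obj M ≅ L)
    (α : (Scheme.Modules.pullback j).obj L ≅ (Scheme.Modules.pullback q).obj M) (c : ProjUP.Γm M) (s : ProjUP.Γm L)
    (hs : H11Ample.pullTop j (L := L) s = α.inv.app ⊤ (H11Ample.pullTop q (L := M) c))
    (hτ : τ.hom.app ⊤ (ProjUP.pullSec ρ M c) = s) :
    (((Scheme.Modules.pullbackComp j ρ).app M).symm ≪≫ (Scheme.Modules.pullback j).mapIso τ ≪≫ α).hom.app ⊤
      (ProjUP.pullSec (j ≫ ρ) M c) = ProjUP.pullSec q M c := by
  show α.hom.app ⊤ (((Scheme.Modules.pullback j).map τ.hom).app ⊤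
    (((Scheme.Modules.pullbackComp j ρ).inv.app M).app ⊤ (ProjUP.pullSec (j ≫ ρ) M c))) = _
  have h1 : ((Scheme.Modules.pullbackComp j ρ).inv.app M).app ⊤ (ProjUP.pullSec (j ≫ ρ) M c) =
      OmegaSh.pullSect j ((Scheme.Modules.pullback ρ).obj M) ⊤ (ProjUP.pullSec ρ M c) :=
    H17.PullSect.pullSect_comp j ρ M ⊤ c
  refine (congrArg (fun t => α.hom.app ⊤ (((Scheme.Modules.pullback j).map τ.hom).app ⊤ t)) h1).trans ?_
  refine (congrArg (α.hom.app ⊤) (H17.PullSect.pullSect_natural j τ.hom ⊤ (ProjUP.pullSec ρ M c)).symm).trans ?_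
  refine (congrArg (fun t => α.hom.app ⊤ (H11Ample.pullTop j (L := L) t)) hτ).trans ?_
  refine (congrArg (α.hom.app ⊤) hs).trans ?_
  exact congr($(congrArg (fun t => Scheme.Modules.Hom.app t ⊤) α.inv_hom_id) _)

/-- A morphism matching two fibres is an isomorphism of fibres. -/
theorem isIso_map_fibre {S S' X P Z Pk : Scheme.{u}} (ι : S' ⟶ S) (f : X ⟶ S) (t : P ⟶ S) (ρ : X ⟶ P)
    (w : ρ ≫ t = f) {j : Z ⟶ X} {a : Z ⟶ S'} (sq : IsPullback j a f ι) {π : Pk ⟶ P} {b : Pk ⟶ S'}
    (sq' : IsPullback π b t ι) (e : Z ≅ Pk) (h1 : j ≫ ρ = e.hom ≫ π) (h2 : a = e.hom ≫ b) :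
    IsIso (pullback.map f ι t ι ρ (𝟙 _) (𝟙 _) ((Category.comp_id f).trans w.symm)
      ((Category.comp_id _).trans (Category.id_comp _).symm)) := by
  refine (isIso_comp_left_iff sq.isoPullback.hom _).1 ?_
  suffices h : sq.isoPullback.hom ≫ pullback.map f ι t ι ρ (𝟙 _) (𝟙 _) ((Category.comp_id f).trans w.symm)
      ((Category.comp_id _).trans (Category.id_comp _).symm) = e.hom ≫ sq'.isoPullback.hom by
    rw [h]; infer_instance
  apply pullback.hom_ext
  · simp only [pullback.map, Category.assoc]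
    erw [pullback.lift_fst]
    rw [IsPullback.isoPullback_hom_fst_assoc, IsPullback.isoPullback_hom_fst]
    exact h1
  · simp only [pullback.map, Category.assoc]
    erw [pullback.lift_snd]
    rw [Category.comp_id, IsPullback.isoPullback_hom_snd, IsPullback.isoPullback_hom_snd]
    exact h2

/-- A map which is an isomorphism over the whole base is one. -/
theorem isIso_of_map_top {S X P : Scheme.{u}} (f : X ⟶ S) (t : P ⟶ S) (ρ : X ⟶ P) (w : ρ ≫ t = f) (U : S.Opens)
    (hU : U = ⊤) (h : IsIso (pullback.map f U.ι t U.ι ρ (𝟙 _) (𝟙 _) ((Category.comp_id f).trans w.symm)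
      ((Category.comp_id _).trans (Category.id_comp _).symm))) : IsIso ρ := by
  subst hU
  have e : pullback.fst f (⊤ : S.Opens).ι ≫ ρ = pullback.map f (⊤ : S.Opens).ι t (⊤ : S.Opens).ι ρ (𝟙 _) (𝟙 _)
      ((Category.comp_id f).trans w.symm) ((Category.comp_id _).trans (Category.id_comp _).symm) ≫
        pullback.fst _ _ := by
    simp only [pullback.map]
    erw [pullback.lift_fst]
  haveI : IsIso (⊤ : S.Opens).ι := (Scheme.topIso S).isIso_hom
  refine (isIso_comp_left_iff (pullback.fst f (⊤ : S.Opens).ι) ρ).1 ?_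
  rw [e]
  infer_instance

/-- Sections generating along the closed fibre generate. -/
theorem cover_of_closedFibre {A : Type u} [CommRing A] [IsLocalRing A] {X P : Scheme.{u}}
    (f : X ⟶ Spec (CommRingCat.of A)) [UniversallyClosed f] (L : X.Modules) (hL : PicF.IsInvertible L)
    (M : P.Modules) (hM : PicF.IsInvertible M) {Z : Scheme.{u}} (j : Z ⟶ X) (q : Z ⟶ P)
    (hj : ∀ x : X, f x = IsLocalRing.closedPoint A → x ∈ Set.range j)
    (α : (Scheme.Modules.pullback j).obj L ≅ (Scheme.Modules.pullback q).obj M) {ι : Type*}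
    (c : ι → ProjUP.Γm M) (hc : ∀ p : P, ∃ i, p ∈ H11Ample.gen M (c i)) (s : ι → ProjUP.Γm L)
    (hs : ∀ i, H11Ample.pullTop j (L := L) (s i) = α.inv.app ⊤ (H11Ample.pullTop q (L := M) (c i))) :
    ∀ x : X, ∃ i, x ∈ H11Ample.gen L (s i) := by
  intro x
  let G : X.Opens := ⨆ i, H11Ample.gen L (s i)
  suffices hG : x ∈ G from TopologicalSpace.Opens.mem_iSup.1 hG
  by_contra hx
  have hZ : IsClosed (f '' (G : Set X)ᶜ) := f.isClosedMap _ G.isOpen.isClosed_compl
  obtain ⟨x', hx', hfx'⟩ := (IsLocalRing.specializes_closedPoint (f x)).mem_closed hZ ⟨x, hx, rfl⟩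
  obtain ⟨z, rfl⟩ := hj x' hfx'
  obtain ⟨i, hi⟩ := hc (q z)
  refine hx' (TopologicalSpace.Opens.mem_iSup.2 ⟨i, ?_⟩)
  have h1 := H11Ample.gen_smul_pullSect j hL (s i) (isUnit_one (M := Γ(Z, ⊤)))
  rw [one_smul, hs i] at h1
  have h2 := H11Ample.gen_smul_pullSect q hM (c i) (isUnit_one (M := Γ(Z, ⊤)))
  rw [one_smul] at h2
  have h3 := H11Ample.gen_iso α.inv (H11Ample.pullTop q (L := M) (c i))
  have h4 : j ⁻¹ᵁ H11Ample.gen L (s i) = q ⁻¹ᵁ H11Ample.gen M (c i) := h1.symm.trans (h3.trans h2)
  have h5 : z ∈ q ⁻¹ᵁ H11Ample.gen M (c i) := hi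
  rw [← h4] at h5
  exact h5

end

open AlgebraicGeometry CategoryTheory CategoryTheory.Limits in
/-- Suppose A is a Noetherian local ring, complete for its maximal ideal, whose residue field we call k,
and consider a proper flat A-scheme X such that the closed fibre X ×_A k is isomorphic over k to
P^r_k. Then X is isomorphic over A to P^r_A. (For ordinary schemes the published statement leaves
out flatness, yet the proof relies on it; dropping it, P^r_k regarded as an A-scheme via the closed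
point gives a counterexample as soon as A fails to be a field. This row therefore assumes f is
flat.) -/
theorem result (A : Type u) [CommRing A] [IsLocalRing A]
    [IsNoetherianRing A] [IsAdicComplete (IsLocalRing.maximalIdeal A) A] (r : ℕ) {X : Scheme.{u}}
    (f : X ⟶ Spec (CommRingCat.of A)) [IsProper f] [Flat f]
    (e₀ : pullback f (Spec.map (CommRingCat.ofHom (IsLocalRing.residue A))) ≅
      CohB1.ProjSpace r (IsLocalRing.ResidueField A))
    (he₀ : e₀.hom ≫ CohB1.ProjSpace.toSpec r (IsLocalRing.ResidueField A) = pullback.snd f _) :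
    ∃ e : X ≅ CohB1.ProjSpace r A, e.hom ≫ CohB1.ProjSpace.toSpec r A = f := by
  haveI : IsNoetherian (Spec (CommRingCat.of A)) := inferInstance
  haveI : LocallyOfFinitePresentation f := inferInstance
  let k := IsLocalRing.ResidueField A
  let g := Spec.map (CommRingCat.ofHom (IsLocalRing.residue A))
  let X₀ := pullback f g
  let y : Spec (CommRingCat.of A) := IsLocalRing.closedPoint A
  let φA := H22Alg.PnBC.coeffMap r A k
  have hirr := H22Alg.PnBC.irrelevant_le r A k
  let π : CohB1.ProjSpace r k ⟶ CohB1.ProjSpace r A := Proj.map φA hirr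
  have hπ : IsPullback π (CohB1.ProjSpace.toSpec r k) (CohB1.ProjSpace.toSpec r A) g :=
    H22Alg.PnBC.isPullback_projSpace r A k
  letI : Algebra (MvPolynomial (Fin (r + 1)) A) (MvPolynomial (Fin (r + 1)) k) := MvPolynomial.algebraMvPolynomial
  haveI : IsScalarTower A (MvPolynomial (Fin (r + 1)) A) (MvPolynomial (Fin (r + 1)) k) := inferInstance
  haveI : Algebra.IsPushout A k (MvPolynomial (Fin (r + 1)) A) (MvPolynomial (Fin (r + 1)) k) := inferInstance
  obtain ⟨θt⟩ := S4406.result (R := k) (R' := A) (CohB1.polyGrading r A) (CohB1.polyGrading r k) φA (fun _ => rfl)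
    hirr 1
  let q : X₀ ⟶ CohB1.ProjSpace r A := e₀.hom ≫ π
  have hq : q ≫ CohB1.ProjSpace.toSpec r A = pullback.fst f g ≫ f := by
    rw [Category.assoc, hπ.w, reassoc_of% he₀, pullback.condition]
  let O1 := Twist.twistProjSpace r A 1
  have hO1 : PicF.IsInvertible O1 := H11Ample.isInvertible_twist
  -- the twist on the closed fibre
  have hvanP : ∀ (d : ℤ) (n : ℕ), 0 ≤ d → 0 < n →
      Subsingleton (Coh.HH (CohB1.ProjSpace r k) (Twist.twistProjSpace r k d) n) := fun d n hd hn =>
    S0844.result k r d n (fun h => hn.ne' h.1) (fun h => by omega)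
  have h2 : Subsingleton (Coh.HH X₀ (Coh.structureModule X₀) 2) := by
    haveI : (Coh.structureModule X₀).IsQuasicoherent := H10Coh.isQuasicoherent_unit
    refine H28Vert.subsingleton_HH_of_pullback_iso e₀.symm _ 2 ?_
    obtain ⟨u⟩ := H11Ample.nonempty_pullback_structureModule_iso e₀.symm.hom
    obtain ⟨z⟩ := H11Tilde.nonempty_twist_zero_iso (CohB1.polyGrading r k)
    exact H10Coh.subsingleton_HH_of_iso (z ≪≫ u.symm) 2 (hvanP 0 2 le_rfl two_pos)
  obtain ⟨L, hL, ⟨α⟩⟩ := S11763.result A f h2 _ (H11Ample.isInvertible_pullback q hO1)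
  -- lifting the coordinates
  obtain ⟨ε, hε⟩ := exists_fibre_sq (A := A)
  have hε' : g = ε.inv ≫ (Spec (CommRingCat.of A)).fromSpecResidueField y :=
    ((Iso.inv_comp_eq ε).2 hε.symm).symm
  have sqy : IsPullback (pullback.fst f g) (pullback.snd f g ≫ ε.inv) f
      ((Spec (CommRingCat.of A)).fromSpecResidueField y) :=
    (IsPullback.of_hasPullback f g).of_iso (Iso.refl _) (Iso.refl _) ε.symm (Iso.refl _) (by simp) (by simp)
      (by simp) (by simpa using hε')
  have hH1 : Subsingleton (CohIII.fiberH f L y 1) :=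
    subsingleton_fibre sqy.isoPullback e₀ (f.fiberι y) (pullback.fst f g) sqy.isoPullback_hom_fst π L hL O1
      (Twist.twistProjSpace r k 1) θt α 1 (hvanP 1 1 zero_le_one one_pos)
  have hgy : ∀ z, g z = y := fun z => by
    obtain rfl : z = IsLocalRing.closedPoint k := Subsingleton.elim _ _
    exact IsLocalRing.comap_closedPoint (IsLocalRing.residue A)
  have hsur := LeadDefPn.surjective_pullTop f (IsLocalRing.residue A) IsLocalRing.residue_surjective
    (IsPullback.of_hasPullback f g) y hgy hL hH1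
  choose s hs using fun i => hsur (α.inv.app ⊤ (H11Ample.pullTop q (L := O1) (ProjUP.coord r A i)))
  -- the lifts generate
  have hcov := cover_of_closedFibre f L hL O1 hO1 (pullback.fst f g) q (fun x hx => by
      rw [Scheme.Pullback.range_fst]
      exact ⟨IsLocalRing.closedPoint k, (hgy _).trans hx.symm⟩) α (ProjUP.coord r A) (fun p => by
      obtain ⟨i, hi⟩ := H11Ample.exists_mem_basicOpen_X (n := r) (R := A) p
      exact ⟨i, (H11Ample.gen_coord i).ge hi⟩) s hs
  have hgs : ProjUP.GeneratedBy L s := fun x => by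
    obtain ⟨i, hi⟩ := hcov x
    refine eq_top_iff.2 fun m _ => ?_
    obtain ⟨c, hc⟩ := ((H11Ample.mem_gen_iff hL (s i) x).1 hi).2 m
    rw [← hc]
    exact Submodule.smul_mem _ c (Submodule.subset_span ⟨i, rfl⟩)
  obtain ⟨ρ, hρ, τ, hτ⟩ := S3572.result r f L hL s hgs
  -- the restriction to the closed fibre
  have hjq : pullback.fst f g ≫ ρ = q := by
    refine S3573.result r _ _ (by rw [Category.assoc, hρ, hq])
      (((Scheme.Modules.pullbackComp (pullback.fst f g) ρ).app O1).symm ≪≫
        (Scheme.Modules.pullback (pullback.fst f g)).mapIso τ ≪≫ α) fun i =>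
      compat (pullback.fst f g) ρ q O1 L τ α _ _ (hs i) (hτ i)
  haveI : IsProper (CohB1.ProjSpace.toSpec r A) := inferInstance
  have hπy : IsPullback π (CohB1.ProjSpace.toSpec r k ≫ ε.inv) (CohB1.ProjSpace.toSpec r A)
      ((Spec (CommRingCat.of A)).fromSpecResidueField y) :=
    hπ.of_iso (Iso.refl _) (Iso.refl _) ε.symm (Iso.refl _) (by simp) (by simp) (by simp) (by simpa using hε')
  have hiso := isIso_map_fibre _ f (CohB1.ProjSpace.toSpec r A) ρ hρ sqy hπy e₀ hjq
    (by rw [← Category.assoc, he₀])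
  obtain ⟨U, hyU, hU⟩ := S6712.result y f (CohB1.ProjSpace.toSpec r A) ρ hρ hiso
  haveI : IsIso ρ := isIso_of_map_top f (CohB1.ProjSpace.toSpec r A) ρ hρ U
    (IsLocalRing.closed_point_mem_iff.1 hyU) hU
  exact ⟨asIso ρ, hρ⟩

end Groth.Agent.S5997
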