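import Groth.Statements.S5998
import Mathlib.RingTheory.Smooth.Local
import Mathlib.RingTheory.Etale.Kaehler
import Mathlib.LinearAlgebra.LinearIndependent.Lemmas
-- import your own Groth.Agent.* helpers here

set_option autoImplicit false
universe u
open SGA1

namespace Groth.Agent.S5998

open TensorProduct in
/-- Let R be a Noetherian ring, A a smooth R-algebra, I an ideal of A, P a prime ideal of A/I and q its
preimage in A. Then A/I is smooth over R at P (that is, the local ring of A/I at P is formally
smooth over R) exactly when there are finitely many elements g_1, ..., g_p of I generating the ideal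
I·A_q whose differentials dg_i have linearly independent images in κ(q) ⊗_A Ω_{A/R}. -/
theorem result
    (R A : Type u) [CommRing R] [CommRing A] [IsNoetherianRing R] [Algebra R A] [Algebra.Smooth R A]
    (I : Ideal A) (P : Ideal (A ⧸ I)) [P.IsPrime] :
    letI q : Ideal A := P.comap (Ideal.Quotient.mk I)
    Algebra.IsSmoothAt R P ↔ ∃ s : Finset A, (↑s : Set A) ⊆ (I : Set A) ∧
      Ideal.map (algebraMap A (Localization.AtPrime q)) I =
        Ideal.span ((algebraMap A (Localization.AtPrime q)) '' (↑s : Set A)) ∧
      LinearIndependent q.ResidueField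
        (fun g : ↥s => (1 : q.ResidueField) ⊗ₜ[A] KaehlerDifferential.D R A (g : A)) := by
  classical
  let q : Ideal A := P.comap (Ideal.Quotient.mk I)
  haveI : q.IsPrime := inferInstanceAs (P.comap (Ideal.Quotient.mk I)).IsPrime
  haveI : Algebra.FormallyEtale A (Localization.AtPrime q) := Algebra.FormallyEtale.of_isLocalization q.primeCompl
  haveI : Algebra.FormallySmooth R (Localization.AtPrime q) := Algebra.FormallySmooth.comp R A (Localization.AtPrime q)
  let φ : Localization.AtPrime q →+* Localization.AtPrime P := Localization.localRingHom q P (Ideal.Quotient.mk I) rfl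
  have hφ : ∀ a, φ (algebraMap A _ a) = algebraMap (A ⧸ I) (Localization.AtPrime P) (Ideal.Quotient.mk I a) :=
    Localization.localRingHom_to_map q P _ rfl
  have hsurj : Function.Surjective φ := by
    intro y
    obtain ⟨b, t, rfl⟩ := IsLocalization.exists_mk'_eq P.primeCompl y
    obtain ⟨a, rfl⟩ := Ideal.Quotient.mk_surjective b
    obtain ⟨s, hs⟩ := Ideal.Quotient.mk_surjective t.1
    have hsq : s ∈ q.primeCompl := fun h => t.2 (by rw [← hs]; exact h)
    refine ⟨IsLocalization.mk' _ a (⟨s, hsq⟩ : q.primeCompl), ?_⟩
    rw [Localization.localRingHom_mk']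
    congr 1
    exact Subtype.ext hs
  have hker : RingHom.ker φ = I.map (algebraMap A (Localization.AtPrime q)) := by
    refine le_antisymm (fun x hx => ?_) (Ideal.map_le_iff_le_comap.2 fun a ha => ?_)
    · obtain ⟨a, s, rfl⟩ := IsLocalization.exists_mk'_eq q.primeCompl x
      rw [RingHom.mem_ker, Localization.localRingHom_mk', IsLocalization.mk'_eq_zero_iff] at hx
      obtain ⟨⟨t, ht⟩, htx⟩ := hx
      obtain ⟨t', rfl⟩ := Ideal.Quotient.mk_surjective t
      rw [← map_mul, Ideal.Quotient.eq_zero_iff_mem] at htx
      have hu : IsUnit (algebraMap A (Localization.AtPrime q) t') := IsLocalization.map_units _ (⟨t', ht⟩ : q.primeCompl)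
      have hm := Ideal.mem_map_of_mem (algebraMap A (Localization.AtPrime q)) htx
      rw [map_mul, Ideal.unit_mul_mem_iff_mem _ hu] at hm
      rw [IsLocalization.mk'_eq_mul_mk'_one]
      exact Ideal.mul_mem_right _ _ hm
    · rw [Ideal.mem_comap, RingHom.mem_ker, hφ, Ideal.Quotient.eq_zero_iff_mem.2 ha, map_zero]
  letI : Algebra (Localization.AtPrime q) (Localization.AtPrime P) := φ.toAlgebra
  haveI : IsScalarTower R (Localization.AtPrime q) (Localization.AtPrime P) := IsScalarTower.of_algebraMap_eq fun r => by
    rw [RingHom.algebraMap_toAlgebra, IsScalarTower.algebraMap_apply R A (Localization.AtPrime q), hφ,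
      IsScalarTower.algebraMap_apply R (A ⧸ I) (Localization.AtPrime P)]
    rfl
  have hkle : RingHom.ker φ ≤ RingHom.ker (IsLocalRing.residue (Localization.AtPrime q)) := by
    rw [IsLocalRing.ker_residue]
    exact IsLocalRing.le_maximalIdeal (RingHom.ker_ne_top φ)
  let ψ : Localization.AtPrime P →+* q.ResidueField := φ.liftOfSurjective hsurj ⟨IsLocalRing.residue _, hkle⟩
  have hψ : ∀ x, ψ (φ x) = IsLocalRing.residue (Localization.AtPrime q) x :=
    RingHom.liftOfRightInverse_comp_apply φ _ _ _
  letI : Algebra (Localization.AtPrime P) q.ResidueField := ψ.toAlgebra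
  haveI : IsScalarTower (Localization.AtPrime q) (Localization.AtPrime P) q.ResidueField :=
    IsScalarTower.of_algebraMap_eq fun x => (hψ x).symm
  haveI : IsNoetherianRing A := Algebra.FiniteType.isNoetherianRing R A
  haveI : IsNoetherianRing (Localization.AtPrime q) := IsLocalization.isNoetherianRing q.primeCompl _ inferInstance
  haveI : Algebra.EssFiniteType R (Localization.AtPrime q) :=
    have : Algebra.EssFiniteType A (Localization.AtPrime q) := Algebra.EssFiniteType.of_isLocalization _ q.primeCompl
    Algebra.EssFiniteType.comp R A _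
  haveI : Module.Free (Localization.AtPrime q) Ω[(Localization.AtPrime q)⁄R] := Module.free_of_flat_of_isLocalRing
  have h3 : IsLocalRing.maximalIdeal (Localization.AtPrime P) ≤ RingHom.ker (algebraMap (Localization.AtPrime P) q.ResidueField) := by
    intro y hy
    obtain ⟨x, rfl⟩ := hsurj y
    rw [RingHom.mem_ker, RingHom.algebraMap_toAlgebra, hψ, IsLocalRing.residue_eq_zero_iff]
    exact fun hu => hy (hu.map φ)
  have h2 : (RingHom.ker (algebraMap (Localization.AtPrime q) (Localization.AtPrime P))).FG := IsNoetherian.noetherian _
  haveI : Algebra.FormallyEtale A (Localization.AtPrime q) := Algebra.FormallyEtale.of_isLocalization q.primeCompl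
  show Algebra.FormallySmooth R (Localization.AtPrime P) ↔ _
  rw [Algebra.FormallySmooth.iff_injective_cotangentComplexBaseChange (Localization.AtPrime q) q.ResidueField hsurj h2 h3]
  let T := KaehlerDifferential.cotangentComplexBaseChange R (Localization.AtPrime P) (Localization.AtPrime q) q.ResidueField
  let J := RingHom.ker (algebraMap (Localization.AtPrime q) (Localization.AtPrime P))
  let e : q.ResidueField ⊗[A] Ω[A⁄R] ≃ₗ[q.ResidueField] q.ResidueField ⊗[Localization.AtPrime q] Ω[(Localization.AtPrime q)⁄R] :=
    (TensorProduct.AlgebraTensorModule.cancelBaseChange A (Localization.AtPrime q) q.ResidueField q.ResidueField Ω[A⁄R]).symm ≪≫ₗ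
      (KaehlerDifferential.tensorKaehlerEquivOfFormallyEtale R A (Localization.AtPrime q)).baseChange (A := q.ResidueField)
  let j : I → J := fun g => ⟨algebraMap A _ g.1, hker.ge (Ideal.mem_map_of_mem _ g.2)⟩
  let ι : I → q.ResidueField ⊗[Localization.AtPrime q] J := fun g => 1 ⊗ₜ j g
  let d : A → q.ResidueField ⊗[A] Ω[A⁄R] := fun g => 1 ⊗ₜ KaehlerDifferential.D R A g
  have hT : ∀ g : I, T (ι g) = e (d g.1) := by
    intro g
    simp only [T, e, ι, j, d, KaehlerDifferential.cotangentComplexBaseChange_tmul, KaehlerDifferential.kerToTensor_apply,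
      LinearEquiv.trans_apply, TensorProduct.AlgebraTensorModule.cancelBaseChange_symm_tmul, one_smul]
    refine (KaehlerDifferential.cotangentComplexBaseChange_tmul (R := R) (S := Localization.AtPrime P) (1 : q.ResidueField) _).trans ?_
    rw [KaehlerDifferential.kerToTensor_apply, one_smul]
    show _ = (1 : q.ResidueField) ⊗ₜ[Localization.AtPrime q] KaehlerDifferential.tensorKaehlerEquivOfFormallyEtale R A (Localization.AtPrime q) ((1 : Localization.AtPrime q) ⊗ₜ[A] KaehlerDifferential.D R A g.1)
    rw [← KaehlerDifferential.tensorKaehlerEquivOfFormallyEtale_symm_D_algebraMap R A (Localization.AtPrime q) g.1, LinearEquiv.apply_symm_apply]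
  haveI : Module.Finite (Localization.AtPrime q) J := Module.Finite.iff_fg.2 h2
  have hgen : ∀ s : Set I, Ideal.span ((algebraMap A (Localization.AtPrime q)) '' (Subtype.val '' s)) = I.map (algebraMap A _) →
      Submodule.span q.ResidueField (ι '' s) = ⊤ := by
    intro s hs
    have h1 : Submodule.span (Localization.AtPrime q) (j '' s) = ⊤ := by
      apply Submodule.map_injective_of_injective J.subtype_injective
      rw [Submodule.map_span, Submodule.map_subtype_top, ← Set.image_comp]
      show Ideal.span _ = J
      refine Eq.trans ?_ (hs.trans hker.symm)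
      rw [← Set.image_comp]
      rfl
    refine Submodule.eq_top_iff'.2 fun t => ?_
    induction t using TensorProduct.induction_on with
    | zero => exact zero_mem _
    | add a b ha hb => exact add_mem ha hb
    | tmul c x =>
      have hx : x ∈ Submodule.span (Localization.AtPrime q) (j '' s) := h1.ge trivial
      induction hx using Submodule.span_induction generalizing c with
      | mem y hy =>
        obtain ⟨g, hg, rfl⟩ := hy
        have e1 : c ⊗ₜ[Localization.AtPrime q] j g = c • ι g := by
          show _ = c • ((1 : q.ResidueField) ⊗ₜ[Localization.AtPrime q] j g)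
          rw [TensorProduct.smul_tmul', smul_eq_mul, mul_one]
        rw [e1]
        exact Submodule.smul_mem _ _ (Submodule.subset_span ⟨g, hg, rfl⟩)
      | zero => rw [TensorProduct.tmul_zero]; exact zero_mem _
      | add a b _ _ ha hb => rw [TensorProduct.tmul_add]; exact add_mem (ha c) (hb c)
      | smul r a _ ha => rw [← TensorProduct.smul_tmul]; exact ha _
  show Function.Injective T ↔ _
  constructor
  · intro hinj
    have htop : Submodule.span q.ResidueField (Set.range ι) = ⊤ := by
      rw [← Set.image_univ]
      refine hgen Set.univ ?_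
      rw [Set.image_univ, Subtype.range_coe]
      rfl
    obtain ⟨b, hbs, hbspan, hbli⟩ := exists_linearIndependent q.ResidueField (Set.range ι)
    rw [htop] at hbspan
    haveI : Finite b := hbli.finite
    choose g hg using fun x : b => hbs x.2
    haveI := Fintype.ofFinite b
    refine ⟨Finset.univ.image (fun x => (g x).1), ?_, ?_, ?_⟩
    · rintro _ hx
      obtain ⟨x, -, rfl⟩ := Finset.mem_image.1 hx
      exact (g x).2
    · have h1 : Submodule.span (Localization.AtPrime q) (Set.range fun x => j (g x)) = ⊤ := by
        refine IsLocalRing.map_tensorProduct_mk_eq_top.1 (Submodule.eq_top_iff'.2 fun t => ?_)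
        have ht : t ∈ Submodule.span q.ResidueField b := hbspan.ge trivial
        induction ht using Submodule.span_induction with
        | mem y hy => exact ⟨j (g ⟨y, hy⟩), Submodule.subset_span ⟨_, rfl⟩, hg ⟨y, hy⟩⟩
        | zero => exact zero_mem _
        | add a b _ _ ha hb => exact add_mem ha hb
        | smul c a _ ha =>
          obtain ⟨c, rfl⟩ := IsLocalRing.residue_surjective (R := Localization.AtPrime q) c
          rw [show IsLocalRing.residue _ c • a = c • a from algebraMap_smul q.ResidueField c a]
          exact Submodule.smul_mem _ c ha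
      have h3' := congrArg (Submodule.map J.subtype) h1
      rw [Submodule.map_span, Submodule.map_subtype_top, ← Set.range_comp] at h3'
      rw [Finset.coe_image, Finset.coe_univ, Set.image_univ, ← Set.range_comp]
      exact hker.symm.trans h3'.symm
    · have hli : LinearIndependent q.ResidueField (fun x : b => d (g x).1) := by
        have h := (hbli.map' T (LinearMap.ker_eq_bot.2 hinj)).map' e.symm.toLinearMap e.symm.ker
        have efun : (fun x : b => d (g x).1) = fun x => e.symm (T x.1) := funext fun x => by
          rw [← hg x, hT, LinearEquiv.symm_apply_apply]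
        rw [efun]
        exact h
      have h := hli.linearIndepOn_id.mono (t := d '' ↑(Finset.univ.image fun x : b => (g x).1))
        (by rw [Finset.coe_image, Finset.coe_univ, Set.image_univ, ← Set.range_comp]; exact le_rfl)
      refine (linearIndepOn_iff_image (f := d) ?_).2 h
      intro x hx y hy hxy
      obtain ⟨x, -, rfl⟩ := Finset.mem_image.1 hx
      obtain ⟨y, -, rfl⟩ := Finset.mem_image.1 hy
      rw [hli.injective hxy]
  · rintro ⟨s, hsI, hspan, hli⟩
    let g : ↥s → I := fun x => ⟨x.1, hsI x.2⟩
    have htop : Submodule.span q.ResidueField (Set.range fun x => ι (g x)) = ⊤ := by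
      rw [show (Set.range fun x => ι (g x)) = ι '' Set.range g from Set.range_comp ι g]
      refine hgen _ (hspan.symm ▸ ?_)
      congr 2
      ext a
      exact ⟨fun ⟨⟨_, _⟩, ⟨x, hx⟩, h⟩ => h ▸ hx ▸ x.2, fun h => ⟨⟨a, hsI h⟩, ⟨⟨a, h⟩, rfl⟩, rfl⟩⟩
    have hli' : LinearIndependent q.ResidueField (fun x => T (ι (g x))) := by
      simp only [hT]
      exact hli.map' e.toLinearMap e.ker
    refine LinearMap.ker_eq_bot.1 ((Submodule.eq_bot_iff _).2 fun t ht => ?_)
    obtain ⟨c, rfl⟩ := (Submodule.mem_span_range_iff_exists_fun _).1 (htop.ge (Submodule.mem_top (x := t)))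
    rw [LinearMap.mem_ker, map_sum] at ht
    simp only [map_smul] at ht
    have hz := Fintype.linearIndependent_iff.1 hli' c ht
    exact Finset.sum_eq_zero fun x _ => by rw [hz x, zero_smul]

end Groth.Agent.S5998
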