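import Groth.Statements.S5999
import Mathlib.RingTheory.Smooth.Local
import Mathlib.RingTheory.Etale.Kaehler
-- import your own Groth.Agent.* helpers here

set_option autoImplicit false
universe u
open SGA1

namespace Groth.Agent.S5999

open TensorProduct in
/-- Let R be a Noetherian ring, A an R-algebra of finite type, F an element of A, P a prime ideal of
A/(F) and q its preimage in A, and suppose A is smooth over R at q. Then the hypersurface A/(F) is
smooth over R at P if and only if either F is zero in the local ring A_q (F vanishes on a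
neighbourhood of q) or the image dF(q) of the differential of F in κ(q) ⊗_A Ω_{A/R} is nonzero. -/
theorem result
    (R A : Type u) [CommRing R] [CommRing A] [IsNoetherianRing R] [Algebra R A] [Algebra.FiniteType R A]
    (F : A) (P : Ideal (A ⧸ Ideal.span ({F} : Set A))) [P.IsPrime]
    (hX : Algebra.IsSmoothAt R (P.comap (Ideal.Quotient.mk (Ideal.span ({F} : Set A))))) :
    letI q : Ideal A := P.comap (Ideal.Quotient.mk (Ideal.span ({F} : Set A)))
    Algebra.IsSmoothAt R P ↔ algebraMap A (Localization.AtPrime q) F = 0 ∨
      (1 : q.ResidueField) ⊗ₜ[A] KaehlerDifferential.D R A F ≠ 0 := by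
  classical
  let I : Ideal A := Ideal.span {F}
  let q : Ideal A := P.comap (Ideal.Quotient.mk I)
  haveI : q.IsPrime := inferInstanceAs (P.comap (Ideal.Quotient.mk I)).IsPrime
  haveI : Algebra.FormallySmooth R (Localization.AtPrime q) := hX
  let φ : Localization.AtPrime q →+* Localization.AtPrime P := Localization.localRingHom q P (Ideal.Quotient.mk I) rfl
  have hφ : ∀ a, φ (algebraMap A _ a) = algebraMap (A ⧸ I) (Localization.AtPrime P) (Ideal.Quotient.mk I a) :=
    Localization.localRingHom_to_map q P _ rfl
  have hsurj : Function.Surjective φ := by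
    intro y
    obtain ⟨b, t, rfl⟩ := IsLocalization.exists_mk'_eq P.primeCompl y
    obtain ⟨a, rfl⟩ := Ideal.Quotient.mk_surjective b
    obtain ⟨s, hs⟩ := Ideal.Quotient.mk_surjective t.1
    have hsq : s ∈ q.primeCompl := fun h => t.2 (by rw [← hs]; exact h)
    refine ⟨IsLocalization.mk' _ a (⟨s, hsq⟩ : q.primeCompl), ?_⟩
    rw [Localization.localRingHom_mk']
    congr 1
    exact Subtype.ext hs
  have hker : RingHom.ker φ = Ideal.span {algebraMap A (Localization.AtPrime q) F} := by
    refine le_antisymm (fun x hx => ?_) ?_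
    · obtain ⟨a, s, rfl⟩ := IsLocalization.exists_mk'_eq q.primeCompl x
      rw [RingHom.mem_ker, Localization.localRingHom_mk', IsLocalization.mk'_eq_zero_iff] at hx
      obtain ⟨⟨t, ht⟩, htx⟩ := hx
      obtain ⟨t', rfl⟩ := Ideal.Quotient.mk_surjective t
      rw [← map_mul, Ideal.Quotient.eq_zero_iff_mem, Ideal.mem_span_singleton'] at htx
      obtain ⟨c, hc⟩ := htx
      refine Ideal.mem_span_singleton'.2 ⟨IsLocalization.mk' _ c ((⟨t', ht⟩ : q.primeCompl) * s), ?_⟩
      rw [mul_comm, IsLocalization.mul_mk'_eq_mk'_of_mul]
      refine IsLocalization.mk'_eq_of_eq ?_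
      simp only [Submonoid.coe_mul]
      linear_combination -(s : A) * hc
    · rw [Ideal.span_singleton_le_iff_mem, RingHom.mem_ker, hφ, Ideal.Quotient.eq_zero_iff_mem.2 (Ideal.mem_span_singleton_self F), map_zero]
  letI : Algebra (Localization.AtPrime q) (Localization.AtPrime P) := φ.toAlgebra
  haveI : IsScalarTower R (Localization.AtPrime q) (Localization.AtPrime P) := IsScalarTower.of_algebraMap_eq fun r => by
    rw [RingHom.algebraMap_toAlgebra, IsScalarTower.algebraMap_apply R A (Localization.AtPrime q), hφ,
      IsScalarTower.algebraMap_apply R (A ⧸ I) (Localization.AtPrime P)]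
    rfl
  have hkle : RingHom.ker φ ≤ RingHom.ker (IsLocalRing.residue (Localization.AtPrime q)) := by
    rw [IsLocalRing.ker_residue]
    exact IsLocalRing.le_maximalIdeal (RingHom.ker_ne_top φ)
  let ψ : Localization.AtPrime P →+* q.ResidueField := φ.liftOfSurjective hsurj ⟨IsLocalRing.residue _, hkle⟩
  have hψ : ∀ x, ψ (φ x) = IsLocalRing.residue (Localization.AtPrime q) x :=
    RingHom.liftOfRightInverse_comp_apply φ _ _ _
  letI : Algebra (Localization.AtPrime P) q.ResidueField := ψ.toAlgebra
  haveI : IsScalarTower (Localization.AtPrime q) (Localization.AtPrime P) q.ResidueField :=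
    IsScalarTower.of_algebraMap_eq fun x => (hψ x).symm
  haveI : Algebra.EssFiniteType R (Localization.AtPrime q) :=
    have : Algebra.EssFiniteType A (Localization.AtPrime q) := Algebra.EssFiniteType.of_isLocalization _ q.primeCompl
    Algebra.EssFiniteType.comp R A _
  haveI : Module.Free (Localization.AtPrime q) Ω[(Localization.AtPrime q)⁄R] := Module.free_of_flat_of_isLocalRing
  have h3 : IsLocalRing.maximalIdeal (Localization.AtPrime P) ≤ RingHom.ker (algebraMap (Localization.AtPrime P) q.ResidueField) := by
    intro y hy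
    obtain ⟨x, rfl⟩ := hsurj y
    rw [RingHom.mem_ker, RingHom.algebraMap_toAlgebra, hψ, IsLocalRing.residue_eq_zero_iff]
    exact fun hu => hy (hu.map φ)
  have h2 : (RingHom.ker (algebraMap (Localization.AtPrime q) (Localization.AtPrime P))).FG := ⟨{algebraMap A _ F}, by rw [Finset.coe_singleton]; exact hker.symm⟩
  show Algebra.FormallySmooth R (Localization.AtPrime P) ↔ _
  rw [Algebra.FormallySmooth.iff_injective_cotangentComplexBaseChange (Localization.AtPrime q) q.ResidueField hsurj h2 h3]
  let T := KaehlerDifferential.cotangentComplexBaseChange R (Localization.AtPrime P) (Localization.AtPrime q) q.ResidueField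
  let J := RingHom.ker (algebraMap (Localization.AtPrime q) (Localization.AtPrime P))
  let F' : J := ⟨algebraMap A _ F, hker.ge (Ideal.mem_span_singleton_self _)⟩
  haveI : Algebra.FormallyEtale A (Localization.AtPrime q) := Algebra.FormallyEtale.of_isLocalization q.primeCompl
  let e : q.ResidueField ⊗[A] Ω[A⁄R] ≃ₗ[q.ResidueField] q.ResidueField ⊗[Localization.AtPrime q] Ω[(Localization.AtPrime q)⁄R] :=
    (TensorProduct.AlgebraTensorModule.cancelBaseChange A (Localization.AtPrime q) q.ResidueField q.ResidueField Ω[A⁄R]).symm ≪≫ₗ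
      (KaehlerDifferential.tensorKaehlerEquivOfFormallyEtale R A (Localization.AtPrime q)).baseChange (A := q.ResidueField)
  have hT : ∀ c, T (c ⊗ₜ F') = c • e (1 ⊗ₜ KaehlerDifferential.D R A F) := by
    intro c
    simp only [T, e, F', KaehlerDifferential.cotangentComplexBaseChange_tmul, KaehlerDifferential.kerToTensor_apply,
      LinearEquiv.trans_apply, TensorProduct.AlgebraTensorModule.cancelBaseChange_symm_tmul]
    congr 1
    show _ = (1 : q.ResidueField) ⊗ₜ[Localization.AtPrime q] KaehlerDifferential.tensorKaehlerEquivOfFormallyEtale R A (Localization.AtPrime q) ((1 : Localization.AtPrime q) ⊗ₜ[A] KaehlerDifferential.D R A F)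
    rw [← KaehlerDifferential.tensorKaehlerEquivOfFormallyEtale_symm_D_algebraMap R A (Localization.AtPrime q) F, LinearEquiv.apply_symm_apply]
  have hall : ∀ t : q.ResidueField ⊗[Localization.AtPrime q] J, ∃ c : q.ResidueField, t = c ⊗ₜ F' := by
    intro t
    induction t using TensorProduct.induction_on with
    | zero => exact ⟨0, (TensorProduct.zero_tmul _ _).symm⟩
    | tmul c j =>
      obtain ⟨w, hw⟩ := Ideal.mem_span_singleton'.1 (hker.le j.2)
      refine ⟨w • c, ?_⟩
      rw [TensorProduct.smul_tmul]
      exact congrArg _ (Subtype.ext hw.symm)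
    | add a b ha hb =>
      obtain ⟨c, rfl⟩ := ha
      obtain ⟨c', rfl⟩ := hb
      exact ⟨c + c', (TensorProduct.add_tmul _ _ _).symm⟩
  show Function.Injective T ↔ _
  constructor
  · intro hinj
    refine or_iff_not_imp_right.2 fun h0 => ?_
    rw [not_not] at h0
    have h1 : ∀ t : q.ResidueField ⊗[Localization.AtPrime q] J, t = 0 := fun t => by
      obtain ⟨c, rfl⟩ := hall t
      apply hinj
      rw [hT, h0, map_zero, smul_zero, map_zero]
    haveI : Module.Finite (Localization.AtPrime q) J := Module.Finite.iff_fg.2 h2
    haveI : Subsingleton (q.ResidueField ⊗[Localization.AtPrime q] J) := ⟨fun a b => (h1 a).trans (h1 b).symm⟩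
    haveI : Subsingleton J := IsLocalRing.subsingleton_tensorProduct.1 this
    exact congrArg Subtype.val (Subsingleton.elim F' 0)
  · intro h
    rw [injective_iff_map_eq_zero]
    intro t ht
    obtain ⟨c, rfl⟩ := hall t
    rcases h with h | h
    · rw [show F' = 0 from Subtype.ext h, TensorProduct.tmul_zero]
    · rw [hT, smul_eq_zero] at ht
      rcases ht with rfl | ht
      · rw [TensorProduct.zero_tmul]
      · exact absurd (e.map_eq_zero_iff.1 ht) h

end Groth.Agent.S5999
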