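import Groth.Statements.S6001
import Groth.Agent.H9Hens.CompletionEtale
import Groth.Agent.H02CA.SmoothRegular
import Groth.Agent.H05EGA4.DerivExt
import Mathlib.RingTheory.Etale.Locus

set_option autoImplicit false
universe u
open SGA1

namespace Groth.Agent.S6001

/-- Let A be a Noetherian local ring which is analytically reduced (its completion has no nonzero
nilpotents), and let B be the local ring at a prime q, lying over the maximal ideal of A, of an
A-algebra C of finite type that is etale over A at q (an etale local homomorphism A ⟶ B). Then B is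
analytically reduced, and in particular reduced. -/
theorem result (A C : Type u) [CommRing A] [IsLocalRing A]
    [IsNoetherianRing A] [CommRing C] [Algebra A C] [Algebra.FiniteType A C] (q : Ideal C) [q.IsPrime]
    (hq : Ideal.comap (algebraMap A C) q = IsLocalRing.maximalIdeal A) (hC : Algebra.IsEtaleAt A q)
    (hA : IsReduced (AdicCompletion (IsLocalRing.maximalIdeal A) A)) :
    IsReduced (AdicCompletion (IsLocalRing.maximalIdeal (Localization.AtPrime q)) (Localization.AtPrime q)) ∧
      IsReduced (Localization.AtPrime q) := by
  haveI := hA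
  haveI : Algebra.IsEtaleAt A q := hC
  haveI : IsNoetherianRing C := Algebra.FiniteType.isNoetherianRing A C
  let B := Localization.AtPrime q
  haveI : IsNoetherianRing B := IsLocalization.isNoetherianRing q.primeCompl B inferInstance
  haveI : IsLocalHom (algebraMap A B) := by
    refine ((IsLocalRing.local_hom_TFAE _).out 0 4).2 ?_
    rw [IsScalarTower.algebraMap_eq A C B, ← Ideal.comap_comap,
      show (IsLocalRing.maximalIdeal B).comap (algebraMap C B) = q from IsLocalization.AtPrime.comap_maximalIdeal B q, hq]
  haveI : Algebra.EssFiniteType A B := Algebra.EssFiniteType.comp A C B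
  haveI : Algebra.FormallyEtale A B := hC
  haveI : Algebra.FinitePresentation A C := Algebra.FinitePresentation.of_finiteType.mp inferInstance
  haveI : Module.Flat A B := by
    obtain ⟨f, hf, hfe⟩ := Algebra.exists_etale_of_isEtaleAt (R := A) q
    haveI := hfe
    let Cf := Localization.Away f
    let φ : Cf →+* B := IsLocalization.Away.lift f (g := algebraMap C B)
      (IsLocalization.map_units B (⟨f, hf⟩ : q.primeCompl))
    letI : Algebra Cf B := φ.toAlgebra
    haveI : IsScalarTower C Cf B := .of_algebraMap_eq fun c => (IsLocalization.Away.lift_eq f _ c).symm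
    haveI : IsScalarTower A Cf B := .of_algebraMap_eq fun a => by
      rw [IsScalarTower.algebraMap_apply A C B, IsScalarTower.algebraMap_apply A C Cf,
        ← IsScalarTower.algebraMap_apply C Cf B]
    haveI : Module.Flat Cf B :=
      haveI := IsLocalization.isLocalization_of_submonoid_le Cf B (Submonoid.powers f) q.primeCompl
        (Submonoid.powers_le.2 hf)
      IsLocalization.flat B (q.primeCompl.map (algebraMap C Cf))
    exact Module.Flat.trans A Cf B
  have hmap : (IsLocalRing.maximalIdeal A).map (algebraMap A B) = IsLocalRing.maximalIdeal B :=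
    Algebra.FormallyUnramified.map_maximalIdeal
  haveI : IsAdicComplete (IsLocalRing.maximalIdeal (AdicCompletion (IsLocalRing.maximalIdeal B) B))
      (AdicCompletion (IsLocalRing.maximalIdeal B) B) := inferInstance
  obtain ⟨ψ, hψ⟩ := Groth.Agent.H05EGA4.exists_completion_lift (IsLocalRing.maximalIdeal A)
    (IsLocalRing.maximalIdeal (AdicCompletion (IsLocalRing.maximalIdeal B) B))
    ((algebraMap B (AdicCompletion (IsLocalRing.maximalIdeal B) B)).comp (algebraMap A B))
    (by rw [← Ideal.map_map, hmap, ← AdicCompletion.maximalIdeal_eq_map])
  have hfl := (Groth.Agent.H02CA.flat_completion_iff (algebraMap A B) ψ hψ).mpr (RingHom.flat_algebraMap_iff.mpr ‹_›)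
  obtain ⟨hft, hfu⟩ := (Groth.Agent.H9Hens.unramified_completion_iff ψ hψ).mp
    ⟨hmap, inferInstance, inferInstance⟩
  haveI hred : IsReduced (AdicCompletion (IsLocalRing.maximalIdeal B) B) := by
    haveI := Groth.Agent.H05EGA4.isNoetherianRing_adicCompletion A (IsLocalRing.maximalIdeal A)
    algebraize [ψ]
    haveI : Algebra.FinitePresentation (AdicCompletion (IsLocalRing.maximalIdeal A) A)
        (AdicCompletion (IsLocalRing.maximalIdeal B) B) :=
      Algebra.FinitePresentation.of_finiteType.mp hft
    haveI : Algebra.Etale (AdicCompletion (IsLocalRing.maximalIdeal A) A)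
        (AdicCompletion (IsLocalRing.maximalIdeal B) B) := Algebra.Etale.of_formallyUnramified_of_flat
    exact Groth.Agent.H02CA.isReduced_of_smooth_of_isNoetherianRing (AdicCompletion (IsLocalRing.maximalIdeal A) A) _
  refine ⟨hred, ?_⟩
  haveI : Module.FaithfullyFlat B (AdicCompletion (IsLocalRing.maximalIdeal B) B) :=
    Module.FaithfullyFlat.of_flat_of_isLocalHom
  exact isReduced_of_injective (algebraMap B (AdicCompletion (IsLocalRing.maximalIdeal B) B))
    (FaithfulSMul.algebraMap_injective _ _)

end Groth.Agent.S6001
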