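import Groth.Statements.S6007
import Groth.Agent.H18Torsor.DiagExact

set_option autoImplicit false
set_option backward.isDefEq.respectTransparency.types false
universe u
open CategoryTheory AlgebraicGeometry MonoidalCategory CartesianMonoidalCategory MonObj GrpObj
open SGA1t

namespace Groth.Agent.S6007

/-- For a scheme S and an integer n ≥ 1 the Kummer sequence 1 → μ_n → G_m → G_m → 1 over S is exact for
the fpqc topology. Here G_m = D_S(Z), μ_n = D_S(Z/n) mapped into G_m by the diagonalisable-group
morphism induced by Z → Z/n, and G_m → G_m is the n-th power map, the character of D_S(Z) attached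
to n; exactness means that both maps are homomorphisms with trivial composite, that (g, z) ↦ (g, gz)
identifies G_m ×_S μ_n with the fibre product of the n-th power map with itself, and that the n-th
power map acquires sections on the members of some fpqc covering family of its target. -/
theorem result {S : Scheme.{u}} (n : ℕ) (hn : 0 < n) :
    NonAbH1.IsExactSeq Scheme.fpqcPrecoverage
      (Red.DSmap S (Int.castAddHom (ZMod n))) (Red.chi S (n : ℤ)) := by
  have hsurj : Function.Surjective (Int.castAddHom (ZMod n)) := ZMod.intCast_surjective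
  have h0 : ∀ m : ℤ, Int.castAddHom (ZMod n) (zmultiplesHom ℤ (n : ℤ) m) = 0 := fun m => by simp
  have hex : ∀ k : ℤ, Int.castAddHom (ZMod n) k = 0 → ∃ m, zmultiplesHom ℤ (n : ℤ) m = k := fun k hk => by
    obtain ⟨c, rfl⟩ := (ZMod.intCast_zmod_eq_zero_iff_dvd k n).1 hk
    exact ⟨c, by simp [mul_comm]⟩
  have hinj : Function.Injective (zmultiplesHom ℤ (n : ℤ)) := fun a b h => by
    simp at h
    exact h.resolve_right (by omega)
  obtain ⟨hf, hs⟩ := Groth.Agent.H21Diag.flat_surjective_DSmap S _ hinj
  have := Groth.Agent.H18Torsor.DiagExact.locallyOfFinitePresentation_DSmap (S := S) (zmultiplesHom ℤ (n : ℤ))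
  have hK : Presieve.singleton (Red.DSmap S (zmultiplesHom ℤ (n : ℤ))).left ∈ Scheme.fppfPrecoverage (Red.DS S ℤ).left :=
    (Scheme.singleton_mem_precoverage_iff (P := @Flat ⊓ @LocallyOfFinitePresentation) _).2 ⟨hs.1, hf, this⟩
  exact Groth.Agent.H18Torsor.DiagExact.isExactSeq _ _ _ hsurj h0 hex
    (Scheme.fppfPrecoverage_le_fpqcPrecoverage _ hK)

end Groth.Agent.S6007
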