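import Groth.Statements.S6012
import Groth.Agent.H14Fib.Clv

set_option autoImplicit false
set_option backward.isDefEq.respectTransparency false
set_option backward.isDefEq.respectTransparency.types false
open CategoryTheory
universe v₁ v₂ u₁ u₂
open FibCat FibCat.Cleavage

namespace Groth.Agent.S6012

/-- Let `K` be a cleavage of an arbitrary functor `p : 𝒳 ⥤ 𝒮` (one chosen cartesian lift of every base
morphism at every object over its target; `p` is not assumed fibred). Then `p` is a fibred category
(composites of cartesian morphisms are cartesian) if and only if, for all composable base morphisms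
`g : R ⟶ T` and `f : T ⟶ S`, the comparison natural transformation `c_{f,g}` from `g^* f^*` to
`(fg)^*` determined by `K` is an isomorphism. -/
theorem result (𝒮 : Type u₁) (𝒳 : Type u₂) [Category.{v₁} 𝒮] [Category.{v₂} 𝒳] (p : 𝒳 ⥤ 𝒮) (K : FibCat.Cleavage p) :
    p.IsFibered ↔ ∀ (R S T : 𝒮) (f : T ⟶ S) (g : R ⟶ T), IsIso (K.comp f g) := by
  constructor
  · intro hp R S T f g
    have happ : ∀ a, IsIso ((K.comp f g).app a) := by
      intro a
      let e := Functor.IsCartesian.domainUniqueUpToIso p (g ≫ f) (K.lift a.2 (g ≫ f))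
        (K.lift (K.obj_proj a.2 f) g ≫ K.lift a.2 f)
      have he : ((K.comp f g).app a).1 = e.hom := K.comp_app f g a
      have : IsIso ((K.comp f g).app a).1 := he ▸ inferInstance
      exact H14Fib.fiber_isIso_of_isIso _
    exact NatIso.isIso_of_isIso_app _
  · intro h
    refine { exists_isCartesian' := fun f => K.isPreFibered.exists_isCartesian' f, comp := ?_ }
    intro R S T g f a b c φ ψ _ _
    have hc := IsHomLift.codomain_eq p f ψ
    have hb := IsHomLift.domain_eq p f ψ
    -- ψ is the chosen lift up to an iso of the fibre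
    let e₁ := Functor.IsCartesian.domainUniqueUpToIso p f (K.lift hc f) ψ
    have he₁ : e₁.hom ≫ K.lift hc f = ψ := Functor.IsCartesian.fac p f (K.lift hc f) ψ
    have : p.IsHomLift (𝟙 S) e₁.hom := inferInstance
    have hφ' : p.IsCartesian g (φ ≫ e₁.hom) := Functor.IsCartesian.of_comp_iso p g φ e₁
    let e₂ := Functor.IsCartesian.domainUniqueUpToIso p g (K.lift (K.obj_proj hc f) g) (φ ≫ e₁.hom)
    have he₂ : e₂.hom ≫ K.lift (K.obj_proj hc f) g = φ ≫ e₁.hom :=
      Functor.IsCartesian.fac p g (K.lift (K.obj_proj hc f) g) (φ ≫ e₁.hom)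
    have := h R T S f g
    let a₀ : p.Fiber T := Functor.Fiber.mk hc
    let e₃ : K.obj (K.obj_proj hc f) g ≅ K.obj hc (g ≫ f) :=
      Functor.Fiber.fiberInclusion.mapIso ((asIso (K.comp f g)).app a₀)
    have he₃ : e₃.hom ≫ K.lift hc (g ≫ f) = K.lift (K.obj_proj hc f) g ≫ K.lift hc f :=
      H14Fib.comp_app_lift K f g a₀
    have hl3 : p.IsHomLift (𝟙 R) e₃.hom := ((K.comp f g).app a₀).2
    have : p.IsHomLift (𝟙 R) e₂.hom := inferInstance
    have hl : p.IsHomLift (𝟙 R) (e₂ ≪≫ e₃).hom := H14Fib.homLift_id_comp this hl3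
    have := Functor.IsCartesian.of_iso_comp p (g ≫ f) (K.lift hc (g ≫ f)) (e₂ ≪≫ e₃)
    rw [Iso.trans_hom, Category.assoc, he₃, reassoc_of% he₂, he₁] at this
    exact this

end Groth.Agent.S6012
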