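import Groth.Statements.S6013
import Groth.Agent.H14Fib.Clv

set_option autoImplicit false
set_option backward.isDefEq.respectTransparency false
set_option backward.isDefEq.respectTransparency.types false
open CategoryTheory
universe v₁ v₂ u₁ u₂
open FibCat FibCat.Cleavage

namespace Groth.Agent.S6013

/-- Let `p : 𝒳 ⥤ 𝒮` be a fibred category with a cleavage `K`, and let `f : T ⟶ S` be an isomorphism of
the base. Then the inverse-image functor `f^*` of `K`, from the fibre over `S` to the fibre over
`T`, is an equivalence of categories. -/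
theorem result (𝒮 : Type u₁) (𝒳 : Type u₂) [Category.{v₁} 𝒮] [Category.{v₂} 𝒳] (p : 𝒳 ⥤ 𝒮) [p.IsFibered] (K : FibCat.Cleavage p)
    (S T : 𝒮) (f : T ⟶ S) [IsIso f] : (K.inverseImage f).IsEquivalence := by
  have hiso : ∀ a : p.Fiber S, IsIso (K.lift a.2 f) := fun a =>
    Functor.IsStronglyCartesian.isIso_of_base_isIso p f (K.lift a.2 f)
  have : (K.inverseImage f).Faithful := ⟨fun {a b} φ ψ h => by
    have := hiso a
    apply Functor.Fiber.hom_ext
    rw [← cancel_epi (K.lift a.2 f), ← H14Fib.inverseImage_map_lift, ← H14Fib.inverseImage_map_lift, h]⟩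
  have : (K.inverseImage f).Full := ⟨fun {a b} ψ => by
    have := hiso a
    let m := inv (K.lift a.2 f) ≫ Functor.Fiber.fiberInclusion.map ψ ≫ K.lift b.2 f
    have h1 : p.IsHomLift (𝟙 T) (Functor.Fiber.fiberInclusion.map ψ) := ψ.2
    have h2 : p.IsHomLift f (Functor.Fiber.fiberInclusion.map ψ ≫ K.lift b.2 f) :=
      IsHomLift.comp_lift_id_left' p T (Functor.Fiber.fiberInclusion.map ψ) f (K.lift b.2 f)
    have h3 : p.IsHomLift (inv f) (inv (K.lift a.2 f)) := IsHomLift.inv p f (K.lift a.2 f)
    have h4 := H14Fib.homLift_comp' h3 h2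
    rw [IsIso.inv_hom_id] at h4
    refine ⟨⟨m, h4⟩, H14Fib.fiber_ext K f ?_⟩
    rw [H14Fib.inverseImage_map_lift]
    exact IsIso.hom_inv_id_assoc (K.lift a.2 f) _⟩
  have : (K.inverseImage f).EssSurj := ⟨fun b => by
    have hb := b.2
    have := Functor.IsStronglyCartesian.isIso_of_base_isIso p (inv f) (K.lift b.2 (inv f))
    let a : p.Fiber S := Functor.Fiber.mk (K.obj_proj b.2 (inv f))
    have h1 : p.IsHomLift f (inv (K.lift b.2 (inv f))) := by
      have := IsHomLift.inv p (inv f) (K.lift b.2 (inv f))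
      rwa [IsIso.inv_inv] at this
    have h2 : p.IsStronglyCartesian f (inv (K.lift b.2 (inv f))) := inferInstance
    let e := Functor.IsCartesian.domainUniqueUpToIso p f (K.lift a.2 f) (inv (K.lift b.2 (inv f)))
    exact ⟨a, ⟨(H14Fib.fiberIso (a := b) (b := (K.inverseImage f).obj a) e inferInstance).symm⟩⟩⟩
  exact {}

end Groth.Agent.S6013
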