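import Groth.Statements.S6018
import Groth.Agent.H14Fib.Clv

set_option autoImplicit false
set_option backward.isDefEq.respectTransparency false
set_option backward.isDefEq.respectTransparency.types false
open CategoryTheory
universe v₁ v₂ v₃ u₁ u₂ u₃
open FibCat FibCat.Cleavage

namespace Groth.Agent.S6018

/-- Let `K` be a cleavage of a functor `p : 𝒳 ⥤ 𝒮` (neither fibredness nor normalisation is assumed),
let `F, G : 𝒳 ⥤ C` be functors, and for every object `S` of the base let `u_S` be a natural
transformation between the restrictions of `F` and `G` to the fibre over `S`. If the family is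
compatible with the transport morphisms `α_f(a) : f^* a ⟶ a` of `K`, i.e. `G(α_f(a)) ∘ u_T(f^* a) =
u_S(a) ∘ F(α_f(a))` for every base morphism `f : T ⟶ S` and every `a` over `S`, then there is
exactly one natural transformation `F ⟶ G` whose component at every object is the prescribed one.
(The published statement is an isomorphism between the category of all functors `𝒳 ⥤ C` and the
category of compatible families of functors on the fibres of a normalised cloven category; this row
is its assertion on morphisms, whose published proof does not use the normalisation, so none is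
assumed here.) -/
theorem result (𝒮 : Type u₁) (𝒳 : Type u₂) [Category.{v₁} 𝒮]
    [Category.{v₂} 𝒳] (p : 𝒳 ⥤ 𝒮) (K : FibCat.Cleavage p) (C : Type u₃) [Category.{v₃} C] (F G : 𝒳 ⥤ C)
    (u : ∀ S : 𝒮, (Functor.Fiber.fiberInclusion ⋙ F : p.Fiber S ⥤ C) ⟶ Functor.Fiber.fiberInclusion ⋙ G)
    (hu : ∀ ⦃T S : 𝒮⦄ (f : T ⟶ S) (a : p.Fiber S),
      F.map ((K.transport f).app a) ≫ (u S).app a = (u T).app ((K.inverseImage f).obj a) ≫ G.map ((K.transport f).app a)) :
    ∃! v : F ⟶ G, ∀ (S : 𝒮) (a : p.Fiber S), v.app a.1 = (u S).app a := by
  have key : ∀ {S : 𝒮} (a : p.Fiber S), (u (p.obj a.1)).app (Functor.Fiber.mk rfl) = (u S).app a := by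
    intro S a
    obtain ⟨x, hx⟩ := a
    subst hx
    rfl
  let v : F ⟶ G :=
    { app := fun x => (u (p.obj x)).app (Functor.Fiber.mk rfl)
      naturality := fun x y φ => by
        let a : p.Fiber (p.obj y) := Functor.Fiber.mk rfl
        let b : p.Fiber (p.obj x) := (K.inverseImage (p.map φ)).obj a
        let τ : (Functor.Fiber.mk rfl : p.Fiber (p.obj x)) ⟶ b :=
          ⟨Functor.IsCartesian.map p (p.map φ) (K.lift a.2 (p.map φ)) φ, inferInstance⟩
        have hφ : Functor.Fiber.fiberInclusion.map τ ≫ (K.transport (p.map φ)).app a = φ :=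
          Functor.IsCartesian.fac p (p.map φ) (K.lift a.2 (p.map φ)) φ
        have hn := (u (p.obj x)).naturality τ
        have ht := hu (p.map φ) a
        simp only [Functor.comp_map] at hn
        calc F.map φ ≫ (u (p.obj y)).app a
            = F.map (Functor.Fiber.fiberInclusion.map τ) ≫
                F.map ((K.transport (p.map φ)).app a) ≫ (u (p.obj y)).app a := by
              rw [← Category.assoc, ← F.map_comp, hφ]
          _ = F.map (Functor.Fiber.fiberInclusion.map τ) ≫
                (u (p.obj x)).app b ≫ G.map ((K.transport (p.map φ)).app a) := by rw [ht]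
          _ = (u (p.obj x)).app (Functor.Fiber.mk rfl) ≫ G.map φ := by
              rw [← Category.assoc, hn, Category.assoc, ← G.map_comp, hφ] }
  refine ⟨v, fun S a => key a, fun w hw => ?_⟩
  ext x
  exact hw (p.obj x) (Functor.Fiber.mk rfl)

end Groth.Agent.S6018
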