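import Groth.Statements.S6019
import Groth.Agent.H14Fib.Clv

set_option autoImplicit false
set_option backward.isDefEq.respectTransparency false
set_option backward.isDefEq.respectTransparency.types false
open CategoryTheory
universe v₁ v₂ u₁ u₂
open FibCat FibCat.Cleavage

namespace Groth.Agent.S6019

lemma isCartesian_id {𝒮 : Type u₁} {𝒳 : Type u₂} [Category.{v₁} 𝒮] [Category.{v₂} 𝒳] (p : 𝒳 ⥤ 𝒮)
    {R S : 𝒮} {a : 𝒳} (ha : p.obj a = S) (e : R = S) : p.IsCartesian (eqToHom e) (𝟙 a) := by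
  subst e ha
  have : p.IsHomLift (𝟙 (p.obj a)) (𝟙 a) := inferInstance
  refine { toIsHomLift := this, universal_property := fun {a'} φ' h => ⟨φ', ⟨h, Category.comp_id φ'⟩, ?_⟩ }
  rintro τ ⟨-, hτ⟩
  rwa [Category.comp_id] at hτ

open Classical in
/-- Chosen lifts, identities at identities. -/
noncomputable def pick {𝒮 : Type u₁} {𝒳 : Type u₂} [Category.{v₁} 𝒮] [Category.{v₂} 𝒳] (p : 𝒳 ⥤ 𝒮)
    [p.IsPreFibered] {R S : 𝒮} {a : 𝒳} (ha : p.obj a = S) (f : R ⟶ S) :
    {bφ : Σ b : 𝒳, (b ⟶ a) // p.IsCartesian f bφ.2} :=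
  if h : ∃ e : R = S, f = eqToHom e then
    ⟨⟨a, 𝟙 a⟩, h.choose_spec ▸ isCartesian_id p ha h.choose⟩
  else ⟨⟨_, Functor.IsPreFibered.pullbackMap ha f⟩,
    Functor.IsPreFibered.pullbackMap.IsCartesian ha f⟩

lemma pick_id {𝒮 : Type u₁} {𝒳 : Type u₂} [Category.{v₁} 𝒮] [Category.{v₂} 𝒳] (p : 𝒳 ⥤ 𝒮)
    [p.IsPreFibered] {S : 𝒮} {a : 𝒳} (ha : p.obj a = S) : (pick p ha (𝟙 S)).1 = ⟨a, 𝟙 a⟩ := by
  rw [pick, dif_pos ⟨rfl, rfl⟩]

lemma sigma_eq {𝒳 : Type u₂} [Category.{v₂} 𝒳] {a : 𝒳} {x : Σ b : 𝒳, (b ⟶ a)} (h : x = ⟨a, 𝟙 a⟩) :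
    ∃ e : x.1 = a, x.2 = eqToHom e := by
  subst h
  exact ⟨rfl, rfl⟩

/-- A pre-fibred category admits a normalised cleavage: if every base morphism `R ⟶ p(a)` has a
cartesian morphism over it with target `a`, then one cartesian lift can be chosen for every base
morphism at every object over its target in such a way that the chosen lift of each identity `𝟙 S`
at each object `a` over `S` is the identity of `a` (identities are transport morphisms). -/
theorem result (𝒮 : Type u₁) (𝒳 : Type u₂) [Category.{v₁} 𝒮] [Category.{v₂} 𝒳]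
    (p : 𝒳 ⥤ 𝒮) [p.IsPreFibered] : ∃ K : FibCat.Cleavage p, K.IsNormalised := by
  let K : FibCat.Cleavage p :=
    { obj := fun ha f => (pick p ha f).1.1
      lift := fun ha f => (pick p ha f).1.2
      isCartesian := fun ha f => (pick p ha f).2 }
  exact ⟨K, fun S a ha => sigma_eq (pick_id p ha)⟩

end Groth.Agent.S6019
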