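import Groth.Statements.S6021
import Groth.Agent.H15Site.LocCohVanish

set_option autoImplicit false
universe u
open CategoryTheory CategoryTheory.Limits TopologicalSpace
open LocCohZ

set_option linter.style.haveILetI false
set_option linter.unusedSectionVars false
set_option backward.isDefEq.respectTransparency false
open Groth.Agent.H15Site Groth.Agent.H10Coh


namespace Groth.Agent.S6021

/-- Consider a topological space X carrying an abelian sheaf F, a closed subset Z whose open complement
is U, and a natural number N > 0. Assume that, for each open V of X and each i < N, restricting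
H^i(V, F) → H^i(V ∩ U, F) gives a bijection. Then ℋ^i_Z(F), the local cohomology sheaves, are zero
for every i ≤ N (no separate injectivity hypothesis in degree N is needed, since it follows
automatically). -/
theorem result {X : TopCat.{u}} (F : CohTop.Ab X) (U : Opens X) (N : ℕ) (hN : 0 < N)
    (h : ∀ (V : Opens X) (i : ℕ), i < N → Function.Bijective (CohTop.res F i (inf_le_left : V ⊓ U ≤ V))) :
    ∀ i : ℕ, i ≤ N → IsZero ((LocCohZ.HZsh U i).obj F) := by
  obtain ⟨m, rfl⟩ := Nat.exists_eq_succ_of_ne_zero hN.ne'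
  have hlow : ∀ V : Opens X, ∀ i : ℕ, i ≤ m → Subsingleton (LocCohZ.HZ F i (inf_le_left : V ⊓ U ≤ V)) :=
    fun V => (LocCoh.subsingleton_HZ_iff_res F _ m).2
      ⟨fun i hi => h V i (Nat.lt_succ_of_lt hi), (h V m (Nat.lt_succ_self m)).1⟩
  have hz : ∀ i : ℕ, i < m + 1 → IsZero ((LocCohZ.HZsh U i).obj F) :=
    (LocCoh.vanish_aux U (m + 1) F).2 fun V i hi => hlow V i (Nat.lt_succ_iff.1 hi)
  have hinj : ∀ V : Opens X, Function.Injective
      (LocCohZ.toHU F (m + 1) (inf_le_left : V ⊓ U ≤ V)) := fun V =>
    (injective_iff_map_eq_zero _).2 fun x hx => by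
      obtain ⟨y, rfl⟩ := (LocCoh.exact_delta F m _ x).1 hx
      exact (LocCoh.exact_res F m _ y).2 ((h V m (Nat.lt_succ_self m)).2 y)
  have htop : ∀ V : Opens X, Subsingleton (LocCohZ.HZ F (m + 1) (inf_le_left : V ⊓ U ≤ V)) := fun V =>
    subsingleton_of_forall_eq 0 fun x => LocCoh.eq_zero_of_locally_eq_zero U (m + 1) F hz V x
      fun p hp => by
        obtain ⟨V', hle, hp', hres⟩ := exists_resH_eq_zero
          (LocCohZ.toHU F (m + 1) (inf_le_left : V ⊓ U ≤ V) x) hp
        refine ⟨V', hle, hp', hinj V' ?_⟩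
        rw [map_zero, LocCoh.toHU_resZ]
        exact hres
  intro i hi
  refine (LocCoh.vanish_aux U (m + 2) F).2 (fun V j hj => ?_) i (by omega)
  rcases Nat.lt_or_ge j (m + 1) with hj' | hj'
  · exact hlow V j (Nat.lt_succ_iff.1 hj')
  · obtain rfl : j = m + 1 := by omega
    exact htop V

end Groth.Agent.S6021
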