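import Groth.Statements.S6023
import Groth.Agent.H15Site.LocCohVanish

set_option autoImplicit false
universe u
open CategoryTheory CategoryTheory.Limits TopologicalSpace
open LocCohZ

set_option linter.style.haveILetI false
set_option linter.unusedSectionVars false
set_option backward.isDefEq.respectTransparency false
open Groth.Agent.H15Site Groth.Agent.H10Coh


namespace Groth.Agent.S6023

/-- Let F be a flasque abelian sheaf on a topological space X. Then H^i_Z(V, F) = 0 for every locally
closed subset Z = V − W (W ⊆ V opens of X) and every i > 0, and ℋ^i_Z(F) = 0 for every closed subset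
Z = X − U and every i > 0. (The sheaf assertion is stated for closed Z only.) -/
theorem result {X : TopCat.{u}} (F : CohTop.Ab X) [TopCat.Sheaf.IsFlasque F] :
    (∀ (W V : Opens X) (h : W ≤ V) (i : ℕ), 0 < i → Subsingleton (LocCohZ.HZ F i h)) ∧
      ∀ (U : Opens X) (i : ℕ), 0 < i → IsZero ((LocCohZ.HZsh U i).obj F) := by
  have hF : Flasque F := (flasque_iff F).2 ‹_›
  refine ⟨fun W V h i hi => ?_, fun U i hi => ?_⟩ <;>
    obtain ⟨j, rfl⟩ := Nat.exists_eq_succ_of_ne_zero hi.ne'
  · exact LocCoh.subsingleton_HZ_of_flasque hF h j
  · exact LocCoh.isZero_HZsh_of_flasque U j hF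

end Groth.Agent.S6023
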