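import Groth.Statements.S6024
import Groth.Agent.H15Site.LocCohVanish

set_option autoImplicit false
universe u
open CategoryTheory CategoryTheory.Limits TopologicalSpace
open LocCohZ

set_option linter.style.haveILetI false
set_option linter.unusedSectionVars false
set_option backward.isDefEq.respectTransparency false
open Groth.Agent.H15Site Groth.Agent.H10Coh


namespace Groth.Agent.S6024

/-- Consider a topological space X carrying a sheaf of abelian groups F, and assume that H^1_Z(X, F)
vanishes for each closed subset Z of X (writing Z = X − U with U open). Under this assumption, F is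
flasque. -/
theorem result {X : TopCat.{u}} (F : CohTop.Ab X)
    (h : ∀ U : Opens X, Subsingleton (LocCohZ.HZc F 1 U)) : TopCat.Sheaf.IsFlasque F := by
  refine (flasque_iff F).1 fun A B hBA s => ?_
  obtain ⟨y, hy⟩ := (LocCoh.exact_res F 0 (le_top : B ≤ ⊤) ((H0Equiv F B).symm s)).1
    (by haveI := h B; exact Subsingleton.elim _ _)
  refine ⟨F.obj.map (homOfLE (le_top : A ≤ ⊤)).op (H0Equiv F ⊤ y), ?_⟩
  have h2 : F.obj.map (homOfLE (le_top : B ≤ ⊤)).op (H0Equiv F ⊤ y) = s :=
    (H0Equiv_res (le_top : B ≤ ⊤) y).symm.trans
      ((congrArg (H0Equiv F B) hy).trans ((H0Equiv F B).apply_symm_apply s))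
  refine Eq.trans ?_ h2
  exact (ConcreteCategory.congr_hom (F.obj.map_comp (homOfLE (le_top : A ≤ ⊤)).op (homOfLE hBA).op) _).symm

end Groth.Agent.S6024
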