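import Groth.Statements.S6025
import Groth.Agent.H15Site.RDSeq
import Groth.Agent.S13590
import Groth.Agent.H15Site.LocCohRestr

set_option autoImplicit false
universe u
open CategoryTheory CategoryTheory.Limits TopologicalSpace
open LocCohZ

set_option linter.style.haveILetI false
set_option linter.unusedSectionVars false
set_option backward.isDefEq.respectTransparency false
open Groth.Agent.H15Site Groth.Agent.H10Coh CategoryTheory CategoryTheory.Limits Opposite

attribute [local instance 10000] Groth.Agent.H10Coh.hasSheafifyAb Groth.Agent.H10Coh.hasWeakSheafifyAb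
  Groth.Agent.H10Coh.hasExtAb Groth.Agent.H10Coh.enoughInjAb


namespace Groth.Agent.S6025

/-- Let X be a topological space, A a closed subset with open complement U and f : U → X the inclusion.
Then the functor ℋ^1_A is isomorphic to the cokernel of the unit F → f_* f⁻¹ F (so that 0 → ℋ^0_A(F)
→ F → f_*(F|_U) → ℋ^1_A(F) → 0 is exact), and for every i ≥ 1 the functor ℋ^{i+1}_A is isomorphic to
F ↦ R^i f_*(F|_U). (Existence of isomorphisms of functors only; the maps of the four-term sequence
other than the kernel inclusion are not pinned.) -/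
theorem result {X : TopCat.{u}} (U : Opens X) :
    Nonempty (LocCohZ.HZsh U 1 ≅
      cokernel (TopCat.Sheaf.pullbackPushforwardAdjunction AddCommGrpCat.{u} (CohCx.incl U)).unit) ∧
      ∀ i : ℕ, 1 ≤ i →
        Nonempty (LocCohZ.HZsh U (i + 1) ≅ CohTop.pull (CohCx.incl U) ⋙ CohTop.Rpush (CohCx.incl U) i) := by
  let j := CohCx.incl U
  let R := CohTop.pull j
  haveI : R.Additive := LocCohRestr.pull_additive j
  haveI : PreservesFiniteLimits R := ClosedPushAb.pull_preservesFiniteLimits j
  haveI : PreservesFiniteColimits R := by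
    haveI : R.IsLeftAdjoint := (TopCat.Sheaf.pullbackPushforwardAdjunction AddCommGrpCat.{u} j).isLeftAdjoint
    exact PreservesColimitsOfSize.preservesFiniteColimits.{u, u} R
  haveI := ClosedPushAb.push_preservesFiniteLimits j
  haveI : (CohTop.push j).Additive := LocCohRestr.push_additive j
  let a : LocCohZ.sectSuppF U ⟶ 𝟭 (CohTop.Ab X) :=
    { app := fun F => kernel.ι (SuppSect.η U F)
      naturality := fun F G f => LocCoh.sectSuppF_map_ι U f }
  let b : 𝟭 (CohTop.Ab X) ⟶ R ⋙ CohTop.push j :=
    (TopCat.Sheaf.pullbackPushforwardAdjunction AddCommGrpCat.{u} j).unit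
  have w : a ≫ b = 0 := by
    refine NatTrans.ext (funext fun F => ?_)
    exact kernel.condition (SuppSect.η U F)
  have hI : ∀ (I : CohTop.Ab X) [Injective I],
      (ShortComplex.mk (a.app I) (b.app I) (by rw [← NatTrans.comp_app, w]; rfl)).ShortExact := by
    intro I _
    haveI : Mono (a.app I) := inferInstanceAs (Mono (kernel.ι (SuppSect.η U I)))
    exact { exact := ShortComplex.exact_of_f_is_kernel _ (kernelIsKernel (SuppSect.η U I))
            mono_f := inferInstanceAs (Mono (a.app I))
            epi_g := LocCohRestr.epi_unit U I (flasque_of_injective I) }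
  have h0 : ∀ (m : ℕ) (F : CohTop.Ab X), IsZero (((𝟭 (CohTop.Ab X)).rightDerived (m + 1)).obj F) :=
    fun m F => ClosedPushAb.isZero_rightDerived _ F m
  haveI : PreservesFiniteLimits (R ⋙ CohTop.push j) := comp_preservesFiniteLimits R (CohTop.push j)
  refine ⟨RDSeq.nonempty_cokernelIso a b w hI (h0 0), fun i hi => ?_⟩
  obtain ⟨k, rfl⟩ := Nat.exists_eq_succ_of_ne_zero (by omega : i ≠ 0)
  exact ⟨(RDSeq.δIsoNat a b w hI (k + 1) (h0 k) (h0 (k + 1))).symm ≪≫
    RDSeq.precompIso R (CohTop.push j) (fun I _ => LocCohRestr.injective_pull U I) (k + 1)⟩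

end Groth.Agent.S6025
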