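import Groth.Statements.S6027
import Groth.Agent.H15Site.LocCohVanish
import Groth.Agent.H15Site.RDExt

set_option autoImplicit false
universe u
open CategoryTheory CategoryTheory.Limits TopologicalSpace
open LocCohZ

set_option linter.style.haveILetI false
set_option linter.unusedSectionVars false
set_option backward.isDefEq.respectTransparency false
open Groth.Agent.H15Site Groth.Agent.H10Coh


namespace Groth.Agent.S6027

/-- The case of a closed subset. Let X be a topological space and Z a closed subset with open complement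
U. For every q the q-th right derived functor of F ↦ Γ_Z(X, F) is isomorphic to the functor F ↦
Ext^q(ℤ_{Z,X}, F), where ℤ_{Z,X} = ℤ_X/ℤ_U. (Existence of an isomorphism of functors for each q;
compatibility with connecting maps is not asserted.) -/
theorem result {X : TopCat.{u}} (U : Opens X) (q : ℕ) :
    Nonempty (LocCohZ.RHZ U q ≅ ToposFin.HZFunctor (LocCohZ.openSh U) q) := by
  refine RDExt.nonempty_iso (ToposFin.quotZ (LocCohZ.openSh U)) (LocCohZ.gammaZF U)
    (fun Y => (sect (⊤ : Opens X) ((LocCohZ.sectSuppF U).obj Y)).symm.trans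
      ((SuppSect.homEquiv U Y).trans (AddEquiv.ofBijective (Preadditive.leftComp Y (LocCohZ.zqIsoQuotZ U).inv)
        (LocCohZ.zqIsoQuotZ U).homFromEquiv.bijective))) ?_ q
  intro Y Y' f s
  change (LocCohZ.zqIsoQuotZ U).inv ≫ SuppSect.homEquiv U Y' ((sect ⊤ _).symm (((LocCohZ.sectSuppF U).map f).hom.app _ s)) =
    ((LocCohZ.zqIsoQuotZ U).inv ≫ SuppSect.homEquiv U Y ((sect ⊤ _).symm s)) ≫ f
  rw [Category.assoc, ← SuppSect.homEquiv_comp]
  congr 2
  apply (sect ⊤ _).injective
  rw [AddEquiv.apply_symm_apply, sect_comp, AddEquiv.apply_symm_apply]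

end Groth.Agent.S6027
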