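import Groth.Statements.S6028
import Groth.Agent.H15Site.LocCohVanish

set_option autoImplicit false
universe u
open CategoryTheory CategoryTheory.Limits TopologicalSpace
open LocCohZ

set_option linter.style.haveILetI false
set_option linter.unusedSectionVars false
set_option backward.isDefEq.respectTransparency false
open Groth.Agent.H15Site Groth.Agent.H10Coh

open CategoryTheory CategoryTheory.Limits in
lemma Groth.Agent.S6028.exists_shortExact {C : Type*} [Category C] [Abelian C] {A B D : C}
    (a : A ⟶ B) (b : B ⟶ D) [Mono b] (c : A ⟶ D) (hc : a ≫ b = c) (p : cokernel a ⟶ cokernel c)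
    (q : cokernel c ⟶ cokernel b) (hp : cokernel.π a ≫ p = b ≫ cokernel.π c)
    (hq : cokernel.π c ≫ q = cokernel.π b) :
    ∃ w : p ≫ q = 0, (ShortComplex.mk p q w).ShortExact := by
  subst hc
  have w : p ≫ q = 0 := by
    apply (cancel_epi (cokernel.π a)).1
    rw [reassoc_of% hp, hq, cokernel.condition, comp_zero]
  have hm : Mono p := Preadditive.mono_of_cancel_zero p fun {T} x hx => by
    obtain ⟨T', π, _, y, hy⟩ := surjective_up_to_refinements_of_epi (cokernel.π a) x
    have h1 : (y ≫ b) ≫ cokernel.π (a ≫ b) = 0 := by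
      rw [Category.assoc, ← hp, ← reassoc_of% hy, hx, comp_zero]
    obtain ⟨T'', π', _, z, hz⟩ :=
      (ShortComplex.exact_of_g_is_cokernel (ShortComplex.mk _ _ (cokernel.condition (a ≫ b)))
        (cokernelIsCokernel _)).exact_up_to_refinements _ h1
    dsimp at hz
    have h2 : π' ≫ y = z ≫ a := (cancel_mono b).1 (by simpa only [Category.assoc] using hz)
    apply (cancel_epi (π' ≫ π)).1
    rw [Category.assoc, hy, ← Category.assoc, h2, Category.assoc, cokernel.condition, comp_zero, comp_zero]
  have he : Epi q := epi_of_epi_fac hq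
  refine ⟨w, { exact := ShortComplex.exact_of_g_is_cokernel _ ?_ }⟩
  refine CokernelCofork.IsColimit.ofπ' _ _ fun {T} k hk => ?_
  refine ⟨cokernel.desc b (cokernel.π (a ≫ b) ≫ k) (by
    rw [← Category.assoc, ← hp, Category.assoc, hk, comp_zero]), ?_⟩
  apply (cancel_epi (cokernel.π (a ≫ b))).1
  rw [reassoc_of% hq, cokernel.π_desc]


namespace Groth.Agent.S6028

/-- Let X be a topological space and W ⊆ V ⊆ T opens of X; put Z = T − W, Z' = T − V and Z'' = V − W, so
that Z' is closed in Z with complement Z''. Then 0 → ℤ_{Z'',X} → ℤ_{Z,X} → ℤ_{Z',X} → 0 is a short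
exact sequence of abelian sheaves on X, where ℤ_{Z,X} = ℤ_T/ℤ_W and the maps are the induced ones. -/
theorem result {X : TopCat.{u}} {W V T : Opens X} (hWV : W ≤ V) (hVT : V ≤ T) :
    ∃ w : LocCohZ.zqMap (hWV.trans hVT) hWV le_rfl hVT ≫ LocCohZ.zqMap hVT (hWV.trans hVT) hWV le_rfl = 0,
      (ShortComplex.mk _ _ w).ShortExact := by
  exact Groth.Agent.S6028.exists_shortExact (zmap hWV) (zmap hVT) (zmap (hWV.trans hVT))
    (CohFree.freeSheafMap_comp _ _ _).symm _ _ (cokernel.π_desc _ _ _)
    ((cokernel.π_desc _ _ _).trans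
      ((congrArg (· ≫ _) (CohFree.freeSheafMap_id _ _)).trans (Category.id_comp _)))

end Groth.Agent.S6028
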