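import Groth.Statements.S6029
import Groth.Agent.H15Site.SpGroth
import Groth.Agent.H15Site.SuppSect
import Groth.Agent.S13590

set_option autoImplicit false
universe u
open CategoryTheory CategoryTheory.Limits TopologicalSpace
open LocCohZ

set_option linter.style.haveILetI false
set_option linter.unusedSectionVars false
set_option backward.isDefEq.respectTransparency false
open Groth.Agent.H15Site


namespace Groth.Agent.S6029

/-- For a closed subset Z = X − U of a topological space X and an abelian sheaf F on X: there is an E₂
spectral sequence of abelian groups with E₂^{p,q} ≅ H^p(X, ℋ^q_Z(F)) for p, q ≥ 0 (and 0 otherwise),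
bounded, abutting with finite filtrations to H^n_Z(X, F) (n ≥ 0; 0 for n < 0). (Existence only: the
E₂ identifications and the abutment isomorphisms are some isomorphisms, not the canonical maps of a
construction, so edge maps and low-degree exact sequences are not part of this statement.) -/
theorem result {X : TopCat.{u}} (F : CohTop.Ab X) (U : Opens X) :
    ∃ (E : E₂CohomologicalSpectralSequence AddCommGrpCat.{u})
      (a : SpSeq.Abutment E (fun n : ℤ =>
        if 0 ≤ n then AddCommGrpCat.of (LocCohZ.HZc F n.toNat U) else AddCommGrpCat.of PUnit.{u + 1})),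
      (∀ n : ℤ, a.IsFinite n) ∧ SpSeq.IsBounded E ∧
      ∀ p q : ℤ, Nonempty ((E.page 2 le_rfl).X (p, q) ≅
        (if 0 ≤ p ∧ 0 ≤ q then AddCommGrpCat.of (CohTop.HU ((LocCohZ.HZsh U q.toNat).obj F) p.toNat ⊤)
          else AddCommGrpCat.of PUnit.{u + 1})) := by
  refine SpGroth.exists_spectralSequence (sectSuppF U)
    (CohCx.freeSheaf (Opens.grothendieckTopology X) (⊤ : Opens X)) (zq (le_top : U ≤ ⊤))
    (fun G => SuppSect.homEquiv U G) (fun I hI => Groth.Agent.S13590.injective_sectSupp U I)
    (fun G G' g x => SuppSect.homEquiv_comp U g x) F _ _ ?_ ?_ ?_ ?_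
  · intro p q hp hq
    rw [if_pos ⟨hp, hq⟩]
    exact ⟨AddEquiv.refl _⟩
  · intro p q hpq
    rw [if_neg hpq]
    exact AddCommGrpCat.isZero_of_subsingleton _
  · intro n hn
    rw [if_pos hn]
    exact ⟨AddEquiv.refl _⟩
  · intro n hn
    rw [if_neg (by omega)]
    exact AddCommGrpCat.isZero_of_subsingleton _

end Groth.Agent.S6029
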