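import Groth.Statements.S6033
import Groth.Agent.S6023
import Groth.Agent.S6032
import Groth.Agent.H10Coh.SheafH
-- import your own Groth.Agent.* helpers here

set_option autoImplicit false
universe u
open CategoryTheory CategoryTheory.Limits TopologicalSpace AlgebraicGeometry
open LocCohZ

set_option linter.style.haveILetI false
set_option backward.isDefEq.respectTransparency false

namespace Groth.Agent.S6033

/-- Let A be a commutative ring such that the underlying space of X = Spec A is Noetherian. Then M~ is
flasque for every injective A-module M if and only if colim_n H^1(f^n, M) = 0 (direct limit of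
Koszul cohomology of the powers) for every finite family f of elements of A and every injective
A-module M; and in that case colim_n H^i(f^n, M) = 0 for all i > 0 as well. -/
theorem result (A : Type u) [CommRing A]
    [NoetherianSpace (PrimeSpectrum A)] :
    ((∀ (M : Type u) [AddCommGroup M] [Module A M], Module.Injective A M →
        TopCat.Sheaf.IsFlasque (Coh.toAb (AlgebraicGeometry.tilde (R := CommRingCat.of A) (ModuleCat.of A M)))) ↔
      ∀ (fs : List A) (M : Type u) [AddCommGroup M] [Module A M], Module.Injective A M →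
        Subsingleton (CohIII.koszulHLim fs (ModuleCat.of A M) 1)) ∧
    ((∀ (M : Type u) [AddCommGroup M] [Module A M], Module.Injective A M →
        TopCat.Sheaf.IsFlasque (Coh.toAb (AlgebraicGeometry.tilde (R := CommRingCat.of A) (ModuleCat.of A M)))) →
      ∀ (fs : List A) (M : Type u) [AddCommGroup M] [Module A M], Module.Injective A M →
        ∀ i : ℕ, 0 < i → Subsingleton (CohIII.koszulHLim fs (ModuleCat.of A M) i)) := by
  have key : (∀ (M : Type u) [AddCommGroup M] [Module A M], Module.Injective A M →
        TopCat.Sheaf.IsFlasque (Coh.toAb (AlgebraicGeometry.tilde (R := CommRingCat.of A) (ModuleCat.of A M)))) →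
      ∀ (fs : List A) (M : Type u) [AddCommGroup M] [Module A M], Module.Injective A M →
        ∀ i : ℕ, 0 < i → Subsingleton (CohIII.koszulHLim fs (ModuleCat.of A M) i) := by
    intro h fs M _ _ hM i hi
    obtain ⟨e⟩ := S6032.result A fs M i
    haveI := h M hM
    haveI : Subsingleton (LocCohZ.HZM (Spec (CommRingCat.of A))
        (AlgebraicGeometry.tilde (R := CommRingCat.of A) (ModuleCat.of A M)) i
        (LocCoh.puncturedOpen A (Ideal.span {a | a ∈ fs}))) :=
      (S6023.result (X := (Spec (CommRingCat.of A)).toTopCat)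
        (Coh.toAb (AlgebraicGeometry.tilde (R := CommRingCat.of A) (ModuleCat.of A M)))).1 _ _ le_top i hi
    exact e.toEquiv.subsingleton
  refine ⟨⟨fun h fs M _ _ hM => key h fs M hM 1 one_pos, fun h M _ _ hM => ?_⟩, key⟩
  let Y := Spec (CommRingCat.of A)
  let Mt := AlgebraicGeometry.tilde (R := CommRingCat.of A) (ModuleCat.of A M)
  refine (H10Coh.flasque_iff (X := Y.toTopCat) (Coh.toAb Mt)).1 fun U V hVU s => ?_
  let Vs : Set (PrimeSpectrum A) := SetLike.coe V
  obtain ⟨t, ht⟩ := PrimeSpectrum.isCompact_isOpen_iff.1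
    (⟨NoetherianSpace.isCompact Vs, V.isOpen⟩ : IsCompact Vs ∧ IsOpen Vs)
  have hV : LocCoh.puncturedOpen A (Ideal.span {a | a ∈ t.toList}) = V := by
    refine TopologicalSpace.Opens.ext (Eq.trans ?_ ht)
    show (PrimeSpectrum.zeroLocus ((Ideal.span {a | a ∈ t.toList} : Ideal A) : Set A))ᶜ = _
    rw [PrimeSpectrum.zeroLocus_span]
    simp
  obtain ⟨e⟩ := S6032.result A t.toList M 1
  haveI := h t.toList M hM
  have hsub : Subsingleton (LocCohZ.HZM Y Mt 1 (LocCoh.puncturedOpen A (Ideal.span {a | a ∈ t.toList}))) :=
    e.symm.toEquiv.subsingleton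
  rw [hV] at hsub
  obtain ⟨e₁⟩ := S6032.nonempty_one (Y := Y) (Coh.toAb Mt) V
    (S6031.result Y Mt inferInstance V).1
  haveI := @Equiv.subsingleton _ _ e₁.symm.toEquiv hsub
  obtain ⟨z, hz⟩ : s ∈ ((Coh.toAb Mt).obj.map (homOfLE (le_top : V ≤ ⊤)).op).hom.range :=
    (QuotientAddGroup.eq_zero_iff _).1 (Subsingleton.elim _ _)
  refine ⟨(Coh.toAb Mt).obj.map (homOfLE (le_top : U ≤ ⊤)).op z, ?_⟩
  rw [← ConcreteCategory.comp_apply, ← Functor.map_comp]
  exact hz

end Groth.Agent.S6033
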