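import Groth.Statements.S6035
import Groth.Agent.H4Matlis.Duality

set_option autoImplicit false
universe u
open Matlis

namespace Groth.Agent.S6035

/-- The case of the dualizing functor Hom_A(−, E). Let A be a Noetherian local ring, E an injective hull
of its residue field and M an A-module of finite length. Then the evaluation map M → Hom_A(Hom_A(M,
E), E) is bijective. -/
theorem result (A : Type u) [CommRing A] [IsLocalRing A] [IsNoetherianRing A]
    (E : Type u) [AddCommGroup E] [Module A E] (f : IsLocalRing.ResidueField A →ₗ[A] E)
    (hf : InjHull.IsInjectiveHull f) (M : Type u) [AddCommGroup M] [Module A M] (hM : IsFiniteLength A M) :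
    Function.Bijective (LinearMap.applyₗ : M →ₗ[A] (M →ₗ[A] E) →ₗ[A] E) := by
  exact H4Matlis.bijective_applyₗ_of_isFiniteLength hf hM

end Groth.Agent.S6035
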