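import Groth.Statements.S6036
import Groth.Agent.H15Site.SuppPush

set_option autoImplicit false
universe u
open CategoryTheory CategoryTheory.Limits TopologicalSpace
open LocCohZ

set_option linter.style.haveILetI false
set_option linter.unusedSectionVars false
set_option backward.isDefEq.respectTransparency false
open Groth.Agent.H15Site CategoryTheory CategoryTheory.Limits


namespace Groth.Agent.S6036

/-- For a closed subset. Let X be a topological space and Z a closed subset with open complement U and
inclusion i : Z → X. Then i_* : (abelian sheaves on Z) → (abelian sheaves on X) is left adjoint to F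
↦ i⁻¹ Γ_Z(F), the sheaf on Z of sections of F supported in Z: Hom(i_* G, F) ≅ Hom(G, i⁻¹ Γ_Z(F))
naturally in G and F. (Existence of an adjunction; for Z closed the extension by zero i_! is i_*.) -/
theorem result {X : TopCat.{u}} (U : Opens X) :
    Nonempty (CohTop.push (CohCx.inclCompl U) ⊣ LocCohZ.sectSuppF U ⋙ CohTop.pull (CohCx.inclCompl U)) := by
  let i := CohCx.inclCompl U
  let P := CohTop.push i
  let Q := CohTop.pull i
  let Γ := LocCohZ.sectSuppF U
  let ι : ∀ F, Γ.obj F ⟶ F := fun F => kernel.ι (SuppSect.η U F)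
  have hi : Topology.IsClosedEmbedding i := U.isOpen.isClosed_compl.isClosedEmbedding_subtypeVal
  obtain ⟨-, hfull, hfaith, -, -⟩ := Groth.Agent.S6857.result i hi
  haveI := hfull
  haveI := hfaith
  let A : Q ⊣ P := TopCat.Sheaf.pullbackPushforwardAdjunction AddCommGrpCat.{u} i
  haveI hη : ∀ F, IsIso (A.unit.app (Γ.obj F)) := fun F =>
    A.isIso_unit_app_iff_mem_essImage.2 (SuppPush.sectSupp_mem_essImage U F)
  refine ⟨Adjunction.mkOfHomEquiv
    { homEquiv := fun G F =>
        { toFun := fun φ => P.preimage
            (kernel.lift _ φ (SuppPush.push_comp_unit U G φ) ≫ A.unit.app (Γ.obj F))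
          invFun := fun ψ => P.map ψ ≫ inv (A.unit.app (Γ.obj F)) ≫ ι F
          left_inv := fun φ => ?_
          right_inv := fun ψ => ?_ }
      homEquiv_naturality_left_symm := fun g f => ?_
      homEquiv_naturality_right := fun {G F F'} f g => ?_ }⟩
  · dsimp only
    refine (congrArg (· ≫ inv (A.unit.app (Γ.obj F)) ≫ ι F) (P.map_preimage _)).trans ?_
    refine (Category.assoc _ _ _).trans ?_
    refine (congrArg (kernel.lift (SuppSect.η U F) φ _ ≫ ·) (IsIso.hom_inv_id_assoc _ _)).trans ?_
    exact kernel.lift_ι _ _ _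
  · apply P.map_injective
    rw [Functor.map_preimage]
    have : kernel.lift (SuppSect.η U F) (P.map ψ ≫ inv (A.unit.app (Γ.obj F)) ≫ ι F)
        (SuppPush.push_comp_unit U G _) = P.map ψ ≫ inv (A.unit.app (Γ.obj F)) := by
      apply (cancel_mono (kernel.ι (SuppSect.η U F))).1
      exact (kernel.lift_ι _ _ _).trans (Category.assoc _ _ _).symm
    refine (congrArg (· ≫ A.unit.app (Γ.obj F)) this).trans ?_
    rw [Category.assoc, IsIso.inv_hom_id, Category.comp_id]
  · change P.map (g ≫ f) ≫ _ ≫ _ = P.map g ≫ P.map f ≫ _ ≫ _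
    rw [Functor.map_comp, Category.assoc]
  · apply P.map_injective
    change P.map (P.preimage _) = P.map (P.preimage _ ≫ Q.map (Γ.map g))
    rw [Functor.map_comp, Functor.map_preimage, Functor.map_preimage, Category.assoc]
    have h1 : A.unit.app (Γ.obj F) ≫ P.map (Q.map (Γ.map g)) = Γ.map g ≫ A.unit.app (Γ.obj F') :=
      (A.unit.naturality (Γ.map g)).symm
    rw [h1, ← Category.assoc]
    congr 1
    apply (cancel_mono (kernel.ι (SuppSect.η U F'))).1
    refine (kernel.lift_ι _ _ _).trans ?_
    refine ((congrArg (· ≫ g) (kernel.lift_ι _ f (SuppPush.push_comp_unit U G f))).symm.trans ?_).trans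
      (Category.assoc _ _ _).symm
    exact (Category.assoc _ _ _).trans (congrArg (_ ≫ ·) (LocCoh.sectSuppF_map_ι U g).symm)

end Groth.Agent.S6036
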