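import Groth.Statements.S6037
import Groth.Agent.H15Site.SpGroth
import Groth.Agent.H15Site.ZqHom

set_option autoImplicit false
universe u
open CategoryTheory CategoryTheory.Limits TopologicalSpace
open LocCohZ

set_option linter.style.haveILetI false
set_option linter.unusedSectionVars false
set_option backward.isDefEq.respectTransparency false
open Groth.Agent.H15Site


namespace Groth.Agent.S6037

/-- Let f : X → Y be a continuous map of topological spaces, Y' a closed subset of Y with open
complement V, X' = f⁻¹(Y') and F an abelian sheaf on X. There is an E₂ spectral sequence of abelian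
groups with E₂^{p,q} ≅ H^p_{Y'}(Y, R^q f_* F) for p, q ≥ 0 (0 otherwise), bounded, abutting with
finite filtrations to H^n_{X'}(X, F). (The published statement is for a morphism of ringed spaces
and records module structures over the global sections of O_Y; here only abelian groups. Existence
only: the E₂ identifications and abutment isomorphisms are some isomorphisms, not the canonical
ones.) -/
theorem result {X Y : TopCat.{u}} (f : X ⟶ Y)
    (V : Opens Y) (F : CohTop.Ab X) :
    ∃ (E : E₂CohomologicalSpectralSequence AddCommGrpCat.{u})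
      (a : SpSeq.Abutment E (fun n : ℤ =>
        if 0 ≤ n then AddCommGrpCat.of (LocCohZ.HZc F n.toNat ((Opens.map f).obj V))
          else AddCommGrpCat.of PUnit.{u + 1})),
      (∀ n : ℤ, a.IsFinite n) ∧ SpSeq.IsBounded E ∧
      ∀ p q : ℤ, Nonempty ((E.page 2 le_rfl).X (p, q) ≅
        (if 0 ≤ p ∧ 0 ≤ q then AddCommGrpCat.of (LocCohZ.HZc ((CohTop.Rpush f q.toNat).obj F) p.toNat V)
          else AddCommGrpCat.of PUnit.{u + 1})) := by
  let h : V ≤ ⊤ := le_top
  let h' : (Opens.map f).obj V ≤ ⊤ := le_top
  let ψ : ∀ G : CohTop.Ab X, sectZ ((CohTop.push f).obj G) h ≃+ sectZ G h' := fun G =>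
    { toFun := fun s => ⟨s.1, s.2⟩
      invFun := fun s => ⟨s.1, s.2⟩
      left_inv := fun _ => rfl
      right_inv := fun _ => rfl
      map_add' := fun _ _ => rfl }
  let φ : ∀ G : CohTop.Ab X, (zq h ⟶ (CohTop.push f).obj G) ≃+ (zq h' ⟶ G) := fun G =>
    ((ZqHom.homEquiv _ h).trans (ψ G)).trans (ZqHom.homEquiv G h').symm
  refine SpGroth.exists_spectralSequence (CohTop.push f) (zq h) (zq h') φ
    (fun I hI => ClosedPushAb.push_injective f I) ?_ F _ _ ?_ ?_ ?_ ?_
  · intro G G' g x
    refine (ZqHom.homEquiv G' h').injective (Subtype.ext ?_)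
    rw [ZqHom.homEquiv_comp]
    simp only [φ, AddEquiv.trans_apply, AddEquiv.apply_symm_apply]
    exact ZqHom.homEquiv_comp ((CohTop.push f).map g) h x
  · intro p q hp hq
    rw [if_pos ⟨hp, hq⟩]
    exact ⟨AddEquiv.refl _⟩
  · intro p q hpq
    rw [if_neg hpq]
    exact AddCommGrpCat.isZero_of_subsingleton _
  · intro n hn
    rw [if_pos hn]
    exact ⟨AddEquiv.refl _⟩
  · intro n hn
    rw [if_neg (by omega)]
    exact AddCommGrpCat.isZero_of_subsingleton _

end Groth.Agent.S6037
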