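import Groth.Statements.S6040
import Groth.Agent.H15Site.RDSeq
import Groth.Agent.S13590
import Groth.Agent.H15Site.LocCohRestr

set_option autoImplicit false
universe u
open CategoryTheory CategoryTheory.Limits TopologicalSpace
open LocCohZ

set_option linter.style.haveILetI false
set_option linter.unusedSectionVars false
set_option backward.isDefEq.respectTransparency false
open Groth.Agent.H15Site Groth.Agent.H10Coh CategoryTheory CategoryTheory.Limits Opposite

attribute [local instance 10000] Groth.Agent.H10Coh.hasSheafifyAb Groth.Agent.H10Coh.hasWeakSheafifyAb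
  Groth.Agent.H10Coh.hasExtAb Groth.Agent.H10Coh.enoughInjAb


namespace Groth.Agent.S6040

/-- Let X be a topological space, U an open subset and j : U → X the inclusion, so that the sheaf of
sections with supports in the open U is Γ_U(F) = j_*(F|_U). For every q the local cohomology sheaf
functor ℋ^q_U, i.e. the q-th right derived functor of F ↦ j_*(F|_U), is isomorphic to F ↦ R^q
j_*(F|_U). (Existence of an isomorphism of functors for each q.) -/
theorem result {X : TopCat.{u}} (U : Opens X) (q : ℕ) :
    Nonempty (CohCx.RpushOn (𝟙 X) U q ≅ CohTop.restrFunctor U ⋙ CohTop.Rpush (CohCx.incl U) q) := by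
  haveI : PreservesFiniteLimits (CohTop.restrFunctor U) :=
    LocCoh.Rf_preservesFiniteLimits (j := CohCx.incl U) U.isOpenEmbedding'
  haveI : PreservesFiniteColimits (CohTop.restrFunctor U) :=
    LocCohRestr.pfc (j := CohCx.incl U) U.isOpenEmbedding'
  exact ⟨RDSeq.precompIso (CohTop.restrFunctor U) (CohTop.push (CohCx.incl U))
    (fun I _ => Groth.Agent.S13590.injective_restr U I) q⟩

end Groth.Agent.S6040
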