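import Groth.Statements.S6041
import Groth.Agent.H19Desc.QuotPts
import Groth.Agent.H15Site.SheafQuot
import Mathlib

set_option autoImplicit false
set_option linter.style.haveILetI false
set_option backward.isDefEq.respectTransparency false
open CategoryTheory CategoryTheory.Limits AlgebraicGeometry MonoidalCategory
universe u
open GrpQ

namespace Groth.Agent.S6041

open CategoryTheory CategoryTheory.Limits AlgebraicGeometry MonoidalCategory CartesianMonoidalCategory Opposite
open Groth.Agent Groth.Agent.H19Desc


open CartesianMonoidalCategory in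
/-- For schemes and the fppf topology, easy direction: let `s, t : R ⇉ U` be a pair of morphisms of
schemes over `S` (in the source an equivalence relation), `T` a scheme over `S` and `i : Z ⟶ U ×_S
T` such that `Z ⟶ T` is flat, surjective and locally of finite presentation and any two points of
`Z` over the same point of `T` have `R`-related images in `U`. Then the composite `h_Z ⟶ h_U ⟶ U/R`
descends to exactly one section of the fppf quotient sheaf `U/R` over `T`. -/
theorem result {S : Scheme.{u}} {R U : Over S} (s t : R ⟶ U)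
    (T Z : Over S) (i : Z ⟶ U ⊗ T)
    [Flat (i ≫ snd U T).left] [Surjective (i ≫ snd U T).left] [LocallyOfFinitePresentation (i ≫ snd U T).left]
    (hZZ : ∀ (T' : Over S) (z₁ z₂ : T' ⟶ Z), z₁ ≫ i ≫ snd U T = z₂ ≫ i ≫ snd U T →
      ∃ r : T' ⟶ R, r ≫ s = z₁ ≫ i ≫ fst U T ∧ r ≫ t = z₂ ≫ i ≫ fst U T) :
    ∃! σ : QuotSh.rep Scheme.fppfPrecoverage T ⟶ QuotSh.quot Scheme.fppfPrecoverage s t,
      QuotSh.repMap Scheme.fppfPrecoverage (i ≫ fst U T) ≫ QuotSh.quotπ Scheme.fppfPrecoverage s t =
        QuotSh.repMap Scheme.fppfPrecoverage (i ≫ snd U T) ≫ σ := by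
  let K : Precoverage Scheme.{u} := Scheme.fppfPrecoverage
  let q : Z ⟶ T := i ≫ snd U T
  let G := yo K S
  -- `G q` is an epimorphism
  have hcov : Sieve.ofArrows (fun _ : PUnit.{u + 1} => Z) (fun _ => q) ∈ QuotSh.J K S T := by
    rw [GrothendieckTopology.mem_over_iff, Sieve.overEquiv_ofArrows]
    refine Precoverage.generate_mem_toGrothendieck ?_
    rw [Presieve.ofArrows_pUnit]
    haveI : Flat q.left := ‹_›
    haveI : Surjective q.left := ‹_›
    haveI : LocallyOfFinitePresentation q.left := ‹_›
    exact Scheme.Hom.singleton_mem_fppfPrecoverage q.left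
  haveI hepi : Epi (G.map q) := by
    haveI : Sheaf.IsLocallySurjective (G.map q) := by
      constructor
      intro V y
      refine GrothendieckTopology.superset_covering _ ?_
        (GrothendieckTopology.pullback_stable _ (ULift.down y) hcov)
      rintro W g ⟨_, h, _, ⟨_⟩, e⟩
      exact ⟨ULift.up h, ULift.ext _ _ e⟩
    exact (Sheaf.isLocallySurjective_iff_epi (G.map q)).1 inferInstance
  haveI : PreservesLimitsOfShape WalkingCospan G := by
    haveI : PreservesLimitsOfShape WalkingCospan (G ⋙ sheafToPresheaf (QuotSh.J K S) (Type (u + 1))) :=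
      (inferInstance : PreservesLimitsOfShape WalkingCospan (uliftYoneda.{u + 1} : Over S ⥤ _))
    exact preservesLimitsOfShape_of_reflects_of_preserves G (sheafToPresheaf (QuotSh.J K S) (Type (u + 1)))
  obtain ⟨d, hd⟩ := Groth.Agent.H15Site.SheafQuot.exists_desc (G.map q) (pt K s t (i ≫ fst U T)) (by
    intro W a b hab
    obtain ⟨l, ha, hb⟩ := ((IsPullback.of_hasPullback q q).map G).exists_lift a b hab
    obtain ⟨r, hr₁, hr₂⟩ := hZZ (pullback q q) (pullback.fst q q) (pullback.snd q q) pullback.condition
    rw [← ha, ← hb, Category.assoc, Category.assoc, map_pt, map_pt, ← hr₁, ← hr₂]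
    refine congrArg (l ≫ ·) ?_
    rw [pt, pt, Functor.map_comp, Functor.map_comp, Category.assoc, Category.assoc, proj_condition])
  haveI : Epi (QuotSh.repMap K q) := by
    have e : QuotSh.repMap K q = (QuotSh.repIsoUliftYoneda K Z).hom ≫ G.map q ≫ (QuotSh.repIsoUliftYoneda K T).inv := by
      rw [← Category.assoc (QuotSh.repIsoUliftYoneda K Z).hom, ← repIso_natural, Category.assoc, Iso.hom_inv_id, Category.comp_id]
    rw [e]
    infer_instance
  refine ⟨(QuotSh.repIsoUliftYoneda K T).hom ≫ d, ?_, fun σ hσ => ?_⟩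
  · show QuotSh.repMap K _ ≫ QuotSh.quotπ K s t = QuotSh.repMap K q ≫ _
    rw [← cancel_epi (QuotSh.repIsoUliftYoneda K Z).inv, ← pt_eq, ← repIso_inv_natural_assoc,
      Iso.inv_hom_id_assoc, hd]
  · rw [← Iso.inv_comp_eq, ← cancel_epi (G.map q), hd, pt_eq, repIso_inv_natural_assoc, hσ]

end Groth.Agent.S6041
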