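import Groth.Statements.S6044
import Groth.Agent.H13Desc.Fpqc
import Groth.Agent.H13Desc.DescFam
import Groth.Agent.H29Blow.Basic
import Groth.Agent.H19Desc.IdealDescent

set_option autoImplicit false
set_option linter.style.haveILetI false
set_option backward.isDefEq.respectTransparency false
open CategoryTheory CategoryTheory.Limits AlgebraicGeometry
universe u
open GrpQ

namespace Groth.Agent.S6044

open Desc Groth.Agent

section

variable {S : Scheme.{u}} {ι : Type u} {X : ι → Scheme.{u}} {f : ∀ i, X i ⟶ S}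

theorem appLE_SpecMap_fromSpec {Y : Scheme.{u}} {V : Y.Opens} (hV : IsAffineOpen V) {R : CommRingCat.{u}}
    (φ : Γ(Y, V) ⟶ R) (e : (⊤ : (Spec R).Opens) ≤ (Spec.map φ ≫ hV.fromSpec) ⁻¹ᵁ V) :
    (Spec.map φ ≫ hV.fromSpec).appLE V ⊤ e = φ ≫ (Scheme.ΓSpecIso R).inv := by
  rw [← Scheme.Hom.appLE_comp_appLE (Spec.map φ) hV.fromSpec V ⊤ ⊤ (by rw [hV.fromSpec_preimage_self])
    le_rfl, Scheme.ΓSpecIso_inv_naturality]
  simp [Scheme.Hom.appLE, IsAffineOpen.fromSpec_app_self]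
  refine (congrArg ((Spec.map φ).c.app _ ≫ ·) ?_).trans (Category.comp_id _)
  rw [← Functor.map_comp, ← CategoryTheory.Functor.map_id]
  exact congrArg _ (Subsingleton.elim _ _)

theorem ker_comap_eq (D : SchDDFam f) (hD : ∀ i, IsClosedImmersion (D.obj i).hom) {T : Scheme.{u}} {i j : ι}
    (a : T ⟶ X i) (b : T ⟶ X j) (h : a ≫ f i = b ≫ f j) :
    (D.obj i).hom.ker.comap a ≤ (D.obj j).hom.ker.comap b := by
  have := hD
  rw [← Scheme.IdealSheafData.ker_fst_of_isClosedImmersion, ← Scheme.IdealSheafData.ker_fst_of_isClosedImmersion]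
  let P := pullback b (D.obj j).hom
  let x : P ⟶ T := pullback.fst b (D.obj j).hom
  have hx : (x ≫ b) ≫ f j = (x ≫ a) ≫ f i := by simp only [Category.assoc, h]
  let v : Lifts (D.obj j) (x ≫ b) := ⟨pullback.snd b (D.obj j).hom, pullback.condition.symm⟩
  exact (Scheme.Hom.le_ker_comp (pullback.lift x (D.φ (x ≫ b) (x ≫ a) hx v).1 (D.φ (x ≫ b) (x ≫ a) hx v).2.symm)
    (pullback.fst a (D.obj i).hom)).trans (le_of_eq (congrArg Scheme.Hom.ker (pullback.lift_fst _ _ _)))

open TensorProduct in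
theorem ker_ideal_overlap (D : SchDDFam f) (hD : ∀ i, IsClosedImmersion (D.obj i).hom) (W : S.affineOpens)
    {i j : ι} (V : (X i).affineOpens) (V' : (X j).affineOpens) (e : V.1 ≤ f i ⁻¹ᵁ W.1) (e' : V'.1 ≤ f j ⁻¹ᵁ W.1) :
    letI := ((f i).appLE W.1 V.1 e).hom.toAlgebra
    letI := ((f j).appLE W.1 V'.1 e').hom.toAlgebra
    ((D.obj i).hom.ker.ideal V).map
        (Algebra.TensorProduct.includeLeftRingHom : Γ(X i, V.1) →+* Γ(X i, V.1) ⊗[Γ(S, W.1)] Γ(X j, V'.1)) =
      ((D.obj j).hom.ker.ideal V').map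
        (Algebra.TensorProduct.includeRight : Γ(X j, V'.1) →ₐ[Γ(S, W.1)] Γ(X i, V.1) ⊗[Γ(S, W.1)] Γ(X j, V'.1)).toRingHom := by
  letI := ((f i).appLE W.1 V.1 e).hom.toAlgebra
  letI := ((f j).appLE W.1 V'.1 e').hom.toAlgebra
  let R := CommRingCat.of (Γ(X i, V.1) ⊗[Γ(S, W.1)] Γ(X j, V'.1))
  let φ : Γ(X i, V.1) ⟶ R := CommRingCat.ofHom Algebra.TensorProduct.includeLeftRingHom
  let ψ : Γ(X j, V'.1) ⟶ R := CommRingCat.ofHom
    (Algebra.TensorProduct.includeRight : Γ(X j, V'.1) →ₐ[Γ(S, W.1)] _).toRingHom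
  let a : Spec R ⟶ X i := Spec.map φ ≫ V.2.fromSpec
  let b : Spec R ⟶ X j := Spec.map ψ ≫ V'.2.fromSpec
  have hab : a ≫ f i = b ≫ f j := by
    simp only [a, b, Category.assoc, ← IsAffineOpen.SpecMap_appLE_fromSpec _ W.2 V.2 e,
      ← IsAffineOpen.SpecMap_appLE_fromSpec _ W.2 V'.2 e', ← Spec.map_comp_assoc]
    congr 2
    ext r
    exact ((Algebra.TensorProduct.includeRight : Γ(X j, V'.1) →ₐ[Γ(S, W.1)] _).commutes r).symm
  have h := congrArg (fun I => I.ideal ⟨⊤, isAffineOpen_top (Spec R)⟩)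
    (le_antisymm (ker_comap_eq D hD a b hab) (ker_comap_eq D hD b a hab.symm))
  have ea : (⊤ : (Spec R).Opens) ≤ a ⁻¹ᵁ V.1 := by
    simp only [a, Scheme.Hom.comp_preimage, IsAffineOpen.fromSpec_preimage_self]
    exact le_rfl
  have eb : (⊤ : (Spec R).Opens) ≤ b ⁻¹ᵁ V'.1 := by
    simp only [b, Scheme.Hom.comp_preimage, IsAffineOpen.fromSpec_preimage_self]
    exact le_rfl
  simp only [H29Blow.ideal_comap _ a V ⟨⊤, isAffineOpen_top _⟩ ea,
    H29Blow.ideal_comap _ b V' ⟨⊤, isAffineOpen_top _⟩ eb, a, b, appLE_SpecMap_fromSpec, CommRingCat.hom_comp,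
    ← Ideal.map_map] at h
  apply_fun Ideal.map (Scheme.ΓSpecIso R).hom.hom at h
  simpa only [Ideal.map_map, ← RingHom.comp_assoc, ← CommRingCat.hom_comp (Scheme.ΓSpecIso R).inv,
    Iso.inv_hom_id, CommRingCat.hom_id, RingHom.id_comp, φ, ψ, CommRingCat.hom_ofHom] using h

/-- The ideal of the descended closed subscheme. -/
def descIdeal (D : SchDDFam f) (W : S.affineOpens) : Ideal Γ(S, W.1) :=
  ⨅ (i : ι) (V : (X i).affineOpens) (e : V.1 ≤ f i ⁻¹ᵁ W.1),
    ((D.obj i).hom.ker.ideal V).comap ((f i).appLE W.1 V.1 e).hom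

variable (hf : Presieve.ofArrows X f ∈ Scheme.fpqcPrecoverage S)
include hf

theorem exists_cover (W : S.affineOpens) :
    ∃ (n : ℕ) (a : Fin n → ι) (V : ∀ k, (X (a k)).affineOpens) (e : ∀ k, (V k).1 ≤ f (a k) ⁻¹ᵁ W.1),
      (∀ k, ((f (a k)).appLE W.1 (V k).1 (e k)).hom.Flat) ∧
      ∀ p : PrimeSpectrum Γ(S, W.1), ∃ k, p ∈ Set.range (PrimeSpectrum.comap ((f (a k)).appLE W.1 (V k).1 (e k)).hom) := by
  have := H13Desc.fpqc_quasiCompactCover hf
  obtain ⟨n, a, V, hV, h⟩ := QuasiCompactCover.exists_isAffineOpen_of_isCompact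
    (PreZeroHypercover.mk ι X f) W.2.isCompact
  have e : ∀ k, V k ≤ f (a k) ⁻¹ᵁ W.1 := fun k x hx => by
    show f (a k) x ∈ (W.1 : Set S)
    rw [← h]; exact Set.mem_iUnion.mpr ⟨k, ⟨x, hx, rfl⟩⟩
  refine ⟨n, a, fun k => ⟨V k, hV k⟩, e, fun k => ?_, fun p => ?_⟩
  · haveI := H13Desc.fpqc_flat hf (a k)
    exact H29Blow.flat_appLE' (f (a k)) W ⟨V k, hV k⟩ (e k)
  · have hp : W.2.fromSpec p ∈ (W.1 : Set S) := by rw [← W.2.range_fromSpec]; exact ⟨p, rfl⟩
    rw [← h] at hp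
    obtain ⟨k, x, hx, hxp⟩ := Set.mem_iUnion.1 hp
    refine ⟨k, (hV k).primeIdealOf ⟨x, hx⟩, W.2.fromSpec.isOpenEmbedding.injective ?_⟩
    rw [IsAffineOpen.comap_primeIdealOf_appLE W.1 W.2 (V k) (hV k) (e k) hx, W.2.fromSpec_primeIdealOf]
    exact hxp

variable (D : SchDDFam f) (hD : ∀ i, IsClosedImmersion (D.obj i).hom)
include hD

/-- On every affine over `W` the ideal of `D` is extended from `descIdeal D W`. -/
theorem map_descIdeal (W : S.affineOpens) {i : ι} (V : (X i).affineOpens) (e : V.1 ≤ f i ⁻¹ᵁ W.1) :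
    (descIdeal D W).map ((f i).appLE W.1 V.1 e).hom = (D.obj i).hom.ker.ideal V := by
  refine le_antisymm (Ideal.map_le_iff_le_comap.2 ((iInf_le _ i).trans ((iInf_le _ V).trans (iInf_le _ e)))) ?_
  obtain ⟨n, a, V', e', hflat, hs⟩ := exists_cover hf W
  letI := fun k => ((f (a k)).appLE W.1 (V' k).1 (e' k)).hom.toAlgebra
  letI := ((f i).appLE W.1 V.1 e).hom.toAlgebra
  haveI : Module.Flat Γ(S, W.1) Γ(X i, V.1) := by
    haveI := H13Desc.fpqc_flat hf i
    exact H29Blow.flat_appLE' (f i) W V e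
  haveI : ∀ k, Module.Flat Γ(S, W.1) Γ(X (a k), (V' k).1) := hflat
  refine (H19Desc.le_map_iInf_comap (B := fun k => Γ(X (a k), (V' k).1))
    (fun k => (D.obj (a k)).hom.ker.ideal (V' k)) ((D.obj i).hom.ker.ideal V)
    fun k => (ker_ideal_overlap D hD W V (V' k) e (e' k)).le).trans (Ideal.map_mono ?_)
  refine le_iInf fun j => le_iInf fun U => le_iInf fun eU => ?_
  letI := ((f j).appLE W.1 U.1 eU).hom.toAlgebra
  exact Ideal.map_le_iff_le_comap.1 (H19Desc.map_iInf_comap_le (B := fun k => Γ(X (a k), (V' k).1))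
    (fun k => (D.obj (a k)).hom.ker.ideal (V' k)) ((D.obj j).hom.ker.ideal U) hs
    fun k => (ker_ideal_overlap D hD W U (V' k) eU (e' k)).ge)

theorem descIdeal_res (W W' : S.affineOpens) (h : W'.1 ≤ W.1) {i : ι} (V : (X i).affineOpens)
    (e : V.1 ≤ f i ⁻¹ᵁ W'.1) :
    Ideal.map ((f i).appLE W'.1 V.1 e).hom
        (Ideal.map (S.presheaf.map (homOfLE h).op).hom (descIdeal D W)) =
      Ideal.map ((f i).appLE W'.1 V.1 e).hom (descIdeal D W') := by
  have e₂ : V.1 ≤ f i ⁻¹ᵁ W.1 := fun x hx => h (e hx)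
  rw [map_descIdeal hf D hD W' V e, Ideal.map_map, ← CommRingCat.hom_comp, Scheme.Hom.map_appLE]
  exact map_descIdeal hf D hD W V e₂

theorem descIdeal_mono (W W' : S.affineOpens) (h : W'.1 ≤ W.1) :
    Ideal.map (S.presheaf.map (homOfLE h).op).hom (descIdeal D W) = descIdeal D W' := by
  obtain ⟨n, a, V, e, hflat, hs⟩ := exists_cover hf W'
  letI := fun k => ((f (a k)).appLE W'.1 (V k).1 (e k)).hom.toAlgebra
  haveI : ∀ k, Module.Flat Γ(S, W'.1) Γ(X (a k), (V k).1) := hflat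
  have key := fun k => descIdeal_res hf D hD W W' h (V k) (e k)
  have h1 := H19Desc.iInf_comap_map (A := Γ(S, W'.1)) (B := fun k => Γ(X (a k), (V k).1)) hs
    (Ideal.map (S.presheaf.map (homOfLE h).op).hom (descIdeal D W))
  have h2 := H19Desc.iInf_comap_map (A := Γ(S, W'.1)) (B := fun k => Γ(X (a k), (V k).1)) hs (descIdeal D W')
  refine h1.symm.trans (Eq.trans ?_ h2)
  exact iInf_congr fun k => congrArg (Ideal.comap ((f (a k)).appLE W'.1 (V k).1 (e k)).hom) (key k)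

/-- The descended closed subscheme. -/
def descData (hf : Presieve.ofArrows X f ∈ Scheme.fpqcPrecoverage S) (D : SchDDFam f)
    (hD : ∀ i, IsClosedImmersion (D.obj i).hom) : S.IdealSheafData where
  ideal := descIdeal D
  map_ideal_basicOpen W g := descIdeal_mono hf D hD W (S.affineBasicOpen g) (S.basicOpen_le g)

theorem descData_comap (i : ι) : (descData hf D hD).comap (f i) = (D.obj i).hom.ker := by
  refine H29Blow.ext_of_forall_exists fun x => ?_
  obtain ⟨W, V, hx, e⟩ := H29Blow.exists_affine_le (f i) x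
  refine ⟨V, hx, ?_⟩
  rw [H29Blow.ideal_comap _ (f i) W V e]
  exact map_descIdeal hf D hD W V e

end


/-- Closed immersions descend along the fpqc topology. For an fpqc covering family `f i : X i ⟶ S` of a
scheme `S`, every descent datum for schemes relative to the family all of whose members `Z i ⟶ X i`
are closed immersions is effective. -/
theorem result {S : Scheme.{u}} {ι : Type u} {X : ι → Scheme.{u}}
    (f : ∀ i, X i ⟶ S) (hf : Presieve.ofArrows X f ∈ Scheme.fpqcPrecoverage S)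
    (D : Desc.SchDDFam f) (hD : ∀ i, IsClosedImmersion (D.obj i).hom) :
    D.IsEffective := by
  let I := descData hf D hD
  let E := Over.mk I.subschemeι
  have hmap : ∀ i, ∃ q : (D.obj i).left ⟶ E.left, IsPullback (D.obj i).hom q (f i) E.hom := by
    intro i
    haveI := hD i
    have hle : I.subschemeι.ker ≤ ((D.obj i).hom ≫ f i).ker := by
      rw [Scheme.IdealSheafData.ker_subschemeι, ← Scheme.IdealSheafData.map_ker,
        Scheme.IdealSheafData.le_map_iff_comap_le, descData_comap]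
    refine ⟨IsClosedImmersion.lift I.subschemeι _ hle, ?_⟩
    refine isPullback_of_isClosedImmersion (D.obj i).hom I.subschemeι _ (f i)
      (IsClosedImmersion.lift_fac _ _ hle).symm ?_
    rw [Scheme.IdealSheafData.ker_subschemeι]
    exact descData_comap hf D hD i
  choose q hq using hmap
  refine ⟨E, ⟨Groth.Agent.H13Desc.ddFamIso (fun i => Over.isoMk (hq i).isoPullback.symm
    (by simp [toDDFam, canonicalDDFam])) fun T i j x₀ x₁ h v w hw => ?_⟩⟩
  have := hD j
  refine (cancel_mono (D.obj j).hom).1 ?_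
  rw [(D.φ x₀ x₁ h w).2, Category.assoc]
  erw [IsPullback.isoPullback_inv_fst]
  exact (((canonicalDDFam f E).φ x₀ x₁ h v).2).symm

end Groth.Agent.S6044
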