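import Groth.Statements.S6043
import Groth.Agent.H19Desc.QuotGraphMain
import Groth.Agent.H15Site.SheafQuot
import Groth.Agent.H13AlgSp.Refinement
import Mathlib

set_option autoImplicit false
set_option linter.style.haveILetI false
set_option backward.isDefEq.respectTransparency false
open CategoryTheory CategoryTheory.Limits AlgebraicGeometry MonoidalCategory
universe u
open GrpQ

namespace Groth.Agent.S6043

open CategoryTheory CategoryTheory.Limits AlgebraicGeometry MonoidalCategory CartesianMonoidalCategory Opposite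
open Groth.Agent Groth.Agent.H19Desc

section
variable {S : Scheme.{u}} {R U : Over S} (s t : R ⟶ U)

/-- fppf coverings give epimorphisms of representable fppf sheaves. -/
theorem epi_map_of_fppf {Z T : Over S} (q : Z ⟶ T) [Flat q.left] [Surjective q.left]
    [LocallyOfFinitePresentation q.left] : Epi ((yo Scheme.fppfPrecoverage S).map q) := by
  have hcov : Sieve.ofArrows (fun _ : PUnit.{u + 1} => Z) (fun _ => q) ∈ QuotSh.J Scheme.fppfPrecoverage S T := by
    rw [GrothendieckTopology.mem_over_iff, Sieve.overEquiv_ofArrows]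
    refine Precoverage.generate_mem_toGrothendieck ?_
    rw [Presieve.ofArrows_pUnit]
    exact Scheme.Hom.singleton_mem_fppfPrecoverage q.left
  haveI : Sheaf.IsLocallySurjective ((yo Scheme.fppfPrecoverage S).map q) := by
    constructor
    intro V y
    refine GrothendieckTopology.superset_covering _ ?_
      (GrothendieckTopology.pullback_stable _ (ULift.down y) hcov)
    rintro W g ⟨_, h, _, ⟨_⟩, e⟩
    exact ⟨ULift.up h, ULift.ext _ _ e⟩
  exact (Sheaf.isLocallySurjective_iff_epi _).1 inferInstance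

variable [IsEquivalenceRelation s t]

/-- Points of the fppf quotient agreeing fpqc locally are equal. -/
theorem separated {T : Over S}
    {a b : (yo Scheme.fppfPrecoverage S).obj T ⟶ QuotSh.quot Scheme.fppfPrecoverage s t}
    {L : Sieve T} (hL : L ∈ QuotSh.J Scheme.fpqcPrecoverage S T)
    (h : ∀ ⦃T' : Over S⦄ (g : T' ⟶ T), L g →
      (yo Scheme.fppfPrecoverage S).map g ≫ a = (yo Scheme.fppfPrecoverage S).map g ≫ b) : a = b := by
  let K : Precoverage Scheme.{u} := Scheme.fppfPrecoverage
  obtain ⟨La, hLa, ha⟩ := exists_sieve_lift K s t a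
  obtain ⟨Lb, hLb, hb⟩ := exists_sieve_lift K s t b
  refine hom_ext_of_sieve K (GrothendieckTopology.intersection_covering _ hLa hLb) fun T' g hg => ?_
  obtain ⟨u, hu⟩ := ha g hg.1
  obtain ⟨v, hv⟩ := hb g hg.2
  rw [← hu, ← hv, pt_eq_pt_iff]
  have hex : ∀ ⦃W : Over S⦄ (f : W ⟶ T'), Sieve.pullback g L f → ∃ r : W ⟶ R, r ≫ s = f ≫ u ∧ r ≫ t = f ≫ v := by
    intro W f hf
    rw [← pt_eq_pt_iff K, ← map_pt, ← map_pt, hu, hv, ← Category.assoc, ← Category.assoc, ← Functor.map_comp]
    exact h _ hf
  choose r hr₁ hr₂ using hex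
  obtain ⟨e⟩ := IsEquivalenceRelation.nonempty_equivalenceRelation (p₁ := s) (p₂ := t)
  have hL' := GrothendieckTopology.pullback_stable _ g hL
  have hs := GrothendieckTopology.Subcanonical.isSheaf_of_isRepresentable
    (J := QuotSh.J Scheme.fpqcPrecoverage S) (yoneda.obj R)
  have hU := GrothendieckTopology.Subcanonical.isSheaf_of_isRepresentable
    (J := QuotSh.J Scheme.fpqcPrecoverage S) (yoneda.obj U)
  obtain ⟨z, hz, -⟩ := hs _ hL' (fun W f hf => r f hf) (by
    intro Y₁ Y₂ W g₁ g₂ f₁ f₂ h₁ h₂ he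
    show g₁ ≫ r f₁ h₁ = g₂ ≫ r f₂ h₂
    refine e.right_cancellation _ _ ?_ ?_
    · rw [Category.assoc, Category.assoc, hr₁, hr₁, reassoc_of% he]
    · rw [Category.assoc, Category.assoc, hr₂, hr₂, reassoc_of% he])
  refine ⟨z, (hU _ hL').isSeparatedFor.ext fun W f hf => ?_, (hU _ hL').isSeparatedFor.ext fun W f hf => ?_⟩
  · show f ≫ z ≫ s = f ≫ u
    rw [← Category.assoc, show f ≫ z = r f hf from hz f hf, hr₁]
  · show f ≫ z ≫ t = f ≫ v
    rw [← Category.assoc, show f ≫ z = r f hf from hz f hf, hr₂]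

theorem glue [Flat s.left] [Surjective s.left] [LocallyOfFinitePresentation s.left]
    (hc : IsClosedImmersion (lift t s).left) {T : Over S} {L : Sieve T}
    (hL : L ∈ QuotSh.J Scheme.fpqcPrecoverage S T)
    (x : ∀ ⦃T' : Over S⦄ (g : T' ⟶ T), L g →
      ((yo Scheme.fppfPrecoverage S).obj T' ⟶ QuotSh.quot Scheme.fppfPrecoverage s t))
    (hx : ∀ ⦃T' T'' : Over S⦄ (g : T' ⟶ T) (hg : L g) (h : T'' ⟶ T') (g' : T'' ⟶ T) (hg' : L g'),
      h ≫ g = g' → (yo Scheme.fppfPrecoverage S).map h ≫ x g hg = x g' hg') :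
    ∃ σ : (yo Scheme.fppfPrecoverage S).obj T ⟶ QuotSh.quot Scheme.fppfPrecoverage s t,
      ∀ ⦃T' : Over S⦄ (g : T' ⟶ T) (hg : L g), (yo Scheme.fppfPrecoverage S).map g ≫ σ = x g hg := by
  let K : Precoverage Scheme.{u} := Scheme.fppfPrecoverage
  -- an fpqc family in `L` on which the points lift to `U`
  obtain ⟨κ₀, C₀, c₀, hc₀, hc₀L⟩ := exists_family_of_mem_fpqc hL
  have hloc : ∀ i, ∃ (κ : Type u) (D : κ → Over S) (d : ∀ k, D k ⟶ C₀ i),
      Presieve.ofArrows (fun k => (D k).left) (fun k => (d k).left) ∈ Scheme.fpqcPrecoverage (C₀ i).left ∧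
      ∀ k, ∃ a : D k ⟶ U, pt K s t a = (yo K S).map (d k) ≫ x (c₀ i) (hc₀L i) := by
    intro i
    obtain ⟨L₁, hL₁, hl⟩ := exists_sieve_lift K s t (x (c₀ i) (hc₀L i))
    obtain ⟨κ, D, d, h₁, h₂, h₃, h₄⟩ := Groth.Agent.H13AlgSp.exists_cover_of_mem_J hL₁
    refine ⟨κ, D, d, Scheme.fppfPrecoverage_le_fpqcPrecoverage _ ?_, fun k => hl _ (h₄ k)⟩
    rw [Scheme.fppfPrecoverage, Scheme.ofArrows_mem_precoverage_iff]
    exact ⟨fun a => h₃ a, fun k => ⟨h₁ k, h₂ k⟩⟩
  choose κ D d hd a ha using hloc
  let C : (Σ i, κ i) → Over S := fun k => D k.1 k.2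
  let c : ∀ k, C k ⟶ T := fun k => d k.1 k.2 ≫ c₀ k.1
  have hcfam : Presieve.ofArrows (fun k => (C k).left) (fun k => (c k).left) ∈ Scheme.fpqcPrecoverage T.left := by
    haveI : Scheme.fpqcPrecoverage.{u}.IsStableUnderComposition :=
      (inferInstance : (Scheme.propQCPrecoverage @Flat).IsStableUnderComposition)
    exact Precoverage.comp_mem_coverings (J := Scheme.fpqcPrecoverage) (fun i => (c₀ i).left) hc₀
      (fun i k => (d i k).left) hd
  have hcL : ∀ k, L (c k) := fun k => L.downward_closed (hc₀L k.1) _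
  have hlift : ∀ k : Σ i, κ i, pt K s t (a k.1 k.2) = x (c k) (hcL k) := fun k => by
    rw [ha, hx (c₀ k.1) (hc₀L k.1) (d k.1 k.2) (c k) (hcL k) rfl]
  let p : ∀ {T' : Over S}, (T' ⟶ U ⊗ T) → Prop := fun {T'} y =>
    ∀ {T'' : Over S} (g : T'' ⟶ T') (hg : L (g ≫ y ≫ snd U T)),
      pt K s t (g ≫ y ≫ fst U T) = x (g ≫ y ≫ snd U T) hg
  haveI := hc
  obtain ⟨Z, j, hj, hZ⟩ := exists_rep_immersion (P := @IsClosedImmersion)
    (fun f hf => by haveI := hf; infer_instance)
    (fun f hf D hD => Groth.Agent.S6044.result f hf D hD) (fun k => U ◁ c k) (whiskerLeft_family_mem c hcfam) p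
    (fun g y hy T'' h hh => by
      have := hy (h ≫ g) (by simpa using hh)
      simpa using this)
    (fun {T'} y hy T'' g hg => by
      have hcov : Sieve.ofArrows C c ∈ QuotSh.J Scheme.fpqcPrecoverage S T := ofArrows_mem_fpqc c hcfam
      refine separated s t (GrothendieckTopology.pullback_stable _ (g ≫ y ≫ snd U T) hcov) fun W h hh => ?_
      have hW : L (h ≫ g ≫ y ≫ snd U T) := L.downward_closed hg h
      have := hy (h ≫ g) (mem_whiskerLeft_ofArrows c _ (by simpa [Sieve.pullback_apply] using hh)) (𝟙 W)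
        (by simpa using hW)
      rw [hx _ hg h _ hW rfl, map_pt]
      simpa using this)
    fun k => by
      obtain ⟨Z, j, -, hj, -, hZ⟩ := exists_graph_of_lift (P := @IsClosedImmersion) K s t hc
        (pt K s t (a k.1 k.2)) (a k.1 k.2) rfl
      refine ⟨Z, j, hj, fun {T'} y => (hZ y).trans ⟨fun h T'' g hg => ?_, fun h => ?_⟩⟩
      · rw [hlift] at h
        have h' := congrArg ((yo K S).map g ≫ ·) h
        simp only [map_pt] at h'
        rw [← Category.assoc ((yo K S).map g), ← Functor.map_comp,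
          hx (c k) (hcL k) (g ≫ y ≫ snd U (D k.1 k.2)) _ hg (by simp [C])] at h'
        simpa using h'
      · have hy : L (y ≫ snd U (C k) ≫ c k) := L.downward_closed (L.downward_closed (hcL k) _) _
        have h' := h (𝟙 T') (by simpa using hy)
        rw [hlift, hx (c k) (hcL k) (y ≫ snd U (C k)) _ hy (Category.assoc _ _ _)]
        simpa using h'
  haveI : Mono j := by haveI := hj; exact Over.mono_of_mono_left j
  -- the projection of `Z` is an fppf covering
  have hQ : ∀ (Q : MorphismProperty Scheme.{u}) [IsZariskiLocalAtTarget Q] [Q.IsStableUnderBaseChange]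
      [Q.DescendsAlong (@Surjective ⊓ @Flat ⊓ @QuasiCompact : MorphismProperty Scheme.{u})],
      Q t.left → Q (j ≫ snd U T).left := by
    intro Q _ _ _ ht
    refine H13Desc.of_fpqc_target Q hcfam _ fun k => ?_
    let j' := pullback.snd j (U ◁ c k)
    haveI : Mono j' := inferInstance
    have hZ' : ∀ {T' : Over S} (y : T' ⟶ U ⊗ C k), (∃ z : T' ⟶ pullback j (U ◁ c k), z ≫ j' = y) ↔
        pt K s t (y ≫ fst U (C k)) = (yo K S).map (y ≫ snd U (C k)) ≫ pt K s t (a k.1 k.2) := by
      intro T' y
      have e : (∃ z : T' ⟶ pullback j (U ◁ c k), z ≫ j' = y) ↔ ∃ z : T' ⟶ Z, z ≫ j = y ≫ U ◁ c k :=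
        ⟨fun ⟨z, hz⟩ => ⟨z ≫ pullback.fst _ _, by rw [Category.assoc, pullback.condition, reassoc_of% hz]⟩,
          fun ⟨z, hz⟩ => ⟨pullback.lift z y hz, pullback.lift_snd _ _ _⟩⟩
      have hy : L (y ≫ snd U (C k) ≫ c k) := L.downward_closed (L.downward_closed (hcL k) _) _
      rw [e, hZ, hlift, hx (c k) (hcL k) (y ≫ snd U (C k)) _ hy (Category.assoc _ _ _)]
      refine ⟨fun h => ?_, fun h T'' g hg => ?_⟩
      · have h' := h (𝟙 T') (by simpa using hy)
        simpa using h'
      · have h' := congrArg ((yo K S).map g ≫ ·) h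
        simp only [map_pt] at h'
        rw [hx _ hy g (g ≫ y ≫ snd U (C k) ≫ c k) (L.downward_closed hy g) rfl] at h'
        simpa using h'
    have h1 : Q (j' ≫ snd U (C k)).left := by
      refine graph_snd_prop s t K ht (pt K s t (a k.1 k.2)) j' hZ' (κ := PUnit.{u + 1}) (fun _ => 𝟙 (C k)) ?_
        fun _ => ⟨a k.1 k.2, by simp⟩
      rw [Presieve.ofArrows_pUnit]
      haveI : IsIso (𝟙 (C k) : C k ⟶ C k).left := (inferInstance : IsIso (𝟙 (C k).left))
      exact Scheme.Hom.singleton_mem_fpqcPrecoverage _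
    have sq := (((IsPullback.of_hasPullback j (U ◁ c k)).paste_vert
      (Groth.Agent.H15Site.SheafQuot.isPullback_whiskerLeft U (c k))).map (Over.forget S))
    refine (Q.cancel_left_of_respectsIso sq.isoPullback.hom _).1 ?_
    erw [sq.isoPullback_hom_snd]
    exact h1
  haveI := hQ @Flat (prop_t s t (Q := @Flat) ‹_›)
  haveI := hQ @Surjective (prop_t s t (Q := @Surjective) ‹_›)
  haveI := hQ @LocallyOfFinitePresentation (prop_t s t (Q := @LocallyOfFinitePresentation) ‹_›)
  let q : Z ⟶ T := j ≫ snd U T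
  let G := yo K S
  haveI : Epi (G.map q) := epi_map_of_fppf q
  have hpj : p j := (hZ j).1 ⟨𝟙 Z, Category.id_comp j⟩
  haveI : PreservesLimitsOfShape WalkingCospan G := by
    haveI : PreservesLimitsOfShape WalkingCospan (G ⋙ sheafToPresheaf (QuotSh.J K S) (Type (u + 1))) :=
      (inferInstance : PreservesLimitsOfShape WalkingCospan (uliftYoneda.{u + 1} : Over S ⥤ _))
    exact preservesLimitsOfShape_of_reflects_of_preserves G (sheafToPresheaf (QuotSh.J K S) (Type (u + 1)))
  obtain ⟨σ, hσ⟩ := Groth.Agent.H15Site.SheafQuot.exists_desc (G.map q) (pt K s t (j ≫ fst U T)) (by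
    intro W f₁ f₂ hf
    obtain ⟨l, h₁, h₂⟩ := ((IsPullback.of_hasPullback q q).map G).exists_lift f₁ f₂ hf
    rw [← h₁, ← h₂, Category.assoc, Category.assoc, map_pt, map_pt]
    refine congrArg (l ≫ ·) (separated s t (GrothendieckTopology.pullback_stable _ (pullback.fst q q ≫ q) hL)
      fun W' g hg => ?_)
    have hg' : L (g ≫ pullback.fst q q ≫ q) := hg
    have hg'' : L (g ≫ pullback.snd q q ≫ q) := by rw [← pullback.condition]; exact hg
    have e₁ := hpj (g ≫ pullback.fst q q) (by simpa [q] using hg')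
    have e₂ := hpj (g ≫ pullback.snd q q) (by simpa [q] using hg'')
    rw [map_pt, map_pt]
    simp only [Category.assoc] at e₁ e₂ ⊢
    rw [e₁, e₂]
    congr 1
    exact congrArg (g ≫ ·) pullback.condition)
  refine ⟨σ, fun T' g hg => ?_⟩
  let z₀ := pullback.fst g q
  have sq := ((IsPullback.of_hasPullback g q).map (Over.forget S)).flip
  haveI : Flat z₀.left := MorphismProperty.of_isPullback sq ‹Flat (j ≫ snd U T).left›
  haveI : Surjective z₀.left := MorphismProperty.of_isPullback sq ‹Surjective (j ≫ snd U T).left›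
  haveI : LocallyOfFinitePresentation z₀.left :=
    MorphismProperty.of_isPullback sq ‹LocallyOfFinitePresentation (j ≫ snd U T).left›
  haveI : Epi (G.map z₀) := epi_map_of_fppf z₀
  rw [← cancel_epi (G.map z₀)]
  have hcond : z₀ ≫ g = pullback.snd g q ≫ q := pullback.condition
  have hzg : L (pullback.snd g q ≫ q) := hcond ▸ L.downward_closed hg z₀
  have e₁ := hpj (pullback.snd g q) hzg
  rw [hx g hg z₀ _ hzg hcond, ← Category.assoc, ← Functor.map_comp, hcond, Functor.map_comp, Category.assoc, hσ,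
    map_pt]
  exact e₁

end


open CartesianMonoidalCategory in
/-- The comparison of topologies, for an equivalence relation of schemes over a base scheme `S` with
closed graph: let `s, t : R ⇉ U` be an equivalence relation of schemes over `S` with `s` flat,
surjective and locally of finite presentation and `(t, s) : R ⟶ U ×_S U` a closed immersion. Then
the fppf quotient sheaf `U/R` on schemes over `S` satisfies the sheaf condition for the fpqc
topology. (The published statement takes `R ⟶ U` faithfully flat and quasi-compact and says that its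
fpqc quotient sheaf is also the quotient for the canonical topology; this row takes `R ⟶ U` flat,
surjective and locally of finite presentation and says that the fppf quotient sheaf is already an
fpqc sheaf.) -/
theorem result {S : Scheme.{u}} {R U : Over S} (s t : R ⟶ U)
    [IsEquivalenceRelation s t]
    [Flat s.left] [Surjective s.left] [LocallyOfFinitePresentation s.left]
    (hc : IsClosedImmersion (lift t s).left) :
    Presheaf.IsSheaf (QuotSh.J Scheme.fpqcPrecoverage S)
      (QuotSh.quot Scheme.fppfPrecoverage s t).obj := by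
  let K : Precoverage Scheme.{u} := Scheme.fppfPrecoverage
  let e := fun T : Over S => (QuotSh.J K S).uliftYonedaEquiv.{u + 1} (X := T) (F := QuotSh.quot K s t)
  rw [isSheaf_iff_isSheaf_of_type]
  intro T L hL
  rw [← Presieve.isSeparatedFor_and_exists_isAmalgamation_iff_isSheafFor]
  refine ⟨fun x t₁ t₂ h₁ h₂ => ?_, fun x hx => ?_⟩
  · refine (e T).symm.injective (separated s t hL fun T' g hg => ?_)
    apply (e T').injective
    simp only [e, ← GrothendieckTopology.uliftYonedaEquiv_naturality, Equiv.apply_symm_apply]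
    exact (h₁ g hg).trans (h₂ g hg).symm
  · obtain ⟨σ, hσ⟩ := glue s t hc hL (fun T' g hg => (e T').symm (x g hg)) (by
      intro T' T'' g hg h g' hg' he
      apply (e T'').injective
      have hx' := hx h (𝟙 T'') hg hg' (by rw [Category.id_comp]; exact he)
      refine (GrothendieckTopology.uliftYonedaEquiv_naturality _ ((e T').symm (x g hg)) h).symm.trans ?_
      erw [(e T').apply_symm_apply, (e T'').apply_symm_apply]
      simpa using hx')
    refine ⟨e T σ, fun T' g hg => ?_⟩
    rw [← (e T').apply_symm_apply (x g hg), ← hσ g hg]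
    exact GrothendieckTopology.uliftYonedaEquiv_naturality _ σ g

end Groth.Agent.S6043
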