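import Groth.Statements.S6047
import Groth.Agent.H15Site.SheafQuot
import Mathlib.Tactic.Group

set_option autoImplicit false
open CategoryTheory CategoryTheory.Limits MonoidalCategory
universe w v₁ u₁
open ShfCat

set_option linter.style.haveILetI false
set_option backward.isDefEq.respectTransparency false
open CategoryTheory.CartesianMonoidalCategory CategoryTheory.MonObj


namespace Groth.Agent.S6047

open MonObj CartesianMonoidalCategory SemiCartesianMonoidalCategory in
/-- Let `u : H ⟶ G` be a monomorphism of sheaves of groups on a site identifying `H` with a normal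
subgroup sheaf of `G`. Then the quotient sheaf `G/H` (the coequalizer, in sheaves of sets, of the
projection and the multiplication `G × H ⇉ G`) carries exactly one structure of sheaf of groups for
which the canonical map `G ⟶ G/H` is a homomorphism. Stated for sheaves of sets valued in `Type w`
whenever sheafification exists; group sheaves are group objects for the cartesian monoidal
structure. -/
theorem result {C : Type u₁} [Category.{v₁} C]
    (J : GrothendieckTopology C) [HasSheafify J (Type w)]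
    {H G : Sheaf J (Type w)} [hH : GrpObj H] [hG : GrpObj G] (u : H ⟶ G) [Mono u]
    (hu : @IsMonHom (Sheaf J (Type w)) _ _ H G hH.toMonObj hG.toMonObj u)
    (hn : ∀ (Y : Sheaf J (Type w)) (g : Y ⟶ G) (h : Y ⟶ H), ∃ h' : Y ⟶ H, g * (h ≫ u) * g⁻¹ = h' ≫ u) :
    ∃! str : GrpObj (coequalizer (fst G H) ((G ◁ u) ≫ hG.mul)),
      @IsMonHom (Sheaf J (Type w)) _ _ G (coequalizer (fst G H) ((G ◁ u) ≫ hG.mul)) hG.toMonObj str.toMonObj
        (coequalizer.π (fst G H) ((G ◁ u) ≫ hG.mul)) := by
  haveI := hu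
  let p := H15Site.SheafQuot.π u
  haveI := H15Site.SheafQuot.epi_tensorHom p p
  haveI := H15Site.SheafQuot.epi_tensorHom (p ⊗ₘ p) p
  haveI := H15Site.SheafQuot.epi_whiskerLeft (𝟙_ (Sheaf J (Type w))) p
  haveI := H15Site.SheafQuot.epi_whiskerRight (𝟙_ (Sheaf J (Type w))) p
  obtain ⟨m, hm⟩ := H15Site.SheafQuot.exists_desc (p ⊗ₘ p) (μ[G] ≫ p) fun T a b hab => by
    rw [← CartesianMonoidalCategory.lift_comp_fst_snd a,
      ← CartesianMonoidalCategory.lift_comp_fst_snd b] at hab ⊢
    rw [lift_map, lift_map] at hab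
    have h1 := congrArg (fun t => t ≫ fst _ _) hab
    have h2 := congrArg (fun t => t ≫ snd _ _) hab
    simp only [lift_fst, lift_snd] at h1 h2
    obtain ⟨h, hh⟩ := (H15Site.SheafQuot.comp_π_eq_iff u _ _).1 h1
    obtain ⟨k, hk⟩ := (H15Site.SheafQuot.comp_π_eq_iff u _ _).1 h2
    obtain ⟨h', hh'⟩ := hn T (a ≫ snd G G)⁻¹ h
    rw [← Category.assoc, ← Category.assoc, ← Hom.mul_def, ← Hom.mul_def, ← hh, ← hk]
    refine (H15Site.SheafQuot.comp_π_eq_iff u _ _).2 ⟨h' * k, ?_⟩
    rw [MonObj.mul_comp, ← hh']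
    group
  obtain ⟨n, hn'⟩ := H15Site.SheafQuot.exists_desc p (GrpObj.inv (X := G) ≫ p) fun T a b hab => by
    obtain ⟨h, hh⟩ := (H15Site.SheafQuot.comp_π_eq_iff u _ _).1 hab
    obtain ⟨h', hh'⟩ := hn T a h⁻¹
    rw [← Category.assoc, ← Category.assoc, ← Hom.inv_def, ← Hom.inv_def, ← hh]
    refine (H15Site.SheafQuot.comp_π_eq_iff u _ _).2 ⟨h', ?_⟩
    rw [← hh', GrpObj.inv_comp]
    group
  let str : GrpObj (coequalizer (fst G H) ((G ◁ u) ≫ hG.mul)) :=
    { one := η[G] ≫ p
      mul := m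
      one_mul := by
        have e0 : (𝟙_ (Sheaf J (Type w)) ◁ p) ≫ ((η[G] ≫ p) ▷ _) = (η[G] ▷ G) ≫ (p ⊗ₘ p) := by
          rw [whisker_exchange, comp_whiskerRight, Category.assoc, ← tensorHom_def]
        rw [← cancel_epi (𝟙_ (Sheaf J (Type w)) ◁ p), reassoc_of% e0, hm,
          MonObj.one_mul_assoc, leftUnitor_naturality]
      mul_one := by
        rw [← cancel_epi (p ▷ 𝟙_ (Sheaf J (Type w))), whiskerLeft_comp, Category.assoc,
          ← whisker_exchange_assoc, ← tensorHom_def_assoc, hm,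
          MonObj.mul_one_assoc, rightUnitor_naturality]
      mul_assoc := by
        rw [← cancel_epi ((p ⊗ₘ p) ⊗ₘ p)]
        rw [← tensorHom_id m, ← id_tensorHom _ m, tensorHom_comp_tensorHom_assoc, hm, Category.comp_id,
          associator_naturality_assoc, tensorHom_comp_tensorHom_assoc, hm, Category.comp_id]
        have e1 : (μ[G] ≫ p) ⊗ₘ p = (μ[G] ▷ G) ≫ (p ⊗ₘ p) := by
          rw [← tensorHom_id, tensorHom_comp_tensorHom, Category.id_comp]
        have e2 : p ⊗ₘ (μ[G] ≫ p) = (G ◁ μ[G]) ≫ (p ⊗ₘ p) := by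
          rw [← id_tensorHom, tensorHom_comp_tensorHom, Category.id_comp]
        rw [e1, e2, Category.assoc, Category.assoc, hm, MonObj.mul_assoc_assoc]
      inv := n
      left_inv := by
        rw [← cancel_epi p, comp_lift_assoc, hn', Category.comp_id, comp_toUnit_assoc]
        rw [show lift (GrpObj.inv (X := G) ≫ p) p = lift (GrpObj.inv (X := G)) (𝟙 G) ≫ (p ⊗ₘ p) by
          rw [lift_map, Category.id_comp], Category.assoc, hm, GrpObj.left_inv_assoc]
      right_inv := by
        rw [← cancel_epi p, comp_lift_assoc, hn', Category.comp_id, comp_toUnit_assoc]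
        rw [show lift p (GrpObj.inv (X := G) ≫ p) = lift (𝟙 G) (GrpObj.inv (X := G)) ≫ (p ⊗ₘ p) by
          rw [lift_map, Category.id_comp], Category.assoc, hm, GrpObj.right_inv_assoc] }
  refine ⟨str, @IsMonHom.mk _ _ _ _ _ hG.toMonObj str.toMonObj _ rfl hm.symm, fun str' h' => ?_⟩
  refine GrpObj.ext _ _ (MonObj.ext _ _ ?_)
  exact (cancel_epi (p ⊗ₘ p)).1 ((@IsMonHom.mul_hom _ _ _ _ _ hG.toMonObj str'.toMonObj _ h').symm.trans hm.symm)

end Groth.Agent.S6047
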