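import Groth.Statements.S6048
import Groth.Agent.H15Site.SheafQuot

set_option autoImplicit false
open CategoryTheory CategoryTheory.Limits MonoidalCategory
universe w v₁ u₁
open ShfCat

set_option linter.style.haveILetI false
set_option backward.isDefEq.respectTransparency false
open CategoryTheory.CartesianMonoidalCategory


namespace Groth.Agent.S6048

open CartesianMonoidalCategory SemiCartesianMonoidalCategory in
/-- For sheaves of sets on a site with sheafification: let `p₁, p₂ : R ⇉ X` be an equivalence relation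
of sheaves with universally effective quotient `π : X ⟶ X/R` and `Y` a sheaf. (a) A subsheaf `Z ⊆ X
× Y` stable under `R × Y`, covering `Y`, and any two of whose points over the same point of `Y` are
`R`-related, is the pullback of `π` along exactly one `f : Y ⟶ X/R`; (b) every `f : Y ⟶ X/R` arises
in this way. -/
theorem result {C : Type u₁} [Category.{v₁} C]
    (J : GrothendieckTopology C) [HasSheafify J (Type w)]
    {R X : Sheaf J (Type w)} {p₁ p₂ : R ⟶ X}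
    (e : UniversallyEffectiveEquivalenceRelation p₁ p₂) (Y : Sheaf J (Type w)) :
    (∀ (Z : Sheaf J (Type w)) (ι : Z ⟶ X ⊗ Y), Mono ι →
      (∀ (W : Sheaf J (Type w)) (r : W ⟶ R) (y : W ⟶ Y),
        (∃ z : W ⟶ Z, z ≫ ι = lift (r ≫ p₁) y) ↔ (∃ z : W ⟶ Z, z ≫ ι = lift (r ≫ p₂) y)) →
      Epi (ι ≫ snd X Y) →
      (∀ (W : Sheaf J (Type w)) (z₁ z₂ : W ⟶ Z), z₁ ≫ ι ≫ snd X Y = z₂ ≫ ι ≫ snd X Y →
        ∃ r : W ⟶ R, r ≫ p₁ = z₁ ≫ ι ≫ fst X Y ∧ r ≫ p₂ = z₂ ≫ ι ≫ fst X Y) →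
      ∃! f : Y ⟶ e.B, IsPullback (ι ≫ fst X Y) (ι ≫ snd X Y) e.π f) ∧
    (∀ f : Y ⟶ e.B, ∃ (Z : Sheaf J (Type w)) (ι : Z ⟶ X ⊗ Y), Mono ι ∧
      (∀ (W : Sheaf J (Type w)) (r : W ⟶ R) (y : W ⟶ Y),
        (∃ z : W ⟶ Z, z ≫ ι = lift (r ≫ p₁) y) ↔ (∃ z : W ⟶ Z, z ≫ ι = lift (r ≫ p₂) y)) ∧
      Epi (ι ≫ snd X Y) ∧
      (∀ (W : Sheaf J (Type w)) (z₁ z₂ : W ⟶ Z), z₁ ≫ ι ≫ snd X Y = z₂ ≫ ι ≫ snd X Y →
        ∃ r : W ⟶ R, r ≫ p₁ = z₁ ≫ ι ≫ fst X Y ∧ r ≫ p₂ = z₂ ≫ ι ≫ fst X Y) ∧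
      IsPullback (ι ≫ fst X Y) (ι ≫ snd X Y) e.π f) := by
  haveI : IsRegularEpi e.π := inferInstance
  haveI hπ : Epi e.π := inferInstance
  have hlift : ∀ {W Z : Sheaf J (Type w)} (ι : Z ⟶ X ⊗ Y) (z : W ⟶ Z) (x : W ⟶ X) (y : W ⟶ Y),
      z ≫ ι = lift x y → z ≫ ι ≫ fst X Y = x ∧ z ≫ ι ≫ snd X Y = y := by
    intro W Z ι z x y h
    exact ⟨by rw [reassoc_of% h, lift_fst], by rw [reassoc_of% h, lift_snd]⟩
  constructor
  · intro Z ι _ hst _ hrel
    obtain ⟨f, hf⟩ := H15Site.SheafQuot.exists_desc (ι ≫ snd X Y) ((ι ≫ fst X Y) ≫ e.π)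
      fun T a b hab => by
        obtain ⟨r, hr₁, hr₂⟩ := hrel T a b hab
        rw [Category.assoc ι, ← reassoc_of% hr₁, ← reassoc_of% hr₂, e.isKernelPair.w]
    have hl : ∀ (W : Sheaf J (Type w)) (x : W ⟶ X) (y : W ⟶ Y), x ≫ e.π = y ≫ f →
        ∃ z : W ⟶ Z, z ≫ ι = lift x y := by
      intro W x y hxy
      obtain ⟨V, s, z, _, hz⟩ := H15Site.SheafQuot.exists_local_preimage (ι ≫ snd X Y) y
      obtain ⟨r, hr₁, hr₂⟩ := e.isKernelPair.exists_lift (z ≫ ι ≫ fst X Y) (s ≫ x) (by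
        have := congrArg (fun t => t ≫ f) hz
        simp only [Category.assoc] at this hf ⊢
        rw [hxy, ← this, hf])
      obtain ⟨z', hz'⟩ := (hst V r (z ≫ ι ≫ snd X Y)).1 ⟨z, by
        apply CartesianMonoidalCategory.hom_ext
        · rw [lift_fst, hr₁, Category.assoc]
        · rw [lift_snd, Category.assoc]⟩
      exact H15Site.SheafQuot.exists_lift_mono s ι (lift x y) z' (by
        rw [hz', hr₂, comp_lift, hz])
    refine ⟨f, ⟨⟨hf.symm⟩, ⟨PullbackCone.IsLimit.mk _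
      (fun s => (hl s.pt s.fst s.snd s.condition).choose)
      (fun s => (hlift ι _ _ _ (hl s.pt s.fst s.snd s.condition).choose_spec).1)
      (fun s => (hlift ι _ _ _ (hl s.pt s.fst s.snd s.condition).choose_spec).2)
      (fun s m h₁ h₂ => by
        rw [← cancel_mono ι, (hl s.pt s.fst s.snd s.condition).choose_spec]
        apply CartesianMonoidalCategory.hom_ext
        · rw [lift_fst, Category.assoc]; exact h₁
        · rw [lift_snd, Category.assoc]; exact h₂)⟩⟩, fun f' hf' => ?_⟩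
    exact (cancel_epi (ι ≫ snd X Y)).1 (hf'.w.symm.trans hf.symm)
  · intro f
    let ι : pullback e.π f ⟶ X ⊗ Y := lift (pullback.fst e.π f) (pullback.snd e.π f)
    have h₁ : ι ≫ fst X Y = pullback.fst e.π f := lift_fst _ _
    have h₂ : ι ≫ snd X Y = pullback.snd e.π f := lift_snd _ _
    refine ⟨pullback e.π f, ι, ⟨fun a b hab => ?_⟩, fun W r y => ?_, ?_, fun W z₁ z₂ hz => ?_, ?_⟩
    · refine pullback.hom_ext ?_ ?_
      · have := congrArg (fun t => t ≫ fst X Y) hab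
        simpa only [Category.assoc, h₁] using this
      · have := congrArg (fun t => t ≫ snd X Y) hab
        simpa only [Category.assoc, h₂] using this
    · have hp : ∀ x : W ⟶ X, (∃ z : W ⟶ pullback e.π f, z ≫ ι = lift x y) ↔ x ≫ e.π = y ≫ f := by
        intro x
        refine ⟨fun ⟨z, hz⟩ => ?_, fun hx => ⟨pullback.lift x y hx, by
          rw [comp_lift, pullback.lift_fst, pullback.lift_snd]⟩⟩
        obtain ⟨e₁, e₂⟩ := hlift ι z x y hz
        rw [← e₁, ← e₂, h₁, h₂, Category.assoc, Category.assoc, pullback.condition]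
      rw [hp, hp, Category.assoc, Category.assoc, e.isKernelPair.w]
    · rw [h₂]
      exact H15Site.SheafQuot.epi_of_isPullback (IsPullback.of_hasPullback e.π f).flip
    · obtain ⟨r, hr₁, hr₂⟩ := e.isKernelPair.exists_lift (z₁ ≫ ι ≫ fst X Y) (z₂ ≫ ι ≫ fst X Y) (by
        simp only [h₁, h₂] at hz ⊢
        rw [Category.assoc, Category.assoc, pullback.condition, reassoc_of% hz])
      exact ⟨r, hr₁, hr₂⟩
    · rw [h₁, h₂]
      exact IsPullback.of_hasPullback e.π f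

end Groth.Agent.S6048
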