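import Groth.Statements.S6049
import Groth.Agent.H19Desc.QuotGraphMain
import Groth.Agent.S6044
import Groth.Agent.S6045

set_option autoImplicit false
set_option linter.style.haveILetI false
set_option backward.isDefEq.respectTransparency false
open CategoryTheory CategoryTheory.Limits AlgebraicGeometry MonoidalCategory
universe u
open GrpQ

namespace Groth.Agent.S6049

open CartesianMonoidalCategory in
/-- The case of an open graph, for schemes over a base scheme `S` and the fpqc topology: let `s, t : R ⇉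
U` be an equivalence relation of schemes over `S` with `s` flat, surjective and quasi-compact and
`(t, s) : R ⟶ U ×_S U` an open immersion. For every scheme `T` over `S`, every section `σ` of the
fpqc quotient sheaf `U/R` over `T` is induced by an open subscheme `Z ⊆ U ×_S T` which is stable
under `R ×_S T`, is flat, surjective and quasi-compact over `T`, and any two of whose points over
the same point of `T` are `R`-related (so that `R_Z ⇉ Z ⟶ T` is exact); such a `Z` is unique up to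
isomorphism over `U ×_S T`. (So the `T`-points of `U/R` are exactly these open subschemes. The
published statement also says that this fpqc quotient sheaf is the quotient for the canonical
topology; that clause is not part of this row.) -/
theorem result {S : Scheme.{u}} {R U : Over S} (s t : R ⟶ U)
    [IsEquivalenceRelation s t]
    [Flat s.left] [Surjective s.left] [QuasiCompact s.left]
    (hc : IsOpenImmersion (lift t s).left)
    (T : Over S) (σ : QuotSh.rep Scheme.fpqcPrecoverage T ⟶ QuotSh.quot Scheme.fpqcPrecoverage s t) :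
    (∃ (Z : Over S) (i : Z ⟶ U ⊗ T), IsOpenImmersion i.left ∧
      (∀ (T' : Over S) (r : T' ⟶ R ⊗ T),
        (∃ z : T' ⟶ Z, z ≫ i = r ≫ (s ▷ T)) ↔ (∃ z : T' ⟶ Z, z ≫ i = r ≫ (t ▷ T))) ∧
      Flat (i ≫ snd U T).left ∧ Surjective (i ≫ snd U T).left ∧
      QuasiCompact (i ≫ snd U T).left ∧
      (∀ (T' : Over S) (z₁ z₂ : T' ⟶ Z), z₁ ≫ i ≫ snd U T = z₂ ≫ i ≫ snd U T →
        ∃ r : T' ⟶ R, r ≫ s = z₁ ≫ i ≫ fst U T ∧ r ≫ t = z₂ ≫ i ≫ fst U T) ∧
      QuotSh.repMap Scheme.fpqcPrecoverage (i ≫ fst U T) ≫ QuotSh.quotπ Scheme.fpqcPrecoverage s t =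
        QuotSh.repMap Scheme.fpqcPrecoverage (i ≫ snd U T) ≫ σ) ∧
    (∀ (Z Z' : Over S) (i : Z ⟶ U ⊗ T) (i' : Z' ⟶ U ⊗ T),
      IsOpenImmersion i.left → IsOpenImmersion i'.left →
      (∀ (T' : Over S) (r : T' ⟶ R ⊗ T),
        (∃ z : T' ⟶ Z, z ≫ i = r ≫ (s ▷ T)) ↔ (∃ z : T' ⟶ Z, z ≫ i = r ≫ (t ▷ T))) →
      (∀ (T' : Over S) (r : T' ⟶ R ⊗ T),
        (∃ z : T' ⟶ Z', z ≫ i' = r ≫ (s ▷ T)) ↔ (∃ z : T' ⟶ Z', z ≫ i' = r ≫ (t ▷ T))) →
      Flat (i ≫ snd U T).left → Surjective (i ≫ snd U T).left →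
      QuasiCompact (i ≫ snd U T).left →
      Flat (i' ≫ snd U T).left → Surjective (i' ≫ snd U T).left →
      QuasiCompact (i' ≫ snd U T).left →
      (∀ (T' : Over S) (z₁ z₂ : T' ⟶ Z), z₁ ≫ i ≫ snd U T = z₂ ≫ i ≫ snd U T →
        ∃ r : T' ⟶ R, r ≫ s = z₁ ≫ i ≫ fst U T ∧ r ≫ t = z₂ ≫ i ≫ fst U T) →
      (∀ (T' : Over S) (z₁ z₂ : T' ⟶ Z'), z₁ ≫ i' ≫ snd U T = z₂ ≫ i' ≫ snd U T →
        ∃ r : T' ⟶ R, r ≫ s = z₁ ≫ i' ≫ fst U T ∧ r ≫ t = z₂ ≫ i' ≫ fst U T) →
      QuotSh.repMap Scheme.fpqcPrecoverage (i ≫ fst U T) ≫ QuotSh.quotπ Scheme.fpqcPrecoverage s t =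
        QuotSh.repMap Scheme.fpqcPrecoverage (i ≫ snd U T) ≫ σ →
      QuotSh.repMap Scheme.fpqcPrecoverage (i' ≫ fst U T) ≫ QuotSh.quotπ Scheme.fpqcPrecoverage s t =
        QuotSh.repMap Scheme.fpqcPrecoverage (i' ≫ snd U T) ≫ σ →
      ∃ e : Z ≅ Z', e.hom ≫ i' = i) := by
  exact Groth.Agent.H19Desc.fpqc_graph s t (P := @IsOpenImmersion) (fun f hf => by
      haveI := hf; infer_instance)
    (fun f hf D hD => Groth.Agent.S6045.result f hf D hD) hc T σ

end Groth.Agent.S6049
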