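import Groth.Statements.S6050
import Groth.Agent.H15Site.SheafQuot
import Mathlib.CategoryTheory.Sites.Subsheaf
import Mathlib.CategoryTheory.Subobject.Basic

set_option autoImplicit false
open CategoryTheory CategoryTheory.Limits MonoidalCategory
universe w v₁ u₁
open ShfCat

set_option linter.style.haveILetI false
set_option backward.isDefEq.respectTransparency false
open CategoryTheory.CartesianMonoidalCategory CategoryTheory.MonObj

namespace Groth.Agent.S6050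

universe v' u'

variable {D : Type u'} [Category.{v'} D] [CartesianMonoidalCategory D]

/-- A monomorphism into a group object whose points are closed under the operations is a subgroup. -/
theorem exists_grpObj {A G : D} [GrpObj G] (m : A ⟶ G) [Mono m]
    (h1 : ∃ z : 𝟙_ D ⟶ A, z ≫ m = η[G])
    (h2 : ∀ {T : D} (a b : T ⟶ A), ∃ c : T ⟶ A, c ≫ m = (a ≫ m) * (b ≫ m))
    (h3 : ∀ {T : D} (a : T ⟶ A), ∃ c : T ⟶ A, c ≫ m = (a ≫ m)⁻¹) :
    ∃ str : GrpObj A, @IsMonHom D _ _ A G str.toMonObj _ m := by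
  obtain ⟨z, hz⟩ := h1
  obtain ⟨c, hc⟩ := h2 (fst A A) (snd A A)
  obtain ⟨n, hn⟩ := h3 (𝟙 A)
  have hc' : c ≫ m = (m ⊗ₘ m) ≫ μ[G] := by rw [hc, Hom.mul_def, lift_fst_comp_snd_comp]
  have hn' : n ≫ m = m ≫ GrpObj.inv := by rw [hn, Hom.inv_def, Category.id_comp]
  let str : GrpObj A :=
    { one := z
      mul := c
      one_mul := by
        rw [← cancel_mono m, Category.assoc, hc', ← tensorHom_id, tensorHom_comp_tensorHom_assoc,
          hz, Category.id_comp, tensorHom_def'_assoc, MonObj.one_mul, leftUnitor_naturality]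
      mul_one := by
        rw [← cancel_mono m, Category.assoc, hc', ← id_tensorHom, tensorHom_comp_tensorHom_assoc,
          hz, Category.id_comp, tensorHom_def_assoc, MonObj.mul_one, rightUnitor_naturality]
      mul_assoc := by
        rw [← cancel_mono m]
        simp only [Category.assoc, hc']
        rw [← tensorHom_id, tensorHom_comp_tensorHom_assoc, hc', Category.id_comp,
          ← id_tensorHom, tensorHom_comp_tensorHom_assoc, hc', Category.id_comp]
        have e1 : ((m ⊗ₘ m) ≫ μ[G]) ⊗ₘ m = ((m ⊗ₘ m) ⊗ₘ m) ≫ (μ[G] ▷ G) := by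
          rw [← tensorHom_id, tensorHom_comp_tensorHom, Category.comp_id]
        have e2 : m ⊗ₘ ((m ⊗ₘ m) ≫ μ[G]) = (m ⊗ₘ (m ⊗ₘ m)) ≫ (G ◁ μ[G]) := by
          rw [← id_tensorHom, tensorHom_comp_tensorHom, Category.comp_id]
        rw [e1, e2, Category.assoc, Category.assoc, MonObj.mul_assoc, associator_naturality_assoc]
      inv := n
      left_inv := by
        rw [← cancel_mono m, Category.assoc, hc', lift_map_assoc, Category.id_comp, hn',
          ← Hom.inv_def, ← Hom.mul_def, inv_mul_cancel, Category.assoc, hz, Hom.one_def]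
      right_inv := by
        rw [← cancel_mono m, Category.assoc, hc', lift_map_assoc, Category.id_comp, hn',
          ← Hom.inv_def, ← Hom.mul_def, mul_inv_cancel, Category.assoc, hz, Hom.one_def] }
  exact ⟨str, @IsMonHom.mk _ _ _ _ _ str.toMonObj _ _ hz hc'⟩

end Groth.Agent.S6050


namespace Groth.Agent.S6050

open MonObj CartesianMonoidalCategory SemiCartesianMonoidalCategory in
/-- Let `u : H ⟶ G` be a normal subgroup sheaf of a sheaf of groups `G` on a site, `G' = G/H` the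
quotient sheaf with its group structure making `π : G ⟶ G'` a homomorphism. Then `K' ↦ K' ×_{G'} G`
is a bijection from the subgroup sheaves of `G'` onto the subgroup sheaves of `G` containing `H`
(its inverse is `K ↦ K/H`), and normal subgroup sheaves correspond to normal subgroup sheaves.
Stated for sheaves of sets in `Type w` with sheafification; a subgroup sheaf is a subobject
admitting a group structure for which its inclusion is a homomorphism. -/
theorem result {C : Type u₁} [Category.{v₁} C]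
    (J : GrothendieckTopology C) [HasSheafify J (Type w)]
    {H G : Sheaf J (Type w)} [hH : GrpObj H] [hG : GrpObj G] (u : H ⟶ G) [Mono u]
    (hu : @IsMonHom (Sheaf J (Type w)) _ _ H G hH.toMonObj hG.toMonObj u)
    (hn : ∀ (Y : Sheaf J (Type w)) (g : Y ⟶ G) (h : Y ⟶ H), ∃ h' : Y ⟶ H, g * (h ≫ u) * g⁻¹ = h' ≫ u)
    [hQ : GrpObj (coequalizer (fst G H) ((G ◁ u) ≫ hG.mul))]
    (hπ : @IsMonHom (Sheaf J (Type w)) _ _ G (coequalizer (fst G H) ((G ◁ u) ≫ hG.mul)) hG.toMonObj hQ.toMonObj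
      (coequalizer.π (fst G H) ((G ◁ u) ≫ hG.mul))) :
    Set.BijOn (Subobject.pullback (coequalizer.π (fst G H) ((G ◁ u) ≫ hG.mul))).obj
      {K' : Subobject (coequalizer (fst G H) ((G ◁ u) ≫ hG.mul)) |
        ∃ str : GrpObj (K' : Sheaf J (Type w)),
          @IsMonHom (Sheaf J (Type w)) _ _ _ _ str.toMonObj hQ.toMonObj K'.arrow}
      {K : Subobject G | Subobject.mk u ≤ K ∧
        ∃ str : GrpObj (K : Sheaf J (Type w)),
          @IsMonHom (Sheaf J (Type w)) _ _ _ _ str.toMonObj hG.toMonObj K.arrow} ∧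
    ∀ (K' : Subobject (coequalizer (fst G H) ((G ◁ u) ≫ hG.mul)))
      (str' : GrpObj (K' : Sheaf J (Type w)))
      (str : GrpObj ((Subobject.pullback (coequalizer.π (fst G H) ((G ◁ u) ≫ hG.mul))).obj K' : Sheaf J (Type w))),
      @IsMonHom (Sheaf J (Type w)) _ _ _ _ str'.toMonObj hQ.toMonObj K'.arrow →
      @IsMonHom (Sheaf J (Type w)) _ _ _ _ str.toMonObj hG.toMonObj
        ((Subobject.pullback (coequalizer.π (fst G H) ((G ◁ u) ≫ hG.mul))).obj K').arrow →
      ((∀ (Y : Sheaf J (Type w)) (g : Y ⟶ coequalizer (fst G H) ((G ◁ u) ≫ hG.mul))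
          (k : Y ⟶ (K' : Sheaf J (Type w))),
          ∃ k' : Y ⟶ (K' : Sheaf J (Type w)), g * (k ≫ K'.arrow) * g⁻¹ = k' ≫ K'.arrow) ↔
        (∀ (Y : Sheaf J (Type w)) (g : Y ⟶ G)
          (k : Y ⟶ ((Subobject.pullback (coequalizer.π (fst G H) ((G ◁ u) ≫ hG.mul))).obj K' : Sheaf J (Type w))),
          ∃ k' : Y ⟶ ((Subobject.pullback (coequalizer.π (fst G H) ((G ◁ u) ≫ hG.mul))).obj K' : Sheaf J (Type w)),
            g * (k ≫ ((Subobject.pullback (coequalizer.π (fst G H) ((G ◁ u) ≫ hG.mul))).obj K').arrow) * g⁻¹ =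
              k' ≫ ((Subobject.pullback (coequalizer.π (fst G H) ((G ◁ u) ≫ hG.mul))).obj K').arrow)) := by
  haveI := hu
  haveI := hπ
  let p := H15Site.SheafQuot.π u
  haveI : IsMonHom p := hπ
  let P := fun K' => (Subobject.pullback p).obj K'
  have hmem : ∀ (K' : Subobject (coequalizer (fst G H) ((G ◁ u) ≫ hG.mul))) {T : Sheaf J (Type w)} (x : T ⟶ G),
      (∃ a, a ≫ (P K').arrow = x) ↔ ∃ b, b ≫ K'.arrow = x ≫ p := by
    intro K' T x
    have hp := Subobject.isPullback p K'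
    refine ⟨fun ⟨a, ha⟩ => ⟨a ≫ Subobject.pullbackπ p K', by
      rw [Category.assoc, hp.w, ← Category.assoc, ha]⟩, fun ⟨b, hb⟩ =>
      ⟨hp.lift b x hb, hp.lift_snd _ _ _⟩⟩
  -- subobjects stable under the operations
  have hcl : ∀ (K' : Subobject (coequalizer (fst G H) ((G ◁ u) ≫ hG.mul))) (str : GrpObj (K' : Sheaf J (Type w))),
      @IsMonHom (Sheaf J (Type w)) _ _ _ _ str.toMonObj hQ.toMonObj K'.arrow →
      ∀ {T : Sheaf J (Type w)}, (∃ b, b ≫ K'.arrow = (1 : T ⟶ _)) ∧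
        (∀ x y : T ⟶ (K' : Sheaf J (Type w)), ∃ b, b ≫ K'.arrow = (x ≫ K'.arrow) * (y ≫ K'.arrow)) ∧
        (∀ x : T ⟶ (K' : Sheaf J (Type w)), ∃ b, b ≫ K'.arrow = (x ≫ K'.arrow)⁻¹) := by
    intro K' str hs T
    letI := str
    haveI := hs
    exact ⟨⟨1, MonObj.one_comp _⟩, fun x y => ⟨x * y, MonObj.mul_comp _ _ _⟩,
      fun x => ⟨x⁻¹, GrpObj.inv_comp _ _⟩⟩
  have huπ : u ≫ p = (1 : H ⟶ G) ≫ p := by
    refine ((H15Site.SheafQuot.comp_π_eq_iff u 1 u).2 ⟨𝟙 H, ?_⟩).symm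
    rw [Category.id_comp, _root_.one_mul]
  refine ⟨⟨?_, ?_, ?_⟩, ?_⟩
  · rintro K' ⟨str, hs⟩
    refine ⟨?_, exists_grpObj (P K').arrow ?_ (fun {T} a b => ?_) (fun {T} a => ?_)⟩
    · obtain ⟨b, hb⟩ := (hcl K' str hs (T := H)).1
      obtain ⟨a, ha⟩ := (hmem K' u).2 ⟨b, by rw [hb, huπ, MonObj.one_comp]⟩
      exact Subobject.mk_le_of_comm a ha
    · obtain ⟨b, hb⟩ := (hcl K' str hs).1
      refine (hmem K' _).2 ⟨b, ?_⟩
      rw [hb, IsMonHom.one_hom, Hom.one_def, toUnit_unit, Category.id_comp]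
    · obtain ⟨a', ha'⟩ := (hmem K' (a ≫ (P K').arrow)).1 ⟨a, rfl⟩
      obtain ⟨b', hb'⟩ := (hmem K' (b ≫ (P K').arrow)).1 ⟨b, rfl⟩
      obtain ⟨c, hc⟩ := (hcl K' str hs).2.1 a' b'
      exact (hmem K' _).2 ⟨c, by rw [hc, ha', hb', MonObj.mul_comp]⟩
    · obtain ⟨a', ha'⟩ := (hmem K' (a ≫ (P K').arrow)).1 ⟨a, rfl⟩
      obtain ⟨c, hc⟩ := (hcl K' str hs).2.2 a'
      exact (hmem K' _).2 ⟨c, by rw [hc, ha', GrpObj.inv_comp]⟩
  · intro K₁ _ K₂ _ he
    have key : ∀ L₁ L₂ : Subobject (coequalizer (fst G H) ((G ◁ u) ≫ hG.mul)), P L₁ = P L₂ → L₁ ≤ L₂ := by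
      intro L₁ L₂ h
      obtain ⟨W, s, x, _, hx⟩ := H15Site.SheafQuot.exists_local_preimage p L₁.arrow
      have h₁ : ∃ a, a ≫ (P L₁).arrow = x := (hmem L₁ x).2 ⟨s, hx.symm⟩
      rw [h] at h₁
      obtain ⟨b, hb⟩ := (hmem L₂ x).1 h₁
      obtain ⟨c, hc⟩ := H15Site.SheafQuot.exists_lift_mono s L₂.arrow L₁.arrow b (hb.trans hx)
      exact Subobject.le_of_comm c hc
    exact le_antisymm (key _ _ he) (key _ _ he.symm)
  · rintro K ⟨hle, str, hs⟩
    letI := str
    haveI := hs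
    let f := K.arrow ≫ p
    let m := Sheaf.imageι f
    let K' := Subobject.mk m
    have hK' : ∀ {T : Sheaf J (Type w)} (y : T ⟶ _),
        (∃ b, b ≫ K'.arrow = y) ↔ ∃ b, b ≫ m = y := by
      intro T y
      refine ⟨fun ⟨b, hb⟩ => ⟨b ≫ (Subobject.underlyingIso m).hom, ?_⟩,
        fun ⟨b, hb⟩ => ⟨b ≫ (Subobject.underlyingIso m).inv, ?_⟩⟩
      · rw [Category.assoc, Subobject.underlyingIso_hom_comp_eq_mk]; exact hb
      · rw [Category.assoc, Subobject.underlyingIso_arrow]; exact hb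
    have him : ∀ {T : Sheaf J (Type w)} (b : T ⟶ Sheaf.image f), ∃ (W : Sheaf J (Type w)) (s : W ⟶ T)
        (x : W ⟶ (K : Sheaf J (Type w))), Epi s ∧ (x ≫ K.arrow) ≫ p = s ≫ b ≫ m := by
      intro T b
      obtain ⟨W, s, x, hs', hx⟩ := H15Site.SheafQuot.exists_local_preimage (Sheaf.toImage f) b
      refine ⟨W, s, x, hs', ?_⟩
      rw [← reassoc_of% hx, Sheaf.toImage_ι, Category.assoc]
    refine ⟨K', exists_grpObj K'.arrow ?_ (fun {T} a b => ?_) (fun {T} a => ?_), ?_⟩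
    · refine (hK' _).2 ⟨η[(K : Sheaf J (Type w))] ≫ Sheaf.toImage f, ?_⟩
      rw [Category.assoc, Sheaf.toImage_ι]
      exact (IsMonHom.one_hom (K.arrow ≫ p))
    · obtain ⟨a', ha'⟩ := (hK' _).1 ⟨a, rfl⟩
      obtain ⟨b', hb'⟩ := (hK' _).1 ⟨b, rfl⟩
      obtain ⟨W, s, x, _, hx⟩ := him a'
      obtain ⟨W', s', y, _, hy⟩ := him (s ≫ b')
      obtain ⟨c, hc⟩ := H15Site.SheafQuot.exists_lift_mono (s' ≫ s) m
        ((a ≫ K'.arrow) * (b ≫ K'.arrow)) (((s' ≫ x) * y) ≫ Sheaf.toImage f) (by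
          rw [Category.assoc, Sheaf.toImage_ι, MonObj.comp_mul, MonObj.mul_comp]
          simp only [f, Category.assoc] at hx hy ⊢
          rw [hx, hy, ha', hb'])
      exact (hK' _).2 ⟨c, hc⟩
    · obtain ⟨a', ha'⟩ := (hK' _).1 ⟨a, rfl⟩
      obtain ⟨W, s, x, _, hx⟩ := him a'
      obtain ⟨c, hc⟩ := H15Site.SheafQuot.exists_lift_mono s m
        ((a ≫ K'.arrow)⁻¹) (x⁻¹ ≫ Sheaf.toImage f) (by
          rw [Category.assoc, Sheaf.toImage_ι, GrpObj.inv_comp, GrpObj.comp_inv]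
          simp only [f, Category.assoc] at hx ⊢
          rw [hx, ha'])
      exact (hK' _).2 ⟨c, hc⟩
    · refine le_antisymm ?_ ?_
      · obtain ⟨b, hb⟩ := (hK' _).1 ((hmem K' (P K').arrow).1 ⟨𝟙 _, Category.id_comp _⟩)
        obtain ⟨W, s, x, _, hx⟩ := him b
        rw [hb, ← Category.assoc s] at hx
        obtain ⟨k, hk⟩ := (H15Site.SheafQuot.comp_π_eq_iff u _ _).1 hx
        obtain ⟨c, hc⟩ := H15Site.SheafQuot.exists_lift_mono s K.arrow (P K').arrow
          (x * (k ≫ Subobject.ofMkLE u K hle)) (by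
            rw [MonObj.mul_comp, Category.assoc, Subobject.ofMkLE_arrow, hk])
        exact Subobject.le_of_comm c hc
      · obtain ⟨a, ha⟩ := (hmem K' K.arrow).2 ((hK' _).2 ⟨Sheaf.toImage f, Sheaf.toImage_ι f⟩)
        exact Subobject.le_of_comm a ha
  · intro K' str' str hs' hs
    constructor
    · intro hN Y g k
      obtain ⟨k₁, hk₁⟩ := (hmem K' (k ≫ (P K').arrow)).1 ⟨k, rfl⟩
      obtain ⟨k₂, hk₂⟩ := hN Y (g ≫ p) k₁
      obtain ⟨a, ha⟩ := (hmem K' (g * (k ≫ (P K').arrow) * g⁻¹)).2 ⟨k₂, by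
        rw [MonObj.mul_comp, MonObj.mul_comp, GrpObj.inv_comp, ← hk₁]; exact hk₂.symm⟩
      exact ⟨a, ha.symm⟩
    · intro hN Y g k
      obtain ⟨W, s, x, _, hx⟩ := H15Site.SheafQuot.exists_local_preimage p g
      obtain ⟨W', s', y, _, hy⟩ := H15Site.SheafQuot.exists_local_preimage p (s ≫ k ≫ K'.arrow)
      obtain ⟨a, ha⟩ := (hmem K' y).2 ⟨s' ≫ s ≫ k, by simp only [Category.assoc, hy]⟩
      obtain ⟨a', ha'⟩ := hN W' (s' ≫ x) a
      obtain ⟨b, hb⟩ := (hmem K' _).1 ⟨a', ha'.symm⟩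
      rw [MonObj.mul_comp, MonObj.mul_comp, GrpObj.inv_comp, Category.assoc, hx, ha, hy] at hb
      obtain ⟨c, hc⟩ := H15Site.SheafQuot.exists_lift_mono (s' ≫ s) K'.arrow
        (g * (k ≫ K'.arrow) * g⁻¹) b (by
          rw [hb, MonObj.comp_mul, MonObj.comp_mul, GrpObj.comp_inv]
          simp only [Category.assoc])
      exact ⟨c, hc.symm⟩

end Groth.Agent.S6050
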