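import Groth.Statements.S6051
import Groth.Agent.H15Site.SheafQuot

set_option autoImplicit false
open CategoryTheory CategoryTheory.Limits MonoidalCategory
universe w v₁ u₁
open ShfCat

set_option linter.style.haveILetI false
set_option backward.isDefEq.respectTransparency false
open CategoryTheory.CartesianMonoidalCategory CategoryTheory.MonObj


namespace Groth.Agent.S6051

open MonObj CartesianMonoidalCategory SemiCartesianMonoidalCategory in
/-- Let `u : H ⟶ G` be a monomorphism of sheaves of groups on a site and `G/H` the quotient sheaf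
(coequalizer in sheaves of sets of the projection and the multiplication `G × H ⇉ G`), with `π : G ⟶
G/H`. Then `G/H` carries exactly one action of `G` (a unital, associative morphism `G × G/H ⟶ G/H`)
for which `π` is equivariant for the action of `G` on itself by left translations. Stated for
sheaves of sets in `Type w` with sheafification. (The published statement adds that this structure
is functorial in the pair `(G, H)`; that clause is not stated here.) -/
theorem result {C : Type u₁} [Category.{v₁} C]
    (J : GrothendieckTopology C) [HasSheafify J (Type w)]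
    {H G : Sheaf J (Type w)} [hH : GrpObj H] [hG : GrpObj G] (u : H ⟶ G) [Mono u]
    (hu : @IsMonHom (Sheaf J (Type w)) _ _ H G hH.toMonObj hG.toMonObj u) :
    ∃! act : G ⊗ coequalizer (fst G H) ((G ◁ u) ≫ hG.mul) ⟶ coequalizer (fst G H) ((G ◁ u) ≫ hG.mul),
      (hG.one ▷ coequalizer (fst G H) ((G ◁ u) ≫ hG.mul)) ≫ act =
          (λ_ (coequalizer (fst G H) ((G ◁ u) ≫ hG.mul))).hom ∧
        (hG.mul ▷ coequalizer (fst G H) ((G ◁ u) ≫ hG.mul)) ≫ act =
          (α_ G G (coequalizer (fst G H) ((G ◁ u) ≫ hG.mul))).hom ≫ (G ◁ act) ≫ act ∧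
        hG.mul ≫ coequalizer.π (fst G H) ((G ◁ u) ≫ hG.mul) =
          (G ◁ coequalizer.π (fst G H) ((G ◁ u) ≫ hG.mul)) ≫ act := by
  haveI := hu
  haveI := H15Site.SheafQuot.epi_whiskerLeft G (H15Site.SheafQuot.π u)
  obtain ⟨d, hd⟩ := H15Site.SheafQuot.exists_desc (G ◁ H15Site.SheafQuot.π u)
    (μ[G] ≫ H15Site.SheafQuot.π u) fun T a b hab => by
      rw [← CartesianMonoidalCategory.lift_comp_fst_snd a,
        ← CartesianMonoidalCategory.lift_comp_fst_snd b] at hab ⊢
      rw [lift_whiskerLeft, lift_whiskerLeft] at hab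
      have h1 := congrArg (fun t => t ≫ fst _ _) hab
      have h2 := congrArg (fun t => t ≫ snd _ _) hab
      simp only [lift_fst, lift_snd] at h1 h2
      rw [← Category.assoc, ← Category.assoc, ← Hom.mul_def, ← Hom.mul_def, ← h1]
      exact H15Site.SheafQuot.comp_π_eq_mul_left u _ h2
  refine ⟨d, ⟨?_, ?_, hd.symm⟩, fun d' hd' => (cancel_epi (G ◁ H15Site.SheafQuot.π u)).1
    (hd'.2.2.symm.trans hd.symm)⟩
  · haveI := H15Site.SheafQuot.epi_whiskerLeft (𝟙_ (Sheaf J (Type w))) (H15Site.SheafQuot.π u)
    rw [← cancel_epi (𝟙_ (Sheaf J (Type w)) ◁ H15Site.SheafQuot.π u), whisker_exchange_assoc,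
      hd, MonObj.one_mul_assoc, leftUnitor_naturality]
  · haveI := H15Site.SheafQuot.epi_whiskerLeft (G ⊗ G) (H15Site.SheafQuot.π u)
    rw [← cancel_epi ((G ⊗ G) ◁ H15Site.SheafQuot.π u), whisker_exchange_assoc, hd,
      MonObj.mul_assoc_assoc, associator_naturality_right_assoc, ← whiskerLeft_comp_assoc, hd,
      whiskerLeft_comp_assoc, hd]

end Groth.Agent.S6051
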