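import Groth.Statements.S6054
import Groth.Agent.H15Site.SheafQuot
import Mathlib.Tactic.Group

set_option autoImplicit false
open CategoryTheory CategoryTheory.Limits MonoidalCategory
universe w v₁ u₁
open ShfCat

set_option linter.style.haveILetI false
set_option backward.isDefEq.respectTransparency false
open CategoryTheory.CartesianMonoidalCategory
open CategoryTheory.MonObj


namespace Groth.Agent.S6054

open MonObj CartesianMonoidalCategory SemiCartesianMonoidalCategory in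
/-- Let `G` be a sheaf of groups on a site, `K ⊆ G` a subgroup sheaf and `H ⊆ K` a subgroup sheaf normal
in `K`. With `G/H`, `K/H`, `G/K` the quotient sheaves, the right action of `K/H` on `G/H` induced by
multiplication is free, and the canonical map `G/H ⟶ G/K` identifies `G/K` with the quotient
`(G/H)/(K/H)` (it is a coequalizer of the projection and the action). Sheaves of sets in `Type w`
with sheafification; the action and the map `G/H ⟶ G/K` are pinned by their compatibility with `G ×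
K ⟶ G ⟶ G/H` and with `G ⟶ G/K`. (The published statement adds that for `K` normal in `G` the
identification respects the group structures; that clause is not stated.) -/
theorem result {C : Type u₁} [Category.{v₁} C]
    (J : GrothendieckTopology C) [HasSheafify J (Type w)]
    {H K G : Sheaf J (Type w)} [hH : GrpObj H] [hK : GrpObj K] [hG : GrpObj G]
    (h : H ⟶ K) (k : K ⟶ G) [Mono h] [Mono k]
    (hh : @IsMonHom (Sheaf J (Type w)) _ _ H K hH.toMonObj hK.toMonObj h)
    (hk : @IsMonHom (Sheaf J (Type w)) _ _ K G hK.toMonObj hG.toMonObj k)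
    (hn : ∀ (Y : Sheaf J (Type w)) (x : Y ⟶ K) (y : Y ⟶ H), ∃ y' : Y ⟶ H, x * (y ≫ h) * x⁻¹ = y' ≫ h)
    (act : coequalizer (fst G H) ((G ◁ (h ≫ k)) ≫ hG.mul) ⊗ coequalizer (fst K H) ((K ◁ h) ≫ hK.mul) ⟶
      coequalizer (fst G H) ((G ◁ (h ≫ k)) ≫ hG.mul))
    (hact : (coequalizer.π (fst G H) ((G ◁ (h ≫ k)) ≫ hG.mul) ⊗ₘ coequalizer.π (fst K H) ((K ◁ h) ≫ hK.mul)) ≫ act =
      (G ◁ k) ≫ hG.mul ≫ coequalizer.π (fst G H) ((G ◁ (h ≫ k)) ≫ hG.mul))
    (qbar : coequalizer (fst G H) ((G ◁ (h ≫ k)) ≫ hG.mul) ⟶ coequalizer (fst G K) ((G ◁ k) ≫ hG.mul))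
    (hq : coequalizer.π (fst G H) ((G ◁ (h ≫ k)) ≫ hG.mul) ≫ qbar = coequalizer.π (fst G K) ((G ◁ k) ≫ hG.mul)) :
    Mono (lift act (fst _ _)) ∧
    ∃ wq : fst _ _ ≫ qbar = act ≫ qbar, Nonempty (IsColimit (Cofork.ofπ qbar wq)) := by
  haveI := hh
  haveI := hk
  haveI : IsMonHom (h ≫ k) := inferInstance
  let p := H15Site.SheafQuot.π (h ≫ k)
  let q := H15Site.SheafQuot.π h
  haveI hπK : Epi (p ⊗ₘ q) := H15Site.SheafQuot.epi_tensorHom p q
  have hact' : ∀ {T : Sheaf J (Type w)} (g : T ⟶ G) (c : T ⟶ K),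
      lift (g ≫ p) (c ≫ q) ≫ act = (g * (c ≫ k)) ≫ p := by
    intro T g c
    rw [← lift_map g c p q, Category.assoc, hact, lift_whiskerLeft_assoc, Hom.mul_def, Category.assoc]
  have hqK : ∀ {T : Sheaf J (Type w)} (g : T ⟶ G) (c : T ⟶ K),
      (g * (c ≫ k)) ≫ p ≫ qbar = g ≫ p ≫ qbar := by
    intro T g c
    rw [hq]
    exact ((H15Site.SheafQuot.comp_π_eq_iff k g (g * (c ≫ k))).2 ⟨c, rfl⟩).symm
  refine ⟨⟨fun {T} a b hab => ?_⟩, ?_⟩
  · have h1 := congrArg (fun t => t ≫ fst _ _) hab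
    have h2 := congrArg (fun t => t ≫ snd _ _) hab
    simp only [Category.assoc, lift_fst, lift_snd] at h1 h2
    have h2' := h1
    clear h1
    apply CartesianMonoidalCategory.hom_ext
    · exact h2
    · obtain ⟨V, s, g, _, hg⟩ := H15Site.SheafQuot.exists_local_preimage p (a ≫ fst _ _)
      obtain ⟨V₁, s₁, x, _, hx⟩ := H15Site.SheafQuot.exists_local_preimage q (s ≫ a ≫ snd _ _)
      obtain ⟨V₂, s₂, y, _, hy⟩ := H15Site.SheafQuot.exists_local_preimage q (s₁ ≫ s ≫ b ≫ snd _ _)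
      rw [← cancel_epi (s₂ ≫ s₁ ≫ s)]
      simp only [Category.assoc]
      rw [← hx, ← hy, ← Category.assoc]
      have ea : lift ((s₂ ≫ s₁ ≫ g) ≫ p) ((s₂ ≫ x) ≫ q) = (s₂ ≫ s₁ ≫ s) ≫ a := by
        apply CartesianMonoidalCategory.hom_ext
        · rw [lift_fst]; simp only [Category.assoc, hg]
        · rw [lift_snd]; simp only [Category.assoc, hx]
      have eb : lift ((s₂ ≫ s₁ ≫ g) ≫ p) (y ≫ q) = (s₂ ≫ s₁ ≫ s) ≫ b := by
        apply CartesianMonoidalCategory.hom_ext
        · rw [lift_fst]; simp only [Category.assoc, hg, h2]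
        · rw [lift_snd]; simp only [Category.assoc, hy]
      have key : lift ((s₂ ≫ s₁ ≫ g) ≫ p) ((s₂ ≫ x) ≫ q) ≫ act =
          lift ((s₂ ≫ s₁ ≫ g) ≫ p) (y ≫ q) ≫ act := by
        rw [ea, eb]; simp only [Category.assoc, h2']
      rw [hact', hact'] at key
      obtain ⟨j, hj⟩ := (H15Site.SheafQuot.comp_π_eq_iff (h ≫ k) _ _).1 key
      rw [_root_.mul_assoc, ← Category.assoc j h k, ← MonObj.mul_comp] at hj
      exact (H15Site.SheafQuot.comp_π_eq_iff h _ _).2 ⟨j, (cancel_mono k).1 (mul_left_cancel hj)⟩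
  · have wq : fst _ _ ≫ qbar = act ≫ qbar := by
      rw [← cancel_epi (p ⊗ₘ q), reassoc_of% hact, tensorHom_fst_assoc]
      have e1 : (G ◁ k) ≫ hG.mul = fst G K * (snd G K ≫ k) := by
        rw [Hom.mul_def, ← lift_whiskerLeft_assoc, lift_fst_snd, Category.id_comp]
      exact ((hqK _ _).symm.trans (congrArg (fun t => t ≫ p ≫ qbar) e1.symm)).trans (Category.assoc _ _ _)
    haveI : Epi qbar := epi_of_epi_fac hq
    have hd : ∀ s : Cofork (fst _ _) act, ∀ ⦃T : Sheaf J (Type w)⦄ (a b : T ⟶ G),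
        a ≫ H15Site.SheafQuot.π k = b ≫ H15Site.SheafQuot.π k → a ≫ p ≫ s.π = b ≫ p ≫ s.π := by
      intro s T a b hab
      obtain ⟨c, hc⟩ := (H15Site.SheafQuot.comp_π_eq_iff k a b).1 hab
      have := congrArg (fun t => lift (a ≫ p) (c ≫ q) ≫ t) s.condition
      simp only [lift_fst_assoc, ← Category.assoc (lift _ _) act, hact', hc, Category.assoc] at this
      exact this
    refine ⟨wq, ⟨Cofork.IsColimit.mk _
      (fun s => (H15Site.SheafQuot.exists_desc (H15Site.SheafQuot.π k) (p ≫ s.π) (hd s)).choose)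
      (fun s => ?_) (fun s m hm => ?_)⟩⟩
    · rw [← cancel_epi p, Cofork.π_ofπ, reassoc_of% hq]
      exact (H15Site.SheafQuot.exists_desc (H15Site.SheafQuot.π k) (p ≫ s.π) (hd s)).choose_spec
    · rw [← cancel_epi qbar]
      rw [Cofork.π_ofπ] at hm
      rw [hm, ← cancel_epi p, reassoc_of% hq]
      exact (H15Site.SheafQuot.exists_desc (H15Site.SheafQuot.π k) (p ≫ s.π) (hd s)).choose_spec.symm

end Groth.Agent.S6054
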