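import Groth.Statements.S6055
import Groth.Agent.H15Site.SheafQuot

set_option autoImplicit false
open CategoryTheory CategoryTheory.Limits MonoidalCategory
universe w v₁ u₁
open ShfCat

set_option linter.style.haveILetI false
set_option backward.isDefEq.respectTransparency false
open CategoryTheory.CartesianMonoidalCategory CategoryTheory.MonObj


namespace Groth.Agent.S6055

open MonObj CartesianMonoidalCategory SemiCartesianMonoidalCategory in
/-- Let `G` be a sheaf of groups on a site, `H, L ⊆ G` subgroup sheaves and `π : G ⟶ G/H` the quotient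
sheaf map. Then the pair `L × (H ∩ L) ⇉ L` (projection, right multiplication) is the kernel pair of
`L ⟶ G ⟶ G/H`, so that the image of `L` in `G/H` is the quotient sheaf `L/(H ∩ L)`. Sheaves of sets
in `Type w` with sheafification; `H ∩ L` is the fibre product `H ×_G L`. (The published statement
assumes `H` normal and also identifies this image with `(L·H)/H`; normality is not needed for the
part stated here.) -/
theorem result {C : Type u₁} [Category.{v₁} C]
    (J : GrothendieckTopology C) [HasSheafify J (Type w)]
    {H L G : Sheaf J (Type w)} [hH : GrpObj H] [hL : GrpObj L] [hG : GrpObj G]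
    (u : H ⟶ G) (l : L ⟶ G) [Mono u] [Mono l]
    (hu : @IsMonHom (Sheaf J (Type w)) _ _ H G hH.toMonObj hG.toMonObj u)
    (hl : @IsMonHom (Sheaf J (Type w)) _ _ L G hL.toMonObj hG.toMonObj l) :
    IsKernelPair (l ≫ coequalizer.π (fst G H) ((G ◁ u) ≫ hG.mul))
      (fst L (pullback u l)) ((L ◁ pullback.snd u l) ≫ hL.mul) := by
  haveI := hu
  haveI := hl
  have hw : ∀ {T : Sheaf J (Type w)} (a : T ⟶ L) (q : T ⟶ pullback u l),
      lift a q ≫ (L ◁ pullback.snd u l) ≫ μ[L] = a * (q ≫ pullback.snd u l) := by
    intro T a q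
    rw [lift_whiskerLeft_assoc, Hom.mul_def]
  have hmono : Mono (pullback.snd u l) := inferInstance
  refine ⟨⟨?_⟩, ⟨PullbackCone.IsLimit.mk _ (fun s => lift s.fst (pullback.lift
    ((H15Site.SheafQuot.comp_π_eq_iff u (s.fst ≫ l) (s.snd ≫ l)).1
      (by simpa only [Category.assoc] using s.condition)).choose (s.fst⁻¹ * s.snd) ?_))
    (fun s => lift_fst _ _) (fun s => ?_) (fun s m h₁ h₂ => ?_)⟩⟩
  · have e0 : (L ◁ pullback.snd u l) ≫ μ[L] = fst L (pullback u l) * (snd L (pullback u l) ≫ pullback.snd u l) := by
      rw [← hw, lift_fst_snd, Category.id_comp]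
    rw [e0, ← Category.assoc, ← Category.assoc]
    refine (H15Site.SheafQuot.comp_π_eq_iff u _ _).2 ⟨snd L (pullback u l) ≫ pullback.fst u l, ?_⟩
    rw [MonObj.mul_comp, Category.assoc, Category.assoc, pullback.condition]
  · have e := ((H15Site.SheafQuot.comp_π_eq_iff u (s.fst ≫ l) (s.snd ≫ l)).1
      (by simpa only [Category.assoc] using s.condition)).choose_spec
    rw [MonObj.mul_comp, GrpObj.inv_comp, eq_inv_mul_iff_mul_eq]
    exact e
  · rw [hw, pullback.lift_snd, mul_inv_cancel_left]
  · apply CartesianMonoidalCategory.hom_ext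
    · rw [lift_fst]; exact h₁
    · rw [lift_snd, ← cancel_mono (pullback.snd u l), pullback.lift_snd, Category.assoc]
      rw [← h₁, ← h₂]
      conv_rhs => rw [← CartesianMonoidalCategory.lift_comp_fst_snd m, hw, lift_fst, inv_mul_cancel_left]
      rw [Category.assoc]

end Groth.Agent.S6055
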