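import Groth.Statements.S6057
import Mathlib.CategoryTheory.Sites.Over
import Mathlib.CategoryTheory.Sites.SheafOfTypes

set_option autoImplicit false
open CategoryTheory
universe v₁ u₁
open ShfCat

set_option linter.style.haveILetI false
open Opposite


namespace Groth.Agent.S6057

/-- Let `S` be an object whose representable presheaf is a sheaf for `J` and `φ : F ⟶ h_S` a morphism of
presheaves of sets. The relative presheaf on `C/S` (sections of `F` over `T` lying over the given `T
⟶ S`) is separated (resp. a sheaf) for the induced topology on `C/S` if and only if `F` is separated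
(resp. a sheaf). -/
theorem result {C : Type u₁} [Category.{v₁} C] (J : GrothendieckTopology C)
    {S : C} (hS : Presieve.IsSheaf J (yoneda.obj S)) {F : Cᵒᵖ ⥤ Type v₁} (φ : F ⟶ yoneda.obj S) :
    (Presieve.IsSeparated (J.over S) (ShfCat.relPsh φ) ↔ Presieve.IsSeparated J F) ∧
    (Presieve.IsSheaf (J.over S) (ShfCat.relPsh φ) ↔ Presieve.IsSheaf J F) := by
  have hmem : ∀ (T : Over S) (R : Sieve T), R ∈ (J.over S) T ↔ Sieve.overEquiv T R ∈ J T.left :=
    fun T R => J.mem_over_iff R
  have hsep : ∀ (h : Presieve.IsSeparated (J.over S) (ShfCat.relPsh φ)), Presieve.IsSeparated J F := by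
    intro h T R hR x t₁ t₂ h₁ h₂
    have hφ : φ.app (op T) t₁ = φ.app (op T) t₂ := by
      refine (hS R hR).isSeparatedFor.ext fun V f hf => ?_
      rw [← NatTrans.naturality_apply φ, ← NatTrans.naturality_apply φ]
      exact congrArg _ ((h₁ f hf).trans (h₂ f hf).symm)
    let T' : Over S := Over.mk (φ.app (op T) t₁)
    let R' := (Sieve.overEquiv T').symm R
    have hR' : R' ∈ (J.over S) T' := (hmem _ _).2 (by rw [OrderIso.apply_symm_apply]; exact hR)
    refine congrArg Subtype.val (((h R' hR').ext (t₁ := (⟨t₁, rfl⟩ : RelSections φ T'))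
      (t₂ := (⟨t₂, hφ.symm⟩ : RelSections φ T')) fun V g hg => ?_))
    exact Subtype.ext ((h₁ g.left hg).trans (h₂ g.left hg).symm)
  have hsep' : ∀ (h : Presieve.IsSeparated J F), Presieve.IsSeparated (J.over S) (ShfCat.relPsh φ) := by
    intro h T R hR x t₁ t₂ h₁ h₂
    refine Subtype.ext ((h _ ((hmem _ _).1 hR)).ext fun V f hf => ?_)
    rw [Sieve.overEquiv_iff] at hf
    exact congrArg Subtype.val ((h₁ _ hf).trans (h₂ _ hf).symm)
  refine ⟨⟨hsep, hsep'⟩, fun h => ?_, fun h => ?_⟩
  · intro T R hR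
    rw [← Presieve.isSeparatedFor_and_exists_isAmalgamation_iff_isSheafFor]
    refine ⟨hsep h.isSeparated R hR, fun x hx => ?_⟩
    let y : Presieve.FamilyOfElements (yoneda.obj S) R.arrows := fun V f hf => φ.app (op V) (x f hf)
    have hy : y.Compatible := by
      intro V₁ V₂ W g₁ g₂ f₁ f₂ h₁ h₂ e
      simp only [y]
      rw [← NatTrans.naturality_apply φ, ← NatTrans.naturality_apply φ, hx g₁ g₂ h₁ h₂ e]
    obtain ⟨s, hs, -⟩ := hS R hR y hy
    let T' : Over S := Over.mk s
    let R' := (Sieve.overEquiv T').symm R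
    have hR' : R' ∈ (J.over S) T' := (hmem _ _).2 (by rw [OrderIso.apply_symm_apply]; exact hR)
    let x' : Presieve.FamilyOfElements (ShfCat.relPsh φ) R'.arrows := fun V g hg =>
      ⟨x g.left hg, (hs g.left hg).symm.trans (Over.w g)⟩
    obtain ⟨t, ht, -⟩ := h R' hR' x' (fun V₁ V₂ W g₁ g₂ f₁ f₂ h₁ h₂ e => Subtype.ext
      (hx g₁.left g₂.left h₁ h₂ (congrArg CommaMorphism.left e)))
    refine ⟨t.1, fun V f hf => ?_⟩
    exact congrArg Subtype.val (ht (Over.homMk f : Over.mk (f ≫ s) ⟶ T') hf)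
  · intro T R hR
    rw [← Presieve.isSeparatedFor_and_exists_isAmalgamation_iff_isSheafFor]
    refine ⟨hsep' h.isSeparated R hR, fun x hx => ?_⟩
    let y : Presieve.FamilyOfElements F (Sieve.overEquiv T R).arrows := fun V f hf =>
      (x (Over.homMk f : Over.mk (f ≫ T.hom) ⟶ T) ((Sieve.overEquiv_iff _ _).1 hf)).1
    have hy : y.Compatible := by
      intro V₁ V₂ W g₁ g₂ f₁ f₂ h₁ h₂ e
      exact congrArg Subtype.val (hx (Z := Over.mk (g₁ ≫ f₁ ≫ T.hom))
        (Y₁ := Over.mk (f₁ ≫ T.hom)) (Y₂ := Over.mk (f₂ ≫ T.hom))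
        (Over.homMk g₁ (by simp)) (Over.homMk g₂ (by simp [reassoc_of% e]))
        ((Sieve.overEquiv_iff _ _).1 h₁) ((Sieve.overEquiv_iff _ _).1 h₂) (by ext; exact e))
    obtain ⟨t, ht, -⟩ := h _ ((hmem _ _).1 hR) y hy
    have hφ : φ.app (op T.left) t = T.hom := by
      refine (hS _ ((hmem _ _).1 hR)).isSeparatedFor.ext fun V f hf => ?_
      rw [← NatTrans.naturality_apply φ, ht f hf]
      exact (x (Over.homMk f : Over.mk (f ≫ T.hom) ⟶ T) ((Sieve.overEquiv_iff _ _).1 hf)).2
    refine ⟨⟨t, hφ⟩, fun V g hg => Subtype.ext ?_⟩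
    let V' : Over S := Over.mk (g.left ≫ T.hom)
    let e : V ⟶ V' := Over.homMk (𝟙 V.left) (by simp [V'])
    have hg' : R (Over.homMk g.left rfl : V' ⟶ T) := by
      have e' : (Over.homMk (𝟙 V.left) (by simp [V']) : V' ⟶ V) ≫ g = (Over.homMk g.left rfl : V' ⟶ T) := by
        ext; simp [V']
      rw [← e']
      exact R.downward_closed hg _
    have hc := congrArg Subtype.val (hx e (𝟙 V) hg' hg (by ext; simp [e, V']))
    change F.map g.left.op t = _
    rw [ht g.left ((Sieve.overEquiv_iff _ _).2 hg')]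
    simp [e, relPsh_map_val] at hc
    erw [Functor.map_id_apply] at hc
    exact hc

end Groth.Agent.S6057
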