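import Groth.Statements.S6060
import Groth.Agent.H21SubEq.Spread
import Groth.Agent.H21Fix.Spread
-- import your own Groth.Agent.* helpers here

set_option autoImplicit false
open CategoryTheory MonoidalCategory CartesianMonoidalCategory MonObj GrpObj AlgebraicGeometry
universe u
open SGA3x

namespace Groth.Agent.S6060

/-- Let G be an S-group, suppose S locally Noetherian or G of finite presentation over S, and let i₁ :
H₁ ⟶ G, i₂ : H₂ ⟶ G be two sub-group-schemes (homomorphisms which are immersions) of multiplicative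
type and of finite type. Let s ∈ S be a point such that the fibre (H₁)_s is central in G_s (every
point of G_s commutes with every point of (H₁)_s) and (H₁)_s = (H₂)_s as subgroups of G_s (an
isomorphism of the fibres compatible with the inclusions). Then there is an open neighbourhood U of
s such that H₁|_U = H₂|_U as subgroups of G|_U. -/
theorem result {S : Scheme.{u}} (G H₁ H₂ : Over S) [GrpObj G] [GrpObj H₁] [GrpObj H₂]
    (hG : IsLocallyNoetherian S ∨ (LocallyOfFinitePresentation G.hom ∧ QuasiCompact G.hom ∧ QuasiSeparated G.hom))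
    (h₁ : SGA3x.IsMultTypeFT H₁) (h₂ : SGA3x.IsMultTypeFT H₂)
    (i₁ : H₁ ⟶ G) [IsMonHom i₁] [IsImmersion i₁.left] (i₂ : H₂ ⟶ G) [IsMonHom i₂] [IsImmersion i₂.left] (s : S)
    (hc : ∀ (X : Over (Spec (S.residueField s))) (g : X ⟶ Red.bc (S.fromSpecResidueField s) G)
      (h : X ⟶ Red.bc (S.fromSpecResidueField s) H₁),
      g * (h ≫ (Over.pullback (S.fromSpecResidueField s)).map i₁) = (h ≫ (Over.pullback (S.fromSpecResidueField s)).map i₁) * g)
    (hs : ∃ ψ : Red.bc (S.fromSpecResidueField s) H₁ ≅ Red.bc (S.fromSpecResidueField s) H₂,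
      ψ.hom ≫ (Over.pullback (S.fromSpecResidueField s)).map i₂ = (Over.pullback (S.fromSpecResidueField s)).map i₁) :
    ∃ U : S.Opens, s ∈ U ∧ ∃ ψ : Red.bc U.ι H₁ ≅ Red.bc U.ι H₂,
      ψ.hom ≫ (Over.pullback U.ι).map i₂ = (Over.pullback U.ι).map i₁ := by
  have hG' : IsLocallyNoetherian S ∨ LocallyOfFiniteType G.hom := hG.imp id fun h => by
    haveI := h.1
    infer_instance
  have hc' : Groth.Agent.H21Fix.CentralAt i₁ (S.fromSpecResidueField s) :=
    Groth.Agent.H21Fix.centralAt_residue_of i₁ _ hc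
  obtain ⟨ψ, hψ⟩ := hs
  have h1 : Groth.Agent.H21Diag.LEOn i₁ i₂ (S.fromSpecResidueField s) :=
    Groth.Agent.H21Diag.leOn_of_iso _ ψ.hom hψ
  have h2 : Groth.Agent.H21Diag.LEOn i₂ i₁ (S.fromSpecResidueField s) :=
    Groth.Agent.H21Diag.leOn_of_iso _ ψ.inv (by rw [← hψ, ψ.inv_hom_id_assoc])
  obtain ⟨h1', h2'⟩ := Groth.Agent.H21SubEq.leOn_fromSpecStalk i₁ i₂ hG' h₁ h₂ s hc' h1 h2
  haveI := Groth.Agent.H21Diag.isAffineHom_of_multTypeFT h₁
  haveI := Groth.Agent.H21Diag.isAffineHom_of_multTypeFT h₂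
  haveI := Groth.Agent.H21Diag.lfp_of_multTypeFT h₁
  haveI := Groth.Agent.H21Diag.lfp_of_multTypeFT h₂
  have hfp : ∀ {H H' : Over S} (i : H ⟶ G) (i' : H' ⟶ G) [IsImmersion i'.left]
      [LocallyOfFinitePresentation H.hom] [LocallyOfFinitePresentation H'.hom],
      LocallyOfFinitePresentation (Limits.pullback.fst i.left i'.left) := by
    intro H H' i i' _ _ _
    rcases hG with hS | ⟨hG, -, -⟩
    · haveI := hS
      haveI : IsLocallyNoetherian H.left := LocallyOfFiniteType.isLocallyNoetherian H.hom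
      exact Groth.Agent.H12AlgSp.lfp_of_lft_of_isLocallyNoetherian _
    · haveI := hG
      haveI : LocallyOfFinitePresentation (i'.left ≫ G.hom) := by rw [Over.w i']; infer_instance
      haveI : LocallyOfFinitePresentation i'.left := Groth.Agent.H12AlgSp.lfp_of_comp _ G.hom
      infer_instance
  haveI := hfp i₁ i₂
  haveI := hfp i₂ i₁
  obtain ⟨V₁, hs₁, hV₁⟩ := Groth.Agent.H21SubEq.exists_nhd_leOn i₁ i₂ h1'
  obtain ⟨V₂, hs₂, hV₂⟩ := Groth.Agent.H21SubEq.exists_nhd_leOn i₂ i₁ h2'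
  refine ⟨V₁ ⊓ V₂, ⟨hs₁, hs₂⟩, Groth.Agent.H21Diag.exists_iso_of_leOn _ ?_ ?_⟩
  · rw [← S.homOfLE_ι (inf_le_left : V₁ ⊓ V₂ ≤ V₁)]
    exact hV₁.comp _
  · rw [← S.homOfLE_ι (inf_le_right : V₁ ⊓ V₂ ≤ V₂)]
    exact hV₂.comp _

end Groth.Agent.S6060
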