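import Groth.Statements.S6061
import Groth.Agent.H21Desc.HomTwConst
-- import your own Groth.Agent.* helpers here

set_option autoImplicit false
open CategoryTheory MonoidalCategory CartesianMonoidalCategory MonObj GrpObj AlgebraicGeometry
universe u
open SGA3x
open CategoryTheory.Limits

namespace Groth.Agent.S6061

/-- Representability; the twisted-constant structure is asserted at the level of S-schemes: Let H and G
be quasi-isotrivial S-groups of multiplicative type — etale-locally on S isomorphic, as group
schemes, to diagonalisable groups D(M), with M finitely generated in the case of G (G of finite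
type). Then the functor of group homomorphisms from H to G is representable, by an S-scheme which is
a quasi-isotrivial twisted constant S-scheme (etale-locally constant). The character groups M range
over Type 0, as in the prelude's D_S(M). (The published statement also asserts that the representing
object is a twisted constant group of type Hom(M, N), M and N the types of G and H respectively;
this row asserts only the scheme-level twisted constant structure, without the group structure or
the type.) -/
theorem result {S : Scheme.{u}} (H G : Over S) [GrpObj H] [GrpObj G]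
    (hH : TwC.Locally S TwC.Topology.etale (fun S' f => ∃ (M : Type) (_ : AddCommGroup M),
      Nonempty (Grp.mk (Red.bc f H) ≅ Grp.mk (Red.DS S' M))))
    (hG : TwC.Locally S TwC.Topology.etale (fun S' f => ∃ (M : Type) (_ : AddCommGroup M),
      AddGroup.FG M ∧ Nonempty (Grp.mk (Red.bc f G) ≅ Grp.mk (Red.DS S' M)))) :
    ∃ (A : Over S) (υ : H ⊗ A ⟶ G), AutFam.RepresentsHom H G A υ ∧ TwC.IsTwConst TwC.Topology.etale A := by
  refine H21Desc.exists_representsHom_etale_const H G fun s => ?_
  obtain ⟨V₁, g₁, _, ⟨y₁, hy₁⟩, M, _, ⟨e₁⟩⟩ := hH s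
  obtain ⟨V₂, g₂, _, ⟨y₂, hy₂⟩, N, _, hN, ⟨e₂⟩⟩ := hG s
  obtain ⟨z, hz₁, hz₂⟩ := Scheme.Pullback.exists_preimage_pullback (f := g₁) (g := g₂) y₁ y₂ (hy₁.trans hy₂.symm)
  obtain ⟨υ, hυ⟩ := H21Desc.exists_representsHom_chart (pullback.fst g₁ g₂ ≫ g₁) (M' := N)
    (H21Desc.chartComp (pullback.fst g₁ g₂) g₁ e₁)
    (H21Diag.bcCongrIso pullback.condition G ≪≫ H21Desc.chartComp (pullback.snd g₁ g₂) g₂ e₂)
  exact ⟨_, _, _, υ, inferInstance, ⟨z, by rw [Scheme.Hom.comp_apply, hz₁, hy₁]⟩, hυ⟩

end Groth.Agent.S6061
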