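import Groth.Statements.S6062
import Groth.Agent.H19Mult.KerMult

set_option autoImplicit false
universe u
open TensorProduct SGA3b
open SGA3b

namespace Groth.Agent.S6062

/-- Let G = Spec A be an R-group of multiplicative type, not necessarily of finite type, H = Spec C an
R-group of multiplicative type and of finite type, u : G ⟶ H a homomorphism given by the bialgebra
map φ : C → A, and J the ideal of the kernel of u (generated by the image under φ of the
augmentation ideal of C), a Hopf ideal (the instance hypothesis holds automatically for this J).
Then Ker u = Spec (A/J) is of multiplicative type (with locally constant type). (The published
statement also asserts that the quotient of G by Ker u exists, is of multiplicative type and of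
finite type and embeds in H, and that the quotient of H by it exists and is of multiplicative type
and of finite type; this row states only that the kernel is of multiplicative type. Affine group
schemes over an affine base are taken in Hopf-algebra form; base change is the tensor product.) -/
theorem result (R : Type u) [CommRing R] (A : Type u) [CommRing A] [HopfAlgebra R A] (hA : IsMultType R A)
    (C : Type u) [CommRing C] [HopfAlgebra R C] (hC : IsMultType R C) (hCft : Algebra.FiniteType R C) (φ : C →ₐc[R] A)
    (J : Ideal A) [J.IsHopfIdeal R] (hJ : J = Ideal.map φ (RingHom.ker (Bialgebra.counitAlgHom R C))) :
    IsMultType R (A ⧸ J) := by
  exact H19Mult.kernel_isMultType hA hC hCft φ J hJ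

end Groth.Agent.S6062
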