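import Groth.Statements.S6063
import Groth.Agent.H21Gr.Filt

set_option autoImplicit false
universe u
open CategoryTheory AlgebraicGeometry
open TensorProduct
open SGA3x

namespace Groth.Agent.S6063

set_option backward.isDefEq.respectTransparency false


open CategoryTheory.Limits

variable {A : CommRingCat.{u}} {X : Scheme.{u}} (p : X ⟶ Spec A) (J : Ideal A)

/-- the structure map of sections over an open -/
noncomputable def str (W : X.Opens) : A ⟶ Γ(X, W) := (Scheme.ΓSpecIso A).inv ≫ p.appLE ⊤ W le_top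

theorem str_map {Y : Scheme.{u}} (r : Y ⟶ X) {W : X.Opens} {W' : Y.Opens} (e : W' ≤ r ⁻¹ᵁ W) :
    str p W ≫ r.appLE W W' e = str (r ≫ p) W' := by
  rw [str, Category.assoc, Scheme.Hom.appLE_comp_appLE]
  rfl

theorem killsJ {Y : Scheme.{u}} (r : Y ⟶ X) (q : Y ⟶ Spec (CommRingCat.of (A ⧸ J)))
    (h : r ≫ p = q ≫ Spec.map (CommRingCat.ofHom (Ideal.Quotient.mk J))) (W : X.Opens) (W' : Y.Opens)
    (e : W' ≤ r ⁻¹ᵁ W) {x : Γ(X, W)} (hx : x ∈ J.map (str p W).hom) : r.appLE W W' e x = 0 := by
  suffices hle : J.map (str p W).hom ≤ RingHom.ker (r.appLE W W' e).hom from hle hx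
  rw [Ideal.map_le_iff_le_comap]
  intro y hy
  change (str p W ≫ r.appLE W W' e).hom y = 0
  rw [str_map, str]
  have h2 : (r ≫ p).appLE ⊤ W' le_top =
      (Spec.map (CommRingCat.ofHom (Ideal.Quotient.mk J))).appTop ≫ q.appLE ⊤ W' le_top := by
    simp only [h]
    exact Scheme.Hom.comp_appLE _ _ _ _ _
  rw [h2, ← Category.assoc, ← Scheme.ΓSpecIso_inv_naturality]
  change (q.appLE ⊤ W' le_top).hom ((Scheme.ΓSpecIso _).inv.hom (Ideal.Quotient.mk J y)) = 0
  rw [Ideal.Quotient.eq_zero_iff_mem.mpr hy, map_zero, map_zero]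

theorem mem_of_app_eq_zero (W : X.Opens) (hW : IsAffineOpen W) (b : Γ(X, W))
    (hb : (pullback.fst p (Spec.map (CommRingCat.ofHom (Ideal.Quotient.mk J)))).app W b = 0) :
    b ∈ J.map (str p W).hom := by
  let I := J.map (str p W).hom
  let u : Spec (CommRingCat.of (Γ(X, W) ⧸ I)) ⟶ X :=
    Spec.map (CommRingCat.ofHom (Ideal.Quotient.mk I)) ≫ hW.fromSpec
  have hp : hW.fromSpec ≫ p = Spec.map (str p W) := by
    rw [str, ← (isAffineOpen_top (Spec A)).SpecMap_appLE_fromSpec p hW le_top, IsAffineOpen.fromSpec_top,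
      Spec.map_comp, Scheme.isoSpec_Spec_inv]
  have hu : u ≫ p = Spec.map (CommRingCat.ofHom (Ideal.quotientMap I (str p W).hom Ideal.le_comap_map)) ≫
      Spec.map (CommRingCat.ofHom (Ideal.Quotient.mk J)) := by
    rw [Category.assoc, hp, ← Spec.map_comp, ← Spec.map_comp]
    rfl
  let w := pullback.lift u _ hu
  have hwπ : w ≫ pullback.fst p _ = u := pullback.lift_fst _ _ _
  have h1 : u.app W b = 0 := by
    have h2 : (w ≫ pullback.fst p (Spec.map (CommRingCat.ofHom (Ideal.Quotient.mk J)))).app W b = 0 := by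
      rw [Scheme.Hom.comp_app, CommRingCat.comp_apply, hb, map_zero]
    have key : ∀ u' : Spec (CommRingCat.of (Γ(X, W) ⧸ I)) ⟶ X, u' = u → u'.app W b = 0 → u.app W b = 0 := by
      rintro _ rfl h; exact h
    exact key _ hwπ h2
  have htop : ⊤ ≤ u ⁻¹ᵁ W := fun z _ => by
    change hW.fromSpec (Spec.map (CommRingCat.ofHom (Ideal.Quotient.mk I)) z) ∈ W
    exact hW.range_fromSpec.le ⟨_, rfl⟩
  have h3 : u.appLE W ⊤ htop b = 0 := by
    rw [Scheme.Hom.appLE, CommRingCat.comp_apply, h1, map_zero]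
  have h4 : u.appLE W ⊤ htop =
      CommRingCat.ofHom (Ideal.Quotient.mk I) ≫ (Scheme.ΓSpecIso _).inv := by
    rw [Scheme.ΓSpecIso_inv_naturality, Scheme.Hom.comp_appLE, IsAffineOpen.fromSpec_app_self, Category.assoc]
    congr 1
  rw [h4] at h3
  refine Ideal.Quotient.eq_zero_iff_mem.mp ((ConcreteCategory.bijective_of_isIso (Scheme.ΓSpecIso
    (CommRingCat.of (Γ(X, W) ⧸ I))).inv).1 ?_)
  rw [map_zero]
  exact h3

open CategoryTheory.Limits in
/-- Over an affine base with free successive quotients. Let A be a ring, J a nilpotent ideal of A such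
that every quotient J^k/J^(k+1) is a free (A/J)-module, p : X ⟶ Spec A a flat morphism and (v_i :
Z_i ⟶ X) a family of subschemes of X (immersions) with every Z_i flat over Spec A. If the family of
reductions Z_i ×_A (A/J) ⟶ X ×_A (A/J) is schematically dense, i.e. a section of the structure sheaf
of X ×_A (A/J) over an open subset whose pullback to every member vanishes is zero, then the family
(v_i) is schematically dense in X in the same sense. (The published statement has an arbitrary base
S and a nilpotent quasi-coherent ideal of the structure sheaf whose successive quotients are locally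
free modulo the ideal; the assertion is local on S and on X, and this row is the case of an affine
base with free successive quotients.) -/
theorem result {X : Scheme.{u}} (A : CommRingCat.{u}) (p : X ⟶ Spec A) [Flat p]
    (J : Ideal ↑A) (hJ : IsNilpotent J) (hfree : ∀ k : ℕ, Module.Free (↑A ⧸ J) ((↑A ⧸ J) ⊗[↑A] ↥(J ^ k)))
    {ι : Type u} (Z : ι → Scheme.{u}) (v : ∀ i, Z i ⟶ X) [∀ i, IsImmersion (v i)] [∀ i, Flat (v i ≫ p)]
    (h0 : ∀ (V : (pullback p (Spec.map (CommRingCat.ofHom (Ideal.Quotient.mk J)))).Opens) (t : Γ(pullback p (Spec.map (CommRingCat.ofHom (Ideal.Quotient.mk J))), V)),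
      (∀ i, (pullback.map (v i ≫ p) (Spec.map (CommRingCat.ofHom (Ideal.Quotient.mk J))) p (Spec.map (CommRingCat.ofHom (Ideal.Quotient.mk J))) (v i) (𝟙 _) (𝟙 _)
        (Category.comp_id _) ((Category.comp_id _).trans (Category.id_comp _).symm)).app V t = 0) → t = 0) :
    ∀ (V : X.Opens) (t : Γ(X, V)), (∀ i, (v i).app V t = 0) → t = 0 := by
  let j := Spec.map (CommRingCat.ofHom (Ideal.Quotient.mk J))
  suffices key : ∀ (W : X.Opens), IsAffineOpen W → ∀ t : Γ(X, W), (∀ i, (v i).app W t = 0) → t = 0 by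
    intro V t ht
    refine X.sheaf.eq_of_locally_eq' (fun W : {W : X.Opens // IsAffineOpen W ∧ W ≤ V} => W.1) V
      (fun W => homOfLE W.2.2) (fun x hx => ?_) t 0 fun W => ?_
    · obtain ⟨W, hW, hxW, hWV⟩ := exists_isAffineOpen_mem_and_subset (U := V) (x := x) hx
      exact TopologicalSpace.Opens.mem_iSup.mpr ⟨⟨W, hW, hWV⟩, hxW⟩
    · refine (key W.1 W.2.1 _ fun i => ?_).trans (map_zero _).symm
      change (v i).app W.1 (X.presheaf.map (homOfLE W.2.2).op t) = 0
      rw [← CommRingCat.comp_apply, Scheme.Hom.naturality, CommRingCat.comp_apply, ht, map_zero]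
  intro W hW t ht
  letI := (str p W).hom.toAlgebra
  suffices hk : ∀ k, t ∈ (J ^ k).map (str p W).hom by
    obtain ⟨n, hn⟩ := hJ
    have := hk n
    rw [hn, Ideal.zero_eq_bot, Ideal.map_bot] at this
    simpa using this
  intro k
  induction k with
  | zero => simp [Ideal.map_top]
  | succ k ih =>
    obtain ⟨σ, s, e, b, he, hrest, hb⟩ := H21Gr.exists_expansion J k (hfree k) (B := Γ(X, W)) ih
    have hbJ : ∀ i ∈ s, b i ∈ J.map (str p W).hom := by
      intro i hi
      refine mem_of_app_eq_zero p J W hW _ (h0 _ _ fun l => ?_)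
      let m := Limits.pullback.map (v l ≫ p) j p j (v l) (𝟙 _) (𝟙 _) (Category.comp_id _)
        ((Category.comp_id _).trans (Category.id_comp _).symm)
      let r := Limits.pullback.fst (v l ≫ p) j
      have hm : m ≫ Limits.pullback.fst p j = r ≫ v l := Limits.pullback.lift_fst _ _ _
      have happ : ∀ (O : (Limits.pullback (v l ≫ p) j).Opens) (eO : O ≤ m ⁻¹ᵁ (Limits.pullback.fst p j ⁻¹ᵁ W))
          (eO' : O ≤ (r ≫ v l) ⁻¹ᵁ W),
          m.appLE _ O eO ((Limits.pullback.fst p j).app W (b i)) = (r ≫ v l).appLE W O eO' (b i) := by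
        intro O eO eO'
        simp only [← hm, Scheme.Hom.comp_appLE]
        rfl
      refine (Limits.pullback (v l ≫ p) j).sheaf.eq_of_locally_eq'
        (fun W' : {W' : (Z l).Opens // IsAffineOpen W' ∧ W' ≤ v l ⁻¹ᵁ W} => r ⁻¹ᵁ W'.1) _
        (fun W' => homOfLE (fun z hz => show (m ≫ Limits.pullback.fst p j) z ∈ W by rw [hm]; exact W'.2.2 hz))
        (fun z hz => ?_) _ 0 fun W' => ?_
      · have hz' : v l (r z) ∈ W := by
          have h' : (m ≫ Limits.pullback.fst p j) z ∈ W := hz
          rwa [hm] at h'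
        obtain ⟨W', hW', hzW', hWW⟩ := exists_isAffineOpen_mem_and_subset (U := v l ⁻¹ᵁ W) (x := r z) hz'
        exact TopologicalSpace.Opens.mem_iSup.mpr ⟨⟨W', hW', hWW⟩, hzW'⟩
      · refine Eq.trans ?_ (map_zero _).symm
        obtain ⟨W', hW', hWW⟩ := W'
        change m.appLE _ (r ⁻¹ᵁ W') _ ((Limits.pullback.fst p j).app W (b i)) = 0
        rw [happ _ _ (fun z hz => hWW hz), ← Scheme.Hom.appLE_comp_appLE r (v l) W W' _ hWW le_rfl, CommRingCat.comp_apply]
        refine killsJ (v l ≫ p) J r (Limits.pullback.snd _ _) Limits.pullback.condition _ _ _ ?_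
        letI := (str (v l ≫ p) W').hom.toAlgebra
        haveI : Module.Flat A Γ(Z l, W') := by
          have := (HasRingHomProperty.appLE (P := @Flat) (v l ≫ p) inferInstance ⟨⊤, isAffineOpen_top _⟩ ⟨W', hW'⟩ le_top)
          exact RingHom.Flat.comp (RingHom.Flat.of_bijective
            (ConcreteCategory.bijective_of_isIso (Scheme.ΓSpecIso A).inv)) this
        let f : Γ(X, W) →ₐ[A] Γ(Z l, W') := { ((v l).appLE W W' hWW).hom with
          commutes' := fun a => RingHom.congr_fun (congrArg CommRingCat.Hom.hom (str_map p (v l) hWW)) a }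
        refine hb _ f ?_ i hi
        have : ((v l).appLE W W' hWW) t = 0 := by
          rw [Scheme.Hom.appLE, CommRingCat.comp_apply, ht l, map_zero]
        change ((v l).appLE W W' hWW) t ∈ _
        rw [this]
        exact Submodule.zero_mem _
    have hsum : ∑ i ∈ s, (str p W).hom (e i) * b i ∈ (J ^ (k + 1)).map (str p W).hom := by
      refine sum_mem fun i hi => ?_
      rw [pow_succ, Ideal.map_mul]
      exact Ideal.mul_mem_mul (Ideal.mem_map_of_mem _ (he i)) (hbJ i hi)
    exact (sub_add_cancel t _) ▸ add_mem hrest hsum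

end Groth.Agent.S6063
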