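import Groth.Statements.S6065
import Groth.Agent.H21Dense.Torsion
-- import your own Groth.Agent.* helpers here

set_option autoImplicit false
set_option backward.isDefEq.respectTransparency false
set_option linter.style.haveILetI false
open CategoryTheory MonoidalCategory CartesianMonoidalCategory MonObj GrpObj AlgebraicGeometry
universe u
open SGA3x

namespace Groth.Agent.S6065

open CategoryTheory.Limits in
/-- Let S be a locally Noetherian scheme, H a commutative S-group which is of finite type over S, and E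
a nonempty set of integers n > 0 stable under multiplication, such that: a) for every n ∈ E the
kernel ₙH of the n-th power map of H (the pullback of the unit section along that map) is finite and
flat over S; b) for every s ∈ S the family of fibres (ₙH)_s ⟶ H_s, n ∈ E, is schematically dense in
H_s (a section of the structure sheaf of H_s over an open subset whose pullback to every (ₙH)_s
vanishes is zero). Let Y be a closed subscheme of H. Then the functor on S-schemes whose value at S'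
⟶ S is a point when H ×_S S' ⟶ H factors through Y and empty otherwise is representable by a closed
subscheme T of S; and if S is Noetherian there is n ∈ E such that, for every S' ⟶ S, H ×_S S' ⟶ H
factors through Y if and only if ₙH ×_S S' ⟶ H does. -/
theorem result {S : Scheme.{u}} [IsLocallyNoetherian S]
    (H : Over S) [GrpObj H] [IsCommMonObj H] [LocallyOfFiniteType H.hom] [QuasiCompact H.hom]
    (E : Set ℕ) (hE : E.Nonempty) (hE0 : ∀ n ∈ E, 0 < n) (hEmul : ∀ m ∈ E, ∀ n ∈ E, m * n ∈ E)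
    (ha : ∀ n ∈ E, IsFinite ((pullback.snd η[H].left (𝟙 H ^ n : H ⟶ H).left) ≫ H.hom) ∧ Flat ((pullback.snd η[H].left (𝟙 H ^ n : H ⟶ H).left) ≫ H.hom))
    (hb : ∀ (s : S) (V : (H.hom.fiber s).Opens) (t : Γ(H.hom.fiber s, V)),
      (∀ n ∈ E, (MoreMor.fiberMap (pullback.snd η[H].left (𝟙 H ^ n : H ⟶ H).left) H.hom s).app V t = 0) → t = 0)
    (Y : Scheme.{u}) (y : Y ⟶ H.left) [IsClosedImmersion y] :
    (∃ (T : Scheme.{u}) (t : T ⟶ S), IsClosedImmersion t ∧
      ∀ (S' : Scheme.{u}) (g : S' ⟶ S), (∃ g' : S' ⟶ T, g' ≫ t = g) ↔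
        ∃ l : pullback H.hom g ⟶ Y, l ≫ y = pullback.fst H.hom g) ∧
    (AlgebraicGeometry.IsNoetherian S → ∃ n ∈ E, ∀ (S' : Scheme.{u}) (g : S' ⟶ S),
      (∃ l : pullback H.hom g ⟶ Y, l ≫ y = pullback.fst H.hom g) ↔
        ∃ l : pullback ((pullback.snd η[H].left (𝟙 H ^ n : H ⟶ H).left) ≫ H.hom) g ⟶ Y,
          l ≫ y = pullback.fst ((pullback.snd η[H].left (𝟙 H ^ n : H ⟶ H).left) ≫ H.hom) g ≫ (pullback.snd η[H].left (𝟙 H ^ n : H ⟶ H).left)) := by
  haveI : Nonempty E := hE.to_subtype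
  haveI : ∀ d : E, IsFinite ((pullback.snd η[H].left (𝟙 H ^ (d : ℕ) : H ⟶ H).left) ≫ H.hom) := fun d => (ha d d.2).1
  haveI : ∀ d : E, Flat ((pullback.snd η[H].left (𝟙 H ^ (d : ℕ) : H ⟶ H).left) ≫ H.hom) := fun d => (ha d d.2).2
  have hd : Groth.Agent.H21Dense.FibDense H.hom (fun d : E => pullback η[H].left (𝟙 H ^ (d : ℕ) : H ⟶ H).left)
      (fun d => pullback.snd η[H].left (𝟙 H ^ (d : ℕ) : H ⟶ H).left) := fun s V t h => hb s V t fun n hn => h ⟨n, hn⟩
  obtain ⟨T, t, ht, hmain, hN⟩ := Groth.Agent.H21Dense.exists_closed_contains (Z := S) hd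
    (Groth.Agent.H21Dense.pow_dir hEmul) (𝟙 S) (pullback.snd y (pullback.fst H.hom (𝟙 S)))
  have key : ∀ (S' X : Scheme.{u}) (g : S' ⟶ S) (u : X ⟶ H.left) (v : X ⟶ S') (w : u ≫ H.hom = (v ≫ g) ≫ 𝟙 S),
      (∃ l : X ⟶ pullback y (pullback.fst H.hom (𝟙 S)), l ≫ pullback.snd y _ = pullback.lift u (v ≫ g) w) ↔
        ∃ l : X ⟶ Y, l ≫ y = u := fun S' X g u v w => by
    refine ⟨fun ⟨l, hl⟩ => ⟨l ≫ pullback.fst _ _, ?_⟩, fun ⟨l, hl⟩ =>
      ⟨pullback.lift l (pullback.lift u (v ≫ g) w) (by rw [pullback.lift_fst, hl]), pullback.lift_snd _ _ _⟩⟩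
    rw [Category.assoc, pullback.condition, ← Category.assoc, hl, pullback.lift_fst]
  refine ⟨⟨T, t, ht, fun S' g => (hmain S' g).trans ⟨fun h => ?_, ?_⟩⟩, fun hS => ?_⟩
  · exact (key S' _ g _ (pullback.snd H.hom g) (by rw [Category.comp_id]; exact pullback.condition)).mp (h _ _ _ _)
  · rintro ⟨l, hl⟩ X u v w
    exact (key S' X g u v w).mpr ⟨pullback.lift u v (by simpa using w) ≫ l, by rw [Category.assoc, hl, pullback.lift_fst]⟩
  obtain ⟨⟨n, hn⟩, hd'⟩ := hN hS
  refine ⟨n, hn, fun S' g => ⟨fun ⟨l, hl⟩ => ?_, fun ⟨l, hl⟩ => ?_⟩⟩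
  · refine ⟨pullback.lift (pullback.fst _ g ≫ pullback.snd η[H].left (𝟙 H ^ n : H ⟶ H).left) (pullback.snd _ g)
      (by rw [Category.assoc]; exact pullback.condition) ≫ l, ?_⟩
    rw [Category.assoc, hl, pullback.lift_fst]
  · obtain ⟨l', hl'⟩ := (key S' _ g _ (pullback.snd H.hom g) (by rw [Category.comp_id]; exact pullback.condition)).mp
      ((hd' S' g).mpr (fun X u v w => (key S' X g _ v w).mpr
        ⟨pullback.lift u v (by simpa using w) ≫ l, by rw [Category.assoc, hl, pullback.lift_fst_assoc]⟩) _ _ _ _)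
    exact ⟨l', hl'⟩

end Groth.Agent.S6065
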