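import Groth.Statements.S6066
import Groth.Agent.H21Dense.Torsion
-- import your own Groth.Agent.* helpers here

set_option autoImplicit false
set_option backward.isDefEq.respectTransparency false
set_option linter.style.haveILetI false
open CategoryTheory MonoidalCategory CartesianMonoidalCategory MonObj GrpObj AlgebraicGeometry
universe u
open SGA3x

namespace Groth.Agent.S6066

open CategoryTheory.Limits in
/-- Let S be a locally Noetherian scheme, H a commutative S-group which is of finite type over S, and E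
a nonempty set of integers n > 0 stable under multiplication such that a) every kernel ₙH of the
n-th power map (n ∈ E; the pullback of the unit section along that map) is finite and flat over S
and b) for every s ∈ S the family of fibres (ₙH)_s ⟶ H_s, n ∈ E, is schematically dense in H_s. Let
u : H ⟶ G be a homomorphism into an S-group G locally of finite type over S and k : K ⟶ G a closed
sub-group-scheme. Then the transporter of u into K — the subfunctor of G of those points g, with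
values in an S-scheme X, such that for every X' ⟶ X and every X'-valued point h of H the point g
u(h) g⁻¹ lies in K — is representable by a closed subscheme of G; and if the scheme G is Noetherian
there is n ∈ E such that a point g of G lies in the transporter if and only if g u(h) g⁻¹ lies in K
for all points h of H with h^n = 1. (The published statement is over an arbitrary base S and also
asserts that the transporter is smooth over S when G is smooth, K is smooth or of multiplicative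
type and the ₙH, n ∈ E, are of multiplicative type; this row assumes S locally Noetherian, the
setting in which the printed argument through the base G applies, and does not state the smoothness
assertion.) -/
theorem result {S : Scheme.{u}} [IsLocallyNoetherian S]
    (H : Over S) [GrpObj H] [IsCommMonObj H] [LocallyOfFiniteType H.hom] [QuasiCompact H.hom]
    (E : Set ℕ) (hE : E.Nonempty) (hE0 : ∀ n ∈ E, 0 < n) (hEmul : ∀ m ∈ E, ∀ n ∈ E, m * n ∈ E)
    (ha : ∀ n ∈ E, IsFinite ((pullback.snd η[H].left (𝟙 H ^ n : H ⟶ H).left) ≫ H.hom) ∧ Flat ((pullback.snd η[H].left (𝟙 H ^ n : H ⟶ H).left) ≫ H.hom))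
    (hb : ∀ (s : S) (V : (H.hom.fiber s).Opens) (t : Γ(H.hom.fiber s, V)),
      (∀ n ∈ E, (MoreMor.fiberMap (pullback.snd η[H].left (𝟙 H ^ n : H ⟶ H).left) H.hom s).app V t = 0) → t = 0)
    (G K : Over S) [GrpObj G] [GrpObj K] [LocallyOfFiniteType G.hom] (u : H ⟶ G) [IsMonHom u]
    (k : K ⟶ G) [IsMonHom k] [IsClosedImmersion k.left] :
    (∃ (T : Over S) (j : T ⟶ G), IsClosedImmersion j.left ∧
      ∀ (X : Over S) (g : X ⟶ G), (∃ t : X ⟶ T, t ≫ j = g) ↔
        ∀ (X' : Over S) (x : X' ⟶ X) (h : X' ⟶ H), ∃ κ : X' ⟶ K, (x ≫ g) * (h ≫ u) * (x ≫ g)⁻¹ = κ ≫ k) ∧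
    (AlgebraicGeometry.IsNoetherian G.left → ∃ n ∈ E, ∀ (X : Over S) (g : X ⟶ G),
      (∀ (X' : Over S) (x : X' ⟶ X) (h : X' ⟶ H), ∃ κ : X' ⟶ K, (x ≫ g) * (h ≫ u) * (x ≫ g)⁻¹ = κ ≫ k) ↔
        ∀ (X' : Over S) (x : X' ⟶ X) (h : X' ⟶ H), h ^ n = 1 → ∃ κ : X' ⟶ K, (x ≫ g) * (h ≫ u) * (x ≫ g)⁻¹ = κ ≫ k) := by
  haveI : Nonempty E := hE.to_subtype
  haveI : ∀ d : E, IsFinite ((pullback.snd η[H].left (𝟙 H ^ (d : ℕ) : H ⟶ H).left) ≫ H.hom) := fun d => (ha d d.2).1
  haveI : ∀ d : E, Flat ((pullback.snd η[H].left (𝟙 H ^ (d : ℕ) : H ⟶ H).left) ≫ H.hom) := fun d => (ha d d.2).2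
  have hd : Groth.Agent.H21Dense.FibDense H.hom (fun d : E => pullback η[H].left (𝟙 H ^ (d : ℕ) : H ⟶ H).left)
      (fun d => pullback.snd η[H].left (𝟙 H ^ (d : ℕ) : H ⟶ H).left) := fun s V t h => hb s V t fun n hn => h ⟨n, hn⟩
  haveI : IsLocallyNoetherian G.left := LocallyOfFiniteType.isLocallyNoetherian G.hom
  let ψ : H ⊗ G ⟶ G := snd H G * (fst H G ≫ u) * (snd H G)⁻¹
  obtain ⟨T, t, ht, hmain, hN⟩ := Groth.Agent.H21Dense.exists_closed_contains hd
    (Groth.Agent.H21Dense.pow_dir hEmul) G.hom (Y := pullback k.left ψ.left) (pullback.snd k.left ψ.left)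
  have hψ : ∀ (X' : Over S) (a : X' ⟶ G) (h : X' ⟶ H), lift h a ≫ ψ = a * (h ≫ u) * a⁻¹ := fun X' a h => by
    simp [ψ, MonObj.comp_mul, GrpObj.comp_inv]
  have key : ∀ (X : Over S) (g : X ⟶ G) (X' : Over S) (x : X' ⟶ X) (h : X' ⟶ H)
      (w : h.left ≫ H.hom = (x.left ≫ g.left) ≫ G.hom),
      (∃ l : X'.left ⟶ pullback k.left ψ.left, l ≫ pullback.snd k.left ψ.left = pullback.lift h.left (x.left ≫ g.left) w) ↔
        ∃ κ : X' ⟶ K, (x ≫ g) * (h ≫ u) * (x ≫ g)⁻¹ = κ ≫ k := fun X g X' x h w => by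
    have h0 : (lift h (x ≫ g)).left = pullback.lift h.left (x.left ≫ g.left) w := by
      apply pullback.hom_ext
      · rw [pullback.lift_fst]; exact congrArg (fun z : X' ⟶ H => z.left) (lift_fst h (x ≫ g))
      · rw [pullback.lift_snd]; exact congrArg (fun z : X' ⟶ G => z.left) (lift_snd h (x ≫ g))
    rw [← hψ, ← h0]
    refine ⟨fun ⟨l, hl⟩ => ⟨Over.homMk (l ≫ pullback.fst k.left ψ.left) ?_, ?_⟩, fun ⟨κ, hκ⟩ =>
      ⟨pullback.lift κ.left (lift h (x ≫ g)).left (congrArg (fun z : X' ⟶ G => z.left) hκ).symm,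
        pullback.lift_snd _ _ _⟩⟩
    · rw [← Over.w k, Category.assoc, pullback.condition_assoc, reassoc_of% hl]
      exact Over.w (lift h (x ≫ g) ≫ ψ)
    · refine Over.OverMorphism.ext ?_
      show (lift h (x ≫ g)).left ≫ ψ.left = (l ≫ pullback.fst k.left ψ.left) ≫ k.left
      rw [Category.assoc, pullback.condition, reassoc_of% hl]
  have hall : ∀ (X : Over S) (g : X ⟶ G) (P : ∀ (X' : Over S) (h : X' ⟶ H), Prop),
      (∀ (X' : Over S) (x : X' ⟶ X) (h : X' ⟶ H), P X' h →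
        ∃ κ : X' ⟶ K, (x ≫ g) * (h ≫ u) * (x ≫ g)⁻¹ = κ ≫ k) →
      ∀ (Xs : Scheme.{u}) (a : Xs ⟶ H.left) (v : Xs ⟶ X.left) (w : a ≫ H.hom = (v ≫ g.left) ≫ G.hom),
        P (Over.mk (a ≫ H.hom)) (Over.homMk a) →
        ∃ l : Xs ⟶ pullback k.left ψ.left, l ≫ pullback.snd k.left ψ.left = pullback.lift a (v ≫ g.left) w :=
    fun X g P hP Xs a v w hPa => (key X g (Over.mk (a ≫ H.hom)) (Over.homMk v (by
      show v ≫ X.hom = a ≫ H.hom
      rw [w, Category.assoc, Over.w g])) (Over.homMk a) w).mpr (hP _ _ _ hPa)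
  have hback : ∀ (X : Over S) (g : X ⟶ G) (X' : Over S) (x : X' ⟶ X) (h : X' ⟶ H),
      h.left ≫ H.hom = (x.left ≫ g.left) ≫ G.hom := fun X g X' x h => by
    rw [Category.assoc, Over.w g, Over.w x, Over.w h]
  have hfull : ∀ (X : Over S) (g : X ⟶ G),
      (∀ (Xs : Scheme.{u}) (a : Xs ⟶ H.left) (v : Xs ⟶ X.left) (w : a ≫ H.hom = (v ≫ g.left) ≫ G.hom),
        ∃ l : Xs ⟶ pullback k.left ψ.left, l ≫ pullback.snd k.left ψ.left = pullback.lift a (v ≫ g.left) w) ↔
      ∀ (X' : Over S) (x : X' ⟶ X) (h : X' ⟶ H), ∃ κ : X' ⟶ K, (x ≫ g) * (h ≫ u) * (x ≫ g)⁻¹ = κ ≫ k :=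
    fun X g => ⟨fun H0 X' x h => (key X g X' x h (hback X g X' x h)).mp (H0 _ _ _ _),
      fun H0 Xs a v w => hall X g (fun _ _ => True) (fun X' x h _ => H0 X' x h) Xs a v w trivial⟩
  refine ⟨⟨Over.mk (t ≫ G.hom), Over.homMk t, ht, fun X g => ?_⟩, fun hG => ?_⟩
  · rw [← hfull, ← hmain]
    exact ⟨fun ⟨z, hz⟩ => ⟨z.left, congrArg (fun m : X ⟶ G => m.left) hz⟩, fun ⟨z, hz⟩ =>
      ⟨Over.homMk z (by show z ≫ t ≫ G.hom = X.hom; rw [reassoc_of% hz, Over.w g]), Over.OverMorphism.ext hz⟩⟩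
  obtain ⟨⟨n, hn⟩, hd'⟩ := hN hG
  refine ⟨n, hn, fun X g => ⟨fun H0 X' x h _ => H0 X' x h, fun H0 => (hfull X g).mp ((hd' _ _).mpr ?_)⟩⟩
  intro Xs a v w
  exact hall X g (fun X' h => h ^ n = 1) H0 Xs _ v w
    ((Groth.Agent.H21Dense.pow_eq_one_iff _ n).mpr ⟨a, rfl⟩)

end Groth.Agent.S6066
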