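import Groth.Statements.S6070
import Groth.Agent.H21Adic.TorsionKernel
import Groth.Agent.H21Adic.LevelHom
import Groth.Agent.S5294
import Groth.Agent.H19Grp.GrpdSep
import Groth.Agent.H19Grp.SepFG

set_option autoImplicit false
open CategoryTheory MonoidalCategory CartesianMonoidalCategory MonObj GrpObj AlgebraicGeometry
universe u
open SGA3x

set_option linter.style.haveILetI false
set_option linter.unusedSectionVars false
set_option backward.isDefEq.respectTransparency false
set_option synthInstance.maxHeartbeats 400000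
set_option maxHeartbeats 1000000

namespace Groth.Agent.S6070

open Limits H21Adic H21Diag

/-- A point over the closed subscheme as a point of the base change. -/
noncomputable def ptQ {R R' : Type u} [CommRing R] [CommRing R'] {a : R →+* R'} {Y X : Over (Spec (CommRingCat.of R))}
    (p : X ⟶ Tst a) (z : X ⟶ Y) : pack p ⟶ Red.bc (Spec.map (CommRingCat.ofHom a)) Y :=
  bcEquiv _ Y (pack p) ((packIso p).inv ≫ z)

theorem ptQ_back {R R' : Type u} [CommRing R] [CommRing R'] {a : R →+* R'} {Y X : Over (Spec (CommRingCat.of R))}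
    [GrpObj Y] (p : X ⟶ Tst a) (z : X ⟶ Y) : (packIso p).hom ≫ bcHom _ Y _ (ptQ p z) = z := by
  rw [show bcHom _ Y _ (ptQ p z) = (packIso p).inv ≫ z from (bcEquiv _ Y _).symm_apply_apply _, Iso.hom_inv_id_assoc]

theorem ptQ_comp {R R' : Type u} [CommRing R] [CommRing R'] {a : R →+* R'} {Y Y' X : Over (Spec (CommRingCat.of R))}
    [GrpObj Y] [GrpObj Y'] (p : X ⟶ Tst a) (z : X ⟶ Y) (v : Y ⟶ Y') :
    ptQ p (z ≫ v) = ptQ p z ≫ (Over.pullback _).map v := by
  apply (bcEquiv _ Y' (pack p)).symm.injective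
  change bcHom _ Y' _ (ptQ p (z ≫ v)) = bcHom _ Y' _ _
  rw [bcHom_comp, show bcHom _ Y' _ (ptQ p (z ≫ v)) = _ from (bcEquiv _ Y' _).symm_apply_apply _,
    show bcHom _ Y _ (ptQ p z) = _ from (bcEquiv _ Y _).symm_apply_apply _, Category.assoc]

theorem ptQ_pow {R R' : Type u} [CommRing R] [CommRing R'] {a : R →+* R'} {Y X : Over (Spec (CommRingCat.of R))}
    [GrpObj Y] (p : X ⟶ Tst a) (z : X ⟶ Y) (n : ℕ) : ptQ p (z ^ n) = ptQ p z ^ n := by
  apply (bcEquiv _ Y (pack p)).symm.injective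
  change bcHom _ Y _ (ptQ p (z ^ n)) = bcHom _ Y _ (ptQ p z ^ n)
  rw [map_pow, show bcHom _ Y _ (ptQ p z) = _ from (bcEquiv _ Y _).symm_apply_apply _,
    show bcHom _ Y _ (ptQ p (z ^ n)) = _ from (bcEquiv _ Y _).symm_apply_apply _, MonObj.comp_pow]

/-- In lifting form: what formal smoothness of the morphism H ↦ ₙH of the functor of multiplicative
subgroups means. Let S = Spec R be affine, J a nilpotent ideal of R, S₀ = Spec (R/J), n a natural
number and G an S-group which is smooth over S. Let j₀ : H₀ ⟶ G₀ = G ×_S S₀ be a sub-group-scheme (a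
homomorphism which is an immersion) of multiplicative type (fpqc-locally isomorphic, as a group, to
diagonalisable groups D(M), M allowed to vary and taken in Type 0), and l : L ⟶ G a sub-group-scheme
of multiplicative type whose base change to S₀ is the n-torsion of H₀ inside G₀: a point of G₀
factors through L ×_S S₀ if and only if it is j₀(h) for a point h of H₀ with h^n = 1. Then there is
a sub-group-scheme j : H ⟶ G of multiplicative type whose base change to S₀ coincides with H₀ as a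
subgroup of G₀ (an isomorphism compatible with the maps to G₀) and whose n-torsion is L: a point of
G factors through L if and only if it is j(h) for a point h of H with h^n = 1. -/
theorem result {R : Type u} [CommRing R] (J : Ideal R) (hJ : IsNilpotent J) (n : ℕ)
    (G : Over (Spec (CommRingCat.of R))) [GrpObj G] (hG : Smooth G.hom)
    (H₀ : Over (Spec (CommRingCat.of (R ⧸ J)))) [GrpObj H₀]
    (hH₀ : TwC.Locally (Spec (CommRingCat.of (R ⧸ J))) TwC.Topology.fpqc (fun S' f => ∃ (M : Type) (_ : AddCommGroup M), Nonempty (Grp.mk (Red.bc f H₀) ≅ Grp.mk (Red.DS S' M))))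
    (j₀ : H₀ ⟶ Red.bc (Spec.map (CommRingCat.ofHom (Ideal.Quotient.mk J))) G) [IsMonHom j₀] [IsImmersion j₀.left]
    (L : Over (Spec (CommRingCat.of R))) [GrpObj L] (hL : TwC.Locally (Spec (CommRingCat.of R)) TwC.Topology.fpqc (fun S' f => ∃ (M : Type) (_ : AddCommGroup M), Nonempty (Grp.mk (Red.bc f L) ≅ Grp.mk (Red.DS S' M))))
    (l : L ⟶ G) [IsMonHom l] [IsImmersion l.left]
    (hL0 : ∀ (X : Over (Spec (CommRingCat.of (R ⧸ J)))) (g : X ⟶ Red.bc (Spec.map (CommRingCat.ofHom (Ideal.Quotient.mk J))) G),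
      (∃ y : X ⟶ Red.bc (Spec.map (CommRingCat.ofHom (Ideal.Quotient.mk J))) L, y ≫ (Over.pullback (Spec.map (CommRingCat.ofHom (Ideal.Quotient.mk J)))).map l = g) ↔
        ∃ h : X ⟶ H₀, h ^ n = 1 ∧ h ≫ j₀ = g) :
    ∃ (H : Over (Spec (CommRingCat.of R))) (_ : GrpObj H) (j : H ⟶ G), IsMonHom j ∧ IsImmersion j.left ∧
      TwC.Locally (Spec (CommRingCat.of R)) TwC.Topology.fpqc (fun S' f => ∃ (M : Type) (_ : AddCommGroup M), Nonempty (Grp.mk (Red.bc f H) ≅ Grp.mk (Red.DS S' M))) ∧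
      (∃ φ : Red.bc (Spec.map (CommRingCat.ofHom (Ideal.Quotient.mk J))) H ≅ H₀, φ.hom ≫ j₀ = (Over.pullback (Spec.map (CommRingCat.ofHom (Ideal.Quotient.mk J)))).map j) ∧
      ∀ (X : Over (Spec (CommRingCat.of R))) (g : X ⟶ G),
        (∃ y : X ⟶ L, y ≫ l = g) ↔ ∃ h : X ⟶ H, h ^ n = 1 ∧ h ≫ j = g := by
  let q := Spec.map (CommRingCat.ofHom (Ideal.Quotient.mk J))
  obtain ⟨H, _, j, _, _, hHft, φ, _, hφ⟩ := exists_multType_subgroup_lift J hJ G hG H₀ hH₀ j₀
  have hH : IsDiagLoc H := isDiagLoc_of_isMultTypeFT hHft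
  haveI : Mono j := Over.mono_of_mono_left j
  haveI : Mono l := Over.mono_of_mono_left l
  haveI : Mono j₀ := Over.mono_of_mono_left j₀
  let f : H ⟶ H := (𝟙 H : H ⟶ H) ^ n
  have hf : ∀ {X : Over (Spec (CommRingCat.of R))} (x : X ⟶ H), x ≫ f = x ^ n := fun x => by
    rw [MonObj.comp_pow, Category.comp_id]
  haveI : IsMonHom f := isMonHom_of_mul _ fun x y => by
    rw [hf, hf, hf]
    exact Commute.mul_pow (mult_comm hHft x y) n
  obtain ⟨K, _, k, _, hker⟩ := H21Split.Corad.exists_kernel_over f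
  have hK : IsDiagLoc K := isDiagLoc_kernel_pow hH k n hker
  have hkn : ∀ {X : Over (Spec (CommRingCat.of R))} (x : X ⟶ K), (x ≫ k) ^ n = 1 := fun {X} x => by
    rw [← hf, Category.assoc, hker.w, ← Category.assoc, toUnit_unique (x ≫ toUnit K) (toUnit X), Hom.one_def]
  have hkl : ∀ {X : Over (Spec (CommRingCat.of R))} (x : X ⟶ H), x ^ n = 1 → ∃ y, y ≫ k = x := fun {X} x hx =>
    ⟨hker.lift x (toUnit X) (by rw [hf, hx, Hom.one_def]), hker.lift_fst _ _ _⟩
  haveI : IsImmersion k.left := by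
    haveI : IsAffineHom H.hom := isAffineHom_of_diagLoc hH
    haveI : IsSeparated H.hom := inferInstance
    haveI : IsClosedImmersion η[H].left := (H19Grp.isSeparated_iff_isClosedImmersion_one H).mp inferInstance
    have hk' := hker.map (Over.forget _)
    exact MorphismProperty.of_isPullback (P := @IsImmersion) hk'.flip
      (inferInstanceAs (IsImmersion η[H].left))
  haveI : IsImmersion (k ≫ j).left := by rw [Over.comp_left]; infer_instance
  obtain ⟨g, hg, ψ, hψ⟩ := S5294.result J hJ G K L hG hK hL (k ≫ j) l 1 fun X p => by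
    refine ⟨fun x => ?_, fun y => ?_⟩
    · have hb : (ptQ p (x ≫ k) ≫ φ.hom) ^ n = 1 := by
        rw [← H21EtPt.pow_comp (ptQ p (x ≫ k)) φ.hom n, ← ptQ_pow, hkn]
        refine Eq.trans (congrArg (· ≫ φ.hom) ?_) (MonObj.one_comp φ.hom)
        apply (bcEquiv q H (pack p)).symm.injective
        change bcHom q H _ (ptQ p 1) = bcHom q H _ 1
        rw [map_one, show bcHom q H _ (ptQ p 1) = _ from (bcEquiv q H _).symm_apply_apply _, MonObj.comp_one]
      obtain ⟨y, hy⟩ := (hL0 _ (ptQ p (x ≫ k ≫ j))).mpr ⟨_, hb, by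
        rw [Category.assoc, hφ, ← ptQ_comp, Category.assoc]⟩
      refine ⟨(packIso p).hom ≫ bcHom q L _ y, ?_⟩
      rw [MonObj.comp_one, inv_one, _root_.one_mul, _root_.mul_one, Category.assoc, ← bcHom_comp, hy, ptQ_back]
    · obtain ⟨h₀, hh₀, hh₀'⟩ := (hL0 _ (ptQ p (y ≫ l))).mp ⟨ptQ p y, (ptQ_comp p y l).symm⟩
      have hn' : (h₀ ≫ φ.inv) ^ n = 1 := by
        rw [← cancel_mono φ.hom, H21EtPt.pow_comp, Category.assoc, φ.inv_hom_id, Category.comp_id, hh₀,
          MonObj.one_comp]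
      obtain ⟨x, hx⟩ := hkl ((packIso p).hom ≫ bcHom q H _ (h₀ ≫ φ.inv))
        (by rw [← MonObj.comp_pow, ← map_pow, hn', map_one, MonObj.comp_one])
      refine ⟨x, ?_⟩
      rw [MonObj.comp_one, inv_one, _root_.one_mul, _root_.mul_one, ← Category.assoc x k, hx, Category.assoc,
        ← bcHom_comp, Category.assoc, ← hφ, φ.inv_hom_id_assoc, hh₀', ptQ_back]
  let c : G ≅ G :=
    { hom := (toUnit G ≫ g) * 𝟙 G * (toUnit G ≫ g)⁻¹
      inv := (toUnit G ≫ g)⁻¹ * 𝟙 G * (toUnit G ≫ g)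
      hom_inv_id := by
        simp only [MonObj.comp_mul, GrpObj.comp_inv, Category.comp_id]
        rw [← Category.assoc, toUnit_unique (_ ≫ toUnit G) (toUnit G)]
        group
      inv_hom_id := by
        simp only [MonObj.comp_mul, GrpObj.comp_inv, Category.comp_id]
        rw [← Category.assoc, toUnit_unique (_ ≫ toUnit G) (toUnit G)]
        group }
  let j' : H ⟶ G := j ≫ c.hom
  have hj' : ∀ {X : Over (Spec (CommRingCat.of R))} (h : X ⟶ H),
      h ≫ j' = (toUnit X ≫ g) * (h ≫ j) * (toUnit X ≫ g)⁻¹ := fun {X} h => by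
    simp only [j', c, MonObj.comp_mul, GrpObj.comp_inv, Category.comp_id, ← Category.assoc,
      toUnit_unique ((h ≫ j) ≫ toUnit G) (toUnit X)]
  haveI : IsMonHom j' := isMonHom_of_mul _ fun x y => by
    rw [hj', hj', hj', MonObj.mul_comp]; group
  haveI : IsImmersion j'.left := by
    haveI : IsIso c.hom.left := ((Over.forget _).mapIso c).isIso_hom
    rw [Over.comp_left]
    infer_instance
  refine ⟨H, inferInstance, j', inferInstance, inferInstance, hH, ⟨φ, ?_⟩, fun X z => ?_⟩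
  · rw [hφ]
    apply (bcEquiv q G (Red.bc q H)).symm.injective
    rw [← H21EtPt.eps_comp, ← H21EtPt.eps_comp, hj']
    let p : (Over.map q).obj (Red.bc q H) ⟶ Tst (Ideal.Quotient.mk J) := Over.homMk (Red.bc q H).hom rfl
    rw [← toUnit_unique (p ≫ toUnit _) (toUnit _), Category.assoc, hg, MonObj.comp_one, inv_one, _root_.one_mul,
      _root_.mul_one]
  · have hc : (toUnit K ≫ g) * (k ≫ j) * (toUnit K ≫ g)⁻¹ = k ≫ j' := (hj' k).symm
    rw [hc] at hψ
    refine ⟨fun ⟨y, hy⟩ => ⟨(y ≫ ψ.inv) ≫ k, hkn _, ?_⟩, fun ⟨h, hh, hh'⟩ => ?_⟩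
    · rw [Category.assoc, hψ, ← Category.assoc, Category.assoc y, ψ.inv_hom_id, Category.comp_id, hy]
    · obtain ⟨x, hx⟩ := hkl h hh
      exact ⟨x ≫ ψ.hom, by rw [Category.assoc, ← hψ, ← Category.assoc, hx, hh']⟩

end Groth.Agent.S6070
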