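import Groth.Statements.S6072
import Groth.Agent.H19Mult.DatumHensel
import Groth.Agent.H19Mult.SplitField
import Groth.Agent.H19Mult.FiniteDual

set_option autoImplicit false
set_option linter.style.haveILetI false
set_option backward.isDefEq.respectTransparency false
universe u
open TensorProduct SGA3b
open SGA3b

namespace Groth.Agent.S6072

open Groth.Agent.H19Mult IsLocalRing

theorem core (R : Type u) [CommRing R] (I : Ideal R) [HenselianRing R I] (C₀ : Type u) [CommRing C₀]
    [HopfAlgebra (R ⧸ I) C₀] [Module.Finite (R ⧸ I) C₀] [Nontrivial R] (h : SGA3b.IsIsotrivial (R ⧸ I) C₀) :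
    ∃ (C : Type u) (_ : CommRing C) (_ : HopfAlgebra R C), Module.Finite R C ∧ SGA3b.IsIsotrivial R C ∧
      Nonempty (((R ⧸ I) ⊗[R] C) ≃ₐc[R ⧸ I] C₀) := by
  obtain ⟨C, _, _, hiso, ⟨e⟩⟩ := exists_isotrivial_lift I C₀ h
  refine ⟨C, inferInstance, inferInstance, ?_, hiso, ⟨e⟩⟩
  obtain ⟨T, _, _, -, hfin, hff, M, _, ⟨eC⟩⟩ := hiso
  haveI := hfin
  haveI := hff
  haveI : Finite M := by
    have hI : I ≠ ⊤ := fun ht => by
      obtain ⟨m, hm⟩ := Ideal.exists_maximal R
      exact hm.ne_top (top_le_iff.1 (ht ▸ (HenselianRing.jac (I := I)).trans (sInf_le ⟨bot_le, hm⟩)))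
    haveI : Nontrivial (R ⧸ I) := Ideal.Quotient.nontrivial_iff.2 hI
    haveI : Module.Finite (R ⧸ I) ((R ⧸ I) ⊗[R] C) :=
      Module.Finite.equiv (e.symm : C₀ ≃ₐ[R ⧸ I] ((R ⧸ I) ⊗[R] C)).toLinearEquiv
    let T₁ := (R ⧸ I) ⊗[R] T
    letI : Algebra T T₁ := Algebra.TensorProduct.rightAlgebra
    obtain ⟨e₁, -⟩ := exists_chart_map eC T₁
    haveI : Module.FaithfullyFlat (R ⧸ I) T₁ := inferInstance
    haveI : Nontrivial T₁ := (algebraMap (R ⧸ I) T₁).domain_nontrivial.casesOn fun h => inferInstance
    exact finite_type_of_chart ((cancelEquiv (R := R) (A := C) (R ⧸ I) T₁).trans e₁)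
  haveI : Module.Finite T (MonoidAlgebra T M) := inferInstance
  haveI : Module.Finite T (T ⊗[R] C) := Module.Finite.equiv (eC.symm : MonoidAlgebra T M ≃ₐ[T] (T ⊗[R] C)).toLinearEquiv
  exact Module.Finite.of_finite_tensorProduct_of_faithfullyFlat T


/-- Let R be a henselian local ring with residue field k and H₀ = Spec C₀ a k-group of multiplicative
type which is finite over k. Then H₀ lifts to R: there is an R-group H = Spec C of multiplicative
type, finite over R and isotrivial, together with an isomorphism of k-groups H ×_R k ≅ H₀, i.e. a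
bialgebra isomorphism k ⊗_R C ≅ C₀ (existence of an isomorphism; the lift is determined up to
isomorphism only). (Affine group schemes over an affine base are taken in Hopf-algebra form; base
change is the tensor product.) -/
theorem result (R : Type u) [CommRing R] [HenselianLocalRing R]
    (C₀ : Type u) [CommRing C₀] [HopfAlgebra (IsLocalRing.ResidueField R) C₀] [Module.Finite (IsLocalRing.ResidueField R) C₀]
    (h₀ : IsMultType (IsLocalRing.ResidueField R) C₀) :
    ∃ (C : Type u) (_ : CommRing C) (_ : HopfAlgebra R C), Module.Finite R C ∧ IsIsotrivial R C ∧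
      Nonempty ((IsLocalRing.ResidueField R ⊗[R] C) ≃ₐc[IsLocalRing.ResidueField R] C₀) := by
  obtain ⟨k', _, _, hfin, hsep, M, _, -, ⟨e⟩⟩ :=
    exists_split_separable (k := ResidueField R) (A := C₀) inferInstance h₀
  haveI := hfin
  haveI := hsep
  haveI : Algebra.FormallyEtale (ResidueField R) k' := Algebra.FormallyEtale.of_isSeparable _ _
  haveI : Algebra.FinitePresentation (ResidueField R) k' := Algebra.FinitePresentation.of_finiteType.1 inferInstance
  haveI : Algebra.Etale (ResidueField R) k' := {}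
  have h : SGA3b.IsIsotrivial (ResidueField R) C₀ :=
    ⟨k', inferInstance, inferInstance, inferInstance, inferInstance, inferInstance, M, inferInstance, ⟨e⟩⟩
  letI hC : HopfAlgebra (R ⧸ maximalIdeal R) C₀ := ‹HopfAlgebra (ResidueField R) C₀›
  haveI : Module.Finite (R ⧸ maximalIdeal R) C₀ := ‹Module.Finite (ResidueField R) C₀›
  exact core R (maximalIdeal R) C₀ h

end Groth.Agent.S6072
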