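import Groth.Statements.S6074
import Groth.Agent.H06GenSub.Borel

set_option autoImplicit false
universe u
open CategoryTheory CategoryTheory.Limits MonoidalCategory CartesianMonoidalCategory MonObj GrpObj AlgebraicGeometry
open SGA3

namespace Groth.Agent.S6074

open Groth.Agent.H06GenSub
open scoped CategoryTheory.Obj

set_option maxHeartbeats 1000000
set_option backward.isDefEq.respectTransparency false

variable {k : Type u} [Field k]

/-- Words are mapped to words by base change. -/
theorem isWord_map {S : Scheme.{u}} (σ : S ⟶ Spec (CommRingCat.of k)) {G X : Over (Spec (CommRingCat.of k))}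
    [GrpObj G] (f : X ⟶ G) (l : List (PUnit.{u+1} × Bool)) :
    IsWord (X := fun _ : PUnit.{u+1} => Red.bc σ X) (single ((Over.pullback σ).map f))
      ((Over.pullback σ).map (word (X := fun _ : PUnit.{u+1} => X) (single f) l)) := by
  induction l with
  | nil =>
    have h : (Over.pullback σ).map (1 : 𝟙_ (Over (Spec (CommRingCat.of k))) ⟶ G) = 1 := Functor.map_one _
    show IsWord _ ((Over.pullback σ).map (1 : 𝟙_ (Over (Spec (CommRingCat.of k))) ⟶ G))
    rw [h]
    exact isWord_one
  | cons a l ih =>
    obtain ⟨j, b⟩ := a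
    show IsWord _ ((Over.pullback σ).map (sgn b (fst X _ ≫ f) * (snd X _ ≫ word (single f) l)))
    rw [Functor.map_mul]
    refine isWord_mul ?_ (by rw [Functor.map_comp]; exact isWord_comp _ ih)
    have h1 := isWord_sgn (f := single ((Over.pullback σ).map f)) (j := PUnit.unit) b
      ((Over.pullback σ).map (fst X (wordSrc (fun _ : PUnit.{u+1} => X) l)))
    have h2 : (Over.pullback σ).map (sgn b (fst X (wordSrc (fun _ : PUnit.{u+1} => X) l) ≫ f)) =
        sgn b ((Over.pullback σ).map (fst X (wordSrc (fun _ : PUnit.{u+1} => X) l)) ≫ (Over.pullback σ).map f) := by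
      rw [← Functor.map_comp]
      cases b <;> simp [sgn]
    rw [h2]
    exact h1

/-- Word sets of a base change lie over word sets. -/
theorem fst_mem_lenSet {S : Scheme.{u}} (σ : S ⟶ Spec (CommRingCat.of k)) {G X : Over (Spec (CommRingCat.of k))}
    [GrpObj G] (f : X ⟶ G) {n : ℕ} {x : (Red.bc σ G).left}
    (hx : x ∈ lenSet ((Over.pullback σ).map f) n) :
    CategoryTheory.Limits.pullback.fst G.hom σ x ∈ lenSet f n := by
  obtain ⟨T, t, L, hL, rfl⟩ := hx
  have hsurj : ∀ p : T ⟶ Red.bc σ X, ∃ g : (Over.map σ).obj T ⟶ X, pull σ g = p := fun p => by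
    refine ⟨Over.homMk (p.left ≫ CategoryTheory.Limits.pullback.fst X.hom σ) ?_, ?_⟩
    · show _ = T.hom ≫ σ
      rw [Category.assoc, CategoryTheory.Limits.pullback.condition, ← Category.assoc]
      exact congrArg (· ≫ σ) (Over.w p)
    · apply Over.OverMorphism.ext
      apply CategoryTheory.Limits.pullback.hom_ext
      · exact pull_fst σ _
      · rw [pull_snd]; exact (Over.w p).symm
  choose g hg using hsurj
  have key : ∀ L : List (Bool × (T ⟶ Red.bc σ X)),
      lprod ((Over.pullback σ).map f) L = pull σ (lprod f (L.map fun p => (p.1, g p.2))) := by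
    intro L
    induction L with
    | nil =>
      rw [lprod, List.map_nil, List.prod_nil, List.map_nil, show lprod f ([] : List (Bool × ((Over.map σ).obj T ⟶ X))) = 1 from rfl,
        pull_eq σ (1 : (Over.map σ).obj T ⟶ G)]
      have h : (Over.pullback σ).map (1 : (Over.map σ).obj T ⟶ G) = 1 := Functor.map_one _
      rw [h]
      exact (MonObj.comp_one _).symm
    | cons a L ih =>
      have hgen : sgn a.1 (a.2 ≫ (Over.pullback σ).map f) = pull σ (sgn a.1 (g a.2 ≫ f)) := by
        have h1 : a.2 ≫ (Over.pullback σ).map f = pull σ (g a.2 ≫ f) := by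
          rw [pull_eq σ (g a.2 ≫ f), Functor.map_comp, ← Category.assoc, ← pull_eq, hg]
        rw [h1]
        cases a.1
        · simp only [sgn, Bool.false_eq_true, if_false]
          exact (pull_inv σ _).symm
        · rfl
      rw [lprod, List.map_cons, List.prod_cons, List.map_cons, lprod, List.map_cons, List.prod_cons, pull_mul,
        ← hgen]
      exact congrArg _ ih
  refine ⟨_, t, L.map fun p => (p.1, g p.2), by rw [List.length_map, hL], ?_⟩
  rw [key]
  exact ((Scheme.Hom.comp_apply _ _ _).symm.trans (congrArg (fun φ : T.left ⟶ G.left => φ t) (pull_fst σ _))).symm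

/-- Let k be a field, G a group scheme locally of finite type over k, X a k-scheme of finite type,
geometrically reduced and geometrically connected, and f : X → G a k-morphism whose image contains
the unit point of G. Let i : Γ → G be the smallest closed subgroup scheme of G through which f
factors. Then there is a natural number N such that the underlying set of Γ is the set of points of
G lying under a word of length N in f: a point g of G is in the image of i if and only if there are
a k-scheme T, a point p of T, T-valued points x_1, …, x_N of X and signs such that the T-valued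
point f(x_1)^{±1} ⋯ f(x_N)^{±1} of G maps p to g. (The set of points of G lying under words of
length exactly N is the image of the N-th iterated word morphism X^N → G built from f and its
inverse.) -/
theorem result (k : Type u) [Field k]
    (G X : Over (Spec (CommRingCat.of k))) [GrpObj G] [LocallyOfFiniteType G.hom]
    [LocallyOfFiniteType X.hom] [QuasiCompact X.hom] [GeometricallyReduced X.hom] [GeometricallyConnected X.hom]
    (f : X ⟶ G) (he : ∃ x : X.left, f.left.base x ∈ Set.range (η[G] : 𝟙_ (Over (Spec (CommRingCat.of k))) ⟶ G).left.base)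
    (Γ : Over (Spec (CommRingCat.of k))) [GrpObj Γ] (i : Γ ⟶ G) [IsMonHom i] [IsClosedImmersion i.left]
    (hf : ∃ f' : X ⟶ Γ, f' ≫ i = f)
    (hmin : ∀ (Γ' : Over (Spec (CommRingCat.of k))) (_ : GrpObj Γ') (i' : Γ' ⟶ G), IsMonHom i' → IsClosedImmersion i'.left →
        (∃ f'' : X ⟶ Γ', f'' ≫ i' = f) → ∃ j : Γ ⟶ Γ', j ≫ i' = i) :
    ∃ N : ℕ, Set.range i.left.base =
      {g : G.left | ∃ (T : Over (Spec (CommRingCat.of k))) (p : T.left) (x : Fin N → (T ⟶ X)) (ε : Fin N → Bool),
        ((List.ofFn fun j : Fin N => if ε j then x j ≫ f else (x j ≫ f)⁻¹).prod : T ⟶ G).left.base p = g} := by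
  haveI : ∀ _j : PUnit.{u+1}, GeometricallyReduced X.hom := fun _ => inferInstance
  obtain ⟨e, he'⟩ := range_smallest (X := fun _ : PUnit.{u+1} => X) (single f) i (fun _ => hf)
    fun Γ₁ h₁ i₁ hm hc hfac => hmin Γ₁ h₁ i₁ hm hc (hfac PUnit.unit)
  obtain ⟨instg, hιg⟩ := exists_grpObj_gen (X := fun _ : PUnit.{u+1} => X) (single f)
  letI := instg
  haveI := hιg
  let G₀ := gen (X := fun _ : PUnit.{u+1} => X) (single f)
  let ι₀ : G₀ ⟶ G := genι (single f)
  haveI : IsReduced G₀.left := isReduced_gen _
  haveI : LocallyOfFiniteType G₀.hom :=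
    inferInstanceAs (LocallyOfFiniteType ((genIdeal (single f)).subschemeι ≫ G.hom))
  haveI : IsSeparated G₀.hom := H19Grp.AffineQuotient.isSeparated_of_grp G₀
  obtain ⟨f₀, hf₀⟩ := exists_gen_lift (X := fun _ : PUnit.{u+1} => X) (single f) PUnit.unit
  have hword : ∀ l : List (PUnit.{u+1} × Bool),
      word (X := fun _ : PUnit.{u+1} => X) (single f₀) l ≫ ι₀ = word (single f) l := by
    intro l
    induction l with
    | nil => exact MonObj.one_comp ι₀
    | cons a l ih =>
      obtain ⟨j, b⟩ := a
      show (sgn b (fst X _ ≫ f₀) * (snd X _ ≫ word (single f₀) l)) ≫ ι₀ =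
        sgn b (fst X _ ≫ f) * (snd X _ ≫ word (single f) l)
      rw [MonObj.mul_comp, Category.assoc, ih]
      congr 1
      have hff : (fst X (wordSrc (fun _ : PUnit.{u+1} => X) l) ≫ f₀) ≫ ι₀ =
          fst X (wordSrc (fun _ : PUnit.{u+1} => X) l) ≫ f := by
        rw [Category.assoc]; exact congrArg _ hf₀
      cases b
      · simp only [sgn, Bool.false_eq_true, if_false]
        rw [GrpObj.inv_comp, hff]
      · exact hff
  -- the unit lies in the image
  obtain ⟨x, z, hz⟩ := he
  have hη : η[G] = (η[G₀] ≫ ι₀ : 𝟙_ (Over (Spec (CommRingCat.of k))) ⟶ G) := (IsMonHom.one_hom (f := ι₀)).symm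
  have hx₀ : f₀.left x = η[G₀].left z := by
    apply (ι₀.left.isClosedEmbedding).injective
    rw [← Scheme.Hom.comp_apply, ← Over.comp_left, hf₀, ← Scheme.Hom.comp_apply, ← Over.comp_left, ← hη]
    exact hz.symm
  -- base change to the algebraic closure
  let K := AlgebraicClosure k
  let σ : Spec (CommRingCat.of K) ⟶ Spec (CommRingCat.of k) := Spec.map (CommRingCat.ofHom (algebraMap k K))
  let F := Over.pullback σ
  haveI : LocallyOfFiniteType (Red.bc σ G₀).hom :=
    inferInstanceAs (LocallyOfFiniteType (CategoryTheory.Limits.pullback.snd G₀.hom σ))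
  haveI : LocallyOfFiniteType (Red.bc σ X).hom :=
    inferInstanceAs (LocallyOfFiniteType (CategoryTheory.Limits.pullback.snd X.hom σ))
  haveI : QuasiCompact (Red.bc σ X).hom :=
    inferInstanceAs (QuasiCompact (CategoryTheory.Limits.pullback.snd X.hom σ))
  haveI : ConnectedSpace (Red.bc σ X).left :=
    GeometricallyConnected.geometrically_connectedSpace (f := X.hom) σ
      (CategoryTheory.Limits.pullback.fst X.hom σ) (CategoryTheory.Limits.pullback.snd X.hom σ)
      (.of_hasPullback _ _)
  haveI : Surjective σ := ⟨fun p => ⟨IsLocalRing.closedPoint K, Subsingleton.elim _ _⟩⟩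
  have heK : (1 : 𝟙_ (Over (Spec (CommRingCat.of K))) ⟶ Red.bc σ G₀).left Borel.pt₀ ∈
      Set.range (F.map f₀).left := by
    have hone : (1 : 𝟙_ (Over (Spec (CommRingCat.of k))) ⟶ G₀) = η[G₀] := by
      rw [Hom.one_def, Subsingleton.elim (toUnit (𝟙_ (Over (Spec (CommRingCat.of k))))) (𝟙 _), Category.id_comp]
    obtain ⟨T', q, t', v, -, hv⟩ := exists_lift_point (1 : 𝟙_ (Over (Spec (CommRingCat.of k))) ⟶ G₀) z f₀
      ⟨x, by rw [hone]; exact hx₀⟩
    obtain ⟨s, -⟩ := (CategoryTheory.Limits.pullback.fst T'.hom σ).surjective t'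
    have h1 : F.map v ≫ F.map f₀ = 1 := by
      rw [← Functor.map_comp, hv, MonObj.comp_one]
      exact Functor.map_one F
    refine ⟨(F.map v).left s, ?_⟩
    rw [← Scheme.Hom.comp_apply, ← Over.comp_left, h1,
      ← MonObj.comp_one (toUnit (F.obj T')) (M := Red.bc σ G₀), Over.comp_left, Scheme.Hom.comp_apply,
      Borel.eq_pt₀ ((toUnit (F.obj T')).left s)]
  obtain ⟨N, h, hh, hdense⟩ := Borel.exists_generic (F.map f₀) heK
  have hD : Dense (lenSet f₀ N) := by
    have hd : Dense (⋃ l, Set.range (F.map (wordLift (X := fun _ : PUnit.{u+1} => X) (single f) l)).left) := by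
      have H₀ : CategoryTheory.IsPullback (CategoryTheory.Limits.pullback.fst G₀.hom σ)
          (CategoryTheory.Limits.pullback.snd G₀.hom σ) G₀.hom σ := .of_hasPullback _ _
      refine dense_of_dominant (H06Sep.dominant_field G₀.hom H₀
        (g' := fun l => CategoryTheory.Limits.pullback.fst (wordSrc (fun _ : PUnit.{u+1} => X) l).hom σ)
        (fun l => ?_) (dominant_wordLift (X := fun _ : PUnit.{u+1} => X) (single f)))
      refine H06Sep.isPullback_member H₀
        (r := CategoryTheory.Limits.pullback.snd (wordSrc (fun _ : PUnit.{u+1} => X) l).hom σ) ?_ ?_ ?_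
      · rw [Over.w (wordLift (X := fun _ : PUnit.{u+1} => X) (single f) l)]
        exact .of_hasPullback _ _
      · simp [F, G₀]
      · simp [F, G₀]
    have hsub : (⋃ l, Set.range (F.map (wordLift (X := fun _ : PUnit.{u+1} => X) (single f) l)).left) ⊆
        closure {h} := by
      refine Set.iUnion_subset fun l => ?_
      have hl : wordLift (X := fun _ : PUnit.{u+1} => X) (single f) l = word (single f₀) l := by
        rw [← cancel_mono (genι (single f)), wordLift_ι]
        exact (hword l).symm
      rw [hl]
      refine (range_subset_wordSet (isWord_map σ f₀ l)).trans ?_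
      rw [wordSet_single]
      exact hdense
    intro y
    obtain ⟨y', rfl⟩ := (CategoryTheory.Limits.pullback.fst G₀.hom σ).surjective y
    have h1 : h ⤳ y' := specializes_iff_mem_closure.mpr
      (closure_minimal (hsub.trans subset_rfl) isClosed_closure (hd y'))
    exact closure_mono (Set.singleton_subset_iff.mpr (fst_mem_lenSet σ f₀ hh))
      (h1.map (CategoryTheory.Limits.pullback.fst G₀.hom σ).continuous).mem_closure
  have hc : Topology.IsLocallyConstructible (lenSet f₀ N) := by
    haveI : IsLocallyNoetherian G₀.left := LocallyOfFiniteType.isLocallyNoetherian G₀.hom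
    have hsrc : ∀ l : List (PUnit.{u+1} × Bool),
        QuasiCompact (wordSrc (fun _ : PUnit.{u+1} => X) l).hom ∧
          LocallyOfFiniteType (wordSrc (fun _ : PUnit.{u+1} => X) l).hom := by
      intro l
      induction l with
      | nil =>
        exact ⟨inferInstanceAs (QuasiCompact (𝟙 (Spec (CommRingCat.of k)))),
          inferInstanceAs (LocallyOfFiniteType (𝟙 (Spec (CommRingCat.of k))))⟩
      | cons a l ih =>
        haveI := ih.1
        haveI := ih.2
        exact ⟨inferInstanceAs (QuasiCompact (CategoryTheory.Limits.pullback.fst X.hom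
            (wordSrc (fun _ : PUnit.{u+1} => X) l).hom ≫ X.hom)),
          inferInstanceAs (LocallyOfFiniteType (CategoryTheory.Limits.pullback.fst X.hom
            (wordSrc (fun _ : PUnit.{u+1} => X) l).hom ≫ X.hom))⟩
    rw [lenSet_eq_iUnion]
    refine Topology.IsLocallyConstructible.iUnion fun ε => ?_
    let m₀ := word (X := fun _ : PUnit.{u+1} => X) (single f₀) (List.ofFn fun j => (PUnit.unit, ε j))
    obtain ⟨_, _⟩ := hsrc (List.ofFn fun j => (PUnit.unit, ε j))
    haveI : QuasiCompact m₀.left := by
      haveI : QuasiCompact (m₀.left ≫ G₀.hom) := by rw [Over.w m₀]; infer_instance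
      exact .of_comp m₀.left G₀.hom
    haveI : LocallyOfFiniteType m₀.left := by
      haveI : LocallyOfFiniteType (m₀.left ≫ G₀.hom) := by rw [Over.w m₀]; infer_instance
      exact locallyOfFiniteType_of_comp m₀.left G₀.hom
    show Topology.IsLocallyConstructible (Set.range m₀.left)
    rw [← Set.image_univ]
    exact m₀.left.isLocallyConstructible_image (IsRetrocompact.univ.isLocallyConstructible isOpen_univ)
  have hall : ∀ p : G₀.left, p ∈ lenSet f₀ (N + N) := fun p => by
    obtain ⟨Z, z, u, v, hu, hv, huv⟩ := exists_eq_inv_mul ⟨interior _, isOpen_interior⟩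
      (dense_interior_of_isLocallyConstructible hc hD) p
    rw [← huv]
    exact mem_lenSet_mul _ _ z (mem_lenSet_inv u z (interior_subset hu)) (interior_subset hv)
  refine ⟨N + N, ?_⟩
  rw [← lenSet_eq]
  have hr : Set.range i.left = Set.range ι₀.left := by
    rw [← he', Over.comp_left, Scheme.Hom.comp_base, TopCat.coe_comp, Set.range_comp]
    have hs : Set.range e.hom.left = Set.univ := Set.eq_univ_of_forall fun y =>
      ⟨e.inv.left y, by rw [← Scheme.Hom.comp_apply, ← Over.comp_left, e.inv_hom_id]; rfl⟩
    exact (congrArg _ hs).trans Set.image_univ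
  refine hr.trans (Set.Subset.antisymm ?_ ?_)
  · rintro _ ⟨p, rfl⟩
    obtain ⟨T, t, L, hL, rfl⟩ := hall p
    refine ⟨T, t, L, hL, ?_⟩
    have key : ∀ L : List (Bool × (T ⟶ X)), lprod f L = lprod f₀ L ≫ ι₀ := by
      intro L
      induction L with
      | nil => exact (MonObj.one_comp ι₀).symm
      | cons a L ih =>
        rw [lprod, lprod, List.map_cons, List.map_cons, List.prod_cons, List.prod_cons, MonObj.mul_comp]
        refine congrArg₂ (· * ·) ?_ ih
        have hff : (a.2 ≫ f₀) ≫ ι₀ = a.2 ≫ f := by rw [Category.assoc]; exact congrArg _ hf₀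
        cases a.1
        · simp only [sgn, Bool.false_eq_true, if_false]
          rw [GrpObj.inv_comp, hff]
        · exact hff.symm
    rw [key, Over.comp_left, Scheme.Hom.comp_apply]
  · rw [show Set.range ι₀.left = closure (wordSet (X := fun _ : PUnit.{u+1} => X) (single f)) from range_genι _,
      wordSet_single]
    exact (Set.subset_iUnion _ _).trans subset_closure

end Groth.Agent.S6074
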