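import Groth.Statements.S6075
import Groth.Agent.H06GenSub.Rational

set_option autoImplicit false
universe u
open CategoryTheory CategoryTheory.Limits MonoidalCategory CartesianMonoidalCategory MonObj GrpObj AlgebraicGeometry
open SGA3

namespace Groth.Agent.S6075

open Groth.Agent.H06GenSub
set_option backward.isDefEq.respectTransparency false

/-- Let k be an algebraically closed field, G a group scheme locally of finite type over k, X a
geometrically reduced k-scheme locally of finite type, and f : X → G a k-morphism. Consider the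
k-points g of G whose underlying point lies under a word in f: there are a k-scheme T, a point p of
T, n ≥ 0, T-valued points x_1, …, x_n of X and signs such that the T-valued point f(x_1)^{±1} ⋯
f(x_n)^{±1} of G maps p to the point of g. These k-points form exactly the subgroup of G(k)
generated by the k-points of G whose underlying point lies in the image of f. (Words of length zero
are allowed here, so that the unit is on both sides when X is empty; for nonempty X this changes
nothing, while the published statement, with words of positive length only, fails for empty X.) -/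
theorem result (k : Type u) [Field k] [IsAlgClosed k]
    (G X : Over (Spec (CommRingCat.of k))) [GrpObj G] [LocallyOfFiniteType G.hom]
    [LocallyOfFiniteType X.hom] [GeometricallyReduced X.hom] (f : X ⟶ G) :
    {g : 𝟙_ (Over (Spec (CommRingCat.of k))) ⟶ G | ∃ (n : ℕ) (T : Over (Spec (CommRingCat.of k))) (p : T.left) (p₀ : (𝟙_ (Over (Spec (CommRingCat.of k)))).left)
        (x : Fin n → (T ⟶ X)) (ε : Fin n → Bool), ((List.ofFn fun j : Fin n => if ε j then x j ≫ f else (x j ≫ f)⁻¹).prod : T ⟶ G).left.base p = g.left.base p₀} =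
      ((Subgroup.closure {g : 𝟙_ (Over (Spec (CommRingCat.of k))) ⟶ G | ∃ p₀ : (𝟙_ (Over (Spec (CommRingCat.of k)))).left, g.left.base p₀ ∈ Set.range f.left.base} :
        Subgroup (𝟙_ (Over (Spec (CommRingCat.of k))) ⟶ G)) : Set (𝟙_ (Over (Spec (CommRingCat.of k))) ⟶ G)) := by
  ext g
  have hset : {y : 𝟙_ (Over (Spec (CommRingCat.of k))) ⟶ G |
      ∃ (_ : PUnit.{u+1}) (x : 𝟙_ (Over (Spec (CommRingCat.of k))) ⟶ X), x ≫ f = y} =
      {g | ∃ p₀ : (𝟙_ (Over (Spec (CommRingCat.of k)))).left, g.left.base p₀ ∈ Set.range f.left.base} := by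
    ext y
    constructor
    · rintro ⟨-, x, rfl⟩
      exact ⟨Borel.pt₀, x.left Borel.pt₀, (Scheme.Hom.comp_apply _ _ _).symm⟩
    · rintro ⟨p₀, hp⟩
      rw [Borel.eq_pt₀ p₀] at hp
      exact ⟨PUnit.unit, Rational.exists_of_mem_range f y hp⟩
  rw [← hset]
  refine Iff.trans ?_ (Rational.mem_wordSet_iff_mem_closure (X := fun _ : PUnit.{u+1} => X) (f := single f) g)
  rw [wordSet_single, Set.mem_iUnion, Set.mem_setOf_eq]
  constructor
  · rintro ⟨n, T, p, p₀, x, ε, h⟩
    refine ⟨n, ?_⟩
    rw [lenSet_eq, ← Borel.eq_pt₀ p₀]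
    exact ⟨T, p, x, ε, h⟩
  · rintro ⟨n, hn⟩
    rw [lenSet_eq] at hn
    obtain ⟨T, p, x, ε, h⟩ := hn
    exact ⟨n, T, p, Borel.pt₀, x, ε, h⟩

end Groth.Agent.S6075
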