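import Groth.Statements.S6077
import Groth.Agent.H06GenSub.Lists

set_option autoImplicit false
universe u
open CategoryTheory CategoryTheory.Limits MonoidalCategory CartesianMonoidalCategory MonObj GrpObj AlgebraicGeometry
open SGA3
open Groth.Agent.H06GenSub

namespace Groth.Agent.S6077

set_option maxHeartbeats 1000000
set_option backward.isDefEq.respectTransparency false

theorem translate_left {S : Scheme.{u}} {G : Over S} [GrpObj G] (a : 𝟙_ (Over S) ⟶ G) :
    (λ_ G).inv ≫ (a ▷ G) ≫ μ[G] = (toUnit G ≫ a) * 𝟙 G := by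
  rw [Hom.mul_def, ← Category.assoc]
  congr 1
  apply CartesianMonoidalCategory.hom_ext <;> simp

theorem wordSrc_lft {k : Type u} [Field k] {X : Over (Spec (CommRingCat.of k))} [LocallyOfFiniteType X.hom] :
    ∀ l : List (PUnit.{u+1} × Bool), LocallyOfFiniteType (wordSrc (fun _ : PUnit.{u+1} => X) l).hom
  | [] => inferInstanceAs (LocallyOfFiniteType (𝟙 (Spec (CommRingCat.of k))))
  | (_, _) :: l => by
    haveI := wordSrc_lft (X := X) l
    exact inferInstanceAs (LocallyOfFiniteType (CategoryTheory.Limits.pullback.fst X.hom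
      (wordSrc (fun _ : PUnit.{u+1} => X) l).hom ≫ X.hom))

/-- Let k be an algebraically closed field, G a group scheme locally of finite type over k, X a
geometrically reduced k-scheme locally of finite type, f : X → G a k-morphism, and h : H → G a
closed subgroup scheme whose underlying set is contained in the image of f. Let i : Γ → G be the
smallest closed subgroup scheme of G through which f factors. Say that a point of G lies under a
word of length n in f when there are a k-scheme T, a point p of T, T-valued points x_1, …, x_n of X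
and signs such that f(x_1)^{±1} ⋯ f(x_n)^{±1} maps p to it; let Γ'₀ be the set of k-points of G
whose point lies under some word (of any length n ≥ 0). Suppose that Γ'₀ is covered by finitely many
left translates a · H(k) of the image of H(k) in G(k), with the a in Γ'₀ (H(k) has finite index in
Γ'₀). Then there is m such that the underlying set of Γ is the set of points of G lying under a word
of length m, and there are finitely many k-points a_1, …, a_r of G such that the underlying set of Γ
is the union of the left translates a_j · H of the underlying set of H. -/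
theorem result (k : Type u) [Field k] [IsAlgClosed k]
    (G X H : Over (Spec (CommRingCat.of k))) [GrpObj G] [GrpObj H] [LocallyOfFiniteType G.hom]
    [LocallyOfFiniteType X.hom] [GeometricallyReduced X.hom] (f : X ⟶ G)
    (h : H ⟶ G) [IsMonHom h] [IsClosedImmersion h.left] (hH : Set.range h.left.base ⊆ Set.range f.left.base)
    (Γ : Over (Spec (CommRingCat.of k))) [GrpObj Γ] (i : Γ ⟶ G) [IsMonHom i] [IsClosedImmersion i.left]
    (hf : ∃ f' : X ⟶ Γ, f' ≫ i = f)
    (hmin : ∀ (Γ' : Over (Spec (CommRingCat.of k))) (_ : GrpObj Γ') (i' : Γ' ⟶ G), IsMonHom i' → IsClosedImmersion i'.left →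
        (∃ f'' : X ⟶ Γ', f'' ≫ i' = f) → ∃ j : Γ ⟶ Γ', j ≫ i' = i)
    (hfin : ∃ F : Finset (𝟙_ (Over (Spec (CommRingCat.of k))) ⟶ G),
      (∀ a ∈ F, ∃ (n : ℕ) (T : Over (Spec (CommRingCat.of k))) (p : T.left) (p₀ : (𝟙_ (Over (Spec (CommRingCat.of k)))).left) (x : Fin n → (T ⟶ X)) (ε : Fin n → Bool),
        ((List.ofFn fun j : Fin n => if ε j then x j ≫ f else (x j ≫ f)⁻¹).prod : T ⟶ G).left.base p = a.left.base p₀) ∧
      ∀ g : 𝟙_ (Over (Spec (CommRingCat.of k))) ⟶ G, (∃ (n : ℕ) (T : Over (Spec (CommRingCat.of k))) (p : T.left) (p₀ : (𝟙_ (Over (Spec (CommRingCat.of k)))).left) (x : Fin n → (T ⟶ X)) (ε : Fin n → Bool),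
        ((List.ofFn fun j : Fin n => if ε j then x j ≫ f else (x j ≫ f)⁻¹).prod : T ⟶ G).left.base p = g.left.base p₀) →
        ∃ a ∈ F, ∃ y : 𝟙_ (Over (Spec (CommRingCat.of k))) ⟶ H, g = a * (y ≫ h)) :
    (∃ m : ℕ, Set.range i.left.base =
      {g : G.left | ∃ (T : Over (Spec (CommRingCat.of k))) (p : T.left) (x : Fin m → (T ⟶ X)) (ε : Fin m → Bool),
        ((List.ofFn fun j : Fin m => if ε j then x j ≫ f else (x j ≫ f)⁻¹).prod : T ⟶ G).left.base p = g}) ∧
    ∃ F : Finset (𝟙_ (Over (Spec (CommRingCat.of k))) ⟶ G), Set.range i.left.base =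
      ⋃ a ∈ F, (fun z => ((λ_ G).inv ≫ (a ▷ G) ≫ μ[G]).left.base z) '' Set.range h.left.base := by
  haveI : ∀ _j : PUnit.{u+1}, GeometricallyReduced X.hom := fun _ => inferInstance
  obtain ⟨e, he⟩ := range_smallest (X := fun _ : PUnit.{u+1} => X) (single f) i (fun _ => hf)
    fun Γ₁ h₁ i₁ hm hc hfac => hmin Γ₁ h₁ i₁ hm hc (hfac PUnit.unit)
  have hr : Set.range i.left = closure (⋃ n, lenSet f n) := by
    rw [← wordSet_single, ← range_genι (single f), ← he, Over.comp_left, Scheme.Hom.comp_base, TopCat.coe_comp,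
      Set.range_comp]
    have hs : Set.range e.hom.left = Set.univ := Set.eq_univ_of_forall fun y =>
      ⟨e.inv.left y, by rw [← Scheme.Hom.comp_apply, ← Over.comp_left, e.inv_hom_id]; rfl⟩
    exact (congrArg _ hs).trans Set.image_univ
  let τ : (𝟙_ (Over (Spec (CommRingCat.of k))) ⟶ G) → (G ⟶ G) := fun a => (toUnit G ≫ a) * 𝟙 G
  have hτ : ∀ a, (fun z => ((λ_ G).inv ≫ (a ▷ G) ≫ μ[G]).left.base z) '' Set.range h.left.base =
      (τ a).left '' Set.range h.left := fun a => by rw [translate_left]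
  have hunit : ∀ (T : Over (Spec (CommRingCat.of k))) (t : T.left),
      (1 : T ⟶ G).left t ∈ Set.range f.left := fun T t => hH ⟨(1 : T ⟶ H).left t, by
    rw [← Scheme.Hom.comp_apply, ← Over.comp_left, MonObj.one_comp]⟩
  obtain ⟨F, hF, hcov⟩ := hfin
  have hF' : ∀ a ∈ F, ∃ n : ℕ, (τ a).left '' Set.range h.left ⊆ lenSet f (n + 1) := fun a ha => by
    obtain ⟨n, T, p, p₀, x, ε, hp⟩ := hF a ha
    have hmem : a.left p₀ ∈ lenSet f n := by rw [lenSet_eq]; exact ⟨T, p, x, ε, hp⟩
    refine ⟨n, ?_⟩
    rintro _ ⟨_, ⟨w, rfl⟩, rfl⟩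
    rw [← Scheme.Hom.comp_apply, ← Over.comp_left, show h ≫ τ a = (toUnit H ≫ a) * h by
      simp only [τ, MonObj.comp_mul, Category.comp_id, ← Category.assoc, Subsingleton.elim (h ≫ toUnit G) (toUnit H)]]
    refine mem_lenSet_mul _ _ w ?_ ?_
    · rw [Over.comp_left, Scheme.Hom.comp_apply]
      haveI : Subsingleton (𝟙_ (Over (Spec (CommRingCat.of k)))).left :=
        inferInstanceAs (Subsingleton (Spec (CommRingCat.of k)))
      rwa [Subsingleton.elim ((toUnit H).left w) p₀]
    · obtain ⟨T', q, t', v, hq, hv⟩ := exists_lift_point h w f (hH ⟨w, rfl⟩)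
      refine ⟨T', t', [(true, v)], rfl, ?_⟩
      simp only [lprod, sgn, List.map_cons, List.map_nil, List.prod_cons, List.prod_nil, if_true, _root_.mul_one]
      rw [hv, Over.comp_left, Scheme.Hom.comp_apply, hq]
  choose n hn using hF'
  let m := F.attach.sup fun a => n a.1 a.2 + 1
  have hclosed : IsClosed (⋃ a ∈ F, (τ a).left '' Set.range h.left) := by
    refine Set.Finite.isClosed_biUnion F.finite_toSet fun a _ => ?_
    have hinv : ∀ b, τ b ≫ τ b⁻¹ = 𝟙 G := fun b => by
      simp only [τ, MonObj.comp_mul, Category.comp_id, ← Category.assoc,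
        Subsingleton.elim (((toUnit G ≫ b) * 𝟙 G) ≫ toUnit G) (toUnit G), GrpObj.comp_inv,
        inv_mul_cancel_left]
    haveI : IsIso (τ a) := ⟨τ a⁻¹, hinv a, by simpa using hinv a⁻¹⟩
    haveI : IsIso (τ a).left := inferInstanceAs (IsIso ((Over.forget _).map (τ a)))
    exact (τ a).left.homeomorph.isClosedMap _ h.left.isClosedEmbedding.isClosed_range
  have hsub : (⋃ n, lenSet f n) ⊆ ⋃ a ∈ F, (τ a).left '' Set.range h.left := by
    rw [← wordSet_single]
    refine Set.iUnion_subset fun l => ?_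
    rintro _ ⟨y, rfl⟩
    let Y := wordSrc (fun _ : PUnit.{u+1} => X) l
    haveI := wordSrc_lft (X := X) l
    haveI : JacobsonSpace Y.left := LocallyOfFiniteType.jacobsonSpace Y.hom
    have hy : y ∈ closure (closedPoints Y.left) := by rw [closure_closedPoints]; trivial
    refine hclosed.closure_subset_iff.mpr ?_ (image_closure_subset_closure_image
      (word (single f) l).left.continuous ⟨y, hy, rfl⟩)
    rintro _ ⟨c, hc, rfl⟩
    let c' : 𝟙_ (Over (Spec (CommRingCat.of k))) ⟶ Y :=
      Over.homMk (pointOfClosedPoint Y.hom c hc) (pointOfClosedPoint_comp Y.hom c hc)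
    let p₀ : (𝟙_ (Over (Spec (CommRingCat.of k)))).left := IsLocalRing.closedPoint k
    have hc' : c'.left p₀ = c :=
      congrArg Subtype.val ((pointEquivClosedPoint Y.hom).apply_symm_apply ⟨c, hc⟩)
    have hg : (c' ≫ word (single f) l).left p₀ ∈ ⋃ n, lenSet f n := by
      rw [← wordSet_single]
      exact range_subset_wordSet (isWord_comp c' (isWord_word l)) ⟨p₀, rfl⟩
    obtain ⟨j, hj⟩ := Set.mem_iUnion.mp hg
    rw [lenSet_eq] at hj
    obtain ⟨T, p, x, ε, hx⟩ := hj
    obtain ⟨a, ha, z, hz⟩ := hcov (c' ≫ word (single f) l) ⟨j, T, p, p₀, x, ε, hx⟩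
    refine Set.mem_biUnion ha ⟨(z ≫ h).left p₀, ⟨z.left p₀, rfl⟩, ?_⟩
    have e1 : (z ≫ h) ≫ τ a = c' ≫ word (single f) l := by
      rw [hz]
      simp only [τ, MonObj.comp_mul, Category.comp_id, ← Category.assoc,
        Subsingleton.elim ((z ≫ h) ≫ toUnit G) (𝟙 (𝟙_ (Over (Spec (CommRingCat.of k))))), Category.id_comp]
    rw [← Scheme.Hom.comp_apply, ← Over.comp_left, e1, Over.comp_left, Scheme.Hom.comp_apply, hc']
  have hFm : (⋃ a ∈ F, (τ a).left '' Set.range h.left) ⊆ lenSet f m := Set.iUnion₂_subset fun a ha =>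
    (hn a ha).trans (lenSet_mono hunit (Finset.le_sup (f := fun a : {x // x ∈ F} => n a.1 a.2 + 1)
      (Finset.mem_attach F ⟨a, ha⟩)))
  have hi : Set.range i.left = ⋃ a ∈ F, (τ a).left '' Set.range h.left := by
    rw [hr]
    exact (closure_minimal hsub hclosed).antisymm ((hFm.trans (Set.subset_iUnion _ m)).trans subset_closure)
  refine ⟨⟨m, ?_⟩, F, hi.trans (Set.iUnion₂_congr fun a _ => (hτ a).symm)⟩
  rw [← lenSet_eq]
  exact (hi.le.trans hFm).antisymm ((Set.subset_iUnion _ m).trans (subset_closure.trans hr.ge))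

end Groth.Agent.S6077
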