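import Groth.Statements.S6078
import Groth.Agent.H06GenSub.CommMain
import Groth.Agent.S0434

set_option autoImplicit false
universe u
open CategoryTheory CategoryTheory.Limits MonoidalCategory CartesianMonoidalCategory MonObj GrpObj AlgebraicGeometry
open SGA3

namespace Groth.Agent.S6078

open Groth.Agent Groth.Agent.H06GenSub
open scoped commutatorElement CategoryTheory.Obj

set_option backward.isDefEq.respectTransparency false
set_option linter.style.haveILetI false
set_option synthInstance.maxHeartbeats 100000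
set_option maxHeartbeats 1000000

/-- Case (G, H) = H: let S be an integral scheme with generic point η, G an S-group scheme and h : H → G
a normal subgroup scheme of G, with G and H of finite presentation over S and with smooth generic
fibres G_η, H_η. Suppose that (G_η, H_η) = H_η: the subgroup H_η is contained in every closed
subgroup scheme of G_η through which the morphism G_η ×_{κ(η)} H_η → G_η, (g, x) ↦ g h(x) g⁻¹
h(x)⁻¹, factors (H_η itself is such a subgroup since H is normal). Then there is a nonempty open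
subset U of S such that for every s ∈ U the same holds on the fibre at s: H_s is contained in every
closed subgroup scheme of G_s through which G_s ×_{κ(s)} H_s → G_s, (g, x) ↦ g h(x) g⁻¹ h(x)⁻¹,
factors. -/
theorem result (S : Scheme.{u}) [IsIntegral S] (G H : Over S) [GrpObj G] [GrpObj H]
    [LocallyOfFinitePresentation G.hom] [QuasiCompact G.hom] [QuasiSeparated G.hom]
    [LocallyOfFinitePresentation H.hom] [QuasiCompact H.hom] [QuasiSeparated H.hom]
    (h : H ⟶ G) [IsMonHom h] [IsImmersion h.left] (hN : AlgGrp.IsNormalHom h)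
    (hsmG : Smooth (Red.bc (S.fromSpecResidueField (genericPoint S)) G).hom) (hsmH : Smooth (Red.bc (S.fromSpecResidueField (genericPoint S)) H).hom)
    (hgen : (∀ (K : Over (Spec (S.residueField (genericPoint S)))) (_ : GrpObj K) (j : K ⟶ (Red.bc (S.fromSpecResidueField (genericPoint S)) G)), IsMonHom j → IsClosedImmersion j.left →
        (∃ c : (Red.bc (S.fromSpecResidueField (genericPoint S)) G) ⊗ (Red.bc (S.fromSpecResidueField (genericPoint S)) H) ⟶ K, c ≫ j = (((fst (Red.bc (S.fromSpecResidueField (genericPoint S)) G) (Red.bc (S.fromSpecResidueField (genericPoint S)) H)) * ((snd (Red.bc (S.fromSpecResidueField (genericPoint S)) G) (Red.bc (S.fromSpecResidueField (genericPoint S)) H)) ≫ ((Over.pullback (S.fromSpecResidueField (genericPoint S))).map h)) * (fst (Red.bc (S.fromSpecResidueField (genericPoint S)) G) (Red.bc (S.fromSpecResidueField (genericPoint S)) H))⁻¹ * ((snd (Red.bc (S.fromSpecResidueField (genericPoint S)) G) (Red.bc (S.fromSpecResidueField (genericPoint S)) H)) ≫ ((Over.pullback (S.fromSpecResidueField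 (genericPoint S))).map h))⁻¹ : (Red.bc (S.fromSpecResidueField (genericPoint S)) G) ⊗ (Red.bc (S.fromSpecResidueField (genericPoint S)) H) ⟶ (Red.bc (S.fromSpecResidueField (genericPoint S)) G)))) → ∃ m : (Red.bc (S.fromSpecResidueField (genericPoint S)) H) ⟶ K, m ≫ j = ((Over.pullback (S.fromSpecResidueField (genericPoint S))).map h))) :
    ∃ U : S.Opens, (U : Set S).Nonempty ∧ ∀ s : U,
      (∀ (K : Over (Spec (S.residueField (s : S)))) (_ : GrpObj K) (j : K ⟶ (Red.bc (S.fromSpecResidueField (s : S)) G)), IsMonHom j → IsClosedImmersion j.left →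
        (∃ c : (Red.bc (S.fromSpecResidueField (s : S)) G) ⊗ (Red.bc (S.fromSpecResidueField (s : S)) H) ⟶ K, c ≫ j = (((fst (Red.bc (S.fromSpecResidueField (s : S)) G) (Red.bc (S.fromSpecResidueField (s : S)) H)) * ((snd (Red.bc (S.fromSpecResidueField (s : S)) G) (Red.bc (S.fromSpecResidueField (s : S)) H)) ≫ ((Over.pullback (S.fromSpecResidueField (s : S))).map h)) * (fst (Red.bc (S.fromSpecResidueField (s : S)) G) (Red.bc (S.fromSpecResidueField (s : S)) H))⁻¹ * ((snd (Red.bc (S.fromSpecResidueField (s : S)) G) (Red.bc (S.fromSpecResidueField (s : S)) H)) ≫ ((Over.pullback (S.fromSpecResidueField (s : S))).map h))⁻¹ : (Red.bc (S.fromSpecResidueField (s : S)) G) ⊗ (Red.bc (S.fromSpecResidueField (s : S)) H) ⟶ (Red.bc (S.fromSpecResidueField (s : S)) G)))) → ∃ m : (Red.bc (S.fromSpecResidueField (s : S)) H) ⟶ K, m ≫ j = ((Over.pullback (S.fromSpecResidueField (s : S))).map h)) := by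
  let j := S.fromSpecResidueField (genericPoint S)
  haveI : QuasiCompact j := CommSpread.qc_fromSpecResidueField S _
  let F := Over.pullback j
  let GK := Red.bc j G
  let HK := Red.bc j H
  haveI : LocallyOfFiniteType GK.hom := inferInstanceAs (LocallyOfFiniteType (pullback.snd G.hom j))
  haveI : LocallyOfFiniteType HK.hom := inferInstanceAs (LocallyOfFiniteType (pullback.snd H.hom j))
  haveI : QuasiCompact GK.hom := inferInstanceAs (QuasiCompact (pullback.snd G.hom j))
  haveI : QuasiCompact HK.hom := inferInstanceAs (QuasiCompact (pullback.snd H.hom j))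
  haveI : Smooth GK.hom := hsmG
  haveI : Smooth HK.hom := hsmH
  haveI : GeometricallyReduced GK.hom := H19Grp.geometricallyReduced_of_smooth GK.hom
  haveI : GeometricallyReduced HK.hom := H19Grp.geometricallyReduced_of_smooth HK.hom
  haveI : IsImmersion (𝟙 GK : GK ⟶ GK).left := inferInstanceAs (IsImmersion (𝟙 GK.left))
  haveI : IsImmersion (F.map h).left := CommSpread.isImmersion_map j h
  have hn : AlgGrp.IsNormalHom (𝟙 GK : GK ⟶ GK) := fun T g n => ⟨g * n * g⁻¹, by simp⟩
  obtain ⟨N, hN⟩ := CommField.exists_bound (𝟙 GK) (F.map h) (Or.inr ⟨hn, Adj.isNormalHom_bc j h hN⟩)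
  haveI : LocallyOfFiniteType (GK ⊗ HK).hom :=
    inferInstanceAs (LocallyOfFiniteType (pullback.fst GK.hom HK.hom ≫ GK.hom))
  haveI : QuasiCompact (GK ⊗ HK).hom :=
    inferInstanceAs (QuasiCompact (pullback.fst GK.hom HK.hom ≫ GK.hom))
  haveI : GeometricallyReduced (GK ⊗ HK).hom := geometricallyReduced_tensor
  let CK : PUnit.{u+1} → (GK ⊗ HK ⟶ GK) := single (Adj.comm (𝟙 GK) (F.map h))
  obtain ⟨instΓ, hιΓ⟩ := exists_grpObj_gen CK
  letI := instΓ
  haveI := hιΓ
  obtain ⟨m, hm⟩ := hgen (gen CK) instΓ (genι CK) hιΓ inferInstance (by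
    obtain ⟨C, hC⟩ := exists_gen_lift CK PUnit.unit
    refine ⟨C, ?_⟩
    rw [hC]
    show ⁅fst GK HK ≫ 𝟙 GK, snd GK HK ≫ F.map h⁆ = _
    rw [Category.comp_id]
    rfl)
  haveI : GeometricallyReduced (H.hom.fiberToSpecResidueField (genericPoint S)) :=
    H19Grp.geometricallyReduced_of_smooth HK.hom
  obtain ⟨VR, hRne, hR⟩ := S0434.result H.hom inferInstance
  let E : Set H.left := h.left ⁻¹' lenSet (Adj.comm (𝟙 G) h) (N + N)
  haveI : LocallyOfFinitePresentation (G ⊗ H).hom :=
    inferInstanceAs (LocallyOfFinitePresentation (pullback.fst G.hom H.hom ≫ G.hom))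
  haveI : QuasiCompact (G ⊗ H).hom := inferInstanceAs (QuasiCompact (pullback.fst G.hom H.hom ≫ G.hom))
  have hE : Topology.IsLocallyConstructible E :=
    H7Lim.isLocallyConstructible_preimage (CommSpread.isLocallyConstructible_lenSet _ _) h.left
  have hEgen : ∀ z, H.hom z = genericPoint S → z ∈ E := fun z hz => by
    have hp : ∀ q, j q = genericPoint S := fun q => (Scheme.range_fromSpecResidueField _).le ⟨q, rfl⟩
    obtain ⟨w, hw, -⟩ := Scheme.Pullback.exists_preimage_pullback (f := H.hom) (g := j) z
      (IsLocalRing.closedPoint _) (hz.trans (hp _).symm)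
    have h1 : (F.map h).left w ∈ lenSet (Adj.comm (F.map (𝟙 G)) (F.map h)) (N + N) := by
      have e : (F.map h).left w = (genι CK).left (m.left w) := by
        rw [← Scheme.Hom.comp_apply, ← Over.comp_left, hm]
      rw [show F.map (𝟙 G) = 𝟙 GK from F.map_id G, ← closure_wordSet_eq_lenSet _ hN, e]
      exact (range_genι CK).le ⟨m.left w, rfl⟩
    have h2 := (Adj.mem_lenSet_comm_bc j (𝟙 G) h _ _).mp h1
    rw [CommMain.map_apply] at h2
    exact hw ▸ h2
  haveI : LocallyOfFinitePresentation (Red.bc (⊤ : S.Opens).ι H).hom :=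
    inferInstanceAs (LocallyOfFinitePresentation (pullback.snd H.hom (⊤ : S.Opens).ι))
  haveI : QuasiCompact (Red.bc (⊤ : S.Opens).ι H).hom :=
    inferInstanceAs (QuasiCompact (pullback.snd H.hom (⊤ : S.Opens).ι))
  obtain ⟨VE, hVE, hcover⟩ := CommSpread.exists_open_subset H (V := ⊤) (TopologicalSpace.Opens.mem_top _) hE hEgen
  refine ⟨VR ⊓ VE, ⟨genericPoint S, ((genericPoint_spec S).mem_open_set_iff VR.2).mpr (by simpa using hRne), hVE⟩,
    fun s K _ k _ _ hc => ?_⟩
  let σ := S.fromSpecResidueField (s : S)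
  obtain ⟨c, hc⟩ := hc
  haveI : IsReduced (Red.bc σ H).left := by
    haveI := hR
    haveI : GeometricallyReduced (Red.bc σ H).hom := by
      have hsR : (s : S) ∈ VR := s.2.1
      have hσ : Set.range σ ⊆ Set.range VR.ι := by
        rw [Scheme.range_fromSpecResidueField, Scheme.Opens.range_ι]
        exact Set.singleton_subset_iff.mpr hsR
      have hP := (isPullback_morphismRestrict H.hom VR).flip
      have hw : pullback.fst H.hom σ ≫ H.hom =
          (pullback.snd H.hom σ ≫ IsOpenImmersion.lift VR.ι σ hσ) ≫ VR.ι := by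
        rw [Category.assoc, IsOpenImmersion.lift_fac, pullback.condition]
      refine MorphismProperty.of_isPullback (P := @GeometricallyReduced) (f := IsOpenImmersion.lift VR.ι σ hσ)
        (g := H.hom ∣_ VR) (f' := hP.lift (pullback.fst H.hom σ) (pullback.snd H.hom σ ≫ _) hw) ?_ hR
      refine IsPullback.of_right ?_ (hP.lift_snd _ _ _) hP
      rw [hP.lift_fst, IsOpenImmersion.lift_fac]
      exact IsPullback.of_hasPullback _ _
    exact isReduced_of_geometricallyReduced (Red.bc σ H)
  let C' := Adj.comm ((Over.pullback σ).map (𝟙 G)) ((Over.pullback σ).map h)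
  obtain ⟨l, hl⟩ := H17.exists_lift_of_range_subset ((Over.pullback σ).map h).left k.left (by
    rintro _ ⟨w, rfl⟩
    refine Adj.lenSet_subset_range C' k ⟨c, ?_⟩ (N + N) ?_
    · rw [hc]
      show _ = ⁅fst _ _ ≫ (Over.pullback σ).map (𝟙 G), snd _ _ ≫ (Over.pullback σ).map h⁆
      rw [CategoryTheory.Functor.map_id, Category.comp_id]
      rfl
    rw [Adj.mem_lenSet_comm_bc, CommMain.map_apply]
    refine hcover _ ?_
    rw [← Scheme.Hom.comp_apply, pullback.condition, Scheme.Hom.comp_apply]
    have e : ∀ q, σ q = (s : S) := fun q => (Scheme.range_fromSpecResidueField _).le ⟨q, rfl⟩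
    rw [e]
    exact s.2.2)
  refine ⟨Over.homMk l ?_, Over.OverMorphism.ext hl⟩
  rw [← Over.w k, reassoc_of% hl, Over.w ((Over.pullback σ).map h)]

end Groth.Agent.S6078
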