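import Groth.Statements.S6079
import Groth.Agent.H06GenSub.CommMain

set_option autoImplicit false
universe u
open CategoryTheory CategoryTheory.Limits MonoidalCategory CartesianMonoidalCategory MonObj GrpObj AlgebraicGeometry
open SGA3

namespace Groth.Agent.S6079

open Groth.Agent Groth.Agent.H06GenSub
open scoped commutatorElement CategoryTheory.Obj

set_option backward.isDefEq.respectTransparency false
set_option linter.style.haveILetI false
set_option synthInstance.maxHeartbeats 100000

/-- Existence of D' and its fibres: let S be an integral scheme with generic point η, G an S-group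
scheme of finite presentation over S, and a : A → G, b : B → G two subgroup schemes of G
(homomorphisms which are immersions) of finite presentation over S whose generic fibres A_η, B_η are
smooth. Suppose that either (a) A_η is connected, or (b) A and B are normal in G. Then there are a
nonempty open subset U of S and a closed subgroup scheme d : D → G|_U, of finite presentation over U
with smooth fibres, having connected fibres in case (a) and normal in G|_U in case (b), such that
for every s ∈ U the fibre D_s → G_s is the commutator subgroup scheme (A_s, B_s): the smallest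
closed subgroup scheme of G_s through which A_s ×_{κ(s)} B_s → G_s, (x, y) ↦ a(x) b(y) a(x)⁻¹
b(y)⁻¹, factors. (The published statement also asserts that D represents the fppf sheaf associated
to the presheaf of commutator subgroups of A|_U and B|_U in G|_U; that assertion is not stated
here.) -/
theorem result (S : Scheme.{u}) [IsIntegral S] (G A B : Over S) [GrpObj G] [GrpObj A] [GrpObj B]
    [LocallyOfFinitePresentation G.hom] [QuasiCompact G.hom] [QuasiSeparated G.hom]
    [LocallyOfFinitePresentation A.hom] [QuasiCompact A.hom] [QuasiSeparated A.hom]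
    [LocallyOfFinitePresentation B.hom] [QuasiCompact B.hom] [QuasiSeparated B.hom]
    (a : A ⟶ G) [IsMonHom a] [IsImmersion a.left] (b : B ⟶ G) [IsMonHom b] [IsImmersion b.left]
    (hsmA : Smooth (Red.bc (S.fromSpecResidueField (genericPoint S)) A).hom) (hsmB : Smooth (Red.bc (S.fromSpecResidueField (genericPoint S)) B).hom)
    (hcase : ConnectedSpace (Red.bc (S.fromSpecResidueField (genericPoint S)) A).left ∨ (AlgGrp.IsNormalHom a ∧ AlgGrp.IsNormalHom b)) :
    ∃ U : S.Opens, (U : Set S).Nonempty ∧
      ∃ (D : Over (U : Scheme.{u})) (_ : GrpObj D) (d : D ⟶ (Red.bc U.ι G)), IsMonHom d ∧ IsClosedImmersion d.left ∧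
        LocallyOfFinitePresentation D.hom ∧ QuasiCompact D.hom ∧ QuasiSeparated D.hom ∧
        (∀ s : (U : Scheme.{u}), Smooth (D.hom.fiberToSpecResidueField s)) ∧
        (ConnectedSpace (Red.bc (S.fromSpecResidueField (genericPoint S)) A).left → ∀ s : (U : Scheme.{u}), ConnectedSpace (D.hom.fiber s)) ∧
        (AlgGrp.IsNormalHom a ∧ AlgGrp.IsNormalHom b → AlgGrp.IsNormalHom d) ∧
        ∀ s : (U : Scheme.{u}),
          (∃ c : (Red.bc ((U : Scheme.{u}).fromSpecResidueField s) (Red.bc U.ι A)) ⊗ (Red.bc ((U : Scheme.{u}).fromSpecResidueField s) (Red.bc U.ι B)) ⟶ (Red.bc ((U : Scheme.{u}).fromSpecResidueField s) D), c ≫ ((Over.pullback ((U : Scheme.{u}).fromSpecResidueField s)).map d) = (((fst (Red.bc ((U : Scheme.{u}).fromSpecResidueField s) (Red.bc U.ι A)) (Red.bc ((U : Scheme.{u}).fromSpecResidueField s) (Red.bc U.ι B))) ≫ ((Over.pullback ((U : Scheme.{u}).fromSpecResidueField s)).map ((Over.pullback U.ι).map a))) * ((snd (Red.bc ((U : Scheme.{u}).fromSpecResidueField s) (Red.bc U.ι A)) (Red.bc ((U : Scheme.{u}).fromSpecResidueField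 s) (Red.bc U.ι B))) ≫ ((Over.pullback ((U : Scheme.{u}).fromSpecResidueField s)).map ((Over.pullback U.ι).map b))) * ((fst (Red.bc ((U : Scheme.{u}).fromSpecResidueField s) (Red.bc U.ι A)) (Red.bc ((U : Scheme.{u}).fromSpecResidueField s) (Red.bc U.ι B))) ≫ ((Over.pullback ((U : Scheme.{u}).fromSpecResidueField s)).map ((Over.pullback U.ι).map a)))⁻¹ * ((snd (Red.bc ((U : Scheme.{u}).fromSpecResidueField s) (Red.bc U.ι A)) (Red.bc ((U : Scheme.{u}).fromSpecResidueField s) (Red.bc U.ι B))) ≫ ((Over.pullback ((U : Scheme.{u}).fromSpecResidueField s)).map ((Over.pullback U.ι).map b)))⁻¹)) ∧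
          ∀ (Γ' : Over (Spec ((U : Scheme.{u}).residueField s))) (_ : GrpObj Γ') (i' : Γ' ⟶ (Red.bc ((U : Scheme.{u}).fromSpecResidueField s) (Red.bc U.ι G))), IsMonHom i' → IsClosedImmersion i'.left →
            (∃ c' : (Red.bc ((U : Scheme.{u}).fromSpecResidueField s) (Red.bc U.ι A)) ⊗ (Red.bc ((U : Scheme.{u}).fromSpecResidueField s) (Red.bc U.ι B)) ⟶ Γ', c' ≫ i' = (((fst (Red.bc ((U : Scheme.{u}).fromSpecResidueField s) (Red.bc U.ι A)) (Red.bc ((U : Scheme.{u}).fromSpecResidueField s) (Red.bc U.ι B))) ≫ ((Over.pullback ((U : Scheme.{u}).fromSpecResidueField s)).map ((Over.pullback U.ι).map a))) * ((snd (Red.bc ((U : Scheme.{u}).fromSpecResidueField s) (Red.bc U.ι A)) (Red.bc ((U : Scheme.{u}).fromSpecResidueField s) (Red.bc U.ι B))) ≫ ((Over.pullback ((U : Scheme.{u}).fromSpecResidueField s)).map ((Over.pullback U.ι).map b))) * ((fst (Red.bc ((U : Scheme.{u}).fromSpecResidueField s) (Red.bc U.ι A)) (Red.bc ((U : Scheme.{u}).fromSpecResidueField s) (Red.bc U.ι B))) ≫ ((Over.pullback ((U : Scheme.{u}).fromSpecResidueField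 s)).map ((Over.pullback U.ι).map a)))⁻¹ * ((snd (Red.bc ((U : Scheme.{u}).fromSpecResidueField s) (Red.bc U.ι A)) (Red.bc ((U : Scheme.{u}).fromSpecResidueField s) (Red.bc U.ι B))) ≫ ((Over.pullback ((U : Scheme.{u}).fromSpecResidueField s)).map ((Over.pullback U.ι).map b)))⁻¹)) → ∃ j : (Red.bc ((U : Scheme.{u}).fromSpecResidueField s) D) ⟶ Γ', j ≫ i' = ((Over.pullback ((U : Scheme.{u}).fromSpecResidueField s)).map d) := by
  obtain ⟨U, hU, D, _, d, hd, _, h1, h2, h3, hs, hconn, hnorm, hC⟩ :=
    CommMain.exists_open_comm S G A B a b hsmA hsmB hcase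
  refine ⟨U, hU, D, inferInstance, d, hd, inferInstance, h1, h2, h3,
    fun s => MorphismProperty.pullback_snd (P := @Smooth) _ _ hs, fun h s => ?_, hnorm, fun s => ?_⟩
  · haveI := hconn h
    infer_instance
  let σ := (U : Scheme.{u}).fromSpecResidueField s
  haveI : IsClosedImmersion ((Over.pullback σ).map d).left := CommSpread.isClosedImmersion_map σ d
  refine ⟨(hC.bc σ).1, fun Γ' _ i' _ _ hΓ' => (hC.bc σ).le i' hΓ'⟩

end Groth.Agent.S6079
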