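import Groth.Statements.S6080
import Groth.Agent.H7Hopf.Corep
-- import your own Groth.Agent.* helpers here

set_option autoImplicit false
universe u
open TensorProduct
open SGA3

namespace Groth.Agent.S6080

/-- Let R be a Noetherian regular ring of Krull dimension at most 2 and A a commutative Hopf algebra
over R which is flat as an R-module, so that G = Spec A is an affine flat R-group scheme, not
necessarily of finite type. Then every finite subset F of A is contained in a finite-type
sub-Hopf-algebra of the following form: there are a natural number d and a d × d matrix (a_ij) of
elements of A with Δ(a_ij) = Σ_l a_il ⊗ a_lj and ε(a_ij) = δ_ij (a matrix corepresentation, i.e. a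
homomorphism G → GL_{d,R}) whose determinant is a unit, such that F lies in the R-subalgebra
generated by the entries a_ij together with the inverse of det(a_ij) (the affine algebra of the
schematic image of G in GL_{d,R}). Consequently A is the directed union of finite-type
sub-Hopf-algebras each of which is a quotient of the Hopf algebra of some GL_{d,R}. (The published
statement asserts that A is a filtered union of sub-Hopf-algebras of finite type which are moreover
flat over R. The published proof produces the sub-Hopf-algebras described here, as coefficient
algebras of finite projective subcomodules, and does not address their flatness; they need not be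
flat: for the additive group over R = k[x, y], so A = R[s] with s primitive, and the subcomodule
spanned by 1, x s and y s, the construction gives the subalgebra R[x s, y s], which as an R-module
is the direct sum of the powers of the ideal (x, y) and is not flat. Flatness of the
sub-Hopf-algebras is therefore not asserted here. The published statement is over a Noetherian
regular scheme of dimension at most 2; this row is the affine case.) -/
theorem result (R : Type u) [CommRing R] [IsRegularRing R]
    (hdim : ringKrullDim R ≤ 2) (A : Type u) [CommRing A] [HopfAlgebra R A] [Module.Flat R A] (F : Finset A) :
    ∃ (d : ℕ) (a : Matrix (Fin d) (Fin d) A),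
      (∀ i j, CoalgebraStruct.comul (R := R) (a i j) = ∑ l, a i l ⊗ₜ[R] a l j) ∧
      (∀ i j, CoalgebraStruct.counit (R := R) (a i j) = if i = j then 1 else 0) ∧
      ∃ u : A, u * a.det = 1 ∧ (↑F : Set A) ⊆ Algebra.adjoin R (Set.range (fun p : Fin d × Fin d => a p.1 p.2) ∪ {u}) := by
  exact H7Hopf.exists_matrix_corep hdim F

end Groth.Agent.S6080
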