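import Groth.Statements.S6083
import Groth.Agent.H06EGA14.AffineSpaceTarget
import Groth.Agent.H8Props.Devissage.Points
import Groth.Agent.H12AlgSp.LocPCancel

set_option autoImplicit false
universe u
open CategoryTheory CategoryTheory.Limits MonoidalCategory CartesianMonoidalCategory MonObj GrpObj AlgebraicGeometry
open SGA3

namespace Groth.Agent.S6083

open Groth.Agent

/-- Let f : X → S be a morphism locally of finite presentation, s a point of S, x a point of the fibre
X_s = f⁻¹(s), n the local dimension of X_s at x, q : 𝔸^n_S → S the affine n-space over S and u : X →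
𝔸^n_S a locally quasi-finite morphism with u q = f. Suppose that f is universally open at the
generic point z of an irreducible component Z of X_s which contains x and has dimension n. Then u is
universally open at x. -/
theorem result (X S : Scheme.{u}) (f : X ⟶ S) [LocallyOfFinitePresentation f]
    (s : S) (x : X) (hxs : f.base x = s) (n : ℕ)
    (u : X ⟶ 𝔸(ULift.{u} (Fin n); S)) [LocallyQuasiFinite u] (hu : u ≫ (𝔸(ULift.{u} (Fin n); S) ↘ S) = f)
    (Z : Set ↥(f.base ⁻¹' {s})) (hZ : Z ∈ irreducibleComponents ↥(f.base ⁻¹' {s})) (hxZ : x ∈ (Subtype.val '' Z))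
    (z : X) (hz : z ∈ Subtype.val '' Z ∧ Subtype.val '' Z ⊆ closure {z}) (hopen : EGA43.IsUnivOpenAt f z)
    (hdimZ : topologicalKrullDim ↥Z = n) (hdimx : FlatMor.localDim ↥(f.base ⁻¹' {s}) ⟨x, hxs⟩ = n) :
    EGA43.IsUnivOpenAt u x := by
  haveI : LocallyOfFinitePresentation u := by
    haveI : LocallyOfFinitePresentation (u ≫ (𝔸(ULift.{u} (Fin n); S) ↘ S)) := by rw [hu]; infer_instance
    exact H12AlgSp.lfp_of_comp u (𝔸(ULift.{u} (Fin n); S) ↘ S)
  obtain ⟨⟨a, haZ, rfl⟩, hZcl⟩ := hz
  have hzx : (a.1 : X) ⤳ x := specializes_iff_mem_closure.mpr (hZcl hxZ)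
  have hfz : f a.1 = s := a.2
  have hmax : ∀ w, f w = f a.1 → w ⤳ a.1 → w = a.1 := fun w hw hwa => by
    let w' : ↥(f.base ⁻¹' {s}) := ⟨w, hw.trans hfz⟩
    have hsub : Z ⊆ closure {w'} := fun b hb => by
      refine specializes_iff_mem_closure.mp ((subtype_specializes_iff _ _).mpr ?_)
      exact hwa.trans (specializes_iff_mem_closure.mpr (hZcl ⟨b, hb, rfl⟩))
    have hw'Z : w' ∈ Z := hZ.2 isIrreducible_singleton.closure hsub (subset_closure rfl)
    exact (hwa.antisymm (specializes_iff_mem_closure.mpr (hZcl ⟨w', hw'Z, rfl⟩))).eq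
  have hset : Subtype.val '' Z = closure {(a.1 : X)} ∩ f ⁻¹' {s} := by
    refine Set.Subset.antisymm (fun b hb => ⟨hZcl hb, ?_⟩) fun b hb => ⟨⟨b, hb.2⟩, ?_, rfl⟩
    · obtain ⟨b, -, rfl⟩ := hb
      exact b.2
    · exact ((subtype_specializes_iff (a : ↥(f.base ⁻¹' {s})) ⟨b, hb.2⟩).mpr
        (specializes_iff_mem_closure.mpr hb.1)).mem_closed (isClosed_of_mem_irreducibleComponents Z hZ) haZ
  have hfx : FlatMor.fibreDimAt f x = (n : ℕ) := by
    rw [← hdimx]
    subst hxs
    show FlatMor.localDim (f.fiber (f x)) (f.asFiber x) = _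
    rw [← H8Props.Devissage.localDim_homeomorph (f.fiberHomeo (f x)), Scheme.Hom.asFiber,
      Homeomorph.apply_symm_apply]
  have hcd : H8Props.FieldDim.cdim (f.asFiber a.1) = (n : ℕ) := by
    rw [← H06EGA14.dim_inter_eq_cdim f a.1 hfz, ← hset, ← hdimZ]
    exact (IsHomeomorph.topologicalKrullDim_eq _
      (Topology.IsEmbedding.subtypeVal.homeomorphImage Z).isHomeomorph).symm
  have hdz : FlatMor.fibreDimAt f a.1 = (n : ℕ) :=
    le_antisymm ((H8Props.FieldDim.fibreDimAt_le_of_specializes f hzx).trans hfx.le)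
      (hcd ▸ H06Equidim.cdim_asFiber_le_fibreDimAt f a.1)
  refine H06EGA14.isUnivOpenAt_to_affineSpace _ u f hu x a.1 hzx (hfz.trans hxs.symm) hmax hopen ?_
  rw [hdz, Fintype.card_ulift, Fintype.card_fin]

end Groth.Agent.S6083
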