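import Groth.Statements.S6084
import Groth.Agent.H13Flat.Scheme

set_option autoImplicit false
set_option maxHeartbeats 1000000
set_option synthInstance.maxHeartbeats 100000
set_option linter.style.haveILetI false
set_option backward.isDefEq.respectTransparency false
universe u
open CategoryTheory CategoryTheory.Limits MonoidalCategory CartesianMonoidalCategory MonObj GrpObj AlgebraicGeometry
open SGA3

namespace Groth.Agent.S6084

/-- Let k be a perfect field, G a group scheme locally of finite type over k and u : F → G a
homomorphism of k-group schemes which is a closed immersion and surjective on underlying spaces,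
with F reduced (so F is G_red with its group structure). Let p : G → X be a k-morphism which is
flat, surjective and locally of finite presentation and makes the square formed by (f, g) ↦ u(f) ·
g, the second projection F ×_k G → G and p (twice) cartesian (X is the quotient of G by F acting by
left translations). Then X is the spectrum of a finite local k-algebra with residue field k: X is
affine, its underlying space is a single point at which the structure morphism induces an
isomorphism of residue fields, and the ring of global sections of X is finite over k. -/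
theorem result (k : Type u) [Field k] [PerfectField k]
    (F G : Over (Spec (CommRingCat.of k))) [GrpObj F] [GrpObj G] [LocallyOfFiniteType G.hom] [IsReduced F.left]
    (u : F ⟶ G) [IsMonHom u] [IsClosedImmersion u.left] [Surjective u.left]
    (X : Over (Spec (CommRingCat.of k))) (p : G ⟶ X) [Flat p.left] [Surjective p.left] [LocallyOfFinitePresentation p.left]
    (hp : IsPullback ((u ▷ G) ≫ μ[G]) (snd F G) p p) :
    IsAffine X.left ∧ (∃ x : X.left, (Set.univ : Set X.left) = {x} ∧ IsIso (X.hom.residueFieldMap x)) ∧
      ((Scheme.ΓSpecIso (CommRingCat.of k)).inv ≫ X.hom.appTop).hom.Finite := by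
  haveI : IsNoetherianRing (CommRingCat.of k) := inferInstanceAs (IsNoetherianRing k)
  have hrel : u ≫ p = (1 : F ⟶ G) ≫ p := by
    have h := congrArg (CartesianMonoidalCategory.lift (𝟙 F) (1 : F ⟶ G) ≫ ·) hp.w
    simp only [← Category.assoc, lift_snd, lift_whiskerRight, Category.id_comp] at h
    rw [← Hom.mul_def, _root_.mul_one] at h
    exact h
  let o : 𝟙_ (Over (Spec (CommRingCat.of k))) ⟶ X := η[G] ≫ p
  have hf : u.left ≫ p.left = (toUnit F).left ≫ o.left := by
    rw [← Over.comp_left, ← Over.comp_left, hrel, Hom.one_def, Category.assoc]
  let x : X.left := o.left (IsLocalRing.closedPoint k)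
  have hx : ∀ y : X.left, y = x := fun y => by
    obtain ⟨g, rfl⟩ := p.left.surjective y
    obtain ⟨f, rfl⟩ := u.left.surjective g
    rw [← Scheme.Hom.comp_apply, hf, Scheme.Hom.comp_apply]
    exact congrArg (fun t => o.left t) (Subsingleton.elim (α := PrimeSpectrum k) _ _)
  haveI : Subsingleton X.left := ⟨fun a b => (hx a).trans (hx b).symm⟩
  haveI : LocallyOfFiniteType X.hom := H13Flat.locallyOfFiniteType_of_fppf_covering X.hom fun y =>
    ⟨G.left, p.left, ‹_›, ‹_›, p.left.surjective y, by rw [Over.w]; infer_instance⟩
  haveI : CompactSpace X.left := ⟨Set.subsingleton_univ.isCompact⟩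
  haveI : DiscreteTopology X.left := Subsingleton.discreteTopology
  haveI : LocallyQuasiFinite X.hom := by
    rw [locallyQuasiFinite_iff_isDiscrete_preimage_singleton]
    exact fun s => ⟨inferInstance⟩
  haveI : IsFinite X.hom := IsFinite.of_locallyQuasiFinite X.hom
  refine ⟨isAffine_of_isAffineHom X.hom, ⟨x, Set.eq_singleton_iff_unique_mem.2 ⟨trivial, fun y _ => hx y⟩, ?_⟩, ?_⟩
  · have ho : o.left ≫ X.hom = 𝟙 (Spec (CommRingCat.of k)) := Over.w o
    haveI : IsIso ((o.left ≫ X.hom).residueFieldMap (IsLocalRing.closedPoint k)) := by
      rw [ho]; erw [Scheme.residueFieldMap_id]; exact IsIso.id _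
    rw [Scheme.residueFieldMap_comp] at this
    haveI := this
    have hsurj : Function.Surjective (o.left.residueFieldMap (IsLocalRing.closedPoint k)).hom := fun z => by
      obtain ⟨w, hw⟩ := (asIso (X.hom.residueFieldMap x ≫ o.left.residueFieldMap _)).commRingCatIsoToRingEquiv.surjective z
      exact ⟨X.hom.residueFieldMap x w, hw⟩
    haveI : IsIso (o.left.residueFieldMap (IsLocalRing.closedPoint k)) :=
      (ConcreteCategory.isIso_iff_bijective _).2 ⟨RingHom.injective _, hsurj⟩
    exact IsIso.of_isIso_comp_right (X.hom.residueFieldMap x) (o.left.residueFieldMap _)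
  · rw [CommRingCat.hom_comp]
    exact (X.hom.finite_appTop).comp
      (RingHom.Finite.of_surjective _ (Scheme.ΓSpecIso (CommRingCat.of k)).commRingCatIsoToRingEquiv.symm.surjective)

end Groth.Agent.S6084
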