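import Groth.Statements.S6085
import Groth.Agent.H7Lim.GrpModel
-- import your own Groth.Agent.* helpers here

set_option autoImplicit false
universe u
open CategoryTheory CategoryTheory.Limits MonoidalCategory CartesianMonoidalCategory MonObj GrpObj AlgebraicGeometry
open SGA3

namespace Groth.Agent.S6085

/-- Let S be the limit of a cofiltered system (S_i) of quasi-compact quasi-separated schemes with affine
transition morphisms, and let G be an S-group scheme of finite presentation over S. Then there are
an index j, an S_j-group scheme G_j of finite presentation over S_j and an isomorphism of S-group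
schemes (an isomorphism over S which is a homomorphism) from G to G_j ×_{S_j} S. (The published
setting takes all S_i affine over a fixed quasi-compact quasi-separated S_0; this row allows any
cofiltered system of quasi-compact quasi-separated schemes with affine transition morphisms.) -/
theorem result {I : Type u} [SmallCategory I] [IsCofiltered I]
    (D : I ⥤ Scheme.{u}) (c : Limits.Cone D) (hc : Limits.IsLimit c)
    [∀ (i i' : I) (f : i ⟶ i'), IsAffineHom (D.map f)] [∀ i, CompactSpace (D.obj i)] [∀ i, QuasiSeparatedSpace (D.obj i)]
    (G : Over c.pt) [GrpObj G] [LocallyOfFinitePresentation G.hom] [QuasiCompact G.hom] [QuasiSeparated G.hom] :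
    ∃ (j : I) (Gj : Over (D.obj j)) (_ : GrpObj Gj) (e : G ≅ Red.bc (c.π.app j) Gj),
      IsMonHom e.hom ∧ LocallyOfFinitePresentation Gj.hom ∧ QuasiCompact Gj.hom ∧ QuasiSeparated Gj.hom := by
  exact Groth.Agent.H7Lim.OverStage.exists_grpModel hc G

end Groth.Agent.S6085
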