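import Groth.Statements.S6089
import Groth.Agent.H06EGA9.FlatDescentAtPoint
import Groth.Agent.H19Grp.NeutralOpen
import Groth.Agent.H19Grp.HomFlatOpen
import Groth.Agent.H19Grp.SmoothLocus
import Groth.Agent.S5328
import Groth.Agent.S5355

set_option autoImplicit false
universe u
open CategoryTheory CategoryTheory.Limits MonoidalCategory CartesianMonoidalCategory MonObj GrpObj AlgebraicGeometry
open SGA3

namespace Groth.Agent.S6089

open CategoryTheory.Limits TopologicalSpace
open Groth.Agent Groth.Agent.H19Grp

set_option backward.isDefEq.respectTransparency false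

variable {k : Type u} [Field k]

theorem neutralSet_field (G : Over (Spec (CommRingCat.of k))) [GrpObj G] :
    SGA3x.neutralSet G = connectedComponent (ept G) := by
  ext x
  rw [mem_neutralSet_iff, neutralAt,
    show G.hom x = IsLocalRing.closedPoint k from Subsingleton.elim (α := PrimeSpectrum k) _ _,
    show G.hom ⁻¹' {IsLocalRing.closedPoint k} = Set.univ from
      Set.eq_univ_of_forall fun y => Subsingleton.elim (α := PrimeSpectrum k) _ _,
    connectedComponentIn_univ]

/-- Whiskering is a base change along the projection. -/
theorem isPullback_whiskerLeft {C : Type*} [Category C] [CartesianMonoidalCategory C] (A : C) {X Y : C} (f : X ⟶ Y) :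
    IsPullback (A ◁ f) (snd A X) (snd A Y) f :=
  ⟨⟨by simp⟩, ⟨PullbackCone.IsLimit.mk _ (fun s => lift (s.fst ≫ fst A Y) s.snd)
    (fun s => by
      refine CartesianMonoidalCategory.hom_ext _ _ ?_ ?_
      · simp
      · simpa using s.condition.symm)
    (fun s => by simp)
    (fun s m h1 h2 => by
      refine CartesianMonoidalCategory.hom_ext _ _ ?_ ?_
      · rw [lift_fst, ← h1]; simp
      · rw [lift_snd, ← h2])⟩⟩

/-- Whiskering is a base change along the projection. -/
theorem isPullback_whiskerRight {C : Type*} [Category C] [CartesianMonoidalCategory C] {X Y : C} (f : X ⟶ Y) (A : C) :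
    IsPullback (fst X A) (f ▷ A) f (fst Y A) :=
  ⟨⟨by simp⟩, ⟨PullbackCone.IsLimit.mk _ (fun s => lift s.fst (s.snd ≫ snd Y A))
    (fun s => by simp)
    (fun s => by
      refine CartesianMonoidalCategory.hom_ext _ _ ?_ ?_
      · simpa using s.condition
      · simp)
    (fun s m h1 h2 => by
      refine CartesianMonoidalCategory.hom_ext _ _ ?_ ?_
      · rw [lift_fst, ← h1]
      · rw [lift_snd, ← h2]; simp)⟩⟩

theorem isMonHom_of_comp_mono {C : Type*} [Category C] [CartesianMonoidalCategory C] {A B X : C}
    [GrpObj A] [GrpObj B] [GrpObj X] (g : A ⟶ B) (j : B ⟶ X) [IsMonHom j] [Mono j] [IsMonHom (g ≫ j)] :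
    IsMonHom g where
  one_hom := by rw [← cancel_mono j, Category.assoc, IsMonHom.one_hom (g ≫ j), IsMonHom.one_hom j]
  mul_hom := by
    rw [← cancel_mono j, Category.assoc, IsMonHom.mul_hom (g ≫ j), Category.assoc, IsMonHom.mul_hom j,
      MonoidalCategory.tensorHom_comp_tensorHom_assoc]

theorem lfp_of_lft (G : Over (Spec (CommRingCat.of k))) [LocallyOfFiniteType G.hom] :
    LocallyOfFinitePresentation G.hom := by
  haveI : IsLocallyNoetherian (Spec (CommRingCat.of k)) := inferInstance
  infer_instance

/-- A morphism from a reduced scheme factors through a surjective closed subscheme. -/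
theorem exists_lift_reduced {T X G : Over (Spec (CommRingCat.of k))} [IsReduced T.left] (i : X ⟶ G)
    [IsClosedImmersion i.left] [Surjective i.left] (t : T ⟶ G) : ∃ t' : T ⟶ X, t' ≫ i = t := by
  haveI : IsIso (pullback.snd i.left t.left) := isIso_of_isClosedImmersion_of_surjective _
  have h : (inv (pullback.snd i.left t.left) ≫ pullback.fst i.left t.left) ≫ i.left = t.left := by
    rw [Category.assoc, pullback.condition, IsIso.inv_hom_id_assoc]
  exact ⟨Over.homMk (inv (pullback.snd i.left t.left) ≫ pullback.fst i.left t.left)
    (by rw [← Over.w i, ← Category.assoc, h, Over.w t]), Over.OverMorphism.ext h⟩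

theorem image_neutral_of_subgroup {F F' : Over (Spec (CommRingCat.of k))} [GrpObj F] [GrpObj F']
    (a : F' ⟶ F) [IsMonHom a] [IsClosedImmersion a.left] [Surjective a.left] :
    a.left '' SGA3x.neutralSet F' = SGA3x.neutralSet F := by
  let h : F'.left ≃ₜ F.left := a.left.isClosedEmbedding.isEmbedding.toHomeomorphOfSurjective a.left.surjective
  have he : h (ept F') = ept F :=
    congrArg (fun m : (𝟙_ (Over (Spec (CommRingCat.of k)))).left ⟶ F.left => m (IsLocalRing.closedPoint k))
      (congrArg Over.Hom.left (IsMonHom.one_hom a))
  rw [neutralSet_field, neutralSet_field, ← he]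
  exact homeomorph_image_component h _

theorem isOpen_neutralSet (G : Over (Spec (CommRingCat.of k))) [GrpObj G] [LocallyOfFiniteType G.hom] :
    IsOpen (SGA3x.neutralSet G) := by
  rw [neutralSet_field]
  exact isOpen_component G

/-- If the neutral component is in the closure of the image of a neutral component, it is the image. -/
theorem image_neutral_of_dense {F G : Over (Spec (CommRingCat.of k))} [GrpObj F] [GrpObj G]
    [LocallyOfFiniteType F.hom] [LocallyOfFiniteType G.hom] (u : F ⟶ G) [IsMonHom u]
    (h : SGA3x.neutralSet G ⊆ closure (u.left '' SGA3x.neutralSet F)) :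
    u.left '' SGA3x.neutralSet F = SGA3x.neutralSet G := by
  refine (image_neutralSet_subset u).antisymm fun y hy => ?_
  have hF := isOpen_neutralSet F
  have hG := isOpen_neutralSet G
  let i := neutralOpenι F hF
  let j := neutralOpenι G hG
  obtain ⟨instF, hmi⟩ := exists_grpObj_neutralOpen F hF
  obtain ⟨instG, hmj⟩ := exists_grpObj_neutralOpen G hG
  letI := instF; letI := instG; haveI := hmi; haveI := hmj
  have hrange : Set.range (i ≫ u).left ⊆ SGA3x.neutralSet G := by
    rintro _ ⟨z, rfl⟩
    exact image_neutralSet_subset u ⟨i.left z, (range_neutralOpenι F hF).le ⟨z, rfl⟩, rfl⟩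
  obtain ⟨u₀, hu₀⟩ := neutralOpen_lift G hG (i ≫ u) hrange
  haveI : IsMonHom (u₀ ≫ j) := by rw [hu₀]; infer_instance
  haveI : IsMonHom u₀ := isMonHom_of_comp_mono u₀ j
  haveI : QuasiCompact u₀.left := by
    haveI : CompactSpace (neutralOpen F hF).left := isCompact_iff_compactSpace.mp
      (show IsCompact (SGA3x.neutralSet F) by rw [neutralSet_field]; exact isCompact_component_ept F)
    haveI : QuasiSeparatedSpace (neutralOpen G hG).left := by
      haveI : LocallyOfFiniteType (neutralOpen G hG).hom :=
        inferInstanceAs (LocallyOfFiniteType ((neutralOpens G hG).ι ≫ G.hom))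
      haveI : IsLocallyNoetherian (neutralOpen G hG).left :=
        LocallyOfFiniteType.isLocallyNoetherian (neutralOpen G hG).hom
      infer_instance
    infer_instance
  have hd : DenseRange u₀.left := by
    intro z
    have hzj : j.left z ∈ closure (u.left '' SGA3x.neutralSet F) :=
      h ((range_neutralOpenι G hG).le ⟨z, rfl⟩)
    rw [j.left.isOpenEmbedding.isEmbedding.closure_eq_preimage_closure_image]
    refine closure_mono ?_ hzj
    rintro _ ⟨x, hx, rfl⟩
    obtain ⟨x₀, rfl⟩ := (range_neutralOpenι F hF).ge hx
    exact ⟨u₀.left x₀, ⟨x₀, rfl⟩, congrArg (fun m : (neutralOpen F hF).left ⟶ G.left => m x₀)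
      (congrArg Over.Hom.left hu₀)⟩
  obtain ⟨y₀, rfl⟩ := (range_neutralOpenι G hG).ge hy
  haveI := (S5355.result k _ _ u₀ hd).1
  obtain ⟨x₀, rfl⟩ := u₀.left.surjective y₀
  exact ⟨i.left x₀, (range_neutralOpenι F hF).le ⟨x₀, rfl⟩,
    (congrArg (fun m : (neutralOpen F hF).left ⟶ G.left => m x₀) (congrArg Over.Hom.left hu₀)).symm⟩

theorem isReduced_fibre (G : Over (Spec (CommRingCat.of k))) [IsReduced G.left]
    (s : (Spec (CommRingCat.of k) : Scheme.{u})) : IsReduced (G.hom.fiber s) := by
  let f := (Spec (CommRingCat.of k)).fromSpecResidueField s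
  haveI : Surjective f := ⟨fun x => ⟨IsLocalRing.closedPoint _, Subsingleton.elim (α := PrimeSpectrum k) _ _⟩⟩
  haveI : IsClosedImmersion f :=
    IsClosedImmersion.iff_isPreimmersion.mpr ⟨inferInstance, f.surjective.range_eq ▸ isClosed_univ⟩
  haveI : IsIso f := isIso_of_isClosedImmersion_of_surjective f
  exact isReduced_of_isOpenImmersion (pullback.fst G.hom f)


/-- Let k be a perfect field and u : F → G a homomorphism of k-group schemes locally of finite type over
k. Let a : F' → F and b : G' → G be homomorphisms which are closed immersions, surjective on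
underlying spaces, with F' and G' reduced (the subgroups F_red and G_red), let p : F → X and q : G →
Y be k-morphisms which are flat, surjective and locally of finite presentation and make the squares
formed by (f', f) ↦ a(f') · f, the second projection, p, p (and likewise for b, q) cartesian (the
quotients of F and G by the left actions of F_red and G_red), and let v : X → Y satisfy p v = u q.
Then u is flat if and only if (ii) holds: the neutral component of G (the connected component of the
unit point) is contained in the closure of the image under u of the neutral component of F, and v is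
flat. -/
theorem result (k : Type u) [Field k] [PerfectField k]
    (F G F' G' : Over (Spec (CommRingCat.of k))) [GrpObj F] [GrpObj G] [GrpObj F'] [GrpObj G']
    [LocallyOfFiniteType F.hom] [LocallyOfFiniteType G.hom] (u : F ⟶ G) [IsMonHom u]
    [IsReduced F'.left] (a : F' ⟶ F) [IsMonHom a] [IsClosedImmersion a.left] [Surjective a.left]
    [IsReduced G'.left] (b : G' ⟶ G) [IsMonHom b] [IsClosedImmersion b.left] [Surjective b.left]
    (X Y : Over (Spec (CommRingCat.of k))) (p : F ⟶ X) [Flat p.left] [Surjective p.left] [LocallyOfFinitePresentation p.left]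
    (hp : IsPullback ((a ▷ F) ≫ μ[F]) (snd F' F) p p)
    (q : G ⟶ Y) [Flat q.left] [Surjective q.left] [LocallyOfFinitePresentation q.left]
    (hq : IsPullback ((b ▷ G) ≫ μ[G]) (snd G' G) q q)
    (v : X ⟶ Y) (hv : p ≫ v = u ≫ q) :
    Flat u.left ↔
      ((∀ p₀ : (𝟙_ (Over (Spec (CommRingCat.of k)))).left, connectedComponent ((η[G] : (𝟙_ (Over (Spec (CommRingCat.of k)))) ⟶ G).left.base p₀) ⊆
          closure (u.left.base '' connectedComponent ((η[F] : (𝟙_ (Over (Spec (CommRingCat.of k)))) ⟶ F).left.base p₀))) ∧
        Flat v.left) := by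
  haveI := lfp_of_lft F
  haveI := lfp_of_lft G
  haveI : LocallyOfFiniteType F'.hom := by rw [← Over.w a]; infer_instance
  haveI : LocallyOfFiniteType G'.hom := by rw [← Over.w b]; infer_instance
  haveI := lfp_of_lft F'
  haveI := lfp_of_lft G'
  have hv' : p.left ≫ v.left = u.left ≫ q.left := congrArg Over.Hom.left hv
  have hcond : (∀ p₀ : (𝟙_ (Over (Spec (CommRingCat.of k)))).left,
      connectedComponent ((η[G] : (𝟙_ (Over (Spec (CommRingCat.of k)))) ⟶ G).left.base p₀) ⊆
        closure (u.left.base '' connectedComponent ((η[F] : (𝟙_ (Over (Spec (CommRingCat.of k)))) ⟶ F).left.base p₀))) ↔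
      SGA3x.neutralSet G ⊆ closure (u.left '' SGA3x.neutralSet F) := by
    rw [neutralSet_field, neutralSet_field]
    refine ⟨fun h => h _, fun h p₀ => ?_⟩
    rw [show p₀ = IsLocalRing.closedPoint k from Subsingleton.elim (α := PrimeSpectrum k) _ _]
    exact h
  rw [hcond]
  refine ⟨fun hu => ?_, fun ⟨hcl, hvf⟩ => ?_⟩
  · refine ⟨fun y hy => subset_closure (((S5328.result _ F G u).1 hu).ge hy), ?_⟩
    haveI : Flat (p.left ≫ v.left) := by rw [hv']; infer_instance
    exact H06EGA9.flat_of_comp_surjective_flat p.left v.left
  · obtain ⟨u', hu'⟩ := exists_lift_reduced b (a ≫ u)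
    haveI : Mono b := Over.mono_of_mono_left _
    haveI : IsMonHom (u' ≫ b) := by rw [hu']; infer_instance
    haveI : IsMonHom u' := isMonHom_of_comp_mono u' b
    have himg : u'.left '' SGA3x.neutralSet F' = SGA3x.neutralSet G' := by
      refine b.left.isClosedEmbedding.injective.image_injective ?_
      rw [image_neutral_of_subgroup b, ← image_neutral_of_dense u hcl, ← image_neutral_of_subgroup a,
        ← Set.image_comp, ← Set.image_comp]
      refine Set.image_congr fun z _ => ?_
      exact congrArg (fun m : F'.left ⟶ G.left => m z) (congrArg Over.Hom.left hu')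
    haveI : Smooth F'.hom := smooth_of_isReduced_perfect F'
    have hflat' : Flat u'.left :=
      (S5328.result _ F' G' u').2 inferInstance (fun s => isReduced_fibre G' s) himg
    let actF := (a ▷ F) ≫ μ[F]
    let actG := (b ▷ G) ≫ μ[G]
    have hpL : IsPullback actF.left (snd F' F).left p.left p.left := hp.map (Over.forget _)
    have hout : IsPullback ((G' ◁ u) ≫ actG).left (snd G' F).left q.left (u.left ≫ q.left) :=
      ((isPullback_whiskerLeft G' u).paste_horiz hq).map (Over.forget _)
    let W := pullback q.left v.left
    let φ : F.left ⟶ W := pullback.lift u.left p.left hv'.symm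
    let r : (G' ⊗ F).left ⟶ W := pullback.lift ((G' ◁ u) ≫ actG).left ((snd G' F).left ≫ p.left)
      (by rw [hout.w, Category.assoc, hv'])
    have hr : IsPullback r (snd G' F).left (pullback.snd q.left v.left) p.left :=
      IsPullback.of_right (by simpa [r, hv'] using hout) (pullback.lift_snd _ _ _)
        (IsPullback.of_hasPullback q.left v.left)
    haveI : Flat r := MorphismProperty.of_isPullback (P := @Flat) hr.flip inferInstance
    haveI : Flat (u' ▷ F).left :=
      MorphismProperty.of_isPullback (P := @Flat) ((isPullback_whiskerRight u' F).map (Over.forget _)) hflat'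
    haveI : Flat actF.left := MorphismProperty.of_isPullback (P := @Flat) hpL.flip inferInstance
    haveI : Surjective actF.left := MorphismProperty.of_isPullback (P := @Surjective) hpL.flip inferInstance
    have hkey : (u' ▷ F) ≫ (G' ◁ u) ≫ actG = actF ≫ u := by
      simp only [actF, actG, Category.assoc, IsMonHom.mul_hom]
      simp only [← Category.assoc]
      congr 1
      refine CartesianMonoidalCategory.hom_ext _ _ ?_ ?_
      · simp [hu']
      · simp
    have hcomp : actF.left ≫ φ = (u' ▷ F).left ≫ r := by
      refine pullback.hom_ext ?_ ?_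
      · simp only [φ, r, Category.assoc, pullback.lift_fst]
        exact (congrArg Over.Hom.left hkey).symm
      · simp only [φ, r, Category.assoc, pullback.lift_snd]
        rw [hpL.w, ← Category.assoc]
        exact congrArg (fun m : _ ⟶ F.left => m ≫ p.left)
          (congrArg Over.Hom.left (whiskerRight_snd u' F)).symm
    haveI : Flat (actF.left ≫ φ) := by rw [hcomp]; infer_instance
    haveI : Flat φ := H06EGA9.flat_of_comp_surjective_flat actF.left φ
    rw [← pullback.lift_fst u.left p.left hv'.symm]
    exact MorphismProperty.comp_mem @Flat φ (pullback.fst q.left v.left) inferInstance inferInstance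

end Groth.Agent.S6089
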