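import Groth.Statements.S6090
import Groth.Agent.H06GenSub.Derived

set_option autoImplicit false
universe u
open CategoryTheory CategoryTheory.Limits MonoidalCategory CartesianMonoidalCategory MonObj GrpObj AlgebraicGeometry
open SGA3

namespace Groth.Agent.S6090

open Groth.Agent Groth.Agent.H06GenSub
open scoped commutatorElement CategoryTheory.Obj

set_option backward.isDefEq.respectTransparency false
set_option linter.style.haveILetI false
set_option synthInstance.maxHeartbeats 100000

/-- Let S be an integral scheme, G an S-group scheme of finite presentation over S all of whose fibres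
are smooth, and n ≥ 1 an integer. Then there are a nonempty open subset U of S and a normal closed
subgroup scheme d : D → G|_U, of finite presentation over U with smooth fibres, such that for every
s ∈ U the fibre D_s → G_s is the n-th derived subgroup scheme of G_s: there are closed subgroup
schemes K⁰, …, Kⁿ of G_s with K⁰ = G_s, each K^p (p ≥ 1) the smallest closed subgroup scheme of G_s
through which K^{p-1} ×_{κ(s)} K^{p-1} → G_s, (x, y) ↦ x y x⁻¹ y⁻¹, factors, and D_s = Kⁿ as
subgroup schemes of G_s. (The published statement also treats the lower central series (G, K^{p-1});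
that variant is not stated here.) -/
theorem result (S : Scheme.{u}) [IsIntegral S] (G : Over S) [GrpObj G]
    [LocallyOfFinitePresentation G.hom] [QuasiCompact G.hom] [QuasiSeparated G.hom]
    (hsm : ∀ s : S, Smooth (G.hom.fiberToSpecResidueField s)) (n : ℕ) (hn : 1 ≤ n) :
    ∃ U : S.Opens, (U : Set S).Nonempty ∧
      ∃ (D : Over (U : Scheme.{u})) (_ : GrpObj D) (d : D ⟶ Red.bc U.ι G), IsMonHom d ∧ IsClosedImmersion d.left ∧
        AlgGrp.IsNormalHom d ∧ LocallyOfFinitePresentation D.hom ∧ QuasiCompact D.hom ∧ QuasiSeparated D.hom ∧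
        (∀ s : (U : Scheme.{u}), Smooth (D.hom.fiberToSpecResidueField s)) ∧
        ∀ s : (U : Scheme.{u}),
          ∃ (K : Fin (n + 1) → Over (Spec ((U : Scheme.{u}).residueField s))) (_ : ∀ p, GrpObj (K p)) (emb : ∀ p, K p ⟶ (Red.bc ((U : Scheme.{u}).fromSpecResidueField s) (Red.bc U.ι G))),
            (∀ p, IsMonHom (emb p) ∧ IsClosedImmersion (emb p).left) ∧ IsIso (emb 0) ∧
            (∀ p : Fin n,
              (∃ c : (K p.castSucc) ⊗ (K p.castSucc) ⟶ (K p.succ), c ≫ emb p.succ = (((fst (K p.castSucc) (K p.castSucc)) ≫ emb p.castSucc) * ((snd (K p.castSucc) (K p.castSucc)) ≫ emb p.castSucc) * ((fst (K p.castSucc) (K p.castSucc)) ≫ emb p.castSucc)⁻¹ * ((snd (K p.castSucc) (K p.castSucc)) ≫ emb p.castSucc)⁻¹)) ∧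
              ∀ (Γ' : Over (Spec ((U : Scheme.{u}).residueField s))) (_ : GrpObj Γ') (i' : Γ' ⟶ (Red.bc ((U : Scheme.{u}).fromSpecResidueField s) (Red.bc U.ι G))), IsMonHom i' → IsClosedImmersion i'.left →
                (∃ c' : (K p.castSucc) ⊗ (K p.castSucc) ⟶ Γ', c' ≫ i' = (((fst (K p.castSucc) (K p.castSucc)) ≫ emb p.castSucc) * ((snd (K p.castSucc) (K p.castSucc)) ≫ emb p.castSucc) * ((fst (K p.castSucc) (K p.castSucc)) ≫ emb p.castSucc)⁻¹ * ((snd (K p.castSucc) (K p.castSucc)) ≫ emb p.castSucc)⁻¹)) → ∃ j : (K p.succ) ⟶ Γ', j ≫ i' = emb p.succ) ∧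
            ∃ e : (Red.bc ((U : Scheme.{u}).fromSpecResidueField s) D) ≅ K (Fin.last n), e.hom ≫ emb (Fin.last n) = ((Over.pullback ((U : Scheme.{u}).fromSpecResidueField s)).map d) := by
  obtain ⟨m, rfl⟩ : ∃ m, n = m + 1 := ⟨n - 1, (Nat.sub_add_cancel hn).symm⟩
  obtain ⟨U, hU, D, _, d, hd, _, h1, h2, h3, hs, hnorm, hD⟩ :=
    Derived.exists_open_derived S G (hsm (genericPoint S)) m
  refine ⟨U, hU, D, inferInstance, d, hd, inferInstance, hnorm, h1, h2, h3,
    fun s => MorphismProperty.pullback_snd (P := @Smooth) _ _ hs, fun s => ?_⟩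
  let σ := (U : Scheme.{u}).fromSpecResidueField s
  haveI : IsClosedImmersion ((Over.pullback σ).map d).left := CommSpread.isClosedImmersion_map σ d
  obtain ⟨f, hf, hf0, hfs, hfc⟩ := Derived.exists_chain (k := (U : Scheme.{u}).residueField s) (m + 1)
    (Red.bc σ D) inferInstance ((Over.pullback σ).map d) inferInstance inferInstance (hD.bc σ)
  refine ⟨fun p => (f p.val).obj, fun p => (f p.val).grp, fun p => (f p.val).emb,
    fun p => hfs p.val (Nat.lt_succ_iff.mp p.isLt), hf0, fun p => hfc p.val p.isLt, ?_⟩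
  have key : ∀ x : Derived.Sub (Red.bc σ (Red.bc U.ι G)),
      x = ⟨Red.bc σ D, inferInstance, (Over.pullback σ).map d⟩ →
      ∃ e : Red.bc σ D ≅ x.obj, e.hom ≫ x.emb = (Over.pullback σ).map d := by
    rintro x rfl
    exact ⟨Iso.refl _, Category.id_comp _⟩
  exact key _ hf

end Groth.Agent.S6090
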