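import Groth.Statements.S6092
import Groth.Agent.H7Lim.TorsorStage
-- import your own Groth.Agent.* helpers here

set_option autoImplicit false
universe u
open CategoryTheory CategoryTheory.Limits MonoidalCategory CartesianMonoidalCategory MonObj GrpObj AlgebraicGeometry
open SGA3

namespace Groth.Agent.S6092

/-- Let S be the limit of a cofiltered system (S_i) of quasi-compact quasi-separated schemes with affine
transition morphisms, j an index, G_j an S_j-group scheme and X_j an S_j-scheme with an action of
G_j, both of finite presentation over S_j. For a base change G, X (with the base-changed action) say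
that X is a G-torsor for the fppf topology when (g, x) ↦ (g · x, x) is an isomorphism G × X → X × X
and the structure morphism of X is covering for the fppf topology: some faithfully flat morphism of
finite presentation Z → (base) factors through X. Then X_j ×_{S_j} S is a torsor under G_j ×_{S_j} S
if and only if there is an index i over j such that X_j ×_{S_j} S_i is a torsor under G_j ×_{S_j}
S_i. (The published statement also treats homogeneous spaces, where (g, x) ↦ (g · x, x) is only
required to be an fppf covering; that case is not stated. The published setting takes all S_i affine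
over a fixed quasi-compact quasi-separated S_0.) -/
theorem result {I : Type u} [SmallCategory I] [IsCofiltered I]
    (D : I ⥤ Scheme.{u}) (c : Limits.Cone D) (hc : Limits.IsLimit c)
    [∀ (i i' : I) (f : i ⟶ i'), IsAffineHom (D.map f)] [∀ i, CompactSpace (D.obj i)] [∀ i, QuasiSeparatedSpace (D.obj i)]
    (j : I) (Gj Xj : Over (D.obj j)) [GrpObj Gj] (act : AlgGrp.Action Gj Xj)
    [LocallyOfFinitePresentation Gj.hom] [QuasiCompact Gj.hom] [QuasiSeparated Gj.hom]
    [LocallyOfFinitePresentation Xj.hom] [QuasiCompact Xj.hom] [QuasiSeparated Xj.hom] :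
    (IsIso (lift (Functor.LaxMonoidal.μ (Over.pullback (c.π.app j)) Gj Xj ≫ (Over.pullback (c.π.app j)).map act.act) (snd (Red.bc (c.π.app j) Gj) (Red.bc (c.π.app j) Xj))) ∧
        ∃ (Z : Scheme.{u}) (v : Z ⟶ c.pt) (w : Z ⟶ (Red.bc (c.π.app j) Xj).left), w ≫ (Red.bc (c.π.app j) Xj).hom = v ∧
          Flat v ∧ Surjective v ∧ LocallyOfFinitePresentation v ∧ QuasiCompact v ∧ QuasiSeparated v) ↔
    ∃ (i : I) (f : i ⟶ j), (IsIso (lift (Functor.LaxMonoidal.μ (Over.pullback (D.map f)) Gj Xj ≫ (Over.pullback (D.map f)).map act.act) (snd (Red.bc (D.map f) Gj) (Red.bc (D.map f) Xj))) ∧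
        ∃ (Z : Scheme.{u}) (v : Z ⟶ (D.obj i)) (w : Z ⟶ (Red.bc (D.map f) Xj).left), w ≫ (Red.bc (D.map f) Xj).hom = v ∧
          Flat v ∧ Surjective v ∧ LocallyOfFinitePresentation v ∧ QuasiCompact v ∧ QuasiSeparated v) := by
  exact Groth.Agent.H7Lim.OverStage.torsor_iff hc act.act

end Groth.Agent.S6092
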