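import Groth.Statements.S6093


set_option autoImplicit false
set_option maxHeartbeats 1000000
set_option synthInstance.maxHeartbeats 100000
set_option linter.style.haveILetI false
set_option backward.isDefEq.respectTransparency false
universe u
open CategoryTheory MonObj GrpObj AlgebraicGeometry
open scoped TensorProduct
open SGA3

namespace Groth.Agent.S6093

open scoped TensorProduct
open VecGrp TensorProduct

theorem exists_ptMap {R : Type u} [CommRing R] {B B' : Type u} [CommRing B] [Algebra R B] [CommRing B'] [Algebra R B']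
    (v : VecGrp.pt R B' ⟶ VecGrp.pt R B) : ∃ φ : B →ₐ[R] B', VecGrp.ptMap φ = v := by
  obtain ⟨ψ, hψ⟩ := Spec.map_surjective v.left
  have hc : CommRingCat.ofHom (algebraMap R B) ≫ ψ = CommRingCat.ofHom (algebraMap R B') := by
    apply Spec.map_injective
    rw [Spec.map_comp, hψ]
    exact Over.w v
  exact ⟨{ ψ.hom with commutes' := fun r => congr($(hc).hom r) }, Over.OverMorphism.ext hψ⟩

theorem exists_fg_submodule {R : Type u} [CommRing R] {B E : Type u} [AddCommGroup B] [Module R B]
    [AddCommGroup E] [Module R E] (z : B ⊗[R] E) :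
    ∃ P : Submodule R E, P.FG ∧ z ∈ LinearMap.range (P.subtype.lTensor B) := by
  classical
  induction z using TensorProduct.induction_on with
  | zero => exact ⟨⊥, Submodule.fg_bot, zero_mem _⟩
  | tmul b e =>
    exact ⟨Submodule.span R {e}, Submodule.fg_span_singleton e,
      ⟨b ⊗ₜ ⟨e, Submodule.mem_span_singleton_self e⟩, rfl⟩⟩
  | add x y hx hy =>
    obtain ⟨P, hP, hx⟩ := hx
    obtain ⟨P', hP', hy⟩ := hy
    refine ⟨P ⊔ P', hP.sup hP', add_mem ?_ ?_⟩
    · obtain ⟨w, rfl⟩ := hx
      exact ⟨(Submodule.inclusion le_sup_left).lTensor B w, by rw [← LinearMap.lTensor_comp_apply]; rfl⟩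
    · obtain ⟨w, rfl⟩ := hy
      exact ⟨(Submodule.inclusion le_sup_right).lTensor B w, by rw [← LinearMap.lTensor_comp_apply]; rfl⟩

/-- membership in the image of a submodule after base change -/
theorem mem_range_iff {R : Type u} [CommRing R] {B E : Type u} [CommRing B] [Algebra R B]
    [AddCommGroup E] [Module R E] (P : Submodule R E) (z : B ⊗[R] E) :
    z ∈ LinearMap.range (P.subtype.baseChange B) ↔ P.mkQ.baseChange B z = 0 := by
  have h : Function.Exact (P.subtype.lTensor B) (P.mkQ.lTensor B) :=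
    lTensor_exact B (LinearMap.exact_subtype_mkQ P) P.mkQ_surjective
  refine Iff.trans ?_ (h z).symm
  exact Iff.rfl

section Cover

variable {R : Type u} [CommRing R] {G : Over (Spec (CommRingCat.of R))} [GrpObj G]
  {E : Type u} [AddCommGroup E] [Module R E] (m : VecGrp.GMod G E)

/-- vanishing at the charts gives vanishing at all points -/
theorem key {J : Type*} (Bc : J → Type u) [∀ i, CommRing (Bc i)] [∀ i, Algebra R (Bc i)]
    (uc : ∀ i, VecGrp.pt R (Bc i) ⟶ G) [∀ i, IsOpenImmersion (uc i).left]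
    (hcov : ∀ y : G.left, ∃ i, y ∈ Set.range (uc i).left)
    (P : Submodule R E) (x : E)
    (hx : ∀ i, P.mkQ.baseChange (Bc i) (m.ρ (Bc i) (uc i) ((1 : Bc i) ⊗ₜ[R] x)) = 0)
    (B : Type u) [CommRing B] [Algebra R B] (h : VecGrp.pt R B ⟶ G) :
    P.mkQ.baseChange B (m.ρ B h ((1 : B) ⊗ₜ[R] x)) = 0 := by
  set z := P.mkQ.baseChange B (m.ρ B h ((1 : B) ⊗ₜ[R] x)) with hz
  suffices hI : ∀ p : PrimeSpectrum B, ∃ r : B, r ∉ p.asIdeal ∧ ∃ n : ℕ, r ^ n • z = 0 by
    by_contra hne
    have hproper : (Submodule.span B {z}).annihilator ≠ ⊤ := fun e => hne (by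
      have h1 : (1 : B) ∈ (Submodule.span B {z}).annihilator := e ▸ Submodule.mem_top
      simpa using Submodule.mem_annihilator.mp h1 z (Submodule.mem_span_singleton_self z))
    obtain ⟨M, hM, hle⟩ := Ideal.exists_le_maximal _ hproper
    obtain ⟨r, hr, n, hrn⟩ := hI ⟨M, hM.isPrime⟩
    refine hr (hM.isPrime.mem_of_pow_mem n (hle ?_))
    rw [Submodule.mem_annihilator_span_singleton]
    exact hrn
  intro p
  obtain ⟨i, hi⟩ := hcov (h.left p)
  obtain ⟨U, ⟨r, rfl⟩, hpU, hU⟩ := PrimeSpectrum.isTopologicalBasis_basic_opens.exists_subset_of_mem_open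
    (show p ∈ h.left.base ⁻¹' Set.range (uc i).left from hi)
    ((uc i).left.isOpenEmbedding.isOpen_range.preimage h.left.base.hom.continuous)
  refine ⟨r, hpU, ?_⟩
  let φ : B →ₐ[R] Localization.Away r := IsScalarTower.toAlgHom R B (Localization.Away r)
  have hrange : Set.range (VecGrp.ptMap φ ≫ h).left ⊆ Set.range (uc i).left := by
    rintro _ ⟨q, rfl⟩
    have hq : (VecGrp.ptMap φ).left q ∈ (PrimeSpectrum.basicOpen r : Set (PrimeSpectrum B)) := by
      rw [← PrimeSpectrum.localization_away_comap_range (Localization.Away r) r]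
      exact ⟨q, rfl⟩
    exact hU hq
  let w : VecGrp.pt R (Localization.Away r) ⟶ VecGrp.pt R (Bc i) :=
    Over.homMk (IsOpenImmersion.lift (uc i).left (VecGrp.ptMap φ ≫ h).left hrange) (by
      rw [← Over.w (uc i), IsOpenImmersion.lift_fac_assoc, Over.w])
  have hw : w ≫ uc i = VecGrp.ptMap φ ≫ h := Over.OverMorphism.ext (IsOpenImmersion.lift_fac _ _ _)
  obtain ⟨ψ, hψ⟩ := exists_ptMap w
  have h0 : VecGrp.Wmap φ z = 0 := by
    rw [hz, VecGrp.baseChange_natural, m.naturality, VecGrp.Wmap_tmul, map_one, ← hw, ← hψ,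
      ← map_one ψ, ← VecGrp.Wmap_tmul ψ (1 : Bc i) x, ← m.naturality, ← VecGrp.baseChange_natural, hx i, map_zero]
  let f := AlgebraTensorModule.rTensor R (E ⧸ P) (Algebra.linearMap B (Localization.Away r))
  haveI : IsLocalizedModule (Submonoid.powers r) (Algebra.linearMap B (Localization.Away r)) := inferInstance
  have hf : f z = f 0 := by
    rw [map_zero]
    exact h0
  obtain ⟨⟨_, n, rfl⟩, hn⟩ := IsLocalizedModule.exists_of_eq (S := Submonoid.powers r) (f := f) hf
  exact ⟨n, by simpa [Submonoid.smul_def] using hn⟩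

end Cover


/-- Let R be a Noetherian ring, G a group scheme over Spec R which is flat, quasi-compact and
quasi-separated over Spec R (not necessarily affine), E an R-module carrying a G-module structure
(for every R-algebra B, a natural action of the B-points of G on B ⊗_R E by B-linear automorphisms),
and M a finitely generated R-submodule of E. Then M is contained in a finitely generated submodule N
of E which is stable under G: for every R-algebra B and every B-valued point g of G, the action of g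
carries the image of B ⊗_R N in B ⊗_R E into itself. (The published statement is over a Noetherian
base scheme S with quasi-coherent and coherent modules; this row is the case S affine, with test
schemes affine.) -/
theorem result (R : Type u) [CommRing R] [IsNoetherianRing R]
    (G : Over (Spec (CommRingCat.of R))) [GrpObj G] [Flat G.hom] [QuasiCompact G.hom] [QuasiSeparated G.hom]
    (E : Type u) [AddCommGroup E] [Module R E] (m : VecGrp.GMod G E) (M : Submodule R E) (hM : M.FG) :
    ∃ N : Submodule R E, M ≤ N ∧ N.FG ∧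
      ∀ (B : Type u) [CommRing B] [Algebra R B] (g : VecGrp.pt R B ⟶ G) (x : E), x ∈ N →
        m.ρ B g ((1 : B) ⊗ₜ[R] x) ∈ LinearMap.range (N.subtype.baseChange B) := by
  classical
  haveI : CompactSpace G.left := QuasiCompact.compactSpace_of_compactSpace G.hom
  let Cv := G.left.affineCover.finiteSubcover
  let Bc : Cv.I₀ → Type u := fun i => Γ(Cv.X i, ⊤)
  haveI : ∀ i, IsAffine (Cv.X i) := fun i => by
    dsimp [Cv, Scheme.OpenCover.finiteSubcover]
    infer_instance
  let e : ∀ i, Spec Γ(Cv.X i, ⊤) ⟶ G.left := fun i => (Cv.X i).isoSpec.inv ≫ Cv.f i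
  letI halg : ∀ i, Algebra R (Bc i) := fun i => (Spec.preimage (e i ≫ G.hom)).hom.toAlgebra
  let uc : ∀ i, VecGrp.pt R (Bc i) ⟶ G := fun i => Over.homMk (e i) (Spec.map_preimage (e i ≫ G.hom)).symm
  haveI : ∀ i, IsOpenImmersion (uc i).left := fun i => inferInstanceAs (IsOpenImmersion (e i))
  haveI hflat : ∀ i, Module.Flat R (Bc i) := fun i => by
    have h1 : Flat (Spec.map (Spec.preimage (e i ≫ G.hom))) := by
      rw [Spec.map_preimage]
      infer_instance
    exact (HasRingHomProperty.Spec_iff (P := @Flat)).mp h1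
  have hcov : ∀ y : G.left, ∃ i, y ∈ Set.range (uc i).left := fun y => by
    obtain ⟨i, q, hq⟩ := Cv.exists_eq y
    refine ⟨i, (Cv.X i).isoSpec.hom q, ?_⟩
    change e i ((Cv.X i).isoSpec.hom q) = y
    rw [← Scheme.Hom.comp_apply, Iso.hom_inv_id_assoc]
    exact hq
  haveI : Fintype Cv.I₀ := Fintype.ofFinite _
  obtain ⟨s, rfl⟩ := hM
  choose P hPfg hP using fun (i : Cv.I₀) (x : E) => exists_fg_submodule (m.ρ (Bc i) (uc i) ((1 : Bc i) ⊗ₜ[R] x))
  let M' : Submodule R E := Submodule.span R (s : Set E) ⊔ Finset.univ.sup (fun i => s.sup (P i))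
  have hM' : M'.FG := (Submodule.fg_span s.finite_toSet).sup
    (Finset.sup_induction Submodule.fg_bot (fun a ha b hb => ha.sup hb)
      fun i _ => Finset.sup_induction Submodule.fg_bot (fun a ha b hb => ha.sup hb) fun x _ => hPfg i x)
  let Φ : E →ₗ[R] ∀ j, Bc j ⊗[R] (E ⧸ M') := LinearMap.pi fun j =>
    ((M'.mkQ.baseChange (Bc j)).restrictScalars R) ∘ₗ ((m.ρ (Bc j) (uc j)).toLinearMap.restrictScalars R) ∘ₗ
      TensorProduct.mk R (Bc j) E 1
  let N : Submodule R E := LinearMap.ker Φ
  have hN : ∀ x, x ∈ N → ∀ j, M'.mkQ.baseChange (Bc j) (m.ρ (Bc j) (uc j) ((1 : Bc j) ⊗ₜ[R] x)) = 0 :=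
    fun x hx j => congr_fun (LinearMap.mem_ker.mp hx) j
  have hMN : Submodule.span R (s : Set E) ≤ N := by
    rw [Submodule.span_le]
    intro x hx
    refine LinearMap.mem_ker.mpr (funext fun j => ?_)
    refine (mem_range_iff M' _).mp ?_
    obtain ⟨w, hw⟩ := hP j x
    have hle : P j x ≤ M' :=
      ((Finset.le_sup (f := P j) hx).trans (Finset.le_sup (f := fun i => s.sup (P i)) (Finset.mem_univ j))).trans le_sup_right
    refine ⟨(Submodule.inclusion hle).lTensor (Bc j) w, ?_⟩
    change (M'.subtype.lTensor (Bc j)) ((Submodule.inclusion hle).lTensor (Bc j) w) = _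
    rw [← LinearMap.lTensor_comp_apply]
    exact hw
  have hNM : N ≤ M' := by
    intro x hx
    have h1 := key m Bc uc hcov M' x (hN x hx) R 1
    rw [map_one] at h1
    have h2 := congrArg (TensorProduct.lid R (E ⧸ M')) h1
    simpa using h2
  have hfg : N.FG := by
    haveI : Module.Finite R M' := Module.Finite.iff_fg.mpr hM'
    have h3 : (N.comap M'.subtype).FG := IsNoetherian.noetherian _
    have h4 := h3.map M'.subtype
    rwa [Submodule.map_comap_subtype, inf_eq_right.mpr hNM] at h4
  refine ⟨N, hMN, hfg, fun B _ _ g x hx => (mem_range_iff N _).mpr (key m Bc uc hcov N x (fun i => ?_) B g)⟩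
  refine (mem_range_iff N _).mp ?_
  set z := m.ρ (Bc i) (uc i) ((1 : Bc i) ⊗ₜ[R] x) with hzdef
  have hex : Function.Exact (N.subtype.lTensor (Bc i)) (Φ.lTensor (Bc i)) :=
    Module.Flat.lTensor_exact (Bc i) (LinearMap.exact_subtype_ker_map Φ)
  refine (hex z).mp ?_
  apply (TensorProduct.piRight R R (Bc i) (fun j => Bc j ⊗[R] (E ⧸ M'))).injective
  rw [map_zero]
  funext j
  apply (TensorProduct.assoc R (Bc i) (Bc j) (E ⧸ M')).symm.injective
  rw [Pi.zero_apply, map_zero]
  let C := Bc i ⊗[R] Bc j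
  let il : Bc i →ₐ[R] C := Algebra.TensorProduct.includeLeft
  let ir : Bc j →ₐ[R] C := Algebra.TensorProduct.includeRight
  have hcomp : ∀ v : Bc i ⊗[R] E,
      (TensorProduct.assoc R (Bc i) (Bc j) (E ⧸ M')).symm
        (TensorProduct.piRight R R (Bc i) (fun j => Bc j ⊗[R] (E ⧸ M')) (Φ.lTensor (Bc i) v) j) =
      M'.mkQ.baseChange C (m.ρ C (VecGrp.ptMap ir ≫ uc j) (VecGrp.Wmap il v)) := by
    intro v
    induction v using TensorProduct.induction_on with
    | zero => simp
    | tmul b y =>
      have e1 : VecGrp.Wmap il (b ⊗ₜ[R] y) = il b • VecGrp.Wmap ir ((1 : Bc j) ⊗ₜ[R] y) := by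
        rw [VecGrp.Wmap_tmul, VecGrp.Wmap_tmul, map_one, TensorProduct.smul_tmul', smul_eq_mul, _root_.mul_one]
      rw [LinearMap.lTensor_tmul, TensorProduct.piRight_apply, TensorProduct.piRightHom_tmul, e1,
        map_smul, map_smul, ← m.naturality]
      change (TensorProduct.assoc R (Bc i) (Bc j) (E ⧸ M')).symm
        (b ⊗ₜ[R] M'.mkQ.baseChange (Bc j) (m.ρ (Bc j) (uc j) ((1 : Bc j) ⊗ₜ[R] y))) = _
      generalize m.ρ (Bc j) (uc j) ((1 : Bc j) ⊗ₜ[R] y) = w
      induction w using TensorProduct.induction_on with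
      | zero => simp
      | tmul c e =>
        simp [il, ir, TensorProduct.smul_tmul']
        erw [Algebra.TensorProduct.tmul_mul_tmul, _root_.mul_one, _root_.one_mul]
      | add w w' hw hw' => simp only [map_add, TensorProduct.tmul_add, smul_add, hw, hw']
    | add v v' hv hv' => simp only [map_add, Pi.add_apply, hv, hv']
  rw [hcomp, hzdef, m.naturality, VecGrp.Wmap_tmul, map_one]
  change M'.mkQ.baseChange C ((m.ρ C (VecGrp.ptMap ir ≫ uc j) * m.ρ C (VecGrp.ptMap il ≫ uc i)) ((1 : C) ⊗ₜ[R] x)) = 0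
  rw [← map_mul]
  exact key m Bc uc hcov M' x (hN x hx) C _

end Groth.Agent.S6093
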