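import Groth.Statements.S6101
import Groth.Agent.H21Split.Order
-- import your own Groth.Agent.* helpers here

set_option autoImplicit false
open CategoryTheory MonoidalCategory CartesianMonoidalCategory MonObj GrpObj AlgebraicGeometry
universe u
set_option backward.isDefEq.respectTransparency false
set_option synthInstance.maxHeartbeats 400000
open RedSub

namespace Groth.Agent.S6101

/-- On points: let G be a split reductive S-group (splitting D with torus T, lattice M and root
homomorphisms u_a), fix a total order on M compatible with addition, and let a_1 < ⋯ < a_N be the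
roots which are positive for it, enumerated increasingly by e. For i + m = N write U_{>i} for the
products u_{a_{i+1}}(y_1) ⋯ u_{a_N}(y_m) of points of G_a, taken in increasing order. Then: U_{>i}
is closed under products and inverses; it is normalised by the points of T and by the points of
U_{>0}; and conjugating a point of U_{>i} by a point of U_{>0} does not change its first factor y_1
(inner automorphisms of U_{>0} act trivially on U_{>i}/U_{>i+1} = U_{a_{i+1}}). -/
theorem result {S : Scheme.{u}} {G : Over S} [GrpObj G] (D : Red.SplitRed G)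
    [LinearOrder D.M] [IsOrderedAddMonoid D.M] {N : ℕ} (e : Fin N → D.idx) (he : Function.Injective e)
    (hrange : ∀ a : D.idx, a ∈ Set.range e ↔ 0 < D.P.root a) (hmono : StrictMono (fun k => D.P.root (e k)))
    (i m : ℕ) (h : i + m = N) :
    (∀ (X : Over S) (y y' : Fin m → (X ⟶ Red.Ga S)), ∃ z : Fin m → (X ⟶ Red.Ga S),
      (List.ofFn (fun k => z k ≫ D.u (e (Fin.cast h (Fin.natAdd i k))))).prod =
        (List.ofFn (fun k => y k ≫ D.u (e (Fin.cast h (Fin.natAdd i k))))).prod *
          (List.ofFn (fun k => y' k ≫ D.u (e (Fin.cast h (Fin.natAdd i k))))).prod) ∧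
    (∀ (X : Over S) (y : Fin m → (X ⟶ Red.Ga S)), ∃ z : Fin m → (X ⟶ Red.Ga S),
      (List.ofFn (fun k => z k ≫ D.u (e (Fin.cast h (Fin.natAdd i k))))).prod =
        ((List.ofFn (fun k => y k ≫ D.u (e (Fin.cast h (Fin.natAdd i k))))).prod)⁻¹) ∧
    (∀ (X : Over S) (t : X ⟶ D.T) (y : Fin m → (X ⟶ Red.Ga S)), ∃ z : Fin m → (X ⟶ Red.Ga S),
      (List.ofFn (fun k => z k ≫ D.u (e (Fin.cast h (Fin.natAdd i k))))).prod =
        (t ≫ D.i) * (List.ofFn (fun k => y k ≫ D.u (e (Fin.cast h (Fin.natAdd i k))))).prod * (t ≫ D.i)⁻¹) ∧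
    (∀ (X : Over S) (x : Fin N → (X ⟶ Red.Ga S)) (y : Fin m → (X ⟶ Red.Ga S)), ∃ z : Fin m → (X ⟶ Red.Ga S),
      (List.ofFn (fun k => z k ≫ D.u (e (Fin.cast h (Fin.natAdd i k))))).prod =
        (List.ofFn (fun k => x k ≫ D.u (e k))).prod *
          (List.ofFn (fun k => y k ≫ D.u (e (Fin.cast h (Fin.natAdd i k))))).prod *
            ((List.ofFn (fun k => x k ≫ D.u (e k))).prod)⁻¹ ∧
      ∀ k : Fin m, (k : ℕ) = 0 → z k = y k) := by
  classical
  subst h
  let e' : Fin m → D.idx := fun k => e (Fin.natAdd i k)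
  have hpos : ∀ k, 0 < D.P.root (e k) := fun k => (hrange _).mp ⟨k, rfl⟩
  have he' : Function.Injective e' := he.comp (Fin.natAdd_injective m i)
  have hle : ∀ k : Fin (i + m), i ≤ (k : ℕ) → e k ∈ Set.range e' := fun k hk =>
    ⟨⟨k - i, by omega⟩, congrArg e (Fin.ext (by simp; omega))⟩
  have hΨ : H21Split.IsPosSet D.P (Set.range e') := by
    refine ⟨fun a b c ha hb hc => ?_, fun a b ha hb hb' => ?_⟩
    · obtain ⟨ka, rfl⟩ := ha
      obtain ⟨kb, rfl⟩ := hb
      obtain ⟨kc, rfl⟩ := (hrange c).mpr (by rw [← hc]; exact add_pos (hpos _) (hpos _))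
      refine hle kc ?_
      by_contra hlt
      have h1 : D.P.root (e kc) < D.P.root (e' ka) := hmono (show (kc : ℕ) < i + ka by omega)
      exact absurd h1 (not_lt.mpr (by rw [← hc]; exact le_add_of_nonneg_right (hpos _).le))
    · obtain ⟨ka, rfl⟩ := ha
      obtain ⟨kb, rfl⟩ := hb'
      have h1 : 0 < D.P.root (e' kb) := hpos _
      rw [hb] at h1
      exact absurd h1 (not_lt.mpr (neg_nonpos.mpr (hpos _).le))
  refine ⟨fun X y y' => H21Split.exists_mul D hΨ e' he' rfl y y',
    fun X y => H21Split.exists_inverse D hΨ e' he' rfl y,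
    fun X t y => H21Split.exists_torus_conj D e' t y, ?_⟩
  intro X x y
  have hP : H21Split.IsPosSet D.P (Set.range e) := H21Split.isPosSet_of_order hrange
  obtain ⟨Q, hQw, hQZ, hQ⟩ := H21Split.exists_global_eval D hP e he rfl (Sum.elim e e')
    (fun v => by rcases v with k | k <;> exact ⟨_, rfl⟩) (Set.range Sum.inr)
    (fun X v => H21Split.xProd D e (fun k => v (Sum.inl k)) * H21Split.xProd D e' (fun k => v (Sum.inr k)) *
      (H21Split.xProd D e (fun k => v (Sum.inl k)))⁻¹)
    (fun X Y f v => by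
      rw [MonObj.comp_mul, MonObj.comp_mul, GrpObj.comp_inv, H21Split.comp_xProd, H21Split.comp_xProd])
    (fun X t v v' h => by
      rw [H21Split.xProd_scale D t e _ _ fun k => h (Sum.inl k),
        H21Split.xProd_scale D t e' _ _ fun k => h (Sum.inr k)]
      group)
    (fun X => by
      rw [H21Split.xProd_one D e _ (fun _ => rfl), H21Split.xProd_one D e' _ (fun _ => rfl), inv_one,
        _root_.mul_one, _root_.mul_one])
    (fun X v h => by
      rw [H21Split.xProd_one D e' _ fun k => h _ ⟨k, rfl⟩, _root_.mul_one, mul_inv_cancel])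
  rcases Nat.eq_zero_or_pos m with rfl | j0
  · refine ⟨y, ?_, fun j => j.elim0⟩
    rw [List.ofFn_zero, List.prod_nil, _root_.mul_one, mul_inv_cancel]
  have hmon : ∀ k d, (Q k).coeff d ≠ 0 → (k : ℕ) ≤ i →
      ∃ j : Fin m, d = Finsupp.single (Sum.inr j) 1 ∧ e k = e' j := by
    intro k d hd hk
    obtain ⟨_, ⟨j, rfl⟩, hj⟩ := hQZ ⟨Sum.inr ⟨0, j0⟩, ⟨_, rfl⟩⟩ k d hd
    have hwt := (hQw k d hd).2
    rcases H21Split.wt_cases D (fun v => D.P.root (Sum.elim e e' v))
      (fun v => by rcases v with a | a <;> exact hpos _) hj with hd1 | hlt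
    · refine ⟨j, hd1, ?_⟩
      rw [hd1, H21Split.wt_single, one_smul] at hwt
      exact (D.P.root.injective hwt).symm
    · rw [hwt] at hlt
      exact absurd hlt (not_lt.mpr (hmono.monotone (show (k : ℕ) ≤ i + j by omega)))
  have hQ0 : ∀ k : Fin i, Q (Fin.castAdd m k) = 0 := fun k => MvPolynomial.ext _ _ fun d => by
    by_contra hd
    rw [MvPolynomial.coeff_zero] at hd
    obtain ⟨j, -, hkj⟩ := hmon _ d hd (by simp)
    have := congrArg Fin.val (he hkj)
    simp at this
    omega
  have hone : ∀ (X : Over S) (z : Fin (i + m) → (X ⟶ Red.Ga S)) (v : Fin (i + m) ⊕ Fin m → (X ⟶ Red.Ga S)),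
      (∀ k, Red.gaFn (z k) = MvPolynomial.eval₂ X.hom.appTop.hom (fun v' => Red.gaFn (v v')) (Q k)) →
        ∀ k : Fin i, z (Fin.castAdd m k) = 1 := fun X z v hz k => by
    refine H27Witt.GaCoord.gaFn_injective ?_
    rw [hz, hQ0, MvPolynomial.eval₂_zero, H27Witt.GaCoord.gaFn_one]
  choose z hz using fun k => H27Witt.GaCoord.gaFn_surjective (X := X)
    (MvPolynomial.eval₂ X.hom.appTop.hom (fun v => Red.gaFn (Sum.elim x y v)) (Q k))
  refine ⟨fun k => z (Fin.natAdd i k), ?_, fun j hj => H27Witt.GaCoord.gaFn_injective ?_⟩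
  · exact (H21Split.xProd_tail D e z (hone X z _ hz)).symm.trans ((hQ X (Sum.elim x y) z).mpr hz)
  · -- the first factor, read off at x = 1
    let z0 : Fin (i + m) → (X ⟶ Red.Ga S) := Fin.append (fun _ => 1) y
    have hF : H21Split.xProd D e z0 = H21Split.xProd D e (fun _ => 1) * H21Split.xProd D e' y *
        (H21Split.xProd D e fun _ => (1 : X ⟶ Red.Ga S))⁻¹ := by
      rw [H21Split.xProd_tail D e z0 (fun k => Fin.append_left _ _ k), H21Split.xProd_one D e _ (fun _ => rfl),
        inv_one, _root_.one_mul, _root_.mul_one]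
      simp only [z0, Fin.append_right]
      rfl
    have h1 := (hQ X (Sum.elim (fun _ => 1) y) z0).mp hF (Fin.natAdd i j)
    simp only [z0, Fin.append_right] at h1
    rw [hz, h1]
    simp only [MvPolynomial.eval₂_eq]
    refine Finset.sum_congr rfl fun d hd => ?_
    congr 1
    obtain ⟨j', hdj, -⟩ := hmon _ d (MvPolynomial.mem_support_iff.mp hd) (by simp; omega)
    refine Finset.prod_congr rfl fun v hv => ?_
    rw [hdj, Finsupp.support_single _ one_ne_zero, Finset.mem_singleton] at hv
    subst hv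
    rfl

end Groth.Agent.S6101
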