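import Groth.Statements.S6102
import Groth.Agent.H21Split.Order
-- import your own Groth.Agent.* helpers here

set_option autoImplicit false
open CategoryTheory MonoidalCategory CartesianMonoidalCategory MonObj GrpObj AlgebraicGeometry
universe u
set_option backward.isDefEq.respectTransparency false
set_option synthInstance.maxHeartbeats 400000
open RedSub

namespace Groth.Agent.S6102

/-- Existence, uniqueness and triangular form of the polynomial group law: let G be a split reductive
S-group (splitting D with root homomorphisms u_a and lattice M), fix a total order on M compatible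
with addition, and let a_1 < ⋯ < a_N be the positive roots, enumerated increasingly by e. Then there
is a unique family (Q_k) of polynomials in 2N variables over Γ(S, O_S) expressing the group law in
the coordinates x ↦ u_{a_1}(x_1) ⋯ u_{a_N}(x_N): for points x, y, z of G_a^N one has u(z) = u(x)
u(y) if and only if the coordinate of each z_k is Q_k(x, y); moreover Q_k = x_k + y_k + Q'_k with
Q'_k a polynomial in the x_j, y_j for j < k only. (The further assertion that the coefficients lie
in the subring generated by the structure constants of the commutator formulas is not stated.) -/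
theorem result {S : Scheme.{u}} {G : Over S} [GrpObj G] (D : Red.SplitRed G)
    [LinearOrder D.M] [IsOrderedAddMonoid D.M] {N : ℕ} (e : Fin N → D.idx) (he : Function.Injective e)
    (hrange : ∀ a : D.idx, a ∈ Set.range e ↔ 0 < D.P.root a) (hmono : StrictMono (fun k => D.P.root (e k))) :
    ∃! Q : Fin N → MvPolynomial (Fin N ⊕ Fin N) Γ(S, ⊤),
      (∀ (X : Over S) (x y z : Fin N → (X ⟶ Red.Ga S)),
        (List.ofFn (fun k => z k ≫ D.u (e k))).prod =
            (List.ofFn (fun k => x k ≫ D.u (e k))).prod * (List.ofFn (fun k => y k ≫ D.u (e k))).prod ↔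
          ∀ k, Red.gaFn (z k) = MvPolynomial.eval₂ X.hom.appTop.hom
            (Sum.elim (fun j => Red.gaFn (x j)) (fun j => Red.gaFn (y j))) (Q k)) ∧
      (∀ k : Fin N, ∀ v ∈ (Q k - MvPolynomial.X (Sum.inl k) - MvPolynomial.X (Sum.inr k)).vars,
        Sum.elim (fun j : Fin N => j < k) (fun j : Fin N => j < k) v) := by
  classical
  have hΨ : H21Split.IsPosSet D.P (Set.range e) := H21Split.isPosSet_of_order hrange
  have hpos : ∀ v : Fin N ⊕ Fin N, 0 < D.P.root (Sum.elim e e v) := fun v => by
    rcases v with k | k <;> exact (hrange _).mp ⟨k, rfl⟩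
  obtain ⟨Q, hQw, hQ⟩ := H21Split.exists_global_law D hΨ e he rfl
  -- variables of monomials other than the two linear ones
  have hvars : ∀ k d, (Q k).coeff d ≠ 0 → d ≠ Finsupp.single (Sum.inl k) 1 → d ≠ Finsupp.single (Sum.inr k) 1 →
      ∀ v, d v ≠ 0 → Sum.elim (fun j : Fin N => j < k) (fun j : Fin N => j < k) v := by
    intro k d hd h1 h2 v hv
    have hwt := (hQw k d hd).2
    rcases H21Split.wt_cases D (fun v => D.P.root (Sum.elim e e v)) hpos hv with hd1 | hlt
    · rw [hd1, H21Split.wt_single, one_smul] at hwt
      have := he (a₁ := Sum.elim id id v) (a₂ := k)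
        ((by rcases v with a | a <;> rfl : e (Sum.elim id id v) = Sum.elim e e v).trans (D.P.root.injective hwt))
      rcases v with a | a
      · exact absurd (hd1.trans (by rw [← this]; rfl)) h1
      · exact absurd (hd1.trans (by rw [← this]; rfl)) h2
    · rw [hwt] at hlt
      rcases v with a | a <;> exact hmono.lt_iff_lt.mp hlt
  let c1 := fun k => (Q k).coeff (Finsupp.single (Sum.inl k) 1)
  let c2 := fun k => (Q k).coeff (Finsupp.single (Sum.inr k) 1)
  let R := fun k => Q k - MvPolynomial.monomial (Finsupp.single (Sum.inl k) 1) (c1 k) -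
    MvPolynomial.monomial (Finsupp.single (Sum.inr k) 1) (c2 k)
  have hR : ∀ k, ∀ v ∈ (R k).vars, Sum.elim (fun j : Fin N => j < k) (fun j : Fin N => j < k) v := by
    intro k v hv
    obtain ⟨d, hd, hdv⟩ := (MvPolynomial.mem_vars_iff_mem_support v).mp hv
    rw [MvPolynomial.mem_support_iff] at hd
    have hne : Finsupp.single (Sum.inl k : Fin N ⊕ Fin N) 1 ≠ Finsupp.single (Sum.inr k) 1 := fun h =>
      Sum.inl_ne_inr (Finsupp.single_left_injective one_ne_zero h)
    simp only [R, MvPolynomial.coeff_sub, MvPolynomial.coeff_monomial] at hd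
    by_cases h1 : Finsupp.single (Sum.inl k) 1 = d
    · subst h1
      rw [if_pos rfl, if_neg hne.symm, sub_zero, sub_self] at hd
      exact absurd rfl hd
    by_cases h2 : Finsupp.single (Sum.inr k) 1 = d
    · subst h2
      rw [if_neg hne, if_pos rfl, sub_zero, sub_self] at hd
      exact absurd rfl hd
    rw [if_neg h1, if_neg h2, sub_zero, sub_zero] at hd
    exact hvars k d hd (Ne.symm h1) (Ne.symm h2) v (Finsupp.mem_support_iff.mp hdv)
  have hsplit : ∀ k, Q k = MvPolynomial.C (c1 k) * MvPolynomial.X (Sum.inl k) +
      MvPolynomial.C (c2 k) * MvPolynomial.X (Sum.inr k) + R k := fun k => by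
    simp only [R, MvPolynomial.C_mul_X_eq_monomial]; ring
  have hconst : ∀ k, (R k).coeff 0 = 0 := fun k => by
    have : (Q k).coeff 0 = 0 := by
      by_contra h
      exact (hQw k 0 h).1 rfl
    simp only [R, MvPolynomial.coeff_sub, MvPolynomial.coeff_monomial, this,
      if_neg (Finsupp.single_ne_zero.mpr (one_ne_zero (α := ℕ))), sub_zero]
  -- restrict to one coordinate
  have hone : ∀ (k : Fin N) (v : Fin N ⊕ Fin N), (v = Sum.inl k ∨ v = Sum.inr k) →
      (Q k).coeff (Finsupp.single v 1) = 1 := by
    intro k v hv
    have hext : MvPolynomial.C ((Q k).coeff (Finsupp.single v 1)) * MvPolynomial.X () = MvPolynomial.X () := by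
      refine H21Split.ext_poly fun X a => ?_
      simp only [MvPolynomial.eval₂_mul, MvPolynomial.eval₂_C, MvPolynomial.eval₂_X]
      let z : Fin N → (X ⟶ Red.Ga S) := Function.update (fun _ => 1) k (a ())
      let b : Fin N → (X ⟶ Red.Ga S) := fun _ => 1
      let x := if v = Sum.inl k then z else b
      let y := if v = Sum.inl k then b else z
      have hb : H21Split.xProd D e b = 1 := H21Split.xProd_one D e b fun _ => rfl
      have hxy : H21Split.xProd D e z = H21Split.xProd D e x * H21Split.xProd D e y := by
        by_cases h : v = Sum.inl k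
        · simp only [x, y, if_pos h, hb, _root_.mul_one]
        · simp only [x, y, if_neg h, hb, _root_.one_mul]
      have h1 := (hQ X x y z).mp hxy k
      simp only [z, Function.update_self] at h1
      rw [hsplit k, MvPolynomial.eval₂_add, MvPolynomial.eval₂_add, MvPolynomial.eval₂_mul, MvPolynomial.eval₂_mul,
        MvPolynomial.eval₂_C, MvPolynomial.eval₂_C, MvPolynomial.eval₂_X, MvPolynomial.eval₂_X] at h1
      have hR0 : MvPolynomial.eval₂ X.hom.appTop.hom
          (Sum.elim (fun j => Red.gaFn (x j)) fun j => Red.gaFn (y j)) (R k) = 0 := by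
        rw [MvPolynomial.eval₂_eq]
        refine Finset.sum_eq_zero fun d hd => mul_eq_zero_of_right _ ?_
        have hd0 : d ≠ 0 := by
          rintro rfl
          exact MvPolynomial.mem_support_iff.mp hd (hconst k)
        obtain ⟨w, hw⟩ := Finsupp.support_nonempty_iff.mpr hd0
        refine Finset.prod_eq_zero hw ?_
        have hwk := hR k w ((MvPolynomial.mem_vars_iff_mem_support w).mpr ⟨d, hd, hw⟩)
        rw [show Sum.elim (fun j => Red.gaFn (x j)) (fun j => Red.gaFn (y j)) w = 0 from ?_]
        · exact zero_pow (Finsupp.mem_support_iff.mp hw)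
        rcases w with j | j
        · simp only [Sum.elim_inl] at hwk ⊢
          by_cases h : v = Sum.inl k <;>
            simp [x, z, b, h, Function.update_of_ne (ne_of_lt hwk), H27Witt.GaCoord.gaFn_one]
        · simp only [Sum.elim_inr] at hwk ⊢
          by_cases h : v = Sum.inl k <;>
            simp [y, z, b, h, Function.update_of_ne (ne_of_lt hwk), H27Witt.GaCoord.gaFn_one]
      rw [hR0, add_zero] at h1
      rcases hv with rfl | rfl
      · simp only [x, y, z, b, c1, if_pos rfl, Sum.elim_inl, Sum.elim_inr, Function.update_self,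
          H27Witt.GaCoord.gaFn_one, mul_zero, add_zero] at h1
        exact h1.symm
      · simp only [x, y, z, b, c2, if_neg Sum.inr_ne_inl, Sum.elim_inl, Sum.elim_inr, Function.update_self,
          H27Witt.GaCoord.gaFn_one, mul_zero, zero_add] at h1
        exact h1.symm
    have := congrArg (MvPolynomial.coeff (Finsupp.single () 1)) hext
    simpa using this
  refine ⟨Q, ⟨hQ, fun k v hv => hR k v ?_⟩, fun Q' hQ' => funext fun k => ?_⟩
  · simpa only [R, c1, c2, hone k _ (Or.inl rfl), hone k _ (Or.inr rfl), MvPolynomial.X] using hv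
  · refine H21Split.ext_poly fun X v => ?_
    have e' : (fun i => Red.gaFn (v i)) =
        Sum.elim (fun j => Red.gaFn (v (Sum.inl j))) (fun j => Red.gaFn (v (Sum.inr j))) :=
      funext fun i => by rcases i <;> rfl
    choose z hz using fun k => H27Witt.GaCoord.gaFn_surjective (X := X)
      (MvPolynomial.eval₂ X.hom.appTop.hom (fun i => Red.gaFn (v i)) (Q k))
    rw [← hz k, e']
    exact ((hQ'.1 X _ _ z).mp ((hQ X (fun j => v (Sum.inl j)) (fun j => v (Sum.inr j)) z).mpr (e' ▸ hz)) k).symm

end Groth.Agent.S6102
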