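import Groth.Statements.S6105
import Groth.Agent.H21Split.Bru.CoradUse
-- import your own Groth.Agent.* helpers here

set_option autoImplicit false
open CategoryTheory MonoidalCategory CartesianMonoidalCategory MonObj GrpObj AlgebraicGeometry
universe u
open RedSub

namespace Groth.Agent.S6105

/-- Let G be a split reductive S-group (splitting D, T ≅ D_S(M), system of simple roots b, enumerations
of the negative and positive roots, U = ∏_{a > 0} U_a, U⁻ = ∏_{a < 0} U_a), N = {m | (α*, m) = 0 for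
all coroots}, T' = D_S(M/N) ⊆ T and Ω' = U⁻ · T' · U. Then there is an open V₀ ⊆ G containing the
unit section such that U(S') U⁻(S') ∩ V₀(S') ⊆ Ω'(S') for every S': a product x y of a point x of U
and a point y of U⁻ which lies in V₀ is a point of Ω'. -/
theorem result {S : Scheme.{u}} {G : Over S} [GrpObj G]
    (D : Red.SplitRed G) (b : D.P.Base) {n m : ℕ} (eneg : Fin n → D.idx) (epos : Fin m → D.idx)
    (hneg : RedSub.Enumerates (RedSub.negRoots D.P b) eneg) (hpos : RedSub.Enumerates (RedSub.posRoots D.P b) epos)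
    (N : AddSubgroup D.M) (hN : ∀ x : D.M, x ∈ N ↔ ∀ c : D.idx, D.P.coroot c x = 0) :
    ∃ V : Set ↥G.left, IsOpen V ∧ Set.range η[G].left.base ⊆ V ∧
      ∀ (X : Over S) (x : X ⟶ RedSub.pow (Red.Ga S) m) (y : X ⟶ RedSub.pow (Red.Ga S) n),
        Set.range ((x ≫ RedSub.prodMap (Red.Ga S) m (fun k => D.u (epos k))) *
          (y ≫ RedSub.prodMap (Red.Ga S) n (fun k => D.u (eneg k)))).left.base ⊆ V →
        ∃ g' : X ⟶ RedSub.pow (Red.Ga S) n ⊗ (Red.DS S (D.M ⧸ N) ⊗ RedSub.pow (Red.Ga S) m),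
          (x ≫ RedSub.prodMap (Red.Ga S) m (fun k => D.u (epos k))) *
            (y ≫ RedSub.prodMap (Red.Ga S) n (fun k => D.u (eneg k))) = g' ≫ ((fst _ _ ≫ RedSub.prodMap (Red.Ga S) n (fun k => D.u (eneg k))) *
        ((snd _ _ ≫ fst _ _ ≫ Red.DSmap S (QuotientAddGroup.mk' N) ≫ D.split.inv.hom.hom ≫ D.i) *
          (snd _ _ ≫ snd _ _ ≫ RedSub.prodMap (Red.Ga S) m (fun k => D.u (epos k))))) := by
  obtain ⟨hD, hbij⟩ := Groth.Agent.H21Split.isCellData_of_base D b hneg hpos
  haveI := Groth.Agent.H21Split.isOpenImmersion_cellMap D eneg epos hD hbij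
  refine ⟨Set.range (RedSub.cellMap D eneg epos).left.base, (RedSub.cellMap D eneg epos).left.opensRange.isOpen,
    ?_, fun X x y hV => ?_⟩
  · rintro _ ⟨s, rfl⟩
    exact Groth.Agent.H21Split.eta_mem_range D eneg epos s
  · obtain ⟨z, hz⟩ := Groth.Agent.H21Rank1.exists_lift_of_range_subset (RedSub.cellMap D eneg epos) _ hV
    obtain ⟨g', hg'⟩ := Groth.Agent.H21Split.prime_of_prod D b hN eneg epos x y z hz
    exact ⟨g', hz.symm.trans hg'⟩

end Groth.Agent.S6105
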