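import Groth.Statements.S6120
import Mathlib

set_option linter.style.haveILetI false
open CategoryTheory CategoryTheory.Limits Opposite Simplicial

set_option autoImplicit false
open CategoryTheory CategoryTheory.Limits Opposite
universe w v₁ v₂ u₁ u₂
open SGA4

namespace Groth.Agent.S6120

/-- Let `I` be a category with a family of objects `i α` (`α : A`) such that every binary product `i α ⨯
i β` exists in `I` and every object of `I` admits a morphism to some `i α`. Let `F : Iᵒᵖ ⥤ C` be a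
functor, and assume that `C` has equalizers and that the products `∏ F (i α)` and `∏ F (i α ⨯ i β)`
exist in `C`. Then the limit of `F` exists, the canonical map `lim F ⟶ ∏ F (i α)` is a monomorphism,
and a map `t : T ⟶ ∏ F (i α)` factors through `lim F` exactly when its composites with the two maps
`∏ F (i α) ⇉ ∏ F (i α ⨯ i β)` induced by the two projections agree: `lim F` is the equalizer of that
pair. (The published statement assumes that `C` has all limits of the size of `A`; only equalizers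
and the two products named are assumed here, which is what the equalizer construction uses.) -/
theorem result
    {I : Type u₁} [Category.{v₁} I] {C : Type u₂} [Category.{v₂} C] {A : Type w} (i : A → I)
    [∀ α β, HasBinaryProduct (i α) (i β)]
    (hcov : ∀ j : I, ∃ α, Nonempty (j ⟶ i α))
    (F : Iᵒᵖ ⥤ C) [HasEqualizers C]
    [HasProduct (fun α => F.obj (op (i α)))]
    [HasProduct (fun p : A × A => F.obj (op (i p.1 ⨯ i p.2)))] :
    HasLimit F ∧ ∀ [HasLimit F],
      Mono (Pi.lift (fun α => limit.π F (op (i α)))) ∧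
      ∀ (T : C) (t : T ⟶ ∏ᶜ (fun α => F.obj (op (i α)))),
        (∃ s : T ⟶ limit F, s ≫ Pi.lift (fun α => limit.π F (op (i α))) = t) ↔
        t ≫ Pi.lift (fun p : A × A =>
            Pi.π (fun α => F.obj (op (i α))) p.1 ≫ F.map (prod.fst : i p.1 ⨯ i p.2 ⟶ i p.1).op) =
        t ≫ Pi.lift (fun p : A × A =>
            Pi.π (fun α => F.obj (op (i α))) p.2 ≫ F.map (prod.snd : i p.1 ⨯ i p.2 ⟶ i p.2).op) := by
  choose α hα using hcov
  let f : ∀ j, j ⟶ i (α j) := fun j => (hα j).some
  let d₁ := Pi.lift (fun p : A × A =>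
    Pi.π (fun α => F.obj (op (i α))) p.1 ≫ F.map (prod.fst : i p.1 ⨯ i p.2 ⟶ i p.1).op)
  let d₂ := Pi.lift (fun p : A × A =>
    Pi.π (fun α => F.obj (op (i α))) p.2 ≫ F.map (prod.snd : i p.1 ⨯ i p.2 ⟶ i p.2).op)
  have indep : ∀ {T : C} (t : T ⟶ ∏ᶜ (fun α => F.obj (op (i α)))), t ≫ d₁ = t ≫ d₂ →
      ∀ (j : I) (a b : A) (g : j ⟶ i a) (g' : j ⟶ i b),
        (t ≫ Pi.π _ a) ≫ F.map g.op = (t ≫ Pi.π _ b) ≫ F.map g'.op := by
    intro T t ht j a b g g'
    have h1 := congrArg (fun q => q ≫ Pi.π _ (a, b) ≫ F.map (prod.lift g g').op) ht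
    simp only [d₁, d₂, Category.assoc, Pi.lift_π_assoc, ← Functor.map_comp, ← op_comp,
      prod.lift_fst, prod.lift_snd] at h1
    simpa only [Category.assoc] using h1
  have mk : ∀ {T : C} (t : T ⟶ ∏ᶜ (fun α => F.obj (op (i α)))), t ≫ d₁ = t ≫ d₂ →
      ∃ c : Cone F, ∃ h : c.pt = T, ∀ a, eqToHom h.symm ≫ c.π.app (op (i a)) = t ≫ Pi.π _ a := by
    intro T t ht
    refine ⟨⟨T, { app := fun j => (t ≫ Pi.π _ (α j.unop)) ≫ F.map (f j.unop).op
                  naturality := ?_ }⟩, rfl, fun a => ?_⟩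
    · intro j j' g
      refine (Category.id_comp _).trans ?_
      change _ = ((t ≫ Pi.π _ (α j.unop)) ≫ F.map (f j.unop).op) ≫ F.map g
      rw [Category.assoc _ _ (F.map g), ← Functor.map_comp]
      exact indep t ht j'.unop _ _ (f j'.unop) (g.unop ≫ f j.unop)
    · simp only [eqToHom_refl, Category.id_comp]
      refine (indep t ht (i a) _ a (f (i a)) (𝟙 _)).trans ?_
      simp
  have eqv : ∀ (c : Cone F), Pi.lift (fun a => c.π.app (op (i a))) ≫ d₁ =
      Pi.lift (fun a => c.π.app (op (i a))) ≫ d₂ := by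
    intro c
    refine Pi.hom_ext _ _ (fun p => ?_)
    simp only [d₁, d₂, Category.assoc, Pi.lift_π, Pi.lift_π_assoc]
    rw [Cone.w, Cone.w]
  have hex : HasLimit F := by
    obtain ⟨c, hpt, hc⟩ := mk (equalizer.ι d₁ d₂) (equalizer.condition _ _)
    refine HasLimit.mk ⟨c, IsLimit.ofExistsUnique fun s => ?_⟩
    refine ⟨equalizer.lift _ (eqv s) ≫ eqToHom hpt.symm, fun j => ?_, fun l hl => ?_⟩
    · have h1 : ∀ a, (equalizer.lift _ (eqv s) ≫ eqToHom hpt.symm) ≫ c.π.app (op (i a)) =
          s.π.app (op (i a)) := fun a => by simp [hc]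
      rw [← c.w (f j.unop).op, ← Category.assoc, h1, s.w]
    · rw [← cancel_mono (eqToHom hpt), ← cancel_mono (equalizer.ι d₁ d₂)]
      refine Pi.hom_ext _ _ (fun a => ?_)
      simp [← hl (op (i a)), ← hc]
  refine ⟨hex, fun {hF} => ?_⟩
  refine ⟨⟨fun x y hxy => limit.hom_ext fun j => ?_⟩, fun T t => ⟨?_, fun ht => ?_⟩⟩
  · have h1 := congrArg (fun q => q ≫ Pi.π _ (α j.unop) ≫ F.map (f j.unop).op) hxy
    simpa [Category.assoc] using h1
  · rintro ⟨s, rfl⟩
    rw [Category.assoc, Category.assoc]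
    exact congrArg (s ≫ ·) (eqv (limit.cone F))
  · obtain ⟨c, rfl, hc⟩ := mk t ht
    refine ⟨limit.lift F c, Pi.hom_ext _ _ fun a => ?_⟩
    simpa using hc a

end Groth.Agent.S6120
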