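import Groth.Statements.S6121

set_option linter.style.haveILetI false

set_option autoImplicit false
open CategoryTheory
universe v₁ v₂ u₁ u₂
open SGA4

namespace Groth.Agent.S6121

open Functor in
/-- For a fibered functor `p : E ⥤ B` (every morphism of `B` has a cartesian lift with prescribed
codomain, and cartesian morphisms compose), `p` reflects isomorphisms if and only if every fibre
category of `p` (objects over `b`, morphisms lying over the identity of `b`) is a groupoid. -/
theorem result
    {B : Type u₁} [Category.{v₁} B] {E : Type u₂} [Category.{v₂} E] (p : E ⥤ B) [p.IsFibered] :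
    p.ReflectsIsomorphisms ↔ ∀ b : B, IsGroupoid (p.Fiber b) := by
  constructor
  · intro _ b
    refine ⟨fun {x y} f => ?_⟩
    haveI : IsIso (p.map (Fiber.fiberInclusion.map f)) := by
      rw [IsHomLift.fac' p (𝟙 b) (Fiber.fiberInclusion.map f)]; infer_instance
    haveI : IsIso (Fiber.fiberInclusion.map f) := isIso_of_reflects_iso _ p
    haveI : IsIso f.val := inferInstanceAs (IsIso (Fiber.fiberInclusion.map f))
    refine ⟨⟨CategoryTheory.inv f.val, by haveI := f.2; infer_instance⟩, ?_, ?_⟩
    · ext; exact IsIso.hom_inv_id _
    · ext; exact IsIso.inv_hom_id _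
  · intro h
    refine ⟨fun {x y} f hf => ?_⟩
    obtain ⟨y', φ, hφ⟩ := IsPreFibered.exists_isCartesian p rfl (p.map f)
    haveI := IsStronglyCartesian.isIso_of_base_isIso p (p.map f) φ
    haveI : p.IsHomLift (p.map f) f := IsHomLift.map p f
    haveI := h (p.obj x)
    let f' := Fiber.homMk p (p.obj x) (IsCartesian.map p (p.map f) φ f)
    haveI : IsIso (IsCartesian.map p (p.map f) φ f) :=
      inferInstanceAs (IsIso (Fiber.fiberInclusion.map f'))
    rw [← IsCartesian.fac p (p.map f) φ f]
    infer_instance

end Groth.Agent.S6121
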