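import Groth.Statements.S6122

set_option linter.style.haveILetI false

set_option autoImplicit false
open CategoryTheory
universe v₁ v₂ u₁ u₂
open SGA4

namespace Groth.Agent.S6122

open Functor in
/-- For a fibered functor `p : E ⥤ B` (every morphism of `B` has a cartesian lift with prescribed
codomain, and cartesian morphisms compose), `p` is faithful if and only if every fibre category of
`p` (objects over `b`, morphisms lying over the identity of `b`) has at most one morphism between
any two objects. -/
theorem result
    {B : Type u₁} [Category.{v₁} B] {E : Type u₂} [Category.{v₂} E] (p : E ⥤ B) [p.IsFibered] :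
    p.Faithful ↔ ∀ (b : B) (x y : p.Fiber b), Subsingleton (x ⟶ y) := by
  constructor
  · intro _ b x y
    refine ⟨fun f g => Fiber.hom_ext (p.map_injective ?_)⟩
    rw [IsHomLift.fac' p (𝟙 b) (Fiber.fiberInclusion.map f), IsHomLift.fac' p (𝟙 b) (Fiber.fiberInclusion.map g)]
  · intro h
    refine ⟨fun {x y} f g hfg => ?_⟩
    obtain ⟨y', φ, hφ⟩ := IsPreFibered.exists_isCartesian p rfl (p.map f)
    haveI : p.IsHomLift (p.map f) f := IsHomLift.map p f
    haveI : p.IsHomLift (p.map f) g := by rw [hfg]; infer_instance
    rw [← IsCartesian.fac p (p.map f) φ f, ← IsCartesian.fac p (p.map f) φ g]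
    haveI := h (p.obj x)
    congr 1
    exact congrArg (Fiber.fiberInclusion.map) (Subsingleton.elim
      (Fiber.homMk p (p.obj x) (IsCartesian.map p (p.map f) φ f))
      (Fiber.homMk p (p.obj x) (IsCartesian.map p (p.map f) φ g)))

end Groth.Agent.S6122
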