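import Groth.Statements.S6123
import Mathlib.CategoryTheory.Limits.Shapes.Diagonal
import Mathlib.CategoryTheory.Limits.Shapes.Pullback.IsPullback.Basic
import Mathlib.CategoryTheory.MorphismProperty.Limits

set_option linter.style.haveILetI false

set_option autoImplicit false
open CategoryTheory CategoryTheory.Limits Opposite
universe w v₁ v₂ u₁ u₂
open SGA4

namespace Groth.Agent.S6123

/-- For a single functor. Let `E` have pullbacks and let `φ : E ⥤ F` preserve them. If every
monomorphism `u` of `E` with `φ u` invertible is invertible, then `φ` reflects all isomorphisms. -/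
theorem result
    {E : Type u₁} [Category.{v₁} E] {F : Type u₂} [Category.{v₂} F] (φ : E ⥤ F)
    [HasPullbacks E] [PreservesLimitsOfShape WalkingCospan φ]
    (h : ∀ ⦃X Y : E⦄ (u : X ⟶ Y), Mono u → IsIso (φ.map u) → IsIso u) :
    φ.ReflectsIsomorphisms := by
  refine ⟨fun {X Y} f hf => ?_⟩
  haveI : IsIso (φ.map (pullback.diagonal f)) := by
    have hp := (IsPullback.of_hasPullback f f).map φ
    haveI : IsIso (φ.map (pullback.fst f f)) :=
      MorphismProperty.of_isPullback (P := MorphismProperty.isomorphisms F) hp.flip ‹IsIso (φ.map f)›
    haveI : IsIso (φ.map (pullback.diagonal f) ≫ φ.map (pullback.fst f f)) := by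
      rw [← φ.map_comp, pullback.diagonal_fst, φ.map_id]; infer_instance
    exact IsIso.of_isIso_comp_right _ (φ.map (pullback.fst f f))
  haveI : IsIso (pullback.diagonal f) := h _ inferInstance this
  haveI : Mono f := (pullback.isIso_diagonal_iff f).1 inferInstance
  exact h f inferInstance hf

end Groth.Agent.S6123
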