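import Groth.Statements.S6124
import Mathlib.CategoryTheory.Limits.Shapes.Diagonal
import Mathlib.CategoryTheory.Limits.Shapes.Pullback.IsPullback.Basic
import Mathlib.CategoryTheory.MorphismProperty.Limits
import Mathlib.CategoryTheory.Subobject.Lattice

set_option linter.style.haveILetI false

set_option autoImplicit false
open CategoryTheory CategoryTheory.Limits Opposite
universe w v₁ v₂ u₁ u₂
open SGA4

namespace Groth.Agent.S6124

/-- Let `E` have pullbacks, let `P` be a detecting family of objects of `E` (a morphism `f` is
invertible as soon as every map out of an object of `P` factors uniquely through `f`), and let `φ i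
: E ⥤ E' i` be functors preserving pullbacks. Then the `φ i` jointly reflect isomorphisms if and
only if, for every `X` with `P X` and every subobject `X'` of `X` other than `⊤`, some `φ i` takes
the inclusion `X' ⟶ X` to a morphism that is not invertible. -/
theorem result
    {E : Type u₁} [Category.{v₁} E] [HasPullbacks E] (P : ObjectProperty E) (hP : P.IsDetecting)
    {κ : Type w} {E' : κ → Type u₂} [∀ k, Category.{v₂} (E' k)] (φ : ∀ k, E ⥤ E' k)
    [∀ k, PreservesLimitsOfShape WalkingCospan (φ k)] :
    (∀ ⦃X Y : E⦄ (f : X ⟶ Y), (∀ k, IsIso ((φ k).map f)) → IsIso f) ↔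
      ∀ (X : E), P X → ∀ (X' : Subobject X), X' ≠ ⊤ → ∃ k, ¬ IsIso ((φ k).map X'.arrow) := by
  constructor
  · intro h X _ X' hX'
    by_contra hc
    push Not at hc
    haveI := h X'.arrow hc
    exact hX' (Subobject.eq_top_of_isIso_arrow _)
  · intro h
    have mc : ∀ {A B : E} (m : A ⟶ B) [Mono m], (∀ k, IsIso ((φ k).map m)) → IsIso m := by
      intro A B m _ hm
      apply hP
      intro G hG t
      suffices ∃ t', t' ≫ m = t by
        obtain ⟨t', ht'⟩ := this
        exact ⟨t', ht', fun t'' ht'' => by rw [← cancel_mono m, ht', ht'']⟩
      let Q : Subobject G := Subobject.mk (pullback.fst t m)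
      by_cases hQ : Q = ⊤
      · haveI : IsIso (pullback.fst t m) := (Subobject.isIso_iff_mk_eq_top _).2 hQ
        exact ⟨inv (pullback.fst t m) ≫ pullback.snd t m, by simp [← pullback.condition]⟩
      · obtain ⟨k, hk⟩ := h G hG Q hQ
        haveI : IsIso ((φ k).map (pullback.fst t m)) :=
          MorphismProperty.of_isPullback (P := MorphismProperty.isomorphisms (E' k))
            (((IsPullback.of_hasPullback t m).map (φ k)).flip) (hm k)
        refine absurd ?_ hk
        have e : Q.arrow = (Subobject.underlyingIso (pullback.fst t m)).hom ≫ pullback.fst t m :=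
          (Subobject.underlyingIso_hom_comp_eq_mk _).symm
        rw [e, Functor.map_comp]
        infer_instance
    intro X Y f hf
    haveI : IsIso (pullback.diagonal f) := mc _ fun k => by
      haveI : IsIso ((φ k).map (pullback.fst f f)) :=
        MorphismProperty.of_isPullback (P := MorphismProperty.isomorphisms (E' k))
          (((IsPullback.of_hasPullback f f).map (φ k)).flip) (hf k)
      haveI : IsIso ((φ k).map (pullback.diagonal f) ≫ (φ k).map (pullback.fst f f)) := by
        rw [← (φ k).map_comp, pullback.diagonal_fst, (φ k).map_id]; infer_instance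
      exact IsIso.of_isIso_comp_right _ ((φ k).map (pullback.fst f f))
    haveI : Mono f := (pullback.isIso_diagonal_iff f).1 inferInstance
    exact mc f hf

end Groth.Agent.S6124
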