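import Groth.Statements.S6126


set_option autoImplicit false
open CategoryTheory CategoryTheory.Limits
universe v₁ u₁
open SGA4

set_option linter.style.haveILetI false


namespace Groth.Agent.S6126

/-- Let `E` be a category with `v₁`-small hom-sets admitting a separating family of objects `G t`
indexed by a `v₁`-small type, in which every object admits a monomorphism into an injective object.
Assume that each coproduct `G t ⨿ G t` exists and that every morphism out of `G t ⨿ G t` factors as
an effective epimorphism followed by a monomorphism. Then `E` admits a coseparating family of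
injective objects indexed by a `v₁`-small type. (The published statement moreover bounds the size of
this family in terms of the hom-sets `Hom (G t', G t ⨿ G t)`; only existence is stated here. The
published statement speaks of generating and cogenerating families; its proof uses and produces
joint faithfulness of maps out of, resp. into, the family, which is the sense taken here.) -/
theorem result
    {E : Type u₁} [Category.{v₁} E] {ι : Type v₁} (G : ι → E)
    (hG : (ObjectProperty.ofObj G).IsSeparating)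
    [EnoughInjectives E] [∀ t, HasBinaryCoproduct (G t) (G t)]
    (hfac : ∀ (t : ι) (X : E) (f : G t ⨿ G t ⟶ X),
      ∃ (Y : E) (e : G t ⨿ G t ⟶ Y) (m : Y ⟶ X), EffectiveEpi e ∧ Mono m ∧ e ≫ m = f) :
    ∃ (κ : Type v₁) (H : κ → E),
      (∀ k, Injective (H k)) ∧ (ObjectProperty.ofObj H).IsCoseparating := by
  classical
  let A : ι → E := fun t => G t ⨿ G t
  let rel : ∀ (t : ι) {Q : E}, (A t ⟶ Q) → Set (Σ s : ι, (G s ⟶ A t) × (G s ⟶ A t)) :=
    fun t Q e => {p | p.2.1 ≫ e = p.2.2 ≫ e}
  let κ : Type v₁ := {p : Σ t : ι, Set (Σ s : ι, (G s ⟶ A t) × (G s ⟶ A t)) //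
    ∃ (Q : E) (e : A p.1 ⟶ Q), EffectiveEpi e ∧ rel p.1 e = p.2}
  let H : κ → E := fun k => Injective.under k.2.choose
  refine ⟨κ, H, fun k => inferInstanceAs (Injective (Injective.under k.2.choose)), ?_⟩
  intro X Y a b hab
  by_contra hne
  obtain ⟨t, g, hg⟩ : ∃ (t : ι) (g : G t ⟶ X), g ≫ a ≠ g ≫ b := by
    by_contra hh
    push Not at hh
    exact hne (hG a b fun G' hG' g => by
      obtain ⟨t⟩ := hG'
      exact hh t g)
  obtain ⟨Q, e, m, he, hm, hem⟩ := hfac t Y (coprod.desc (g ≫ a) (g ≫ b))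
  let k : κ := ⟨⟨t, rel t e⟩, Q, e, he, rfl⟩
  have hk := k.2.choose_spec.choose_spec
  let e₀ : A t ⟶ k.2.choose := k.2.choose_spec.choose
  haveI : EffectiveEpi e₀ := hk.1
  haveI := he
  haveI := hm
  have hR : ∀ {Z : E} (u v : Z ⟶ A t), u ≫ e = v ≫ e ↔ u ≫ e₀ = v ≫ e₀ := by
    intro Z u v
    have hh : ∀ s (p : G s ⟶ Z), (p ≫ u) ≫ e = (p ≫ v) ≫ e ↔ (p ≫ u) ≫ e₀ = (p ≫ v) ≫ e₀ :=
      fun s p => (Set.ext_iff.1 hk.2 ⟨s, p ≫ u, p ≫ v⟩).symm
    constructor <;> intro h <;> refine hG _ _ fun G' hG' p => ?_ <;> obtain ⟨s⟩ := hG'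
    · simpa using (hh s p).1 (by simp [h])
    · simpa using (hh s p).2 (by simp [h])
  let φ : Q ⟶ k.2.choose := EffectiveEpi.desc e e₀ fun u v h => (hR u v).1 h
  let ψ : k.2.choose ⟶ Q := EffectiveEpi.desc e₀ e fun u v h => (hR u v).2 h
  haveI : IsIso φ := ⟨ψ, by rw [← cancel_epi e]; simp [φ, ψ], by rw [← cancel_epi e₀]; simp [φ, ψ]⟩
  let h : Y ⟶ H k := Injective.factorThru (φ ≫ Injective.ι k.2.choose) m
  have hh : m ≫ h = φ ≫ Injective.ι k.2.choose := Injective.comp_factorThru _ _
  have hmono : ∀ {Z : E} (u v : Z ⟶ Q), (u ≫ m) ≫ h = (v ≫ m) ≫ h → u = v := fun u v huv => by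
    rw [Category.assoc, Category.assoc, hh] at huv
    exact (cancel_mono (φ ≫ Injective.ι k.2.choose)).1 huv
  apply hg
  have h1 : (coprod.inl ≫ e) ≫ m = g ≫ a := by rw [Category.assoc, hem, coprod.inl_desc]
  have h2 : (coprod.inr ≫ e) ≫ m = g ≫ b := by rw [Category.assoc, hem, coprod.inr_desc]
  have heq := hab _ (ObjectProperty.ofObj.mk k) h
  rw [← h1, ← h2, hmono (coprod.inl ≫ e) (coprod.inr ≫ e) (by rw [h1, h2, Category.assoc, Category.assoc, heq])]

end Groth.Agent.S6126
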