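import Groth.Statements.S6127
import Mathlib.CategoryTheory.Sites.Canonical
import Mathlib.CategoryTheory.Sites.LocallyBijective
import Mathlib.CategoryTheory.Adjunction.Reflective
import Mathlib.CategoryTheory.Limits.Types.Pullbacks
import Mathlib.CategoryTheory.Limits.Preserves.Shapes.Equalizers

set_option autoImplicit false
open CategoryTheory CategoryTheory.Limits Opposite
universe u
open SGA4

set_option linter.style.haveILetI false
set_option backward.isDefEq.respectTransparency false

namespace Groth.Agent.S6127

section
variable {C : Type u} [SmallCategory C] (P : ObjectProperty (Cᵒᵖ ⥤ Type u)) [Reflective P.ι]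

/-- A map is inverted by the reflector iff the reflected objects see it as a bijection. -/
theorem isIso_map_iff {A B : Cᵒᵖ ⥤ Type u} (g : A ⟶ B) :
    IsIso ((reflector P.ι).map g) ↔
      ∀ F, P F → Function.Bijective (fun t : B ⟶ F => g ≫ t) := by
  have key : ∀ (F : P.FullSubcategory), (fun t : B ⟶ F.obj => g ≫ t) ∘ (reflectorAdjunction P.ι).homEquiv B F =
      (reflectorAdjunction P.ι).homEquiv A F ∘ fun t => (reflector P.ι).map g ≫ t := fun F =>
    funext fun t => ((reflectorAdjunction P.ι).homEquiv_naturality_left g t).symm
  rw [isIso_iff_coyoneda_map_bijective]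
  constructor
  · intro h F hF
    rw [← Function.Bijective.of_comp_iff _ ((reflectorAdjunction P.ι).homEquiv B ⟨F, hF⟩).bijective,
      key ⟨F, hF⟩]
    exact ((reflectorAdjunction P.ι).homEquiv A ⟨F, hF⟩).bijective.comp (h _)
  · intro h F
    have := (h F.obj F.property).comp ((reflectorAdjunction P.ι).homEquiv B F).bijective
    rw [key F] at this
    exact (Function.Bijective.of_comp_iff' ((reflectorAdjunction P.ι).homEquiv A F).bijective _).1 this

theorem isSheafFor_iff (F : Cᵒᵖ ⥤ Type u) {X : C} (S : Sieve X) :
    Presieve.IsSheafFor F S.arrows ↔ Function.Bijective (fun t : yoneda.obj X ⟶ F => S.functorInclusion ≫ t) := by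
  rw [Presieve.isSheafFor_iff_yonedaSheafCondition, Function.bijective_iff_existsUnique]
  rfl

theorem isPullback_functorInclusion {X Y : C} (S : Sieve X) (f : Y ⟶ X) :
    IsPullback (S.pullback f).functorInclusion
      ({ app := fun _ => ↾fun g => ⟨g.1 ≫ f, g.2⟩
         naturality := fun V W k => by ext g; exact Subtype.ext (Category.assoc _ _ _) } :
        (S.pullback f).functor ⟶ S.functor)
      (yoneda.map f) S.functorInclusion := by
  refine IsPullback.of_forall_isPullback_app fun V => (Types.isPullback_iff _ _ _ _).2 ⟨?_, ?_, ?_⟩
  · rfl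
  · rintro a b ⟨h, -⟩; exact Subtype.ext h
  · rintro a b h
    have hb : a ≫ f = b.1 := h
    exact ⟨⟨a, show S (a ≫ f) from hb ▸ b.2⟩, rfl, Subtype.ext hb⟩

variable [PreservesFiniteLimits (reflector P.ι)]

theorem mem_iff {X : C} (S : Sieve X) :
    S ∈ Sheaf.finestTopology (Set.ofPred P) X ↔ IsIso ((reflector P.ι).map S.functorInclusion) := by
  constructor
  · intro h
    rw [isIso_map_iff]
    exact fun F hF => (isSheafFor_iff F S).1 (Sheaf.sheaf_for_finestTopology _ hF S h)
  · intro h
    refine Sheaf.mem_finestTopology_of_forall_isSheafFor fun F hF Y f => ?_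
    rw [isSheafFor_iff]
    refine (isIso_map_iff P _).1 ?_ F hF
    exact ((isPullback_functorInclusion S f).map (reflector P.ι)).isIso_fst_of_isIso

theorem prop_of_isSheaf [P.IsClosedUnderIsomorphisms] (F : Cᵒᵖ ⥤ Type u)
    (hF : Presieve.IsSheaf (Sheaf.finestTopology (Set.ofPred P)) F) : P F := by
  let J := Sheaf.finestTopology (Set.ofPred P)
  let G : P.FullSubcategory := (reflector P.ι).obj F
  let η : F ⟶ G.obj := (reflectorAdjunction P.ι).unit.app F
  haveI hη : IsIso ((reflector P.ι).map η) := by
    haveI : IsIso ((reflector P.ι).map η ≫ (reflectorAdjunction P.ι).counit.app G) := by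
      erw [(reflectorAdjunction P.ι).left_triangle_components]; infer_instance
    exact IsIso.of_isIso_comp_right _ ((reflectorAdjunction P.ι).counit.app G)
  haveI h₁ : Presheaf.IsLocallyInjective J η := ⟨fun {V} a b e => by
    rw [mem_iff]
    let E := Presheaf.equalizerSieve a b
    let a' : yoneda.obj V.unop ⟶ F := yonedaEquiv.symm a
    let b' : yoneda.obj V.unop ⟶ F := yonedaEquiv.symm b
    have w : E.functorInclusion ≫ a' = E.functorInclusion ≫ b' := by
      ext W g; exact g.2
    have hE : ∀ (s : Fork a' b') (W : Cᵒᵖ) (x : s.pt.obj W), E (s.ι.app W x) := fun s W x => by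
      have := ConcreteCategory.congr_hom (NatTrans.congr_app s.condition W) x
      exact this
    let hl : IsLimit (Fork.ofι E.functorInclusion w) := Fork.IsLimit.mk _
      (fun s => { app := fun W => ↾fun x => ⟨s.ι.app W x, hE s W x⟩
                  naturality := fun W W' k => by
                    ext x; apply Subtype.ext
                    exact NatTrans.naturality_apply s.ι k x })
      (fun s => by ext W x; rfl)
      (fun s m hm => by
        ext W x; apply Subtype.ext
        have := ConcreteCategory.congr_hom (NatTrans.congr_app hm W) x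
        exact this)
    have hab : (reflector P.ι).map a' = (reflector P.ι).map b' := by
      rw [← cancel_mono ((reflector P.ι).map η), ← Functor.map_comp, ← Functor.map_comp]
      congr 1
      apply yonedaEquiv.injective
      rw [yonedaEquiv_comp, yonedaEquiv_comp, Equiv.apply_symm_apply, Equiv.apply_symm_apply]
      exact e
    exact isIso_limit_cone_parallelPair_of_eq hab
      (isLimitForkMapOfIsLimit (reflector P.ι) w hl)⟩
  haveI h₂ : Presheaf.IsLocallySurjective J η := ⟨fun {V} s => by
    let s' : yoneda.obj V ⟶ G.obj := yonedaEquiv.symm s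
    let q := pullback.snd η s'
    let S' := Sieve.sieveOfSubfunctor q
    let k : pullback η s' ⟶ S'.functor :=
      { app := fun W => ↾fun t => ⟨q.app W t, ⟨t, rfl⟩⟩
        naturality := fun W W' f => by
          ext t; apply Subtype.ext
          exact NatTrans.naturality_apply q f t }
    haveI : IsIso ((reflector P.ι).map q) :=
      ((IsPullback.of_hasPullback η s').map (reflector P.ι)).isIso_snd_of_isIso
    haveI : IsIso ((reflector P.ι).map k ≫ (reflector P.ι).map S'.functorInclusion) := by
      rw [← Functor.map_comp]; exact inferInstanceAs (IsIso ((reflector P.ι).map q))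
    haveI : Mono ((reflector P.ι).map S'.functorInclusion) := inferInstance
    haveI : Epi ((reflector P.ι).map S'.functorInclusion) :=
      epi_of_epi ((reflector P.ι).map k) _
    have hiso : IsIso ((reflector P.ι).map S'.functorInclusion) := by
      haveI : IsSplitEpi ((reflector P.ι).map S'.functorInclusion) := IsSplitEpi.mk'
        ⟨inv ((reflector P.ι).map k ≫ (reflector P.ι).map S'.functorInclusion) ≫ (reflector P.ι).map k,
          by rw [Category.assoc, IsIso.inv_hom_id]⟩
      exact isIso_of_mono_of_isSplitEpi _
    refine J.superset_covering ?_ ((mem_iff P S').2 hiso)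
    intro W f hf
    obtain ⟨t, ht⟩ := hf
    refine ⟨(pullback.fst η s').app (op W) t, ?_⟩
    have e := ConcreteCategory.congr_hom (NatTrans.congr_app (pullback.condition (f := η) (g := s')) (op W)) t
    refine e.trans ?_
    change s'.app (op W) (q.app (op W) t) = _
    rw [ht]
    exact (map_yonedaEquiv s' f).symm.trans (by rw [Equiv.apply_symm_apply])⟩
  have hG : Presieve.IsSheaf J G.obj := Sheaf.sheaf_for_finestTopology _ G.property
  let m : (⟨F, (isSheaf_iff_isSheaf_of_type J F).2 hF⟩ : Sheaf J (Type u)) ⟶
      ⟨G.obj, (isSheaf_iff_isSheaf_of_type J G.obj).2 hG⟩ := ⟨η⟩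
  haveI : Sheaf.IsLocallyInjective m := h₁
  haveI : Sheaf.IsLocallySurjective m := h₂
  haveI : IsIso m := (Sheaf.isLocallyBijective_iff_isIso m).1 ⟨inferInstance, inferInstance⟩
  haveI : IsIso η := inferInstanceAs (IsIso ((sheafToPresheaf J (Type u)).map m))
  exact P.prop_of_iso (asIso η).symm G.property

end

end Groth.Agent.S6127


namespace Groth.Agent.S6127

/-- Let `C` be a small category and `P` a strictly full subcategory of the category of presheaves of
sets on `C` whose inclusion admits a left adjoint (a reflector) preserving finite limits. Call a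
sieve `S` on `X` covering when the reflector inverts the inclusion of `S`, viewed as a subpresheaf,
into the presheaf represented by `X`. Then these covering sieves form a Grothendieck topology `J` on
`C`, and a presheaf lies in `P` if and only if it is a sheaf for `J`. (This is the half of the
correspondence between topologies on `C` and such reflective subcategories that produces the
topology; the topology is pinned down by its covering sieves.) -/
theorem result
    {C : Type u} [SmallCategory C] (P : ObjectProperty (Cᵒᵖ ⥤ Type u))
    [P.IsClosedUnderIsomorphisms] [Reflective P.ι] [PreservesFiniteLimits (reflector P.ι)] :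
    ∃ J : GrothendieckTopology C,
      (∀ (X : C) (S : Sieve X), S ∈ J X ↔ IsIso ((reflector P.ι).map S.functorInclusion)) ∧
      ∀ F : Cᵒᵖ ⥤ Type u, P F ↔ Presieve.IsSheaf J F := by
  refine ⟨Sheaf.finestTopology (Set.ofPred P), fun X S => mem_iff P S, fun F => ⟨fun hF => ?_, prop_of_isSheaf P F⟩⟩
  exact Sheaf.sheaf_for_finestTopology _ hF

end Groth.Agent.S6127
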