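import Groth.Statements.S6128
import Mathlib.CategoryTheory.Sites.LocallyBijective
import Mathlib.CategoryTheory.Sites.Adjunction
import Mathlib.CategoryTheory.Limits.Types.Filtered
import Mathlib.CategoryTheory.Sites.PreservesSheafification
import Mathlib.CategoryTheory.Functor.KanExtension.Adjunction

set_option linter.style.haveILetI false

set_option autoImplicit false
open CategoryTheory
universe u
open SGA4

namespace Groth.Agent.S6128

/-- Let `u : C ⥤ C'` be a functor between small sites. If the right Kan extension along `u` of the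
underlying presheaf of every sheaf of sets on `C` is a sheaf on `C'`, then `u` is cocontinuous: for
every object `Y` of `C` and every covering sieve `R` of `u Y`, the sieve of morphisms `g : Z ⟶ Y`
with `u g ∈ R` covers `Y`. -/
theorem result
    {C : Type u} [SmallCategory C] {C' : Type u} [SmallCategory C']
    (J : GrothendieckTopology C) (J' : GrothendieckTopology C') (u : C ⥤ C')
    (h : ∀ G : Sheaf J (Type u), Presheaf.IsSheaf J' ((u.op.ran).obj G.obj)) :
    u.IsCocontinuous J J' := by
  refine ⟨fun {X} S hS => ?_⟩
  let ι : u.op ⋙ S.functor ⟶ u.op ⋙ yoneda.obj (u.obj X) :=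
    Functor.whiskerLeft u.op S.functorInclusion
  have hW : J.W ι := by
    intro G hG
    have hs : Presieve.IsSheaf J' ((u.op.ran).obj G) :=
      (isSheaf_iff_isSheaf_of_type _ _).1 (h ⟨G, hG⟩)
    have hy := Presieve.isSheafFor_iff_yonedaSheafCondition.1 (hs S hS)
    let adj := u.op.ranAdjunction (Type u)
    have nat : ∀ b : yoneda.obj (u.obj X) ⟶ (u.op.ran).obj G,
        ι ≫ (adj.homEquiv _ _).symm b = (adj.homEquiv _ _).symm (S.functorInclusion ≫ b) :=
      fun b => (adj.homEquiv_naturality_left_symm S.functorInclusion b).symm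
    refine ⟨fun a b hab => ?_, fun a => ?_⟩
    · obtain ⟨a', rfl⟩ := (adj.homEquiv _ _).symm.surjective a
      obtain ⟨b', rfl⟩ := (adj.homEquiv _ _).symm.surjective b
      simp only [nat] at hab
      have := (adj.homEquiv _ _).symm.injective hab
      rw [(hy (S.functorInclusion ≫ b')).unique (y₁ := a') (y₂ := b') this rfl]
    · obtain ⟨a', rfl⟩ := (adj.homEquiv _ _).symm.surjective a
      obtain ⟨g, hg, -⟩ := hy a'
      exact ⟨(adj.homEquiv _ _).symm g, by simp only [nat, hg]⟩
  haveI := ((GrothendieckTopology.W_iff_isLocallyBijective _ _).1 hW).2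
  have hmem := Presheaf.imageSieve_mem J ι (U := Opposite.op X) (𝟙 (u.obj X))
  refine J.superset_covering ?_ hmem
  rintro Y g ⟨t, ht⟩
  show S (u.map g)
  have e : t.1 = u.map g := by
    simpa [ι] using ht
  exact e ▸ t.2

end Groth.Agent.S6128
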