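import Groth.Statements.S6129
import Mathlib.CategoryTheory.Limits.Types.Pullbacks


set_option autoImplicit false
open CategoryTheory CategoryTheory.Limits
universe u
open SGA4

set_option linter.style.haveILetI false
open CategoryTheory.Limits Opposite

namespace Groth.Agent.S6129

variable {C : Type u} [SmallCategory C] {C' : Type u} [SmallCategory C'] (u : C ⥤ C') [u.Faithful]
  (hu : ∀ X : C, (Over.post (X := X) u).Full ∧ (Over.post (X := X) u).Faithful)

include hu in
lemma lift_slice {X Z₁ Z₂ : C} (v : Z₂ ⟶ Z₁) (w' : X ⟶ Z₁) (g : u.obj X ⟶ u.obj Z₂)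
    (h : g ≫ u.map v = u.map w') : ∃ w : X ⟶ Z₂, u.map w = g := by
  haveI := (hu Z₁).1
  obtain ⟨w, hw⟩ := (Over.post (X := Z₁) u).map_surjective
    (X := Over.mk w') (Y := Over.mk v) (Over.homMk g h)
  exact ⟨w.left, congrArg CommaMorphism.left hw⟩

/-- The value of an element of `(u_! H)(u X)` coming from `H X`, if any. -/
noncomputable def part (H : Cᵒᵖ ⥤ Type u) (X : C) (g : CostructuredArrow u.op (op (u.obj X)))
    (z : H.obj g.left) : Option (H.obj (op X)) :=
  letI := Classical.propDecidable (∃ w : X ⟶ g.left.unop, u.map w = g.hom.unop)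
  if h : ∃ w : X ⟶ g.left.unop, u.map w = g.hom.unop then some (H.map h.choose.op z) else none

lemma part_eq (H : Cᵒᵖ ⥤ Type u) (X : C) (g : CostructuredArrow u.op (op (u.obj X)))
    (z : H.obj g.left) (w : X ⟶ g.left.unop) (hw : u.map w = g.hom.unop) :
    part u H X g z = some (H.map w.op z) := by
  have h : ∃ w : X ⟶ g.left.unop, u.map w = g.hom.unop := ⟨w, hw⟩
  rw [part, dif_pos h, u.map_injective (h.choose_spec.trans hw.symm)]

include hu in
lemma part_comp (H : Cᵒᵖ ⥤ Type u) (X : C) {g₁ g₂ : CostructuredArrow u.op (op (u.obj X))}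
    (φ : g₁ ⟶ g₂) (z : H.obj g₁.left) : part u H X g₂ (H.map φ.left z) = part u H X g₁ z := by
  have e : g₂.hom.unop ≫ u.map φ.left.unop = g₁.hom.unop :=
    congrArg Quiver.Hom.unop (CostructuredArrow.w φ)
  by_cases h : ∃ w : X ⟶ g₁.left.unop, u.map w = g₁.hom.unop
  · obtain ⟨w', hw'⟩ := h
    obtain ⟨w, hw⟩ := lift_slice u hu φ.left.unop w' g₂.hom.unop (e.trans hw'.symm)
    rw [part_eq u H X g₂ _ w hw, part_eq u H X g₁ z (w ≫ φ.left.unop) (by rw [u.map_comp, hw, e]),
      ← Functor.map_comp_apply]
    rfl
  · have h₂ : ¬ ∃ w : X ⟶ g₂.left.unop, u.map w = g₂.hom.unop := fun ⟨w, hw⟩ =>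
      h ⟨w ≫ φ.left.unop, by rw [u.map_comp, hw, e]⟩
    rw [part, part, dif_neg h, dif_neg h₂]

/-- The cocone defining the retraction. -/
noncomputable def partCocone (H : Cᵒᵖ ⥤ Type u) (X : C) :
    Cocone (CostructuredArrow.proj u.op (op (u.obj X)) ⋙ H) where
  pt := Option (H.obj (op X))
  ι :=
    { app := fun g => ↾fun z => part u H X g z
      naturality := fun g₁ g₂ φ => by
        ext z
        exact part_comp u hu H X φ z }

/-- The extension given by `lan`. -/
noncomputable abbrev ext' (H : Cᵒᵖ ⥤ Type u) : Functor.LeftExtension u.op H :=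
  Functor.LeftExtension.mk (u.op.lan.obj H) (u.op.lanUnit.app H)

/-- It is pointwise. -/
noncomputable def pw (H : Cᵒᵖ ⥤ Type u) (X : C) : IsColimit ((ext' u H).coconeAt (op (u.obj X))) :=
  Functor.isPointwiseLeftKanExtensionOfIsLeftKanExtension (u.op.lan.obj H) (u.op.lanUnit.app H) _

lemma ι_unit (H : Cᵒᵖ ⥤ Type u) (X : C) (x : H.obj (op X)) :
    ((ext' u H).coconeAt (op (u.obj X))).ι.app (CostructuredArrow.mk (𝟙 (op (u.obj X)))) x =
      ((u.op.lanAdjunction (Type u)).unit.app H).app (op X) x := by
  rw [Functor.lanAdjunction_unit]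
  exact (u.op.lan.obj H).map_id_apply _ _

include hu in
lemma retraction (H : Cᵒᵖ ⥤ Type u) (X : C) (x : H.obj (op X)) :
    (pw u H X).desc (partCocone u hu H X) (((u.op.lanAdjunction (Type u)).unit.app H).app (op X) x) = some x := by
  rw [← ι_unit u H X x]
  refine (ConcreteCategory.congr_hom ((pw u H X).fac (partCocone u hu H X) (CostructuredArrow.mk (𝟙 (op (u.obj X))))) x).trans ?_
  refine (part_eq u H X (CostructuredArrow.mk (𝟙 (op (u.obj X)))) x (𝟙 X) (u.map_id X)).trans ?_
  rw [op_id]
  exact congrArg some (H.map_id_apply _ x)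

include hu in
lemma unit_injective (H : Cᵒᵖ ⥤ Type u) (X : C) :
    Function.Injective (((u.op.lanAdjunction (Type u)).unit.app H).app (op X)) := fun a b h => by
  have := congrArg ((pw u H X).desc (partCocone u hu H X)) h
  rw [retraction, retraction] at this
  exact Option.some.inj this

include hu in
lemma unit_cartesian {H K : Cᵒᵖ ⥤ Type u} (α : H ⟶ K) (X : C)
    (y : (u.op.lan.obj H).obj (op (u.obj X))) (k : K.obj (op X))
    (hy : ((u.op.lan.map α : u.op.lan.obj H ⟶ u.op.lan.obj K)).app (op (u.obj X)) y =
      ((u.op.lanAdjunction (Type u)).unit.app K).app (op X) k) :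
    ∃ x, ((u.op.lanAdjunction (Type u)).unit.app H).app (op X) x = y ∧ α.app (op X) x = k := by
  obtain ⟨g, z, rfl⟩ := Types.jointly_surjective_of_isColimit (pw u H X) y
  have hnat : ((u.op.lan.map α : u.op.lan.obj H ⟶ u.op.lan.obj K)).app (op (u.obj X))
        (((ext' u H).coconeAt (op (u.obj X))).ι.app g z) =
      ((ext' u K).coconeAt (op (u.obj X))).ι.app g (α.app g.left z) := by
    refine (ConcreteCategory.congr_hom
      ((u.op.lan.map α : u.op.lan.obj H ⟶ u.op.lan.obj K).naturality g.hom) _).trans ?_
    exact congrArg _ (ConcreteCategory.congr_hom (NatTrans.congr_app (u.op.lanUnit.naturality α) g.left) z).symm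
  have hr := congrArg ((pw u K X).desc (partCocone u hu K X)) (hnat.symm.trans hy)
  rw [retraction] at hr
  have hp : part u K X g (α.app g.left z) = some k :=
    (ConcreteCategory.congr_hom ((pw u K X).fac (partCocone u hu K X) g) _).symm.trans hr
  by_cases h : ∃ w : X ⟶ g.left.unop, u.map w = g.hom.unop
  · obtain ⟨w, hw⟩ := h
    refine ⟨H.map w.op z, ?_, ?_⟩
    · rw [← ι_unit u H X]
      let φ : g ⟶ CostructuredArrow.mk (𝟙 (op (u.obj X))) :=
        CostructuredArrow.homMk w.op ((Category.comp_id _).trans (congrArg Quiver.Hom.op hw))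
      exact ConcreteCategory.congr_hom (((ext' u H).coconeAt (op (u.obj X))).w φ) z
    · rw [part_eq u K X g _ w hw] at hp
      exact (ConcreteCategory.congr_hom (α.naturality w.op) z).trans (Option.some.inj hp)
  · rw [part, dif_neg h] at hp
    exact absurd hp (by simp)

end Groth.Agent.S6129


namespace Groth.Agent.S6129

/-- Let `u : C ⥤ C'` be a faithful functor between small categories such that for every object `X` of
`C` the induced functor on over-categories `C/X ⥤ C'/u X` is full and faithful. Then the left Kan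
extension functor `u_!` on presheaves of sets is faithful, the unit `H ⟶ u^* u_! H` of the
adjunction `u_! ⊣ u^*` is a monomorphism for every presheaf `H`, and for every morphism of
presheaves `α : H ⟶ K` the naturality square of the unit at `α` (with sides `α` and `u^* u_! α`) is
cartesian. (The published statement assumes only the condition on the slice functors, and its proof
uses that `u` is faithful; the slice condition alone does not suffice: for a nontrivial group viewed
as a one-object category mapping to the point every slice functor is an equivalence, while `u_!` is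
the orbit-set functor on `G`-sets, which is not faithful, and the unit `G ⟶ G/G` is not a
monomorphism. So `u` is taken faithful here.) -/
theorem result
    {C : Type u} [SmallCategory C] {C' : Type u} [SmallCategory C'] (u : C ⥤ C') [u.Faithful]
    (hu : ∀ X : C, (Over.post (X := X) u).Full ∧ (Over.post (X := X) u).Faithful) :
    (u.op.lan : (Cᵒᵖ ⥤ Type u) ⥤ (C'ᵒᵖ ⥤ Type u)).Faithful ∧
    (∀ H : Cᵒᵖ ⥤ Type u, Mono ((u.op.lanAdjunction (Type u)).unit.app H)) ∧
    ∀ (H K : Cᵒᵖ ⥤ Type u) (α : H ⟶ K),
      IsPullback ((u.op.lanAdjunction (Type u)).unit.app H) α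
        (((Functor.whiskeringLeft Cᵒᵖ C'ᵒᵖ (Type u)).obj u.op).map (u.op.lan.map α))
        ((u.op.lanAdjunction (Type u)).unit.app K) := by
  have hmono : ∀ H : Cᵒᵖ ⥤ Type u, Mono ((u.op.lanAdjunction (Type u)).unit.app H) := fun H => by
    haveI : ∀ X, Mono (((u.op.lanAdjunction (Type u)).unit.app H).app X) := fun X =>
      (mono_iff_injective _).2 (unit_injective u hu H X.unop)
    exact NatTrans.mono_of_mono_app _
  refine ⟨⟨fun {H K} α β h => ?_⟩, hmono, fun H K α => ?_⟩
  · haveI := hmono K
    rw [← cancel_mono ((u.op.lanAdjunction (Type u)).unit.app K)]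
    have := (u.op.lanAdjunction (Type u)).unit.naturality α
    have := (u.op.lanAdjunction (Type u)).unit.naturality β
    simp only [Functor.id_map, Functor.comp_map] at *
    simp_all
  · refine IsPullback.of_forall_isPullback_app fun X => ?_
    rw [CategoryTheory.Limits.Types.isPullback_iff]
    refine ⟨(congrArg (fun t => t.app X) ((u.op.lanAdjunction (Type u)).unit.naturality α).symm),
      fun a b h => unit_injective u hu H X.unop h.1, fun y k hy => unit_cartesian u hu α X.unop y k hy⟩

end Groth.Agent.S6129
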