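import Groth.Statements.S6131
import Groth.Agent.H15Site.SheafEpi
import Groth.Agent.H15Site.CofanSheafify
import Mathlib.CategoryTheory.Sites.Closed

set_option linter.style.haveILetI false
open CategoryTheory CategoryTheory.Limits Opposite

set_option autoImplicit false
open CategoryTheory CategoryTheory.Limits
universe u
open SGA4

namespace Groth.Agent.S6131

/-- For a small site `(C, J)` and an object `X` of `C`, the sheaf associated to the presheaf represented
by `X` is an initial object of the category of sheaves of sets if and only if the empty sieve covers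
`X`. -/
theorem result
    {C : Type u} [SmallCategory C] (J : GrothendieckTopology C) (X : C) :
    Nonempty (IsInitial ((presheafToSheaf J (Type u)).obj (yoneda.obj X))) ↔ (⊥ : Sieve X) ∈ J X := by
  constructor
  · rintro ⟨h⟩
    let F : Sheaf J (Type u) :=
      ⟨(CategoryTheory.Functor.closedSieves J).toFunctor, (isSheaf_iff_isSheaf_of_type _ _).2 (classifier_isSheaf J)⟩
    have e : ∀ a b : F.obj.obj (op X), a = b := fun a b => by
      have := h.hom_ext ((Groth.Agent.H15Site.sheafifyYonedaHomEquiv J X F).symm a)
        ((Groth.Agent.H15Site.sheafifyYonedaHomEquiv J X F).symm b)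
      simpa using this
    rw [← J.close_eq_top_iff_mem]
    exact congrArg Subtype.val (e ⟨J.close (⊥ : Sieve X), J.close_isClosed _⟩ ⟨(⊤ : Sieve X), fun Y f _ => trivial⟩)
  · intro hb
    have huniq : ∀ F : Sheaf J (Type u), ∃! _x : F.obj.obj (op X), True := by
      intro F
      obtain ⟨g, -, hu⟩ := (isSheaf_iff_isSheaf_of_type _ _).1 F.2 _ hb
        (fun Z a ha => (False.elim ha)) (fun _ _ _ _ _ _ _ ha => False.elim ha)
      exact ⟨g, trivial, fun g' _ => hu g' (fun Z a ha => False.elim ha)⟩
    exact ⟨IsInitial.ofUniqueHom
      (fun F => (Groth.Agent.H15Site.sheafifyYonedaHomEquiv J X F).symm (huniq F).exists.choose)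
      (fun F m => (Groth.Agent.H15Site.sheafifyYonedaHomEquiv J X F).injective
        ((huniq F).unique trivial trivial))⟩

end Groth.Agent.S6131
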