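import Groth.Statements.S6132
import Groth.Agent.H15Site.SheafEpi
import Groth.Agent.H15Site.CofanSheafify

set_option linter.style.haveILetI false
open CategoryTheory CategoryTheory.Limits Opposite

set_option autoImplicit false
open CategoryTheory CategoryTheory.Limits
universe u
open SGA4

namespace Groth.Agent.S6132

/-- Let `(C, J)` be a small site, `X` an object and `s i : Y i ⟶ X` a family of morphisms all of whose
base changes exist in `C`. If the family is covering, every `s i` is a monomorphism, and for `i ≠ j`
the fibre product `Y i ×_X Y j` is covered by the empty sieve, then the associated sheaf of `X`,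
with the maps induced by the `s i`, is a coproduct of the associated sheaves of the `Y i` in the
category of sheaves of sets. -/
theorem result
    {C : Type u} [SmallCategory C] (J : GrothendieckTopology C) {X : C} {ι : Type u}
    (Y : ι → C) (s : ∀ i, Y i ⟶ X) [∀ (i : ι) (Z : C) (g : Z ⟶ X), HasPullback (s i) g]
    (hcov : Sieve.ofArrows Y s ∈ J X) (hmono : ∀ i, Mono (s i))
    (hdisj : ∀ i j, i ≠ j → (⊥ : Sieve (pullback (s i) (s j))) ∈ J (pullback (s i) (s j))) :
    Nonempty (IsColimit (Cofan.mk ((presheafToSheaf J (Type u)).obj (yoneda.obj X))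
      (fun i => (presheafToSheaf J (Type u)).map (yoneda.map (s i))))) := by
  rw [Groth.Agent.H15Site.isColimit_cofan_sheafify_yoneda_iff]
  intro F
  have hF := (isSheaf_iff_isSheaf_of_type _ _).1 F.2
  have hs : (Presieve.ofArrows Y s).IsSheafFor F.obj :=
    Presieve.isSheafFor_iff_generate _ |>.2 (hF _ hcov)
  rw [Presieve.isSheafFor_arrows_iff] at hs
  have hc : ∀ x : ∀ i, F.obj.obj (op (Y i)), Presieve.Arrows.Compatible F.obj s x := by
    intro x i j Z gi gj hg
    by_cases hij : i = j
    · subst hij
      haveI := hmono i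
      rw [(cancel_mono (s i)).1 hg]
    · obtain ⟨l, rfl, rfl⟩ : ∃ l, l ≫ pullback.fst (s i) (s j) = gi ∧ l ≫ pullback.snd (s i) (s j) = gj :=
        ⟨pullback.lift gi gj hg, pullback.lift_fst _ _ _, pullback.lift_snd _ _ _⟩
      rw [op_comp, op_comp, F.obj.map_comp, F.obj.map_comp, ConcreteCategory.comp_apply, ConcreteCategory.comp_apply]
      congr 1
      exact (hF.isSeparated _ (hdisj i j hij)).ext fun Z a ha => False.elim ha
  refine ⟨fun a b hab => ?_, fun x => ?_⟩
  · exact (hs _ (hc fun i => F.obj.map (s i).op b)).unique (fun i => congrFun hab i) (fun i => rfl)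
  · obtain ⟨t, ht, -⟩ := hs x (hc x)
    exact ⟨t, funext ht⟩

end Groth.Agent.S6132
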