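import Groth.Statements.S6135
import Mathlib
import Groth.Agent.H15Site.IndUnit

set_option linter.style.haveILetI false
open CategoryTheory CategoryTheory.Limits Opposite Simplicial

set_option autoImplicit false
open CategoryTheory CategoryTheory.Limits
universe u
open SGA4

namespace Groth.Agent.S6135

open Groth.Agent.H15Site.IndUnit in
/-- Faithful case. Let `u : C ⥤ C'` be a functor between small categories and `u_!` the left Kan
extension functor on presheaves of sets, whose restriction to ind-objects (presheaves that are small
filtered colimits of representables) is the induced functor `Ind C ⥤ Ind C'`. Then `u` is faithful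
if and only if `u_!` is injective on morphisms between ind-representable presheaves. -/
theorem result
    {C : Type u} [SmallCategory C] {C' : Type u} [SmallCategory C'] (u : C ⥤ C') :
    u.Faithful ↔ ∀ (F G : Cᵒᵖ ⥤ Type u), IsIndObject F → IsIndObject G →
      Function.Injective (fun φ : F ⟶ G => (u.op.lan : (Cᵒᵖ ⥤ Type u) ⥤ (C'ᵒᵖ ⥤ Type u)).map φ) := by
  constructor
  · intro hfaith F G hF hG
    have : Mono ((η u).app G) := by
      rw [NatTrans.mono_iff_mono_app]
      rintro ⟨X⟩
      exact (mono_iff_injective _).2 ((unit_indObject u hG X).1 hfaith)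
    let e := ((u.op.lanAdjunction (Type u)).homEquiv F (u.op.lan.obj G)).symm
    have : (fun φ : F ⟶ G => (u.op.lan : (Cᵒᵖ ⥤ Type u) ⥤ (C'ᵒᵖ ⥤ Type u)).map φ) =
        fun φ => e (φ ≫ (η u).app G) := by
      funext φ
      apply e.symm.injective
      rw [Equiv.symm_apply_apply]
      exact ((Adjunction.homEquiv_unit _ _ _ _).trans ((η u).naturality φ).symm)
    rw [this]
    exact e.injective.comp fun a b hab => (cancel_mono _).1 hab
  · intro h
    have hbij := fun X Y => h _ _ (isIndObject_yoneda X) (isIndObject_yoneda Y)
    refine ⟨fun {X Y} f g hfg => ?_⟩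
    apply yoneda.map_injective
    apply (hbij X Y)
    apply ((u.op.lanAdjunction (Type u)).homEquiv _ _).injective
    rw [Adjunction.homEquiv_unit, Adjunction.homEquiv_unit]
    obtain ⟨e, he⟩ := unit_yoneda u Y
    ext ⟨Z⟩ k
    have n1 := ConcreteCategory.congr_hom (NatTrans.congr_app ((η u).naturality (yoneda.map f)) (op Z)) k
    have n2 := ConcreteCategory.congr_hom (NatTrans.congr_app ((η u).naturality (yoneda.map g)) (op Z)) k
    refine n1.symm.trans (Eq.trans ?_ n2)
    apply ((isIso_iff_bijective _).1 (inferInstance : IsIso (e.hom.app (op (u.obj Z))))).1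
    refine (he Z _).trans (Eq.trans ?_ (he Z _).symm)
    change u.map (k ≫ f) = u.map (k ≫ g)
    rw [u.map_comp, u.map_comp, hfg]

end Groth.Agent.S6135
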