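import Groth.Statements.S6136
import Mathlib
import Groth.Agent.H15Site.IndUnit

set_option linter.style.haveILetI false
open CategoryTheory CategoryTheory.Limits Opposite Simplicial

set_option autoImplicit false
open CategoryTheory CategoryTheory.Limits
universe u
open SGA4

namespace Groth.Agent.S6136

open Groth.Agent.H15Site.IndUnit in
/-- Fully faithful case. Let `u : C ⥤ C'` be a functor between small categories and `u_!` the left Kan
extension functor on presheaves of sets, whose restriction to ind-representable presheaves is the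
induced functor `Ind C ⥤ Ind C'`. Then `u` is full and faithful if and only if `u_!` is bijective on
morphisms between ind-representable presheaves. -/
theorem result
    {C : Type u} [SmallCategory C] {C' : Type u} [SmallCategory C'] (u : C ⥤ C') :
    (u.Full ∧ u.Faithful) ↔ ∀ (F G : Cᵒᵖ ⥤ Type u), IsIndObject F → IsIndObject G →
      Function.Bijective (fun φ : F ⟶ G => (u.op.lan : (Cᵒᵖ ⥤ Type u) ⥤ (C'ᵒᵖ ⥤ Type u)).map φ) := by
  constructor
  · rintro ⟨hfull, hfaith⟩ F G hF hG
    have : IsIso ((η u).app G) := by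
      rw [NatTrans.isIso_iff_isIso_app]
      rintro ⟨X⟩
      exact (isIso_iff_bijective _).2 ⟨(unit_indObject u hG X).1 hfaith, (unit_indObject u hG X).2 hfull⟩
    let e := ((u.op.lanAdjunction (Type u)).homEquiv F (u.op.lan.obj G)).symm
    have : (fun φ : F ⟶ G => (u.op.lan : (Cᵒᵖ ⥤ Type u) ⥤ (C'ᵒᵖ ⥤ Type u)).map φ) =
        fun φ => e (φ ≫ (η u).app G) := by
      funext φ
      apply e.symm.injective
      rw [Equiv.symm_apply_apply]
      exact ((Adjunction.homEquiv_unit _ _ _ _).trans ((η u).naturality φ).symm)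
    rw [this]
    exact e.bijective.comp ⟨fun a b hab => (cancel_mono _).1 hab,
      fun c => ⟨c ≫ inv ((η u).app G), by simp⟩⟩
  · intro h
    have hbij := fun X Y => h _ _ (isIndObject_yoneda X) (isIndObject_yoneda Y)
    refine ⟨⟨fun {X Y} g => ?_⟩, ⟨fun {X Y} f g hfg => ?_⟩⟩
    · obtain ⟨eX, hX⟩ := unit_yoneda u X
      obtain ⟨eY, hY⟩ := unit_yoneda u Y
      obtain ⟨φ, hφ⟩ := (hbij X Y).2 (eX.hom ≫ yoneda.map g ≫ eY.inv)
      refine ⟨φ.app (op X) (𝟙 X), ?_⟩
      have n1 := ConcreteCategory.congr_hom (NatTrans.congr_app ((η u).naturality φ) (op X)) (𝟙 X)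
      refine ((hY X _).symm.trans (congrArg (eY.hom.app (op (u.obj X))) (n1.trans
        (ConcreteCategory.congr_hom (NatTrans.congr_app hφ (op (u.obj X))) _)))).trans ?_
      refine (ConcreteCategory.congr_hom (eY.inv_hom_id_app (op (u.obj X))) _).trans ?_
      refine (congrArg (fun q => q ≫ g) ((hX X (𝟙 X)).trans (u.map_id X))).trans ?_
      exact Category.id_comp g
    · apply yoneda.map_injective
      apply (hbij X Y).1
      apply ((u.op.lanAdjunction (Type u)).homEquiv _ _).injective
      rw [Adjunction.homEquiv_unit, Adjunction.homEquiv_unit]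
      obtain ⟨e, he⟩ := unit_yoneda u Y
      ext ⟨Z⟩ k
      have n1 := ConcreteCategory.congr_hom (NatTrans.congr_app ((η u).naturality (yoneda.map f)) (op Z)) k
      have n2 := ConcreteCategory.congr_hom (NatTrans.congr_app ((η u).naturality (yoneda.map g)) (op Z)) k
      refine n1.symm.trans (Eq.trans ?_ n2)
      apply ((isIso_iff_bijective _).1 (inferInstance : IsIso (e.hom.app (op (u.obj Z))))).1
      refine (he Z _).trans (Eq.trans ?_ (he Z _).symm)
      change u.map (k ≫ f) = u.map (k ≫ g)
      rw [u.map_comp, u.map_comp, hfg]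

end Groth.Agent.S6136
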