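import Groth.Statements.S6137
import Mathlib

set_option linter.style.haveILetI false
open CategoryTheory CategoryTheory.Limits Opposite Simplicial

set_option autoImplicit false
open CategoryTheory CategoryTheory.Limits
universe v u
open SGA4

namespace Groth.Agent.S6137

section

variable {C : Type u} [Category.{v} C]

lemma exists_equalizer_elt [HasEqualizers C] (F : C ⥤ Type v) [PreservesLimitsOfSize.{v, v} F]
    {A B : C} (f g : A ⟶ B) (a : F.obj A) (h : F.map f a = F.map g a) :
    ∃ z : F.obj (equalizer f g), F.map (equalizer.ι f g) z = a := by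
  haveI : PreservesLimitsOfSize.{0, 0} F := preservesLimitsOfSize_shrink.{0, v, 0, v} F
  have hl := isLimitOfHasEqualizerOfPreservesLimit F f g
  have hc : (↾fun (_ : PUnit.{v+1}) => a) ≫ F.map f = (↾fun (_ : PUnit.{v+1}) => a) ≫ F.map g := by
    ext; exact h
  obtain ⟨l, hl'⟩ := Fork.IsLimit.lift' hl _ hc
  exact ⟨l PUnit.unit, ConcreteCategory.congr_hom hl' PUnit.unit⟩
end

/-- Let `C` be a category with `v`-small hom-sets admitting all `v`-small limits, and `F : C ⥤ Type v` a
functor. Then `F` is corepresentable if and only if it is pro-representable (viewed as a presheaf on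
`Cᵒᵖ` it is an ind-object, i.e. a small filtered colimit of corepresentable functors) and preserves
all `v`-small limits. -/
theorem result
    {C : Type u} [Category.{v} C] [HasLimitsOfSize.{v, v} C] (F : C ⥤ Type v) :
    F.IsCorepresentable ↔
      IsIndObject (unopUnop C ⋙ F) ∧ PreservesLimitsOfSize.{v, v} F := by
  constructor
  · intro hF
    refine ⟨?_, preservesLimits_of_natIso F.coreprW⟩
    refine IsIndObject.map (Iso.hom (?_ : yoneda.obj (op F.coreprX) ≅ unopUnop C ⋙ F))
      (isIndObject_yoneda _)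
    refine NatIso.ofComponents
      (fun Z => ((opEquiv Z.unop (op F.coreprX)).trans F.corepresentableBy.homEquiv).toIso) ?_
    intro Z Z' g
    ext f
    exact F.corepresentableBy.homEquiv_comp g.unop.unop f.unop
  · rintro ⟨hF, _⟩
    obtain ⟨P⟩ := hF.nonempty_presentation
    haveI : HasLimitsOfSize.{0, 0} C := hasLimitsOfSizeShrink.{0, 0, v, v} C
    let xs : ∀ i : P.I, F.obj (P.F.obj i).unop := fun i => (P.ι.app i).app (op (P.F.obj i)) (𝟙 _)
    have hιapp : ∀ (i : P.I) (Z : C) (g : op Z ⟶ P.F.obj i),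
        (P.ι.app i).app (op (op Z)) g = F.map g.unop (xs i) := by
      intro i Z g
      refine Eq.trans ?_ (ConcreteCategory.congr_hom ((P.ι.app i).naturality g.op) (𝟙 (P.F.obj i)))
      exact congrArg ((P.ι.app i).app (op (op Z))) (Category.comp_id g).symm
    have hcover : ∀ (Z : C) (y : F.obj Z), ∃ (i : P.I) (g : (P.F.obj i).unop ⟶ Z), F.map g (xs i) = y := by
      intro Z y
      obtain ⟨i, g, hg⟩ := Types.jointly_surjective _
        (isColimitOfPreserves ((evaluation (Cᵒᵖ)ᵒᵖ (Type v)).obj (op (op Z))) P.isColimit) y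
      exact ⟨i, g.unop, (hιapp i Z g).symm.trans hg⟩
    have hcompat : ∀ {i j : P.I} (φ : i ⟶ j), F.map (P.F.map φ).unop (xs j) = xs i := by
      intro i j φ
      refine (hιapp j _ (P.F.map φ)).symm.trans ?_
      have := ConcreteCategory.congr_hom (NatTrans.congr_app (P.ι.naturality φ) (op (P.F.obj i))) (𝟙 (P.F.obj i))
      refine (congrArg ((P.ι.app j).app _) (Category.id_comp (P.F.map φ)).symm).trans (this.trans ?_)
      rfl
    let L := limit P.F.leftOp
    obtain ⟨x, hx⟩ : ∃ x : F.obj L, ∀ i : P.I, F.map (limit.π P.F.leftOp (op i)) x = xs i := by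
      let hl := isLimitOfPreserves F (limit.isLimit P.F.leftOp)
      let s : (P.F.leftOp ⋙ F).sections := ⟨fun i => xs i.unop, fun φ => hcompat φ.unop⟩
      exact ⟨(Types.isLimitEquivSections hl).symm s,
        fun i => Types.isLimitEquivSections_symm_apply hl s (op i)⟩
    let S := { s : L ⟶ L // F.map s x = x }
    let d₀ : L ⟶ ∏ᶜ fun _ : S => L := Pi.lift fun _ => 𝟙 L
    let d₁ : L ⟶ ∏ᶜ fun _ : S => L := Pi.lift fun s => s.1
    have hd : F.map d₀ x = F.map d₁ x := by
      refine Concrete.isLimit_ext _ (isLimitOfPreserves F (limit.isLimit (Discrete.functor fun _ : S => L))) _ _ ?_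
      rintro ⟨s⟩
      refine (Functor.map_comp_apply F _ _ x).symm.trans (Eq.trans ?_ (Functor.map_comp_apply F _ _ x))
      change F.map (d₀ ≫ Pi.π _ s) x = F.map (d₁ ≫ Pi.π _ s) x
      simp [d₀, d₁, s.2]
    obtain ⟨z, hz⟩ := exists_equalizer_elt F d₀ d₁ x hd
    have he : ∀ s : L ⟶ L, F.map s x = x → equalizer.ι d₀ d₁ ≫ s = equalizer.ι d₀ d₁ := by
      intro s hs
      have := congrArg (fun t => t ≫ Pi.π _ (⟨s, hs⟩ : S)) (equalizer.condition d₀ d₁)
      simpa [d₀, d₁] using this.symm
    refine Functor.CorepresentableBy.isCorepresentable (X := equalizer d₀ d₁)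
      { homEquiv := fun {Z} => Equiv.ofBijective (fun f => F.map f z) ⟨?_, ?_⟩
        homEquiv_comp := fun g f => Functor.map_comp_apply F f g z }
    · intro f g hfg
      obtain ⟨z', hz'⟩ := exists_equalizer_elt F f g z hfg
      obtain ⟨i, h, hh⟩ := hcover _ z'
      let k : L ⟶ equalizer f g := limit.π P.F.leftOp (op i) ≫ h
      have hk : F.map k x = z' := by
        rw [Functor.map_comp_apply]
        exact (congrArg (F.map h) (hx i)).trans hh
      have hs : F.map (k ≫ equalizer.ι f g ≫ equalizer.ι d₀ d₁) x = x := by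
        rw [Functor.map_comp_apply, hk, Functor.map_comp_apply, hz', hz]
      have := he _ hs
      have hid : (equalizer.ι d₀ d₁ ≫ k) ≫ equalizer.ι f g = 𝟙 _ := by
        rw [← cancel_mono (equalizer.ι d₀ d₁)]
        simpa using this
      calc f = ((equalizer.ι d₀ d₁ ≫ k) ≫ equalizer.ι f g) ≫ f := by rw [hid, Category.id_comp]
        _ = ((equalizer.ι d₀ d₁ ≫ k) ≫ equalizer.ι f g) ≫ g := by rw [Category.assoc, equalizer.condition, ← Category.assoc]
        _ = g := by rw [hid, Category.id_comp]
    · intro y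
      obtain ⟨i, h, hh⟩ := hcover _ y
      refine ⟨equalizer.ι d₀ d₁ ≫ limit.π P.F.leftOp (op i) ≫ h, ?_⟩
      change F.map _ z = y
      rw [Functor.map_comp_apply, hz, Functor.map_comp_apply]
      exact (congrArg (F.map h) (hx i)).trans hh

end Groth.Agent.S6137
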