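import Groth.Statements.S6139

set_option linter.style.haveILetI false

set_option autoImplicit false
open CategoryTheory CategoryTheory.Limits
universe v u
open SGA4

namespace Groth.Agent.S6139

/-- For an object `X` of a category `C`, the empty sieve on `X` is covering for the canonical topology
of `C` (the finest topology for which every representable presheaf is a sheaf) if and only if `X` is
a strict initial object: `X` is initial and every morphism with target `X` is an isomorphism. (The
source phrases the first condition as: for some topology coarser than the canonical one the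
associated sheaf of `h_X` is initial; that sheaf is initial exactly when the empty sieve covers `X`,
and coverage by the empty sieve passes to the finer canonical topology.) -/
theorem result
    {C : Type u} [Category.{v} C] (X : C) :
    (⊥ : Sieve X) ∈ Sheaf.canonicalTopology C X ↔
      (Nonempty (IsInitial X) ∧ ∀ (Y : C) (f : Y ⟶ X), IsIso f) := by
  constructor
  · intro h
    have hh : ∀ (Y : C) (f : Y ⟶ X) (W : C), ∃! _g : Y ⟶ W, True := by
      intro Y f W
      have hs := Sheaf.isSheaf_yoneda_obj W _ ((Sheaf.canonicalTopology C).pullback_stable f h)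
      obtain ⟨g, -, hu⟩ := hs (fun Z a ha => (False.elim ha))
        (fun _ _ _ _ _ _ _ ha => False.elim ha)
      exact ⟨g, trivial, fun g' _ => hu g' (fun Z a ha => False.elim ha)⟩
    have hi : ∀ (Y : C) (f : Y ⟶ X), IsInitial Y := fun Y f => IsInitial.ofUniqueHom
      (fun W => (hh Y f W).exists.choose) (fun W m => (hh Y f W).unique trivial trivial)
    exact ⟨⟨hi X (𝟙 X)⟩, fun Y f => ⟨(hi X (𝟙 X)).to Y, (hi Y f).hom_ext _ _, (hi X (𝟙 X)).hom_ext _ _⟩⟩
  · rintro ⟨⟨hX⟩, hs⟩
    apply Sheaf.mem_finestTopology_of_forall_isSheafFor
    rintro _ ⟨W, rfl⟩ Y f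
    haveI := hs Y f
    have hY : IsInitial Y := hX.ofIso (asIso f).symm
    intro x _
    exact ⟨hY.to W, fun Z a ha => False.elim ha, fun g _ => hY.hom_ext _ _⟩

end Groth.Agent.S6139
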