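import Groth.Statements.S6140
import Groth.Agent.S3081
import Groth.Agent.H15Site.GiraudJoint
import Groth.Agent.H15Site.CofanSheafify

set_option autoImplicit false
open CategoryTheory CategoryTheory.Limits
universe u
open SGA4

set_option linter.style.haveILetI false
set_option backward.isDefEq.respectTransparency false
open CategoryTheory.Limits Opposite
open Groth.Agent.H15Site

namespace Groth.Agent.S6140

lemma refl_swap {D : Type*} [Category D] {R X Z : D} {p₁ p₂ : R ⟶ X} {r : X ⟶ R} (h₁ : r ≫ p₁ = 𝟙 X)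
    (h₂ : r ≫ p₂ = 𝟙 X) {a b : X ⟶ Z} (h : p₁ ≫ a = p₂ ≫ b) : a = b := by
  simpa [reassoc_of% h₁, reassoc_of% h₂] using congrArg (fun t => r ≫ t) h

lemma isPushout_of_cofork {D : Type*} [Category D] {R X : D} {p₁ p₂ : R ⟶ X} {r : X ⟶ R}
    (h₁ : r ≫ p₁ = 𝟙 X) (h₂ : r ≫ p₂ = 𝟙 X) {c : Cofork p₁ p₂} (hc : IsColimit c) :
    IsPushout p₁ p₂ c.π c.π := by
  refine ⟨⟨c.condition⟩, ⟨PushoutCocone.IsColimit.mk _
    (fun s => Cofork.IsColimit.desc hc s.inl (by rw [s.condition, refl_swap h₁ h₂ s.condition]))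
    (fun s => Cofork.IsColimit.π_desc' hc _ _) (fun s => ?_) fun s m hm _ => ?_⟩⟩
  · exact (Cofork.IsColimit.π_desc' hc _ _).trans (refl_swap h₁ h₂ s.condition)
  · exact Cofork.IsColimit.hom_ext hc (hm.trans (Cofork.IsColimit.π_desc' hc _ _).symm)

lemma isEquivRel_yoneda {C : Type u} [SmallCategory C] (J : GrothendieckTopology C) [J.Subcanonical]
    {R X : C} {p₁ p₂ : R ⟶ X} (hR : SGA4.IsEquivRel p₁ p₂) :
    SGA4.IsEquivRel (J.yoneda.map p₁) (J.yoneda.map p₂) := by
  intro T
  have hiff : ∀ a b : T ⟶ J.yoneda.obj X, (∃ f, f ≫ J.yoneda.map p₁ = a ∧ f ≫ J.yoneda.map p₂ = b) ↔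
      ∀ (W : C) (t : T.obj.obj (op W)), ∃ k : W ⟶ R, k ≫ p₁ = a.hom.app (op W) t ∧ k ≫ p₂ = b.hom.app (op W) t := by
    intro a b
    constructor
    · rintro ⟨f, rfl, rfl⟩ W t
      exact ⟨f.hom.app (op W) t, rfl, rfl⟩
    · intro h
      choose k hk₁ hk₂ using h
      refine ⟨⟨{ app := fun W => ↾fun t => k W.unop t, naturality := fun W W' g => ?_ }⟩, ?_, ?_⟩
      · ext t
        refine (hR W'.unop).1 (Prod.ext ?_ ?_)
        · change k W'.unop (T.obj.map g t) ≫ p₁ = (g.unop ≫ k W.unop t) ≫ p₁
          rw [Category.assoc, hk₁, hk₁]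
          exact ConcreteCategory.congr_hom (a.hom.naturality g) t
        · change k W'.unop (T.obj.map g t) ≫ p₂ = (g.unop ≫ k W.unop t) ≫ p₂
          rw [Category.assoc, hk₂, hk₂]
          exact ConcreteCategory.congr_hom (b.hom.naturality g) t
      · ext W t; exact hk₁ W.unop t
      · ext W t; exact hk₂ W.unop t
  refine ⟨fun f g h => ?_, fun a => (hiff a a).2 fun W t => (hR W).2.refl _,
    fun h => (hiff _ _).2 fun W t => (hR W).2.symm ((hiff _ _).1 h W t),
    fun h h' => (hiff _ _).2 fun W t => (hR W).2.trans ((hiff _ _).1 h W t) ((hiff _ _).1 h' W t)⟩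
  ext W t
  refine (hR W.unop).1 (Prod.ext ?_ ?_)
  · exact ConcreteCategory.congr_hom (NatTrans.congr_app (congrArg (fun m => m.hom) (congrArg Prod.fst h)) W) t
  · exact ConcreteCategory.congr_hom (NatTrans.congr_app (congrArg (fun m => m.hom) (congrArg Prod.snd h)) W) t

end Groth.Agent.S6140


namespace Groth.Agent.S6140

/-- Let `C` be a small category with pullbacks, `p₁ p₂ : R ⇉ X` an equivalence relation in `C` admitting
a coequalizer cofork `c`, and `ε` the canonical functor to sheaves of sets for the canonical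
topology of `C`. Then the equivalence relation is effective and universal (`R` is the kernel pair of
the quotient map, which is a coequalizer all of whose base changes are effective epimorphisms) if
and only if `ε` takes `c` to a coequalizer of `ε p₁, ε p₂`. (For a small category every topology has
a small topologically generating family, so both implications of the published statement apply. The
published statement asks only that the quotient map have all base changes; this row assumes that `C`
has all pullbacks.) -/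
theorem result
    {C : Type u} [SmallCategory C] [HasPullbacks C] {R X : C} (p₁ p₂ : R ⟶ X)
    (hR : SGA4.IsEquivRel p₁ p₂) (c : Cofork p₁ p₂) (hc : IsColimit c) :
    SGA4.IsEffectiveUniversalEquivRel p₁ p₂ ↔
      Nonempty (IsColimit ((yoneda ⋙ presheafToSheaf (Sheaf.canonicalTopology C) (Type u)).mapCocone c)) := by
  let J := Sheaf.canonicalTopology C
  let L := presheafToSheaf J (Type u)
  let G : C ⥤ Sheaf J (Type u) := yoneda ⋙ L
  let e : J.yoneda ≅ G := (Functor.rightUnitor _).symm ≪≫
    Functor.isoWhiskerLeft J.yoneda (asIso (sheafificationAdjunction J (Type u)).counit).symm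
  haveI : PreservesLimitsOfShape WalkingCospan G := inferInstanceAs
    (PreservesLimitsOfShape WalkingCospan (yoneda ⋙ L))
  haveI : G.Full := Functor.Full.of_iso e
  haveI : G.Faithful := Functor.Faithful.of_iso e
  haveI : PreservesLimitsOfShape WalkingCospan J.yoneda := preservesLimitsOfShape_of_natIso e.symm
  obtain ⟨r, hr₁, hr₂⟩ := (hR X).2.refl (𝟙 X)
  have hpo := isPushout_of_cofork hr₁ hr₂ hc
  constructor
  · rintro ⟨B, π, hpb, hpo', hu⟩
    let i := hpo'.isoIsPushout _ _ hpo
    have hi : π ≫ i.hom = c.π := hpo'.inl_isoIsPushout_hom _ _ _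
    have hS : Sieve.generate (Presieve.singleton π) ∈ J B := by
      refine Sheaf.mem_finestTopology_of_forall_isSheafFor ?_
      rintro _ ⟨Z, rfl⟩ W f
      haveI := hu W f
      have e : (Sieve.generate (Presieve.singleton π)).pullback f =
          Sieve.generate (Presieve.singleton (pullback.snd π f)) := by
        ext V g
        constructor
        · rintro ⟨_, a, _, ⟨⟩, ha⟩
          exact ⟨_, pullback.lift a g ha, _, ⟨⟩, pullback.lift_snd _ _ _⟩
        · rintro ⟨_, a, _, ⟨⟩, rfl⟩
          exact ⟨_, a ≫ pullback.fst π f, π, ⟨⟩, by simp [pullback.condition]⟩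
      rw [e, ← Presieve.isSheafFor_iff_generate, Presieve.isSheafFor_singleton]
      intro x hx
      exact ⟨EffectiveEpi.desc (pullback.snd π f) x fun g₁ g₂ h => hx g₁ g₂ h,
        EffectiveEpi.fac _ _ _, fun t ht => EffectiveEpi.uniq _ _ _ _ ht⟩
    haveI : Epi (G.map π) := ⟨fun {F} a b hab => by
      apply (sheafifyYonedaHomEquiv J B F).injective
      refine ((isSheaf_iff_isSheaf_of_type _ _).1 F.property _ hS).isSeparatedFor.ext fun V g hg => ?_
      obtain ⟨_, k, _, ⟨⟩, rfl⟩ := hg
      rw [← sheafifyYonedaHomEquiv_naturality, ← sheafifyYonedaHomEquiv_naturality, yoneda.map_comp,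
        L.map_comp, Category.assoc, Category.assoc]
      exact congrArg (fun t => sheafifyYonedaHomEquiv J V F (_ ≫ t)) hab⟩
    haveI : Epi (G.map c.π) := by
      rw [← hi, G.map_comp]
      infer_instance
    haveI := IsRegularEpiCategory.regularEpiOfEpi (G.map c.π)
    have hpb' : IsPullback p₁ p₂ c.π c.π :=
      hpb.of_iso (Iso.refl _) (Iso.refl _) (Iso.refl _) i (by simp) (by simp) (by simp [hi]) (by simp [hi])
    have hG := GiraudJoint.isPushout_of_effectiveEpi (hpb'.map G)
    exact ⟨(isColimitMapCoconeCoforkEquiv G c.condition).symm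
      (Cofork.IsColimit.mk _ (fun s => hG.desc s.π s.π s.condition) (fun s => hG.inl_desc _ _ _)
        fun s m hm => hG.hom_ext (hm.trans (hG.inl_desc _ _ _).symm)
          (hm.trans (hG.inr_desc _ _ _).symm)) |>.ofIsoColimit ((Cocone.functoriality _ G).mapIso (Cofork.isoCoforkOfπ c).symm)⟩
  · rintro ⟨hε⟩
    have hy : IsColimit (Cofork.ofπ (J.yoneda.map c.π)
        (by rw [← J.yoneda.map_comp, c.condition, J.yoneda.map_comp]) :
          Cofork (J.yoneda.map p₁) (J.yoneda.map p₂)) :=
      isColimitMapCoconeCoforkEquiv J.yoneda c.condition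
        ((IsColimit.mapCoconeEquiv e.symm hε).ofIsoColimit ((Cocone.functoriality _ _).mapIso (Cofork.isoCoforkOfπ c)))
    have hpo₂ : IsPushout (J.yoneda.map p₁) (J.yoneda.map p₂) (J.yoneda.map c.π) (J.yoneda.map c.π) :=
      isPushout_of_cofork (r := J.yoneda.map r) (by rw [← Functor.map_comp, hr₁, CategoryTheory.Functor.map_id])
        (by rw [← Functor.map_comp, hr₂, CategoryTheory.Functor.map_id]) hy
    obtain ⟨B, ρ, hpb, hpo', -⟩ := (S3081.result J).2 _ _ _ _ (isEquivRel_yoneda J hR)
    let i := hpo'.isoIsPushout _ _ hpo₂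
    have hi : ρ ≫ i.hom = J.yoneda.map c.π := hpo'.inl_isoIsPushout_hom _ _ _
    have hpb₁ : IsPullback (J.yoneda.map p₁) (J.yoneda.map p₂) (J.yoneda.map c.π) (J.yoneda.map c.π) :=
      (hpb.of_iso (Iso.refl _) (Iso.refl _) (Iso.refl _) i (by simp) (by simp) (by simp [hi]) (by simp [hi]))
    have hpb₂ : IsPullback p₁ p₂ c.π c.π := IsPullback.of_map J.yoneda c.condition hpb₁
    refine ⟨c.pt, c.π, hpb₂, hpo, fun B' g => ?_⟩
    let q := pullback.snd c.π g
    haveI : Epi (J.yoneda.map c.π) := ⟨fun a b h => hpo₂.hom_ext h h⟩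
    haveI : EffectiveEpi (J.yoneda.map q) := sheaf_universally_effectiveEpi (J.yoneda.map c.π) _ _ _
      ((IsPullback.of_hasPullback c.π g).map J.yoneda).flip
    exact GiraudJoint.effectiveEpi_of_isPushout (IsPushout.of_map J.yoneda pullback.condition
      (GiraudJoint.isPushout_of_effectiveEpi ((IsPullback.of_hasPullback q q).map J.yoneda)))

end Groth.Agent.S6140
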