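import Groth.Statements.S6142
import Mathlib

set_option linter.style.haveILetI false
open CategoryTheory CategoryTheory.Limits Opposite Simplicial

set_option autoImplicit false
open CategoryTheory
universe u
open SGA4

namespace Groth.Agent.S6142

/-- Let `u : C ⥤ C'` be a continuous and cocontinuous functor between small sites whose topologies are
subcanonical. If the left adjoint `u_!` of the restriction functor `u^*` on sheaves of sets is full
and faithful, then `u` is full and faithful. -/
theorem result
    {C : Type u} [SmallCategory C] {C' : Type u} [SmallCategory C']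
    (J : GrothendieckTopology C) (K : GrothendieckTopology C') [J.Subcanonical] [K.Subcanonical]
    (u : C ⥤ C') [u.IsContinuous J K] [u.IsCocontinuous J K]
    (h : (u.sheafPullback (Type u) J K).Full ∧ (u.sheafPullback (Type u) J K).Faithful) :
    u.Full ∧ u.Faithful := by
  obtain ⟨hfull, hfaith⟩ := h
  let adj := u.sheafAdjunctionContinuous (Type u) J K
  let R := u.sheafPushforwardContinuous (Type u) J K
  have hbij : ∀ X Y : C, Function.Bijective (fun f : X ⟶ Y => u.map f) := by
    intro X Y
    let yY := J.yoneda.obj Y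
    let yuY := K.yoneda.obj (u.obj Y)
    let m : yY ⟶ R.obj yuY := ⟨{ app := fun Z => ↾fun (f : Z.unop ⟶ Y) => u.map f
                                 naturality := fun Z Z' g => by ext f; exact u.map_comp _ _ }⟩
    have hunit : IsIso (adj.unit.app yY) := inferInstance
    let η := adj.unit.app yY
    let e₀ := η.hom.app (op Y) (𝟙 Y)
    let θ : yuY ⟶ (u.sheafPullback (Type u) J K).obj yY := K.yonedaEquiv.symm e₀
    let ψ := (adj.homEquiv _ _).symm m
    have hψ : η ≫ R.map ψ = m :=
      (adj.homEquiv_unit _ _ ψ).symm.trans (Equiv.apply_symm_apply _ _)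
    have hm : ∀ f : yuY ⟶ yuY, K.yonedaEquiv f = K.yonedaEquiv (𝟙 _) → f = 𝟙 _ :=
      fun f hf => K.yonedaEquiv.injective hf
    have hθ : ∀ {Z} (f : yuY ⟶ Z), K.yonedaEquiv f = f.hom.app (op (u.obj Y)) (𝟙 _) := fun f => rfl
    have h1 : θ ≫ ψ = 𝟙 _ := by
      apply hm
      have e1 := ConcreteCategory.congr_hom
        (NatTrans.congr_app (congrArg InducedCategory.Hom.hom hψ) (op Y)) (𝟙 Y)
      have e2 : θ.hom.app (op (u.obj Y)) (𝟙 _) = e₀ := K.yonedaEquiv.apply_symm_apply e₀
      rw [hθ, hθ]
      refine (congrArg (ψ.hom.app (op (u.obj Y))) e2).trans (e1.trans ?_)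
      exact u.map_id Y
    have h2 : ψ ≫ θ = 𝟙 _ := by
      apply (adj.homEquiv _ _).injective
      rw [Adjunction.homEquiv_unit, Adjunction.homEquiv_unit, Functor.map_comp, ← Category.assoc]
      change (η ≫ R.map ψ) ≫ R.map θ = η ≫ R.map (𝟙 _)
      refine (congrArg (· ≫ R.map θ) hψ).trans
        (Eq.trans ?_ ((congrArg (η ≫ ·) (R.map_id _)).trans (Category.comp_id η)).symm)
      apply J.yonedaEquiv.injective
      have e2 : θ.hom.app (op (u.obj Y)) (𝟙 _) = e₀ := K.yonedaEquiv.apply_symm_apply e₀
      refine Eq.trans ?_ (e2.trans rfl)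
      exact congrArg (θ.hom.app (op (u.obj Y))) (u.map_id Y)
    have : IsIso ψ := ⟨θ, h2, h1⟩
    have : IsIso m := hψ ▸ inferInstance
    have : IsIso m.hom := inferInstanceAs (IsIso ((sheafToPresheaf J (Type u)).map m))
    exact (isIso_iff_bijective _).1 ((NatTrans.isIso_iff_isIso_app m.hom).1 this (op X))
  exact ⟨⟨fun {X Y} f => (hbij X Y).2 f⟩, ⟨fun {X Y} _ _ h => (hbij X Y).1 h⟩⟩

end Groth.Agent.S6142
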