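import Groth.Statements.S6143
import Groth.Agent.H15Site.CoprodVK
import Groth.Agent.H15Site.CofanSheafify
import Groth.Agent.S12108

set_option autoImplicit false
open CategoryTheory CategoryTheory.Limits
universe u
open SGA4

set_option linter.style.haveILetI false
set_option backward.isDefEq.respectTransparency false
open CategoryTheory.Limits Opposite
open Groth.Agent.H15Site


namespace Groth.Agent.S6143

/-- Let `C` be a small category, `X` an object and `s i : Y i ⟶ X` a family of morphisms all of whose
base changes exist. Then the associated sheaf of `h_X` for the canonical topology, with the maps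
induced by the `s i`, is a coproduct of the associated sheaves of the `h_{Y i}` (in sheaves of sets
for the canonical topology) if and only if `X` is a disjoint universal coproduct of the `Y i` in
`C`: the cofan `(X, s)` is a colimit, the injections of a coproduct of the family are monomorphisms
with pairwise pullbacks initial, and the colimit is stable under base change. (The source asks for
the coproduct decomposition after sheafification for some topology coarser than the canonical one;
this is equivalent to asking it for the canonical topology itself.) -/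
theorem result
    {C : Type u} [SmallCategory C] {X : C} {ι : Type u} (Y : ι → C) (s : ∀ i, Y i ⟶ X)
    [∀ (i : ι) (Z : C) (g : Z ⟶ X), HasPullback (s i) g] :
    Nonempty (IsColimit (Cofan.mk
        ((presheafToSheaf (Sheaf.canonicalTopology C) (Type u)).obj (yoneda.obj X))
        (fun i => (presheafToSheaf (Sheaf.canonicalTopology C) (Type u)).map (yoneda.map (s i))))) ↔
      (Nonempty (IsColimit (Cofan.mk X s)) ∧ CoproductDisjoint Y ∧
        IsUniversalColimit (Cofan.mk X s)) := by
  let J := Sheaf.canonicalTopology C
  let L := presheafToSheaf J (Type u)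
  let G : C ⥤ Sheaf J (Type u) := yoneda ⋙ L
  let e : J.yoneda ≅ G := (Functor.rightUnitor _).symm ≪≫
    Functor.isoWhiskerLeft J.yoneda (asIso (sheafificationAdjunction J (Type u)).counit).symm
  haveI : G.Full := Functor.Full.of_iso e
  haveI : G.Faithful := Functor.Faithful.of_iso e
  haveI : PreservesLimitsOfShape WalkingCospan G := inferInstanceAs
    (PreservesLimitsOfShape WalkingCospan (yoneda ⋙ L))
  haveI hpb : ∀ i j, HasPullback (s i) (s j) := fun i j => inferInstance
  constructor
  · intro hL
    obtain ⟨hd1, hd2, hd3⟩ := (S12108.result J Y s).2 hL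
    obtain ⟨hL⟩ := hL
    have hG : IsColimit (G.mapCocone (Cofan.mk X s)) := (isColimitMapCoconeCofanMkEquiv G Y s).symm hL
    have hdisj := CoprodVK.coproductDisjoint (J := J) (fun i => G.obj (Y i))
    haveI : ∀ i, Mono ((Cofan.mk X s).inj i) := fun i => by
      haveI : Mono (G.map (s i)) := hdisj.mono_inj hL i
      exact G.mono_of_mono_map (f := s i) inferInstance
    refine ⟨⟨isColimitOfReflects G hG⟩, CoproductDisjoint.of_cofan (isColimitOfReflects G hG)
      (fun {i j} _ => PullbackCone.mk (pullback.fst (s i) (s j)) (pullback.snd (s i) (s j)) pullback.condition)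
      (fun {i j} _ => (IsPullback.of_hasPullback (s i) (s j)).isLimit) (fun {i j} hij => ?_), ?_⟩
    · have hI := (hdisj.nonempty_isInitial_of_ne hL hij
        (PullbackCone.mk (G.map (pullback.fst (s i) (s j))) (G.map (pullback.snd (s i) (s j)))
          ((IsPullback.of_hasPullback (s i) (s j)).map G).w)
        ((IsPullback.of_hasPullback (s i) (s j)).map G).isLimit).some
      exact IsInitial.isInitialOfObj G _ hI
    · intro F' c' α f h hα hp
      obtain ⟨h'⟩ := (CoprodVK.sheaf _ hG).isUniversal (G.mapCocone c') (Functor.whiskerRight α G) (G.map f)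
        (NatTrans.ext (funext fun j => by
          have := congrArg G.map (NatTrans.congr_app h j)
          simpa [← Functor.map_comp] using this))
        (hα.whiskerRight G) (fun j => (hp j).map G)
      exact ⟨isColimitOfReflects G h'⟩
  · rintro ⟨⟨hc⟩, hd, hu⟩
    have hbase : ∀ {W : C} (f : W ⟶ X),
        Nonempty (IsColimit (Cofan.mk W fun i => pullback.snd (s i) f)) := fun f =>
      hu (Cofan.mk _ fun i => pullback.snd (s i) f) (Discrete.natTrans fun i => pullback.fst (s i.as) f) f
        (NatTrans.ext (funext fun i => by simpa using pullback.condition))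
        (NatTrans.Equifibered.of_discrete _) (fun i => (IsPullback.of_hasPullback _ _).flip)
    haveI : ∀ i, Mono (s i) := fun i => hd.mono_inj hc i
    have hS : Sieve.ofArrows Y s ∈ J X := by
      refine Sheaf.mem_finestTopology_of_forall_isSheafFor ?_
      rintro _ ⟨Z, rfl⟩ W f
      have e : (Sieve.ofArrows Y s).pullback f = Sieve.ofArrows _ (fun i => pullback.snd (s i) f) := by
        ext V g
        simp only [Sieve.pullback_apply, Sieve.mem_ofArrows_iff]
        constructor
        · rintro ⟨i, a, ha⟩
          exact ⟨i, pullback.lift a g ha.symm, (pullback.lift_snd _ _ _).symm⟩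
        · rintro ⟨i, a, rfl⟩
          exact ⟨i, a ≫ pullback.fst (s i) f, by simp [pullback.condition]⟩
      rw [e, Sieve.ofArrows, ← Presieve.isSheafFor_iff_generate, Presieve.isSheafFor_arrows_iff]
      intro x _
      obtain ⟨hW⟩ := hbase f
      exact ⟨Cofan.IsColimit.desc hW x, fun i => Cofan.IsColimit.fac hW x i,
        fun t ht => Cofan.IsColimit.hom_ext hW _ _ fun i =>
          (ht i).trans (Cofan.IsColimit.fac hW x i).symm⟩
    refine (S12108.result J Y s).1 ⟨hS, fun i => ?_, fun i j hij => ?_⟩
    · infer_instance
    · obtain ⟨hP⟩ := hd.nonempty_isInitial_of_ne hc hij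
        (PullbackCone.mk (pullback.fst (s i) (s j)) (pullback.snd (s i) (s j)) pullback.condition)
        (IsPullback.of_hasPullback (s i) (s j)).isLimit
      have hempty : (⊥ : Sieve (pullback (s i) (s j))) ∈ J _ := by
        refine Sheaf.mem_finestTopology_of_forall_isSheafFor ?_
        rintro _ ⟨Z, rfl⟩ W g
        intro x _
        refine ⟨g ≫ hP.to Z, fun V a ha => ha.elim, fun (t : W ⟶ Z) _ => ?_⟩
        classical
        obtain ⟨hW⟩ := hbase (g ≫ pullback.fst (s i) (s j) ≫ s i)
        let t' : W ⟶ Z := g ≫ hP.to Z
        have hi : IsIso (pullback.snd (s i) (g ≫ pullback.fst (s i) (s j) ≫ s i)) := by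
          haveI : IsSplitEpi (pullback.snd (s i) (g ≫ pullback.fst (s i) (s j) ≫ s i)) :=
            IsSplitEpi.mk' ⟨pullback.lift (g ≫ pullback.fst (s i) (s j)) (𝟙 W) (by simp), by simp⟩
          exact isIso_of_mono_of_isSplitEpi _
        have hj : IsIso (pullback.snd (s j) (g ≫ pullback.fst (s i) (s j) ≫ s i)) := by
          haveI : IsSplitEpi (pullback.snd (s j) (g ≫ pullback.fst (s i) (s j) ≫ s i)) :=
            IsSplitEpi.mk' ⟨pullback.lift (g ≫ pullback.snd (s i) (s j)) (𝟙 W)
              (by simp [pullback.condition]), by simp⟩
          exact isIso_of_mono_of_isSplitEpi _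
        let d := Cofan.IsColimit.desc hW fun k =>
          if k = i then pullback.snd (s k) (g ≫ pullback.fst (s i) (s j) ≫ s i) ≫ t
          else pullback.snd (s k) (g ≫ pullback.fst (s i) (s j) ≫ s i) ≫ t'
        have h₁ : d = t := by
          rw [← cancel_epi (pullback.snd (s i) (g ≫ pullback.fst (s i) (s j) ≫ s i))]
          exact (Cofan.IsColimit.fac hW _ i).trans (if_pos rfl)
        have h₂ : d = t' := by
          rw [← cancel_epi (pullback.snd (s j) (g ≫ pullback.fst (s i) (s j) ≫ s i))]
          exact (Cofan.IsColimit.fac hW _ j).trans (if_neg hij.symm)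
        exact h₁.symm.trans h₂
      refine ⟨IsInitial.ofIso (IsInitial.ofUniqueHom
        (fun F => (sheafifyYonedaHomEquiv J (pullback (s i) (s j)) F).symm
          (((isSheaf_iff_isSheaf_of_type _ _).1 F.property _ hempty).amalgamate
            (fun _ _ h => h.elim) (fun _ _ _ _ _ _ _ h => h.elim)))
        (fun F m => ?_)) (L.mapIso (PreservesPullback.iso yoneda (s i) (s j)))⟩
      apply (sheafifyYonedaHomEquiv J _ F).injective
      exact ((isSheaf_iff_isSheaf_of_type _ _).1 F.property _ hempty).isSeparatedFor.ext
        fun _ _ h => h.elim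

end Groth.Agent.S6143
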