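import Groth.Statements.S6144
import Mathlib.CategoryTheory.Limits.Shapes.Diagonal
import Mathlib.Logic.Small.Set

set_option linter.style.haveILetI false

set_option autoImplicit false
open CategoryTheory CategoryTheory.Limits
universe w v u
open SGA4

namespace Groth.Agent.S6144

/-- Let `E` be a category with `v`-small hom-sets and pullbacks, admitting a detecting family of objects
indexed by a `v`-small type (maps out of the family jointly reflect isomorphisms). Then every
detecting family `Y : I → E`, indexed by an arbitrary type, contains a detecting subfamily indexed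
by a `v`-small subset of `I`. -/
theorem result
    {E : Type u} [Category.{v} E] [HasPullbacks E] {κ : Type v} (G : κ → E)
    (hG : (ObjectProperty.ofObj G).IsDetecting) {I : Type w} (Y : I → E)
    (hY : (ObjectProperty.ofObj Y).IsDetecting) :
    ∃ J : Set I, Small.{v} J ∧ (ObjectProperty.ofObj (fun j : J => Y j)).IsDetecting := by
  haveI : WellPowered.{v} E := wellPowered_of_isDetecting hG
  have key : ∀ (k : κ) (P : {P : Subobject (G k) // P ≠ ⊤}),
      ∃ (j : I) (g : Y j ⟶ G k), ¬ ∃ g', g' ≫ P.1.arrow = g := by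
    intro k P
    by_contra hc
    push_neg at hc
    haveI : IsIso P.1.arrow := by
      apply hY
      rintro T ⟨j⟩ g
      obtain ⟨g', hg'⟩ := hc j g
      exact ⟨g', hg', fun g'' hg'' => by rw [← cancel_mono P.1.arrow, hg', hg'']⟩
    exact P.2 (Subobject.eq_top_of_isIso_arrow _)
  choose j g hg using key
  refine ⟨Set.range (fun p : Σ k, {P : Subobject (G k) // P ≠ ⊤} => j p.1 p.2), inferInstance, ?_⟩
  have mono_case : ∀ {A B : E} (m : A ⟶ B) [Mono m],
      (∀ jj ∈ Set.range (fun p : Σ k, {P : Subobject (G k) // P ≠ ⊤} => j p.1 p.2),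
        ∀ h : Y jj ⟶ B, ∃ h', h' ≫ m = h) → IsIso m := by
    intro A B m _ hm
    apply hG
    rintro T ⟨k⟩ t
    suffices ∃ t', t' ≫ m = t by
      obtain ⟨t', ht'⟩ := this
      exact ⟨t', ht', fun t'' ht'' => by rw [← cancel_mono m, ht', ht'']⟩
    let P : Subobject (G k) := Subobject.mk (pullback.fst t m)
    by_cases hP : P = ⊤
    · haveI : IsIso (pullback.fst t m) := (Subobject.isIso_iff_mk_eq_top _).2 hP
      exact ⟨inv (pullback.fst t m) ≫ pullback.snd t m, by simp [← pullback.condition]⟩
    · exfalso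
      apply hg k ⟨P, hP⟩
      obtain ⟨h', hh'⟩ := hm _ ⟨⟨k, ⟨P, hP⟩⟩, rfl⟩ (g k ⟨P, hP⟩ ≫ t)
      exact ⟨pullback.lift (g k ⟨P, hP⟩) h' hh'.symm ≫ (Subobject.underlyingIso _).inv, by simp [P, pullback.lift_fst]⟩
  intro A B f hf
  haveI : IsIso (pullback.diagonal f) := by
    apply mono_case
    intro jj hjj h
    refine ⟨h ≫ pullback.fst f f, ?_⟩
    have hu := hf (Y jj) (ObjectProperty.ofObj_apply (fun j : Set.range (fun p : Σ k, {P : Subobject (G k) // P ≠ ⊤} => j p.1 p.2) => Y j) ⟨jj, hjj⟩) (h ≫ pullback.fst f f ≫ f)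
    have e : h ≫ pullback.fst f f = h ≫ pullback.snd f f :=
      hu.unique (by simp) (by simp [pullback.condition])
    apply pullback.hom_ext <;> simp [e]
  haveI : Mono f := (pullback.isIso_diagonal_iff f).1 inferInstance
  exact mono_case f fun jj hjj h => (hf (Y jj) (ObjectProperty.ofObj_apply (fun j : Set.range (fun p : Σ k, {P : Subobject (G k) // P ≠ ⊤} => j p.1 p.2) => Y j) ⟨jj, hjj⟩) h).exists

end Groth.Agent.S6144
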