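import Groth.Statements.S6145
import Groth.Agent.H15Site.PullFlat

set_option autoImplicit false
universe u
open CategoryTheory
open ModSite

namespace Groth.Agent.S6145

/-- For a morphism of ringed sites f : (C, O_C) -> (D, O_D) between small sites with commutative
structure sheaves: if M is a flat O_D-module then its inverse image f^* M is a flat O_C-module (flat
= tensoring with it is exact on modules). -/
theorem result {C D : Type u} [SmallCategory C] [SmallCategory D] {J : GrothendieckTopology C}
    {K : GrothendieckTopology D} {O_C : Sheaf J CommRingCat.{u}} {O_D : Sheaf K CommRingCat.{u}}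
    (f : ModSite.RMor O_C O_D) (M : ModSite.Mod O_D) (hM : ModSite.IsFlat M) :
    ModSite.IsFlat (f.pull.obj M) := by
  exact Groth.Agent.H15Site.PullTensor.isFlat_pull f M hM

end Groth.Agent.S6145
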