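import Groth.Statements.S6149
import Groth.Agent.H15Site.ModKFlat
import Groth.Prelude.Def_KFlatSite
import Mathlib.CategoryTheory.Abelian.Images

open CategoryTheory CategoryTheory.Limits Opposite Groth.Agent.H15Site Groth.Agent.H15Site.ModTensor
open Groth.Agent.H16Derived


attribute [local instance 10000] SiteInst.hasSheafifySite SiteInst.hasWeakSheafifySite

set_option linter.style.haveILetI false
open CategoryTheory CategoryTheory.Limits Opposite

set_option autoImplicit false
universe u
open CategoryTheory
open ModSite

namespace Groth.Agent.S6149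

open CategoryTheory.Limits in
open CategoryTheory.Limits in
/-- Ringed topos of sheaves on a small site with commutative structure sheaf O: let M be an acyclic
chain complex of flat O-modules with M_i = 0 for i below some bound. Then for every O-module F the
complex M (x)_O F (tensoring termwise with F) is acyclic. The instance binder on the tensor functor
(it preserves zero morphisms) always holds and is only needed to form the complex. -/
theorem result {C : Type u} [SmallCategory C] {J : GrothendieckTopology C}
    (O : Sheaf J CommRingCat.{u}) (M : ChainComplex (ModSite.Mod O) ℤ) (F : ModSite.Mod O)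
    [((ModSite.tensorBi O).flip.obj F).PreservesZeroMorphisms]
    (hb : ∃ i₀ : ℤ, ∀ i, i < i₀ → IsZero (M.X i)) (hM : ∀ i, ModSite.IsFlat (M.X i)) (hac : M.Acyclic) :
    ((((ModSite.tensorBi O).flip.obj F).mapHomologicalComplex (ComplexShape.down ℤ)).obj M).Acyclic := by
  have := ModKFlat.countableAB4 (O := O)
  have := ModKFlat.hasExactColimitsOfShape_nat (O := O)
  obtain ⟨i₀, hi₀⟩ := hb
  let K : CochainComplex (ModSite.Mod O) ℤ :=
    { X := fun n => M.X (-n)
      d := fun i j => M.d (-i) (-j)
      shape := fun i j h => M.shape _ _ (fun h' => h (by simp at h' ⊢; omega))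
      d_comp_d' := fun i j k _ _ => M.d_comp_d _ _ _ }
  have hK : KFlat.IsKFlat (ModSite.tensorBi O) K :=
    KFlat.isKFlat_of_boundedAbove K (-i₀) (fun q hq => hi₀ _ (by omega))
      (fun q => (ModKFlat.isFlatObj_iff _).2 (hM _))
  have hKac : K.Acyclic := fun i => by
    rw [HomologicalComplex.exactAt_iff' _ (i - 1) i (i + 1) (by simp) (by simp)]
    exact (HomologicalComplex.exactAt_iff' M (-(i - 1)) (-i) (-(i + 1)) (by simp; omega)
      (by simp; omega)).1 (hac (-i))
  intro i
  obtain ⟨j, rfl⟩ : ∃ j, i = -j := ⟨-i, (neg_neg i).symm⟩
  rw [HomologicalComplex.exactAt_iff' _ (-(j - 1)) (-j) (-(j + 1)) (by simp; omega)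
    (by simp; omega)]
  have h := (HomologicalComplex.exactAt_iff' _ (j - 1) j (j + 1) (by simp) (by simp)).1
    (ModKFlat.acyclic_tL_map_of_isKFlat F hK hKac j)
  refine ShortComplex.exact_of_iso ?_ h
  exact ShortComplex.isoMk ((tLIso F).app _) ((tLIso F).app _) ((tLIso F).app _)
    ((tLIso F).hom.naturality _).symm ((tLIso F).hom.naturality _).symm

end Groth.Agent.S6149
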