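import Groth.Statements.S6152
import Groth.Agent.H15Site.FreeOn

open CategoryTheory CategoryTheory.Limits Opposite Groth.Agent.H15Site Groth.Agent.H15Site.ModTensor Groth.Agent.H15Site.ModOver

attribute [local instance 10000] SiteInst.hasSheafifySite SiteInst.hasWeakSheafifySite

set_option linter.style.haveILetI false
open CategoryTheory CategoryTheory.Limits Opposite

set_option autoImplicit false
universe u
open CategoryTheory
open ModSite

namespace Groth.Agent.S6152

/-- Second assertion (ringed topos of sheaves on a small site (C, J) with commutative structure sheaf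
O): if G is a topologically generating family of objects (every object of C admits a covering family
by members of G), then the free O-modules A_X = j_{X!}(O|X), X in G, form a generating family of the
category of O-modules; stated as: this family detects isomorphisms and is separating. -/
theorem result {C : Type u} [SmallCategory C] {J : GrothendieckTopology C}
    (O : Sheaf J CommRingCat.{u}) (G : Set C)
    (hG : ∀ X : C, ∃ (ι : Type u) (Y : ι → C) (f : ∀ i, Y i ⟶ X), Sieve.ofArrows Y f ∈ J X ∧ ∀ i, Y i ∈ G) :
    (ObjectProperty.ofObj fun X : G => ModSite.freeOn O (X : C)).IsDetecting ∧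
    (ObjectProperty.ofObj fun X : G => ModSite.freeOn O (X : C)).IsSeparating := by
  have h : (ObjectProperty.ofObj fun X : G => ModSite.freeOn O (X : C)).IsSeparating := by
    intro F F' a b hab
    apply SheafOfModules.hom_ext
    refine PresheafOfModules.hom_ext fun X => ModuleCat.hom_ext (LinearMap.ext fun s => ?_)
    obtain ⟨ι, Y, g, hcov, hY⟩ := hG X.unop
    refine separated_forg F' _ hcov _ _ fun Z k hk => ?_
    obtain ⟨W, p, q, hq, rfl⟩ := hk
    cases hq with | mk i => ?_
    have key : ∀ t : ModSite.sect F (Y i), (a.val.app (op (Y i))).hom t = (b.val.app (op (Y i))).hom t := fun t => by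
      have := hab _ (ObjectProperty.ofObj_apply _ ⟨Y i, hY i⟩) ((FreeOn.homEquiv O (Y i) F).symm t)
      have := congrArg (FreeOn.homEquiv O (Y i) F') this
      rwa [FreeOn.homEquiv_comp, FreeOn.homEquiv_comp, AddEquiv.apply_symm_apply] at this
    refine (rs_rs ((forg O).obj F') (g i).op p.op _).symm.trans
      ((congrArg (rs ((forg O).obj F') p.op) ?_).trans (rs_rs ((forg O).obj F') (g i).op p.op _))
    exact (rs_app ((forg O).map a) (g i).op s).symm.trans
      ((key _).trans (rs_app ((forg O).map b) (g i).op s))
  exact ⟨h.isDetecting, h⟩

end Groth.Agent.S6152
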