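import Groth.Statements.S6153
import Groth.Agent.H15Site.FreeOn

open CategoryTheory CategoryTheory.Limits Opposite Groth.Agent.H15Site Groth.Agent.H15Site.ModTensor Groth.Agent.H15Site.ModOver

attribute [local instance 10000] SiteInst.hasSheafifySite SiteInst.hasWeakSheafifySite

set_option linter.style.haveILetI false
open CategoryTheory CategoryTheory.Limits Opposite

set_option autoImplicit false
universe u
open CategoryTheory
open ModSite

namespace Groth.Agent.S6153

/-- Morphisms of ringed sites between small sites with commutative structure sheaves: for a morphism of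
ringed sites f : (C, O_C) -> (D, O_D) given by a functor u : D -> C and every object X of D, the
inverse image f^*(A'_X) of the free O_D-module on X is isomorphic to the free O_C-module A_{u(X)} on
u(X). Existence of an isomorphism of modules only (the source's isomorphism is the canonical one). -/
theorem result {C D : Type u} [SmallCategory C] [SmallCategory D] {J : GrothendieckTopology C}
    {K : GrothendieckTopology D} {O_C : Sheaf J CommRingCat.{u}} {O_D : Sheaf K CommRingCat.{u}}
    (f : ModSite.RMor O_C O_D) (X : D) :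
    Nonempty (f.pull.obj (ModSite.freeOn O_D X) ≅ ModSite.freeOn O_C (f.fn.obj X)) := by
  let p : ∀ {Z : ModSite.Mod O_C}, (f.pull.obj (ModSite.freeOn O_D X) ⟶ Z) →
      (ModSite.freeOn O_C (f.fn.obj X) ⟶ Z) := fun {Z} t =>
    (FreeOn.homEquiv O_C (f.fn.obj X) Z).symm
      (FreeOn.homEquiv O_D X (f.push.obj Z) (f.adj.homEquiv _ Z t))
  let q : ∀ {Z : ModSite.Mod O_C}, (ModSite.freeOn O_C (f.fn.obj X) ⟶ Z) →
      (f.pull.obj (ModSite.freeOn O_D X) ⟶ Z) := fun {Z} s =>
    (f.adj.homEquiv _ Z).symm ((FreeOn.homEquiv O_D X (f.push.obj Z)).symm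
      (FreeOn.homEquiv O_C (f.fn.obj X) Z s))
  refine ⟨Coyoneda.ext _ _ p q (fun {Z} t => ?_) (fun {Z} s => ?_) (fun {Z Z'} g t => ?_)⟩
  · simp only [p, q]
    exact (congrArg (fun r => (f.adj.homEquiv _ Z).symm ((FreeOn.homEquiv O_D X (f.push.obj Z)).symm r))
      ((FreeOn.homEquiv O_C (f.fn.obj X) Z).apply_symm_apply _)).trans (by simp)
  · simp only [p, q, Equiv.apply_symm_apply]
    exact (congrArg (FreeOn.homEquiv O_C (f.fn.obj X) Z).symm
      ((FreeOn.homEquiv O_D X (f.push.obj Z)).apply_symm_apply _)).trans
      ((FreeOn.homEquiv O_C (f.fn.obj X) Z).symm_apply_apply _)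
  · apply (f.adj.homEquiv _ Z').injective
    simp only [q, Adjunction.homEquiv_naturality_right, Equiv.apply_symm_apply]
    apply (FreeOn.homEquiv O_D X (f.push.obj Z')).injective
    refine ((FreeOn.homEquiv O_D X (f.push.obj Z')).apply_symm_apply _).trans ?_
    refine Eq.trans ?_ (FreeOn.homEquiv_comp O_D X _ _).symm
    refine (FreeOn.homEquiv_comp O_C (f.fn.obj X) _ _).trans ?_
    exact congrArg (t.val.app (op (f.fn.obj X))).hom
      ((FreeOn.homEquiv O_D X (f.push.obj Z)).apply_symm_apply _).symm

end Groth.Agent.S6153
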