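import Groth.Statements.S9082
import Groth.Agent.H15Site.ModFlat

open CategoryTheory CategoryTheory.Limits Opposite MonoidalCategory Groth.Agent.H15Site Groth.Agent.H15Site.ModTensor

attribute [local instance 10000] SiteInst.hasSheafifySite SiteInst.hasWeakSheafifySite

set_option linter.style.haveILetI false
open CategoryTheory CategoryTheory.Limits Opposite

set_option autoImplicit false
universe u
open CategoryTheory
open ModSite

namespace Groth.Agent.S9082

/-- Part (1): for sheaves of modules, on a small ringed site (C, O) with O commutative: if 0 → F₂ → F₁ →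
F₀ → 0 is a short exact sequence of O-modules in which F₂ and F₀ are flat (tensoring with them is
exact), then the middle term F₁ is flat. -/
theorem result {C : Type u} [SmallCategory C] {J : GrothendieckTopology C}
    (O : Sheaf J CommRingCat.{u}) (S : ShortComplex (ModSite.Mod O)) (hS : S.ShortExact)
    (h₂ : ModSite.IsFlat S.X₁) (h₀ : ModSite.IsFlat S.X₃) : ModSite.IsFlat S.X₂ := by
  have hl := fun G : ModSite.Mod O => preservesColimits_tL G
  have hfc := fun G : ModSite.Mod O =>
    PreservesColimitsOfSize.preservesFiniteColimits ((ModSite.tensorBi O).obj G)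
  have hadd := fun G : ModSite.Mod O => additive_of_preservesFiniteColimits ((ModSite.tensorBi O).obj G)
  rw [isFlat_iff] at h₂ h₀ ⊢
  refine ⟨fun {A B} f _ => Preadditive.mono_of_cancel_zero _ fun {W} t ht => ?_⟩
  have hA := shortExact_tL_map_of_flat hS ((isFlat_iff _).2 h₀) A
  have hB := shortExact_tL_map_of_flat hS ((isFlat_iff _).2 h₀) B
  let τ := (ModSite.tensorBi O).map f
  have : Mono (τ.app S.X₁) := h₂.preserves f
  have : Mono (τ.app S.X₃) := h₀.preserves f
  have : Mono (((ModSite.tensorBi O).obj B).map S.f) := hB.mono_f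
  have hg : t ≫ ((ModSite.tensorBi O).obj A).map S.g = 0 := by
    rw [← cancel_mono (τ.app S.X₃), zero_comp, Category.assoc, τ.naturality S.g]
    change (t ≫ τ.app S.X₂) = 0 at ht
    rw [reassoc_of% ht, zero_comp]
  obtain ⟨W', π, _, v', hv'⟩ := hA.exact.exact_up_to_refinements _ hg
  obtain ⟨v, hv⟩ : ∃ v : W' ⟶ ((ModSite.tensorBi O).obj A).obj S.X₁,
      π ≫ t = v ≫ ((ModSite.tensorBi O).obj A).map S.f := ⟨v', hv'⟩
  have hv0 : v = 0 := by
    rw [← cancel_mono (τ.app S.X₁), ← cancel_mono (((ModSite.tensorBi O).obj B).map S.f),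
      zero_comp, zero_comp, Category.assoc, ← τ.naturality S.f, ← reassoc_of% hv]
    change (t ≫ τ.app S.X₂) = 0 at ht
    rw [ht, comp_zero]
  rw [← cancel_epi π, hv, hv0, zero_comp, comp_zero]

end Groth.Agent.S9082
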