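import Groth.Statements.S9083
import Groth.Agent.H15Site.ModFlat

open CategoryTheory CategoryTheory.Limits Opposite MonoidalCategory Groth.Agent.H15Site Groth.Agent.H15Site.ModTensor

attribute [local instance 10000] SiteInst.hasSheafifySite SiteInst.hasWeakSheafifySite

set_option linter.style.haveILetI false
open CategoryTheory CategoryTheory.Limits Opposite

set_option autoImplicit false
universe u
open CategoryTheory
open ModSite

namespace Groth.Agent.S9083

/-- Part (2): for sheaves of modules, on a small ringed site (C, O) with O commutative: if 0 → F₂ → F₁ →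
F₀ → 0 is a short exact sequence of O-modules in which F₁ and F₀ are flat (tensoring with them is
exact), then the left-hand term F₂ is flat. -/
theorem result {C : Type u} [SmallCategory C] {J : GrothendieckTopology C}
    (O : Sheaf J CommRingCat.{u}) (S : ShortComplex (ModSite.Mod O)) (hS : S.ShortExact)
    (h₁ : ModSite.IsFlat S.X₂) (h₀ : ModSite.IsFlat S.X₃) : ModSite.IsFlat S.X₁ := by
  have hl := fun G : ModSite.Mod O => preservesColimits_tL G
  have hfc := fun G : ModSite.Mod O =>
    PreservesColimitsOfSize.preservesFiniteColimits ((ModSite.tensorBi O).obj G)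
  have hadd := fun G : ModSite.Mod O => additive_of_preservesFiniteColimits ((ModSite.tensorBi O).obj G)
  rw [isFlat_iff] at h₁ ⊢
  refine ⟨fun {A B} f _ => ?_⟩
  let τ := (ModSite.tensorBi O).map f
  have : Mono (((ModSite.tensorBi O).obj A).map S.f) := (shortExact_tL_map_of_flat hS h₀ A).mono_f
  have : Mono (τ.app S.X₂) := h₁.preserves f
  have : Mono (τ.app S.X₁ ≫ ((ModSite.tensorBi O).obj B).map S.f) := by
    rw [← τ.naturality S.f]
    infer_instance
  exact mono_of_mono (τ.app S.X₁) (((ModSite.tensorBi O).obj B).map S.f)

end Groth.Agent.S9083
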