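import Groth.Statements.S9084
import Groth.Agent.H15Site.ModFlat

open CategoryTheory CategoryTheory.Limits Opposite MonoidalCategory Groth.Agent.H15Site Groth.Agent.H15Site.ModTensor

attribute [local instance 10000] SiteInst.hasSheafifySite SiteInst.hasWeakSheafifySite

set_option linter.style.haveILetI false
open CategoryTheory CategoryTheory.Limits Opposite

set_option autoImplicit false
universe u
open CategoryTheory
open ModSite

namespace Groth.Agent.S9084

open CategoryTheory.Limits in
open CategoryTheory.Limits in
/-- Part (2): direct-sum clause, on a small ringed site (C, O) with O commutative: a direct sum of flat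
O-modules is flat. Stated for any colimiting cofan of a family of O-modules indexed by a small type;
flat means that tensoring with the module is exact. -/
theorem result {C : Type u} [SmallCategory C] {J : GrothendieckTopology C}
    (O : Sheaf J CommRingCat.{u}) {ι : Type u} (F : ι → ModSite.Mod O)
    (hF : ∀ i, ModSite.IsFlat (F i)) (c : Cofan F) (hc : IsColimit c) : ModSite.IsFlat c.pt := by
  have := Groth.Agent.H10Coh.isGrothendieckAbelian_sheafOfModules (ModSite.ringSh O)
  have : HasFiniteBiproducts (ModSite.Mod O) := Abelian.hasFiniteBiproducts
  have : AB4OfSize.{u} (ModSite.Mod O) := AB4.of_AB5 (ModSite.Mod O)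
  have hx : HasExactColimitsOfShape (Discrete ι) (ModSite.Mod O) := AB4OfSize.ofShape ι
  exact @isFlat_of_isColimit _ _ _ O (Discrete ι) _ hx (Discrete.functor F) (fun k => hF k.as) c hc

end Groth.Agent.S9084
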