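import Groth.Statements.S6160
import Groth.Agent.H15Site.ModFlat
import Groth.Agent.H15Site.ModKFlat
import Groth.Agent.S9082
import Groth.Agent.S9083
import Groth.Agent.S9084

open CategoryTheory CategoryTheory.Limits Opposite MonoidalCategory Groth.Agent.H15Site Groth.Agent.H15Site.ModTensor TopologicalSpace


attribute [local instance 10000] SiteInst.hasSheafifySite SiteInst.hasWeakSheafifySite

set_option linter.style.haveILetI false
open CategoryTheory CategoryTheory.Limits Opposite

set_option autoImplicit false
universe u
open CategoryTheory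
open ModSite

namespace Groth.Agent.S6160

open CategoryTheory.Limits in
open CategoryTheory.Limits in
/-- Ringed topos of sheaves on a small site; u : A -> B a morphism of sheaves of rings: the
restriction-of-scalars functor from B-Modules to A-Modules commutes with all u-small limits and
colimits and is conservative. -/
theorem result {C : Type u} [SmallCategory C]
    {J : GrothendieckTopology C} {A B : Sheaf J RingCat.{u}} (φ : A ⟶ B) :
    PreservesLimitsOfSize.{u, u} (SheafOfModules.restrictScalars.{u} φ) ∧
    PreservesColimitsOfSize.{u, u} (SheafOfModules.restrictScalars.{u} φ) ∧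
    (SheafOfModules.restrictScalars.{u} φ).ReflectsIsomorphisms := by
  have e : SheafOfModules.restrictScalars.{u} φ ⋙ SheafOfModules.toSheaf.{u} A ≅
      SheafOfModules.toSheaf.{u} B := NatIso.ofComponents (fun M => Iso.refl _)
  have hB : ∀ (K : Type u) [SmallCategory K],
      PreservesColimitsOfShape K (SheafOfModules.toSheaf.{u} B) := fun K _ =>
    Groth.Agent.H10Coh.preservesColimitsOfShape_toSheaf B K
  have hA : ∀ (K : Type u) [SmallCategory K],
      PreservesColimitsOfShape K (SheafOfModules.toSheaf.{u} A) := fun K _ =>
    Groth.Agent.H10Coh.preservesColimitsOfShape_toSheaf A K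
  have hl : ∀ (R : Sheaf J RingCat.{u}), PreservesLimitsOfSize.{u, u} (SheafOfModules.toSheaf.{u} R) := fun R => by
    have : PreservesLimitsOfSize.{u, u} (SheafOfModules.toSheaf.{u} R ⋙ sheafToPresheaf J AddCommGrpCat.{u}) :=
      inferInstanceAs (PreservesLimitsOfSize.{u, u}
        (SheafOfModules.forget.{u} R ⋙ PresheafOfModules.toPresheaf _))
    exact preservesLimits_of_reflects_of_preserves _ (sheafToPresheaf J AddCommGrpCat.{u})
  refine ⟨⟨fun {K} _ => ?_⟩, ⟨fun {K} _ => ?_⟩, ?_⟩
  · have := hl A; have := hl B
    have : PreservesLimitsOfShape K (SheafOfModules.restrictScalars.{u} φ ⋙ SheafOfModules.toSheaf.{u} A) :=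
      preservesLimitsOfShape_of_natIso e.symm
    have : ReflectsLimitsOfShape K (SheafOfModules.toSheaf.{u} A) :=
      reflectsLimitsOfShape_of_reflectsIsomorphisms
    exact preservesLimitsOfShape_of_reflects_of_preserves _ (SheafOfModules.toSheaf.{u} A)
  · have := hA K; have := hB K
    have : PreservesColimitsOfShape K (SheafOfModules.restrictScalars.{u} φ ⋙ SheafOfModules.toSheaf.{u} A) :=
      preservesColimitsOfShape_of_natIso e.symm
    have : ReflectsColimitsOfShape K (SheafOfModules.toSheaf.{u} A) :=
      reflectsColimitsOfShape_of_reflectsIsomorphisms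
    exact preservesColimitsOfShape_of_reflects_of_preserves _ (SheafOfModules.toSheaf.{u} A)
  · have : (SheafOfModules.restrictScalars.{u} φ ⋙ SheafOfModules.toSheaf.{u} A).ReflectsIsomorphisms :=
      ⟨fun f _ => by
        have : IsIso ((SheafOfModules.toSheaf.{u} B).map f) :=
          (NatIso.isIso_map_iff e f).1 ‹_›
        exact isIso_of_reflects_iso f (SheafOfModules.toSheaf.{u} B)⟩
    exact reflectsIsomorphisms_of_comp _ (SheafOfModules.toSheaf.{u} A)

end Groth.Agent.S6160
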