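import Groth.Statements.S6166
import Groth.Agent.H15Site.LanExact
import Groth.Agent.H15Site.TotPush
import Groth.Agent.H15Site.HigherDirectSite

set_option autoImplicit false
universe u
open CategoryTheory
open CohSite

open Groth.Agent.H15Site Opposite

set_option linter.style.haveILetI false
set_option linter.unusedSectionVars false
set_option backward.isDefEq.respectTransparency false

namespace Groth.Agent.S6166

open CategoryTheory.Limits

attribute [local instance 10000] Groth.Agent.H15Site.SiteInst.hasSheafifySite
  Groth.Agent.H15Site.SiteInst.hasWeakSheafifySite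

theorem main {C D : Type u} [SmallCategory C] [SmallCategory D]
    (J : GrothendieckTopology C) (K : GrothendieckTopology D) (u : D ⥤ C) [u.IsContinuous K J]
    [PreservesFiniteLimits (u.sheafPullback (Type u) K J)] (q : ℕ) (F : Sheaf J AddCommGrpCat.{u})
    (hF : ∀ (U : C) (q : ℕ), Subsingleton (CohSite.HU F (q + 1) U)) (V : D) :
    Subsingleton (CohSite.HU ((CohSite.push J K u).obj F) (q + 1) V) := by
  induction q generalizing F with
  | zero | succ q ih =>
    have hS := Edge.injSeq_shortExact F
    haveI : PreservesFiniteLimits (u.sheafPullback AddCommGrpCat.{u} K J) :=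
      LanExact.preservesFiniteLimits (u := u) (J := J) (K := K)
    haveI : Injective ((CohSite.push J K u).obj (Edge.injSeq F).X₂) :=
      TotPush.injective_push u _
    haveI := HigherDirectSite.push_preservesFiniteLimits (J := J) (K := K) u
    have hsurj : ∀ U : C, Function.Surjective ((Edge.injSeq F).g.hom.app (op U)).hom := by
      intro U t
      obtain ⟨w, hw⟩ := Edge.exists_HUmap_g hS U 0 (CechEdge.sectH0 J U _ t)
        ((hF U 0).elim _ _)
      refine ⟨(CechEdge.sectH0 J U _).symm w, (CechEdge.sectH0 J U _).injective ?_⟩
      rw [← Edge.sectH0_natural, AddEquiv.apply_symm_apply]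
      exact hw
    have hS' : ((Edge.injSeq F).map (CohSite.push J K u)).ShortExact :=
      { exact := hS.exact.map_of_mono_of_preservesKernel (CohSite.push J K u) hS.mono_f inferInstance
        mono_f := by
          haveI := hS.mono_f
          exact inferInstanceAs (Mono ((CohSite.push J K u).map (Edge.injSeq F).f))
        epi_g := by
          haveI : ∀ X, Epi (((Edge.injSeq F).map (CohSite.push J K u)).g.hom.app X) := fun X =>
            (AddCommGrpCat.epi_iff_surjective _).2 (hsurj (u.obj X.unop))
          haveI : Epi ((Edge.injSeq F).map (CohSite.push J K u)).g.hom :=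
            NatTrans.epi_of_epi_app _
          exact (sheafToPresheaf K AddCommGrpCat.{u}).epi_of_epi_map
            (inferInstanceAs (Epi ((Edge.injSeq F).map (CohSite.push J K u)).g.hom)) }
    refine subsingleton_of_forall_eq 0 fun x => ?_
    obtain ⟨w, rfl⟩ := Edge.exists_extδ_eq hS' V _ x
      ((Edge.subsingleton_HU_of_injective ((CohSite.push J K u).obj (Edge.injSeq F).X₂) _ V).elim _ _)
    first
    | exact (by
        obtain ⟨t, rfl⟩ := (CechEdge.sectH0 K V _).surjective w
        obtain ⟨s, hs⟩ := hsurj (u.obj V) t
        have h := Edge.sectH0_natural ((Edge.injSeq F).map (CohSite.push J K u)).g V s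
        exact ((congrArg (CechEdge.extδ hS' V 0)
          (h.trans (congrArg (CechEdge.sectH0 K V _) hs)).symm)).trans
            (Edge.extδ_HUmap_g hS' V 0 _))
    | exact (by
        have hQ : ∀ (U : C) (k : ℕ), Subsingleton (CohSite.HU (Edge.injSeq F).X₃ (k + 1) U) :=
          fun U k => subsingleton_of_forall_eq 0 fun y => by
            obtain ⟨w', rfl⟩ := Edge.exists_HUmap_g hS U (k + 1) y ((hF U (k + 1)).elim _ _)
            rw [(Edge.subsingleton_HU_of_injective (Edge.injSeq F).X₂ k U).elim w' 0, map_zero]
        exact (congrArg _ ((ih (Edge.injSeq F).X₃ hQ).elim w 0)).trans (map_zero _))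

end Groth.Agent.S6166

namespace Groth.Agent.S6166

open CategoryTheory.Limits in
/-- Let u : D -> C be a continuous functor between small sites with exact pullback on sheaves of sets (a
morphism of topoi), and take the topologically generating families to be all objects of C, resp. of
D, so that the inverse image of the second lies in the first. For an abelian sheaf F on C: if H^q(U,
F) = 0 for all objects U of C and all q > 0, then H^q(V, u_* F) = 0 for all objects V of D and all q
> 0, where u_* F = F o u. -/
theorem result {C D : Type u} [SmallCategory C] [SmallCategory D]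
    (J : GrothendieckTopology C) (K : GrothendieckTopology D) (u : D ⥤ C) [u.IsContinuous K J]
    [PreservesFiniteLimits (u.sheafPullback (Type u) K J)] (F : Sheaf J AddCommGrpCat.{u})
    (hF : ∀ (U : C) (q : ℕ), Subsingleton (CohSite.HU F (q + 1) U)) (V : D) (q : ℕ) :
    Subsingleton (CohSite.HU ((CohSite.push J K u).obj F) (q + 1) V) := by
  exact main J K u q F hF V

end Groth.Agent.S6166
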