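import Groth.Statements.S6167
import Groth.Agent.H15Site.LocFP

set_option autoImplicit false
universe u
open CategoryTheory
open ModSite

set_option linter.style.haveILetI false
set_option backward.isDefEq.respectTransparency false
attribute [local instance 10000] Groth.Agent.H15Site.SiteInst.hasSheafifySite Groth.Agent.H15Site.SiteInst.hasWeakSheafifySite
open CategoryTheory CategoryTheory.Limits Opposite
open Groth.Agent.H15Site Groth.Agent.H15Site.ModTensor Groth.Agent.H15Site.ModRel Groth.Agent.H15Site.LocGen Groth.Agent.H15Site.LocFP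

namespace Groth.Agent.S6167

/-- Ringed site (C, O), small, with commutative structure sheaf: a morphism from an O-module of finite
presentation (Mathlib's notion: over some family of objects covering every object, a cokernel of a
map of finite free modules) to a flat O-module factors, locally on the site, through a finite free
module: for every object X there is a covering family (Y_i -> X) and for each i a factorisation
F|Y_i -> (O|Y_i)^n -> H|Y_i of the restricted morphism. -/
theorem result {C : Type u} [SmallCategory C] {J : GrothendieckTopology C}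
    (O : Sheaf J CommRingCat.{u}) (F H : ModSite.Mod O) [F.IsFinitePresentation] (hH : ModSite.IsFlat H)
    (φ : F ⟶ H) (X : C) :
    ∃ (ι : Type u) (Y : ι → C) (g : ∀ i, Y i ⟶ X), Sieve.ofArrows Y g ∈ J X ∧
      ∀ i, ∃ (n : ℕ) (a : (ModSite.restr O (Y i)).obj F ⟶ SheafOfModules.free (ULift.{u} (Fin n)))
        (b : SheafOfModules.free (ULift.{u} (Fin n)) ⟶ (ModSite.restr O (Y i)).obj H),
        a ≫ b = (ModSite.restr O (Y i)).map φ := by
  classical
  obtain ⟨ι, U, hU, hpres⟩ := LocFP.exists_pres F
  have hLT := (ModRel.isFlat_iff_locTriv H).1 hH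
  let P : Presieve X := fun Y g => ∃ (n : ℕ)
    (a : (ModSite.restr O Y).obj F ⟶ SheafOfModules.free (ULift.{u} (Fin n)))
    (b : SheafOfModules.free (ULift.{u} (Fin n)) ⟶ (ModSite.restr O Y).obj H),
      a ≫ b = (ModSite.restr O Y).map φ
  have key : ∀ ⦃Y : C⦄ (g : Y ⟶ X), (Sieve.ofObjects U X) g →
      ∃ T ∈ J Y, ∀ ⦃V : C⦄ (h : V ⟶ Y), T h → P (h ≫ g) := by
    rintro Y g ⟨i, ⟨f⟩⟩
    obtain ⟨I, K, _, _, s₀, r₀, hs₀, hr₀⟩ := hpres i
    let s : I → ((forg O).obj F).obj (op Y) := fun j => rs ((forg O).obj F) f.op (s₀ j)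
    let r : K → I → O.obj.obj (op Y) := fun k j => rr O f.op (r₀ k j)
    have hs : Gen s := hs₀.restrict f
    have hr : Rel s r := hr₀.restrict f
    let en := (Fintype.equivFin I).symm
    let ek := (Fintype.equivFin K).symm
    obtain ⟨T, hT, hT'⟩ := hLT.multi (ι := Fin (Fintype.card K)) Y (Fintype.card I)
      (fun k j => r (ek k) (en j)) (fun j => (φ.val.app (op Y)).hom (s (en j))) (fun k => by
        refine (en.sum_comp (fun j => r (ek k) j •
          ((φ.val.app (op Y)).hom (s j) : ((forg O).obj H).obj (op Y)))).trans ?_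
        have h0 := congrArg (φ.val.app (op Y)).hom (hr.zero (ek k))
        rw [map_sum, map_zero] at h0
        exact (Finset.sum_congr rfl fun j _ => ((φ.val.app (op Y)).hom.map_smul _ _).symm).trans h0)
    refine ⟨T, hT, fun V h hh => ?_⟩
    obtain ⟨l, t, a, hta, har⟩ := hT' h hh
    let t' : ULift.{u} (Fin l) → ((forg O).obj H).obj (op V) := fun m => t m.down
    let a' : I → ULift.{u} (Fin l) → O.obj.obj (op V) := fun j m => a (en.symm j) m.down
    obtain ⟨α, hα⟩ := LocFP.exists_descMor (hs.restrict h) (hr.restrict h) (LocFP.matMor a')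
      (fun k W => by
        rw [map_sum]
        simp only [LocFP.matMor_e]
        rw [Finset.sum_comm]
        refine Finset.sum_eq_zero fun m _ => ?_
        let ev := (((SheafOfModules.ιFree (R := ModSite.ringSh (O.over V)) m).val.app (op W)).hom)
        refine (map_sum ev _ _).symm.trans ((congrArg ev ?_).trans (map_zero ev))
        have h0 := congrArg (O.obj.map W.hom.op).hom (har (ek.symm k) m.down)
        rw [map_sum, map_zero] at h0
        refine Eq.trans ?_ h0
        refine (en.sum_comp (fun j => rr O W.hom.op (rr O h.op (r k j)) *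
          rr O W.hom.op (a' j m))).symm.trans (Finset.sum_congr rfl fun j _ => ?_)
        rw [map_mul, mul_comm]
        simp [a', rr])
    refine ⟨l, α, LocGen.genMor t', ?_⟩
    haveI := (LocGen.epi_genMor_iff _).2 (hs.restrict h)
    rw [← cancel_epi (LocGen.genMor fun j => rs ((forg O).obj F) h.op (s j)), ← Category.assoc, hα]
    refine LocFP.hom_ext_free _ _ fun j W => ?_
    show ((LocGen.genMor t').val.app (op W)).hom
        (((LocFP.matMor a').val.app (op W)).hom (LocFP.e j 1)) =
      (((ModSite.restr O V).map φ).val.app (op W)).hom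
        (((LocGen.genMor fun j => rs ((forg O).obj F) h.op (s j)).val.app (op W)).hom (LocFP.e j 1))
    rw [LocFP.matMor_e, map_sum, LocFP.genMor_e]
    simp only [LocFP.genMor_e, one_mul]
    refine Eq.trans ?_ (congrArg (φ.val.app (op W.left)).hom (one_smul (O.obj.obj (op W.left)) _)).symm
    rw [rs_rs]
    refine Eq.trans ?_ (rs_app ((forg O).map φ) (h.op ≫ W.hom.op) (s j)).symm
    have h1 := congrArg (rs ((forg O).obj H) W.hom.op) (hta (en.symm j))
    rw [Equiv.apply_symm_apply, rs_rs, rs_sum] at h1
    simp only [rs_smul'] at h1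
    refine Eq.trans ?_ h1.symm
    exact Equiv.ulift.sum_comp (fun m => rr O W.hom.op (a (en.symm j) m) •
      rs ((forg O).obj H) W.hom.op (t m))
  choose T hT hT' using key
  refine ⟨Σ Y : C, { g : Y ⟶ X // P g }, fun z => z.1, fun z => z.2.1, ?_, fun z => z.2.2⟩
  refine J.superset_covering ?_ (J.bind_covering (hU X) hT)
  rintro V k ⟨Y, h, g, hg, hh, rfl⟩
  exact Sieve.ofArrows_mk (fun z : Σ Y : C, { g : Y ⟶ X // P g } => z.1) (fun z => z.2.1)
    ⟨V, h ≫ g, hT' g hg h hh⟩

end Groth.Agent.S6167
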