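import Groth.Statements.S6170
import Groth.Agent.H15Site.FreeOn

open CategoryTheory CategoryTheory.Limits Opposite Groth.Agent.H15Site Groth.Agent.H15Site.ModTensor Groth.Agent.H15Site.ModOver

attribute [local instance 10000] SiteInst.hasSheafifySite SiteInst.hasWeakSheafifySite

set_option linter.style.haveILetI false
open CategoryTheory CategoryTheory.Limits Opposite

set_option autoImplicit false
universe u
open CategoryTheory
open ModSite

namespace Groth.Agent.S6170

/-- Ringed topos of sheaves on a small site with commutative structure sheaf O: the sections of the
internal hom Hom_O(M, N) over an object X form a group isomorphic to Hom_{O|X}(j_X^* M, j_X^* N).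
Existence of an additive isomorphism only (the source's is canonical); the internal-hom binder
always holds. -/
theorem result {C : Type u} [SmallCategory C] {J : GrothendieckTopology C} (O : Sheaf J CommRingCat.{u})
    (M N : ModSite.Mod O) [ModSite.HasSheafHom M] (X : C) :
    Nonempty (ModSite.sect ((ModSite.sheafHom M).obj N) X ≃+ ((ModSite.restr O X).obj M ⟶ (ModSite.restr O X).obj N)) := by
  have := additive_extZero O X
  have := additive_tR M
  refine ⟨((FreeOn.homEquiv O X _).symm.trans
    ((ModSite.sheafHomAdj M).homAddEquiv (ModSite.freeOn O X) N).symm).trans ?_⟩
  refine AddEquiv.trans ?_ ((ModSite.extZeroAdj O X).homAddEquiv ((ModSite.restr O X).obj M) N)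
  exact Linear.homCongr ℤ ((freeOnTensor O X).app M) (Iso.refl N) |>.toAddEquiv

end Groth.Agent.S6170
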