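import Groth.Statements.S6172


set_option autoImplicit false
universe u
open CategoryTheory
open SGA4

set_option linter.style.haveILetI false
set_option backward.isDefEq.respectTransparency false
open CategoryTheory.Limits MonoidalCategory CartesianMonoidalCategory

namespace Groth.Agent.S6172

/-- The product with `Z` as the tensor product with `Z`. -/
noncomputable def starForgetIso {A : Type*} [Category A] [CartesianMonoidalCategory A] [HasBinaryProducts A] (Z : A) :
    Over.star Z ⋙ Over.forget Z ≅ tensorLeft Z :=
  NatIso.ofComponents (fun W =>
    { hom := CartesianMonoidalCategory.lift (prod.fst : Z ⨯ W ⟶ Z) prod.snd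
      inv := prod.lift (fst Z W) (snd Z W)
      hom_inv_id := by
        change _ = 𝟙 (Z ⨯ W)
        apply Limits.prod.hom_ext <;> simp
      inv_hom_id := by apply CartesianMonoidalCategory.hom_ext <;> simp })
    (fun {W W'} f => by apply CartesianMonoidalCategory.hom_ext <;> simp [Over.star])

end Groth.Agent.S6172


namespace Groth.Agent.S6172

open CategoryTheory.Limits MonoidalCategory in
/-- Topos E of sheaves of sets on a small site, localised at an object Z: with j_Z : E/Z -> E the
localisation morphism, j_Z^* X = Z x X over Z, and j_{Z*} its right adjoint (taken as an instance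
hypothesis, which holds in any topos), j_{Z*} j_Z^* Y is isomorphic to the internal hom Hom(Z, Y)
for every object Y. Existence of an isomorphism only (the source's is canonical). -/
theorem result {C : Type u} [SmallCategory C] (J : GrothendieckTopology C)
    (Z Y : Sheaf J (Type u)) [(Over.star Z).IsLeftAdjoint] :
    Nonempty (((Over.star Z).rightAdjoint).obj ((Over.star Z).obj Y) ≅ (ihom Z).obj Y) := by
  let e := starForgetIso Z
  exact ⟨((((Adjunction.ofIsLeftAdjoint (Over.star Z)).comp (Over.forgetAdjStar Z)).ofNatIsoLeft e).rightAdjointUniq
    (ihom.adjunction Z)).app Y⟩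

end Groth.Agent.S6172
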