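import Groth.Statements.S6173
import Mathlib.CategoryTheory.Sites.Point.Map
import Mathlib.CategoryTheory.Sites.Over
import Mathlib.CategoryTheory.Sites.LocallyBijective

set_option autoImplicit false
universe u
open CategoryTheory
open SGA4

set_option linter.style.haveILetI false
open CategoryTheory.Limits Opposite

namespace Groth.Agent.S6173

/-- A morphism of sheaves which is an isomorphism on a cover of the final object is one. -/
theorem isIso_of_coversTop {C : Type u} [SmallCategory C] {J : GrothendieckTopology C} {ι : Type u}
    (X : ι → C) (hX : J.CoversTop X) {A B : Sheaf J (Type u)} (m : A ⟶ B)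
    (h : ∀ i, IsIso ((J.overPullback (Type u) (X i)).map m)) : IsIso m := by
  have hb : ∀ (Z : C) (i : ι), (Z ⟶ X i) → Function.Bijective (m.hom.app (op Z)) := by
    intro Z i f
    haveI := h i
    have : IsIso (((sheafToPresheaf _ _).map ((J.overPullback (Type u) (X i)).map m)).app (op (Over.mk f))) :=
      inferInstance
    exact (isIso_iff_bijective _).1 this
  haveI : Sheaf.IsLocallyInjective m := ⟨fun {Z} x y e => by
    refine J.superset_covering ?_ (hX Z.unop)
    rintro W g ⟨i, ⟨f⟩⟩
    refine (hb W i f).1 ?_
    rw [NatTrans.naturality_apply, NatTrans.naturality_apply, e]⟩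
  haveI : Sheaf.IsLocallySurjective m := ⟨fun {Z} s => by
    refine J.superset_covering ?_ (hX Z)
    rintro W g ⟨i, ⟨f⟩⟩
    exact (hb W i f).2 _⟩
  exact (Sheaf.isLocallyBijective_iff_isIso m).1 ⟨inferInstance, inferInstance⟩

end Groth.Agent.S6173


namespace Groth.Agent.S6173

/-- Second assertion (topos of sheaves on a small site (C, J); E/X_i the induced topoi, modelled by the
sites (C/X_i, J/X_i); 'enough points' = a small conservative family of points, equivalently all
fibre functors together are conservative): if (X_i) is a family of objects covering the final object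
and every E/X_i has enough points, then E has enough points. (The first assertion, that E/X inherits
enough points from E, is Mathlib's instance.) -/
theorem result {C : Type u} [SmallCategory C] (J : GrothendieckTopology C) {ι : Type u}
    (X : ι → C) (hX : J.CoversTop X) (h : ∀ i, GrothendieckTopology.HasEnoughPoints.{u} (J.over (X i))) :
    GrothendieckTopology.HasEnoughPoints.{u} J := by
  choose P hPs hP using fun i => (h i).exists_objectProperty
  refine ⟨⟨ObjectProperty.ofObj (fun ψ : Σ i, (P i).FullSubcategory =>
    ψ.2.obj.map (Over.forget (X ψ.1)) J), ?_, ⟨⟨fun {A B} m hm => ?_⟩⟩⟩⟩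
  · haveI := hPs
    haveI : ∀ i, Small.{u} (P i).FullSubcategory := fun i =>
      small_of_injective (f := fun Φ : (P i).FullSubcategory => (⟨Φ.obj, Φ.property⟩ : Subtype (P i)))
        (fun a b e => ObjectProperty.FullSubcategory.ext (congrArg Subtype.val e))
    infer_instance
  · refine isIso_of_coversTop X hX m fun i => ?_
    refine (hP i).jointlyReflectIsomorphisms_type.isIso_iff _ |>.2 fun Φ => ?_
    have hmem : ObjectProperty.ofObj (fun ψ : Σ i, (P i).FullSubcategory =>
        ψ.2.obj.map (Over.forget (X ψ.1)) J) (Φ.obj.map (Over.forget (X i)) J) :=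
      ObjectProperty.ofObj.mk (⟨i, Φ⟩ : Σ i, (P i).FullSubcategory)
    have hh : IsIso ((Φ.obj.map (Over.forget (X i)) J).sheafFiber.map m) :=
      hm ⟨Φ.obj.map (Over.forget (X i)) J, hmem⟩
    exact (NatIso.isIso_map_iff (Φ.obj.sheafFiberMapIso (Over.forget (X i)) J (A := Type u)) m).1 hh

end Groth.Agent.S6173
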