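import Groth.Statements.S6176
import Groth.Agent.H15Site.OpenClosed

set_option autoImplicit false
universe u
open CategoryTheory
open SGA4

set_option linter.style.haveILetI false
set_option backward.isDefEq.respectTransparency false
open CategoryTheory.Limits
open Groth.Agent.H15Site


namespace Groth.Agent.S6176

open CategoryTheory.Limits in
/-- The clause on products (topos of sheaves of sets on a small site; j : E/U -> E the open embedding
defined by an open U, i.e. a subobject of the final object, so that j_! is the forgetful functor
from objects over U): j_! commutes with products indexed by a nonempty u-small set. (Commutation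
with fibre products and cofiltered limits, the other clauses, holds for the forgetful functor of any
slice.) -/
theorem result {C : Type u} [SmallCategory C] (J : GrothendieckTopology C)
    (U : Sheaf J (Type u)) (hU : SGA4.IsOpen U) (I : Type u) [Nonempty I] :
    PreservesLimitsOfShape (Discrete I) (Over.forget U) := by
  obtain ⟨i₀⟩ := ‹Nonempty I›
  refine ⟨fun {K} => ⟨fun {c} hc => ⟨?_⟩⟩⟩
  have hw : ∀ {A B : Over U} (f : A.left ⟶ B.left), f ≫ B.hom = A.hom :=
    fun f => OpenClosed.hom_eq hU _ _
  let cc : ∀ s : Cone (K ⋙ Over.forget U), Cone K := fun s =>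
    { pt := Over.mk (s.π.app ⟨i₀⟩ ≫ (K.obj ⟨i₀⟩).hom)
      π := Discrete.natTrans fun i => Over.homMk (U := Over.mk (s.π.app ⟨i₀⟩ ≫ (K.obj ⟨i₀⟩).hom)) (s.π.app i) (hw _) }
  exact
    { lift := fun s => (hc.lift (cc s)).left
      fac := fun s i => congrArg CommaMorphism.left (hc.fac (cc s) i)
      uniq := fun s m hm => congrArg CommaMorphism.left
        (hc.uniq (cc s) (Over.homMk (U := (cc s).pt) m (hw _)) fun i => Over.OverMorphism.ext (hm i)) }

end Groth.Agent.S6176
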