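import Groth.Statements.S6181
import Groth.Agent.H18Et.FibreSections
import Mathlib.CategoryTheory.Limits.Shapes.ConcreteCategory

set_option autoImplicit false
open CategoryTheory CategoryTheory.Limits AlgebraicGeometry Opposite
universe u
open EtDesc

open scoped Groth.Agent.H18Et

namespace Groth.Agent.S6181

/-- Let f : X -> Y be a finite morphism of schemes, Ω an algebraically closed field and η : Spec Ω -> Y
a geometric point. The functor F ↦ (f_* F)_η on etale sheaves of sets on X is isomorphic to the
product, over the geometric points ξ : Spec Ω -> X lying over η, of the fibre functors F ↦ F_ξ. (The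
published statement gives a canonical isomorphism and indexes the product by the points of the
geometric fibre over a separable closure of the residue field; this row asserts only that an
isomorphism of functors exists and indexes the product by the Ω-valued points of X over η, which for
Ω algebraically closed correspond to those points.) -/
theorem result {X Y : Scheme.{u}} (f : X ⟶ Y) [IsFinite f]
    {Ω : Type u} [Field Ω] [IsAlgClosed Ω] (η : Spec (CommRingCat.of Ω) ⟶ Y) :
    Nonempty (EtDesc.pushSh f ⋙ (Scheme.pointSmallEtale η).sheafFiber (A := Type (u + 1)) ≅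
      ∏ᶜ fun ξ : {ξ : Spec (CommRingCat.of Ω) ⟶ X // ξ ≫ f = η} =>
        ((Scheme.pointSmallEtale ξ.1).sheafFiber (A := Type (u + 1)) : EtDesc.Sh X ⥤ Type (u + 1))) := by
  let κ : ∀ ξ : H18Et.Pts f η, EtDesc.pushSh f ⋙ (Scheme.pointSmallEtale η).sheafFiber (A := Type (u + 1)) ⟶
      ((Scheme.pointSmallEtale ξ.1).sheafFiber (A := Type (u + 1)) : EtDesc.Sh X ⥤ Type (u + 1)) :=
    fun ξ => H18Et.pushEval ξ
  have : Finite (H18Et.Pts f η) := H18Et.finite_pts f η
  let G : H18Et.Pts f η → (EtDesc.Sh X ⥤ Type (u + 1)) := fun ξ =>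
    (Scheme.pointSmallEtale ξ.1).sheafFiber (A := Type (u + 1))
  have hiso : ∀ F, IsIso ((Pi.lift κ).app F) := fun F => by
    have hcomp : ∀ ξ a, (Pi.π G ξ).app F ((Pi.lift κ).app F a) = (κ ξ).app F a := fun ξ a =>
      ConcreteCategory.congr_hom (congr_app (Pi.lift_π κ ξ) F) a
    rw [isIso_iff_bijective]
    refine ⟨fun a b h => H18Et.pushEval_jointly_injective F a b fun ξ =>
      (hcomp ξ a).symm.trans ((congrArg ((Pi.π G ξ).app F) h).trans (hcomp ξ b)), fun e => ?_⟩
    obtain ⟨a, ha⟩ := H18Et.exists_pushEval_eq_of_finite F fun ξ => (Pi.π G ξ).app F e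
    refine ⟨a, ?_⟩
    have hinj : Function.Injective (piObjIso G F).hom :=
      ((isIso_iff_bijective _).1 inferInstance).1
    refine hinj (Limits.Concrete.limit_ext (Discrete.functor fun ξ => (G ξ).obj F) _ _ ?_)
    rintro ⟨ξ⟩
    have h2 : ∀ x, Pi.π (fun ξ => (G ξ).obj F) ξ ((piObjIso G F).hom x) = (Pi.π G ξ).app F x :=
      fun x => ConcreteCategory.congr_hom (piObjIso_hom_comp_π G F ξ) x
    rw [h2, h2]
    exact (hcomp ξ a).trans (ha ξ)
  have := NatIso.isIso_of_isIso_app (Pi.lift κ)
  exact ⟨asIso (Pi.lift κ)⟩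

end Groth.Agent.S6181
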