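import Groth.Statements.S6182
import Mathlib
import Groth.Agent.H15Site.ToposFin.Alg

open ToposFin Groth.Agent.H15Site.TFin

set_option linter.style.haveILetI false
open CategoryTheory CategoryTheory.Limits Opposite Simplicial

set_option autoImplicit false
open CategoryTheory CategoryTheory.Limits Opposite
universe u
open ToposFin

namespace Groth.Agent.S6182

/-- Let (C, J) and (D, K) be small sites with fibre products in which every object is quasi-compact, and
G : C -> D a continuous functor whose inverse-image functor on sheaves of sets f^* (the sheaf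
pullback along G, from sheaves on C to sheaves on D) preserves finite limits, so that G is a
morphism of sites and f a morphism of topoi. Then f is coherent: f^* sends quasi-compact objects to
quasi-compact objects and quasi-separated objects to quasi-separated objects. -/
theorem result {C D : Type u} [SmallCategory C] [SmallCategory D]
    [HasPullbacks C] [HasPullbacks D] (J : GrothendieckTopology C) (K : GrothendieckTopology D)
    (hC : ∀ X : C, ToposFin.IsQCSite J X) (hD : ∀ Y : D, ToposFin.IsQCSite K Y)
    (G : C ⥤ D) [Functor.IsContinuous G J K] [PreservesFiniteLimits (G.sheafPullback (Type u) J K)] :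
    (∀ X : ToposFin.Sh J, ToposFin.IsQC X → ToposFin.IsQC ((G.sheafPullback (Type u) J K).obj X)) ∧
      (∀ X : ToposFin.Sh J, ToposFin.IsQS X → ToposFin.IsQS ((G.sheafPullback (Type u) J K).obj X)) := by
  let adj := G.sheafAdjunctionContinuous (Type u) J K
  have hiso : ∀ X : C, Nonempty (eps K (G.obj X) ≅ (G.sheafPullback (Type u) J K).obj (eps J X)) := by
    intro X
    refine ⟨(Coyoneda.fullyFaithful.preimageIso (NatIso.ofComponents
      (fun T => (((adj.homEquiv (eps J X) T).trans
        (Groth.Agent.H15Site.sheafifyYonedaHomEquiv J X _)).trans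
          (Groth.Agent.H15Site.sheafifyYonedaHomEquiv K (G.obj X) T).symm).toIso) ?_)).unop⟩
    intro T T' φ
    ext a
    apply (Groth.Agent.H15Site.sheafifyYonedaHomEquiv K (G.obj X) T').injective
    refine (Equiv.apply_symm_apply _ _).trans (Eq.trans ?_
      ((Groth.Agent.H15Site.sheafifyYonedaHomEquiv_naturality_right K _ φ).trans
        (congrArg (φ.hom.app (op (G.obj X))) (Equiv.apply_symm_apply _ _))).symm)
    exact (congrArg (Groth.Agent.H15Site.sheafifyYonedaHomEquiv J X _)
      (adj.homEquiv_naturality_right a φ)).trans
      (Groth.Agent.H15Site.sheafifyYonedaHomEquiv_naturality_right J _ _)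
  let S : Set (Sh J) := Set.ofPred fun X => ∃ U : C, X = eps J U
  have hS : ∀ X ∈ S, IsCoherent X := by rintro X ⟨U, rfl⟩; exact isCoherent_eps hC U
  have hgen : IsGenerating S := fun X => by
    obtain ⟨ι, a, π, hπ⟩ := gen_eps J X
    exact ⟨ι, _, π, fun i => ⟨a i, rfl⟩, fun Z x y => hπ x y⟩
  have h : ∀ X ∈ S, IsCoherent ((G.sheafPullback (Type u) J K).obj X) := by
    rintro X ⟨U, rfl⟩
    exact isCoherent_of_iso (hiso U).some (isCoherent_eps hD _)
  exact ⟨fun X hX => InvImg.isQC_map _ adj hgen (fun Y hY => (h Y hY).1) hX,
    fun X hX => InvImg.isQS_map _ adj (hasQCGenerators_eps hD) hS hgen h hX⟩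

end Groth.Agent.S6182
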