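import Groth.Statements.S6187
import Groth.Agent.H16Derived.TorTest.StalkAmp
import Groth.Agent.H4DR.TorAmp.Descent
import Groth.Agent.H06EGA9.StructureStalk

set_option autoImplicit false
universe u
open CategoryTheory CategoryTheory.Limits AlgebraicGeometry
attribute [local instance] HasDerivedCategory.standard
open KSix

namespace Groth.Agent.S6187

/-- Case of schemes: let f : X ⟶ Y and g : Y ⟶ Z be morphisms of schemes with composite h, let n be a
natural number such that g has tor dimension at most n (the structure sheaf of Y has tor amplitude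
in [-n, 0] relative to g, stalkwise), and let F be a cochain complex of O_X-modules with tor
amplitude in [a, b] relative to f (at every point x the complex of stalks F_x, over the local ring
of Y at f(x), is isomorphic in the derived category to a complex of flat modules placed in [a, b]).
Then F has tor amplitude in [a - n, b] relative to h. (The published statement is for a commutative
triangle of ringed topoi in which X has enough points; this row is the case of schemes, with tor
amplitude relative to a morphism in its stalkwise form.) -/
theorem result {X Y Z : Scheme.{u}} (f : X ⟶ Y) (g : Y ⟶ Z) (h : X ⟶ Z)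
    (w : f ≫ g = h) (n : ℕ) (hg : DerSch.HasTorDimLE g n) (F : CochainComplex X.Modules ℤ) (a b : ℤ)
    (hF : DerSch.HasTorAmplitude f a b F) :
    DerSch.HasTorAmplitude h (a - n) b F := by
  subst w
  intro x
  letI := H06Mod.stalkAlgebra g (f.base x)
  have hB : DRing.HasTorAmplitudeIn (Z.presheaf.stalk (g.base (f.base x))) (-(n : ℤ)) 0
      (Dual.inD (Z.presheaf.stalk (g.base (f.base x))) (Y.presheaf.stalk (f.base x))) := by
    refine H4DR.TorAmp.ta_of_iso ?_ (hg (f.base x))
    let y := f.base x
    let l : ModuleCat.of (Y.presheaf.stalk y) (Y.presheaf.stalk y) ≅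
        (DerSch.stalkFunctor Y y).obj (Coh.structureModule Y) :=
      (LinearEquiv.ofBijective (LinearMap.toSpanSingleton (Y.presheaf.stalk y) _ (H06EGA9.oneStalk y))
        (H06EGA9.bijective_smul_oneStalk y)).toModuleIso
    let o : ModuleCat.of (Z.presheaf.stalk (g.base y)) (Y.presheaf.stalk y) ≅
        (ModuleCat.restrictScalars (g.stalkMap y).hom).obj (ModuleCat.of (Y.presheaf.stalk y) (Y.presheaf.stalk y)) :=
      (AddEquiv.toLinearEquiv (AddEquiv.refl _) (fun r a => rfl) :
        (ModuleCat.of (Z.presheaf.stalk (g.base y)) (Y.presheaf.stalk y)) ≃ₗ[Z.presheaf.stalk (g.base y)]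
          (ModuleCat.restrictScalars (g.stalkMap y).hom).obj (ModuleCat.of (Y.presheaf.stalk y) (Y.presheaf.stalk y))).toModuleIso
    exact DerivedCategory.Q.mapIso ((HomologicalComplex.singleMapHomologicalComplex
      (DerSch.stalkOver g y) (ComplexShape.up ℤ) 0).app (Coh.structureModule Y)) ≪≫
      ((DerivedCategory.singleFunctorIsoCompQ (ModuleCat.{u} (Z.presheaf.stalk (g.base y))) 0).app
        ((DerSch.stalkOver g y).obj (Coh.structureModule Y))).symm ≪≫
      (DerivedCategory.singleFunctor _ 0).mapIso
        ((ModuleCat.restrictScalars (g.stalkMap y).hom).mapIso l.symm ≪≫ o.symm)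
  refine H4DR.TorAmp.ta_of_iso ?_ (H4DR.TorAmp.ta_restrict hB (hF x))
  exact (DTen.resFactors (g.stalkMap (f.base x)).hom).app _ ≪≫
    DerivedCategory.Q.mapIso (H16Derived.TorTest.stalkOverCompIso f g x F).symm

end Groth.Agent.S6187
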