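import Groth.Statements.S6188
import Groth.Agent.H16Derived.TorTest.StalkAmp
import Groth.Agent.H16Derived.Dual.Unit

set_option autoImplicit false
universe u
open CategoryTheory CategoryTheory.Limits AlgebraicGeometry
attribute [local instance] HasDerivedCategory.standard
open KSix

namespace Groth.Agent.S6188

open Groth.Agent.H16Derived
open Groth.Agent.H16Derived.KFlat Groth.Agent.H16Derived.KFlat.Stalk

/-- Case of schemes: let f : X ⟶ Y and g : Y ⟶ Z be morphisms of schemes with composite h, let m be a
natural number such that f has tor dimension at most m (the structure sheaf of X has tor amplitude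
in [-m, 0] relative to f, stalkwise), and let G be a cochain complex of O_Y-modules with tor
amplitude in [c, d] relative to g (stalkwise flat models placed in [c, d] over the local rings of
Z). Then, the derived pullback Lf^* being assumed to exist, Lf^* G has tor amplitude in [c - m, d]
relative to h: every cochain complex representing it has stalkwise flat models placed in [c - m, d]
over the local rings of Z. (The published statement is for a commutative triangle of ringed topoi in
which X has enough points; this row is the case of schemes, with tor amplitude relative to a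
morphism in its stalkwise form.) -/
theorem result {X Y Z : Scheme.{u}} (f : X ⟶ Y) (g : Y ⟶ Z) (h : X ⟶ Z)
    (w : f ≫ g = h) (m : ℕ) (hf : DerSch.HasTorDimLE f m) [DCoh.HasLpull f]
    (G : CochainComplex Y.Modules ℤ) (c d : ℤ) (hG : DerSch.HasTorAmplitude g c d G) :
    DerSch.HasTorAmplitudeD h (c - m) d ((DCoh.Lpull f).obj (DCoh.toD Y G)) := by
  subst w
  haveI : DCoh.HasLTensorCx (Dual.S₀ X) := hasLTensorCx _
  obtain ⟨P, hP, ⟨eP⟩⟩ := exists_kflat_rep (DCoh.toD Y G)
  let Q := ((Scheme.Modules.pullback f).mapHomologicalComplex (ComplexShape.up ℤ)).obj P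
  let e' : DCoh.toD X Q ≅ (DCoh.Lpull f).obj (DCoh.toD Y G) :=
    (lpullObjIso f P hP).symm ≪≫ (DCoh.Lpull f).mapIso eP
  let e : (DCoh.LTensorCx (Dual.S₀ X)).obj ((DCoh.Lpull f).obj (DCoh.toD Y G)) ≅
      (DCoh.Lpull f).obj (DCoh.toD Y G) :=
    (DCoh.LTensorCx (Dual.S₀ X)).mapIso e'.symm ≪≫
      (ltensorCxIso (Dual.S₀ X)).app ⟨Q, TorTest.lkflat_of_kflat (isKFlat_pullback f hP)⟩ ≪≫
      DerivedCategory.Q.mapIso ((Dual.tensorS₀Iso X).app Q) ≪≫ e'
  intro F ⟨eF⟩
  have h := TorTest.hasTorAmplitudeD_tensor f g (Dual.S₀ X) (a := -(m : ℤ)) (b := 0) hf hG F ⟨eF ≪≫ e.symm⟩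
  rwa [zero_add, neg_add_eq_sub] at h

end Groth.Agent.S6188
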