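import Groth.Statements.S6190
import Groth.Agent.H16Derived.TorTest.SmoothAmp

set_option autoImplicit false
universe u
open CategoryTheory CategoryTheory.Limits AlgebraicGeometry
attribute [local instance] HasDerivedCategory.standard
open KSix

namespace Groth.Agent.S6190

attribute [local instance] HasDerivedCategory.standard
open Groth.Agent.H16Derived

/-- Let i : X ⟶ X' be a closed immersion, f' : X' ⟶ Y smooth of relative dimension at most d (every
point of X' has an open neighbourhood on which f' is smooth of some relative dimension n ≤ d), f = i
≫ f', and F a cochain complex of O_X-modules with tor amplitude in [a, b] relative to f (stalkwise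
flat models placed in [a, b] over the local rings of Y). Then the termwise direct image i_* F has
tor amplitude in [a - d, b] in the absolute sense on X': it is isomorphic in D(O_X') to a complex of
flat O_X'-modules placed in [a - d, b]. -/
theorem result {X X' Y : Scheme.{u}} (i : X ⟶ X')
    [IsClosedImmersion i] (f' : X' ⟶ Y) [Smooth f'] (d : ℕ)
    (hd : ∀ x : X', ∃ (n : ℕ) (V : X'.Opens), n ≤ d ∧ x ∈ V ∧ SmoothOfRelativeDimension n (V.ι ≫ f'))
    (F : CochainComplex X.Modules ℤ) (a b : ℤ) (hF : DerSch.HasTorAmplitude (i ≫ f') a b F) :
    DCoh.HasFlatAmplitudeIn (a - d) b (DCoh.toD X' (((Scheme.Modules.pushforward i).mapHomologicalComplex (ComplexShape.up ℤ)).obj F)) := by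
  have h := TorTest.hasFlatAmplitudeIn_of_smooth f' d hd _ (TorTest.hasTorAmplitude_push i f' F hF)
  haveI := (TorTest.bounds_of_ta _ h).2
  exact (S6200.result _ b (a - d) b).2 h

end Groth.Agent.S6190
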