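import Groth.Statements.S6191
import Groth.Agent.H16Derived.TorTest.PushStalkAmp
import Groth.Agent.H16Derived.KFlat.PerfCoh

set_option autoImplicit false
universe u
open CategoryTheory CategoryTheory.Limits AlgebraicGeometry
attribute [local instance] HasDerivedCategory.standard
open KSix

namespace Groth.Agent.S6191

open Groth.Agent.H16Derived Groth.Agent.H16Derived.KFlat Groth.Agent.H16Derived.KFlat.Stalk

/-- Let i : X ⟶ X' be a closed immersion, f' : X' ⟶ Y smooth, f = i ≫ f', and F a cochain complex of
O_X-modules whose termwise direct image i_* F has tor amplitude in [a, b] in the absolute sense on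
X' (it is isomorphic in D(O_X') to a complex of flat O_X'-modules placed in [a, b]). Then F has tor
amplitude in [a, b] relative to f (stalkwise flat models placed in [a, b] over the local rings of
Y). -/
theorem result {X X' Y : Scheme.{u}} (i : X ⟶ X') [IsClosedImmersion i]
    (f' : X' ⟶ Y) [Smooth f'] (F : CochainComplex X.Modules ℤ) (a b : ℤ)
    (hF : DCoh.HasFlatAmplitudeIn a b (DCoh.toD X' (((Scheme.Modules.pushforward i).mapHomologicalComplex (ComplexShape.up ℤ)).obj F))) :
    DerSch.HasTorAmplitude (i ≫ f') a b F := by
  obtain ⟨C, hv, hf, ⟨e⟩⟩ := hF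
  intro x
  exact TorTest.at_comp_flat i f' ((TorTest.at_push_iff i a b F x).2
    (TorTest.hasTorAmplitude_of_iso e
      (TorTest.hasTorAmplitude_of_flat (𝟙 X') hv fun j => isFlatOver_id (hf j)) (i.base x)))

end Groth.Agent.S6191
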