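import Groth.Statements.S6192
import Groth.Agent.H16Derived.TorTest.RpushAmpLoc

set_option autoImplicit false
universe u
open CategoryTheory CategoryTheory.Limits AlgebraicGeometry
attribute [local instance] HasDerivedCategory.standard
open KSix

namespace Groth.Agent.S6192

/-- Let S be a quasi-compact scheme, p : X ⟶ S and q : Y ⟶ S with q quasi-compact (Y quasi-compact over
S), f : X ⟶ Y a quasi-compact and quasi-separated morphism with f ≫ q = p (so X too is quasi-compact
over S), and N a natural number such that R^i f_* M = 0 for all i > N and all quasi-coherent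
O_X-modules M. If F is a cochain complex of O_X-modules whose image in D(O_X) has bounded
quasi-coherent cohomology and which has tor amplitude in [a, b] relative to p (stalkwise flat models
placed in [a, b] over the local rings of S), then Rf_* F (the derived direct image being assumed to
exist) has tor amplitude in [a, b + N] relative to q: every cochain complex representing it has
stalkwise flat models placed in [a, b + N] over the local rings of S. -/
theorem result {X Y S : Scheme.{u}} (p : X ⟶ S) (q : Y ⟶ S)
    (f : X ⟶ Y) (w : f ≫ q = p) [QuasiCompact f] [QuasiSeparated f] [QuasiCompact q] [CompactSpace S]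
    [DCoh.HasRpush f] (N : ℕ)
    (hN : ∀ M : X.Modules, Coh.IsQCoh M → ∀ i : ℤ, (N : ℤ) < i → IsZero (DCoh.HD ((DCoh.Rpush f).obj (DCoh.inD X M)) i))
    (F : CochainComplex X.Modules ℤ) (hqc : DCoh.IsQCohD (DCoh.toD X F)) (c d : ℤ)
    [(DCoh.toD X F).IsGE c] [(DCoh.toD X F).IsLE d] (a b : ℤ) (hF : DerSch.HasTorAmplitude p a b F) :
    DerSch.HasTorAmplitudeD q a (b + N) ((DCoh.Rpush f).obj (DCoh.toD X F)) := by
  exact H16Derived.TorTest.hasTorAmplitudeD_rpush_bound p q f F w hqc N hN hF

end Groth.Agent.S6192
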