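import Groth.Statements.S6194
import Groth.Agent.H16Derived.TorTest.PerfSpread

set_option autoImplicit false
universe u
open CategoryTheory CategoryTheory.Limits AlgebraicGeometry
attribute [local instance] HasDerivedCategory.standard
open KSix

namespace Groth.Agent.S6194

open Groth.Agent.H16Derived
open Groth.Agent.H16Derived.KFlat Groth.Agent.H16Derived.KFlat.Stalk

/-- Let X be a scheme such that, at every point x, every module over the local ring of X at x has finite
tor dimension (for instance a regular scheme), and let E ∈ D(O_X), given by a cochain complex F,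
have bounded cohomology. Then E is pseudo-coherent if and only if E is perfect. (The published
statement is for a ringed topos with enough points; this row is the case of schemes.) -/
theorem result {X : Scheme.{u}}
    (hX : ∀ (x : X) (M : Type u) [AddCommGroup M] [Module (X.presheaf.stalk x) M], DRing.HasFiniteTorDim (X.presheaf.stalk x) M)
    (F : CochainComplex X.Modules ℤ) (c d : ℤ) [(DCoh.toD X F).IsGE c] [(DCoh.toD X F).IsLE d] :
    (∀ m : ℤ, DCoh.IsPseudoCoherentD m (DCoh.toD X F)) ↔ DCoh.IsPerfect (DCoh.toD X F) := by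
  refine ⟨fun hpc => isPerfect_of_local fun x => ?_, fun h m => isPseudoCoherentD_of_isPerfect h m⟩
  let R : Type u := X.presheaf.stalk x
  haveI : (DCoh.toD X F).IsGE c := inferInstance
  let W : DRing.Cx R := (TorTest.Sx x).obj F
  have hv : ∀ i, (i < c ∨ d < i) → Subsingleton (Dual.HD R (DRing.toD W) i) := fun i hi => by
    refine ModuleCat.subsingleton_of_isZero (IsZero.of_iso ?_
      ((DerivedCategory.homologyFunctorFactors _ i).app _))
    refine ((HomologicalComplex.exactAt_iff W i).2 ((exact_iff _).1
      ((ShortComplex.exact_iff_isZero_homology _).2 (IsZero.of_iso ?_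
        ((DerivedCategory.homologyFunctorFactors X.Modules i).app F).symm)) x)).isZero_homology
    exact hi.elim (fun h => DerivedCategory.isZero_of_isGE _ c i h)
      (fun h => DerivedCategory.isZero_of_isLE _ d i h)
  choose n hn using fun i : ℤ => hX x (Dual.HD R (DRing.toD W) i)
  let N : ℕ := (Finset.Icc c d).sup n
  have hta : DRing.HasTorAmplitudeIn R (c - N) d (DRing.toD W) := by
    refine H4DR.TorAmp.ta_of_homology (d + 1 - c).toNat c (fun i hi => hv i (by omega)) fun i => ?_
    by_cases hi : i < c ∨ d < i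
    · haveI := hv i hi
      exact H4DR.TorAmp.ta_of_isZero ((DerivedCategory.singleFunctor (ModuleCat.{u} R) 0).map_isZero
        (ModuleCat.isZero_of_iff_subsingleton.2 (inferInstance : Subsingleton (ModuleCat.of R (Dual.HD R (DRing.toD W) i)))))
    · have hN : n i ≤ N := Finset.le_sup (Finset.mem_Icc.2 ⟨by omega, by omega⟩)
      exact H4DR.TorAmp.ta_mono (by omega) (by omega)
        ((H4DR.TorAmp.ta_inD_iff (n i) (ModuleCat.of R (Dual.HD R (DRing.toD W) i))).2 (hn i))
  haveI : (DCoh.toD X F).IsGE (c - N) := DerivedCategory.TStructure.t.isGE_of_ge _ _ c (by omega)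
  obtain ⟨G, hG, ⟨e⟩⟩ := DerivedCategory.exists_iso_Q_obj_of_isGE (DCoh.toD X F) (c - N)
  haveI := hG
  have hxG : DerSch.HasTorAmplitudeAt (𝟙 X) (c - N) d G x := by
    refine H4DR.TorAmp.ta_of_iso (TorTest.stalkOverIso (𝟙 X) x e) ?_
    exact H4DR.TorAmp.ta_of_iso (DerivedCategory.Q.mapIso ((NatIso.mapHomologicalComplex
      (ModuleCat.restrictScalarsId' ((𝟙 X : X ⟶ X).stalkMap x).hom (by rw [Scheme.Hom.stalkMap_id]; rfl))
      (ComplexShape.up ℤ)).app W ≪≫ (Functor.mapHomologicalComplexIdIso _ _).app W)).symm hta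
  obtain ⟨U, j, hj, hxU, hm⟩ := TorTest.exists_hasPerfModel (a := c - N) (b := d)
    (isPseudoCoherentD_of_iso e (hpc _)) x hxG
  obtain ⟨E, hE, ⟨θ⟩⟩ := hm
  exact ⟨U, j, hj, hxU, E, hE, ⟨θ ≪≫ (rd j).mapIso e.symm⟩⟩

end Groth.Agent.S6194
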