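import Groth.Statements.S6197
import Groth.Agent.H16Derived.TorTest.SmoothAmp
import Groth.Agent.H16Derived.TorTest.TorDimLoc
import Groth.Agent.H16Derived.TorTest.PushStalkAmp

set_option autoImplicit false
universe u
open CategoryTheory CategoryTheory.Limits AlgebraicGeometry
attribute [local instance] HasDerivedCategory.standard
open KSix

namespace Groth.Agent.S6197

attribute [local instance] HasDerivedCategory.standard
open Groth.Agent.H16Derived

/-- Let i : X ⟶ X' be a closed immersion, f' : X' ⟶ Y smooth, f = i ≫ f', and F a cochain complex of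
O_X-modules. Then F is locally of finite tor amplitude relative to f (stalkwise form) if and only if
the termwise direct image i_* F is locally of finite tor dimension in the absolute sense on X'. -/
theorem result {X X' Y : Scheme.{u}} (i : X ⟶ X')
    [IsClosedImmersion i] (f' : X' ⟶ Y) [Smooth f'] (F : CochainComplex X.Modules ℤ) :
    DerSch.LocFiniteTorAmplitude (i ≫ f') F ↔
      DCoh.LocHasFiniteTorDim (DCoh.toD X' (((Scheme.Modules.pushforward i).mapHomologicalComplex (ComplexShape.up ℤ)).obj F)) := by
  constructor
  · intro h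
    refine TorTest.locHasFiniteTorDim_of_locFiniteTorAmplitudeD fun G ⟨e⟩ x => ?_
    obtain ⟨V, a, b, hx, hV⟩ := TorTest.locFiniteTorAmplitude_id_push i f' F h x
    exact ⟨V, a, b, hx, fun x' hx' => H4DR.TorAmp.ta_of_iso (TorTest.stalkOverIso _ x' e.symm) (hV x' hx')⟩
  · intro h x
    obtain ⟨V, a, b, hx, hV⟩ := TorTest.locFiniteTorAmplitude_id_of_locHasFiniteTorDim h (i.base x)
    exact ⟨i ⁻¹ᵁ V, a, b, hx, fun x' hx' =>
      TorTest.at_comp_flat i f' ((TorTest.at_push_iff i a b F x').2 (hV _ hx'))⟩

end Groth.Agent.S6197
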