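import Groth.Statements.S6204
import Groth.Agent.H8Props.RelPCLocal
import Groth.Agent.H8Props.RelPCCharts

set_option autoImplicit false
universe u
open CategoryTheory CategoryTheory.Limits AlgebraicGeometry
attribute [local instance] HasDerivedCategory.standard
open KSix

namespace Groth.Agent.S6204

open Groth.Agent.H16Derived.KFlat.Stalk Groth.Agent.H8Props.RelPC Groth.Agent.H8Props.PushPC CategoryTheory.Pretriangulated

open CategoryTheory.Pretriangulated in
/-- Let f : X ⟶ Y be locally of finite type, n an integer, and E ⟶ F ⟶ G ⟶ E⟦1⟧ a distinguished triangle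
of D(O_X); all pseudo-coherence is relative to f, in chart form. If E is (n+1)-pseudo-coherent and F
is n-pseudo-coherent then G is n-pseudo-coherent; if E and G are n-pseudo-coherent then so is F; if
F is n-pseudo-coherent and G is (n-1)-pseudo-coherent then E is n-pseudo-coherent. -/
theorem result {X Y : Scheme.{u}} (f : X ⟶ Y) [LocallyOfFiniteType f] (n : ℤ)
    (T : Triangle (DCoh.D X)) (hT : T ∈ distinguishedTriangles) :
    (DerSch.IsPseudoCoherentRel f (n + 1) T.obj₁ → DerSch.IsPseudoCoherentRel f n T.obj₂ →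
        DerSch.IsPseudoCoherentRel f n T.obj₃) ∧
      (DerSch.IsPseudoCoherentRel f n T.obj₁ → DerSch.IsPseudoCoherentRel f n T.obj₃ →
        DerSch.IsPseudoCoherentRel f n T.obj₂) ∧
      (DerSch.IsPseudoCoherentRel f n T.obj₂ → DerSch.IsPseudoCoherentRel f (n - 1) T.obj₃ →
        DerSch.IsPseudoCoherentRel f n T.obj₁) := by
  have hobj : ∀ (T' : Triangle (DCoh.D X)), T' ∈ distTriang (DCoh.D X) → ∀ m : ℤ,
      DerSch.IsPseudoCoherentRel f (m + 1) T'.obj₁ → DerSch.IsPseudoCoherentRel f m T'.obj₂ →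
        DerSch.IsPseudoCoherentRel f m T'.obj₃ := fun T' hT' m h₁ h₂ =>
    (rel_iff_forall f m T'.obj₃).2 fun U V h => by
      obtain ⟨k, φ, hφ⟩ := exists_isChart f _ _ h (f.finiteType_appLE V.2 U.2 h)
      refine ⟨k, φ, hφ, ?_⟩
      haveI := isClosedImmersion_chartImm U.2 φ hφ.1
      let g := DerSch.chartImm (U : X.Opens) φ
      let F := rd (U : X.Opens).ι ⋙ pushD g
      rw [chartPC_iff]
      exact isPseudoCoherentD_obj₃ (F.map_distinguished _ hT')
        ((chartPC_iff φ (m + 1) T'.obj₁).1 (chartPC_of_rel h₁ U.2 V.2 h φ hφ))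
        ((chartPC_iff φ m T'.obj₂).1 (chartPC_of_rel h₂ U.2 V.2 h φ hφ))
  have hshift : ∀ (K : DCoh.D X) (m m' s : ℤ), s + m' = m → DerSch.IsPseudoCoherentRel f m K →
      DerSch.IsPseudoCoherentRel f m' (K⟦s⟧) := fun K m m' s hs hK =>
    (rel_iff_forall f m' _).2 fun U V h => by
      obtain ⟨k, φ, hφ⟩ := exists_isChart f _ _ h (f.finiteType_appLE V.2 U.2 h)
      refine ⟨k, φ, hφ, ?_⟩
      haveI := isClosedImmersion_chartImm U.2 φ hφ.1
      let g := DerSch.chartImm (U : X.Opens) φ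
      let F := rd (U : X.Opens).ι ⋙ pushD g
      rw [chartPC_iff]
      exact isPseudoCoherentD_of_iso ((F.commShiftIso s).app K).symm
        (isPseudoCoherentD_shift ((chartPC_iff φ m K).1 (chartPC_of_rel hK U.2 V.2 h φ hφ)) s m' hs)
  refine ⟨fun h₁ h₂ => hobj T hT n h₁ h₂, fun h₁ h₃ => ?_, fun h₂ h₃ => ?_⟩
  · exact hobj T.invRotate (inv_rot_of_distTriang _ hT) n (hshift _ n (n + 1) (-1) (by omega) h₃) h₁
  · exact hobj T.invRotate.invRotate (inv_rot_of_distTriang _ (inv_rot_of_distTriang _ hT)) n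
      (hshift _ n (n + 1) (-1) (by omega) h₂) (hshift _ (n - 1) n (-1) (by omega) h₃)

end Groth.Agent.S6204
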