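import Groth.Statements.S6205
import Groth.Agent.H16Derived.TorTest.PCDescClosed
import Groth.Agent.H16Derived.TorTest.PushProj
import Groth.Agent.H8Props.RelPCLpullComp

set_option autoImplicit false
universe u
open CategoryTheory CategoryTheory.Limits AlgebraicGeometry
attribute [local instance] HasDerivedCategory.standard
open KSix

namespace Groth.Agent.S6205

attribute [local instance] HasDerivedCategory.standard
attribute [local instance] MvPolynomial.algebraMvPolynomial
open CategoryTheory CategoryTheory.Limits AlgebraicGeometry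
open Groth.Agent.H16Derived Groth.Agent.H16Derived.KFlat Groth.Agent.H16Derived.KFlat.Stalk
open Groth.Agent.H16Derived.TorTest Groth.Agent.H8Props.PushPC Groth.Agent.H8Props.RelPC

/-- Let f : X ⟶ Y and g : Y ⟶ Z be locally of finite type, a and b integers, and E an object of D(O_X)
which is a-pseudo-coherent relative to f ≫ g (chart form) and acyclic in degrees above b. If g is (a
+ 1 - b)-pseudo-coherent (O_Y placed in degree 0 is (a + 1 - b)-pseudo-coherent relative to g), then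
E is a-pseudo-coherent relative to f. -/
theorem result {X Y Z : Scheme.{u}} (f : X ⟶ Y) (g : Y ⟶ Z)
    [LocallyOfFiniteType f] [LocallyOfFiniteType g] (a b : ℤ) (E : DCoh.D X) [E.IsLE b]
    (hE : DerSch.IsPseudoCoherentRel (f ≫ g) a E) (hg : DerSch.IsNPseudoCoherent g (a + 1 - b)) :
    DerSch.IsPseudoCoherentRel f a E := by
  refine rel_of_local f a E fun x => ?_
  obtain ⟨_, ⟨V, hV, rfl⟩, hxV, -⟩ :=
    Z.isBasis_affineOpens.exists_subset_of_mem_open (Set.mem_univ (g (f x))) isOpen_univ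
  obtain ⟨_, ⟨U, hU, rfl⟩, hxU, eU⟩ :=
    Y.isBasis_affineOpens.exists_subset_of_mem_open (show f x ∈ g ⁻¹ᵁ V from hxV) (g ⁻¹ᵁ V).2
  obtain ⟨_, ⟨W, hW, rfl⟩, hxW, eW⟩ :=
    X.isBasis_affineOpens.exists_subset_of_mem_open (show x ∈ f ⁻¹ᵁ U from hxU) (f ⁻¹ᵁ U).2
  obtain ⟨n, φ, hφ⟩ := exists_isChart g U V eU (g.finiteType_appLE hV hU eU)
  obtain ⟨k, ψ, hψ⟩ := exists_isChart f W U eW (f.finiteType_appLE hU hW eW)
  refine ⟨W, hW, U, hU, eW, k, ψ, hxW, hψ, ?_⟩
  let R := Γ(Z, V)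
  let c' := (MvPolynomial.renameEquiv R (finSumFinEquiv (m := k) (n := n)).symm).trans
    (MvPolynomial.sumAlgEquiv R (Fin k) (Fin n))
  let s : MvPolynomial (Fin k) (MvPolynomial (Fin n) R) →+* MvPolynomial (Fin k) Γ(Y, U) :=
    MvPolynomial.map φ
  let γ : MvPolynomial (Fin (k + n)) R →+* Γ(X, W) := (ψ.comp s).comp c'.toAlgHom.toRingHom
  have hs : Function.Surjective s := MvPolynomial.map_surjective φ hφ.1
  have hγ : DerSch.IsChart (f ≫ g) W V (fun z hz => eU (eW hz)) γ := by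
    refine ⟨(hψ.1.comp hs).comp c'.surjective, RingHom.ext fun r => ?_⟩
    show ψ (MvPolynomial.map φ (c' (MvPolynomial.C r))) = _
    rw [← MvPolynomial.algebraMap_eq, c'.commutes, MvPolynomial.algebraMap_apply, MvPolynomial.algebraMap_eq,
      MvPolynomial.map_C]
    refine (congr($(hψ.2) _)).trans ?_
    rw [show φ (MvPolynomial.C r) = g.appLE V U eU r from congr($(hφ.2) r)]
    exact congr($(Scheme.Hom.appLE_comp_appLE f g V U W eU eW) r)
  have hc := chartPC_of_rel hg hU hV eU φ hφ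
  have hcE := chartPC_of_rel hE hW hV (fun z hz => eU (eW hz)) γ hγ
  haveI := isClosedImmersion_chartImm hU φ hφ.1
  haveI := isClosedImmersion_chartImm hW ψ hψ.1
  haveI := isClosedImmersion_chartImm hW γ hγ.1
  rw [chartPC_iff] at hc hcE ⊢
  haveI := isClosedImmersion_toSpecΓ hU
  haveI := isClosedImmersion_toSpecΓ hW
  haveI : IsClosedImmersion (Spec.map (CommRingCat.ofHom φ)) := IsClosedImmersion.spec_of_surjective _ hφ.1
  haveI : IsClosedImmersion (Spec.map (CommRingCat.ofHom ψ)) := IsClosedImmersion.spec_of_surjective _ hψ.1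
  haveI : IsClosedImmersion (Spec.map (CommRingCat.ofHom s)) := IsClosedImmersion.spec_of_surjective _ hs
  let π := Spec.map (CommRingCat.ofHom (MvPolynomial.C (σ := Fin k) (R := Γ(Y, U))))
  let i := Spec.map (CommRingCat.ofHom ψ)
  haveI := hasLpull π
  let H := (pushD i).obj ((pushD (Scheme.Opens.toSpecΓ W)).obj ((rd (Scheme.Opens.ι W)).obj E))
  let eH : (pushD (DerSch.chartImm W ψ)).obj ((rd (Scheme.Opens.ι W)).obj E) ≅ H :=
    pushDComp (Scheme.Opens.toSpecΓ W) i (DerSch.chartImm W ψ) rfl _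
  refine isPseudoCoherentD_of_iso eH.symm ?_
  haveI : H.IsLE b :=
    haveI := isLE_rd (Scheme.Opens.ι W) E b
    haveI := isLE_pushD (Scheme.Opens.toSpecΓ W) ((rd (Scheme.Opens.ι W)).obj E) b
    isLE_pushD i _ b
  refine pc_of_pushD ((b - a).toNat + 1) (Spec.map (CommRingCat.ofHom s)) (H := H) a b (by omega) ?_ ?_
  · let e := Spec.map (CommRingCat.ofHom c'.toAlgHom.toRingHom)
    haveI : IsIso (CommRingCat.ofHom c'.toAlgHom.toRingHom) :=
      (ConcreteCategory.isIso_iff_bijective _).2 c'.bijective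
    haveI : IsIso e := inferInstance
    let cs := Spec.map (CommRingCat.ofHom (ψ.comp s))
    haveI : IsClosedImmersion cs := IsClosedImmersion.spec_of_surjective _ (hψ.1.comp hs)
    let cγ := Spec.map (CommRingCat.ofHom γ)
    haveI : IsClosedImmersion cγ := IsClosedImmersion.spec_of_surjective _ hγ.1
    have h2 : DCoh.IsPseudoCoherentD a ((pushD e).obj ((pushD (Spec.map (CommRingCat.ofHom s))).obj H)) :=
      isPseudoCoherentD_of_iso ((pushDComp (Scheme.Opens.toSpecΓ W) cγ (DerSch.chartImm W γ) rfl _) ≪≫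
        pushDComp cs e cγ (by rw [← Spec.map_comp]; rfl) _ ≪≫
        (pushD e).mapIso (pushDComp i (Spec.map (CommRingCat.ofHom s)) cs (by rw [← Spec.map_comp]; rfl) _)) hcE
    obtain ⟨a₀⟩ := nonempty_pushD_iso_rd e ((pushD (Spec.map (CommRingCat.ofHom s))).obj H)
    have h3 := isPseudoCoherentD_rd e (isPseudoCoherentD_of_iso a₀ h2)
    have h4 := isPseudoCoherentD_of_iso (rdComp e (inv e) (𝟙 _) (IsIso.hom_inv_id e) _).symm h3
    exact isPseudoCoherentD_of_rd fun p => ⟨⊤, trivial,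
      isPseudoCoherentD_of_iso (rdComp (Scheme.Opens.ι ⊤) (𝟙 _) (Scheme.Opens.ι ⊤) (Category.comp_id _) _).symm
        (isPseudoCoherentD_rd (Scheme.Opens.ι ⊤) h4)⟩
  · let G : DCoh.D (Spec (CommRingCat.of Γ(Y, U))) :=
      (pushD (Scheme.Opens.toSpecΓ U)).obj ((rd (Scheme.Opens.ι U)).obj (DCoh.toD Y (DerSch.unitCx Y)))
    have hG : DCoh.IsPseudoCoherentD (a + 1 - b) ((pushD (Spec.map (CommRingCat.ofHom φ))).obj G) :=
      isPseudoCoherentD_of_iso (pushDComp (Scheme.Opens.toSpecΓ U) (Spec.map (CommRingCat.ofHom φ)) (DerSch.chartImm U φ) rfl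
        ((rd (Scheme.Opens.ι U)).obj (DCoh.toD Y (DerSch.unitCx Y)))) hc
    obtain ⟨a₂⟩ := nonempty_pushD_toSpecΓ hU (DCoh.toD Y (DerSch.unitCx Y))
    haveI := hasLpull hU.fromSpec
    obtain ⟨a₅⟩ := QCohD.lpull_openImmersion hU.fromSpec (DCoh.toD Y (DerSch.unitCx Y))
    obtain ⟨a₆⟩ := nonempty_lpull_unit hU.fromSpec
    obtain ⟨a₇⟩ := nonempty_lpull_unit π
    exact isPseudoCoherentD_of_iso ((pushD _).mapIso ((DCoh.Lpull π).mapIso (a₂ ≪≫ a₅.symm ≪≫ a₆) ≪≫ a₇))
      (pc_pushD_mvPolynomial φ hφ.1 k G hG)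

end Groth.Agent.S6205
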