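import Groth.Statements.S6209
import Groth.Agent.H16Derived.TorTest.PushProj
import Groth.Agent.H8Props.RelPCBaseChange

set_option autoImplicit false
universe u
open CategoryTheory CategoryTheory.Limits AlgebraicGeometry
attribute [local instance] HasDerivedCategory.standard
open KSix

namespace Groth.Agent.S6209

attribute [local instance] HasDerivedCategory.standard
open CategoryTheory Groth.Agent.H16Derived Groth.Agent.H16Derived.KFlat

/-- Let f : X ⟶ Y and g : Y ⟶ Z be locally of finite type, with f r-pseudo-coherent and g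
s-pseudo-coherent (O_X, resp. O_Y, placed in degree 0 is r-, resp. s-pseudo-coherent relative to f,
resp. g, in chart form). Then f ≫ g is max(r, s)-pseudo-coherent. -/
theorem result {X Y Z : Scheme.{u}} (f : X ⟶ Y) (g : Y ⟶ Z)
    [LocallyOfFiniteType f] [LocallyOfFiniteType g] (r s : ℤ)
    (hf : DerSch.IsNPseudoCoherent f r) (hg : DerSch.IsNPseudoCoherent g s) :
    DerSch.IsNPseudoCoherent (f ≫ g) (max r s) := by
  haveI := Stalk.hasLpull f
  haveI : (DCoh.toD X (DerSch.unitCx X)).IsLE 0 := DerivedCategory.isLE_Q_obj_iff _ _ |>.2 inferInstance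
  haveI : (DCoh.toD Y (DerSch.unitCx Y)).IsLE 0 := DerivedCategory.isLE_Q_obj_iff _ _ |>.2 inferInstance
  have h := TorTest.isPseudoCoherentRel_T f g (a := r) (b := 0) (c := s) (d := 0) hf hg
  simp only [add_zero, zero_add] at h
  obtain ⟨u⟩ := H8Props.RelPC.nonempty_lpull_unit f
  let u₀ : DCoh.toD X (DerSch.unitCx X) ≅ Dual.o X 0 :=
    DerivedCategory.Q.mapIso ((shiftFunctorZero (Dual.Cx X) ℤ).app (Dual.S₀ X)).symm
  obtain ⟨w⟩ := Dual.nonempty_TObj_o (DCoh.toD X (DerSch.unitCx X)) 0
  exact H8Props.RelPC.rel_of_iso (((Dual.T X).mapIso u).app _ ≪≫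
    ((Dual.T X).obj _).mapIso u₀ ≪≫ w ≪≫ (shiftFunctorZero (DCoh.D X) ℤ).app _) h

end Groth.Agent.S6209
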