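import Groth.Statements.S6212
import Groth.Agent.H16Derived.TorTest.NhdAmp
import Groth.Agent.H16Derived.RelPCOpen2
import Groth.Agent.H8Props.RelPCRep

set_option autoImplicit false
universe u
open CategoryTheory CategoryTheory.Limits AlgebraicGeometry
attribute [local instance] HasDerivedCategory.standard
open KSix

namespace Groth.Agent.S6212

attribute [local instance] HasDerivedCategory.standard
set_option backward.isDefEq.respectTransparency false
open CategoryTheory CategoryTheory.Limits AlgebraicGeometry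
open Groth.Agent.H16Derived Groth.Agent.H16Derived.KFlat Groth.Agent.H16Derived.KFlat.Stalk
open Groth.Agent.H16Derived.TorTest Groth.Agent.H8Props Groth.Agent.H8Props.PushPC Groth.Agent.H8Props.RelPC
open Groth.Agent.H16Derived.RelPCOpen

/-- Let f : X ⟶ Y be locally of finite type, F a cochain complex of O_X-modules, a and b integers and x
a point of X. The following are equivalent: (i) on some open neighbourhood U of x, F|_U has perfect
amplitude in [a, b] relative to U ⟶ Y (pseudo-coherent relative to the morphism in chart form, and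
of tor amplitude in [a, b] stalkwise over the local rings of Y); (ii) on some open neighbourhood U
of x, F|_U is (a-1)-pseudo-coherent relative to U ⟶ Y and its cohomology sheaves vanish outside [a,
b], and the complex of stalks F_x over the local ring of Y at f x has tor amplitude in [a, b]. -/
theorem result {X Y : Scheme.{u}} (f : X ⟶ Y)
    [LocallyOfFiniteType f] (F : CochainComplex X.Modules ℤ) (a b : ℤ) (x : X) :
    (∃ U : X.Opens, x ∈ U ∧ DerSch.HasPerfAmplitudeRel (U.ι ≫ f) a b ((DCoh.restrictCx U).obj F)) ↔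
      ((∃ U : X.Opens, x ∈ U ∧
          DerSch.IsPseudoCoherentRel (U.ι ≫ f) (a - 1) (DCoh.toD (U : Scheme.{u}) ((DCoh.restrictCx U).obj F)) ∧
          ∀ i : ℤ, i < a ∨ b < i → IsZero (DCoh.HD (DCoh.toD (U : Scheme.{u}) ((DCoh.restrictCx U).obj F)) i)) ∧
        DerSch.HasTorAmplitudeAt f a b F x) := by
  constructor
  · rintro ⟨U, hx, hpc, hta⟩
    obtain ⟨h1, h2⟩ := bounds_of_ta (U.ι ≫ f) hta
    refine ⟨⟨U, hx, hpc (a - 1), fun i hi => ?_⟩, (at_restrict U.ι f a b F ⟨x, hx⟩).1 (hta ⟨x, hx⟩)⟩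
    rcases hi with hi | hi
    · exact DerivedCategory.isZero_of_isGE _ a i hi
    · exact DerivedCategory.isZero_of_isLE _ b i hi
  rintro ⟨⟨U, hxU, hpc, hH⟩, hx⟩
  let FU := (DCoh.restrictCx U).obj F
  haveI hU1 : (DCoh.toD (U : Scheme.{u}) FU).IsGE a := (DerivedCategory.isGE_iff _ _).2 fun i hi => hH i (Or.inl hi)
  haveI hU2 : (DCoh.toD (U : Scheme.{u}) FU).IsLE b := (DerivedCategory.isLE_iff _ _).2 fun i hi => hH i (Or.inr hi)
  obtain ⟨_, ⟨V, hV, rfl⟩, hxV, -⟩ :=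
    Y.isBasis_affineOpens.exists_subset_of_mem_open (Set.mem_univ (f x)) isOpen_univ
  obtain ⟨_, ⟨W', hW', rfl⟩, hxW', eW'⟩ :=
    (U : Scheme.{u}).isBasis_affineOpens.exists_subset_of_mem_open (show (⟨x, hxU⟩ : U) ∈ (U.ι ≫ f) ⁻¹ᵁ V from hxV) ((U.ι ≫ f) ⁻¹ᵁ V).2
  let W : X.Opens := U.ι ''ᵁ W'
  have hW : IsAffineOpen W := hW'.image_of_isOpenImmersion U.ι
  have hWU : W ≤ U := by
    rintro _ ⟨y, -, rfl⟩
    exact y.2
  have e : W ≤ f ⁻¹ᵁ V := by
    rintro _ ⟨y, hy, rfl⟩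
    exact eW' hy
  obtain ⟨n, φ, hφ⟩ := exists_isChart f W V e (f.finiteType_appLE hV hW e)
  haveI := isClosedImmersion_chartImm hW φ hφ.1
  have hc : DerSch.ChartPC (Y := Y) (a - 1) (DCoh.toD X F) W V φ :=
    chart_of_rel_restrict U (RelPCOpen.rel_of_iso ((rdQ U.ι).app F).symm hpc) hW hWU hV e φ hφ
  rw [chartPC_iff] at hc
  let i := DerSch.chartImm W φ
  let C₀ := CommRingCat.ofHom (MvPolynomial.C (σ := Fin n) (R := Γ(Y, V)))
  let p := Spec.map C₀ ≫ hV.fromSpec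
  haveI : Flat (Spec.map C₀) := (HasRingHomProperty.Spec_iff (P := @Flat)).2
    (RingHom.flat_algebraMap_iff.2 (inferInstanceAs (Module.Flat Γ(Y, V) (MvPolynomial (Fin n) Γ(Y, V)))))
  haveI : LocallyOfFinitePresentation (Spec.map C₀) := (HasRingHomProperty.Spec_iff (P := @LocallyOfFinitePresentation)).2
    (RingHom.finitePresentation_algebraMap.2 (inferInstanceAs (Algebra.FinitePresentation Γ(Y, V) (MvPolynomial (Fin n) Γ(Y, V)))))
  have hip : i ≫ p = W.ι ≫ f := by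
    rw [← Category.assoc]
    exact chartImm_fromSpec f hW hV e φ hφ
  let Fw : CochainComplex (W : Scheme.{u}).Modules ℤ := (DCoh.restrictCx W).obj F
  let Fi := ((Scheme.Modules.pushforward i).mapHomologicalComplex (ComplexShape.up ℤ)).obj Fw
  haveI hW1 : ((rd W.ι).obj (DCoh.toD X F)).IsGE a := by
    obtain ⟨j, hj⟩ : ∃ j : (W : Scheme.{u}) ⟶ (U : Scheme.{u}), j ≫ U.ι = W.ι := ⟨X.homOfLE hWU, X.homOfLE_ι hWU⟩
    haveI : IsOpenImmersion (j ≫ U.ι) := by rw [hj]; infer_instance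
    haveI : IsOpenImmersion j := IsOpenImmersion.of_comp j U.ι
    refine (DerivedCategory.isGE_iff _ _).2 fun k hk => ?_
    exact ((Scheme.Modules.restrictFunctor j).map_isZero (hH k (Or.inl hk))).of_iso
      ((DerivedCategory.homologyFunctor _ k).mapIso (rdComp j U.ι W.ι hj _ ≪≫ (rd j).mapIso ((rdQ U.ι).app F)) ≪≫
        homologyRdIso j _ k)
  haveI hW2 : ((rd W.ι).obj (DCoh.toD X F)).IsLE b := by
    obtain ⟨j, hj⟩ : ∃ j : (W : Scheme.{u}) ⟶ (U : Scheme.{u}), j ≫ U.ι = W.ι := ⟨X.homOfLE hWU, X.homOfLE_ι hWU⟩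
    haveI : IsOpenImmersion (j ≫ U.ι) := by rw [hj]; infer_instance
    haveI : IsOpenImmersion j := IsOpenImmersion.of_comp j U.ι
    refine (DerivedCategory.isLE_iff _ _).2 fun k hk => ?_
    exact ((Scheme.Modules.restrictFunctor j).map_isZero (hH k (Or.inr hk))).of_iso
      ((DerivedCategory.homologyFunctor _ k).mapIso (rdComp j U.ι W.ι hj _ ≪≫ (rd j).mapIso ((rdQ U.ι).app F)) ≪≫
        homologyRdIso j _ k)
  let eFi : (pushD i).obj ((rd W.ι).obj (DCoh.toD X F)) ≅ DCoh.toD _ Fi :=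
    (pushD i).mapIso ((rdQ W.ι).app F) ≪≫ pushDQ i Fw
  haveI hFi2 : (DCoh.toD _ Fi).IsLE b :=
    haveI := isLE_pushD i ((rd W.ι).obj (DCoh.toD X F)) b
    DerivedCategory.TStructure.t.isLE_of_iso eFi b
  have hFi1 : (DCoh.toD _ Fi).IsGE a := (DerivedCategory.isGE_iff _ _).2 fun k hk =>
    ((Scheme.Modules.pushforward i).map_isZero (DerivedCategory.isZero_of_isGE ((rd W.ι).obj (DCoh.toD X F)) a k hk)).of_iso
      ((DerivedCategory.homologyFunctor _ k).mapIso eFi.symm ≪≫ hdPushD i _ k)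
  have hxW : x ∈ W := ⟨⟨x, hxU⟩, hxW', rfl⟩
  have hta : DerSch.HasTorAmplitudeAt p a b Fi (i.base ⟨x, hxW⟩) :=
    (at_push_comp_iff i p a b Fw ⟨x, hxW⟩).1 ((at_congr hip a b _ _).2 ((at_restrict W.ι f a b F ⟨x, hxW⟩).2 hx))
  obtain ⟨B, hxB, hBpc, hBta⟩ := exists_nhd_amp p hFi1 (isPseudoCoherentD_of_iso eFi hc) (i.base ⟨x, hxW⟩) hta
  let Z : (W : Scheme.{u}).Opens := i ⁻¹ᵁ B
  haveI : IsClosedImmersion (i ∣_ B) := IsZariskiLocalAtTarget.restrict (P := @IsClosedImmersion) inferInstance B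
  have hsq : (i ∣_ B) ≫ B.ι ≫ p = Z.ι ≫ W.ι ≫ f := by
    rw [← Category.assoc, morphismRestrict_ι, Category.assoc, hip]
  refine ⟨W.ι ''ᵁ Z, ⟨⟨x, hxW⟩, hxB, rfl⟩, fun m => ?_, fun y => ?_⟩
  · refine RelPCOpen.rel_of_iso ((rdQ _).app F) (rel_image (f := f) W Z ?_)
    rw [← hsq]
    refine (rel_comp_iff_abs (i ∣_ B) (B.ι ≫ p) (pcMor_of_flat _) m _).2 ?_
    exact isPseudoCoherentD_of_iso (((rd B.ι).mapIso eFi ≪≫ (rdQ B.ι).app Fi).symm ≪≫ rdPushD i B _) (hBpc m)
  · obtain ⟨⟨z, hz, hzy⟩⟩ := (show Nonempty (∃ z, z ∈ Z ∧ W.ι.base z = y.1) from ⟨y.2⟩)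
    refine (at_restrict (W.ι ''ᵁ Z).ι f a b F y).2 ?_
    show DerSch.HasTorAmplitudeAt f a b F y.1
    rw [← hzy]
    refine (at_restrict W.ι f a b F z).1 ((at_congr hip a b _ _).1 ((at_push_comp_iff i p a b Fw z).2 ?_))
    exact (at_restrict B.ι p a b Fi ⟨i.base z, hz⟩).1 (hBta ⟨i.base z, hz⟩)

end Groth.Agent.S6212
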