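import Groth.Statements.S6225
import Groth.Agent.H8Props.RelPCModule
import Groth.Agent.H8Props.RelFP.Scheme
import Mathlib.RingTheory.FinitePresentation

set_option autoImplicit false
universe u
open CategoryTheory CategoryTheory.Limits AlgebraicGeometry
attribute [local instance] HasDerivedCategory.standard
open KSix

namespace Groth.Agent.S6225

open Groth.Agent.H8Props

theorem finitePresentation_iff {R S : Type u} [CommRing R] [CommRing S] [Algebra R S] :
    FlatCA.RelFinitePresentation R S S ↔ Algebra.FinitePresentation R S := by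
  constructor
  · rintro ⟨n, φ, hφ, h⟩
    letI : Module (MvPolynomial (Fin n) R) S := Module.compHom S φ.toRingHom
    haveI : Module.FinitePresentation (MvPolynomial (Fin n) R) S := h
    let l : MvPolynomial (Fin n) R →ₗ[MvPolynomial (Fin n) R] S :=
      { toFun := φ, map_add' := map_add φ, map_smul' := fun a b => map_mul φ a b }
    have hk := Module.FinitePresentation.fg_ker l hφ
    exact Algebra.FinitePresentation.of_surjective hφ hk
  · intro h
    obtain ⟨n, φ, hφ, hk⟩ := h.out
    refine ⟨n, φ, hφ, ?_⟩
    letI : Module (MvPolynomial (Fin n) R) S := Module.compHom S φ.toRingHom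
    let l : MvPolynomial (Fin n) R →ₗ[MvPolynomial (Fin n) R] S :=
      { toFun := φ, map_add' := map_add φ, map_smul' := fun a b => map_mul φ a b }
    exact Module.finitePresentation_of_surjective l hφ hk

/-- Last assertion: a morphism f : X ⟶ Y locally of finite type is (-1)-pseudo-coherent (O_X placed in
degree 0 is (-1)-pseudo-coherent relative to f, in chart form) if and only if f is locally of finite
presentation. -/
theorem result {X Y : Scheme.{u}} (f : X ⟶ Y) [LocallyOfFiniteType f] :
    DerSch.IsNPseudoCoherent f (-1) ↔ LocallyOfFinitePresentation f := by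
  refine (RelPC.rel_inD_negOne_iff f (Coh.structureModule X)).trans ⟨fun ⟨hq, h⟩ => ?_, fun h => ?_⟩
  · rw [HasRingHomProperty.eq_affineLocally @LocallyOfFinitePresentation, affineLocally_iff_affineOpens_le]
    intro V U e
    obtain ⟨_, H⟩ := RelFP.rfpAt_of_isRelFP hq h U.2 V.2 e
    letI := (f.appLE V.1 U.1 e).hom.toAlgebra
    exact finitePresentation_iff.1 H
  · have hq : Coh.IsQCoh (Coh.structureModule X) := Groth.Agent.H10Coh.isQuasicoherent_unit
    haveI := h
    refine ⟨hq, RelFP.isRelFP_of_local hq fun x => ?_⟩
    obtain ⟨_, ⟨V, hV, rfl⟩, hxV, -⟩ :=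
      Y.isBasis_affineOpens.exists_subset_of_mem_open (Set.mem_univ (f x)) isOpen_univ
    obtain ⟨_, ⟨U, hU, rfl⟩, hxU, hle⟩ :=
      X.isBasis_affineOpens.exists_subset_of_mem_open hxV (f ⁻¹ᵁ V).isOpen
    refine ⟨U, V, hU, hV, hxU, hle, ?_⟩
    letI := (f.appLE V U hle).hom.toAlgebra
    exact finitePresentation_iff.2 (f.finitePresentation_appLE hV hU hle)

end Groth.Agent.S6225
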