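import Groth.Statements.S6214
import Groth.Agent.H16Derived.TorTest.TorDimLoc
import Groth.Agent.H16Derived.BaseChange.RelFlatPull
import Groth.Agent.H8Props.RelPCTransfer
import Groth.Agent.S6225
import Groth.Agent.H8Props.RelPCBaseChange

set_option autoImplicit false
universe u
open CategoryTheory CategoryTheory.Limits AlgebraicGeometry
attribute [local instance] HasDerivedCategory.standard
open KSix

namespace Groth.Agent.S6214

open Groth.Agent.H16Derived Groth.Agent.H16Derived.KFlat Groth.Agent.H16Derived.KFlat.Stalk Groth.Agent.H8Props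

/-- A morphism f : X ⟶ Y locally of finite type has perfect dimension at most 0 (O_X placed in degree 0
is pseudo-coherent relative to f in chart form and has stalkwise tor amplitude in [0, 0] over the
local rings of Y) if and only if f is flat and locally of finite presentation. -/
theorem result {X Y : Scheme.{u}} (f : X ⟶ Y) [LocallyOfFiniteType f] :
    DerSch.HasPerfDimLE f 0 ↔ (Flat f ∧ LocallyOfFinitePresentation f) := by
  constructor
  · rintro ⟨hpc, hta⟩
    refine ⟨(AlgebraicGeometry.Flat.iff_flat_stalkMap f).2 fun x => ?_, (S6225.result f).1 (hpc (-1))⟩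
    letI := (f.stalkMap x).hom.toAlgebra
    have h := TorTest.exists_torDim_of_at_unit f (hta x)
    simp only [Nat.cast_zero, neg_zero, Int.toNat_zero] at h
    exact H8Props.PseudoCoh.hasTorDimLE_zero_iff.1 h
  · rintro ⟨h1, h2⟩
    haveI := h1
    haveI := h2
    have hfree : ∀ i, FlatMod.IsFlatOver f ((DerSch.unitCx X).X i) := fun i => by
      refine BaseChange.isFlatOver_of_isFlat f ?_
      by_cases hi : i = 0
      · subst hi
        exact isFlat_of_isFinLocFree (isFinLocFree_of_iso (HomologicalComplex.singleObjXSelf (ComplexShape.up ℤ) 0 _).symm (RelPC.isFinLocFree_structure X))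
      · exact isFlat_of_isFinLocFree (isFinLocFree_of_isZero (HomologicalComplex.isZero_single_obj_X _ 0 _ i hi))
    refine ⟨fun m => (RelPC.rel_iff_abs f (RelPC.pcMor_of_flat f) m _).2 ?_, ?_⟩
    · exact isPseudoCoherentD_of_iso (inDIsoQ _) (isPseudoCoherentD_of_isPerfect (isPerfect_inD (RelPC.isFinLocFree_structure X)) m)
    · rw [Nat.cast_zero, neg_zero]
      exact TorTest.hasTorAmplitude_of_flat f
        (fun i hi => HomologicalComplex.isZero_single_obj_X _ 0 _ i (by omega)) hfree

end Groth.Agent.S6214
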