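import Groth.Statements.S6217
import Groth.Agent.H16Derived.TorTest.SmoothAmp
import Groth.Agent.H16Derived.TorTest.PerfAmpIn
import Groth.Agent.H16Derived.TorTest.PushStalkAmp
import Groth.Agent.H16Derived.BaseChange.FinitePC
import Groth.Agent.H8Props.RelPCTransfer

set_option autoImplicit false
universe u
open CategoryTheory CategoryTheory.Limits AlgebraicGeometry
attribute [local instance] HasDerivedCategory.standard
open KSix

namespace Groth.Agent.S6217

attribute [local instance] HasDerivedCategory.standard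
open CategoryTheory AlgebraicGeometry Groth.Agent.H16Derived Groth.Agent.H16Derived.KFlat Groth.Agent.H16Derived.KFlat.Stalk Groth.Agent.H8Props

/-- Let i : X ⟶ Y be a closed immersion, g : Y ⟶ S smooth, and F a cochain complex of O_X-modules. Then
F is perfect relative to i ≫ g (pseudo-coherent relative to it in chart form, and locally on X of
finite stalkwise tor amplitude over the local rings of S) if and only if the termwise direct image
i_* F, which computes Ri_* F, is perfect on Y in the absolute sense. -/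
theorem result {X Y S : Scheme.{u}} (i : X ⟶ Y) [IsClosedImmersion i]
    (g : Y ⟶ S) [Smooth g] (F : CochainComplex X.Modules ℤ) :
    DerSch.IsPerfectRel (i ≫ g) F ↔ DCoh.IsPerfect (DCoh.toD Y (((Scheme.Modules.pushforward i).mapHomologicalComplex (ComplexShape.up ℤ)).obj F)) := by
  constructor
  · intro h
    exact BaseChange.isPerfect_of_locFiniteTorAmplitude
      (fun m => isPseudoCoherentD_of_iso (PushPC.pushDQ i F) ((RelPC.rel_comp_iff_abs i g (RelPC.pcMor_of_flat g) _ _).1 (h.1 m)))
      (TorTest.locFiniteTorAmplitude_id_push i g F h.2)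
  · intro h
    refine ⟨fun m => (RelPC.rel_comp_iff_abs i g (RelPC.pcMor_of_flat g) m _).2
      (isPseudoCoherentD_of_iso (PushPC.pushDQ i F).symm (isPseudoCoherentD_of_isPerfect h m)), fun x => ?_⟩
    obtain ⟨V, hy, hV⟩ := h (i.base x)
    let Fi := ((Scheme.Modules.pushforward i).mapHomologicalComplex (ComplexShape.up ℤ)).obj F
    obtain ⟨C, ⟨⟨a, b, h1⟩, h2⟩, ⟨e⟩⟩ := hV Fi ⟨Iso.refl _⟩
    refine ⟨i ⁻¹ᵁ V, a, b, hy, fun x' hx' => ?_⟩
    have h3 := TorTest.hasTorAmplitude_of_iso e.symm
      (TorTest.hasTorAmplitude_of_flat (𝟙 (V : Scheme.{u})) h1 fun j => isFlatOver_id (isFlat_of_isFinLocFree (h2 j))) ⟨_, hx'⟩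
    have h4 : DerSch.HasTorAmplitudeAt (V.ι ≫ 𝟙 Y) a b ((DCoh.restrictCx V).obj Fi) ⟨_, hx'⟩ :=
      (TorTest.at_congr (p' := V.ι ≫ 𝟙 Y) (by rw [Category.id_comp, Category.comp_id]) a b _ _).1
        (TorTest.at_comp (𝟙 (V : Scheme.{u})) V.ι h3)
    exact TorTest.at_comp_flat i g ((TorTest.at_push_iff i a b F x').2
      ((TorTest.at_restrict V.ι (𝟙 Y) a b Fi ⟨_, hx'⟩).1 h4))

end Groth.Agent.S6217
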