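import Groth.Statements.S6218
import Groth.Agent.H16Derived.TorTest.PushStalkAmp
import Groth.Agent.H8Props.RelPCTransfer

set_option autoImplicit false
universe u
open CategoryTheory CategoryTheory.Limits AlgebraicGeometry
attribute [local instance] HasDerivedCategory.standard
open KSix

namespace Groth.Agent.S6218

open Groth.Agent.H16Derived Groth.Agent.H16Derived.KFlat Groth.Agent.H16Derived.KFlat.Stalk Groth.Agent.H8Props

/-- Let i : X ⟶ Y be a closed immersion, g : Y ⟶ S smooth, a and b integers, and F a cochain complex of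
O_X-modules such that the termwise direct image i_* F has perfect amplitude in [a, b] on Y in the
absolute sense (locally isomorphic in D to a complex of finite locally free modules placed in [a,
b]). Then F has perfect amplitude in [a, b] relative to i ≫ g (pseudo-coherent relative to it in
chart form, with stalkwise tor amplitude in [a, b] over the local rings of S). -/
theorem result {X Y S : Scheme.{u}} (i : X ⟶ Y) [IsClosedImmersion i]
    (g : Y ⟶ S) [Smooth g] (a b : ℤ) (F : CochainComplex X.Modules ℤ)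
    (hF : KSix.HasPerfectAmplitudeIn a b (DCoh.toD Y (((Scheme.Modules.pushforward i).mapHomologicalComplex (ComplexShape.up ℤ)).obj F))) :
    DerSch.HasPerfAmplitudeRel (i ≫ g) a b F := by
  haveI : Flat g := inferInstance
  have hP : DCoh.IsPerfect (DCoh.toD Y (((Scheme.Modules.pushforward i).mapHomologicalComplex
      (ComplexShape.up ℤ)).obj F)) := fun y => by
    obtain ⟨V, hy, hV⟩ := hF y
    exact ⟨V, hy, fun G hG => by
      obtain ⟨C, h1, h2, h3⟩ := hV G hG
      exact ⟨C, ⟨⟨a, b, h1⟩, h2⟩, h3⟩⟩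
  refine ⟨fun k => (RelPC.rel_comp_iff_abs i g (RelPC.pcMor_of_flat g) k _).2 ?_, fun x => ?_⟩
  · exact isPseudoCoherentD_of_iso (PushPC.pushDQ i F).symm (isPseudoCoherentD_of_isPerfect hP k)
  · obtain ⟨V, hy, hV⟩ := hF (i.base x)
    obtain ⟨C, h1, h2, ⟨e⟩⟩ := hV (((Scheme.Modules.pushforward i).mapHomologicalComplex (ComplexShape.up ℤ)).obj F) ⟨Iso.refl _⟩
    let Fi := ((Scheme.Modules.pushforward i).mapHomologicalComplex (ComplexShape.up ℤ)).obj F
    have h3 := TorTest.hasTorAmplitude_of_iso e.symm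
      (TorTest.hasTorAmplitude_of_flat (𝟙 (V : Scheme.{u})) h1 fun j => isFlatOver_id (isFlat_of_isFinLocFree (h2 j))) ⟨_, hy⟩
    have h4 : DerSch.HasTorAmplitudeAt (V.ι ≫ 𝟙 Y) a b ((DCoh.restrictCx V).obj Fi) ⟨_, hy⟩ :=
      (TorTest.at_congr (p' := V.ι ≫ 𝟙 Y) (by rw [Category.id_comp, Category.comp_id]) a b _ _).1
        (TorTest.at_comp (𝟙 (V : Scheme.{u})) V.ι h3)
    exact TorTest.at_comp_flat i g ((TorTest.at_push_iff i a b F x).2
      ((TorTest.at_restrict V.ι (𝟙 Y) a b Fi ⟨_, hy⟩).1 h4))

end Groth.Agent.S6218
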