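import Groth.Statements.S6219
import Groth.Agent.H16Derived.TorTest.SmoothAmp
import Groth.Agent.H16Derived.TorTest.PerfAmpIn
import Groth.Agent.H8Props.RelPCTransfer

set_option autoImplicit false
universe u
open CategoryTheory CategoryTheory.Limits AlgebraicGeometry
attribute [local instance] HasDerivedCategory.standard
open KSix

namespace Groth.Agent.S6219

attribute [local instance] HasDerivedCategory.standard
open CategoryTheory Groth.Agent.H16Derived Groth.Agent.H16Derived.KFlat Groth.Agent.H16Derived.KFlat.Stalk Groth.Agent.H8Props

/-- Let i : X ⟶ Y be a closed immersion, g : Y ⟶ S smooth of relative dimension at most d (every point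
of Y has an open neighbourhood on which g is smooth of some relative dimension n ≤ d), a and b
integers, and F a cochain complex of O_X-modules with perfect amplitude in [a, b] relative to i ≫ g
(pseudo-coherent relative to it in chart form, with stalkwise tor amplitude in [a, b] over the local
rings of S). Then the termwise direct image i_* F has perfect amplitude in [a - d, b] on Y in the
absolute sense (locally isomorphic in D to a complex of finite locally free modules placed in [a -
d, b]). -/
theorem result {X Y S : Scheme.{u}} (i : X ⟶ Y) [IsClosedImmersion i]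
    (g : Y ⟶ S) [Smooth g] (d : ℕ)
    (hd : ∀ y : Y, ∃ (n : ℕ) (V : Y.Opens), n ≤ d ∧ y ∈ V ∧ SmoothOfRelativeDimension n (V.ι ≫ g))
    (a b : ℤ) (F : CochainComplex X.Modules ℤ) (hF : DerSch.HasPerfAmplitudeRel (i ≫ g) a b F) :
    KSix.HasPerfectAmplitudeIn (a - d) b (DCoh.toD Y (((Scheme.Modules.pushforward i).mapHomologicalComplex (ComplexShape.up ℤ)).obj F)) := by
  have h := TorTest.hasFlatAmplitudeIn_of_smooth g d hd _ (TorTest.hasTorAmplitude_push i g F hF.2)
  exact TorTest.hasPerfectAmplitudeIn_of_at (Iso.refl _)
    (isPseudoCoherentD_of_iso (PushPC.pushDQ i F) ((RelPC.rel_comp_iff_abs i g (RelPC.pcMor_of_flat g) _ _).1 (hF.1 _))) h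

end Groth.Agent.S6219
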