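import Groth.Statements.S6220
import Groth.Agent.H16Derived.Exchange.ProperRel
import Groth.Agent.H16Derived.TorTest.RpushAmpLoc
import Groth.Agent.H8Props.RelPCBaseChange

set_option autoImplicit false
universe u
open CategoryTheory CategoryTheory.Limits AlgebraicGeometry
attribute [local instance] HasDerivedCategory.standard
open KSix

namespace Groth.Agent.S6220

open Groth.Agent.H16Derived Groth.Agent.H16Derived.KFlat Groth.Agent.H16Derived.KFlat.Stalk Groth.Agent.H8Props

/-- Let S be a locally Noetherian scheme, p : X ⟶ S and q : Y ⟶ S locally of finite type, f : X ⟶ Y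
proper with f ≫ q = p, and E an object of D(O_X) with bounded below cohomology which is
pseudo-coherent relative to p (chart form, every degree). Then, the derived direct image being
assumed to exist, Rf_* E is pseudo-coherent relative to q. -/
theorem result {X Y S : Scheme.{u}} [IsLocallyNoetherian S]
    (p : X ⟶ S) (q : Y ⟶ S) [LocallyOfFiniteType p] [LocallyOfFiniteType q] (f : X ⟶ Y) [IsProper f] (w : f ≫ q = p)
    [DCoh.HasRpush f] (E : DCoh.D X) (a : ℤ) [E.IsGE a] (hE : DerSch.IsPseudoCoherentRelAll p E) :
    DerSch.IsPseudoCoherentRelAll q ((DCoh.Rpush f).obj E) := by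
  exact Exchange.isPseudoCoherentRelAll_rpush_proper p q f w E a hE

end Groth.Agent.S6220
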