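import Groth.Statements.S6221
import Groth.Agent.H16Derived.Exchange.ProjRel

set_option autoImplicit false
universe u
open CategoryTheory CategoryTheory.Limits AlgebraicGeometry
attribute [local instance] HasDerivedCategory.standard
open KSix

namespace Groth.Agent.S6221

open Groth.Agent.H16Derived

/-- Let S be a scheme, q : Y ⟶ S locally of finite type, i : X ⟶ P^r_Y a closed immersion with f : X ⟶ Y
the composite with the projection, and E an object of D(O_X) with bounded below cohomology which is
pseudo-coherent relative to f ≫ q : X ⟶ S (chart form, every degree). Then, the derived direct image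
being assumed to exist, Rf_* E is pseudo-coherent relative to q. (The published statement allows any
projective S-morphism f, that is a closed immersion of X into P(M) for a quasi-coherent O_Y-module M
of finite type; this row takes M free of rank r + 1.) -/
theorem result {X Y S : Scheme.{u}} (q : Y ⟶ S)
    [LocallyOfFiniteType q] (r : ℕ) (i : X ⟶ CohB1.ProjSpaceOver r Y) [IsClosedImmersion i]
    [DCoh.HasRpush (i ≫ CohB1.ProjSpaceOver.toBase r Y)] (E : DCoh.D X) (a : ℤ) [E.IsGE a]
    (hE : DerSch.IsPseudoCoherentRelAll ((i ≫ CohB1.ProjSpaceOver.toBase r Y) ≫ q) E) :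
    DerSch.IsPseudoCoherentRelAll q ((DCoh.Rpush (i ≫ CohB1.ProjSpaceOver.toBase r Y)).obj E) := by
  exact Exchange.isPseudoCoherentRelAll_rpush_projective q r i E hE

end Groth.Agent.S6221
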