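import Groth.Statements.S6223
import Groth.Agent.H16Derived.Exchange.ProperRel
import Groth.Agent.H16Derived.TorTest.RpushAmpLoc
import Groth.Agent.H8Props.RelPCBaseChange

set_option autoImplicit false
universe u
open CategoryTheory CategoryTheory.Limits AlgebraicGeometry
attribute [local instance] HasDerivedCategory.standard
open KSix

namespace Groth.Agent.S6223

open Groth.Agent.H16Derived Groth.Agent.H16Derived.KFlat Groth.Agent.H16Derived.KFlat.Stalk Groth.Agent.H8Props

/-- Case of a locally Noetherian base: let S be locally Noetherian, p : X ⟶ S and q : Y ⟶ S locally of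
finite type, f : X ⟶ Y proper with f ≫ q = p, and F a cochain complex of O_X-modules whose class in
D(O_X) has bounded cohomology and which is perfect relative to p (pseudo-coherent relative to p in
chart form, and locally on X of finite stalkwise tor amplitude over the local rings of S). Then,
Rf_* being assumed to exist, Rf_* F is perfect relative to q: every cochain complex representing it
is. -/
theorem result {X Y S : Scheme.{u}} [IsLocallyNoetherian S]
    (p : X ⟶ S) (q : Y ⟶ S) [LocallyOfFiniteType p] [LocallyOfFiniteType q] (f : X ⟶ Y) [IsProper f] (w : f ≫ q = p)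
    [DCoh.HasRpush f] (F : CochainComplex X.Modules ℤ) (a b : ℤ) [(DCoh.toD X F).IsGE a] [(DCoh.toD X F).IsLE b]
    (hF : DerSch.IsPerfectRel p F) :
    ∀ F' : CochainComplex Y.Modules ℤ, Nonempty (DCoh.toD Y F' ≅ (DCoh.Rpush f).obj (DCoh.toD X F)) →
      DerSch.IsPerfectRel q F' := by
  intro F' hF'
  haveI : IsLocallyNoetherian X := LocallyOfFiniteType.isLocallyNoetherian p
  exact ⟨fun m => RelPC.rel_of_iso hF'.some.symm
      (Exchange.isPseudoCoherentRelAll_rpush_proper p q f w (DCoh.toD X F) a hF.1 m),
    TorTest.locFiniteTorAmplitudeD_rpush p q f F w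
      (fun i => (Exchange.isCohD_of_isPseudoCoherentRelAll p hF.1 i).1) hF.2 F' hF'⟩

end Groth.Agent.S6223
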