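import Groth.Statements.S6232
import Groth.Agent.H16Derived.Exchange.ProjPC

set_option autoImplicit false
universe u
open CategoryTheory CategoryTheory.Limits AlgebraicGeometry
attribute [local instance] HasDerivedCategory.standard
open KSix

namespace Groth.Agent.S6232

open Groth.Agent.H16Derived
open Groth.Agent.H16Derived.KFlat Groth.Agent.H16Derived.KFlat.Stalk Groth.Agent.H8Props

/-- Let i : X ⟶ P^r_Y be a closed immersion with f : X ⟶ Y the composite with the projection, suppose f
pseudo-coherent (O_X placed in degree 0 is n-pseudo-coherent relative to f in chart form for every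
n), and let E be an object of D(O_X) with bounded below cohomology which is m-pseudo-coherent in the
absolute sense for every m. Then, Rf_* being assumed to exist, Rf_* E is m-pseudo-coherent on Y for
every m. (The published statement allows any projective f, a closed immersion into P(M) with M
quasi-coherent of finite type on Y; this row takes M free of rank r + 1.) -/
theorem result {X Y : Scheme.{u}} (r : ℕ)
    (i : X ⟶ CohB1.ProjSpaceOver r Y) [IsClosedImmersion i]
    (hf : ∀ n : ℤ, DerSch.IsNPseudoCoherent (i ≫ CohB1.ProjSpaceOver.toBase r Y) n)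
    [DCoh.HasRpush (i ≫ CohB1.ProjSpaceOver.toBase r Y)] (E : DCoh.D X) (a : ℤ) [E.IsGE a]
    (hE : ∀ m : ℤ, DCoh.IsPseudoCoherentD m E) (m : ℤ) :
    DCoh.IsPseudoCoherentD m ((DCoh.Rpush (i ≫ CohB1.ProjSpaceOver.toBase r Y)).obj E) := by
  haveI : LocallyOfFinitePresentation (CohB1.ProjSpaceOver.toBase r Y) := Exchange.lfp_toBase r
  exact Exchange.isPseudoCoherentD_rpush_projective r i (fun k => Exchange.pushD_pc_of_rel r i
    (fun l => (RelPC.rel_iff_abs _ (RelPC.pcMor_of_isNPseudoCoherent _ hf) l E).2 (hE l)) k) m

end Groth.Agent.S6232
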