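import Groth.Statements.S6233
import Groth.Agent.H16Derived.TorTest.FibreAmp
import Groth.Agent.S6212
import Groth.Agent.H8Props.RelPCComp
import Groth.Agent.H8Props.RelPCRep
import Groth.Agent.H16Derived.RelPCOpen2

set_option autoImplicit false
universe u
open CategoryTheory CategoryTheory.Limits AlgebraicGeometry
attribute [local instance] HasDerivedCategory.standard
open KSix

namespace Groth.Agent.S6233

set_option backward.isDefEq.respectTransparency false
open CategoryTheory CategoryTheory.Limits AlgebraicGeometry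
open Groth.Agent.H16Derived Groth.Agent.H16Derived.KFlat Groth.Agent.H16Derived.KFlat.Stalk
open Groth.Agent.H16Derived.TorTest Groth.Agent.H8Props Groth.Agent.H8Props.PushPC Groth.Agent.H8Props.RelPC
open Groth.Agent.H16Derived.RelPCOpen Groth.Agent.H4DR.TorAmp

/-- Tor amplitude on the fibre over `S`. -/
def FibTA {X Y S : Scheme.{u}} (g : Y ⟶ S) (p : X ⟶ Y) (a b : ℤ) (F : CochainComplex X.Modules ℤ) (x : X) : Prop :=
  haveI := hasLBaseChange (Ideal.Quotient.mk (Ideal.map (g.stalkMap (p.base x)).hom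
    (IsLocalRing.maximalIdeal (S.presheaf.stalk (g.base (p.base x))))))
  DRing.HasTorAmplitudeIn
    ((Y.presheaf.stalk (p.base x)) ⧸ Ideal.map (g.stalkMap (p.base x)).hom
      (IsLocalRing.maximalIdeal (S.presheaf.stalk (g.base (p.base x))))) a b
    ((DRing.LBaseChange (Ideal.Quotient.mk (Ideal.map (g.stalkMap (p.base x)).hom
      (IsLocalRing.maximalIdeal (S.presheaf.stalk (g.base (p.base x))))))).obj
      (DRing.toD ((DerSch.stalkCxOver p x).obj F)))

theorem fib_congr {X Y S : Scheme.{u}} (g : Y ⟶ S) {p p' : X ⟶ Y} (h : p = p') (a b : ℤ)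
    (F : CochainComplex X.Modules ℤ) (x : X) : FibTA g p a b F x ↔ FibTA g p' a b F x := by
  subst h; rfl

theorem fib_restrict {Z X Y S : Scheme.{u}} (g : Y ⟶ S) (j : Z ⟶ X) [IsOpenImmersion j] (p : X ⟶ Y) (a b : ℤ)
    (F : CochainComplex X.Modules ℤ) (z : Z) :
    FibTA g (j ≫ p) a b (((Scheme.Modules.restrictFunctor j).mapHomologicalComplex (ComplexShape.up ℤ)).obj F) z ↔
      FibTA g p a b F (j.base z) :=
  haveI := hasLBaseChange (Ideal.Quotient.mk (Ideal.map (g.stalkMap (p.base (j.base z))).hom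
    (IsLocalRing.maximalIdeal (S.presheaf.stalk (g.base (p.base (j.base z)))))))
  let e := (DRing.LBaseChange (Ideal.Quotient.mk (Ideal.map (g.stalkMap (p.base (j.base z))).hom
    (IsLocalRing.maximalIdeal (S.presheaf.stalk (g.base (p.base (j.base z)))))))).mapIso
    (DerivedCategory.Q.mapIso (stalkOverCompIso j p z _ ≪≫
      (DTen.resCx (p.stalkMap (j.base z)).hom).mapIso (stalkRestrictIso j F z)))
  ⟨fun h => ta_of_iso e h, fun h => ta_of_iso e.symm h⟩

theorem fib_push {Z X Y S : Scheme.{u}} (g : Y ⟶ S) (j : Z ⟶ X) [IsClosedImmersion j] (p : X ⟶ Y) (a b : ℤ)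
    (F : CochainComplex Z.Modules ℤ) (z : Z) :
    FibTA g (j ≫ p) a b F z ↔
      FibTA g p a b (((Scheme.Modules.pushforward j).mapHomologicalComplex (ComplexShape.up ℤ)).obj F) (j.base z) :=
  haveI := hasLBaseChange (Ideal.Quotient.mk (Ideal.map (g.stalkMap (p.base (j.base z))).hom
    (IsLocalRing.maximalIdeal (S.presheaf.stalk (g.base (p.base (j.base z)))))))
  let e := (DRing.LBaseChange (Ideal.Quotient.mk (Ideal.map (g.stalkMap (p.base (j.base z))).hom
    (IsLocalRing.maximalIdeal (S.presheaf.stalk (g.base (p.base (j.base z)))))))).mapIso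
    (DerivedCategory.Q.mapIso (stalkOverCompIso j p z F ≪≫ (DTen.resCx (p.stalkMap (j.base z)).hom).mapIso
      ((NatIso.mapHomologicalComplex (pushStalkOverIso j z) (ComplexShape.up ℤ)).app F).symm))
  ⟨fun h => ta_of_iso e h, fun h => ta_of_iso e.symm h⟩

/-- Criterion of relative perfection by fibres: let f : X ⟶ Y and g : Y ⟶ S with f ≫ g = h, f and h
locally of finite type, g flat and locally of finite presentation; let x be a point of X with y = f
x and s = g y, F a cochain complex of O_X-modules whose class has bounded above cohomology, and a, b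
integers. Write O_{Y_s,y} for the quotient of the local ring O_{Y,y} by the ideal generated by the
maximal ideal of O_{S,s} (the local ring at y of the fibre Y_s), and F_x for the complex of stalks
of F at x as a complex of O_{Y,y}-modules; the derived base change along O_{Y,y} → O_{Y_s,y} is
assumed to exist. Then the following are equivalent: (i) on some open neighbourhood of x, F has
perfect amplitude in [a, b] relative to h (chart-form pseudo-coherence and stalkwise tor amplitude),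
and F_x ⊗^L O_{Y_s,y} has tor amplitude in [a, b] over O_{Y_s,y}; (ii) on some open neighbourhood of
x, F has perfect amplitude in [a, b] relative to f. -/
theorem result {X Y S : Scheme.{u}} (f : X ⟶ Y) (g : Y ⟶ S)
    (h : X ⟶ S) (w : f ≫ g = h) [LocallyOfFiniteType f] [LocallyOfFiniteType h] [Flat g] [LocallyOfFinitePresentation g]
    (x : X) (F : CochainComplex X.Modules ℤ) (c : ℤ) [(DCoh.toD X F).IsLE c] (a b : ℤ)
    [DRing.HasLBaseChange (Ideal.Quotient.mk (Ideal.map (g.stalkMap (f.base x)).hom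
      (IsLocalRing.maximalIdeal (S.presheaf.stalk (g.base (f.base x))))))] :
    ((∃ U : X.Opens, x ∈ U ∧ DerSch.HasPerfAmplitudeRel (U.ι ≫ h) a b ((DCoh.restrictCx U).obj F)) ∧
        DRing.HasTorAmplitudeIn
          ((Y.presheaf.stalk (f.base x)) ⧸ Ideal.map (g.stalkMap (f.base x)).hom
            (IsLocalRing.maximalIdeal (S.presheaf.stalk (g.base (f.base x))))) a b
          ((DRing.LBaseChange (Ideal.Quotient.mk (Ideal.map (g.stalkMap (f.base x)).hom
            (IsLocalRing.maximalIdeal (S.presheaf.stalk (g.base (f.base x))))))).obj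
            (DRing.toD ((DerSch.stalkCxOver f x).obj F)))) ↔
      (∃ U : X.Opens, x ∈ U ∧ DerSch.HasPerfAmplitudeRel (U.ι ≫ f) a b ((DCoh.restrictCx U).obj F)) := by
  subst w
  constructor
  · rintro ⟨⟨U, hxU, hpc, hta⟩, hfib'⟩
    have hfib : FibTA g f a b F x := hfib'
    haveI : LocallyOfFiniteType (U.ι ≫ f) := inferInstance
    have hpcf : ∀ m, DerSch.IsPseudoCoherentRel (U.ι ≫ f) m
        (DCoh.toD (U : Scheme.{u}) ((DCoh.restrictCx U).obj F)) := fun m =>
      (rel_comp_iff (U.ι ≫ f) g m _).1 (by rw [Category.assoc]; exact hpc m)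
    obtain ⟨hU1, hU2⟩ := bounds_of_ta (U.ι ≫ f ≫ g) hta
    have hH : ∀ i : ℤ, i < a ∨ b < i → IsZero (DCoh.HD (DCoh.toD (U : Scheme.{u}) ((DCoh.restrictCx U).obj F)) i) :=
      fun i hi => by
        rcases hi with hi | hi
        · exact DerivedCategory.isZero_of_isGE _ a i hi
        · exact DerivedCategory.isZero_of_isLE _ b i hi
    refine (Groth.Agent.S6212.result f F a b x).2 ⟨⟨U, hxU, hpcf (a - 1), hH⟩, ?_⟩
    obtain ⟨_, ⟨V, hV, rfl⟩, hxV, -⟩ :=
      Y.isBasis_affineOpens.exists_subset_of_mem_open (Set.mem_univ (f x)) isOpen_univ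
    obtain ⟨_, ⟨W', hW', rfl⟩, hxW', eW'⟩ :=
      (U : Scheme.{u}).isBasis_affineOpens.exists_subset_of_mem_open
        (show (⟨x, hxU⟩ : U) ∈ (U.ι ≫ f) ⁻¹ᵁ V from hxV) ((U.ι ≫ f) ⁻¹ᵁ V).2
    let W : X.Opens := U.ι ''ᵁ W'
    have hW : IsAffineOpen W := hW'.image_of_isOpenImmersion U.ι
    have hWU : W ≤ U := by
      rintro _ ⟨y, -, rfl⟩
      exact y.2
    have e : W ≤ f ⁻¹ᵁ V := by
      rintro _ ⟨y, hy, rfl⟩
      exact eW' hy
    obtain ⟨n, φ, hφ⟩ := exists_isChart f W V e (f.finiteType_appLE hV hW e)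
    haveI := isClosedImmersion_chartImm hW φ hφ.1
    have hc : DerSch.ChartPC (Y := Y) (a - 1) (DCoh.toD X F) W V φ :=
      chart_of_rel_restrict U (RelPC.rel_of_iso ((rdQ U.ι).app F).symm (hpcf (a - 1))) hW hWU hV e φ hφ
    rw [chartPC_iff] at hc
    let i := DerSch.chartImm W φ
    let C₀ := CommRingCat.ofHom (MvPolynomial.C (σ := Fin n) (R := Γ(Y, V)))
    let p := Spec.map C₀ ≫ hV.fromSpec
    haveI : Flat (Spec.map C₀) := (HasRingHomProperty.Spec_iff (P := @Flat)).2
      (RingHom.flat_algebraMap_iff.2 (inferInstanceAs (Module.Flat Γ(Y, V) (MvPolynomial (Fin n) Γ(Y, V)))))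
    haveI : LocallyOfFinitePresentation (Spec.map C₀) := (HasRingHomProperty.Spec_iff (P := @LocallyOfFinitePresentation)).2
      (RingHom.finitePresentation_algebraMap.2 (inferInstanceAs (Algebra.FinitePresentation Γ(Y, V) (MvPolynomial (Fin n) Γ(Y, V)))))
    have hip : i ≫ p = W.ι ≫ f := by
      rw [← Category.assoc]
      exact chartImm_fromSpec f hW hV e φ hφ
    let Fw : CochainComplex (W : Scheme.{u}).Modules ℤ := (DCoh.restrictCx W).obj F
    let Fi := ((Scheme.Modules.pushforward i).mapHomologicalComplex (ComplexShape.up ℤ)).obj Fw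
    have hxW : x ∈ W := ⟨⟨x, hxU⟩, hxW', rfl⟩
    obtain ⟨j, hj⟩ : ∃ j : (W : Scheme.{u}) ⟶ (U : Scheme.{u}), j ≫ U.ι = W.ι := ⟨X.homOfLE hWU, X.homOfLE_ι hWU⟩
    haveI : IsOpenImmersion (j ≫ U.ι) := by rw [hj]; infer_instance
    haveI : IsOpenImmersion j := IsOpenImmersion.of_comp j U.ι
    have hz : ∀ k : ℤ, (k < a ∨ b < k) →
        IsZero ((DerivedCategory.homologyFunctor _ k).obj ((rd W.ι).obj (DCoh.toD X F))) := fun k hk =>
      ((Scheme.Modules.restrictFunctor j).map_isZero (hH k hk)).of_iso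
        ((DerivedCategory.homologyFunctor _ k).mapIso (rdComp j U.ι W.ι hj _ ≪≫ (rd j).mapIso ((rdQ U.ι).app F)) ≪≫
          homologyRdIso j _ k)
    let eFi : (pushD i).obj ((rd W.ι).obj (DCoh.toD X F)) ≅ DCoh.toD _ Fi :=
      (pushD i).mapIso ((rdQ W.ι).app F) ≪≫ pushDQ i Fw
    have hzi : ∀ k : ℤ, (k < a ∨ b < k) →
        IsZero ((DerivedCategory.homologyFunctor _ k).obj (DCoh.toD _ Fi)) := fun k hk =>
      ((Scheme.Modules.pushforward i).map_isZero (hz k hk)).of_iso
        ((DerivedCategory.homologyFunctor _ k).mapIso eFi.symm ≪≫ hdPushD i _ k)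
    have hFi1 : (DCoh.toD _ Fi).IsGE a := (DerivedCategory.isGE_iff _ _).2 fun k hk => hzi k (Or.inl hk)
    haveI hFi2 : (DCoh.toD _ Fi).IsLE b := (DerivedCategory.isLE_iff _ _).2 fun k hk => hzi k (Or.inr hk)
    have hS : DerSch.HasTorAmplitudeAt (p ≫ g) a b Fi (i.base ⟨x, hxW⟩) :=
      (at_push_comp_iff i (p ≫ g) a b Fw ⟨x, hxW⟩).1
        ((at_congr (p := i ≫ p ≫ g) (p' := W.ι ≫ f ≫ g) (by rw [← Category.assoc, hip, Category.assoc]) a b _ _).2
          ((at_restrict W.ι (f ≫ g) a b F ⟨x, hxW⟩).2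
            ((at_restrict U.ι (f ≫ g) a b F ⟨x, hxU⟩).1 (hta ⟨x, hxU⟩))))
    haveI := hasLBaseChange (Ideal.Quotient.mk (Ideal.map (g.stalkMap (p.base (i.base ⟨x, hxW⟩))).hom
      (IsLocalRing.maximalIdeal (S.presheaf.stalk (g.base (p.base (i.base ⟨x, hxW⟩)))))))
    have hF' : FibTA g p a b Fi (i.base ⟨x, hxW⟩) :=
      (fib_push g i p a b Fw ⟨x, hxW⟩).1 ((fib_congr g hip a b _ _).2 ((fib_restrict g W.ι f a b F ⟨x, hxW⟩).2 hfib))
    have hta' := ta_at_of_fibre p g hFi1 (isPseudoCoherentD_of_iso eFi hc) (i.base ⟨x, hxW⟩) hS hF'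
    exact (at_restrict W.ι f a b F ⟨x, hxW⟩).1
      ((at_congr hip a b _ _).1 ((at_push_comp_iff i p a b Fw ⟨x, hxW⟩).2 hta'))
  · rintro ⟨U, hxU, hpc, hta⟩
    refine ⟨⟨U, hxU, fun m => ?_, fun y => ?_⟩, ta_lbase _ ((at_restrict U.ι f a b F ⟨x, hxU⟩).1 (hta ⟨x, hxU⟩))⟩
    · rw [← Category.assoc]
      exact (rel_comp_iff (U.ι ≫ f) g m _).2 (hpc m)
    · refine (at_congr (Category.assoc U.ι f g) a b _ y).1 ?_
      have hfl : letI := (g.stalkMap ((U.ι ≫ f) y)).hom.toAlgebra
          DRing.HasTorDimLE ↑(S.presheaf.stalk (g ((U.ι ≫ f) y))) 0 ↑(Y.presheaf.stalk ((U.ι ≫ f) y)) := by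
        letI := (g.stalkMap ((U.ι ≫ f) y)).hom.toAlgebra
        exact PseudoCoh.hasTorDimLE_zero_iff.2 ((AlgebraicGeometry.Flat.iff_flat_stalkMap g).1 ‹_› _)
      simpa using at_comp_torDim (U.ι ≫ f) g (hta y) hfl

end Groth.Agent.S6233
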