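import Groth.Statements.S6237
import Groth.Agent.S10665
import Groth.Agent.S8663
import Groth.Agent.S7175

set_option autoImplicit false
universe u
open CategoryTheory CategoryTheory.Limits AlgebraicGeometry
attribute [local instance] HasDerivedCategory.standard
open KSix

namespace Groth.Agent.S6237

/-- Let i : Z ⟶ X be a closed immersion which is Koszul-regular (around every point the ideal of Z in an
affine open of X is generated by a finite sequence whose Koszul complex is acyclic in positive
degrees). Then i_*O_Z placed in degree 0 is a perfect object of D(O_X); in particular it is
pseudo-coherent. -/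
theorem result {Z X : Scheme.{u}} (i : Z ⟶ X)
    [IsClosedImmersion i] (hi : RegImm.IsRegularImmersion RegImm.Kind.koszul i) :
    DCoh.IsPerfect (DCoh.inD X ((Scheme.Modules.pushforward i).obj (Coh.structureModule Z))) := by
  refine Groth.Agent.H8Props.PerfectPush.isPerfect_push_unit i (Groth.Agent.S8663.result i fun z => ?_)
  simpa using Groth.Agent.S10665.koszulAt_etale_comp (𝟙 Z) i hi z

end Groth.Agent.S6237
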