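import Groth.Statements.S6238
import Groth.Agent.H16Derived.TorTest.KoszulPerfDim

set_option autoImplicit false
universe u
open CategoryTheory CategoryTheory.Limits AlgebraicGeometry
attribute [local instance] HasDerivedCategory.standard
open KSix

namespace Groth.Agent.S6238

/-- An immersion i : Z ⟶ X which is Koszul-regular of codimension d (around every point, over an affine
open of X on which i is a closed immersion, the ideal is generated by d sections whose Koszul
complex is acyclic in positive degrees) has perfect dimension at most d: O_Z placed in degree 0 is
pseudo-coherent relative to i (chart form) with stalkwise tor amplitude in [-d, 0] over the local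
rings of X. -/
theorem result {Z X : Scheme.{u}} (i : Z ⟶ X) (d : ℕ)
    (hi : RegImm.IsRegularImmersionOfCodim RegImm.Kind.koszul d i) :
    DerSch.HasPerfDimLE i d := by
  exact Groth.Agent.H16Derived.TorTest.hasPerfDimLE_of_koszul i d hi

end Groth.Agent.S6238
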