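import Groth.Statements.S6239
import Groth.Agent.H16Derived.TorTest.RpushAmpLoc

set_option autoImplicit false
universe u
open CategoryTheory CategoryTheory.Limits AlgebraicGeometry
attribute [local instance] HasDerivedCategory.standard
open KSix

namespace Groth.Agent.S6239

/-- Let f : X ⟶ Y be a morphism with X quasi-compact and F a cochain complex of O_X-modules which is
perfect relative to f (pseudo-coherent relative to f in chart form, and locally on X of finite
stalkwise tor amplitude over the local rings of Y). Then F has finite perfect amplitude relative to
f: one interval [a, b] works at every point of X. -/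
theorem result {X Y : Scheme.{u}} [CompactSpace X] (f : X ⟶ Y)
    (F : CochainComplex X.Modules ℤ) (hF : DerSch.IsPerfectRel f F) :
    DerSch.HasFinitePerfAmplitudeRel f F := by
  obtain ⟨a, b, hab⟩ := Groth.Agent.H16Derived.TorTest.exists_interval f F isCompact_univ hF.2
  exact ⟨a, b, hF.1, fun x => hab x (Set.mem_univ x)⟩

end Groth.Agent.S6239
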