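import Groth.Statements.S6242
import Groth.Agent.H16Derived.TorTest.ExtTensorUnit

set_option autoImplicit false
universe u
open CategoryTheory CategoryTheory.Limits AlgebraicGeometry
attribute [local instance] HasDerivedCategory.standard
open KSix

namespace Groth.Agent.S6242

attribute [local instance] HasDerivedCategory.standard
open CategoryTheory Groth.Agent.H16Derived Groth.Agent.H16Derived.KFlat

/-- Flat second factor: let S be a scheme and, for i = 1, 2, f_i : X_i ⟶ Y_i a morphism of S-schemes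
(structure morphisms q_i : Y_i ⟶ S, and X_i over S through f_i ≫ q_i), with X₂ and Y₂ flat over S.
Let X = X₁ ×_S X₂ and Y = Y₁ ×_S Y₂, given by pullback squares, and f : X ⟶ Y the morphism
compatible with the two projections. If f₁ has tor dimension at most n₁ and f₂ has tor dimension at
most n₂ (stalkwise: the local ring of the source at each point is isomorphic, in the derived
category of the local ring of the target, to a complex of flat modules placed in [-n_i, 0]), then f
has tor dimension at most n₁ + n₂; in particular f has finite tor dimension. (The published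
statement assumes only that X₁, X₂ and Y₁, Y₂ are tor-independent over S; this row takes X₂ and Y₂
flat over S, which implies both conditions, and records the bound n₁ + n₂ that the published proof
gives.) -/
theorem result {S X₁ Y₁ X₂ Y₂ X Y : Scheme.{u}} (f₁ : X₁ ⟶ Y₁) (q₁ : Y₁ ⟶ S)
    (f₂ : X₂ ⟶ Y₂) (q₂ : Y₂ ⟶ S) [Flat q₂] [Flat (f₂ ≫ q₂)]
    (pX₁ : X ⟶ X₁) (pX₂ : X ⟶ X₂) (hX : IsPullback pX₁ pX₂ (f₁ ≫ q₁) (f₂ ≫ q₂))
    (pY₁ : Y ⟶ Y₁) (pY₂ : Y ⟶ Y₂) (hY : IsPullback pY₁ pY₂ q₁ q₂)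
    (f : X ⟶ Y) (hf₁ : f ≫ pY₁ = pX₁ ≫ f₁) (hf₂ : f ≫ pY₂ = pX₂ ≫ f₂)
    (n₁ n₂ : ℕ) (h₁ : DerSch.HasTorDimLE f₁ n₁) (h₂ : DerSch.HasTorDimLE f₂ n₂) :
    DerSch.HasTorDimLE f (n₁ + n₂) := by
  haveI := Stalk.hasLpull pX₁
  haveI := Stalk.hasLpull pX₂
  obtain ⟨i⟩ := TorTest.nonempty_T_unit pX₁ pX₂
  have h := TorTest.hasTorAmplitudeD_external hX hY hf₁ hf₂ h₁ h₂ _ ⟨i⟩
  simp only [add_zero] at h
  show DerSch.HasTorAmplitude f _ 0 _
  rw [show (-((n₁ + n₂ : ℕ) : ℤ)) = -(n₁ : ℤ) + -(n₂ : ℤ) by push_cast; ring]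
  exact h

end Groth.Agent.S6242
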