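import Groth.Statements.S6244
import Groth.Agent.H16Derived.Exchange.Exact

set_option autoImplicit false
universe u
open CategoryTheory CategoryTheory.Limits AlgebraicGeometry
attribute [local instance] HasDerivedCategory.standard
open KSix

namespace Groth.Agent.S6244

open Groth.Agent.H16Derived
open Groth.Agent.H16Derived.KFlat Groth.Agent.H16Derived.KFlat.Stalk

/-- Let X be a quasi-separated scheme, p an integer, and E ∈ D⁻(O_X), given by a cochain complex F, a
(p-1)-pseudo-coherent object with quasi-coherent and locally bounded cohomology (every point has an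
open neighbourhood over which the cohomology sheaves of E vanish below some degree). If, the derived
tensor product with F being assumed to exist, the functor M ↦ H^p(M ⊗^L F) is exact on the full
subcategory of quasi-coherent O_X-modules (preserves finite limits and finite colimits there), then,
the derived pullbacks to the points Spec κ(x) ⟶ X being assumed to exist, the function x ↦
dim_{κ(x)} H^p(E ⊗^L κ(x)) is locally constant and the cohomology sheaf H^p(E) is finite locally
free. (The published statement writes the functor as M ↦ H^p(E ⊗^L M); this row takes the derived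
tensor product with F as the fixed right-hand factor, and quasi-coherence of the test modules in
Mathlib's local-presentation sense.) -/
theorem result {X : Scheme.{u}} [QuasiSeparatedSpace X]
    (F : CochainComplex X.Modules ℤ) (e : ℤ) [(DCoh.toD X F).IsLE e] (p : ℤ)
    (hq : DCoh.IsQCohD (DCoh.toD X F))
    (hb : ∀ x : X, ∃ (U : X.Opens) (a : ℤ), x ∈ U ∧ ∀ i : ℤ, i < a →
      IsZero ((Scheme.Modules.restrictFunctor U.ι).obj (DCoh.HD (DCoh.toD X F) i)))
    (hE : DCoh.IsPseudoCoherentD (p - 1) (DCoh.toD X F)) [DCoh.HasLTensorCx F]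
    [PreservesFiniteLimits ((QCohCat.isQCoh X).ι ⋙ DerivedCategory.singleFunctor X.Modules 0 ⋙ DCoh.LTensorCx F ⋙ DerivedCategory.homologyFunctor X.Modules p)]
    [PreservesFiniteColimits ((QCohCat.isQCoh X).ι ⋙ DerivedCategory.singleFunctor X.Modules 0 ⋙ DCoh.LTensorCx F ⋙ DerivedCategory.homologyFunctor X.Modules p)]
    [∀ x : X, DCoh.HasLpull (X.fromSpecResidueField x)] :
    IsLocallyConstant (fun x : X => PerfD.betti (DCoh.toD X F) x p) ∧
      FlatMod.IsFinLocFree (DCoh.HD (DCoh.toD X F) p) := by
  obtain ⟨P, hP, ⟨eP⟩⟩ := exists_kflat_rep (DCoh.toD X F)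
  let i := Exchange.gfunIso F p hP eP
  have hs : ∀ (x : X) M, Coh.IsQCoh ((Exchange.spreadF x).obj M) := fun x M => TorTest.isQCoh_spread x M
  have hi : ∀ {A B : X.Modules} (f : A ⟶ B), Coh.IsQCoh A → Coh.IsQCoh B → Coh.IsQCoh (Abelian.image f) :=
    fun {A B} f hA hB => by
      haveI : A.IsQuasicoherent := hA
      haveI : B.IsQuasicoherent := hB
      haveI := H10Coh.isQuasicoherent_cokernel f
      exact H10Coh.isQuasicoherent_kernel (cokernel.π f)
  refine (Exchange.locFree_of_tfun F p hE hP eP fun x => ⟨?_, ?_⟩).symm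
  · refine Exchange.preservesMono_tfun P p x Coh.IsQCoh (hs x) hi fun {A B} f hA hB hf => ?_
    let A' : QCohCat.QCoh X := ⟨A, hA⟩
    let B' : QCohCat.QCoh X := ⟨B, hB⟩
    let f' : A' ⟶ B' := ObjectProperty.homMk f
    haveI : Mono f' := (QCohCat.isQCoh X).ι.mono_of_mono_map hf
    haveI : Mono ((Exchange.Φ P p).map f) := ((Exchange.mono_congr i f).1).1
      (inferInstanceAs (Mono (((QCohCat.isQCoh X).ι ⋙ DerivedCategory.singleFunctor X.Modules 0 ⋙
        DCoh.LTensorCx F ⋙ DerivedCategory.homologyFunctor X.Modules p).map f')))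
    exact inferInstanceAs (Mono ((DerSch.stalkFunctor X x).map ((Exchange.Φ P p).map f)))
  · refine Exchange.preservesEpi_tfun P p x Coh.IsQCoh (hs x) hi fun {A B} f hA hB hf => ?_
    let A' : QCohCat.QCoh X := ⟨A, hA⟩
    let B' : QCohCat.QCoh X := ⟨B, hB⟩
    let f' : A' ⟶ B' := ObjectProperty.homMk f
    haveI : Epi f' := (QCohCat.isQCoh X).ι.epi_of_epi_map hf
    haveI : Epi ((Exchange.Φ P p).map f) := ((Exchange.mono_congr i f).2).1
      (inferInstanceAs (Epi (((QCohCat.isQCoh X).ι ⋙ DerivedCategory.singleFunctor X.Modules 0 ⋙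
        DCoh.LTensorCx F ⋙ DerivedCategory.homologyFunctor X.Modules p).map f')))
    exact inferInstanceAs (Epi ((DerSch.stalkFunctor X x).map ((Exchange.Φ P p).map f)))

end Groth.Agent.S6244
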