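import Groth.Statements.S6245
import Groth.Agent.H16Derived.Exchange.Nbhd

set_option autoImplicit false
universe u
open CategoryTheory CategoryTheory.Limits AlgebraicGeometry
attribute [local instance] HasDerivedCategory.standard
open KSix

namespace Groth.Agent.S6245

open Groth.Agent.H16Derived
open Groth.Agent.H16Derived.KFlat Groth.Agent.H16Derived.KFlat.Stalk

/-- Let X be a scheme, p an integer, x a point of X and E ∈ D⁻(O_X), given by a cochain complex F, a
p-pseudo-coherent object; let F_x be the complex of stalks of F at x, a complex of modules over the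
local ring O_{X,x}. The derived tensor products with F_x and with the restrictions of F to the opens
of X being assumed to exist: if the functor M ↦ H^p(M ⊗^L F_x) on O_{X,x}-modules is right exact,
then x has an open neighbourhood U such that the functor M ↦ H^p(M ⊗^L (F restricted to U)) from
O_U-modules to O_U-modules is right exact. (The published statement is for a point of a locally
ringed topos and writes the functors as M ↦ H^p(E_x ⊗^L M) and M ↦ H^p(E|_U ⊗^L M); this row is the
case of a scheme, with the derived tensor products taken with the complex as the fixed right-hand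
factor.) -/
theorem result {X : Scheme.{u}} (F : CochainComplex X.Modules ℤ)
    (e : ℤ) [(DCoh.toD X F).IsLE e] (p : ℤ) (hE : DCoh.IsPseudoCoherentD p (DCoh.toD X F)) (x : X)
    [DRing.HasLTensorCx (X.presheaf.stalk x) (((DerSch.stalkFunctor X x).mapHomologicalComplex (ComplexShape.up ℤ)).obj F)]
    [PreservesFiniteColimits (DerivedCategory.singleFunctor (ModuleCat.{u} (X.presheaf.stalk x)) 0 ⋙ DRing.LTensorCx (X.presheaf.stalk x) (((DerSch.stalkFunctor X x).mapHomologicalComplex (ComplexShape.up ℤ)).obj F) ⋙ DerivedCategory.homologyFunctor (ModuleCat.{u} (X.presheaf.stalk x)) p)]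
    [∀ U : X.Opens, DCoh.HasLTensorCx ((DCoh.restrictCx U).obj F)] :
    ∃ U : X.Opens, x ∈ U ∧ PreservesFiniteColimits (DerivedCategory.singleFunctor (U : Scheme.{u}).Modules 0 ⋙ DCoh.LTensorCx ((DCoh.restrictCx U).obj F) ⋙ DerivedCategory.homologyFunctor (U : Scheme.{u}).Modules p) := by
  obtain ⟨i⟩ := Exchange.nonempty_stalk_gfunIso F x p
  haveI := preservesFiniteColimits_of_natIso i
  have hm := Exchange.preservesMono_succ _ (Exchange.isFlat_res_X F) x p (p + 1) rfl inferInstance
  obtain ⟨U, hx, hU⟩ := Exchange.exists_nhd_leftExact F (p + 1) (by rw [add_sub_cancel_right]; exact hE) x hm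
  haveI : PreservesFiniteColimits (Exchange.Φ ((DCoh.restrictCx U).obj ((res (X := X)).obj F)) p) :=
    (Exchange.rightExact_iff_leftExact_succ _ (Exchange.shortExact_tensCx _
      fun j => isFlat_restrictFunctor U.ι (Exchange.isFlat_res_X F j)) p (p + 1) rfl).2 hU
  exact ⟨U, hx, preservesFiniteColimits_of_natIso (Exchange.gfunRestrictIso F p U).symm⟩

end Groth.Agent.S6245
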