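import Groth.Statements.S6251
import Groth.Agent.H16Derived.Exchange.Proper
import Groth.Agent.H16Derived.Exchange.QCoh
import Groth.Agent.H16Derived.Exchange.ProjPC

set_option autoImplicit false
universe u
open CategoryTheory CategoryTheory.Limits AlgebraicGeometry
attribute [local instance] HasDerivedCategory.standard
open KSix

namespace Groth.Agent.S6251

open Groth.Agent.H16Derived
open Groth.Agent.H16Derived.KFlat Groth.Agent.H16Derived.KFlat.Stalk

/-- Let Y be a quasi-compact quasi-separated scheme, r a natural number, i : X ⟶ P^r_Y a closed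
immersion with f : X ⟶ Y its composite with the projection, p an integer, and E ∈ D^b(O_X), given by
a cochain complex F, perfect relative to f (pseudo-coherent relative to f in chart form and locally
on X of finite stalkwise tor amplitude over the local rings of Y). The derived functors Lf^*, − ⊗^L
F and Rf_* and the derived pullbacks to the points Spec κ(y) ⟶ Y being assumed to exist: if the
functor M ↦ R^p f_*(Lf^* M ⊗^L F) is exact on the full subcategory of quasi-coherent O_Y-modules
(preserves finite limits and finite colimits there), then H^p(Rf_* E) is a finite locally free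
O_Y-module and the function y ↦ dim_{κ(y)} H^p(Rf_* E ⊗^L κ(y)) is locally constant on Y. (The
published statement is for a proper morphism of quasi-compact schemes with Y quasi-separated, under
the finiteness property for proper pseudo-coherent direct images, which holds for projective
morphisms; it allows a closed immersion into P(M) with M quasi-coherent of finite type on Y, and
this row takes M free of rank r + 1; it writes the functor as M ↦ R^p f_*(E ⊗^L Lf^* M), and this
row takes the derived tensor product with F as the fixed right-hand factor.) -/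
theorem result {X Y : Scheme.{u}} [CompactSpace Y]
    [QuasiSeparatedSpace Y] (r : ℕ) (i : X ⟶ CohB1.ProjSpaceOver r Y) [IsClosedImmersion i]
    (F : CochainComplex X.Modules ℤ) (a b : ℤ) [(DCoh.toD X F).IsGE a] [(DCoh.toD X F).IsLE b]
    (hF : DerSch.IsPerfectRel (i ≫ CohB1.ProjSpaceOver.toBase r Y) F) (p : ℤ) [DCoh.HasLpull (i ≫ CohB1.ProjSpaceOver.toBase r Y)]
    [DCoh.HasLTensorCx F] [DCoh.HasRpush (i ≫ CohB1.ProjSpaceOver.toBase r Y)]
    [PreservesFiniteLimits ((QCohCat.isQCoh Y).ι ⋙ DerivedCategory.singleFunctor Y.Modules 0 ⋙ DCoh.Lpull (i ≫ CohB1.ProjSpaceOver.toBase r Y) ⋙ DCoh.LTensorCx F ⋙ DCoh.Rpush (i ≫ CohB1.ProjSpaceOver.toBase r Y) ⋙ DerivedCategory.homologyFunctor Y.Modules p)]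
    [PreservesFiniteColimits ((QCohCat.isQCoh Y).ι ⋙ DerivedCategory.singleFunctor Y.Modules 0 ⋙ DCoh.Lpull (i ≫ CohB1.ProjSpaceOver.toBase r Y) ⋙ DCoh.LTensorCx F ⋙ DCoh.Rpush (i ≫ CohB1.ProjSpaceOver.toBase r Y) ⋙ DerivedCategory.homologyFunctor Y.Modules p)]
    [∀ y : Y, DCoh.HasLpull (Y.fromSpecResidueField y)] :
    FlatMod.IsFinLocFree (DCoh.HD ((DCoh.Rpush (i ≫ CohB1.ProjSpaceOver.toBase r Y)).obj (DCoh.toD X F)) p) ∧
      IsLocallyConstant (fun y : Y => PerfD.betti ((DCoh.Rpush (i ≫ CohB1.ProjSpaceOver.toBase r Y)).obj (DCoh.toD X F)) y p) := by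
  haveI : IsProper (CohB1.ProjSpaceOver.toBase r Y) := Groth.Agent.H27Weil.isProper_toBase r Y
  have hpush := Exchange.pushD_pc_of_rel r i hF.1
  have hq := Exchange.isQCohD_of_pushD i hpush
  obtain ⟨P, hP, ⟨eP⟩, hiso⟩ := Exchange.exists_pushΦIso (i ≫ CohB1.ProjSpaceOver.toBase r Y) F hq
  obtain ⟨j⟩ := hiso p
  haveI : PreservesFiniteLimits ((QCohCat.isQCoh Y).ι ⋙ Exchange.Φ P p) := preservesFiniteLimits_of_natIso j
  haveI : PreservesFiniteColimits ((QCohCat.isQCoh Y).ι ⋙ Exchange.Φ P p) := preservesFiniteColimits_of_natIso j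
  obtain ⟨h1, h2⟩ := Exchange.locFree_of_tfun P p
    (isPseudoCoherentD_of_iso eP.symm (Exchange.isPseudoCoherentD_rpush_projective r i hpush (p - 1))) hP (Iso.refl _)
    (Exchange.tfun_of_qcoh P p)
  exact ⟨isFinLocFree_of_iso ((DerivedCategory.homologyFunctor Y.Modules p).mapIso eP) h1, by
    have : (fun y : Y => PerfD.betti (DCoh.toD Y P) y p) =
        fun y : Y => PerfD.betti ((DCoh.Rpush (i ≫ CohB1.ProjSpaceOver.toBase r Y)).obj (DCoh.toD X F)) y p :=
      funext fun y => Exchange.betti_congr eP y p
    exact this ▸ h2⟩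

end Groth.Agent.S6251
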