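import Groth.Statements.S6257
import Groth.Agent.H16Derived.TorTest.ExtTensor
import Groth.Agent.H16Derived.TorTest.RpushAmp

set_option autoImplicit false
universe u
open CategoryTheory CategoryTheory.Limits AlgebraicGeometry
attribute [local instance] HasDerivedCategory.standard
open KSix

namespace Groth.Agent.S6257

attribute [local instance] HasDerivedCategory.standard
open CategoryTheory Groth.Agent.H16Derived Groth.Agent.H16Derived.KFlat

/-- Flat second factor: let S be a scheme and, for i = 1, 2, f_i : X_i ⟶ Y_i a morphism of S-schemes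
(structure morphisms q_i : Y_i ⟶ S), with X₂ and Y₂ flat over S; let X = X₁ ×_S X₂ and Y = Y₁ ×_S Y₂
be given by pullback squares, with projections p₁ : X ⟶ X₁, p₂ : X ⟶ X₂, and f : X ⟶ Y the morphism
compatible with the projections. Let E_i be a cochain complex of O_{X_i}-modules with tor amplitude
in [a_i, b_i] relative to f_i (stalkwise: flat models placed in [a_i, b_i] over the local rings of
Y_i). The external derived tensor product E₁ ⊗^L_S E₂ = Lp₁^* E₁ ⊗^L Lp₂^* E₂ is written, the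
derived pullbacks being assumed to exist, as Lp₁^* E₁ ⊗^L K₂ for any cochain complex K₂ representing
Lp₂^* E₂ for which the derived tensor product exists. Then E₁ ⊗^L_S E₂ has tor amplitude in [a₁ +
a₂, b₁ + b₂] relative to f: every cochain complex representing it has stalkwise flat models in that
interval over the local rings of Y. (The published statement assumes only that X₁, X₂ and Y₁, Y₂ are
tor-independent over S; this row takes X₂ and Y₂ flat over S, which implies both conditions.) -/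
theorem result {S X₁ Y₁ X₂ Y₂ X Y : Scheme.{u}} (f₁ : X₁ ⟶ Y₁) (q₁ : Y₁ ⟶ S)
    (f₂ : X₂ ⟶ Y₂) (q₂ : Y₂ ⟶ S) [Flat q₂] [Flat (f₂ ≫ q₂)]
    (pX₁ : X ⟶ X₁) (pX₂ : X ⟶ X₂) (hX : IsPullback pX₁ pX₂ (f₁ ≫ q₁) (f₂ ≫ q₂))
    (pY₁ : Y ⟶ Y₁) (pY₂ : Y ⟶ Y₂) (hY : IsPullback pY₁ pY₂ q₁ q₂)
    (f : X ⟶ Y) (hf₁ : f ≫ pY₁ = pX₁ ≫ f₁) (hf₂ : f ≫ pY₂ = pX₂ ≫ f₂)
    (E₁ : CochainComplex X₁.Modules ℤ) (a₁ b₁ : ℤ) (h₁ : DerSch.HasTorAmplitude f₁ a₁ b₁ E₁)
    (E₂ : CochainComplex X₂.Modules ℤ) (a₂ b₂ : ℤ) (h₂ : DerSch.HasTorAmplitude f₂ a₂ b₂ E₂)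
    [DCoh.HasLpull pX₁] [DCoh.HasLpull pX₂] :
    ∀ (K₂ : CochainComplex X.Modules ℤ) [DCoh.HasLTensorCx K₂],
      Nonempty (DCoh.toD X K₂ ≅ (DCoh.Lpull pX₂).obj (DCoh.toD X₂ E₂)) →
        DerSch.HasTorAmplitudeD f (a₁ + a₂) (b₁ + b₂) ((DCoh.LTensorCx K₂).obj ((DCoh.Lpull pX₁).obj (DCoh.toD X₁ E₁))) := by
  intro K₂ _ ⟨e⟩
  let L₁ := (DCoh.Lpull pX₁).obj (DCoh.toD X₁ E₁)
  let L₂ := (DCoh.Lpull pX₂).obj (DCoh.toD X₂ E₂)
  intro K ⟨eK⟩
  exact TorTest.hasTorAmplitudeD_external hX hY hf₁ hf₂ h₁ h₂ K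
    ⟨eK ≪≫ ((Dual.ltensorCxIsoT K₂).app L₁).symm ≪≫ ((Dual.T X).obj L₁).mapIso e ≪≫ Dual.σ L₁ L₂⟩

end Groth.Agent.S6257
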