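import Groth.Statements.S6260
import Groth.Agent.H16Derived.TorTest.ExtTensorUnit

set_option autoImplicit false
universe u
open CategoryTheory CategoryTheory.Limits AlgebraicGeometry
attribute [local instance] HasDerivedCategory.standard
open KSix

namespace Groth.Agent.S6260

attribute [local instance] HasDerivedCategory.standard
open CategoryTheory Groth.Agent.H16Derived Groth.Agent.H16Derived.KFlat

/-- Let S be a scheme and, for i = 1, 2, f_i : X_i ⟶ Y_i a morphism of S-schemes (structure morphisms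
q_i : Y_i ⟶ S), with X₂ and Y₂ flat over S; let X = X₁ ×_S X₂ and Y = Y₁ ×_S Y₂ be given by pullback
squares, with projections p₁ : X ⟶ X₁, p₂ : X ⟶ X₂, and f : X ⟶ Y the morphism compatible with the
projections. If f₁ and f₂ are locally of finite type and pseudo-coherent (their structure sheaves in
degree 0 are n-pseudo-coherent relative to them for every n, in chart form), then f = f₁ ×_S f₂ is
pseudo-coherent. (The published statement assumes only that X₁, X₂ and Y₁, Y₂ are tor-independent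
over S; this row takes X₂ and Y₂ flat over S, which implies both conditions.) -/
theorem result {S X₁ Y₁ X₂ Y₂ X Y : Scheme.{u}} (f₁ : X₁ ⟶ Y₁) (q₁ : Y₁ ⟶ S)
    (f₂ : X₂ ⟶ Y₂) (q₂ : Y₂ ⟶ S) [Flat q₂] [Flat (f₂ ≫ q₂)]
    (pX₁ : X ⟶ X₁) (pX₂ : X ⟶ X₂) (hX : IsPullback pX₁ pX₂ (f₁ ≫ q₁) (f₂ ≫ q₂))
    (pY₁ : Y ⟶ Y₁) (pY₂ : Y ⟶ Y₂) (hY : IsPullback pY₁ pY₂ q₁ q₂)
    (f : X ⟶ Y) (hf₁ : f ≫ pY₁ = pX₁ ≫ f₁) (hf₂ : f ≫ pY₂ = pX₂ ≫ f₂)
    [LocallyOfFiniteType f₁] [LocallyOfFiniteType f₂]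
    (h₁ : ∀ n : ℤ, DerSch.IsNPseudoCoherent f₁ n) (h₂ : ∀ n : ℤ, DerSch.IsNPseudoCoherent f₂ n) (n : ℤ) :
    DerSch.IsNPseudoCoherent f n := by
  haveI := Stalk.hasLpull pX₁
  haveI := Stalk.hasLpull pX₂
  haveI : (DCoh.toD X₁ (DerSch.unitCx X₁)).IsLE 0 := DerivedCategory.isLE_Q_obj_iff _ _ |>.2 inferInstance
  haveI : (DCoh.toD X₂ (DerSch.unitCx X₂)).IsLE 0 := DerivedCategory.isLE_Q_obj_iff _ _ |>.2 inferInstance
  have h := TorTest.isPseudoCoherentRel_external hX hY hf₁ hf₂ (b₁ := 0) (b₂ := 0) (h₁ n) (h₂ n)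
  simp only [add_zero, max_self] at h
  obtain ⟨i⟩ := TorTest.nonempty_T_unit pX₁ pX₂
  exact H8Props.RelPC.rel_of_iso i.symm h

end Groth.Agent.S6260
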