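import Groth.Statements.S6282
import Mathlib.RingTheory.Flat.FaithfullyFlat.Basic
import Mathlib.RingTheory.Flat.Stability

set_option autoImplicit false
universe u
open scoped TensorProduct
open CAlg

namespace Groth.Agent.S6282

theorem inj_iff {R S S' : Type u} [CommRing R] [CommRing S] [CommRing S'] [Algebra R S]
    [Algebra R S'] [Algebra S S'] [IsScalarTower R S S'] (M : Type u) [AddCommGroup M]
    [Module S M] [Module R M] [IsScalarTower R S M] {N N' : Type u} [AddCommGroup N] [Module R N]
    [AddCommGroup N'] [Module R N'] (g : N →ₗ[R] N') :
    Function.Injective (g.lTensor (S' ⊗[S] M)) ↔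
      Function.Injective ((TensorProduct.AlgebraTensorModule.map (LinearMap.id : M →ₗ[S] M) g).lTensor S') := by
  let e := TensorProduct.AlgebraTensorModule.assoc R S S' S' M N
  let e' := TensorProduct.AlgebraTensorModule.assoc R S S' S' M N'
  have : (g.lTensor (S' ⊗[S] M) : _ → _) =
      e'.symm ∘ ((TensorProduct.AlgebraTensorModule.map (LinearMap.id : M →ₗ[S] M) g).lTensor S') ∘ e := by
    funext z
    induction z using TensorProduct.induction_on with
    | zero => simp
    | tmul a n =>
      induction a using TensorProduct.induction_on with
      | zero => simp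
      | tmul s m => simp [e, e']
      | add a b ha hb =>
        simp only [Function.comp_apply, TensorProduct.add_tmul, map_add] at ha hb ⊢
        rw [ha, hb]
    | add a b ha hb =>
      simp only [Function.comp_apply, map_add] at ha hb ⊢
      rw [ha, hb]
  rw [this]
  exact (EquivLike.comp_injective _ e'.symm).trans (EquivLike.injective_comp e _)

/-- Let S → S' be a homomorphism of R-algebras, M an S-module, and M' = S' ⊗_S M with its induced
R-module structure. (1) When S' is flat over S, R-flatness of M passes to M'. (2) When S' is
faithfully flat over S, M is R-flat exactly when M' is. -/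
theorem result {R S S' : Type u} [CommRing R] [CommRing S] [CommRing S'] [Algebra R S] [Algebra R S'] [Algebra S S'] [IsScalarTower R S S'] (M : Type u) [AddCommGroup M] [Module S M] [Module R M] [IsScalarTower R S M] : ([Module.Flat S S'] → Module.Flat R M → Module.Flat R (S' ⊗[S] M)) ∧ ([Module.FaithfullyFlat S S'] → (Module.Flat R M ↔ Module.Flat R (S' ⊗[S] M))) := by
  refine ⟨?_, ?_⟩
  · intro hflat hM
    rw [Module.Flat.iff_lTensor_preserves_injective_linearMap]
    intro N N' _ _ _ _ g hg
    exact (inj_iff M g).mpr
      (Module.Flat.lTensor_preserves_injective_linearMap _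
        (Module.Flat.lTensor_preserves_injective_linearMap g hg))
  · intro hff
    refine ⟨fun hM => ?_, fun hM => ?_⟩
    · rw [Module.Flat.iff_lTensor_preserves_injective_linearMap]
      intro N N' _ _ _ _ g hg
      exact (inj_iff M g).mpr
        (Module.Flat.lTensor_preserves_injective_linearMap _
          (Module.Flat.lTensor_preserves_injective_linearMap g hg))
    · rw [Module.Flat.iff_lTensor_preserves_injective_linearMap]
      intro N N' _ _ _ _ g hg
      exact (Module.FaithfullyFlat.lTensor_injective_iff_injective S S'
        (TensorProduct.AlgebraTensorModule.map (LinearMap.id : M →ₗ[S] M) g)).mp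
        ((inj_iff M g).mp (Module.Flat.lTensor_preserves_injective_linearMap g hg))

end Groth.Agent.S6282
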