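import Groth.Statements.S6864
import Mathlib.RingTheory.Nakayama
import Mathlib.LinearAlgebra.TensorProduct.Quotient
import Mathlib.LinearAlgebra.TensorProduct.RightExactness

set_option autoImplicit false
universe u
open TensorProduct
open CAlg

namespace Groth.Agent.S6864

theorem one_tmul_eq_zero_iff {R : Type u} [CommRing R] (I : Ideal R) {M : Type u}
    [AddCommGroup M] [Module R M] (m : M) :
    (1 : R ⧸ I) ⊗ₜ[R] m = 0 ↔ m ∈ I • (⊤ : Submodule R M) := by
  rw [← LinearEquiv.map_eq_zero_iff (TensorProduct.quotTensorEquivQuotSMul M I)]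
  have : (TensorProduct.quotTensorEquivQuotSMul M I) ((1 : R ⧸ I) ⊗ₜ[R] m)
      = Submodule.Quotient.mk ((1 : R) • m) := TensorProduct.quotTensorEquivQuotSMul_mk_tmul I 1 m
  rw [this, one_smul, Submodule.Quotient.mk_eq_zero]

theorem exists_one_tmul {R : Type u} [CommRing R] (I : Ideal R) {M : Type u}
    [AddCommGroup M] [Module R M] (z : (R ⧸ I) ⊗[R] M) : ∃ m : M, (1 : R ⧸ I) ⊗ₜ[R] m = z :=
  TensorProduct.mk_surjective R M (R ⧸ I) Ideal.Quotient.mk_surjective z

/-- Let `I` be an ideal of a commutative ring `R` contained in the Jacobson radical and let `φ : P → P'`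
be an `R`-linear map between finite projective `R`-modules. If the induced map `P/IP → P'/IP'` is
bijective, then `φ` is bijective. -/
theorem result {R : Type u} [CommRing R] (I : Ideal R)
    (hI : I ≤ Ideal.jacobson (⊥ : Ideal R)) {P P' : Type u}
    [AddCommGroup P] [Module R P] [Module.Finite R P] [Module.Projective R P]
    [AddCommGroup P'] [Module R P'] [Module.Finite R P'] [Module.Projective R P'] (φ : P →ₗ[R] P')
    (h : Function.Bijective (φ.baseChange (R ⧸ I))) : Function.Bijective φ := by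
  have hsurj : Function.Surjective φ := by
    rw [← LinearMap.range_eq_top, eq_top_iff]
    refine Submodule.le_of_le_smul_of_le_jacobson_bot Module.Finite.fg_top hI ?_
    intro y _
    obtain ⟨z, hz⟩ := h.2 ((1 : R ⧸ I) ⊗ₜ[R] y)
    obtain ⟨x, rfl⟩ := exists_one_tmul I z
    rw [LinearMap.baseChange_tmul] at hz
    have : y - φ x ∈ I • (⊤ : Submodule R P') := by
      rw [← one_tmul_eq_zero_iff, TensorProduct.tmul_sub, hz, sub_self]
    exact Submodule.mem_sup.mpr ⟨φ x, ⟨x, rfl⟩, y - φ x, this, by simp⟩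
  refine ⟨?_, hsurj⟩
  obtain ⟨s, hs⟩ := Module.projective_lifting_property φ LinearMap.id hsurj
  have hs' : ∀ y, φ (s y) = y := fun y => LinearMap.congr_fun hs y
  let ρ : P →ₗ[R] P := LinearMap.id - s ∘ₗ φ
  have hK : LinearMap.ker φ = LinearMap.range ρ := by
    ext x
    constructor
    · intro hx
      exact ⟨x, by simp [ρ, show φ x = 0 from hx]⟩
    · rintro ⟨y, rfl⟩
      simp [ρ, hs']
  rw [← LinearMap.ker_eq_bot]
  refine Submodule.eq_bot_of_le_smul_of_le_jacobson_bot I _ ?_ ?_ hI
  · rw [hK, ← Submodule.map_top]; exact Module.Finite.fg_top.map ρ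
  · intro x hx
    have hx0 : φ x = 0 := hx
    have h1 : (1 : R ⧸ I) ⊗ₜ[R] x = 0 := h.1 (by simp [hx0])
    have h2 := Submodule.mem_map_of_mem (f := ρ) ((one_tmul_eq_zero_iff I x).mp h1)
    rw [Submodule.map_smul'', Submodule.map_top, ← hK] at h2
    simpa [ρ, hx0] using h2

end Groth.Agent.S6864
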