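import Groth.Statements.S6263
import Mathlib.RingTheory.Flat.Localization
import Groth.Agent.S6282
import Groth.Agent.S6864
import Mathlib.RingTheory.Localization.AtPrime.Basic
import Mathlib.RingTheory.Nakayama
import Mathlib.RingTheory.Spectrum.Prime.Module
import Mathlib.RingTheory.Flat.Stability
import Mathlib.Algebra.Module.LocalizedModule.IsLocalization
import Mathlib.Algebra.Module.LocalizedModule.Submodule

set_option autoImplicit false
universe u
open CAlg

namespace Groth.Agent.S6263

/-- For a ring map R → S and a finite S-module N which is flat as an R-module, generalizations lift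
along the map from the support of N (a subset of Spec S) to Spec R: if p ≤ p' are primes of R and q'
is a prime of S in the support of N whose inverse image in R is p', then some prime q ≤ q' of S lies
in the support of N and has inverse image p. -/
theorem result {R S : Type u} [CommRing R] [CommRing S] [Algebra R S] (N : Type u) [AddCommGroup N] [Module S N] [Module R N] [IsScalarTower R S N] [Module.Finite S N] [Module.Flat R N] (p p' : Ideal R) [p.IsPrime] [p'.IsPrime] (hle : p ≤ p') (q' : PrimeSpectrum S) (hq' : q' ∈ Module.support S N) (hover : q'.asIdeal.under R = p') : ∃ q : PrimeSpectrum S, q ≤ q' ∧ q ∈ Module.support S N ∧ q.asIdeal.under R = p := by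
  open scoped TensorProduct in
  let A := Localization.AtPrime q'.asIdeal
  let L := TensorProduct S A N
  haveI : Nontrivial (LocalizedModule q'.asIdeal.primeCompl N) := Module.mem_support_iff.mp hq'
  haveI : Nontrivial L := (LocalizedModule.equivTensorProduct q'.asIdeal.primeCompl N).symm.toEquiv.nontrivial
  haveI : Module.Flat S A := IsLocalization.flat A q'.asIdeal.primeCompl
  haveI : Module.Flat R L := (S6282.result (R := R) (S := S) (S' := A) N).1 ‹_›
  let J : Ideal A := p.map (algebraMap R A)
  let K : Submodule A L := J • ⊤
  have hKR : K.restrictScalars R = p • (⊤ : Submodule R L) := by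
    simp [K, J, Ideal.smul_restrictScalars]
  have hJ : J ≤ IsLocalRing.maximalIdeal A := by
    rw [Ideal.map_le_iff_le_comap]
    intro r hr
    have : algebraMap R S r ∈ q'.asIdeal := by
      have h := hle hr; rw [← hover] at h; exact h
    rw [Ideal.mem_comap, IsScalarTower.algebraMap_apply R S A]
    rw [IsLocalization.AtPrime.to_map_mem_maximal_iff A q'.asIdeal]
    exact this
  have hne : K ≠ ⊤ := fun h => by
    have := Submodule.eq_bot_of_le_smul_of_le_jacobson_bot J (⊤ : Submodule A L) Module.Finite.fg_top
      h.ge (hJ.trans (IsLocalRing.maximalIdeal_le_jacobson _))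
    exact top_ne_bot this
  have hreg : ∀ r : R, r ∉ p → ∀ y : L, r • y ∈ K → y ∈ K := by
    intro r hr y hy
    have hy' : r • y ∈ p • (⊤ : Submodule R L) := hKR ▸ hy
    rw [← S6864.one_tmul_eq_zero_iff] at hy'
    show y ∈ K.restrictScalars R
    rw [hKR, ← S6864.one_tmul_eq_zero_iff]
    have hinj : Function.Injective (LinearMap.lsmul R (R ⧸ p) r) := by
      rw [injective_iff_map_eq_zero]
      intro z hz
      obtain ⟨z, rfl⟩ := Ideal.Quotient.mk_surjective z
      rw [LinearMap.lsmul_apply, Algebra.smul_def, Ideal.Quotient.algebraMap_eq, ← map_mul,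
        Ideal.Quotient.eq_zero_iff_mem] at hz
      exact Ideal.Quotient.eq_zero_iff_mem.mpr ((‹p.IsPrime›.mem_or_mem hz).resolve_left hr)
    apply Module.Flat.rTensor_preserves_injective_linearMap _ hinj
    rw [LinearMap.rTensor_tmul, map_zero, LinearMap.lsmul_apply, TensorProduct.smul_tmul]
    exact hy'
  obtain ⟨x, -, hx⟩ := SetLike.exists_of_lt (lt_top_iff_ne_top.mpr hne)
  let Q₀ : Ideal A := K.comap (LinearMap.toSpanSingleton A L x)
  have hdisj : Disjoint (Q₀ : Set A) (p.primeCompl.map (algebraMap R A) : Set A) := by
    rw [Set.disjoint_left]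
    rintro a ha ⟨r, hr, rfl⟩
    refine hx (hreg r hr x ?_)
    have : algebraMap R A r • x ∈ K := ha
    rwa [algebraMap_smul] at this
  obtain ⟨Q, hQ, hQ₀, hQd⟩ := Ideal.exists_le_prime_disjoint Q₀ _ hdisj
  refine ⟨⟨Q.comap (algebraMap S A), Ideal.IsPrime.comap _⟩, ?_, ?_, ?_⟩
  · intro a ha
    by_contra ha'
    exact hQ.ne_top (Ideal.eq_top_of_isUnit_mem _ ha
      (IsLocalization.map_units A (⟨a, ha'⟩ : q'.asIdeal.primeCompl)))
  · rw [Module.mem_support_iff_of_finite]
    intro a ha
    apply hQ₀
    show algebraMap S A a • x ∈ K
    rw [algebraMap_smul]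
    have : ∀ z : L, a • z = 0 := by
      intro z
      induction z using TensorProduct.induction_on with
      | zero => simp
      | tmul c n => rw [← TensorProduct.tmul_smul, Module.mem_annihilator.mp ha, TensorProduct.tmul_zero]
      | add u v hu hv => rw [smul_add, hu, hv, add_zero]
    rw [this]; exact K.zero_mem
  · apply le_antisymm
    · intro r hr
      by_contra hr'
      refine Set.disjoint_left.mp hQd ?_ ⟨r, hr', rfl⟩
      have : algebraMap S A (algebraMap R S r) ∈ Q := hr
      rwa [← IsScalarTower.algebraMap_apply] at this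
    · intro r hr
      show algebraMap S A (algebraMap R S r) ∈ Q
      rw [← IsScalarTower.algebraMap_apply]
      apply hQ₀
      show algebraMap R A r • x ∈ K
      exact Submodule.smul_mem_smul (Ideal.mem_map_of_mem _ hr) trivial

end Groth.Agent.S6263
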