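import Groth.Statements.S6264
import Mathlib.RingTheory.Localization.LocalizationLocalization
import Mathlib.RingTheory.Ideal.Maximal

set_option autoImplicit false
universe u
open CAlg

namespace Groth.Agent.S6264

/-- Let R → S be a ring map with the going-up property and p a prime of R such that exactly one prime q
of S lies over p. Then the localization S_p of S at the image of R - p is a localization of S at q,
i.e. S_p = S_q. -/
theorem result {R S : Type u} [CommRing R] [CommRing S] [Algebra R S] [Algebra.HasGoingUp R S] (p : Ideal R) [p.IsPrime] (q : Ideal S) [q.IsPrime] [q.LiesOver p] (huniq : ∀ q' : Ideal S, q'.IsPrime → q'.under R = p → q' = q) : IsLocalization.AtPrime (Localization (Algebra.algebraMapSubmonoid S p.primeCompl)) q := by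
  apply IsLocalization.isLocalization_of_is_exists_mul_mem _ (Algebra.algebraMapSubmonoid S p.primeCompl) q.primeCompl
  · rintro _ ⟨r, hr, rfl⟩ hmem
    exact hr ((Ideal.mem_of_liesOver q p r).mpr hmem)
  · rintro ⟨t, ht⟩
    by_contra hcon
    push Not at hcon
    obtain ⟨P, hP, htP, hdis⟩ := Ideal.exists_le_prime_disjoint (Ideal.span {t}) (Algebra.algebraMapSubmonoid S p.primeCompl) (by
      rw [Set.disjoint_left]
      intro x hx hx'
      obtain ⟨m, rfl⟩ := Ideal.mem_span_singleton'.mp hx
      exact hcon m hx')
    have hle : P.under R ≤ p := fun r hr => by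
      by_contra hrp
      exact Set.disjoint_left.mp hdis hr ⟨r, hrp, rfl⟩
    obtain ⟨Q, hPQ, hQ, hQo⟩ : ∃ Q, P ≤ Q ∧ Q.IsPrime ∧ Q.LiesOver p := by
      rcases hle.eq_or_lt with h | h
      · exact ⟨P, le_rfl, hP, ⟨h.symm⟩⟩
      · exact Algebra.HasGoingUp.exists_ideal_ge_liesOver_of_lt P h
    exact ht ((huniq Q hQ hQo.over.symm) ▸ hPQ (htP (Ideal.mem_span_singleton_self t)))

end Groth.Agent.S6264
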