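import Groth.Statements.S6265
import Mathlib.RingTheory.Localization.LocalizationLocalization
import Mathlib.RingTheory.Ideal.Maximal

set_option autoImplicit false
universe u
open CAlg

namespace Groth.Agent.S6265

/-- Let R → S be a ring map with the going-down property such that over every prime of R lies at most
one prime of S, and let p be a prime of R and q a prime of S above it. Then the localization S_p of
S at the image of R - p is a localization of S at q, i.e. S_p = S_q. -/
theorem result {R S : Type u} [CommRing R] [CommRing S] [Algebra R S] [Algebra.HasGoingDown R S] (hinj : ∀ q₁ q₂ : Ideal S, q₁.IsPrime → q₂.IsPrime → q₁.under R = q₂.under R → q₁ = q₂) (p : Ideal R) [p.IsPrime] (q : Ideal S) [q.IsPrime] [q.LiesOver p] : IsLocalization.AtPrime (Localization (Algebra.algebraMapSubmonoid S p.primeCompl)) q := by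
  apply IsLocalization.isLocalization_of_is_exists_mul_mem _ (Algebra.algebraMapSubmonoid S p.primeCompl) q.primeCompl
  · rintro _ ⟨r, hr, rfl⟩ hmem
    exact hr ((Ideal.mem_of_liesOver q p r).mpr hmem)
  · rintro ⟨t, ht⟩
    by_contra hcon
    push Not at hcon
    obtain ⟨P, hP, htP, hdis⟩ := Ideal.exists_le_prime_disjoint (Ideal.span {t}) (Algebra.algebraMapSubmonoid S p.primeCompl) (by
      rw [Set.disjoint_left]
      intro x hx hx'
      obtain ⟨m, rfl⟩ := Ideal.mem_span_singleton'.mp hx
      exact hcon m hx')
    have hle : P.under R ≤ q.under R := fun r hr => by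
      by_contra hrp
      exact Set.disjoint_left.mp hdis hr ⟨r, fun h => hrp ((Ideal.mem_of_liesOver q p r).mp h), rfl⟩
    obtain ⟨Q, hQq, hQ, hQo⟩ : ∃ Q, Q ≤ q ∧ Q.IsPrime ∧ Q.LiesOver (P.under R) := by
      rcases hle.eq_or_lt with h | h
      · exact ⟨q, le_rfl, inferInstance, ⟨h⟩⟩
      · exact Algebra.HasGoingDown.exists_ideal_le_liesOver_of_lt q h
    exact ht (hQq ((hinj P Q hP hQ hQo.over) ▸ htP (Ideal.mem_span_singleton_self t)))

end Groth.Agent.S6265
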