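import Groth.Statements.S6266
import Mathlib.RingTheory.Spectrum.Prime.FreeLocus
import Mathlib.RingTheory.LocalRing.Module
import Mathlib.RingTheory.Support

set_option autoImplicit false
universe u
open scoped TensorProduct
open CAlg

namespace Groth.Agent.S6266

open scoped TensorProduct in
theorem exists_factor {R : Type u} [CommRing R] [IsReduced R] {M : Type u} [AddCommGroup M] [Module R M] [Module.Finite R M]
    (hloc : IsLocallyConstant (fun p : PrimeSpectrum R => Module.finrank p.asIdeal.ResidueField (p.asIdeal.ResidueField ⊗[R] M)))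
    {N : ℕ} (π : (Fin N → R) →ₗ[R] M) (hπ : Function.Surjective π) (p : PrimeSpectrum R) :
    ∃ h : R, h ∉ p.asIdeal ∧ ∃ s : M →ₗ[R] (Fin N → R), π ∘ₗ s = h • LinearMap.id := by
  classical
  let κ := p.asIdeal.ResidueField
  obtain ⟨ι, a, -, hspan, hli⟩ := exists_linearIndependent' κ (fun m : M => (1 : κ) ⊗ₜ[R] m)
  have htop : Submodule.span κ (Set.range fun m : M => (1 : κ) ⊗ₜ[R] m) = ⊤ := by
    rw [eq_top_iff]
    intro z _
    induction z using TensorProduct.induction_on with
    | zero => exact zero_mem _
    | tmul c m =>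
      have : c ⊗ₜ[R] m = c • ((1 : κ) ⊗ₜ[R] m) := by rw [TensorProduct.smul_tmul', smul_eq_mul, mul_one]
      rw [this]
      exact Submodule.smul_mem _ _ (Submodule.subset_span ⟨m, rfl⟩)
    | add x y hx hy => exact add_mem (hx trivial) (hy trivial)
  let b : Module.Basis ι κ (κ ⊗[R] M) := Module.Basis.mk hli (by rw [hspan, htop])
  haveI : Fintype ι := FiniteDimensional.fintypeBasisIndex b
  have hn : Module.finrank κ (κ ⊗[R] M) = Fintype.card ι := Module.finrank_eq_card_basis b
  let φ : (ι → R) →ₗ[R] M := Fintype.linearCombination R a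
  have hφ : ∀ i, φ (Pi.single i 1) = a i := fun i => by
    rw [Fintype.linearCombination_apply_single, one_smul]
  have hsurj : Function.Surjective (φ.baseChange κ) := by
    rw [← LinearMap.range_eq_top, eq_top_iff, ← htop, ← hspan, Submodule.span_le]
    rintro _ ⟨i, rfl⟩
    exact ⟨(1 : κ) ⊗ₜ[R] Pi.single i 1, by rw [LinearMap.baseChange_tmul, hφ]; rfl⟩
  -- an element outside `p` killing the cokernel
  obtain ⟨f, hfp, hf⟩ : ∃ f, f ∉ p.asIdeal ∧ ∀ m : M, f • m ∈ LinearMap.range φ := by
    by_contra hcon
    push Not at hcon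
    have hsupp : p ∈ Module.support R (M ⧸ LinearMap.range φ) := by
      rw [Module.mem_support_iff_of_finite]
      intro f hf
      by_contra hfp
      obtain ⟨m, hm⟩ := hcon f hfp
      refine hm ?_
      rw [← Submodule.Quotient.mk_eq_zero, Submodule.Quotient.mk_smul]
      exact Module.mem_annihilator.mp hf _
    rw [Module.mem_support_iff_nontrivial_residueField_tensorProduct] at hsupp
    obtain ⟨x, hx⟩ := exists_ne (0 : κ ⊗[R] (M ⧸ LinearMap.range φ))
    obtain ⟨y, rfl⟩ := LinearMap.lTensor_surjective κ (Submodule.mkQ_surjective (LinearMap.range φ)) x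
    obtain ⟨z, rfl⟩ := hsurj y
    refine hx ?_
    show (LinearMap.lTensor κ (LinearMap.range φ).mkQ) ((LinearMap.lTensor κ φ) z) = 0
    rw [← LinearMap.lTensor_comp_apply, LinearMap.range_mkQ_comp, LinearMap.lTensor_zero, LinearMap.zero_apply]
  -- a neighbourhood with constant rank
  obtain ⟨U, hU, hpU, hUn⟩ := hloc.exists_open p
  obtain ⟨_, ⟨g, rfl⟩, hpg, hgU⟩ := PrimeSpectrum.isTopologicalBasis_basic_opens.exists_subset_of_mem_open hpU hU
  have hker : ∀ c : ι → R, φ c = 0 → f • g • c = 0 := by
    intro c hc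
    funext i
    have hnil : IsNilpotent (f * g * c i) := by
      rw [← mem_nilradical, nilradical_eq_sInf, Ideal.mem_sInf]
      intro q hq
      haveI : q.IsPrime := hq
      by_contra hnot
      rw [hq.mul_mem_iff_mem_or_mem, hq.mul_mem_iff_mem_or_mem, not_or, not_or] at hnot
      obtain ⟨⟨hfq, hgq⟩, hcq⟩ := hnot
      let k := q.ResidueField
      have hk : Function.Surjective (φ.baseChange k) := by
        rw [← LinearMap.range_eq_top, eq_top_iff]
        intro z _
        induction z using TensorProduct.induction_on with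
        | zero => exact zero_mem _
        | tmul d m =>
          obtain ⟨v, hv⟩ := hf m
          refine ⟨(d * (algebraMap R k f)⁻¹) ⊗ₜ[R] v, ?_⟩
          rw [LinearMap.baseChange_tmul, hv, TensorProduct.tmul_smul, TensorProduct.smul_tmul', Algebra.smul_def]
          congr 1
          have : algebraMap R k f ≠ 0 := fun h => hfq (Ideal.algebraMap_residueField_eq_zero.mp h)
          rw [mul_left_comm, mul_inv_cancel₀ this, mul_one]
        | add x y hx hy => exact add_mem (hx trivial) (hy trivial)
      have hdim : Module.finrank k (k ⊗[R] (ι → R)) = Module.finrank k (k ⊗[R] M) := by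
        haveI : Nontrivial R := nontrivial_of_ne _ _ (fun h : g = 0 => hpg (h ▸ zero_mem _))
        rw [Module.finrank_baseChange, Module.finrank_pi]
        exact (hn.symm.trans (hUn ⟨q, hq⟩ (hgU hgq)).symm)
      have hinj := (LinearMap.injective_iff_surjective_of_finrank_eq_finrank hdim).mpr hk
      have h0 : (1 : k) ⊗ₜ[R] c = 0 := hinj (by rw [LinearMap.baseChange_tmul, hc, TensorProduct.tmul_zero, map_zero])
      have h1 := congrArg ((TensorProduct.rid R k) ∘ (LinearMap.proj (R := R) (φ := fun _ : ι => R) i).lTensor k) h0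
      simp only [Function.comp_apply, LinearMap.lTensor_tmul, LinearMap.proj_apply, TensorProduct.rid_tmul,
        map_zero, Algebra.smul_def, mul_one] at h1
      exact hcq (Ideal.algebraMap_residueField_eq_zero.mp h1)
    simp only [Pi.smul_apply, smul_eq_mul, Pi.zero_apply, ← mul_assoc]
    exact hnil.eq_zero
  let ψ : M →ₗ[R] (ι → R) :=
    ((LinearMap.ker φ).liftQ ((f * g) • LinearMap.id) (fun c hc => by
      rw [LinearMap.mem_ker, LinearMap.smul_apply, LinearMap.id_apply, mul_smul]
      exact hker c hc)) ∘ₗ φ.quotKerEquivRange.symm.toLinearMap ∘ₗ ((f • LinearMap.id : M →ₗ[R] M).codRestrict _ hf)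
  have hψ : φ ∘ₗ ψ = (f * g * f) • LinearMap.id := by
    refine LinearMap.ext fun m => ?_
    obtain ⟨c, hc⟩ := hf m
    have he : φ.quotKerEquivRange.symm ((f • LinearMap.id : M →ₗ[R] M).codRestrict _ hf m) = Submodule.Quotient.mk c := by
      rw [LinearEquiv.symm_apply_eq]
      exact Subtype.ext hc.symm
    rw [LinearMap.comp_apply, LinearMap.smul_apply, LinearMap.id_apply]
    simp only [ψ, LinearMap.comp_apply, LinearEquiv.coe_coe, he, Submodule.liftQ_apply, LinearMap.smul_apply,
      LinearMap.id_apply, map_smul, hc]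
    rw [← mul_smul]
  obtain ⟨l, hl⟩ := Module.projective_lifting_property π φ hπ
  refine ⟨f * g * f, ?_, l ∘ₗ ψ, by rw [← LinearMap.comp_assoc, hl, hψ]⟩
  rw [p.isPrime.mul_mem_iff_mem_or_mem, p.isPrime.mul_mem_iff_mem_or_mem]
  simp only [not_or]
  exact ⟨⟨hfp, hpg⟩, hfp⟩

/-- Let R be a reduced ring and M an R-module. Then M is a finite projective R-module if and only if M
is finitely generated and the function on Spec R sending a prime p to the dimension of κ(p) ⊗ M over
the residue field κ(p) is locally constant for the Zariski topology. -/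
theorem result (R : Type u) [CommRing R] [IsReduced R] (M : Type u) [AddCommGroup M] [Module R M] : (Module.Finite R M ∧ Module.Projective R M) ↔ (Module.Finite R M ∧ IsLocallyConstant (fun p : PrimeSpectrum R => Module.finrank p.asIdeal.ResidueField (p.asIdeal.ResidueField ⊗[R] M))) := by
  constructor
  · rintro ⟨_, _⟩
    haveI := Module.finitePresentation_of_projective R M
    refine ⟨inferInstance, ?_⟩
    have h : (fun p : PrimeSpectrum R => Module.finrank p.asIdeal.ResidueField (p.asIdeal.ResidueField ⊗[R] M)) =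
        Module.rankAtStalk (R := R) M := funext fun p => (Module.rankAtStalk_eq p).symm
    rw [h]
    exact Module.isLocallyConstant_rankAtStalk
  · rintro ⟨hfin, hloc⟩
    refine ⟨hfin, ?_⟩
    obtain ⟨N, π, hπ⟩ := Module.Finite.exists_fin' R M
    -- the ideal of scalars factoring through `π`
    let I : Ideal R :=
      { carrier := {r | ∃ s : M →ₗ[R] (Fin N → R), π ∘ₗ s = r • LinearMap.id}
        add_mem' := by
          rintro a b ⟨s, hs⟩ ⟨t, ht⟩
          exact ⟨s + t, by rw [LinearMap.comp_add, hs, ht, add_smul]⟩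
        zero_mem' := ⟨0, by simp⟩
        smul_mem' := by
          rintro c a ⟨s, hs⟩
          exact ⟨c • s, by rw [LinearMap.comp_smul, hs, smul_eq_mul, mul_smul]⟩ }
    suffices hI : I = ⊤ by
      obtain ⟨s, hs⟩ := (hI ▸ Submodule.mem_top : (1 : R) ∈ I)
      exact Module.Projective.of_split s π (by rw [hs, one_smul])
    by_contra hI
    obtain ⟨m, hm, hIm⟩ := Ideal.exists_le_maximal I hI
    obtain ⟨h, hh, hmem⟩ := exists_factor hloc π hπ ⟨m, hm.isPrime⟩
    exact hh (hIm hmem)

end Groth.Agent.S6266
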