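import Groth.Statements.S6267
import Groth.Agent.H1CAlg.UnivInj
import Mathlib.RingTheory.LocalRing.Module
import Mathlib.RingTheory.Flat.Equalizer
import Mathlib.RingTheory.Flat.Tensor

set_option autoImplicit false
universe u
open CAlg

namespace Groth.Agent.S6267

/-- Let R be a ring and f : M → M' a map of R-modules with M' flat. Then f is universally injective
exactly when, for each finitely generated ideal I of R, the induced map M ⊗ R/I → M' ⊗ R/I (that is,
M/IM → M'/IM') is injective. -/
theorem result {R : Type u} [CommRing R] {M M' : Type u} [AddCommGroup M] [Module R M] [AddCommGroup M'] [Module R M'] [Module.Flat R M'] (f : M →ₗ[R] M') : CAlgX.UniversallyInjective R f ↔ ∀ I : Ideal R, I.FG → Function.Injective (f.rTensor (R ⧸ I)) := by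
  refine ⟨fun h I _ => h (R ⧸ I), fun h Q _ _ => ?_⟩
  have hfinj : Function.Injective f := by
    intro a b hab
    have h0 := h ⊥ Submodule.fg_bot
    have := h0 (a₁ := a ⊗ₜ (Submodule.Quotient.mk 1)) (a₂ := b ⊗ₜ (Submodule.Quotient.mk 1)) (by simp [hab])
    have e1 : (Submodule.quotEquivOfEqBot (⊥ : Ideal R) rfl) (1 : R ⧸ (⊥ : Ideal R)) = 1 := rfl
    simpa [e1] using congrArg (TensorProduct.rid R M ∘ ((Submodule.quotEquivOfEqBot (⊥ : Ideal R) rfl).toLinearMap.lTensor M)) this
  have hex := LinearMap.exact_map_mkQ_range f
  haveI : Module.Flat R (M' ⧸ LinearMap.range f) := by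
    refine Module.Flat.iff_lTensor_injective.mpr fun I hI => ?_
    exact lTensor_injective_of_exact_of_exact_of_rTensor_injective hex (Submodule.mkQ_surjective _)
      (LinearMap.exact_subtype_mkQ I) (Submodule.mkQ_surjective _) (h I hI)
      (Module.Flat.lTensor_preserves_injective_linearMap (M := M') (Submodule.subtype I) Subtype.val_injective)
  exact (LinearMap.lTensor_inj_iff_rTensor_inj Q f).mp
    (LinearMap.lTensor_injective_of_exact_of_flat _ (Submodule.mkQ_surjective _) f hfinj hex Q)

end Groth.Agent.S6267
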