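import Groth.Statements.S6268
import Groth.Agent.H1CAlg.UnivInj
import Mathlib.RingTheory.Flat.Basic
import Mathlib.LinearAlgebra.TensorProduct.RightExactness

set_option autoImplicit false
universe u
open CAlg

namespace Groth.Agent.S6268

open TensorProduct

/-- Suppose the structure map R → S of an R-algebra S is universally injective as an R-linear map. Then
tensoring with S detects injectivity and surjectivity of R-linear maps (and hence reflects
isomorphisms): for an R-linear g : M → N, if S ⊗ g is injective then so is g, and if S ⊗ g is
surjective then so is g. -/
theorem result {R S : Type u} [CommRing R] [CommRing S] [Algebra R S] (hS : CAlgX.UniversallyInjective R (Algebra.linearMap R S)) {M N : Type u} [AddCommGroup M] [Module R M] [AddCommGroup N] [Module R N] (g : M →ₗ[R] N) : (Function.Injective (g.lTensor S) → Function.Injective g) ∧ (Function.Surjective (g.lTensor S) → Function.Surjective g) := by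
  have hinj : ∀ (L : Type u) [AddCommGroup L] [Module R L], Function.Injective (TensorProduct.mk R S L 1) := by
    intro L _ _ a b hab
    have := hS L (a₁ := (1 : R) ⊗ₜ a) (a₂ := (1 : R) ⊗ₜ b) (by simpa using hab)
    simpa using congrArg (TensorProduct.lid R L) this
  constructor
  · intro h a b hab
    apply hinj M
    apply h
    simp [hab]
  · intro h
    rw [← LinearMap.range_eq_top]
    by_contra hne
    have hsub : Subsingleton (S ⊗[R] (N ⧸ LinearMap.range g)) := by
      refine subsingleton_of_forall_eq 0 fun z => ?_
      obtain ⟨z, rfl⟩ := LinearMap.lTensor_surjective S (LinearMap.range g).mkQ_surjective z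
      obtain ⟨w, rfl⟩ := h z
      rw [← LinearMap.comp_apply, ← LinearMap.lTensor_comp, LinearMap.range_mkQ_comp, LinearMap.lTensor_zero,
        LinearMap.zero_apply]
    haveI : Nontrivial (N ⧸ LinearMap.range g) := Submodule.Quotient.nontrivial_iff.mpr hne
    exact not_subsingleton (N ⧸ LinearMap.range g) ((hinj _).subsingleton)

end Groth.Agent.S6268
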