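import Groth.Statements.S6269
import Groth.Agent.H1CAlg.UnivInj
import Mathlib.RingTheory.LocalRing.Module
import Mathlib.RingTheory.Flat.Basic

set_option autoImplicit false
universe u
open CAlg

namespace Groth.Agent.S6269

/-- Let 0 → M₁ → M₂ → M₃ → 0 be a universally exact sequence of R-modules (a short exact sequence whose
first map is universally injective) with M₂ flat. Then M₁ and M₃ are flat. -/
theorem result {R : Type u} [CommRing R] {M₁ M₂ M₃ : Type u} [AddCommGroup M₁] [Module R M₁] [AddCommGroup M₂] [Module R M₂] [AddCommGroup M₃] [Module R M₃] (f : M₁ →ₗ[R] M₂) (g : M₂ →ₗ[R] M₃) (hexact : Function.Exact f g) (hg : Function.Surjective g) (hf : CAlgX.UniversallyInjective R f) [Module.Flat R M₂] : Module.Flat R M₁ ∧ Module.Flat R M₃ := by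
  constructor
  · rw [Module.Flat.iff_rTensor_preserves_injective_linearMap]
    intro A B _ _ _ _ ι hι x y hxy
    have hA : Function.Injective (f.lTensor A) := (LinearMap.lTensor_inj_iff_rTensor_inj A f).mpr (hf A)
    apply hA
    apply Module.Flat.rTensor_preserves_injective_linearMap (M := M₂) ι hι
    rw [← LinearMap.comp_apply, ← LinearMap.comp_apply, LinearMap.rTensor_comp_lTensor,
      ← LinearMap.lTensor_comp_rTensor, LinearMap.comp_apply, LinearMap.comp_apply, hxy]
  · rw [Module.Flat.iff_lTensor_preserves_injective_linearMap]
    intro A B _ _ _ _ ι hι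
    exact lTensor_injective_of_exact_of_exact_of_rTensor_injective hexact hg
      (LinearMap.exact_map_mkQ_range ι) (Submodule.mkQ_surjective _) (hf _)
      (Module.Flat.lTensor_preserves_injective_linearMap ι hι)

end Groth.Agent.S6269
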