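import Groth.Statements.S6271
import Mathlib.RingTheory.Idempotents
import Mathlib.LinearAlgebra.Matrix.ToLin
import Mathlib.RingTheory.Nilpotent.Lemmas
import Mathlib.Algebra.Module.Projective
import Groth.Agent.H1CAlg.LiftProjective
-- import your own Groth.Agent.* helpers here

set_option autoImplicit false
universe u
open scoped TensorProduct
open CAlg

namespace Groth.Agent.S6271

/-- Let R be a ring, I ⊆ R a locally nilpotent ideal (every element of I is nilpotent) and P̄ a finite
projective R/I-module. Then there is a finite projective R-module P such that P/IP (that is, R/I ⊗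
P) is isomorphic to P̄ as an R/I-module. -/
theorem result {R : Type u} [CommRing R] (I : Ideal R) (hI : ∀ x ∈ I, IsNilpotent x) (Pb : Type u) [AddCommGroup Pb] [Module (R ⧸ I) Pb] [Module.Projective (R ⧸ I) Pb] [Module.Finite (R ⧸ I) Pb] : ∃ (P : Type u) (_ : AddCommGroup P) (_ : Module R P), Module.Projective R P ∧ Module.Finite R P ∧ Nonempty (((R ⧸ I) ⊗[R] P) ≃ₗ[R ⧸ I] Pb) := by
  exact Groth.Agent.H1CAlg.exists_projective_lift I hI Pb

end Groth.Agent.S6271
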