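import Groth.Statements.S6272
import Mathlib.LinearAlgebra.TensorProduct.Quotient
import Mathlib.RingTheory.Ideal.Quotient.Operations
import Mathlib.Algebra.Module.Projective
import Mathlib.LinearAlgebra.Finsupp.LinearCombination

set_option autoImplicit false
universe u
open scoped TensorProduct
open CAlg

namespace Groth.Agent.S6272

open scoped TensorProduct

/-- Lifting maps out of `P` into modules killed by `I`, when `P/IP` is projective. -/
theorem exists_lift {R : Type u} [CommRing R] (I : Ideal R) {P : Type u} [AddCommGroup P] [Module R P]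
    (hI : Module.Projective (R ⧸ I) ((R ⧸ I) ⊗[R] P)) {A B : Type u} [AddCommGroup A] [Module R A]
    [AddCommGroup B] [Module R B] (g : A →ₗ[R] B) (hg : Function.Surjective g)
    (hA : ∀ a ∈ I, ∀ x : A, a • x = 0) (hB : ∀ a ∈ I, ∀ x : B, a • x = 0) (f : P →ₗ[R] B) :
    ∃ h : P →ₗ[R] A, g ∘ₗ h = f := by
  let X := (R ⧸ I) ⊗[R] P
  obtain ⟨σ, hσ⟩ := hI.out
  have hfI : I • (⊤ : Submodule R P) ≤ LinearMap.ker f := by
    rw [Submodule.smul_le]
    intro a ha x _
    show f (a • x) = 0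
    rw [map_smul, hB a ha]
  let fbar : X →ₗ[R] B := (Submodule.liftQ _ f hfI) ∘ₗ (TensorProduct.quotTensorEquivQuotSMul P I).toLinearMap
  have hfbar : ∀ p, fbar (1 ⊗ₜ[R] p) = f p := fun p => by
    have h3 : (TensorProduct.quotTensorEquivQuotSMul P I) ((1 : R ⧸ I) ⊗ₜ[R] p)
        = Submodule.Quotient.mk ((1 : R) • p) := TensorProduct.quotTensorEquivQuotSMul_mk_tmul I 1 p
    simp only [fbar, LinearMap.comp_apply, LinearEquiv.coe_coe]
    rw [h3, one_smul, Submodule.liftQ_apply]
  choose a ha using fun x : X => hg (fbar x)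
  have hk : ∀ x : X, I ≤ LinearMap.ker (LinearMap.toSpanSingleton R A (a x)) := fun x r hr => hA r hr _
  let L : (X →₀ R ⧸ I) →ₗ[R] A := Finsupp.lsum R fun x => Submodule.liftQ I _ (hk x)
  let comb : (X →₀ R ⧸ I) →ₗ[R] X := (Finsupp.linearCombination (R ⧸ I) (id : X → X)).restrictScalars R
  have hL : g ∘ₗ L = fbar ∘ₗ comb := by
    refine Finsupp.lhom_ext fun x r => ?_
    obtain ⟨r, rfl⟩ := Ideal.Quotient.mk_surjective r
    have h1 : Ideal.Quotient.mk I r • x = r • x := by
      rw [← Ideal.Quotient.algebraMap_eq, algebraMap_smul]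
    have h2 : L (Finsupp.single x (Ideal.Quotient.mk I r)) = r • a x := Finsupp.lsum_single ..
    have h3 : comb (Finsupp.single x (Ideal.Quotient.mk I r)) = r • x := by
      show Finsupp.linearCombination (R ⧸ I) id _ = _
      rw [Finsupp.linearCombination_single]; exact h1
    rw [LinearMap.comp_apply, LinearMap.comp_apply, h2, h3, map_smul, map_smul, ha]
  refine ⟨L ∘ₗ σ.restrictScalars R ∘ₗ TensorProduct.mk R (R ⧸ I) P 1, LinearMap.ext fun p => ?_⟩
  have h4 := LinearMap.congr_fun hL (σ (1 ⊗ₜ[R] p))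
  simp only [LinearMap.comp_apply] at h4 ⊢
  rw [show comb (σ (1 ⊗ₜ[R] p)) = 1 ⊗ₜ[R] p from hσ _, hfbar] at h4
  exact h4

variable {R : Type u} [CommRing R] {M N : Type u} [AddCommGroup M] [Module R M] [AddCommGroup N]
  [Module R N]

theorem map_smul_top_le (f : M →ₗ[R] N) (I : Ideal R) :
    I • (⊤ : Submodule R M) ≤ (I • (⊤ : Submodule R N)).comap f := by
  rw [← Submodule.map_le_iff_le_comap, Submodule.map_smul'']
  exact Submodule.smul_mono le_rfl le_top

theorem smul_quot (I K : Ideal R) (hK : K ≤ I) (a : R) (ha : a ∈ K) (x : M ⧸ I • (⊤ : Submodule R M)) :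
    a • x = 0 := by
  obtain ⟨x, rfl⟩ := Submodule.Quotient.mk_surjective _ x
  rw [← Submodule.Quotient.mk_smul, Submodule.Quotient.mk_eq_zero]
  exact Submodule.smul_mem_smul (hK ha) trivial

/-- Over a ring R, take two ideals I and J meeting in zero (I ∩ J = 0) and an R-module P. If the
R/I-module P/IP (that is, R/I ⊗ P) and the R/J-module P/JP (that is, R/J ⊗ P) are both projective,
then P itself is projective over R. -/
theorem result {R : Type u} [CommRing R] (I J : Ideal R) (hIJ : I ⊓ J = ⊥) (P : Type u) [AddCommGroup P] [Module R P] (hI : Module.Projective (R ⧸ I) ((R ⧸ I) ⊗[R] P)) (hJ : Module.Projective (R ⧸ J) ((R ⧸ J) ⊗[R] P)) : Module.Projective R P := by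
  classical
  let F := P →₀ R
  let π : F →ₗ[R] P := Finsupp.linearCombination R id
  have hπ : Function.Surjective π := fun p => ⟨Finsupp.single p 1, (Finsupp.linearCombination_single R (v := id) 1 p).trans (one_smul R p)⟩
  let q : ∀ (K : Ideal R), (F ⧸ K • (⊤ : Submodule R F)) →ₗ[R] P ⧸ K • (⊤ : Submodule R P) :=
    fun K => Submodule.mapQ _ _ π (map_smul_top_le π K)
  have hq : ∀ K, Function.Surjective (q K) := fun K z => by
    obtain ⟨p, rfl⟩ := Submodule.Quotient.mk_surjective _ z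
    obtain ⟨x, rfl⟩ := hπ p
    exact ⟨Submodule.Quotient.mk x, rfl⟩
  obtain ⟨s₁, hs₁⟩ := exists_lift I hI (q I) (hq I) (fun a ha => smul_quot I I le_rfl a ha)
    (fun a ha => smul_quot I I le_rfl a ha) (Submodule.mkQ _)
  obtain ⟨s₂, hs₂⟩ := exists_lift J hJ (q J) (hq J) (fun a ha => smul_quot J J le_rfl a ha)
    (fun a ha => smul_quot J J le_rfl a ha) (Submodule.mkQ _)
  let a : (F ⧸ I • (⊤ : Submodule R F)) →ₗ[R] F ⧸ (I ⊔ J) • (⊤ : Submodule R F) :=
    Submodule.mapQ _ _ LinearMap.id (Submodule.smul_mono_left le_sup_left)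
  let b : (F ⧸ J • (⊤ : Submodule R F)) →ₗ[R] F ⧸ (I ⊔ J) • (⊤ : Submodule R F) :=
    Submodule.mapQ _ _ LinearMap.id (Submodule.smul_mono_left le_sup_right)
  let aP : (P ⧸ I • (⊤ : Submodule R P)) →ₗ[R] P ⧸ (I ⊔ J) • (⊤ : Submodule R P) :=
    Submodule.mapQ _ _ LinearMap.id (Submodule.smul_mono_left le_sup_left)
  let bP : (P ⧸ J • (⊤ : Submodule R P)) →ₗ[R] P ⧸ (I ⊔ J) • (⊤ : Submodule R P) :=
    Submodule.mapQ _ _ LinearMap.id (Submodule.smul_mono_left le_sup_right)
  have haP : ∀ z, q (I ⊔ J) (a z) = aP (q I z) := fun z => by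
    obtain ⟨x, rfl⟩ := Submodule.Quotient.mk_surjective _ z; rfl
  have hbP : ∀ z, q (I ⊔ J) (b z) = bP (q J z) := fun z => by
    obtain ⟨x, rfl⟩ := Submodule.Quotient.mk_surjective _ z; rfl
  let d : P →ₗ[R] LinearMap.ker (q (I ⊔ J)) := LinearMap.codRestrict _ (a ∘ₗ s₁ - b ∘ₗ s₂) fun p => by
    rw [LinearMap.mem_ker, LinearMap.sub_apply, map_sub, LinearMap.comp_apply, LinearMap.comp_apply,
      haP, hbP, show q I (s₁ p) = _ from LinearMap.congr_fun hs₁ p,
      show q J (s₂ p) = _ from LinearMap.congr_fun hs₂ p]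
    exact sub_self _
  let b' : LinearMap.ker (q J) →ₗ[R] LinearMap.ker (q (I ⊔ J)) := b.restrict fun z (hz : q J z = 0) => by
    rw [LinearMap.mem_ker, hbP, hz, map_zero]
  have hb' : Function.Surjective b' := by
    rintro ⟨z, hz⟩
    obtain ⟨x, rfl⟩ := Submodule.Quotient.mk_surjective _ z
    have hz' : π x ∈ (I ⊔ J) • (⊤ : Submodule R P) := (Submodule.Quotient.mk_eq_zero _).mp hz
    rw [Submodule.sup_smul] at hz'
    obtain ⟨i, hi, j, hj, hij⟩ := Submodule.mem_sup.mp hz'
    have hi' : i ∈ (I • (⊤ : Submodule R F)).map π := by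
      rwa [Submodule.map_smul'', Submodule.map_top, LinearMap.range_eq_top.mpr hπ]
    obtain ⟨i', hi', rfl⟩ := hi'
    refine ⟨⟨Submodule.Quotient.mk (x - i'), ?_⟩, ?_⟩
    · show Submodule.Quotient.mk (π (x - i')) = (0 : P ⧸ J • (⊤ : Submodule R P))
      rw [Submodule.Quotient.mk_eq_zero, map_sub, ← hij, add_sub_cancel_left]
      exact hj
    · refine Subtype.ext ((Submodule.Quotient.eq _).mpr ?_)
      show x - i' - x ∈ _
      rw [sub_sub_cancel_left]
      exact Submodule.neg_mem _ (Submodule.smul_mono_left le_sup_left hi')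
  obtain ⟨d', hd'⟩ := exists_lift J hJ b' hb'
    (fun a ha z => Subtype.ext (smul_quot J J le_rfl a ha z.1))
    (fun a ha z => Subtype.ext (smul_quot (I ⊔ J) J le_sup_right a ha z.1)) d
  let s₂' : P →ₗ[R] F ⧸ J • (⊤ : Submodule R F) := s₂ + (LinearMap.ker (q J)).subtype ∘ₗ d'
  let Φ : F →ₗ[R] (F ⧸ I • (⊤ : Submodule R F)) × (F ⧸ J • (⊤ : Submodule R F)) :=
    (Submodule.mkQ _).prod (Submodule.mkQ _)
  have hΦ : Function.Injective Φ := by
    rw [injective_iff_map_eq_zero]
    intro x hx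
    have hxI : x ∈ I • (⊤ : Submodule R F) := (Submodule.Quotient.mk_eq_zero _).mp (congrArg Prod.fst hx)
    have hxJ : x ∈ J • (⊤ : Submodule R F) := (Submodule.Quotient.mk_eq_zero _).mp (congrArg Prod.snd hx)
    ext p
    have hmem : ∀ K : Ideal R, x ∈ K • (⊤ : Submodule R F) → x p ∈ K := fun K h => by
      have := map_smul_top_le (Finsupp.lapply p : F →ₗ[R] R) K h
      simpa using this
    have : x p ∈ I ⊓ J := ⟨hmem I hxI, hmem J hxJ⟩
    rw [hIJ] at this
    simpa using this
  have hmem : ∀ p, (s₁ p, s₂' p) ∈ LinearMap.range Φ := by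
    intro p
    obtain ⟨x, hx⟩ := Submodule.Quotient.mk_surjective _ (s₁ p)
    obtain ⟨y, hy⟩ := Submodule.Quotient.mk_surjective _ (s₂' p)
    have h1 : a (s₁ p) = b (s₂' p) := by
      have h2 : b (d' p).1 = a (s₁ p) - b (s₂ p) := congrArg Subtype.val (LinearMap.congr_fun hd' p)
      simp only [s₂', LinearMap.add_apply, LinearMap.comp_apply, Submodule.subtype_apply, map_add, h2]
      abel
    rw [← hx, ← hy] at h1
    have hxy : x - y ∈ (I ⊔ J) • (⊤ : Submodule R F) := (Submodule.Quotient.eq _).mp h1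
    rw [Submodule.sup_smul] at hxy
    obtain ⟨i, hi, j, hj, hij⟩ := Submodule.mem_sup.mp hxy
    refine ⟨x - i, Prod.ext ?_ ?_⟩
    · show Submodule.Quotient.mk (x - i) = s₁ p
      rw [← hx, Submodule.Quotient.eq, sub_sub_cancel_left]
      exact Submodule.neg_mem _ hi
    · show Submodule.Quotient.mk (x - i) = s₂' p
      rw [← hy, Submodule.Quotient.eq]
      have : x - i - y = j := by rw [sub_right_comm, ← hij, add_sub_cancel_left]
      rw [this]; exact hj
  let s : P →ₗ[R] F := (LinearEquiv.ofInjective Φ hΦ).symm.toLinearMap ∘ₗ (s₁.prod s₂').codRestrict _ hmem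
  have hs : ∀ p, Φ (s p) = (s₁ p, s₂' p) := fun p =>
    congrArg Subtype.val ((LinearEquiv.ofInjective Φ hΦ).apply_symm_apply ⟨(s₁ p, s₂' p), hmem p⟩)
  let e : P →ₗ[R] P := π ∘ₗ s - LinearMap.id
  have heI : ∀ p, e p ∈ I • (⊤ : Submodule R P) := fun p => by
    refine (Submodule.Quotient.eq _).mp ?_
    have h1 : q I (s₁ p) = Submodule.Quotient.mk p := LinearMap.congr_fun hs₁ p
    rw [← show Submodule.Quotient.mk (s p) = s₁ p from congrArg Prod.fst (hs p)] at h1
    exact h1
  have heJ : ∀ p, e p ∈ J • (⊤ : Submodule R P) := fun p => by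
    refine (Submodule.Quotient.eq _).mp ?_
    have h1 : q J (s₂' p) = Submodule.Quotient.mk p := by
      have h0 : q J (d' p).1 = 0 := (d' p).2
      simp only [s₂', LinearMap.add_apply, LinearMap.comp_apply, Submodule.subtype_apply, map_add, h0, add_zero]
      exact LinearMap.congr_fun hs₂ p
    rw [← show Submodule.Quotient.mk (s p) = s₂' p from congrArg Prod.snd (hs p)] at h1
    exact h1
  have hee : ∀ p, e (e p) = 0 := fun p => by
    have h1 : (I • (⊤ : Submodule R P)).map e ≤ ⊥ := by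
      rw [Submodule.map_smul'', Submodule.map_top]
      refine (Submodule.smul_mono (le_refl I) (show LinearMap.range e ≤ J • ⊤ from ?_)).trans ?_
      · rintro _ ⟨x, rfl⟩; exact heJ x
      · rw [← mul_smul, le_bot_iff.mp (Ideal.mul_le_inf.trans hIJ.le), Submodule.bot_smul]
    exact h1 (Submodule.mem_map_of_mem (heI p))
  refine Module.Projective.of_split (s ∘ₗ (LinearMap.id - e)) π (LinearMap.ext fun p => ?_)
  have h1 : π (s (p - e p)) = e (p - e p) + (p - e p) := by simp [e]
  simp only [LinearMap.comp_apply, LinearMap.sub_apply, LinearMap.id_apply]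
  rw [h1, map_sub, hee]
  abel

end Groth.Agent.S6272
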