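import Groth.Statements.S6273
import Mathlib.RingTheory.Spectrum.Prime.Topology
import Mathlib.RingTheory.Localization.Ideal

set_option autoImplicit false
universe u
open CAlg

namespace Groth.Agent.S6273

theorem surj_of_closed {R : Type u} [CommRing R] (S : Submonoid R) (A : Type u) [CommRing A] [Algebra R A] [IsLocalization S A] (hcl : IsClosed (Set.range (PrimeSpectrum.comap (algebraMap R A)))) : Function.Surjective (algebraMap R A) := by
  intro a
  obtain ⟨⟨r, s⟩, hrs⟩ := IsLocalization.surj S a
  have hu : Ideal.span {(s : R)} ⊔ RingHom.ker (algebraMap R A) = ⊤ := by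
    by_contra hne
    obtain ⟨m, hm, hle⟩ := Ideal.exists_le_maximal _ hne
    have hmem : (⟨m, hm.isPrime⟩ : PrimeSpectrum R) ∈ PrimeSpectrum.zeroLocus (RingHom.ker (algebraMap R A) : Set R) :=
      fun x hx => hle (le_sup_right (a := Ideal.span {(s : R)}) hx)
    rw [← PrimeSpectrum.closure_range_comap, hcl.closure_eq] at hmem
    obtain ⟨P, hP⟩ := hmem
    have : (s : R) ∈ m := hle (le_sup_left (b := RingHom.ker (algebraMap R A)) (Ideal.mem_span_singleton_self _))
    have : algebraMap R A s ∈ P.asIdeal := by
      rw [← Ideal.mem_comap, ← PrimeSpectrum.comap_asIdeal, hP]; exact this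
    exact P.2.ne_top (Ideal.eq_top_of_isUnit_mem _ this (IsLocalization.map_units A s))
  obtain ⟨b, hb, c, hc, hbc⟩ := Submodule.mem_sup.mp ((Ideal.eq_top_iff_one _).mp hu)
  obtain ⟨d, rfl⟩ := Ideal.mem_span_singleton'.mp hb
  refine ⟨d * r, ?_⟩
  have hc' : algebraMap R A c = 0 := hc
  have h1 := congrArg (algebraMap R A) hbc
  rw [map_add, map_mul, map_one, hc', add_zero] at h1
  rw [map_mul, ← hrs]
  linear_combination a * h1

/-- Let R be a ring, S ⊆ R a multiplicative subset and A = S⁻¹R. If the image of Spec(A) → Spec(R) is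
closed, then the localization map R → A is surjective; in particular A is isomorphic to R/I for the
ideal I = ker(R → A). -/
theorem result {R : Type u} [CommRing R] (S : Submonoid R) (A : Type u) [CommRing A] [Algebra R A] [IsLocalization S A] (hcl : IsClosed (Set.range (PrimeSpectrum.comap (algebraMap R A)))) : Function.Surjective (algebraMap R A) := by
  exact surj_of_closed S A hcl

end Groth.Agent.S6273
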