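import Groth.Statements.S6274
import Groth.Agent.S6273
import Mathlib.RingTheory.Spectrum.Prime.ConstructibleSet
import Mathlib.RingTheory.Spectrum.Prime.Chevalley
import Mathlib.RingTheory.Ideal.Quotient.Operations

set_option autoImplicit false
universe u
open CAlg

namespace Groth.Agent.S6274

/-- Let R be a ring, S ⊆ R a multiplicative subset and A = S⁻¹R, and assume the image of Spec(A) →
Spec(R) is closed. If Spec(R) is a Noetherian topological space (which holds when R is Noetherian)
or S is finitely generated as a monoid, then R is isomorphic to A × R' for some ring R', by an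
isomorphism whose first component is the localization map R → A. -/
theorem result {R : Type u} [CommRing R] (S : Submonoid R) (A : Type u) [CommRing A] [Algebra R A] [IsLocalization S A] (hcl : IsClosed (Set.range (PrimeSpectrum.comap (algebraMap R A)))) (h : TopologicalSpace.NoetherianSpace (PrimeSpectrum R) ∨ S.FG) : ∃ (R' : Type u) (_ : CommRing R') (e : R ≃+* A × R'), ∀ x : R, (e x).1 = algebraMap R A x := by
  have hgen : StableUnderGeneralization (Set.range (PrimeSpectrum.comap (algebraMap R A))) := by
    rintro p q hqp ⟨P, rfl⟩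
    rw [PrimeSpectrum.localization_comap_range A S] at *
    have hle : q.asIdeal ≤ (PrimeSpectrum.comap (algebraMap R A) P).asIdeal :=
      (PrimeSpectrum.le_iff_specializes q _).mpr hqp
    have : PrimeSpectrum.comap (algebraMap R A) P ∈ Set.range (PrimeSpectrum.comap (algebraMap R A)) := ⟨P, rfl⟩
    rw [PrimeSpectrum.localization_comap_range A S] at this
    exact Set.disjoint_of_subset_right (fun x hx => hle hx) this
  have hopen : IsOpen (Set.range (PrimeSpectrum.comap (algebraMap R A))) := by
    rcases h with h | ⟨t, ht⟩
    · have hc : Topology.IsConstructible (Set.range (PrimeSpectrum.comap (algebraMap R A)))ᶜ :=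
        IsRetrocompact.isConstructible hcl.isOpen_compl (fun U _ _ => TopologicalSpace.NoetherianSpace.isCompact _)
      exact PrimeSpectrum.isOpen_of_stableUnderGeneralization_of_isConstructible hgen hc.of_compl
    · classical
      have : Set.range (PrimeSpectrum.comap (algebraMap R A)) = PrimeSpectrum.basicOpen (∏ x ∈ t, x) := by
        rw [PrimeSpectrum.localization_comap_range A S]
        ext p
        constructor
        · intro hp hmem
          exact Set.disjoint_left.mp hp (Submonoid.prod_mem S fun x hx => ht ▸ Submonoid.subset_closure hx) hmem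
        · intro hp
          refine Set.disjoint_left.mpr fun x hx hx' => ?_
          rw [← ht] at hx
          have : Submonoid.closure (t : Set R) ≤ p.asIdeal.primeCompl := Submonoid.closure_le.mpr fun y hy hy' =>
            hp (Ideal.prod_mem p.asIdeal hy hy')
          exact this hx hx'
      rw [this]
      exact PrimeSpectrum.isOpen_basicOpen
  obtain ⟨e, he, hran⟩ := PrimeSpectrum.isClopen_iff.mp ⟨hcl, hopen⟩
  have hsurj := Groth.Agent.S6273.surj_of_closed S A hcl
  have heu : IsUnit (algebraMap R A e) := by
    by_contra hne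
    obtain ⟨m, hm, hle⟩ := exists_max_ideal_of_mem_nonunits hne
    have : PrimeSpectrum.comap (algebraMap R A) ⟨m, hm.isPrime⟩ ∈ (PrimeSpectrum.basicOpen e : Set (PrimeSpectrum R)) := hran ▸ ⟨_, rfl⟩
    exact this hle
  have he1 : algebraMap R A e = 1 := by
    refine heu.mul_left_cancel ?_
    rw [mul_one, ← map_mul, he.eq]
  have hker : RingHom.ker (algebraMap R A) = Ideal.span {1 - e} := by
    refine le_antisymm ?_ ((Ideal.span_singleton_le_iff_mem _).mpr (by simp [RingHom.mem_ker, he1]))
    intro x hx
    obtain ⟨⟨s, hs⟩, hsx⟩ := (IsLocalization.map_eq_zero_iff S A x).mp hx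
    have : Ideal.span {s} ⊔ Ideal.span {1 - e} = ⊤ := by
      by_contra hne
      obtain ⟨m, hm, hle⟩ := Ideal.exists_le_maximal _ hne
      have h1 : 1 - e ∈ m := hle (le_sup_right (a := Ideal.span {s}) (Ideal.mem_span_singleton_self _))
      have h2 : s ∈ m := hle (le_sup_left (b := Ideal.span {1 - e}) (Ideal.mem_span_singleton_self _))
      have : (⟨m, hm.isPrime⟩ : PrimeSpectrum R) ∈ (PrimeSpectrum.basicOpen e : Set (PrimeSpectrum R)) := fun he' =>
        hm.ne_top ((Ideal.eq_top_iff_one m).mpr (by simpa using m.add_mem h1 he'))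
      rw [← hran, PrimeSpectrum.localization_comap_range A S] at this
      exact Set.disjoint_left.mp this hs h2
    obtain ⟨a, ha, b, hb, hab⟩ := Submodule.mem_sup.mp ((Ideal.eq_top_iff_one _).mp this)
    obtain ⟨a, rfl⟩ := Ideal.mem_span_singleton'.mp ha
    have : x = b * x := by
      calc x = (a * s + b) * x := by rw [hab, one_mul]
        _ = b * x := by rw [add_mul, mul_assoc, hsx, mul_zero, zero_add]
    rw [this]
    exact Ideal.mul_mem_right _ _ hb
  let e1 : (R ⧸ Ideal.span {1 - e}) ≃+* A :=
    (Ideal.quotEquivOfEq hker.symm).trans (RingHom.quotientKerEquivOfSurjective hsurj)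
  have hcop : IsCoprime (Ideal.span {1 - e}) (Ideal.span {e}) :=
    (Ideal.isCoprime_span_singleton_iff _ _).mpr ⟨1, 1, by ring⟩
  have hbot : Ideal.span {1 - e} ⊓ Ideal.span {e} = ⊥ := by
    rw [← Ideal.mul_eq_inf_of_coprime hcop.sup_eq, Ideal.span_singleton_mul_span_singleton,
      Ideal.span_singleton_eq_bot, sub_mul, one_mul, he.eq, sub_self]
  refine ⟨R ⧸ Ideal.span {e}, inferInstance,
    (RingEquiv.quotientBot R).symm.trans ((Ideal.quotEquivOfEq hbot.symm).trans
      ((Ideal.quotientInfEquivQuotientProd _ _ hcop).trans (RingEquiv.prodCongr e1 (RingEquiv.refl _)))),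
    fun x => rfl⟩

end Groth.Agent.S6274
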