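import Groth.Statements.S6275
import Mathlib.RingTheory.Ideal.Operations

set_option autoImplicit false
universe u
open CAlg

namespace Groth.Agent.S6275

/-- Let R be a Noetherian ring and p ⊆ R a prime. Then there is f ∈ R, f ∉ p, such that R_f → R_p is
injective; equivalently every x ∈ R mapping to zero in R_p maps to zero in R_f. (The cases of a
domain and of a reduced ring with finitely many minimal primes are not included here.) -/
theorem result {R : Type u} [CommRing R] [IsNoetherianRing R] (p : Ideal R) [p.IsPrime] : ∃ f : R, f ∉ p ∧ ∀ x : R, algebraMap R (Localization.AtPrime p) x = 0 → algebraMap R (Localization.Away f) x = 0 := by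
  obtain ⟨s, hs⟩ := IsNoetherian.noetherian (RingHom.ker (algebraMap R (Localization.AtPrime p)))
  classical
  have : ∀ g : s, ∃ t : p.primeCompl, (t : R) * g = 0 := fun g =>
    (IsLocalization.map_eq_zero_iff p.primeCompl _ _).mp (RingHom.mem_ker.mp (hs ▸ Submodule.subset_span g.2))
  choose t ht using this
  refine ⟨∏ g, (t g : R), ?_, fun x hx => ?_⟩
  · show ¬ _
    intro hmem
    obtain ⟨g, -, hg⟩ := (Ideal.IsPrime.prod_mem_iff (p := p)).mp hmem
    exact (t g).2 hg
  · rw [IsLocalization.map_eq_zero_iff (Submonoid.powers (∏ g, (t g : R)))]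
    refine ⟨⟨_, Submonoid.mem_powers _⟩, ?_⟩
    have hx' : x ∈ Submodule.span R (s : Set R) := hs ▸ RingHom.mem_ker.mpr hx
    show (∏ g, (t g : R)) * x = 0
    clear hx
    refine Submodule.span_induction ?_ (mul_zero _) (fun a b _ _ ha hb => by rw [mul_add, ha, hb, add_zero])
      (fun c a _ ha => by rw [smul_eq_mul, mul_left_comm, ha, mul_zero]) hx'
    intro g hg
    rw [Fintype.prod_eq_prod_compl_mul ⟨g, hg⟩, mul_assoc, ht ⟨g, hg⟩, mul_zero]

end Groth.Agent.S6275
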