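import Groth.Statements.S6276
import Mathlib.FieldTheory.IntermediateField.Adjoin.Basic
import Mathlib.RingTheory.FiniteType
import Mathlib.RingTheory.FiniteStability
import Mathlib.RingTheory.Localization.FractionRing
import Mathlib.RingTheory.Localization.Submodule
import Mathlib.RingTheory.TensorProduct.Maps
-- import your own Groth.Agent.* helpers here

set_option autoImplicit false
universe u
open scoped TensorProduct
open CAlg

namespace Groth.Agent.S6276

/-- Let k be a field, R a Noetherian k-algebra and K/k a finitely generated field extension. Then K ⊗ₖ R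
is a Noetherian ring. -/
theorem result (k : Type u) [Field k] (R : Type u) [CommRing R] [Algebra k R] [IsNoetherianRing R] (K : Type u) [Field K] [Algebra k K] (hK : ∃ s : Finset K, IntermediateField.adjoin k (s : Set K) = ⊤) : IsNoetherianRing (K ⊗[k] R) := by
  obtain ⟨s, hs⟩ := hK
  let S := Algebra.adjoin k (s : Set K)
  haveI : Algebra.FiniteType k S := (Subalgebra.fg_iff_finiteType S).mp ⟨s, rfl⟩
  haveI : Algebra.FiniteType R (R ⊗[k] S) := inferInstance
  haveI : IsNoetherianRing (R ⊗[k] S) := Algebra.FiniteType.isNoetherianRing R (R ⊗[k] S)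
  let g : R ⊗[k] S →ₐ[k] R ⊗[k] K := Algebra.TensorProduct.map (AlgHom.id k R) S.val
  let M : Submonoid (R ⊗[k] S) :=
    (nonZeroDivisors S).map (Algebra.TensorProduct.includeRight : S →ₐ[k] R ⊗[k] S)
  have hunit : ∀ y : M, IsUnit (g.toRingHom y) := by
    rintro ⟨_, x, hx, rfl⟩
    show IsUnit (g (1 ⊗ₜ x))
    rw [Algebra.TensorProduct.map_tmul, map_one]
    exact (isUnit_iff_ne_zero.mpr fun h => nonZeroDivisors.ne_zero hx (Subtype.ext h)).map
      (Algebra.TensorProduct.includeRight : K →ₐ[k] R ⊗[k] K)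
  let L := Localization M
  haveI : IsNoetherianRing L := IsLocalization.isNoetherianRing M L inferInstance
  let Φ := IsLocalization.lift (S := L) hunit
  have hsurj : Function.Surjective Φ := by
    intro z
    induction z using TensorProduct.induction_on with
    | zero => exact ⟨0, map_zero _⟩
    | add a b ha hb =>
      obtain ⟨x, rfl⟩ := ha
      obtain ⟨y, rfl⟩ := hb
      exact ⟨x + y, map_add Φ x y⟩
    | tmul r x =>
      obtain ⟨a, ha, b, hb, rfl⟩ : ∃ a ∈ S, ∃ b ∈ S, x = a / b := by
        have hx : x ∈ IntermediateField.adjoin k (s : Set K) := hs ▸ IntermediateField.mem_top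
        exact IntermediateField.mem_adjoin_iff_div.mp hx
      rcases eq_or_ne b 0 with rfl | hb0
      · exact ⟨0, by simp⟩
      refine ⟨IsLocalization.mk' L (r ⊗ₜ (⟨a, ha⟩ : S)) (⟨1 ⊗ₜ ⟨b, hb⟩, ⟨b, hb⟩,
        mem_nonZeroDivisors_of_ne_zero (fun h => hb0 (congrArg Subtype.val h)), rfl⟩ : M), ?_⟩
      rw [IsLocalization.lift_mk'_spec]
      show g (r ⊗ₜ (⟨a, ha⟩ : S)) = g (1 ⊗ₜ (⟨b, hb⟩ : S)) * _
      simp only [g, Algebra.TensorProduct.map_tmul, AlgHom.coe_id, id_eq, Subalgebra.coe_val,
        Algebra.TensorProduct.tmul_mul_tmul, one_mul, mul_div_cancel₀ a hb0]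
  haveI : IsNoetherianRing (R ⊗[k] K) := isNoetherianRing_of_surjective L _ Φ hsurj
  exact isNoetherianRing_of_ringEquiv _ (Algebra.TensorProduct.comm k R K).toRingEquiv

end Groth.Agent.S6276
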