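import Groth.Statements.S6277
import Mathlib.RingTheory.Noetherian.Basic

set_option autoImplicit false
universe u
open CAlg

namespace Groth.Agent.S6277

/-- Any surjective ring endomorphism of a Noetherian ring is an isomorphism (bijective). -/
theorem result {R : Type u} [CommRing R] [IsNoetherianRing R] (f : R →+* R) (hf : Function.Surjective f) : Function.Bijective f := by
  refine ⟨?_, hf⟩
  let K : ℕ →o Ideal R := ⟨fun n => RingHom.ker (f ^ n), monotone_nat_of_le_succ fun n x hx => by
    rw [RingHom.mem_ker] at hx ⊢
    rw [pow_succ', RingHom.coe_mul, Function.comp_apply, hx, map_zero]⟩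
  obtain ⟨n, hn⟩ := monotone_stabilizes_iff_noetherian.mpr ‹IsNoetherianRing R› K
  rw [injective_iff_map_eq_zero]
  intro x hx
  obtain ⟨y, hy⟩ : ∃ y, (f ^ n) y = x := by
    have : Function.Surjective (f ^ n : R →+* R) := by rw [RingHom.coe_pow]; exact hf.iterate n
    exact this x
  have : y ∈ K (n+1) := by
    show y ∈ RingHom.ker (f ^ (n+1))
    rw [RingHom.mem_ker, pow_succ', RingHom.coe_mul, Function.comp_apply, hy, hx]
  rw [← hn (n+1) (Nat.le_succ n)] at this
  rw [← hy]; exact this

end Groth.Agent.S6277
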