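import Groth.Statements.S6281
import Mathlib.LinearAlgebra.TensorProduct.Tower
import Mathlib.RingTheory.Flat.Stability

set_option autoImplicit false
universe u
open CAlg

namespace Groth.Agent.S6281

open TensorProduct

/-- For an R-algebra S and an S-module M, flatness of S over R follows once M is both flat over R and
faithfully flat over S. -/
theorem result {R S : Type u} [CommRing R] [CommRing S] [Algebra R S] (M : Type u) [AddCommGroup M] [Module S M] [Module R M] [IsScalarTower R S M] [Module.Flat R M] [Module.FaithfullyFlat S M] : Module.Flat R S := by
  rw [Module.Flat.iff_lTensor_preserves_injective_linearMap]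
  intro A B _ _ _ _ f hf
  have e : ∀ z, AlgebraTensorModule.cancelBaseChange R S S M B ((f.baseChange S).lTensor M z) =
      f.lTensor M (AlgebraTensorModule.cancelBaseChange R S S M A z) := by
    intro z
    induction z with
    | zero => simp
    | add a b ha hb => simp only [map_add, ha, hb]
    | tmul m w =>
      induction w with
      | zero => simp
      | add a b ha hb => simp only [tmul_add, map_add, ha, hb]
      | tmul s a => simp
  have : Function.Injective ((f.baseChange S).lTensor M) := by
    intro a b hab
    apply (AlgebraTensorModule.cancelBaseChange R S S M A).injective
    apply Module.Flat.lTensor_preserves_injective_linearMap (M := M) f hf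
    rw [← e, ← e, hab]
  exact (Module.FaithfullyFlat.lTensor_injective_iff_injective S M (f.baseChange S)).mp this

end Groth.Agent.S6281
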