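import Groth.Statements.S6283
import Mathlib.RingTheory.Flat.Basic
import Mathlib.LinearAlgebra.TensorProduct.Pi
import Mathlib.RingTheory.Finiteness.Basic

set_option autoImplicit false
universe u
open scoped TensorProduct
open CAlg

namespace Groth.Agent.S6283

theorem key {R S : Type u} [CommRing R] [CommRing S] [Algebra R S] [Module.Flat R S] (M : Type u)
    [AddCommGroup M] [Module R M] {n : ℕ} (m : Fin n → M) (K : Ideal R)
    (hK : ∀ r, r ∈ K ↔ ∀ i, r • m i = 0) (s : S) (hs : ∀ i, s ⊗ₜ[R] m i = 0) :
    s ∈ K.map (algebraMap R S) := by
  let f : R →ₗ[R] (Fin n → M) := LinearMap.pi fun i => LinearMap.toSpanSingleton R M (m i)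
  have hker : LinearMap.ker f = K := by
    ext r
    rw [LinearMap.mem_ker, hK, funext_iff]
    rfl
  have hex : Function.Exact (K.subtype) f := by
    rw [LinearMap.exact_iff, hker]; exact (Submodule.range_subtype K).symm
  have hex' := Module.Flat.lTensor_exact S hex
  have h0 : f.lTensor S (s ⊗ₜ[R] (1 : R)) = 0 := by
    apply (TensorProduct.piRight R R S (fun _ : Fin n => M)).injective
    ext i
    simp [f, hs]
  obtain ⟨z, hz⟩ := (hex' _).mp h0
  have : s = TensorProduct.rid R S (K.subtype.lTensor S z) := by rw [hz]; simp
  rw [this]
  clear hz this h0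
  induction z using TensorProduct.induction_on with
  | zero => simp
  | tmul a k =>
    simp only [LinearMap.lTensor_tmul, TensorProduct.rid_tmul]
    show k.1 • a ∈ _
    rw [Algebra.smul_def]
    exact Ideal.mul_mem_right _ _ (Ideal.mem_map_of_mem _ k.2)
  | add a b ha hb => rw [map_add, map_add]; exact add_mem ha hb

/-- Let R → S be a flat ring map, M an R-module and m ∈ M. Then Ann_R(m)S = Ann_S(1 ⊗ m), the
annihilator in S of the element 1 ⊗ m of S ⊗_R M. If moreover M is a finite R-module then Ann_R(M)S
= Ann_S(S ⊗_R M). -/
theorem result {R S : Type u} [CommRing R] [CommRing S] [Algebra R S] [Module.Flat R S] (M : Type u) [AddCommGroup M] [Module R M] : (∀ m : M, ((Submodule.span R {m}).annihilator).map (algebraMap R S) = (Submodule.span S {(1 : S) ⊗ₜ[R] m}).annihilator) ∧ (Module.Finite R M → (Module.annihilator R M).map (algebraMap R S) = Module.annihilator S (S ⊗[R] M)) := by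
  constructor
  · intro m
    apply le_antisymm
    · rw [Ideal.map_le_iff_le_comap]
      intro r hr
      rw [Submodule.mem_annihilator_span_singleton] at hr
      rw [Ideal.mem_comap, Submodule.mem_annihilator_span_singleton, algebraMap_smul,
        ← TensorProduct.tmul_smul, hr, TensorProduct.tmul_zero]
    · intro s hs
      rw [Submodule.mem_annihilator_span_singleton, TensorProduct.smul_tmul', smul_eq_mul,
        mul_one] at hs
      exact key M (fun _ : Fin 1 => m) _
        (fun r => by simp [Submodule.mem_annihilator_span_singleton]) s (fun _ => hs)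
  · intro hfin
    apply le_antisymm
    · rw [Ideal.map_le_iff_le_comap]
      intro r hr
      rw [Module.mem_annihilator] at hr
      rw [Ideal.mem_comap, Module.mem_annihilator]
      intro x
      rw [algebraMap_smul]
      induction x using TensorProduct.induction_on with
      | zero => simp
      | tmul a b => rw [← TensorProduct.tmul_smul, hr, TensorProduct.tmul_zero]
      | add a b ha hb => rw [smul_add, ha, hb, add_zero]
    · intro s hs
      rw [Module.mem_annihilator] at hs
      obtain ⟨n, m, hm⟩ := Module.Finite.exists_fin (R := R) (M := M)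
      refine key M m _ (fun r => ?_) s (fun i => ?_)
      · rw [← Submodule.annihilator_top, ← hm, Submodule.mem_annihilator_span]
        simp
      · simpa [TensorProduct.smul_tmul'] using hs ((1 : S) ⊗ₜ[R] m i)

end Groth.Agent.S6283
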