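import Groth.Statements.S6284
import Mathlib.RingTheory.LocalRing.Module
import Mathlib.RingTheory.Flat.FaithfullyFlat.Basic
import Mathlib.LinearAlgebra.TensorProduct.Tower
import Mathlib.RingTheory.Spectrum.Prime.RingHom

set_option autoImplicit false
universe u
open scoped TensorProduct
open CAlg

namespace Groth.Agent.S6284

open TensorProduct

/-- Let R → R' be a ring map and M a finite R-module. Then the support of R' ⊗_R M is the inverse image
of the support of M under Spec(R') → Spec(R). -/
theorem result {R R' : Type u} [CommRing R] [CommRing R'] [Algebra R R'] (M : Type u) [AddCommGroup M] [Module R M] [Module.Finite R M] : Module.support R' (R' ⊗[R] M) = PrimeSpectrum.comap (algebraMap R R') ⁻¹' Module.support R M := by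
  ext q
  rw [Set.mem_preimage, Module.mem_support_iff_nontrivial_residueField_tensorProduct,
    Module.mem_support_iff_nontrivial_residueField_tensorProduct]
  let p := q.comap (algebraMap R R')
  let K := q.asIdeal.ResidueField
  let : Algebra p.asIdeal.ResidueField K := (Ideal.ResidueField.map p.asIdeal q.asIdeal (algebraMap R R') rfl).toAlgebra
  have : IsScalarTower R p.asIdeal.ResidueField K := IsScalarTower.of_algebraMap_eq fun x => by
    rw [IsScalarTower.algebraMap_apply R R' q.asIdeal.ResidueField, RingHom.algebraMap_toAlgebra]
    exact (Ideal.ResidueField.map_algebraMap _ _ _ _ x).symm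
  let e : K ⊗[R'] (R' ⊗[R] M) ≃ₗ[K] K ⊗[p.asIdeal.ResidueField] (p.asIdeal.ResidueField ⊗[R] M) :=
    AlgebraTensorModule.cancelBaseChange R R' K K M ≪≫ₗ
      (AlgebraTensorModule.cancelBaseChange R p.asIdeal.ResidueField K K M).symm
  rw [e.toEquiv.nontrivial_congr]
  simp only [← not_subsingleton_iff_nontrivial]
  exact not_congr (Module.FaithfullyFlat.subsingleton_tensorProduct_iff_right p.asIdeal.ResidueField K)

end Groth.Agent.S6284
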