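import Groth.Statements.S6286
import Mathlib.RingTheory.Spectrum.Prime.Polynomial
import Mathlib.RingTheory.Flat.Basic
import Mathlib.RingTheory.TensorProduct.Maps
-- import your own Groth.Agent.* helpers here

set_option autoImplicit false
universe u
open scoped TensorProduct
open CAlg

namespace Groth.Agent.S6286

/-- Let k be a field, R and S k-algebras, S' ⊆ S a k-subalgebra and f ∈ R ⊗ₖ S', with image f again in R
⊗ₖ S. Then the images in Spec(R) of Spec((R ⊗ₖ S)_f) and of Spec((R ⊗ₖ S')_f) coincide: a prime p of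
R is the contraction of a prime of R ⊗ₖ S not containing f if and only if it is the contraction of a
prime of R ⊗ₖ S' not containing f. -/
theorem result (k : Type u) [Field k] (R S : Type u) [CommRing R] [Algebra k R] [CommRing S] [Algebra k S] (S' : Subalgebra k S) (f : R ⊗[k] S') (p : PrimeSpectrum R) : (∃ q : PrimeSpectrum (R ⊗[k] S), Algebra.TensorProduct.map (AlgHom.id k R) S'.val f ∉ q.asIdeal ∧ q.asIdeal.comap (algebraMap R (R ⊗[k] S)) = p.asIdeal) ↔ (∃ q' : PrimeSpectrum (R ⊗[k] S'), f ∉ q'.asIdeal ∧ q'.asIdeal.comap (algebraMap R (R ⊗[k] S')) = p.asIdeal) := by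
  let κ := p.asIdeal.ResidueField
  have key : ∀ (T : Type u) [CommRing T] [Algebra k T] (g : R ⊗[k] T),
      (∃ q : PrimeSpectrum (R ⊗[k] T), g ∉ q.asIdeal ∧ q.asIdeal.comap (algebraMap R (R ⊗[k] T)) = p.asIdeal) ↔
        ¬ IsNilpotent (Algebra.TensorProduct.map (IsScalarTower.toAlgHom k R κ) (AlgHom.id k T) g) := by
    intro T _ _ g
    let ψ := Algebra.TensorProduct.map (IsScalarTower.toAlgHom k R κ) (AlgHom.id k T)
    rw [nilpotent_iff_mem_prime]
    push Not
    constructor
    · rintro ⟨q, hg, hq⟩
      let L := q.asIdeal.ResidueField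
      let j : κ →+* L := Ideal.ResidueField.map p.asIdeal q.asIdeal (algebraMap R (R ⊗[k] T)) hq.symm
      have hjc : ∀ c : k, j (algebraMap k κ c) = algebraMap k L c := fun c => by
        show Ideal.ResidueField.map p.asIdeal q.asIdeal (algebraMap R (R ⊗[k] T)) hq.symm (algebraMap k κ c) = _
        rw [IsScalarTower.algebraMap_apply k R κ, Ideal.ResidueField.map_algebraMap, ← IsScalarTower.algebraMap_apply k R,
          ← IsScalarTower.algebraMap_apply k (R ⊗[k] T)]
      let j' : κ →ₐ[k] L := { j with commutes' := hjc }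
      let t : T →ₐ[k] L := (IsScalarTower.toAlgHom k (R ⊗[k] T) L).comp Algebra.TensorProduct.includeRight
      let Φ := Algebra.TensorProduct.lift j' t (fun _ _ => Commute.all _ _)
      have hcomp : Φ.comp ψ = IsScalarTower.toAlgHom k (R ⊗[k] T) L := by
        refine Algebra.TensorProduct.ext ?_ ?_
        · ext r
          simp only [AlgHom.comp_apply, Algebra.TensorProduct.includeLeft_apply, ψ, Algebra.TensorProduct.map_tmul,
            map_one, Φ, Algebra.TensorProduct.lift_tmul, mul_one]
          exact Ideal.ResidueField.map_algebraMap p.asIdeal q.asIdeal _ hq.symm r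
        · ext t'
          simp [ψ, Φ, t]
      refine ⟨RingHom.ker Φ.toRingHom, RingHom.ker_isPrime _, fun hmem => hg ?_⟩
      have := AlgHom.congr_fun hcomp g
      rw [AlgHom.comp_apply] at this
      rw [← Ideal.algebraMap_residueField_eq_zero (I := q.asIdeal)]
      exact this.symm.trans hmem
    · rintro ⟨Q, hQ, hg⟩
      haveI := hQ
      refine ⟨⟨Q.comap ψ, inferInstance⟩, hg, ?_⟩
      ext r
      show ψ (r ⊗ₜ 1) ∈ Q ↔ _
      rw [Algebra.TensorProduct.map_tmul, map_one, ← Ideal.algebraMap_residueField_eq_zero (I := p.asIdeal)]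
      constructor
      · intro hr
        by_contra hne
        refine hQ.ne_top (Ideal.eq_top_of_isUnit_mem _ hr ?_)
        exact (isUnit_iff_ne_zero.mpr hne).map (Algebra.TensorProduct.includeLeft : κ →ₐ[k] κ ⊗[k] T)
      · intro hr
        rw [show IsScalarTower.toAlgHom k R κ r = 0 from hr, TensorProduct.zero_tmul]
        exact Q.zero_mem
  rw [key, key, not_iff_not]
  have hnat : Algebra.TensorProduct.map (IsScalarTower.toAlgHom k R κ) (AlgHom.id k S) (Algebra.TensorProduct.map (AlgHom.id k R) S'.val f) =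
      Algebra.TensorProduct.map (AlgHom.id k κ) S'.val (Algebra.TensorProduct.map (IsScalarTower.toAlgHom k R κ) (AlgHom.id k S') f) := by
    rw [← AlgHom.comp_apply, ← AlgHom.comp_apply, ← Algebra.TensorProduct.map_comp, ← Algebra.TensorProduct.map_comp,
      AlgHom.id_comp, AlgHom.comp_id, AlgHom.id_comp, AlgHom.comp_id]
  rw [hnat]
  refine IsNilpotent.map_iff ?_
  exact Module.Flat.lTensor_preserves_injective_linearMap (M := κ) S'.val.toLinearMap Subtype.coe_injective

end Groth.Agent.S6286
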