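import Groth.Statements.S6287
-- import your own Groth.Agent.* helpers here

set_option autoImplicit false
universe u
open CAlg

namespace Groth.Agent.S6287

/-- Let (A_i) be a directed system of valuation rings. Then the colimit A = colim A_i is a valuation
ring (in particular a domain). -/
theorem result {ι : Type u} [Preorder ι] [Nonempty ι] [IsDirected ι (· ≤ ·)] (G : ι → Type u) [∀ i, CommRing (G i)] [∀ i, IsDomain (G i)] [∀ i, ValuationRing (G i)] (f : ∀ i j, i ≤ j → G i →+* G j) [DirectedSystem G fun i j h => f i j h] : ∃ _ : IsDomain (Ring.DirectLimit G fun i j h => f i j h), ValuationRing (Ring.DirectLimit G fun i j h => f i j h) := by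
  classical
  let D := Ring.DirectLimit G fun i j h => f i j h
  haveI : Nontrivial D := ⟨⟨0, 1, fun h01 => by
    let i := Classical.arbitrary ι
    have h : Ring.DirectLimit.of G (fun i j h => f i j h) i 1 = 0 := by rw [map_one]; exact h01.symm
    obtain ⟨j, hij, hj⟩ := Ring.DirectLimit.of.zero_exact h
    exact one_ne_zero (α := G j) (by simpa using hj)⟩⟩
  haveI : NoZeroDivisors D := ⟨fun {x y} hxy => by
    obtain ⟨i, x, rfl⟩ := Ring.DirectLimit.exists_of x
    obtain ⟨j, y, rfl⟩ := Ring.DirectLimit.exists_of y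
    obtain ⟨k, hik, hjk⟩ := exists_ge_ge i j
    rw [← Ring.DirectLimit.of_f (f := fun i j h => f i j h) hik x, ← Ring.DirectLimit.of_f (f := fun i j h => f i j h) hjk y, ← map_mul] at hxy
    obtain ⟨l, hkl, hl⟩ := Ring.DirectLimit.of.zero_exact hxy
    rw [map_mul, mul_eq_zero] at hl
    rcases hl with hl | hl
    · left
      rw [← Ring.DirectLimit.of_f (f := fun i j h => f i j h) hik x, ← Ring.DirectLimit.of_f (f := fun i j h => f i j h) hkl, hl, map_zero]
    · right
      rw [← Ring.DirectLimit.of_f (f := fun i j h => f i j h) hjk y, ← Ring.DirectLimit.of_f (f := fun i j h => f i j h) hkl, hl, map_zero]⟩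
  haveI : IsDomain D := NoZeroDivisors.to_isDomain D
  refine ⟨inferInstance, ValuationRing.iff_dvd_total.mpr ⟨fun x y => ?_⟩⟩
  obtain ⟨i, x, rfl⟩ := Ring.DirectLimit.exists_of x
  obtain ⟨j, y, rfl⟩ := Ring.DirectLimit.exists_of y
  obtain ⟨k, hik, hjk⟩ := exists_ge_ge i j
  rw [← Ring.DirectLimit.of_f (f := fun i j h => f i j h) hik x, ← Ring.DirectLimit.of_f (f := fun i j h => f i j h) hjk y]
  exact (ValuationRing.dvd_total (f i k hik x) (f j k hjk y)).imp (map_dvd _) (map_dvd _)

end Groth.Agent.S6287
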