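import Groth.Statements.S6289
-- import your own Groth.Agent.* helpers here

set_option autoImplicit false
universe u
open CAlg

namespace Groth.Agent.S6289

/-- Let A' be a valuation ring with residue field K and A ⊆ K a valuation ring with fraction field K.
Then the subring C of A' consisting of the elements whose residue class lies in A is a valuation
ring. -/
theorem result (A' : Type u) [CommRing A'] [IsDomain A'] [ValuationRing A'] (A : ValuationSubring (IsLocalRing.ResidueField A')) : ValuationRing (A.toSubring.comap (IsLocalRing.residue A')) := by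
  refine ValuationRing.iff_dvd_total.mpr ⟨fun x y => ?_⟩
  have key : ∀ x y : A.toSubring.comap (IsLocalRing.residue A'), (x : A') ∣ (y : A') → x ∣ y ∨ y ∣ x := by
    rintro x y ⟨c, hc⟩
    rcases A.mem_or_inv_mem (IsLocalRing.residue A' c) with h | h
    · exact Or.inl ⟨⟨c, h⟩, Subtype.ext hc⟩
    · by_cases hu : IsUnit c
      · obtain ⟨u, rfl⟩ := hu
        refine Or.inr ⟨⟨(↑u⁻¹ : A'), ?_⟩, Subtype.ext ?_⟩
        · show IsLocalRing.residue A' (↑u⁻¹ : A') ∈ A.toSubring
          have : IsLocalRing.residue A' (↑u⁻¹ : A') = (IsLocalRing.residue A' (u : A'))⁻¹ := map_units_inv _ _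
          rw [this]; exact h
        · show (x : A') = (y : A') * (↑u⁻¹ : A')
          rw [hc, mul_assoc, Units.mul_inv, mul_one]
      · exact Or.inl ⟨⟨c, show IsLocalRing.residue A' c ∈ A.toSubring by
          rw [(IsLocalRing.residue_eq_zero_iff c).mpr hu]; exact zero_mem _⟩, Subtype.ext hc⟩
  rcases ValuationRing.dvd_total (x : A') (y : A') with h | h
  · exact key x y h
  · exact (key y x h).symm

end Groth.Agent.S6289
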