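import Groth.Statements.S6290
import Mathlib.RingTheory.Filtration
import Mathlib.RingTheory.Nakayama

set_option autoImplicit false
universe u
open CAlg

namespace Groth.Agent.S6290

/-- Let R be a Noetherian ring, I ⊆ R an ideal, M a finite R-module and N = ⋂ₙ IⁿM. Then for every prime
p ⊇ I there is f ∈ R, f ∉ p, with N_f = 0, i.e. every element of N is annihilated by some power of
f. -/
theorem result {R : Type u} [CommRing R] [IsNoetherianRing R] (I : Ideal R) (M : Type u) [AddCommGroup M] [Module R M] [Module.Finite R M] (p : Ideal R) [p.IsPrime] (hIp : I ≤ p) : ∃ f : R, f ∉ p ∧ ∀ x ∈ (⨅ n : ℕ, I ^ n • (⊤ : Submodule R M)), ∃ k : ℕ, f ^ k • x = 0 := by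
  set N : Submodule R M := ⨅ n : ℕ, I ^ n • ⊤
  obtain ⟨k, hk⟩ := I.exists_pow_inf_eq_pow_smul N
  have hN : ∀ n, I ^ n • ⊤ ⊓ N = N := fun n => inf_eq_right.mpr (iInf_le _ n)
  have h := hk (k + 1) k.le_succ
  rw [hN, hN, Nat.add_sub_cancel_left, pow_one] at h
  obtain ⟨r, hr, hr'⟩ := Submodule.exists_mem_and_smul_eq_self_of_fg_of_le_smul I N (IsNoetherian.noetherian N) h.le
  refine ⟨1 - r, fun hmem => (inferInstance : p.IsPrime).ne_top ((Ideal.eq_top_iff_one p).mpr (by simpa using p.add_mem hmem (hIp hr))),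
    fun x hx => ⟨1, by rw [pow_one, sub_smul, one_smul, hr' x hx, sub_self]⟩⟩

end Groth.Agent.S6290
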