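import Groth.Statements.S6294
import Mathlib.RingTheory.Localization.AtPrime.Basic
import Mathlib.RingTheory.Ideal.MinimalPrime.Localization
import Mathlib.RingTheory.Ideal.Operations
import Mathlib.Algebra.Algebra.Pi
import Mathlib.Algebra.Group.Pi.Units

set_option autoImplicit false
universe u
open CAlg

namespace Groth.Agent.S6294

/-- Let R be a ring with finitely many minimal primes q₁, …, q_t, and assume that the zerodivisors of R
are precisely the elements of q₁ ∪ … ∪ q_t. Then Q(R), the total ring of fractions of R, equals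
R_{q₁} × … × R_{q_t}: the diagonal map R → ∏ R_{q_i} is a localization of R at its non-zerodivisors. -/
theorem result {R : Type u} [CommRing R] {ι : Type} [Fintype ι] (q : ι → Ideal R) [∀ i, (q i).IsPrime] (hinj : Function.Injective q) (hmin : ∀ P : Ideal R, P ∈ minimalPrimes R ↔ P ∈ Set.range q) (hzd : ∀ x : R, x ∈ nonZeroDivisors R ↔ ∀ i, x ∉ q i) : IsLocalization (nonZeroDivisors R) (∀ i, Localization.AtPrime (q i)) := by
  classical
  have hnot : ∀ i j, j ≠ i → ¬ q j ≤ q i := by
    intro i j hne hle
    have hi : q i ∈ minimalPrimes R := (hmin _).mpr ⟨i, rfl⟩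
    exact hne (hinj (le_antisymm hle (hi.2 ⟨inferInstance, bot_le⟩ hle)))
  -- an element vanishing at q j but not in q i
  have hc : ∀ i j, j ≠ i → ∃ c ∉ q i, algebraMap R (Localization.AtPrime (q j)) c = 0 := by
    intro i j hne
    obtain ⟨c, hcj, hci⟩ := SetLike.not_le_iff_exists.mp (hnot i j hne)
    have hj : q j ∈ minimalPrimes R := (hmin _).mpr ⟨j, rfl⟩
    have hnil : IsNilpotent (algebraMap R (Localization.AtPrime (q j)) c) := by
      rw [← mem_nilradical, nilradical_eq_sInf]
      refine Submodule.mem_sInf.mpr fun (P : Ideal (Localization.AtPrime (q j))) (hP : P.IsPrime) => ?_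
      have h2 : P.comap (algebraMap R (Localization.AtPrime (q j))) ≤ q j := by
        have h := ((IsLocalization.AtPrime.orderIsoOfPrime (Localization.AtPrime (q j)) (q j)) ⟨P, hP⟩).2.2
        exact h
      exact hj.2 ⟨Ideal.IsPrime.comap _, bot_le⟩ h2 hcj
    obtain ⟨k, hk⟩ := hnil
    exact ⟨c ^ k, fun h => hci ((inferInstance : (q i).IsPrime).mem_of_pow_mem k h),
      by rw [map_pow, hk]⟩
  choose c hci hcj using hc
  let e : ι → R := fun i => ∏ j : {j // j ≠ i}, c i j.1 j.2
  have he : ∀ i, e i ∉ q i := fun i h => by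
    obtain ⟨j, -, hj⟩ := ((inferInstance : (q i).IsPrime).prod_mem_iff).mp h
    exact hci i j.1 j.2 hj
  have he0 : ∀ i j, j ≠ i → algebraMap R (Localization.AtPrime (q j)) (e i) = 0 := fun i j hne => by
    rw [map_prod]
    exact Finset.prod_eq_zero (Finset.mem_univ (⟨j, hne⟩ : {j // j ≠ i})) (hcj i j hne)
  refine ⟨⟨?_, ?_, ?_⟩⟩
  · rintro ⟨x, hx⟩
    exact Pi.isUnit_iff.mpr fun i =>
      IsLocalization.map_units (Localization.AtPrime (q i)) (⟨x, (hzd x).mp hx i⟩ : (q i).primeCompl)
  · intro z
    choose as has using fun i => IsLocalization.surj (q i).primeCompl (z i)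
    have hsum : ∀ (g : ι → R) i, algebraMap R (Localization.AtPrime (q i)) (∑ j, e j * g j)
        = algebraMap R (Localization.AtPrime (q i)) (e i * g i) := by
      intro g i
      rw [map_sum, Finset.sum_eq_single i (fun j _ hji => by rw [map_mul, he0 j i (Ne.symm hji), zero_mul])
        (fun h => absurd (Finset.mem_univ i) h)]
    let t := ∑ j, e j * ((as j).2 : R)
    have ht : t ∈ nonZeroDivisors R := by
      rw [hzd]
      intro i hti
      have h := hsum (fun j => ((as j).2 : R)) i
      have hu : IsUnit (algebraMap R (Localization.AtPrime (q i)) t) := by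
        rw [h, map_mul]
        exact (IsLocalization.map_units (Localization.AtPrime (q i)) (⟨e i, he i⟩ : (q i).primeCompl)).mul
          (IsLocalization.map_units (Localization.AtPrime (q i)) (as i).2)
      exact (IsLocalization.AtPrime.isUnit_to_map_iff (Localization.AtPrime (q i)) (q i) t).mp hu hti
    refine ⟨(∑ j, e j * (as j).1, ⟨t, ht⟩), ?_⟩
    funext i
    show z i * algebraMap R _ t = algebraMap R _ _
    refine (congrArg (z i * ·) (hsum (fun j => ((as j).2 : R)) i)).trans (Eq.trans ?_ (hsum (fun j => (as j).1) i).symm)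
    simp only [map_mul, ← has i]
    ring
  · intro x y hxy
    let A : Ideal R :=
      { carrier := {t | t * x = t * y}
        add_mem' := fun {a b} ha hb => by
          simp only [Set.mem_setOf_eq, add_mul] at ha hb ⊢; rw [ha, hb]
        zero_mem' := by simp
        smul_mem' := fun r t ht => by
          simp only [Set.mem_setOf_eq, smul_eq_mul, mul_assoc] at ht ⊢; rw [ht] }
    have hA : ¬ ((A : Set R) ⊆ ⋃ i ∈ ((Finset.univ : Finset ι) : Set ι), (q i : Set R)) := by
      intro hsub
      rcases isEmpty_or_nonempty ι with hι | ⟨⟨i0⟩⟩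
      · simpa using hsub A.zero_mem
      obtain ⟨i, -, hi⟩ := (Ideal.subset_union_prime i0 i0 (fun i _ _ _ => inferInstance)).mp hsub
      obtain ⟨t, ht⟩ := (IsLocalization.eq_iff_exists (q i).primeCompl (Localization.AtPrime (q i))).mp
        (congrFun hxy i)
      exact t.2 (hi ht)
    obtain ⟨t, htA, ht⟩ := Set.not_subset.mp hA
    refine ⟨⟨t, (hzd t).mpr fun i hi => ht ?_⟩, htA⟩
    exact Set.mem_biUnion (Finset.mem_univ i) hi

end Groth.Agent.S6294
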