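import Groth.Statements.S6295
import Groth.Agent.H1CAlg.Serre
import Mathlib.RingTheory.Ideal.MinimalPrime.Localization

set_option autoImplicit false
universe u
open CAlg

namespace Groth.Agent.S6295

/-- Let R be a reduced ring. Then every localization R_p at a minimal prime p is a field and the map R →
∏_{p minimal} R_p is injective (so R is a subring of a product of fields); moreover the set of
zerodivisors of R is the union of the minimal primes. -/
theorem result (R : Type u) [CommRing R] [IsReduced R] : (∀ p : PrimeSpectrum R, p.asIdeal ∈ minimalPrimes R → IsField (Localization.AtPrime p.asIdeal)) ∧ Function.Injective (algebraMap R (∀ p : {p : PrimeSpectrum R // p.asIdeal ∈ minimalPrimes R}, Localization.AtPrime p.1.asIdeal)) ∧ (∀ x : R, x ∉ nonZeroDivisors R ↔ ∃ p ∈ minimalPrimes R, x ∈ p) := by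
  refine ⟨fun p hp => H1CAlg.isField_localization_of_minimalPrimes hp, ?_, fun x => ⟨?_, ?_⟩⟩
  · rw [injective_iff_map_eq_zero]
    intro x hx
    have : x ∈ sInf (Ideal.minimalPrimes (⊥ : Ideal R)) := by
      refine Submodule.mem_sInf.mpr fun (p : Ideal R) hp => ?_
      haveI := Ideal.minimalPrimes_isPrime hp
      have hx' : algebraMap R (Localization.AtPrime p) x = 0 :=
        congrFun hx ⟨⟨p, inferInstance⟩, hp⟩
      obtain ⟨c, hc⟩ := (IsLocalization.map_eq_zero_iff p.primeCompl _ x).mp hx'
      exact (Ideal.IsPrime.mem_or_mem ‹p.IsPrime› (hc ▸ p.zero_mem)).resolve_left c.2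
    rw [Ideal.sInf_minimalPrimes] at this
    have h2 : x ∈ nilradical R := this
    rwa [nilradical_eq_bot_iff.mpr ‹IsReduced R›] at h2
  · intro hx
    rw [mem_nonZeroDivisors_iff_right] at hx
    push_neg at hx
    obtain ⟨y, hxy, hy⟩ := hx
    have : y ∉ nilradical R := by
      rwa [nilradical_eq_bot_iff.mpr ‹IsReduced R›]
    rw [nilradical, ← Ideal.sInf_minimalPrimes, Submodule.mem_sInf] at this
    push_neg at this
    obtain ⟨p, hp, hyp⟩ := this
    exact ⟨p, hp, ((Ideal.minimalPrimes_isPrime hp).mem_or_mem (hxy ▸ p.zero_mem)).resolve_left hyp⟩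
  · rintro ⟨p, hp, hxp⟩
    exact notMem_nonZeroDivisors_of_mem_mem_minimalPrimes hxp hp

end Groth.Agent.S6295
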