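import Groth.Statements.S6296
import Mathlib.RingTheory.Nakayama
import Mathlib.RingTheory.Finiteness.Ideal
import Mathlib.RingTheory.Ideal.Operations

set_option autoImplicit false
universe u
open CAlg

namespace Groth.Agent.S6296


/-- Let A → B be a local homomorphism of local rings such that (1) B is a finite A-module, (2) the
maximal ideal m_B is finitely generated, (3) the induced map of residue fields is an isomorphism,
and (4) m_A/m_A² → m_B/m_B² is surjective, i.e. m_B ⊆ m_A B + m_B². Then A → B is surjective. -/
theorem result {A B : Type u} [CommRing A] [CommRing B] [IsLocalRing A] [IsLocalRing B] [Algebra A B] [IsLocalHom (algebraMap A B)] [Module.Finite A B] (hfg : (IsLocalRing.maximalIdeal B).FG) (hres : Function.Surjective (IsLocalRing.ResidueField.map (algebraMap A B))) (hcot : IsLocalRing.maximalIdeal B ≤ (IsLocalRing.maximalIdeal A).map (algebraMap A B) ⊔ (IsLocalRing.maximalIdeal B) ^ 2) : Function.Surjective (algebraMap A B) := by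
  open IsLocalRing in
  let J : Ideal B := (maximalIdeal A).map (algebraMap A B)
  have hB : maximalIdeal B ≤ J := by
    refine Submodule.le_of_le_smul_of_le_jacobson_bot hfg (maximalIdeal_le_jacobson (⊥ : Ideal B)) ?_
    rw [smul_eq_mul, ← sq]
    exact hcot
  rw [← Algebra.coe_linearMap, ← LinearMap.range_eq_top, eq_top_iff]
  refine Submodule.le_of_le_smul_of_le_jacobson_bot Module.Finite.fg_top
    (maximalIdeal_le_jacobson (⊥ : Ideal A)) ?_
  intro b _
  obtain ⟨a', ha'⟩ := hres (residue B b)
  obtain ⟨a, rfl⟩ := residue_surjective (R := A) a'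
  rw [ResidueField.map_residue] at ha'
  have h1 : b - algebraMap A B a ∈ maximalIdeal B := by
    rw [← residue_eq_zero_iff, map_sub, ha', sub_self]
  refine Submodule.mem_sup.mpr ⟨algebraMap A B a, ⟨a, rfl⟩, b - algebraMap A B a, ?_, by simp⟩
  rw [Ideal.smul_top_eq_map]
  exact hB h1

end Groth.Agent.S6296
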