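import Groth.Statements.S6298
import Mathlib.RingTheory.Ideal.Operations
import Mathlib.Order.Preorder.Finite

set_option autoImplicit false
universe u
open CAlg

namespace Groth.Agent.S6298

/-- Let R be a ring, x ∈ R, I ⊆ R an ideal and p₁, …, p_r prime ideals such that for each i the coset x
+ I is not contained in p_i. Then there is y ∈ I with x + y ∉ p_i for all i. -/
theorem result {R : Type u} [CommRing R] (x : R) (I : Ideal R) {r : ℕ} (p : Fin r → Ideal R) [∀ i, (p i).IsPrime] (h : ∀ i, ∃ y ∈ I, x + y ∉ p i) : ∃ y ∈ I, ∀ i, x + y ∉ p i := by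
  classical
  let P : Finset (Ideal R) := (Finset.univ.image p).filter fun q => ∀ i, q ≤ p i → p i ≤ q
  have hP : ∀ q ∈ P, ∃ i, p i = q ∧ ∀ j, q ≤ p j → p j ≤ q := by
    intro q hq
    simpa [P] using hq
  have hmax : ∀ i, ∃ q ∈ P, p i ≤ q := by
    intro i
    obtain ⟨q, hiq, hq⟩ := Set.Finite.exists_le_maximal (s := Set.range p) (Set.finite_range p) ⟨i, rfl⟩
    refine ⟨q, ?_, hiq⟩
    obtain ⟨k, rfl⟩ := hq.1
    simp only [P, Finset.mem_filter, Finset.mem_image, Finset.mem_univ, true_and]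
    exact ⟨⟨k, rfl⟩, fun j hj => hq.2 ⟨j, rfl⟩ hj⟩
  let J : Ideal R := I * ∏ q ∈ P.filter (fun q => x ∉ q), q
  have hJI : J ≤ I := Ideal.mul_le_left
  have hJq : ∀ q ∈ P, x ∉ q → J ≤ q := fun q hq hx =>
    Ideal.mul_le_right.trans (Ideal.prod_le_inf.trans (Finset.inf_le (f := id) (by simp [hq, hx])))
  have hnot : ¬ ((J : Set R) ⊆ ⋃ q ∈ (↑(P.filter fun q => x ∈ q) : Set (Ideal R)), (q : Set R)) := by
    rw [Ideal.subset_union_prime (f := fun q : Ideal R => q) ⊥ ⊥ ?_]
    · rintro ⟨q, hq, hle⟩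
      simp only [Finset.mem_filter] at hq
      obtain ⟨i, rfl, hi⟩ := hP q hq.1
      rcases (Ideal.IsPrime.mul_le (inferInstance : (p i).IsPrime)).mp hle with h' | h'
      · obtain ⟨y, hy, hxy⟩ := h i
        exact hxy ((p i).add_mem hq.2 (h' hy))
      · obtain ⟨q', hq', hle'⟩ := (Ideal.IsPrime.prod_le (inferInstance : (p i).IsPrime)).mp h'
        simp only [Finset.mem_filter] at hq'
        obtain ⟨j, rfl, hj⟩ := hP q' hq'.1
        exact hq'.2 (hj i hle' hq.2)
    · intro q hq _ _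
      obtain ⟨i, rfl, -⟩ := hP q (Finset.mem_filter.mp hq).1
      infer_instance
  obtain ⟨y, hy, hy'⟩ := Set.not_subset.mp hnot
  refine ⟨y, hJI hy, fun i hi => ?_⟩
  obtain ⟨q, hq, hiq⟩ := hmax i
  by_cases hx : x ∈ q
  · refine hy' (Set.mem_biUnion (x := q) (by simp [hq, hx]) ?_)
    simpa using q.sub_mem (hiq hi) hx
  · exact hx (by simpa using q.sub_mem (hiq hi) (hJq q hq hx hy))

end Groth.Agent.S6298
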