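import Groth.Statements.S6300
import Groth.Agent.H1CAlg.Normal
import Mathlib.RingTheory.Localization.LocalizationLocalization
import Mathlib.RingTheory.Localization.Algebra
import Mathlib.RingTheory.Polynomial.IsIntegral

set_option autoImplicit false
universe u
open CAlg

namespace Groth.Agent.S6300

/-- Let R be a normal ring (every localization at a prime is an integrally closed domain). Then R[x] is
a normal ring. -/
theorem result (R : Type u) [CommRing R] (hR : EGA4.IsNormalRing R) : EGA4.IsNormalRing (Polynomial R) := by
  intro P _
  let q : Ideal R := P.comap Polynomial.C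
  haveI : q.IsPrime := Ideal.IsPrime.comap _
  obtain ⟨hdom, hic⟩ := hR q
  let A := Localization.AtPrime q
  let T := Localization.AtPrime P
  letI : Algebra (Polynomial R) (Polynomial A) := (Polynomial.mapRingHom (algebraMap R A)).toAlgebra
  haveI : IsLocalization (q.primeCompl.map Polynomial.C) (Polynomial A) :=
    Polynomial.isLocalization q.primeCompl A
  have hle : q.primeCompl.map (Polynomial.C : R →+* Polynomial R) ≤ P.primeCompl := by
    rintro _ ⟨s, hs, rfl⟩
    exact hs
  letI : Algebra (Polynomial A) T := IsLocalization.localizationAlgebraOfSubmonoidLe (Polynomial A) T _ _ hle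
  haveI := IsLocalization.localization_isScalarTower_of_submonoid_le (Polynomial A) T _ _ hle
  haveI := IsLocalization.isLocalization_of_submonoid_le (Polynomial A) T _ _ hle
  have hM : P.primeCompl.map (algebraMap (Polynomial R) (Polynomial A)) ≤ nonZeroDivisors (Polynomial A) := by
    rintro _ ⟨y, hy, rfl⟩
    refine mem_nonZeroDivisors_of_ne_zero fun h => ?_
    have hu := IsLocalization.map_units T (⟨y, hy⟩ : P.primeCompl)
    rw [IsScalarTower.algebraMap_apply (Polynomial R) (Polynomial A) T, h, map_zero] at hu
    exact not_isUnit_zero hu
  exact ⟨IsLocalization.isDomain_of_le_nonZeroDivisors (Localization.AtPrime P) hM,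
    isIntegrallyClosed_of_isLocalization T (P.primeCompl.map (algebraMap (Polynomial R) (Polynomial A))) hM⟩

end Groth.Agent.S6300
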