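import Groth.Statements.S6301
import Mathlib.RingTheory.Flat.EquationalCriterion
import Mathlib.LinearAlgebra.Finsupp.LinearCombination

set_option autoImplicit false
universe u
open CAlg

namespace Groth.Agent.S6301

/-- An R-module M is flat exactly when, for every finitely presented R-module P and every surjective
R-module map N → M, the induced map Hom_R(P, N) → Hom_R(P, M) is surjective (modules P, N taken in
the same universe). -/
theorem result {R : Type u} [CommRing R] (M : Type u) [AddCommGroup M] [Module R M] : Module.Flat R M ↔ ∀ (P : Type u) [AddCommGroup P] [Module R P], Module.FinitePresentation R P → ∀ (N : Type u) [AddCommGroup N] [Module R N] (g : N →ₗ[R] M), Function.Surjective g → ∀ h : P →ₗ[R] M, ∃ h' : P →ₗ[R] N, g.comp h' = h := by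
  constructor
  · intro _ P _ _ hP N _ _ g hg h
    obtain ⟨k, h₂, h₃, rfl⟩ := Module.Flat.exists_factorization_of_finitePresentation h
    obtain ⟨l, hl⟩ := Module.projective_lifting_property g h₃ hg
    exact ⟨l ∘ₗ h₂, by rw [← LinearMap.comp_assoc, hl]⟩
  · intro H
    refine Module.Flat.of_forall_exists_factorization fun {l f x} hxf => ?_
    classical
    have hle : Submodule.span R {f} ≤ LinearMap.ker x := by rw [Submodule.span_singleton_le_iff_mem]; exact hxf
    haveI : Module.FinitePresentation R ((Fin l →₀ R) ⧸ Submodule.span R {f}) :=
      Module.finitePresentation_of_surjective _ (Submodule.mkQ_surjective _) (by rw [Submodule.ker_mkQ]; exact Submodule.fg_span_singleton f)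
    obtain ⟨h', hh'⟩ := H _ inferInstance (M →₀ R) (Finsupp.linearCombination R id)
      (Finsupp.linearCombination_surjective R Function.surjective_id) ((Submodule.span R {f}).liftQ x hle)
    let a' := h' ∘ₗ (Submodule.span R {f}).mkQ
    let S : Finset M := Finset.univ.biUnion fun i : Fin l => (a' (Finsupp.single i 1)).support
    let e : Fin S.card ≃ S := S.equivFin.symm
    let res : (M →₀ R) →ₗ[R] (Fin S.card →₀ R) :=
      Finsupp.lcomapDomain (fun i => (e i : M)) (Subtype.val_injective.comp e.injective)
    refine ⟨S.card, res ∘ₗ a', Finsupp.linearCombination R (fun i => (e i : M)), ?_, ?_⟩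
    · apply Finsupp.lhom_ext
      intro i c
      have hx : x = Finsupp.linearCombination R id ∘ₗ a' := by
        rw [← LinearMap.comp_assoc, hh', Submodule.liftQ_mkQ]
      rw [hx]
      simp only [LinearMap.comp_apply]
      set z := a' (Finsupp.single i c)
      have hz : z.support ⊆ S := by
        intro m hm
        have : z = c • a' (Finsupp.single i 1) := by rw [← map_smul]; simp [z]
        rw [this] at hm
        exact Finset.mem_biUnion.mpr ⟨i, Finset.mem_univ _, Finsupp.support_smul hm⟩
      have : Finsupp.mapDomain (fun i => (e i : M)) (res z) = z := by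
        refine Finsupp.mapDomain_comapDomain _ (Subtype.val_injective.comp e.injective) _ fun m hm => ?_
        exact ⟨e.symm ⟨m, hz hm⟩, by simp⟩
      conv_lhs => rw [← this, Finsupp.linearCombination_mapDomain]
      rfl
    · show res (a' f) = 0
      have : (Submodule.span R {f}).mkQ f = 0 := (Submodule.Quotient.mk_eq_zero _).mpr (Submodule.mem_span_singleton_self f)
      simp [a', this]

end Groth.Agent.S6301
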