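import Groth.Statements.S6302
import Groth.Agent.H1CAlg.UnivInj

set_option autoImplicit false
universe u
open CAlg

namespace Groth.Agent.S6302

open Groth.Agent.H1CAlg

/-- Let 0 → M₁ → M₂ → M₃ → 0 be a short exact sequence of R-modules with M₃ of finite presentation. If
the sequence is universally exact (its first map is universally injective) then it is split: M₂ → M₃
admits a section. (The converse, split implies universally exact, is elementary and not stated.) -/
theorem result {R : Type u} [CommRing R] {M₁ M₂ M₃ : Type u} [AddCommGroup M₁] [Module R M₁] [AddCommGroup M₂] [Module R M₂] [AddCommGroup M₃] [Module R M₃] [Module.FinitePresentation R M₃] (f : M₁ →ₗ[R] M₂) (g : M₂ →ₗ[R] M₃) (hexact : Function.Exact f g) (hg : Function.Surjective g) (hf : CAlgX.UniversallyInjective R f) : ∃ s : M₃ →ₗ[R] M₂, g.comp s = LinearMap.id := by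
  exact exists_section_of_universallyInjective f g hexact hg hf

end Groth.Agent.S6302
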