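import Groth.Statements.S6303
import Mathlib.LinearAlgebra.TensorProduct.Quotient
import Mathlib.LinearAlgebra.TensorProduct.Prod

set_option autoImplicit false
universe u
open CAlg

namespace Groth.Agent.S6303

open TensorProduct

/-- Let R be a ring, I, J ⊆ R ideals and M a flat R-module. Then IM ∩ JM = (I ∩ J)M. -/
theorem result {R : Type u} [CommRing R] (I J : Ideal R) (M : Type u) [AddCommGroup M] [Module R M] [Module.Flat R M] : (I • (⊤ : Submodule R M)) ⊓ (J • ⊤) = (I ⊓ J) • (⊤ : Submodule R M) := by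
  refine le_antisymm ?_ (le_inf (Submodule.smul_mono_left inf_le_left) (Submodule.smul_mono_left inf_le_right))
  let φ : (R ⧸ (I ⊓ J)) →ₗ[R] (R ⧸ I) × (R ⧸ J) :=
    (Submodule.factor (inf_le_left : I ⊓ J ≤ I)).prod (Submodule.factor (inf_le_right : I ⊓ J ≤ J))
  have hφ : Function.Injective φ := by
    rw [injective_iff_map_eq_zero]
    intro z hz
    obtain ⟨r, rfl⟩ := Submodule.Quotient.mk_surjective _ z
    simp only [φ, LinearMap.prod_apply, Function.prod, Prod.mk_eq_zero] at hz
    exact (Submodule.Quotient.mk_eq_zero _).mpr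
      ⟨(Submodule.Quotient.mk_eq_zero I).mp hz.1, (Submodule.Quotient.mk_eq_zero J).mp hz.2⟩
  intro x ⟨hx1, hx2⟩
  have key : ∀ K : Ideal R, x ∈ K • (⊤ : Submodule R M) ↔ ((Ideal.Quotient.mk K 1) ⊗ₜ[R] x : (R ⧸ K) ⊗[R] M) = 0 := fun K => by
    rw [← Submodule.Quotient.mk_eq_zero (p := K • (⊤ : Submodule R M)),
      ← (TensorProduct.quotTensorEquivQuotSMul M K).map_eq_zero_iff,
      TensorProduct.quotTensorEquivQuotSMul_mk_tmul, one_smul]
  rw [key]
  apply Module.Flat.rTensor_preserves_injective_linearMap (M := M) φ hφ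
  rw [map_zero, LinearMap.rTensor_tmul]
  apply (TensorProduct.prodLeft R R (R ⧸ I) (R ⧸ J) M).injective
  rw [map_zero, TensorProduct.prodLeft_tmul]
  exact Prod.ext ((key I).mp hx1) ((key J).mp hx2)

end Groth.Agent.S6303
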