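import Groth.Statements.S6305
import Groth.Agent.H1CAlg.UnivInj
import Mathlib.RingTheory.LocalRing.Module
import Mathlib.RingTheory.Flat.Equalizer
import Mathlib.LinearAlgebra.Finsupp.LinearCombination

set_option autoImplicit false
universe u
open CAlg

namespace Groth.Agent.S6305

/-- An R-module M is flat exactly when every short exact sequence 0 → M₁ → M₂ → M → 0 of R-modules is
universally exact, i.e. its first map M₁ → M₂ is universally injective. -/
theorem result {R : Type u} [CommRing R] (M : Type u) [AddCommGroup M] [Module R M] : Module.Flat R M ↔ ∀ (M₁ M₂ : Type u) [AddCommGroup M₁] [Module R M₁] [AddCommGroup M₂] [Module R M₂] (f : M₁ →ₗ[R] M₂) (g : M₂ →ₗ[R] M), Function.Injective f → Function.Exact f g → Function.Surjective g → CAlgX.UniversallyInjective R f := by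
  constructor
  · intro _ M₁ M₂ _ _ _ _ f g hf hex hg Q _ _
    exact (LinearMap.lTensor_inj_iff_rTensor_inj Q f).mp
      (LinearMap.lTensor_injective_of_exact_of_flat g hg f hf hex Q)
  · intro h
    rw [Module.Flat.iff_lTensor_preserves_injective_linearMap]
    intro A B _ _ _ _ ι hι
    suffices key : ∀ (K F : Type u) [AddCommGroup K] [Module R K] [AddCommGroup F] [Module R F] [Module.Flat R F]
        (i : K →ₗ[R] F) (p : F →ₗ[R] M), Function.Injective i → Function.Exact i p → Function.Surjective p →
        Function.Injective (ι.lTensor M) from
      key (LinearMap.ker (Finsupp.linearCombination R (id : M → M))) (M →₀ R) _ _ Subtype.val_injective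
        (LinearMap.exact_subtype_ker_map _) (Finsupp.linearCombination_surjective R Function.surjective_id)
    intro K F _ _ _ _ _ i p hi hex hp
    exact lTensor_injective_of_exact_of_exact_of_rTensor_injective hex hp
      (LinearMap.exact_map_mkQ_range ι) (Submodule.mkQ_surjective _) (h K F i p hi hex hp _)
      (Module.Flat.lTensor_preserves_injective_linearMap ι hι)

end Groth.Agent.S6305
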