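import Groth.Statements.S6308
import Mathlib.RingTheory.LocalRing.Module
import Mathlib.RingTheory.Spectrum.Prime.Module
import Mathlib.Algebra.Module.LocalizedModule.Exact
import Mathlib.LinearAlgebra.TensorProduct.RightExactness

set_option autoImplicit false
universe u
open scoped TensorProduct
open CAlg

namespace Groth.Agent.S6308

theorem surj_iff {R : Type u} [CommRing R] {M N : Type u} [AddCommGroup M] [Module R M]
    [AddCommGroup N] [Module R N] (φ : M →ₗ[R] N) (S : Submonoid R) :
    Function.Surjective (LocalizedModule.map S φ) ↔ Subsingleton (LocalizedModule S (N ⧸ LinearMap.range φ)) := by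
  let π : N →ₗ[R] N ⧸ LinearMap.range φ := (LinearMap.range φ).mkQ
  have hex := LocalizedModule.map_exact S φ π (LinearMap.exact_map_mkQ_range φ)
  constructor
  · intro h
    refine subsingleton_of_forall_eq 0 fun z => ?_
    obtain ⟨y, rfl⟩ := LocalizedModule.map_surjective S π (Submodule.mkQ_surjective _) z
    exact (hex y).mpr (h y)
  · intro h y
    exact (hex y).mp (Subsingleton.elim _ _)

/-- Let R be a ring and φ : M → N a map of R-modules with N finite. For a prime p, the localization φ_p
: M_p → N_p is surjective if and only if φ ⊗ κ(p) : M ⊗ κ(p) → N ⊗ κ(p) is surjective; the set U of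
such primes is open in Spec(R); and for every f ∈ R with D(f) ⊆ U the map M_f → N_f is surjective. -/
theorem result {R : Type u} [CommRing R] {M N : Type u} [AddCommGroup M] [Module R M] [AddCommGroup N] [Module R N] [Module.Finite R N] (φ : M →ₗ[R] N) : (∀ p : PrimeSpectrum R, Function.Surjective (LocalizedModule.map p.asIdeal.primeCompl φ) ↔ Function.Surjective (φ.lTensor p.asIdeal.ResidueField)) ∧ IsOpen {p : PrimeSpectrum R | Function.Surjective (LocalizedModule.map p.asIdeal.primeCompl φ)} ∧ (∀ f : R, (↑(PrimeSpectrum.basicOpen f) : Set (PrimeSpectrum R)) ⊆ {p : PrimeSpectrum R | Function.Surjective (LocalizedModule.map p.asIdeal.primeCompl φ)} → Function.Surjective (LocalizedModule.map (Submonoid.powers f) φ)) := by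
  let C := N ⧸ LinearMap.range φ
  have hset : {p : PrimeSpectrum R | Function.Surjective (LocalizedModule.map p.asIdeal.primeCompl φ)}
      = (Module.support R C)ᶜ := by
    ext p
    rw [Set.mem_setOf_eq, surj_iff, Set.mem_compl_iff, Module.notMem_support_iff]
  refine ⟨fun p => ?_, ?_, fun f hf => ?_⟩
  · rw [surj_iff]
    have h1 : Subsingleton (LocalizedModule p.asIdeal.primeCompl C) ↔
        Subsingleton (p.asIdeal.ResidueField ⊗[R] C) := by
      rw [← not_iff_not, not_subsingleton_iff_nontrivial, not_subsingleton_iff_nontrivial,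
        ← Module.mem_support_iff_nontrivial_residueField_tensorProduct]
      exact Iff.rfl
    rw [h1]
    let π : N →ₗ[R] C := (LinearMap.range φ).mkQ
    have hπ : Function.Surjective π := Submodule.mkQ_surjective _
    have hex := lTensor_exact p.asIdeal.ResidueField (LinearMap.exact_map_mkQ_range φ) hπ
    constructor
    · intro h y
      exact (hex y).mp (Subsingleton.elim _ _)
    · intro h
      refine subsingleton_of_forall_eq 0 fun z => ?_
      obtain ⟨y, rfl⟩ := LinearMap.lTensor_surjective p.asIdeal.ResidueField hπ z
      exact (hex y).mpr (h y)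
  · rw [hset]; exact Module.isClosed_support.isOpen_compl
  · rw [hset, ← Set.compl_subset_compl, compl_compl, Module.support_eq_zeroLocus,
      PrimeSpectrum.basicOpen_eq_zeroLocus_compl, compl_compl,
      ← PrimeSpectrum.zeroLocus_span {f}, PrimeSpectrum.zeroLocus_subset_zeroLocus_iff,
      Ideal.span_singleton_le_iff_mem] at hf
    obtain ⟨n, hn⟩ := hf
    rw [surj_iff]
    refine LocalizedModule.subsingleton_iff.mpr fun m => ⟨f ^ n, ⟨n, rfl⟩, ?_⟩
    exact Module.mem_annihilator.mp hn m

end Groth.Agent.S6308
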