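import Groth.Statements.S6309
import Mathlib.RingTheory.Localization.Finiteness
import Mathlib.RingTheory.Ideal.BigOperators
import Mathlib.LinearAlgebra.Matrix.Charpoly.LinearMap
import Mathlib.RingTheory.LocalRing.ResidueField.Ideal
import Mathlib.RingTheory.Flat.Basic
import Mathlib.RingTheory.Flat.FaithfullyFlat.Basic
import Mathlib.Algebra.Module.LocalizedModule.Exact
import Mathlib.RingTheory.LocalProperties.Projective
import Mathlib.LinearAlgebra.Basis.VectorSpace
import Mathlib.RingTheory.Spectrum.Prime.Topology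
import Mathlib.RingTheory.TensorProduct.Finite

set_option autoImplicit false
universe u
open scoped TensorProduct
open CAlg

namespace Groth.Agent.S6309

open scoped TensorProduct

variable {R : Type u} [CommRing R]

theorem mem_smul_top_of_residue_eq_zero (p : Ideal R) [p.IsPrime] {P : Type u} [AddCommGroup P]
    [Module R P] [Module.Flat R P] (x : P) (hx : (1 : p.ResidueField) ⊗ₜ[R] x = 0) :
    x ∈ p • (⊤ : Submodule R P) := by
  let ι : R ⧸ p →ₗ[R] p.ResidueField := (IsScalarTower.toAlgHom R (R ⧸ p) p.ResidueField).toLinearMap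
  have hι : Function.Injective ι := IsFractionRing.injective (R ⧸ p) p.ResidueField
  have h1 : (1 : R ⧸ p) ⊗ₜ[R] x = 0 := by
    apply Module.Flat.rTensor_preserves_injective_linearMap (M := P) ι hι
    simpa [ι] using hx
  have h2 := congrArg (TensorProduct.quotTensorEquivQuotSMul P p) h1
  have h3 : (TensorProduct.quotTensorEquivQuotSMul P p) ((1 : R ⧸ p) ⊗ₜ[R] x)
      = Submodule.Quotient.mk ((1 : R) • x) := TensorProduct.quotTensorEquivQuotSMul_mk_tmul p 1 x
  rw [h3, one_smul, map_zero, Submodule.Quotient.mk_eq_zero] at h2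
  exact h2

theorem exists_smul_eq_one_tmul (p : Ideal R) [p.IsPrime] {P : Type u} [AddCommGroup P]
    [Module R P] (z : p.ResidueField ⊗[R] P) :
    ∃ s ∉ p, ∃ y : P, s • z = (1 : p.ResidueField) ⊗ₜ[R] y := by
  induction z using TensorProduct.induction_on with
  | zero => exact ⟨1, fun h => (inferInstance : p.IsPrime).ne_top ((Ideal.eq_top_iff_one _).mpr h), 0, by simp⟩
  | tmul c x =>
    obtain ⟨a, b, hb, rfl⟩ := IsFractionRing.div_surjective (R ⧸ p) c
    obtain ⟨a, rfl⟩ := Ideal.Quotient.mk_surjective a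
    obtain ⟨b, rfl⟩ := Ideal.Quotient.mk_surjective b
    have hb' : b ∉ p := fun h => nonZeroDivisors.ne_zero hb (Ideal.Quotient.eq_zero_iff_mem.mpr h)
    refine ⟨b, hb', a • x, ?_⟩
    have hne : algebraMap (R ⧸ p) p.ResidueField (Ideal.Quotient.mk p b) ≠ 0 :=
      (map_ne_zero_iff _ (IsFractionRing.injective (R ⧸ p) p.ResidueField)).mpr
        fun h => hb' (Ideal.Quotient.eq_zero_iff_mem.mp h)
    rw [TensorProduct.smul_tmul', ← TensorProduct.smul_tmul, Algebra.smul_def, Algebra.smul_def, mul_one,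
      IsScalarTower.algebraMap_apply R (R ⧸ p) p.ResidueField b,
      IsScalarTower.algebraMap_apply R (R ⧸ p) p.ResidueField a, Ideal.Quotient.algebraMap_eq,
      mul_div_cancel₀ _ hne]
  | add u v hu hv =>
    obtain ⟨s, hs, y, hy⟩ := hu
    obtain ⟨t, ht, y', hy'⟩ := hv
    refine ⟨s * t, fun h => ((inferInstance : p.IsPrime).mem_or_mem h).elim hs ht, t • y + s • y', ?_⟩
    rw [smul_add, TensorProduct.tmul_add, TensorProduct.tmul_smul, TensorProduct.tmul_smul, ← hy,
      ← hy', smul_smul, smul_smul, mul_comm t s]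

/-- Lifting a linear map between residue fibres, up to a unit at `p`. -/
theorem exists_lift (p : Ideal R) [p.IsPrime] {A B : Type u} [AddCommGroup A] [Module R A]
    [Module.Finite R A] [Module.Projective R A] [AddCommGroup B] [Module R B]
    (ρ : p.ResidueField ⊗[R] A →ₗ[p.ResidueField] p.ResidueField ⊗[R] B) :
    ∃ s ∉ p, ∃ r : A →ₗ[R] B, ∀ x, (1 : p.ResidueField) ⊗ₜ[R] r x = s • ρ (1 ⊗ₜ[R] x) := by
  classical
  obtain ⟨n, a, ha⟩ := Module.Finite.exists_fin (R := R) (M := A)
  choose s hs y hy using fun i => exists_smul_eq_one_tmul p (ρ (1 ⊗ₜ[R] a i))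
  let t := ∏ i, s i
  have ht : t ∉ p := fun h => by
    obtain ⟨i, -, hi⟩ := (‹p.IsPrime›.prod_mem_iff).mp h
    exact hs i hi
  let μ := TensorProduct.mk R p.ResidueField B 1
  let τ : A →ₗ[R] p.ResidueField ⊗[R] B :=
    t • ((ρ.restrictScalars R) ∘ₗ TensorProduct.mk R p.ResidueField A 1)
  have hτ : ∀ x, τ x ∈ LinearMap.range μ := by
    intro x
    have : (⊤ : Submodule R A) ≤ (LinearMap.range μ).comap τ := by
      rw [← ha, Submodule.span_le]
      rintro _ ⟨i, rfl⟩
      refine ⟨(∏ j ∈ Finset.univ.erase i, s j) • y i, ?_⟩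
      show (1 : p.ResidueField) ⊗ₜ[R] ((∏ j ∈ Finset.univ.erase i, s j) • y i) = t • ρ (1 ⊗ₜ[R] a i)
      rw [TensorProduct.tmul_smul, ← hy, smul_smul, Finset.prod_erase_mul _ _ (Finset.mem_univ i)]
    exact this trivial
  obtain ⟨r, hr⟩ := Module.projective_lifting_property μ.rangeRestrict (τ.codRestrict _ hτ)
    (LinearMap.surjective_rangeRestrict μ)
  exact ⟨t, ht, r, fun x => congrArg Subtype.val (LinearMap.congr_fun hr x)⟩

/-- An endomorphism congruent to a scalar outside `p` modulo `p` is invertible away from a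
scalar outside `p`. -/
theorem exists_inverse_of_congr (p : Ideal R) [p.IsPrime] {P : Type u} [AddCommGroup P] [Module R P]
    [Module.Finite R P] (h : Module.End R P) (s : R) (hs : s ∉ p)
    (hh : ∀ x, h x - s • x ∈ p • (⊤ : Submodule R P)) :
    ∃ g ∉ p, ∃ k : Module.End R P, k * h = g • 1 ∧ h * k = g • 1 := by
  let N : Module.End R P := h - s • 1
  have hN : LinearMap.range N ≤ p • (⊤ : Submodule R P) := by
    rintro _ ⟨x, rfl⟩
    simpa [N] using hh x
  obtain ⟨q, hqm, -, hqc, hq⟩ :=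
    LinearMap.exists_monic_and_natDegree_eq_and_coeff_mem_pow_and_aeval_eq_zero R N p hN
  let Q := q.comp (Polynomial.X - Polynomial.C s)
  have hQ : Polynomial.aeval h Q = 0 := by
    rw [Polynomial.aeval_comp, map_sub, Polynomial.aeval_X, Polynomial.aeval_C, Algebra.algebraMap_eq_smul_one]
    exact hq
  have hdecomp := Polynomial.X_mul_divX_add Q
  have hc : Q.coeff 0 ∉ p := by
    intro hmem
    apply hs
    refine ‹p.IsPrime›.mem_of_pow_mem q.natDegree ?_
    have h0 : Q.coeff 0 = q.eval (-s) := by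
      rw [Polynomial.coeff_zero_eq_eval_zero, Polynomial.eval_comp]; simp
    rw [h0, Polynomial.eval_eq_sum_range, Finset.sum_range_succ, hqm.coeff_natDegree, one_mul] at hmem
    have hsum : (∑ i ∈ Finset.range q.natDegree, q.coeff i * (-s) ^ i) ∈ p :=
      Ideal.sum_mem _ fun i hi => p.mul_mem_right _
        (Ideal.pow_le_self (Nat.sub_ne_zero_of_lt (Finset.mem_range.mp hi)) (hqc i))
    rw [Ideal.add_mem_iff_right _ hsum, neg_pow] at hmem
    rcases neg_one_pow_eq_or R q.natDegree with h1 | h1 <;> rw [h1] at hmem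
    · rwa [one_mul] at hmem
    · rwa [neg_one_mul, neg_mem_iff] at hmem
  refine ⟨- Q.coeff 0, fun h' => hc (neg_mem_iff.mp h'), Polynomial.aeval h Q.divX, ?_, ?_⟩
  · have h1 := congrArg (Polynomial.aeval h) hdecomp
    rw [hQ, mul_comm Polynomial.X, map_add, map_mul, Polynomial.aeval_X, Polynomial.aeval_C,
      Algebra.algebraMap_eq_smul_one] at h1
    rw [neg_smul]; exact eq_neg_of_add_eq_zero_left h1
  · have h1 := congrArg (Polynomial.aeval h) hdecomp
    rw [hQ, map_add, map_mul, Polynomial.aeval_X, Polynomial.aeval_C,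
      Algebra.algebraMap_eq_smul_one] at h1
    rw [neg_smul]; exact eq_neg_of_add_eq_zero_left h1

variable {P₁ P₂ : Type u} [AddCommGroup P₁] [Module R P₁] [AddCommGroup P₂] [Module R P₂]

theorem injective_locus_iff [Module.Finite R P₁] [Module.Projective R P₁] [Module.Finite R P₂]
    [Module.Projective R P₂] (φ : P₁ →ₗ[R] P₂) (p : Ideal R) [p.IsPrime] :
    Function.Injective (φ.lTensor p.ResidueField) ↔
      ∃ g ∉ p, ∃ r : P₂ →ₗ[R] P₁, ∀ x, r (φ x) = g • x := by
  constructor
  · intro hinj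
    obtain ⟨ρ, hρ⟩ := LinearMap.exists_leftInverse_of_injective (φ.baseChange p.ResidueField)
      (LinearMap.ker_eq_bot.mpr hinj)
    obtain ⟨s, hs, r₀, hr₀⟩ := exists_lift p ρ
    obtain ⟨g, hg, k, hk, -⟩ := exists_inverse_of_congr p (r₀ ∘ₗ φ) s hs fun x => by
      refine mem_smul_top_of_residue_eq_zero p _ ?_
      have h1 := LinearMap.congr_fun hρ (1 ⊗ₜ[R] x)
      simp only [LinearMap.comp_apply, LinearMap.baseChange_tmul, LinearMap.id_apply] at h1
      rw [TensorProduct.tmul_sub, LinearMap.comp_apply, hr₀, h1, TensorProduct.tmul_smul, sub_self]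
    exact ⟨g, hg, k ∘ₗ r₀, fun x => LinearMap.congr_fun hk x⟩
  · rintro ⟨g, hg, r, hr⟩
    have hg' : IsUnit (algebraMap R p.ResidueField g) := by
      rw [isUnit_iff_ne_zero]; intro h
      exact hg (Ideal.algebraMap_residueField_eq_zero.mp h)
    have h2 : ∀ z, r.lTensor p.ResidueField (φ.lTensor p.ResidueField z) =
        algebraMap R p.ResidueField g • z := by
      intro z
      rw [algebraMap_smul]
      induction z using TensorProduct.induction_on with
      | zero => simp
      | tmul c x => simp [hr, TensorProduct.tmul_smul]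
      | add a b ha hb => rw [map_add, map_add, ha, hb, smul_add]
    intro a b hab
    apply hg'.smul_left_cancel.mp
    rw [← h2, ← h2, hab]

theorem exists_pow_of_basicOpen (φ : P₁ →ₗ[R] P₂) (G : Ideal R)
    (Z : Set (PrimeSpectrum R)) (hZ : ∀ p ∈ Z, ¬ G ≤ p.asIdeal) (f : R)
    (hf : (↑(PrimeSpectrum.basicOpen f) : Set (PrimeSpectrum R)) ⊆ Z) : f ∈ G.radical := by
  rw [Ideal.radical_eq_sInf, Submodule.mem_sInf]
  rintro J ⟨hGJ, hJ⟩
  by_contra hfJ
  exact hZ ⟨J, hJ⟩ (hf hfJ) hGJ

/-- the third term of a sequence split at the middle is projective -/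
theorem projective_of_retraction {A : Type u} [CommRing A] {X Y Z : Type u} [AddCommGroup X]
    [Module A X] [AddCommGroup Y] [Module A Y] [AddCommGroup Z] [Module A Z]
    [Module.Projective A Y] (a : X →ₗ[A] Y) (b : Y →ₗ[A] Z) (hb : Function.Surjective b)
    (hex : Function.Exact a b) (r : Y →ₗ[A] X) (hr : ∀ x, r (a x) = x) :
    Module.Projective A Z := by
  let τ : Y →ₗ[A] Y := LinearMap.id - a ∘ₗ r
  have hτ : LinearMap.ker b ≤ LinearMap.ker τ := by
    intro y hy
    obtain ⟨x, rfl⟩ := (hex y).mp hy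
    simp [τ, hr]
  let σ : Z →ₗ[A] Y := (LinearMap.ker b).liftQ τ hτ ∘ₗ (b.quotKerEquivOfSurjective hb).symm.toLinearMap
  refine Module.Projective.of_split σ b (LinearMap.ext fun z => ?_)
  obtain ⟨y, rfl⟩ := hb z
  have h1 : (b.quotKerEquivOfSurjective hb).symm (b y) = Submodule.Quotient.mk y :=
    (LinearEquiv.symm_apply_eq _).mpr rfl
  simp [σ, h1, τ, (hex (a (r y))).mpr ⟨r y, rfl⟩]

theorem localized_retraction {φ : P₁ →ₗ[R] P₂} {r : P₂ →ₗ[R] P₁} {f : R} {n : ℕ}
    (hr : ∀ x, r (φ x) = f ^ n • x) :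
    ∃ r' : LocalizedModule (Submonoid.powers f) P₂ →ₗ[Localization.Away f] LocalizedModule (Submonoid.powers f) P₁,
      ∀ z, r' (LocalizedModule.map (Submonoid.powers f) φ z) = z := by
  let S := Submonoid.powers f
  have hu : IsUnit (algebraMap R (Localization.Away f) (f ^ n)) :=
    IsLocalization.map_units (M := S) _ ⟨f ^ n, n, rfl⟩
  refine ⟨(↑hu.unit⁻¹ : Localization.Away f) • LocalizedModule.map S r, fun z => ?_⟩
  induction z using LocalizedModule.induction_on with
  | h m s =>
    rw [LinearMap.smul_apply, LocalizedModule.map_mk, LocalizedModule.map_mk, hr,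
      ← LocalizedModule.smul'_mk, ← algebraMap_smul (Localization.Away f) (f ^ n), smul_smul,
      IsUnit.val_inv_mul, one_smul]

theorem result {R : Type u} [CommRing R] {P₁ P₂ : Type u} [AddCommGroup P₁] [Module R P₁] [AddCommGroup P₂] [Module R P₂] [Module.Finite R P₁] [Module.Projective R P₁] [Module.Finite R P₂] [Module.Projective R P₂] (φ : P₁ →ₗ[R] P₂) : IsOpen {p : PrimeSpectrum R | Function.Injective (φ.lTensor p.asIdeal.ResidueField)} ∧ ∀ f : R, (↑(PrimeSpectrum.basicOpen f) : Set (PrimeSpectrum R)) ⊆ {p : PrimeSpectrum R | Function.Injective (φ.lTensor p.asIdeal.ResidueField)} → Function.Injective (LocalizedModule.map (Submonoid.powers f) φ) ∧ Module.Finite (Localization.Away f) (LocalizedModule (Submonoid.powers f) (P₂ ⧸ LinearMap.range φ)) ∧ Module.Projective (Localization.Away f) (LocalizedModule (Submonoid.powers f) (P₂ ⧸ LinearMap.range φ)) := by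
  let G : Ideal R := (LinearMap.range (φ.lcomp R P₁ : (P₂ →ₗ[R] P₁) →ₗ[R] (P₁ →ₗ[R] P₁))).comap
    (LinearMap.toSpanSingleton R (P₁ →ₗ[R] P₁) LinearMap.id)
  have hG : ∀ g, g ∈ G ↔ ∃ r : P₂ →ₗ[R] P₁, ∀ x, r (φ x) = g • x := fun g =>
    ⟨fun ⟨r, hr⟩ => ⟨r, fun x => LinearMap.congr_fun hr x⟩, fun ⟨r, hr⟩ => ⟨r, LinearMap.ext hr⟩⟩
  have hset : {p : PrimeSpectrum R | Function.Injective (φ.lTensor p.asIdeal.ResidueField)}
      = (PrimeSpectrum.zeroLocus (G : Set R))ᶜ := by
    ext p
    rw [Set.mem_setOf_eq, injective_locus_iff, Set.mem_compl_iff, PrimeSpectrum.mem_zeroLocus,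
      Set.not_subset]
    exact exists_congr fun g => by rw [SetLike.mem_coe, hG, SetLike.mem_coe, and_comm]
  refine ⟨by rw [hset]; exact (PrimeSpectrum.isClosed_zeroLocus _).isOpen_compl, fun f hf => ?_⟩
  obtain ⟨n, hn⟩ := exists_pow_of_basicOpen φ G _ (fun p hp => by
    rw [hset, Set.mem_compl_iff, PrimeSpectrum.mem_zeroLocus] at hp; exact hp) f hf
  obtain ⟨r, hr⟩ := (hG _).mp hn
  obtain ⟨r', hr'⟩ := localized_retraction hr
  let S := Submonoid.powers f
  let π : P₂ →ₗ[R] P₂ ⧸ LinearMap.range φ := (LinearMap.range φ).mkQ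
  refine ⟨Function.LeftInverse.injective hr', Module.Finite.of_isLocalizedModule S
    (LocalizedModule.mkLinearMap S (P₂ ⧸ LinearMap.range φ)), ?_⟩
  haveI : Module.Projective (Localization.Away f) (LocalizedModule S P₂) :=
    Module.projective_of_isLocalizedModule S (LocalizedModule.mkLinearMap S P₂)
  exact projective_of_retraction (LocalizedModule.map S φ) (LocalizedModule.map S π)
    (LocalizedModule.map_surjective S π (Submodule.mkQ_surjective _))
    (LocalizedModule.map_exact S φ π (LinearMap.exact_map_mkQ_range φ)) r' hr'
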