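import Groth.Statements.S6310
import Mathlib.LinearAlgebra.Matrix.Charpoly.LinearMap
import Mathlib.Algebra.Module.LocalizedModule.Submodule
import Mathlib.RingTheory.Finiteness.Cardinality
-- import your own Groth.Agent.* helpers here

set_option autoImplicit false
universe u
open CAlg

namespace Groth.Agent.S6310

/-- Let R be a ring, S ⊆ R a multiplicative subset, I ⊆ R an ideal and M a finite R-module. If x₁, …,
x_r ∈ M have images generating S⁻¹(M/IM) as an S⁻¹R-module, then there is f ∈ S + I (f = s + i with
s ∈ S, i ∈ I) such that x₁, …, x_r generate M_f as an R_f-module. -/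
theorem result {R : Type u} [CommRing R] (S : Submonoid R) (I : Ideal R) (M : Type u) [AddCommGroup M] [Module R M] [Module.Finite R M] {r : ℕ} (x : Fin r → M) (hx : Submodule.span (Localization S) (Set.range fun j => LocalizedModule.mkLinearMap S (M ⧸ (I • (⊤ : Submodule R M))) (Submodule.Quotient.mk (x j))) = ⊤) : ∃ (s : R) (i : R), s ∈ S ∧ i ∈ I ∧ Submodule.span (Localization.Away (s + i)) (Set.range fun j => LocalizedModule.mkLinearMap (Submonoid.powers (s + i)) M (x j)) = ⊤ := by
  classical
  let Sp : Submodule R M := Submodule.span R (Set.range x)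
  let IM : Submodule R M := I • ⊤
  have hs : ∀ m : M, ∃ s : S, (s : R) • m ∈ Sp ⊔ IM := by
    intro m
    have hmem : LocalizedModule.mkLinearMap S (M ⧸ IM) (Submodule.Quotient.mk m) ∈
        Submodule.span (Localization S) (LocalizedModule.mkLinearMap S (M ⧸ IM) '' Set.range fun j => Submodule.Quotient.mk (x j)) := by
      rw [← Set.range_comp]
      exact hx ▸ Submodule.mem_top
    rw [← Submodule.localized'_span (Localization S) S, Submodule.mem_localized'] at hmem
    obtain ⟨y, hy, s, hys⟩ := hmem
    rw [← IsLocalizedModule.mk'_one S, IsLocalizedModule.mk'_eq_mk'_iff] at hys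
    obtain ⟨c, hc⟩ := hys
    obtain ⟨z, hz, rfl⟩ : y ∈ Sp.map IM.mkQ := by
      rw [Submodule.map_span, ← Set.range_comp]; exact hy
    refine ⟨c * s, ?_⟩
    simp only [Submonoid.smul_def, OneMemClass.coe_one, one_smul, smul_smul] at hc
    rw [Submodule.mkQ_apply, ← Submodule.Quotient.mk_smul, ← Submodule.Quotient.mk_smul, Submodule.Quotient.eq] at hc
    have hd : ((c * s : S) : R) • m - (c : R) • z ∈ IM := by
      first
        | exact hc
        | simpa using IM.neg_mem hc
    have := add_mem (Submodule.mem_sup_right (S := Sp) hd) (Submodule.mem_sup_left (Sp.smul_mem (c : R) hz))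
    simpa using this
  choose σ hσ using hs
  obtain ⟨G, hG⟩ := Module.Finite.fg_top (R := R) (M := M)
  let s : S := ∏ g ∈ G, σ g
  have hs' : ∀ m : M, (s : R) • m ∈ Sp ⊔ IM := by
    intro m
    have hm : m ∈ Submodule.span R (G : Set M) := hG ▸ Submodule.mem_top
    induction hm using Submodule.span_induction with
    | mem g hg =>
      obtain ⟨d, hd⟩ := Finset.dvd_prod_of_mem σ hg
      rw [show s = σ g * d from hd, mul_comm, Submonoid.coe_mul, mul_smul]
      exact Submodule.smul_mem _ _ (hσ g)
    | zero => simp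
    | add a b _ _ ha hb => rw [smul_add]; exact add_mem ha hb
    | smul r a _ ha => rw [smul_comm]; exact Submodule.smul_mem _ _ ha
  let Q := M ⧸ Sp
  let F : Module.End R Q := (s : R) • LinearMap.id
  have hF : LinearMap.range F ≤ I • ⊤ := by
    rintro _ ⟨q, rfl⟩
    obtain ⟨m, rfl⟩ := Sp.mkQ_surjective q
    obtain ⟨a, ha, b, hb, hab⟩ := Submodule.mem_sup.mp (hs' m)
    show (s : R) • Sp.mkQ m ∈ I • (⊤ : Submodule R Q)
    rw [← map_smul, ← hab, map_add, (LinearMap.mem_ker (f := Sp.mkQ)).mp (by rwa [Submodule.ker_mkQ]), zero_add]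
    have hb' := Submodule.mem_map_of_mem (f := Sp.mkQ) hb
    rw [Submodule.map_smul''] at hb'
    exact Submodule.smul_mono le_rfl le_top hb'
  obtain ⟨p, hp, -, hc, he⟩ := LinearMap.exists_monic_and_natDegree_eq_and_coeff_mem_pow_and_aeval_eq_zero R F I hF
  have hi : p.eval (s : R) - (s : R) ^ p.natDegree ∈ I := by
    rw [Polynomial.eval_eq_sum_range, Finset.sum_range_succ, hp.coeff_natDegree, one_mul, add_sub_cancel_right]
    refine Submodule.sum_mem _ fun k hk => Ideal.mul_mem_right _ _ ?_
    exact Ideal.pow_le_self (Nat.sub_ne_zero_of_lt (Finset.mem_range.mp hk)) (hc k)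
  refine ⟨(s : R) ^ p.natDegree, _, pow_mem s.2 _, hi, ?_⟩
  rw [add_sub_cancel]
  have hkill : ∀ m : M, p.eval (s : R) • m ∈ Sp := fun m => by
    have := LinearMap.congr_fun he (Sp.mkQ m)
    rw [show F = algebraMap R (Module.End R Q) (s : R) from rfl, Polynomial.aeval_algebraMap_apply_eq_algebraMap_eval,
      Module.algebraMap_end_apply] at this
    rw [← Submodule.Quotient.mk_eq_zero]
    simpa using this
  rw [show (Set.range fun j => LocalizedModule.mkLinearMap (Submonoid.powers (p.eval (s : R))) M (x j)) =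
      LocalizedModule.mkLinearMap (Submonoid.powers (p.eval (s : R))) M '' Set.range x from Set.range_comp _ _,
    ← Submodule.localized'_span (Localization.Away (p.eval (s : R))) (Submonoid.powers (p.eval (s : R))), eq_top_iff]
  intro z _
  obtain ⟨⟨m, t⟩, rfl⟩ := IsLocalizedModule.mk'_surjective (Submonoid.powers (p.eval (s : R)))
    (LocalizedModule.mkLinearMap (Submonoid.powers (p.eval (s : R))) M) z
  rw [Submodule.mem_localized']
  refine ⟨_, hkill m, t * ⟨_, Submonoid.mem_powers _⟩, ?_⟩
  exact IsLocalizedModule.mk'_cancel_right _ m t ⟨_, Submonoid.mem_powers _⟩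

end Groth.Agent.S6310
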