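import Groth.Statements.S6311
import Mathlib.RingTheory.LocalRing.Module
import Mathlib.Algebra.Homology.ShortComplex.ModuleCat
import Mathlib.Algebra.Category.ModuleCat.EpiMono
import Mathlib.LinearAlgebra.Dimension.Finrank
import Mathlib.RingTheory.Finiteness.Cardinality
import Mathlib.LinearAlgebra.FreeModule.StrongRankCondition
-- import your own Groth.Agent.* helpers here

set_option autoImplicit false
universe u
open CategoryTheory
open CAlg

namespace Groth.Agent.S6311

/-- Let R be a local ring. Then K₀(R), the Grothendieck group of the category of finite projective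
R-modules, is isomorphic to ℤ via the rank; precisely, there is an isomorphism K₀(R) ≅ ℤ of abelian
groups sending the class [R] to 1 (such an isomorphism is then unique, K₀(R) being generated by
[R]). -/
theorem result (R : Type u) [CommRing R] [IsLocalRing R] : ∃ e : KZero.K0sub (fun M : ModuleCat.{u} R => Module.Finite R M ∧ Module.Projective R M) ≃+ ℤ, e (KZero.clSub (fun M : ModuleCat.{u} R => Module.Finite R M ∧ Module.Projective R M) (ModuleCat.of R R)) = 1 := by
  classical
  let P : ObjectProperty (ModuleCat.{u} R) := fun M => Module.Finite R M ∧ Module.Projective R M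
  let mk : FreeAbelianGroup (Subtype P) →+ KZero.K0sub P := QuotientAddGroup.mk' _
  have hfree : ∀ M : ModuleCat.{u} R, P M → Module.Free R M := fun M hM =>
    haveI := hM.1; haveI := hM.2; Module.free_of_flat_of_isLocalRing
  have hR : P (ModuleCat.of R R) := ⟨inferInstanceAs (Module.Finite R R), inferInstanceAs (Module.Projective R R)⟩
  let f : FreeAbelianGroup (Subtype P) →+ ℤ := FreeAbelianGroup.lift fun X => (Module.finrank R X.1 : ℤ)
  have hsum : ∀ (A B C : ModuleCat.{u} R) (hA : P A) (hB : P B) (hC : P C) (a : A →ₗ[R] B) (b : B →ₗ[R] C),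
      Function.Injective a → Function.Surjective b → Function.Exact a b →
      mk (FreeAbelianGroup.of ⟨B, hB⟩) = mk (FreeAbelianGroup.of ⟨A, hA⟩) + mk (FreeAbelianGroup.of ⟨C, hC⟩) := by
    intro A B C hA hB hC a b ha hb hex
    let S : ShortComplex (ModuleCat.{u} R) := ShortComplex.mk (ModuleCat.ofHom a) (ModuleCat.ofHom b)
      (ModuleCat.hom_ext (LinearMap.ext fun x => hex.apply_apply_eq_zero x))
    have hS : S.ShortExact :=
      { exact := (ShortComplex.ShortExact.moduleCat_exact_iff_function_exact S).mpr hex
        mono_f := (ModuleCat.mono_iff_injective _).mpr ha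
        epi_g := (ModuleCat.epi_iff_surjective _).mpr hb }
    rw [← sub_eq_zero, sub_add_eq_sub_sub, ← map_sub, ← map_sub]
    exact (QuotientAddGroup.eq_zero_iff _).mpr (AddSubgroup.subset_closure ⟨S, hA, hB, hC, hS, rfl⟩)
  have hrel : KZero.relSub P ≤ f.ker := by
    refine (AddSubgroup.closure_le _).mpr ?_
    rintro _ ⟨S, h₁, h₂, h₃, hS, rfl⟩
    have hinj : Function.Injective S.f.hom := (ModuleCat.mono_iff_injective _).mp hS.mono_f
    have hsurj : Function.Surjective S.g.hom := (ModuleCat.epi_iff_surjective _).mp hS.epi_g
    have hex := (ShortComplex.ShortExact.moduleCat_exact_iff_function_exact S).mp hS.exact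
    haveI := h₁.1; haveI := h₃.1; haveI := h₃.2
    haveI := hfree _ h₁; haveI := hfree _ h₃
    obtain ⟨s, hs⟩ := Module.projective_lifting_property S.g.hom LinearMap.id hsurj
    have hrank : Module.finrank R S.X₂ = Module.finrank R S.X₁ + Module.finrank R S.X₃ := by
      rw [← Module.finrank_prod]
      exact ((hex.splitSurjectiveEquiv hinj ⟨s, hs⟩).1).finrank_eq
    show f _ = 0
    simp only [f, map_sub, FreeAbelianGroup.lift_apply_of, hrank]
    push_cast; ring
  let φ := QuotientAddGroup.lift (KZero.relSub P) f hrel
  let one : KZero.K0sub P := mk (FreeAbelianGroup.of ⟨ModuleCat.of R R, hR⟩)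
  have hnat : ∀ (n : ℕ) (M : ModuleCat.{u} R) (hM : P M), Module.finrank R M = n →
      mk (FreeAbelianGroup.of ⟨M, hM⟩) = n • one := by
    intro n
    induction n with
    | zero =>
      intro M hM hr
      haveI := hM.1; haveI := hfree _ hM
      haveI : Subsingleton M := Module.subsingleton_of_rank_zero (R := R) (by rw [← Module.finrank_eq_rank, hr]; simp)
      have := hsum M M M hM hM hM 0 0 (Function.injective_of_subsingleton _) (Function.surjective_to_subsingleton _)
        (fun x => ⟨fun _ => ⟨x, Subsingleton.elim _ _⟩, fun _ => Subsingleton.elim _ _⟩)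
      rw [zero_smul]
      simpa using this
    | succ n ih =>
      intro M hM hr
      haveI := hM.1; haveI := hfree _ hM
      let b : Module.Basis (Fin (n + 1)) R M := (Module.finBasisOfFinrankEq R M hr)
      let e : M ≃ₗ[R] (Fin (n + 1) → R) := b.equivFun
      let N : ModuleCat.{u} R := ModuleCat.of R (Fin n → R)
      have hN : P N := ⟨inferInstanceAs (Module.Finite R (Fin n → R)), inferInstanceAs (Module.Projective R (Fin n → R))⟩
      let a : ModuleCat.of R R →ₗ[R] M := e.symm.toLinearMap ∘ₗ LinearMap.single R (fun _ : Fin (n + 1) => R) 0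
      let c : M →ₗ[R] N := (LinearMap.funLeft R R Fin.succ) ∘ₗ e.toLinearMap
      have ha : Function.Injective a := e.symm.injective.comp (Pi.single_injective (M := fun _ : Fin (n + 1) => R) 0)
      have hc : Function.Surjective c := (LinearMap.funLeft_surjective_of_injective R R Fin.succ (Fin.succ_injective n)).comp e.surjective
      have hex : Function.Exact a c := fun x => by
        constructor
        · intro hx
          refine ⟨e x 0, e.injective ?_⟩
          rw [show e (a (e x 0)) = Pi.single 0 (e x 0) from e.apply_symm_apply _]
          funext i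
          cases i using Fin.cases with
          | zero => simp
          | succ j =>
            rw [Pi.single_eq_of_ne (Fin.succ_ne_zero j)]
            exact (congrFun hx j).symm
        · rintro ⟨r, rfl⟩
          funext j
          show e (a r) (Fin.succ j) = 0
          rw [show e (a r) = Pi.single 0 r from e.apply_symm_apply _]
          simp
      rw [hsum (ModuleCat.of R R) M N hR hM hN a c ha hc hex, ih N hN (Module.finrank_fin_fun R), succ_nsmul, add_comm]
  have hleft : ∀ x, φ x • one = x := by
    intro x
    obtain ⟨y, rfl⟩ := QuotientAddGroup.mk'_surjective _ x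
    induction y using FreeAbelianGroup.induction_on with
    | zero => simp
    | of X =>
      rw [show φ (QuotientAddGroup.mk' _ (FreeAbelianGroup.of X)) = (Module.finrank R X.1 : ℤ) from
        FreeAbelianGroup.lift_apply_of _ _, natCast_zsmul]
      exact (hnat _ X.1 X.2 rfl).symm
    | neg X hX => rw [map_neg, map_neg, neg_smul, hX]
    | add a b ha hb => rw [map_add, map_add, add_smul, ha, hb]
  have hone : φ one = 1 := by
    show f (FreeAbelianGroup.of _) = 1
    simp [f]
  refine ⟨{ φ with invFun := fun z => z • one, left_inv := hleft, right_inv := fun z => ?_ }, ?_⟩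
  · show φ (z • one) = z
    rw [map_zsmul, hone]; simp
  · show φ (KZero.clSub P (ModuleCat.of R R)) = 1
    rw [KZero.clSub, dif_pos hR]
    exact hone

end Groth.Agent.S6311
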