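import Groth.Statements.S6313
import Mathlib.RingTheory.Flat.Tensor
import Groth.Agent.H1CAlg.Tor

set_option autoImplicit false
universe u
open CategoryTheory
open CAlg

namespace Groth.Agent.S6313

open TensorProduct CategoryTheory

open CategoryTheory.MonoidalCategory in
theorem lTensor_subtype_injective {R : Type u} [CommRing R] (M : Type u) [AddCommGroup M] [Module R M] (I : Ideal R)
    (h : Limits.IsZero (((CategoryTheory.Tor (ModuleCat.{u} R) 1).obj (ModuleCat.of R M)).obj (ModuleCat.of R (R ⧸ I)))) :
    Function.Injective (LinearMap.lTensor M (Submodule.subtype I)) := by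
  let P := projectiveResolution (ModuleCat.of R (R ⧸ I))
  let G := (tensoringLeft (ModuleCat.{u} R)).obj (ModuleCat.of R M)
  have h1 : ((G.mapHomologicalComplex _).obj P.complex).ExactAt 1 :=
    (HomologicalComplex.exactAt_iff_isZero_homology _ _).mpr (h.of_iso (P.isoLeftDerivedObj G 1).symm)
  rw [HomologicalComplex.exactAt_iff' _ 2 1 0 (by simp) (by simp), ShortComplex.ShortExact.moduleCat_exact_iff_function_exact] at h1
  have hd : Function.Exact ⇑(P.complex.d 2 1).hom ⇑(P.complex.d 1 0).hom := by
    have := P.complex_exactAt_succ 0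
    rw [HomologicalComplex.exactAt_iff' _ 2 1 0 (by simp) (by simp), ShortComplex.ShortExact.moduleCat_exact_iff_function_exact] at this
    exact this
  have hε : Function.Exact ⇑(P.complex.d 1 0).hom ⇑(P.π.f 0).hom := by
    have h0 := P.exact₀
    rw [ShortComplex.ShortExact.moduleCat_exact_iff_function_exact] at h0
    exact h0
  have hεs : Function.Surjective ⇑(P.π.f 0).hom := (ModuleCat.epi_iff_surjective _).mp (inferInstance : Epi (P.π.f 0))
  let ε : P.complex.X 0 →ₗ[R] (R ⧸ I) := (P.π.f 0).hom
  let K := LinearMap.ker ε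
  let d1 : P.complex.X 1 →ₗ[R] K := (P.complex.d 1 0).hom.codRestrict K fun x => hε.apply_apply_eq_zero x
  have hd1 : Function.Surjective d1 := fun k => by
    obtain ⟨x, hx⟩ := (hε k.1).mp k.2
    exact ⟨x, Subtype.ext hx⟩
  have hK : ∀ z, K.subtype.lTensor M z = 0 → z = 0 := by
    intro z hz
    obtain ⟨w, rfl⟩ := LinearMap.lTensor_surjective M hd1 z
    rw [← LinearMap.comp_apply, ← LinearMap.lTensor_comp] at hz
    obtain ⟨v, rfl⟩ : w ∈ Set.range ((P.complex.d 2 1).hom.lTensor M) := (h1 w).mp hz
    rw [← LinearMap.comp_apply, ← LinearMap.lTensor_comp,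
      show d1 ∘ₗ (P.complex.d 2 1).hom = 0 from LinearMap.ext fun x => Subtype.ext (hd.apply_apply_eq_zero x),
      LinearMap.lTensor_zero, LinearMap.zero_apply]
  haveI : Module.Projective R (P.complex.X 0) := (IsProjective.iff_projective (R := R) (P.complex.X 0)).mpr (P.projective 0)
  obtain ⟨h, hh⟩ := Module.projective_lifting_property ε (Submodule.mkQ I) hεs
  obtain ⟨h', hh'⟩ := Module.projective_lifting_property (Submodule.mkQ I) ε (Submodule.mkQ_surjective I)
  let hI : I →ₗ[R] K := (h ∘ₗ Submodule.subtype I).codRestrict K fun i => by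
    have := LinearMap.congr_fun hh i.1
    simp only [LinearMap.comp_apply] at this
    exact this.trans ((Submodule.Quotient.mk_eq_zero I).mpr i.2)
  let hI' : K →ₗ[R] I := (h' ∘ₗ K.subtype).codRestrict I fun k => by
    have := LinearMap.congr_fun hh' k.1
    exact (Submodule.Quotient.mk_eq_zero I).mp (this.trans k.2)
  have hc : 1 - h' (h 1) ∈ I := by
    refine (Submodule.Quotient.eq I).mp ?_
    have h1 := LinearMap.congr_fun hh' (h 1)
    have h2 := LinearMap.congr_fun hh 1
    exact (h1.trans h2).symm
  have hcomp : hI' ∘ₗ hI = h' (h 1) • LinearMap.id := LinearMap.ext fun i => Subtype.ext (by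
    show h' (h i.1) = h' (h 1) * i.1
    conv_lhs => rw [show (i.1 : R) = i.1 • (1 : R) by simp, map_smul, map_smul, smul_eq_mul, mul_comm])
  rw [injective_iff_map_eq_zero]
  intro z hz
  have h3 : hI.lTensor M z = 0 := hK _ (by
    rw [← LinearMap.comp_apply, ← LinearMap.lTensor_comp,
      show K.subtype ∘ₗ hI = h ∘ₗ Submodule.subtype I from rfl, LinearMap.lTensor_comp, LinearMap.comp_apply, hz, map_zero])
  have h4 : h' (h 1) • z = 0 := by
    have := congrArg (hI'.lTensor M) h3
    rwa [← LinearMap.comp_apply, ← LinearMap.lTensor_comp, hcomp, LinearMap.lTensor_smul, LinearMap.lTensor_id, map_zero] at this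
  have key : ∀ w : M ⊗[R] I, (⟨1 - h' (h 1), hc⟩ : I).1 • w =
      (TensorProduct.rid R M (LinearMap.lTensor M (Submodule.subtype I) w)) ⊗ₜ[R] (⟨1 - h' (h 1), hc⟩ : I) := by
    intro w
    induction w with
    | zero => simp
    | add a b ha hb => rw [smul_add, ha, hb, map_add, map_add, add_tmul]
    | tmul m i =>
      rw [LinearMap.lTensor_tmul, TensorProduct.rid_tmul, ← tmul_smul, smul_tmul]
      congr 1
      exact Subtype.ext (mul_comm _ _)
  have h5 := key z
  rw [hz, map_zero, zero_tmul, sub_smul, one_smul, h4, sub_zero] at h5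
  exact h5

/-- For a ring R and an R-module M, flatness of M over R is equivalent to the vanishing of Tor₁ᴿ(M, R/I)
for every finitely generated ideal I ⊆ R. -/
theorem result (R : Type u) [CommRing R] (M : Type u) [AddCommGroup M] [Module R M] : Module.Flat R M ↔ ∀ I : Ideal R, I.FG → Limits.IsZero (((CategoryTheory.Tor (ModuleCat.{u} R) 1).obj (ModuleCat.of R M)).obj (ModuleCat.of R (R ⧸ I))) := by
  exact ⟨fun _ I _ => Groth.Agent.H1CAlg.isZero_Tor_of_flat (ModuleCat.of R M) (ModuleCat.of R (R ⧸ I)) 0,
    fun h => Module.Flat.iff_lTensor_injective.mpr fun I hI => lTensor_subtype_injective M I (h I hI)⟩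

end Groth.Agent.S6313
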