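import Groth.Statements.S6315
import Groth.Agent.H3CAlg.TorBasic
import Mathlib.RingTheory.Noetherian.Basic
import Mathlib.LinearAlgebra.TensorProduct.Finiteness
-- import your own Groth.Agent.* helpers here

set_option autoImplicit false
universe u
open CategoryTheory
open CAlg
open scoped TensorProduct

namespace Groth.Agent.S6315

/-- Let R be a Noetherian ring and M, N finite R-modules. Then Tor_pᴿ(M, N) is a finite R-module for all
p. -/
theorem result (R : Type u) [CommRing R] [IsNoetherianRing R] (M N : Type u) [AddCommGroup M] [Module R M] [AddCommGroup N] [Module R N] [Module.Finite R M] [Module.Finite R N] (p : ℕ) : Module.Finite R (((CategoryTheory.Tor (ModuleCat.{u} R) p).obj (ModuleCat.of R M)).obj (ModuleCat.of R N)) := by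
  induction p generalizing N with
  | zero =>
    let e := ((Groth.Agent.H3CAlg.Tor.zeroIso (ModuleCat.of R M)).app (ModuleCat.of R N)).toLinearEquiv
    haveI : Module.Finite R (((MonoidalCategory.tensoringLeft (ModuleCat.{u} R)).obj (ModuleCat.of R M)).obj (ModuleCat.of R N)) :=
      inferInstanceAs (Module.Finite R (M ⊗[R] N))
    exact Module.Finite.equiv e.symm
  | succ p ih =>
    obtain ⟨d, q, hq⟩ := Module.Finite.exists_fin' R N
    let S : ShortComplex (ModuleCat.{u} R) := ShortComplex.mk (ModuleCat.ofHom (LinearMap.ker q).subtype)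
      (ModuleCat.ofHom q) (by ext x; exact x.2)
    have hS : S.ShortExact :=
      { exact := (ShortComplex.ShortExact.moduleCat_exact_iff_function_exact S).mpr (LinearMap.exact_subtype_ker_map q)
        mono_f := (ModuleCat.mono_iff_injective _).mpr Subtype.coe_injective
        epi_g := (ModuleCat.epi_iff_surjective _).mpr hq }
    haveI : Projective S.X₂ := ModuleCat.projective_of_free (Pi.basisFun R (Fin d))
    obtain ⟨-, -, δ, w₁, w₂, h₁, h₂⟩ := Groth.Agent.H3CAlg.Tor.les₂ (ModuleCat.of R M) S hS p
    have hmono : Mono δ := h₁.mono_g ((isZero_Tor_succ_of_projective _ (ModuleCat.of R M) S.X₂ p).eq_of_src _ _)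
    haveI : Module.Finite R (((CategoryTheory.Tor (ModuleCat.{u} R) p).obj (ModuleCat.of R M)).obj S.X₁) :=
      ih (LinearMap.ker q)
    exact Module.Finite.of_injective δ.hom ((ModuleCat.mono_iff_injective _).mp hmono)

end Groth.Agent.S6315
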