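import Groth.Statements.S6316
import Groth.Agent.H1TorFlip.Flip

set_option autoImplicit false
universe u
open CategoryTheory
open CAlg

namespace Groth.Agent.S6316

/-- Let R be a ring and i ≥ 0. The bifunctors (M, N) ↦ Torᵢᴿ(M, N) and (M, N) ↦ Torᵢᴿ(N, M) are
isomorphic; here Tor is the left derived functor in the second variable. This statement asserts only
that some isomorphism of bifunctors exists; the published isomorphism is canonical. -/
theorem result (R : Type u) [CommRing R] (i : ℕ) : Nonempty (CategoryTheory.Tor (ModuleCat.{u} R) i ≅ (CategoryTheory.Tor (ModuleCat.{u} R) i).flip) := by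
  exact ⟨H1TorFlip.torFlip R i⟩

end Groth.Agent.S6316
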