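import Groth.Statements.S6318
import Mathlib.RingTheory.Noetherian.Basic
import Mathlib.Algebra.Category.ModuleCat.Projective
import Mathlib.CategoryTheory.Abelian.Projective.Resolution
import Mathlib.RingTheory.Finiteness.Cardinality
import Mathlib.Algebra.Homology.ShortComplex.ModuleCat

set_option autoImplicit false
universe u
open CategoryTheory
open CAlg

namespace Groth.Agent.S6318

open TensorProduct CategoryTheory

open CategoryTheory.Limits

structure St (R : Type u) [CommRing R] : Type u where
  k : ℕ
  l : ℕ
  f : (Fin k → R) →ₗ[R] (Fin l → R)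

noncomputable def nxt {R : Type u} [CommRing R] [IsNoetherianRing R] (s : St R) : St R :=
  ⟨((Submodule.fg_iff_exists_fin_linearMap R _).mp (IsNoetherian.noetherian (LinearMap.ker s.f))).choose, s.k,
    ((Submodule.fg_iff_exists_fin_linearMap R _).mp (IsNoetherian.noetherian (LinearMap.ker s.f))).choose_spec.choose⟩

theorem nxt_range {R : Type u} [CommRing R] [IsNoetherianRing R] (s : St R) :
    LinearMap.range (nxt s).f = LinearMap.ker s.f :=
  ((Submodule.fg_iff_exists_fin_linearMap R _).mp (IsNoetherian.noetherian (LinearMap.ker s.f))).choose_spec.choose_spec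

noncomputable def st {R : Type u} [CommRing R] [IsNoetherianRing R] (s0 : St R) : ℕ → St R
  | 0 => s0
  | n+1 => nxt (st s0 n)

noncomputable def cplx {R : Type u} [CommRing R] [IsNoetherianRing R] (s0 : St R) : ChainComplex (ModuleCat.{u} R) ℕ :=
  ChainComplex.of (fun n => ModuleCat.of R (Fin (st s0 n).l → R)) (fun n => ModuleCat.ofHom (st s0 n).f)
    (fun n => ModuleCat.hom_ext (LinearMap.ext fun x => by
      show (st s0 n).f ((nxt (st s0 n)).f x) = 0
      exact LinearMap.mem_ker.mp (nxt_range (st s0 n) ▸ LinearMap.mem_range_self (nxt (st s0 n)).f x)))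

theorem cplx_exactAt {R : Type u} [CommRing R] [IsNoetherianRing R] (s0 : St R) (n : ℕ) :
    (cplx s0).ExactAt (n + 1) := by
  rw [HomologicalComplex.exactAt_iff' _ (n + 1 + 1) (n + 1) n (by simp) (by simp),
    ShortComplex.ShortExact.moduleCat_exact_iff_function_exact]
  simp only [HomologicalComplex.sc', HomologicalComplex.shortComplexFunctor', cplx, ChainComplex.of_d]
  exact LinearMap.exact_iff.mpr (nxt_range (st s0 n)).symm

/-- Let R be a Noetherian ring and M a finite R-module. Then M has a resolution … → F₂ → F₁ → F₀ → M → 0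
with every Fᵢ finite free; stated as the existence of a projective resolution of M in the category
of R-modules all of whose terms are finite free. -/
theorem result (R : Type u) [CommRing R] [IsNoetherianRing R] (M : Type u) [AddCommGroup M] [Module R M] [Module.Finite R M] : ∃ F : ProjectiveResolution (ModuleCat.of R M), ∀ n : ℕ, Module.Finite R (F.complex.X n) ∧ Module.Free R (F.complex.X n) := by
  obtain ⟨l, ε, hε⟩ := Module.Finite.exists_fin' R M
  obtain ⟨k, f, hf⟩ := (Submodule.fg_iff_exists_fin_linearMap R _).mp (IsNoetherian.noetherian (LinearMap.ker ε))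
  let s0 : St R := ⟨k, l, f⟩
  haveI hproj : ∀ n, CategoryTheory.Projective ((cplx s0).X n) := fun n =>
    (IsProjective.iff_projective (R := R) (Fin (st s0 n).l → R)).mp inferInstance
  have hd : (cplx s0).d 1 0 = ModuleCat.ofHom f := by simp [cplx]; rfl
  refine ⟨{ complex := cplx s0, projective := hproj,
            π := (ChainComplex.toSingle₀Equiv (cplx s0) (ModuleCat.of R M)).symm ⟨ModuleCat.ofHom ε, ?_⟩,
            quasiIso := ⟨fun n => ?_⟩ }, fun n => ?_⟩
  · rw [hd]
    refine ModuleCat.hom_ext (LinearMap.ext fun x => ?_)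
    show ε (f x) = 0
    exact LinearMap.mem_ker.mp (hf ▸ LinearMap.mem_range_self f x)
  · cases n
    · rw [ChainComplex.quasiIsoAt₀_iff, ShortComplex.quasiIso_iff_of_zeros']
      · refine (ShortComplex.exact_and_epi_g_iff_of_iso (S₂ := ShortComplex.mk (ModuleCat.ofHom f) (ModuleCat.ofHom ε)
          (ModuleCat.hom_ext (LinearMap.ext fun x => show ε (f x) = 0 from LinearMap.mem_ker.mp (hf ▸ LinearMap.mem_range_self f x)))) ?_).2
          ⟨(ShortComplex.ShortExact.moduleCat_exact_iff_function_exact _).mpr (LinearMap.exact_iff.mpr hf.symm),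
            (ModuleCat.epi_iff_surjective _).mpr hε⟩
        exact ShortComplex.isoMk (Iso.refl _) (Iso.refl _) (Iso.refl _) (by simp [hd]; rfl) (by simp; rfl)
      all_goals rfl
    · rw [quasiIsoAt_iff_exactAt']
      · apply cplx_exactAt
      · apply ChainComplex.exactAt_succ_single_obj
  · show Module.Finite R (Fin (st s0 n).l → R) ∧ Module.Free R (Fin (st s0 n).l → R)
    exact ⟨inferInstance, inferInstance⟩

end Groth.Agent.S6318
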