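import Groth.Statements.S6319
import Mathlib.RingTheory.Length
import Mathlib.RingTheory.Artinian.Module
import Mathlib.RingTheory.HopkinsLevitzki
import Mathlib.Algebra.Homology.ShortComplex.ModuleCat
import Mathlib.Algebra.Category.ModuleCat.EpiMono
-- import your own Groth.Agent.* helpers here

set_option autoImplicit false
universe u
open CategoryTheory
open CAlg

namespace Groth.Agent.S6319

/-- Let R be an Artinian local ring. The length function defines a homomorphism of abelian groups
length_R : K'₀(R) → ℤ on the Grothendieck group of finite R-modules, sending the class of a finite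
module M to its (finite) length. -/
theorem result (R : Type u) [CommRing R] [IsArtinianRing R] [IsLocalRing R] : ∃ φ : KZero.K0sub (fun M : ModuleCat.{u} R => Module.Finite R M) →+ ℤ, ∀ (M : ModuleCat.{u} R), Module.Finite R M → (φ (KZero.clSub (fun M : ModuleCat.{u} R => Module.Finite R M) M) : ℤ) = (Module.length R M).toNat := by
  classical
  let P : ObjectProperty (ModuleCat.{u} R) := fun M => Module.Finite R M
  let f : FreeAbelianGroup (Subtype P) →+ ℤ :=
    FreeAbelianGroup.lift fun X => ((Module.length R X.1).toNat : ℤ)
  have hrel : KZero.relSub P ≤ f.ker := by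
    refine (AddSubgroup.closure_le _).mpr ?_
    rintro _ ⟨S, h₁, h₂, h₃, hS, rfl⟩
    have hinj : Function.Injective S.f.hom := (ModuleCat.mono_iff_injective _).mp hS.mono_f
    have hsurj : Function.Surjective S.g.hom := (ModuleCat.epi_iff_surjective _).mp hS.epi_g
    have hlen := Module.length_eq_add_of_exact S.f.hom S.g.hom hinj hsurj
      ((ShortComplex.ShortExact.moduleCat_exact_iff_function_exact S).mp hS.exact)
    haveI : Module.Finite R S.X₁ := h₁
    haveI : Module.Finite R S.X₃ := h₃
    show f _ = 0
    simp only [f, map_sub, FreeAbelianGroup.lift_apply_of, hlen]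
    haveI : IsNoetherianRing R := inferInstance
    haveI : IsNoetherian R S.X₁ := isNoetherian_of_isNoetherianRing_of_finite R S.X₁
    haveI : IsNoetherian R S.X₃ := isNoetherian_of_isNoetherianRing_of_finite R S.X₃
    haveI : IsArtinian R S.X₁ := inferInstance
    haveI : IsArtinian R S.X₃ := inferInstance
    rw [ENat.toNat_add Module.length_ne_top Module.length_ne_top]
    push_cast; ring
  refine ⟨QuotientAddGroup.lift (KZero.relSub P) f hrel, fun M hM => ?_⟩
  rw [KZero.clSub, dif_pos hM]
  simp [f]

end Groth.Agent.S6319
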