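import Groth.Statements.S6321
import Mathlib.Algebra.Colimit.Ring
import Mathlib.RingTheory.RingHom.FaithfullyFlat
import Mathlib.RingTheory.Flat.EquationalCriterion

set_option autoImplicit false
universe u
open CAlg

namespace Groth.Agent.S6321

/-- Let R be a ring and (Sᵢ, φᵢⱼ) a directed system of faithfully flat R-algebras whose transition maps
are R-algebra maps. Then S = colim Sᵢ is a faithfully flat R-algebra: for any index i the composite
R → Sᵢ → S is faithfully flat. -/
theorem result {R : Type u} [CommRing R] {ι : Type u} [Preorder ι] [Nonempty ι] [IsDirected ι (· ≤ ·)] (G : ι → Type u) [∀ i, CommRing (G i)] [∀ i, Algebra R (G i)] (f : ∀ i j, i ≤ j → G i →+* G j) [DirectedSystem G fun i j h => f i j h] (hcompat : ∀ i j (h : i ≤ j), (f i j h).comp (algebraMap R (G i)) = algebraMap R (G j)) (hff : ∀ i, (algebraMap R (G i)).FaithfullyFlat) (i : ι) : ((Ring.DirectLimit.of G (fun i j h => f i j h) i).comp (algebraMap R (G i))).FaithfullyFlat := by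
  classical
  let L := Ring.DirectLimit G fun i j h => f i j h
  let o := fun i => Ring.DirectLimit.of G (fun i j h => f i j h) i
  have hcompat' : ∀ i j (h : i ≤ j) (x : G i), o j (f i j h x) = o i x :=
    fun i j h x => Ring.DirectLimit.of_f h x
  have hmap : ∀ j, (o j).comp (algebraMap R (G j)) = (o i).comp (algebraMap R (G i)) := by
    intro j
    obtain ⟨k, hik, hjk⟩ := exists_ge_ge i j
    ext r
    show o j (algebraMap R (G j) r) = o i (algebraMap R (G i) r)
    rw [← hcompat' i k hik, ← hcompat' j k hjk]
    exact congrArg (o k) ((RingHom.congr_fun (hcompat j k hjk) r).trans (RingHom.congr_fun (hcompat i k hik) r).symm)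
  letI : Algebra R L := ((o i).comp (algebraMap R (G i))).toAlgebra
  have halg : ∀ j r, algebraMap R L r = o j (algebraMap R (G j) r) := fun j r =>
    (RingHom.congr_fun (hmap j) r).symm
  let oA : ∀ j, G j →ₐ[R] L := fun j => { (o j : G j →+* L) with commutes' := fun r => (halg j r).symm }
  let fA : ∀ a b (h : a ≤ b), G a →ₐ[R] G b := fun a b h =>
    { (f a b h : G a →+* G b) with commutes' := fun r => RingHom.congr_fun (hcompat a b h) r }
  haveI hG : ∀ j, Module.FaithfullyFlat R (G j) := fun j => RingHom.faithfullyFlat_algebraMap_iff.mp (hff j)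
  suffices Module.FaithfullyFlat R L by
    exact RingHom.faithfullyFlat_algebraMap_iff.mpr this
  rw [Module.FaithfullyFlat.iff_flat_and_proper_ideal]
  refine ⟨?_, fun I hI htop => ?_⟩
  · refine Module.Flat.of_forall_isTrivialRelation fun {l} {r} {x} hx => ?_
    obtain ⟨j, y, hy⟩ : ∃ (j : ι) (y : Fin l → G j), ∀ k, o j (y k) = x k := by
      choose js ys hys using fun k => Ring.DirectLimit.exists_of (x k)
      obtain ⟨j, hj⟩ := Finite.exists_le js
      exact ⟨j, fun k => f (js k) j (hj k) (ys k), fun k => by rw [hcompat', hys]⟩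
    have h0 : o j (∑ k, r k • y k) = 0 := by
      show oA j _ = 0
      rw [map_sum, ← hx]
      exact Finset.sum_congr rfl fun k _ => by rw [map_smul]; exact congrArg _ (hy k)
    obtain ⟨k, hjk, hk⟩ := Ring.DirectLimit.of.zero_exact (f' := f) h0
    have hk' : ∑ a, r a • f j k hjk (y a) = 0 := by
      rw [← hk, show f j k hjk (∑ a, r a • y a) = fA j k hjk (∑ a, r a • y a) from rfl, map_sum]
      exact Finset.sum_congr rfl fun a _ => (map_smul (fA j k hjk) (r a) (y a)).symm
    obtain ⟨κ, A, z, hz, hA⟩ := Module.Flat.isTrivialRelation_of_sum_smul_eq_zero hk'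
    refine ⟨κ, A, fun b => o k (z b), fun a => ?_, hA⟩
    rw [← hy a, ← hcompat' j k hjk, show f j k hjk (y a) = _ from hz a]
    show oA k _ = _
    rw [map_sum]
    exact Finset.sum_congr rfl fun b _ => map_smul (oA k) (A a b) (z b)
  · have h1 : (1 : L) ∈ I • (⊤ : Submodule R L) := by rw [htop]; trivial
    obtain ⟨j, z, hz, hzI⟩ : ∃ (j : ι) (z : G j), o j z = 1 ∧ z ∈ I • (⊤ : Submodule R (G j)) := by
      refine Submodule.smul_induction_on h1 (p := fun x => ∃ (j : ι) (z : G j), o j z = x ∧ z ∈ I • (⊤ : Submodule R (G j))) ?_ ?_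
      · intro r hr x _
        obtain ⟨j, z, rfl⟩ := Ring.DirectLimit.exists_of x
        exact ⟨j, r • z, map_smul (oA j) r z, Submodule.smul_mem_smul hr trivial⟩
      · rintro x y ⟨j, a, ha, haI⟩ ⟨k, b, hb, hbI⟩
        obtain ⟨l, hjl, hkl⟩ := exists_ge_ge j k
        refine ⟨l, f j l hjl a + f k l hkl b, by rw [map_add, hcompat', hcompat', ha, hb], add_mem ?_ ?_⟩
        · have := Submodule.mem_map_of_mem (f := (fA j l hjl).toLinearMap) haI
          rw [Submodule.map_smul''] at this
          exact Submodule.smul_mono le_rfl le_top this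
        · have := Submodule.mem_map_of_mem (f := (fA k l hkl).toLinearMap) hbI
          rw [Submodule.map_smul''] at this
          exact Submodule.smul_mono le_rfl le_top this
    obtain ⟨k, hjk, hk⟩ := Ring.DirectLimit.of.zero_exact (f' := f) (x := z - 1)
      (by show o j (z - 1) = 0; rw [map_sub, map_one, hz, sub_self])
    rw [map_sub, map_one, sub_eq_zero] at hk
    have h2 : (1 : G k) ∈ I • (⊤ : Submodule R (G k)) := by
      have := Submodule.mem_map_of_mem (f := (fA j k hjk).toLinearMap) hzI
      rw [Submodule.map_smul''] at this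
      have h3 := Submodule.smul_mono le_rfl le_top this
      exact hk ▸ h3
    refine ((Module.FaithfullyFlat.iff_flat_and_proper_ideal R (G k)).mp (hG k)).2 I hI ?_
    rw [eq_top_iff]
    intro a _
    rw [Ideal.smul_top_eq_map] at h2 ⊢
    show a ∈ I.map (algebraMap R (G k))
    rw [(Ideal.eq_top_iff_one _).mpr h2]
    trivial

end Groth.Agent.S6321
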