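import Groth.Statements.S6322
import Mathlib.Algebra.Category.ModuleCat.Projective
import Mathlib.CategoryTheory.Abelian.Projective.Resolution
import Mathlib.Algebra.Homology.Homotopy
import Mathlib.Algebra.Category.ModuleCat.Abelian

set_option autoImplicit false
universe u
open CategoryTheory
open CAlg

namespace Groth.Agent.S6322

open CategoryTheory Category Limits

noncomputable section

variable {C : Type*} [Category C] [Abelian C] {Z : C} {F Q : ChainComplex C ℕ}
  (ε : Q ⟶ (ChainComplex.single₀ C).obj Z) [QuasiIso ε] [∀ i, Projective (F.X i)]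

include ε in
lemma exact_succ (n : ℕ) : (ShortComplex.mk _ _ (Q.d_comp_d (n + 2) (n + 1) n)).Exact := by
  refine ((HomologicalComplex.exactAt_iff' _ (n + 2) (n + 1) n) (by simp) (by simp)).1 ?_
  rw [← quasiIsoAt_iff_exactAt' ε (n + 1) (ChainComplex.exactAt_succ_single_obj _ _)]
  infer_instance

omit [QuasiIso ε] in
lemma d_ε : Q.d 1 0 ≫ ε.f 0 = 0 := by
  rw [← ε.comm 1 0, HomologicalComplex.single_obj_d, comp_zero]

set_option backward.isDefEq.respectTransparency.types false in
set_option backward.defeqAttrib.useBackward true in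
def isColimitCokernel : IsColimit (CokernelCofork.ofπ (ε.f 0) (d_ε ε)) := by
  refine IsColimit.ofIsoColimit (Q.opcyclesIsCokernel 1 0 (by simp)) ?_
  refine Cofork.ext (Q.isoHomologyι₀.symm ≪≫ isoOfQuasiIsoAt ε 0 ≪≫
    HomologicalComplex.singleObjHomologySelfIso _ _ _) ?_
  rw [← cancel_mono (HomologicalComplex.singleObjHomologySelfIso (ComplexShape.down ℕ) 0 _).inv,
    ← cancel_mono (ChainComplex.isoHomologyι₀ _).hom]
  dsimp
  simp only [ChainComplex.isoHomologyι₀_inv_naturality_assoc, HomologicalComplex.p_opcyclesMap_assoc,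
    ChainComplex.single₀_obj_zero, assoc, Iso.hom_inv_id, comp_id, HomologicalComplex.isoHomologyι_inv_hom_id,
    HomologicalComplex.singleObjHomologySelfIso_inv_homologyι, HomologicalComplex.singleObjOpcyclesSelfIso_hom,
    ChainComplex.single₀ObjXSelf, Iso.refl_inv, id_comp]

instance epi_ε : Epi (ε.f 0) := epi_of_isColimit_cofork (isColimitCokernel ε)

lemma exact₀ : (ShortComplex.mk _ _ (d_ε ε)).Exact :=
  ShortComplex.exact_of_g_is_cokernel _ (isColimitCokernel ε)

omit [QuasiIso ε] in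
lemma f_succ (n : ℕ) (t : F.X (n + 1) ⟶ ((ChainComplex.single₀ C).obj Z).X (n + 1)) : t = 0 :=
  (HomologicalComplex.isZero_single_obj_X _ _ _ _ (by simp)).eq_of_tgt _ _

variable (g : F ⟶ (ChainComplex.single₀ C).obj Z)

def liftZero : F.X 0 ⟶ Q.X 0 := Projective.factorThru (g.f 0) (ε.f 0)

def liftOne : F.X 1 ⟶ Q.X 1 :=
  (exact₀ ε).liftFromProjective (F.d 1 0 ≫ liftZero ε g) (by
    show (F.d 1 0 ≫ liftZero ε g) ≫ ε.f 0 = 0
    rw [assoc, liftZero, Projective.factorThru_comp, ← g.comm 1 0, HomologicalComplex.single_obj_d, comp_zero])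

lemma liftOne_comm : liftOne ε g ≫ Q.d 1 0 = F.d 1 0 ≫ liftZero ε g :=
  (exact₀ ε).liftFromProjective_comp _ _

def lift : F ⟶ Q :=
  ChainComplex.mkHom _ _ (liftZero ε g) (liftOne ε g) (liftOne_comm ε g)
    fun n ⟨a, b, w⟩ => ⟨(exact_succ ε n).liftFromProjective (F.d (n + 2) (n + 1) ≫ b) (by simp [w]),
      (exact_succ ε n).liftFromProjective_comp _ _⟩

lemma lift_comm : lift ε g ≫ ε = g := by
  refine HomologicalComplex.hom_ext _ _ fun i => ?_
  rcases i with _ | i
  · simp [lift, liftZero]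
  · exact (f_succ i _).trans (f_succ i _).symm

def zeroZero (f : F ⟶ Q) (hf : f ≫ ε = 0) : F.X 0 ⟶ Q.X 1 :=
  (exact₀ ε).liftFromProjective (f.f 0) (congr_fun (congr_arg HomologicalComplex.Hom.f hf) 0)

lemma zeroZero_comp (f : F ⟶ Q) (hf : f ≫ ε = 0) : zeroZero ε f hf ≫ Q.d 1 0 = f.f 0 :=
  (exact₀ ε).liftFromProjective_comp _ _

def zeroOne (f : F ⟶ Q) (hf : f ≫ ε = 0) : F.X 1 ⟶ Q.X 2 :=
  (exact_succ ε 0).liftFromProjective (f.f 1 - F.d 1 0 ≫ zeroZero ε f hf)
    (by rw [Preadditive.sub_comp, assoc, HomologicalComplex.Hom.comm, zeroZero_comp, sub_self])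

lemma zeroOne_comp (f : F ⟶ Q) (hf : f ≫ ε = 0) :
    zeroOne ε f hf ≫ Q.d 2 1 = f.f 1 - F.d 1 0 ≫ zeroZero ε f hf :=
  (exact_succ ε 0).liftFromProjective_comp _ _

include ε in
def liftHomotopyZero (f : F ⟶ Q) (hf : f ≫ ε = 0) : Homotopy f 0 :=
  Homotopy.mkInductive _ (zeroZero ε f hf) (zeroZero_comp ε f hf).symm
    (zeroOne ε f hf) (by rw [zeroOne_comp, add_sub_cancel]) fun n ⟨a, b, w⟩ =>
    ⟨(exact_succ ε (n + 1)).liftFromProjective (f.f (n + 2) - F.d _ _ ≫ b) (by simp [w]),
      by rw [(exact_succ ε (n + 1)).liftFromProjective_comp, add_sub_cancel]⟩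

end

/-- Let R be a ring, M → N a map of R-modules, N• → N a resolution (a chain complex with a
quasi-isomorphism onto N placed in degree 0) and … → F₁ → F₀ → M a complex with every Fᵢ free (F• a
chain complex with an augmentation to M in degree 0, exactness not required). Then (1) there is a
map of complexes F• → N• compatible with M → N through the augmentations, and (2) any two such maps
are homotopic. -/
theorem result (R : Type u) [CommRing R] (M N : ModuleCat.{u} R) (g : M ⟶ N) (F Nc : ChainComplex (ModuleCat.{u} R) ℕ) (hF : ∀ i, Module.Free R (F.X i)) (εF : F ⟶ (ChainComplex.single₀ (ModuleCat.{u} R)).obj M) (εN : Nc ⟶ (ChainComplex.single₀ (ModuleCat.{u} R)).obj N) [QuasiIso εN] : (∃ φ : F ⟶ Nc, φ ≫ εN = εF ≫ (ChainComplex.single₀ (ModuleCat.{u} R)).map g) ∧ ∀ α β : F ⟶ Nc, α ≫ εN = εF ≫ (ChainComplex.single₀ (ModuleCat.{u} R)).map g → β ≫ εN = εF ≫ (ChainComplex.single₀ (ModuleCat.{u} R)).map g → Nonempty (Homotopy α β) := by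
  haveI : ∀ i, Projective (F.X i) := fun i => by
    haveI := hF i
    exact ModuleCat.projective_of_free (Module.Free.chooseBasis R (F.X i))
  refine ⟨⟨lift εN (εF ≫ (ChainComplex.single₀ _).map g), lift_comm εN _⟩, fun α β hα hβ => ⟨?_⟩⟩
  exact Homotopy.equivSubZero.invFun (liftHomotopyZero εN (α - β) (by rw [Preadditive.sub_comp, hα, hβ, sub_self]))

end Groth.Agent.S6322
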