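import Groth.Statements.S6323
import Groth.Agent.H1CAlg.UnivInj
import Mathlib.RingTheory.Localization.BaseChange

set_option autoImplicit false
universe u
open CAlg

namespace Groth.Agent.S6323

open TensorProduct Groth.Agent.H1CAlg

/-- Let A → B be a ring homomorphism and S ⊆ A, S' ⊆ B multiplicative subsets with S carried into S', so
that there is an induced homomorphism S⁻¹A → (S')⁻¹B. For a linear map f : M → M' between
(S')⁻¹B-modules, f is universally injective over A (scalars restricted along A → (S')⁻¹B) precisely
when it is universally injective over S⁻¹A (scalars restricted along S⁻¹A → (S')⁻¹B). -/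
theorem result {A B : Type u} [CommRing A] [CommRing B] [Algebra A B] (S : Submonoid A) (S' : Submonoid B) (hSS' : ∀ s ∈ S, algebraMap A B s ∈ S') (As Bs : Type u) [CommRing As] [CommRing Bs] [Algebra A As] [IsLocalization S As] [Algebra B Bs] [IsLocalization S' Bs] [Algebra As Bs] [Algebra A Bs] [IsScalarTower A B Bs] [IsScalarTower A As Bs] {M M' : Type u} [AddCommGroup M] [AddCommGroup M'] [Module Bs M] [Module Bs M'] [Module As M] [Module As M'] [Module A M] [Module A M'] [IsScalarTower As Bs M] [IsScalarTower As Bs M'] [IsScalarTower A As M] [IsScalarTower A As M'] [IsScalarTower A Bs M] [IsScalarTower A Bs M'] (f : M →ₗ[Bs] M') : CAlgX.UniversallyInjective A (f.restrictScalars A) ↔ CAlgX.UniversallyInjective As (f.restrictScalars As) := by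
  constructor
  · intro h Q _ _
    letI : Module A Q := Module.compHom Q (algebraMap A As)
    haveI : IsScalarTower A As Q := IsScalarTower.of_algebraMap_smul fun _ _ => rfl
    have key : ∀ z : M ⊗[A] Q, TensorProduct.mapOfCompatibleSMul As A A M' Q ((f.restrictScalars A).rTensor Q z) =
        (f.restrictScalars As).rTensor Q (TensorProduct.mapOfCompatibleSMul As A A M Q z) := by
      intro z
      induction z with
      | zero => simp
      | tmul a b => simp
      | add a b ha hb => simp only [map_add, ha, hb]
    haveI : TensorProduct.CompatibleSMul A As M' Q := IsLocalization.tensorProduct_compatibleSMul S As M' Q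
    intro a b hab
    obtain ⟨a', rfl⟩ := TensorProduct.mapOfCompatibleSMul_surjective As A A M Q a
    obtain ⟨b', rfl⟩ := TensorProduct.mapOfCompatibleSMul_surjective As A A M Q b
    rw [← key, ← key] at hab
    rw [h Q ((TensorProduct.equivOfCompatibleSMul As A A M' Q).injective hab)]
  · intro h Q _ _
    have key : ∀ z : M ⊗[As] (As ⊗[A] Q),
        TensorProduct.AlgebraTensorModule.cancelBaseChange A As As M' Q ((f.restrictScalars As).rTensor _ z) =
          (f.restrictScalars A).rTensor Q (TensorProduct.AlgebraTensorModule.cancelBaseChange A As As M Q z) := by
      intro z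
      induction z with
      | zero => simp
      | add a b ha hb => simp only [map_add, ha, hb]
      | tmul m w =>
        induction w with
        | zero => simp
        | add a b ha hb => simp only [tmul_add, map_add, ha, hb]
        | tmul s q => simp
    intro a b hab
    obtain ⟨a', rfl⟩ := (TensorProduct.AlgebraTensorModule.cancelBaseChange A As As M Q).surjective a
    obtain ⟨b', rfl⟩ := (TensorProduct.AlgebraTensorModule.cancelBaseChange A As As M Q).surjective b
    rw [← key, ← key] at hab
    rw [h _ ((TensorProduct.AlgebraTensorModule.cancelBaseChange A As As M' Q).injective hab)]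

end Groth.Agent.S6323
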