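import Groth.Statements.S6324
import Mathlib.RingTheory.ReesAlgebra
-- import your own Groth.Agent.* helpers here

set_option autoImplicit false
universe u
open CAlg

namespace Groth.Agent.S6324

/-- Let R → S be a ring map, I ⊆ R an ideal and A = Σ Iⁿtⁿ ⊆ R[t] the Rees algebra of I. For s ∈ S,
being integral over I is equivalent to s·t ∈ S[t] being integral over A (via A ⊆ R[t] → S[t]). -/
theorem result {R S : Type u} [CommRing R] [CommRing S] [Algebra R S] (I : Ideal R) (s : S) : W4stkalgebra1.IsIntegralOverIdeal I s ↔ ((Polynomial.mapRingHom (algebraMap R S)).comp (reesAlgebra I).val.toRingHom).IsIntegralElem (Polynomial.C s * Polynomial.X) := by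
  classical
  let φ : reesAlgebra I →+* Polynomial S := (Polynomial.mapRingHom (algebraMap R S)).comp (reesAlgebra I).val.toRingHom
  constructor
  · rintro ⟨p, hp, hc, he⟩
    set n := p.natDegree
    let c : ℕ → reesAlgebra I := fun j => if h : j < n then ⟨Polynomial.monomial (n - j) (p.coeff j), reesAlgebra.monomial_mem.mpr (hc j h)⟩ else 0
    refine ⟨Polynomial.X ^ n + ∑ j ∈ Finset.range n, Polynomial.C (c j) * Polynomial.X ^ j, Polynomial.monic_X_pow_add ?_, ?_⟩
    · refine (Polynomial.degree_sum_le _ _).trans_lt ((Finset.sup_lt_iff (WithBot.bot_lt_coe _)).mpr fun j hj => ?_)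
      exact (Polynomial.degree_C_mul_X_pow_le _ _).trans_lt (by exact_mod_cast Finset.mem_range.mp hj)
    · show Polynomial.eval₂ φ (Polynomial.C s * Polynomial.X) _ = 0
      rw [Polynomial.eval₂_add, Polynomial.eval₂_X_pow, Polynomial.eval₂_finsetSum]
      have h0 : (s ^ n + ∑ j ∈ Finset.range n, algebraMap R S (p.coeff j) * s ^ j) = 0 := by
        rw [← he, Polynomial.eval₂_eq_sum_range, Finset.sum_range_succ, hp.coeff_natDegree, map_one, one_mul, add_comm]
      have hterm : ∀ j ∈ Finset.range n, Polynomial.eval₂ φ (Polynomial.C s * Polynomial.X) (Polynomial.C (c j) * Polynomial.X ^ j) =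
          Polynomial.C (algebraMap R S (p.coeff j) * s ^ j) * Polynomial.X ^ n := by
        intro j hj
        have hj' := Finset.mem_range.mp hj
        rw [Polynomial.eval₂_mul, Polynomial.eval₂_C, Polynomial.eval₂_X_pow]
        have : φ (c j) = Polynomial.monomial (n - j) (algebraMap R S (p.coeff j)) := by
          simp [φ, c, hj', Polynomial.map_monomial]
        rw [this, ← Polynomial.C_mul_X_pow_eq_monomial, mul_pow, ← Polynomial.C_pow, mul_mul_mul_comm, ← pow_add,
          ← Polynomial.C_mul, Nat.sub_add_cancel hj'.le]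
      rw [Finset.sum_congr rfl hterm, ← Finset.sum_mul, ← map_sum, mul_pow, ← Polynomial.C_pow, ← add_mul,
        ← map_add, h0, map_zero, zero_mul]
  · rintro ⟨Q, hQ, hQe⟩
    set n := Q.natDegree
    change Polynomial.eval₂ φ (Polynomial.C s * Polynomial.X) Q = 0 at hQe
    let d : ℕ → R := fun j => ((Q.coeff j : reesAlgebra I) : Polynomial R).coeff (n - j)
    let p : Polynomial R := Polynomial.X ^ n + ∑ j ∈ Finset.range n, Polynomial.C (d j) * Polynomial.X ^ j
    have hlt : (∑ j ∈ Finset.range n, Polynomial.C (d j) * Polynomial.X ^ j).degree < (n : WithBot ℕ) := by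
      refine (Polynomial.degree_sum_le _ _).trans_lt ((Finset.sup_lt_iff (WithBot.bot_lt_coe _)).mpr fun j hj => ?_)
      exact (Polynomial.degree_C_mul_X_pow_le _ _).trans_lt (by exact_mod_cast Finset.mem_range.mp hj)
    rcases subsingleton_or_nontrivial R with hR | hR
    · exact ⟨1, Polynomial.monic_one, fun j hj => by simp at hj, by
        haveI : Subsingleton S := (algebraMap R S).codomain_trivial
        exact Subsingleton.elim _ _⟩
    have hdeg : p.natDegree = n := by
      refine Polynomial.natDegree_eq_of_degree_eq_some ?_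
      rw [Polynomial.degree_add_eq_left_of_degree_lt (by rwa [Polynomial.degree_X_pow]), Polynomial.degree_X_pow]
    refine ⟨p, Polynomial.monic_X_pow_add hlt, fun j hj => ?_, ?_⟩
    · rw [hdeg] at hj ⊢
      have hcoef : p.coeff j = d j := by
        simp only [p, Polynomial.coeff_add, Polynomial.coeff_X_pow, if_neg (ne_of_lt hj), zero_add,
          Polynomial.finsetSum_coeff, Polynomial.coeff_C_mul_X_pow]
        rw [Finset.sum_ite_eq, if_pos (Finset.mem_range.mpr hj)]
      rw [hcoef]
      exact (mem_reesAlgebra_iff I _).mp (Q.coeff j).2 (n - j)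
    · have h1 := congrArg (fun f : Polynomial S => f.coeff n) hQe
      simp only [Polynomial.eval₂_eq_sum_range, Polynomial.finsetSum_coeff, Polynomial.coeff_zero] at h1
      rw [show p = _ from rfl, Polynomial.eval₂_add, Polynomial.eval₂_X_pow, Polynomial.eval₂_finsetSum, ← h1,
        Finset.sum_range_succ, add_comm]
      refine congrArg₂ (· + ·) (Finset.sum_congr rfl fun j hj => ?_) ?_
      · have hj' := Finset.mem_range.mp hj
        rw [Polynomial.eval₂_mul, Polynomial.eval₂_C, Polynomial.eval₂_X_pow, mul_pow, ← Polynomial.C_pow, ← mul_assoc,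
          Polynomial.coeff_mul_X_pow', if_pos hj'.le, Polynomial.coeff_mul_C]
        simp [φ, d, Polynomial.coeff_map]
      · rw [hQ.coeff_natDegree, map_one, one_mul, mul_pow, ← Polynomial.C_pow, Polynomial.coeff_C_mul_X_pow, if_pos rfl]

end Groth.Agent.S6324
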