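import Groth.Statements.S6325
import Groth.Agent.S6324
import Mathlib.RingTheory.IntegralClosure.IsIntegralClosure.Basic
-- import your own Groth.Agent.* helpers here

set_option autoImplicit false
universe u
open CAlg

namespace Groth.Agent.S6325

/-- Let R → S be a ring map and I ⊆ R an ideal. The elements of S integral over I form an R-submodule of
S; moreover, the product s s' is integral over I for any s ∈ S integral over R and any s' ∈ S
integral over I. -/
theorem result {R S : Type u} [CommRing R] [CommRing S] [Algebra R S] (I : Ideal R) : (∃ N : Submodule R S, ∀ s : S, s ∈ N ↔ W4stkalgebra1.IsIntegralOverIdeal I s) ∧ (∀ s s' : S, IsIntegral R s → W4stkalgebra1.IsIntegralOverIdeal I s' → W4stkalgebra1.IsIntegralOverIdeal I (s * s')) := by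
  let φ : reesAlgebra I →+* Polynomial S := (Polynomial.mapRingHom (algebraMap R S)).comp (reesAlgebra I).val.toRingHom
  have hiff : ∀ s : S, W4stkalgebra1.IsIntegralOverIdeal I s ↔ φ.IsIntegralElem (Polynomial.C s * Polynomial.X) :=
    fun s => Groth.Agent.S6324.result I s
  letI : Algebra (reesAlgebra I) (Polynomial S) := φ.toAlgebra
  have hC : ∀ s : S, IsIntegral R s → IsIntegral (reesAlgebra I) (Polynomial.C s : Polynomial S) := by
    rintro s ⟨p, hp, he⟩
    refine ⟨p.map (algebraMap R (reesAlgebra I)), hp.map _, ?_⟩
    show Polynomial.eval₂ φ _ _ = 0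
    rw [Polynomial.eval₂_map, show φ.comp (algebraMap R (reesAlgebra I)) = Polynomial.C.comp (algebraMap R S) from
      RingHom.ext fun r => Polynomial.map_C (algebraMap R S), ← Polynomial.hom_eval₂, he, map_zero]
  have hsmul : ∀ s s' : S, IsIntegral R s → W4stkalgebra1.IsIntegralOverIdeal I s' → W4stkalgebra1.IsIntegralOverIdeal I (s * s') := by
    intro s s' hs hs'
    rw [hiff] at hs' ⊢
    rw [map_mul, mul_assoc]
    exact IsIntegral.mul (R := reesAlgebra I) (hC s hs) hs'
  refine ⟨⟨{ carrier := {s | W4stkalgebra1.IsIntegralOverIdeal I s}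
             add_mem' := fun {a b} ha hb => ?_
             zero_mem' := ?_
             smul_mem' := fun r a ha => ?_ }, fun s => Iff.rfl⟩, hsmul⟩
  · show W4stkalgebra1.IsIntegralOverIdeal I (a + b)
    rw [hiff, map_add, add_mul]
    exact IsIntegral.add ((hiff a).mp ha) ((hiff b).mp hb)
  · show W4stkalgebra1.IsIntegralOverIdeal I 0
    rw [hiff, map_zero, zero_mul]
    exact isIntegral_zero (R := reesAlgebra I)
  · show W4stkalgebra1.IsIntegralOverIdeal I (r • a)
    rw [Algebra.smul_def]
    exact hsmul _ _ isIntegral_algebraMap ha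

end Groth.Agent.S6325
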