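import Groth.Statements.S6326
import Groth.Agent.H1CAlg.CompactModule
-- import your own Groth.Agent.* helpers here

set_option autoImplicit false
universe u
open CategoryTheory CategoryTheory.Limits
open CAlg

namespace Groth.Agent.S6326

/-- Let R be a ring and N an R-module such that whenever M is the colimit of a filtered diagram (Mᵢ) of
R-modules (indexed by a filtered category in the same universe), the comparison map colim Hom_R(N,
Mᵢ) → Hom_R(N, M) is injective. Then N is finitely generated. (The implication from finite
generation back to this injectivity also holds; only the characterizing direction is stated here.) -/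
theorem result (R : Type u) [CommRing R] (N : Type u) [AddCommGroup N] [Module R N] (h : ∀ (J : Type u) [SmallCategory J] [IsFiltered J] (F : J ⥤ ModuleCat.{u} R), Function.Injective (colimit.post F (coyoneda.obj (Opposite.op (ModuleCat.of R N))))) : Module.Finite R N := by
  let K : Submodule R N := ⊤
  let F := Groth.Agent.H1CAlg.CompactModule.diagram K
  let j₀ : Groth.Agent.H1CAlg.CompactModule.FGSub K := ⟨⊥, Submodule.fg_bot, bot_le⟩
  let q : ModuleCat.of R N ⟶ F.obj j₀ := ModuleCat.ofHom (Submodule.mkQ j₀.1)
  let G := F ⋙ coyoneda.obj (Opposite.op (ModuleCat.of R N))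
  have hq : colimit.ι G j₀ q = colimit.ι G j₀ (0 : ModuleCat.of R N ⟶ F.obj j₀) := by
    refine h _ F ?_
    rw [Groth.Agent.H1CAlg.CompactModule.post_apply, Groth.Agent.H1CAlg.CompactModule.post_apply]
    refine ModuleCat.hom_ext (LinearMap.ext fun x => ?_)
    rw [Limits.zero_comp]
    exact Groth.Agent.H1CAlg.CompactModule.colimit_ι_eq_zero K j₀ (x := x) trivial
  obtain ⟨S, a, b, hab⟩ := (Types.FilteredColimit.colimit_eq_iff G).mp hq
  have htop : S.1 = ⊤ := eq_top_iff.mpr fun x _ => by
    have := congrArg (fun φ : ModuleCat.of R N ⟶ F.obj S => φ x) hab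
    exact (Submodule.Quotient.mk_eq_zero S.1).mp (this.trans (by simp [G]; try rfl))
  exact ⟨htop ▸ S.2.1⟩

end Groth.Agent.S6326
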