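import Groth.Statements.S6327
import Groth.Agent.H1CAlg.CompactModule
import Groth.Agent.S6326
-- import your own Groth.Agent.* helpers here

set_option autoImplicit false
universe u
open CategoryTheory CategoryTheory.Limits
open CAlg

namespace Groth.Agent.S6327

/-- Let R be a ring and N an R-module such that whenever M is the colimit of a filtered diagram (Mᵢ) of
R-modules (indexed by a filtered category in the same universe), the comparison map colim Hom_R(N,
Mᵢ) → Hom_R(N, M) is bijective. Then N is finitely presented. (The implication from finite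
presentation back to this bijectivity also holds; only the characterizing direction is stated here.) -/
theorem result (R : Type u) [CommRing R] (N : Type u) [AddCommGroup N] [Module R N] (h : ∀ (J : Type u) [SmallCategory J] [IsFiltered J] (F : J ⥤ ModuleCat.{u} R), Function.Bijective (colimit.post F (coyoneda.obj (Opposite.op (ModuleCat.of R N))))) : Module.FinitePresentation R N := by
  classical
  haveI : Module.Finite R N := Groth.Agent.S6326.result R N fun J _ _ F => (h J F).1
  obtain ⟨n, π, hπ⟩ := Module.Finite.exists_fin' R N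
  let K : Submodule R (Fin n → R) := LinearMap.ker π
  let F := Groth.Agent.H1CAlg.CompactModule.diagram K
  let j₀ : Groth.Agent.H1CAlg.CompactModule.FGSub K := ⟨⊥, Submodule.fg_bot, bot_le⟩
  -- the map from `N` to the colimit
  let ψ : (Fin n → R) →ₗ[R] (colimit F : ModuleCat.{u} R) := (colimit.ι F j₀).hom ∘ₗ Submodule.mkQ j₀.1
  have hψ : K ≤ LinearMap.ker ψ := fun x hx =>
    Groth.Agent.H1CAlg.CompactModule.colimit_ι_eq_zero K j₀ hx
  let e : N →ₗ[R] (colimit F : ModuleCat.{u} R) := Submodule.liftQ K ψ hψ ∘ₗ (π.quotKerEquivOfSurjective hπ).symm.toLinearMap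
  obtain ⟨t, ht⟩ := (h _ F).2 (ModuleCat.ofHom e)
  obtain ⟨S, φ, rfl⟩ := Types.jointly_surjective' t
  change ModuleCat.of R N ⟶ F.obj S at φ
  rw [Groth.Agent.H1CAlg.CompactModule.post_apply] at ht
  let φl : N →ₗ[R] (Fin n → R) ⧸ S.1 := φ.hom
  -- the projection to `N`
  let c : Cocone F :=
    { pt := ModuleCat.of R N
      ι := { app := fun T => ModuleCat.ofHom (Submodule.liftQ T.1 π (fun x hx => T.2.2 hx))
             naturality := fun T U f => by
              refine ModuleCat.hom_ext (LinearMap.ext fun x => ?_)
              obtain ⟨x, rfl⟩ := Submodule.Quotient.mk_surjective _ x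
              rfl } }
  let p : (Fin n → R) ⧸ S.1 →ₗ[R] N := Submodule.liftQ S.1 π fun x hx => S.2.2 hx
  have hsec : ∀ y : N, p (φ y) = y := by
    intro y
    obtain ⟨x, rfl⟩ := hπ y
    have h1 := congrArg (fun g : ModuleCat.of R N ⟶ colimit F => colimit.desc F c (g (π x))) ht
    have h2 : colimit.desc F c (colimit.ι F S (φ (π x))) = p (φ (π x)) :=
      ConcreteCategory.congr_hom (colimit.ι_desc c S) (φ (π x))
    have h3 : colimit.desc F c (e (π x)) = π x := by
      have : e (π x) = colimit.ι F j₀ (Submodule.Quotient.mk x) := by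
        show Submodule.liftQ K ψ hψ ((π.quotKerEquivOfSurjective hπ).symm (π x)) = _
        rw [show (π.quotKerEquivOfSurjective hπ).symm (π x) = Submodule.Quotient.mk x from
          (π.quotKerEquivOfSurjective hπ).symm_apply_eq.mpr rfl]
        rfl
      rw [this]
      exact ConcreteCategory.congr_hom (colimit.ι_desc c j₀) (Submodule.Quotient.mk x)
    exact h2.symm.trans (h1.trans h3)
  let ρ : (Fin n → R) →ₗ[R] (Fin n → R) ⧸ S.1 := Submodule.mkQ S.1 - φl ∘ₗ π
  have hK : K = Submodule.comap (Submodule.mkQ S.1) (LinearMap.range ρ) := by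
    ext x
    constructor
    · intro hx
      refine ⟨x, ?_⟩
      show Submodule.Quotient.mk x - φl (π x) = _
      rw [show π x = 0 from hx, map_zero, sub_zero]
      rfl
    · rintro ⟨y, hy⟩
      have := congrArg p hy
      rw [LinearMap.sub_apply, LinearMap.comp_apply, map_sub] at this
      have h5 : p (Submodule.mkQ S.1 y) = π y := rfl
      have h6 : p (φl (π y)) = π y := hsec (π y)
      rw [h5, h6, sub_self] at this
      exact this.symm
  refine Module.finitePresentation_of_surjective π hπ ?_
  show K.FG
  refine Submodule.fg_of_fg_map_of_fg_inf_ker (Submodule.mkQ S.1) ?_ ?_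
  · have h7 : Submodule.map (Submodule.mkQ S.1) K = LinearMap.range ρ :=
      (congrArg (Submodule.map (Submodule.mkQ S.1)) hK).trans
        (Submodule.map_comap_eq_of_surjective (Submodule.mkQ_surjective _) _)
    rw [h7, ← Submodule.map_top]
    exact Module.Finite.fg_top.map _
  · rw [Submodule.ker_mkQ, inf_eq_right.mpr S.2.2]
    exact S.2.1

end Groth.Agent.S6327
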