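import Groth.Statements.S6329
import Mathlib.RingTheory.Length
import Mathlib.RingTheory.SimpleModule.Basic
import Mathlib.RingTheory.Localization.AtPrime.Basic
import Mathlib.Algebra.Module.LocalizedModule.Exact
import Mathlib.RingTheory.Ideal.Colon
-- import your own Groth.Agent.* helpers here

set_option autoImplicit false
universe u
open CAlg

namespace Groth.Agent.S6329

/-- Let R be a ring, M an R-module and 0 = M₀ ⊂ M₁ ⊂ … ⊂ Mₙ = M a maximal chain of submodules (a
composition series; each Mᵢ/Mᵢ₋₁ is simple, of the form R/mᵢ with mᵢ = (Mᵢ₋₁ : Mᵢ) maximal). Then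
for every maximal ideal m of R the number of indices i with mᵢ = m equals length_{R_m}(M_m). -/
theorem result {R : Type u} [CommRing R] (M : Type u) [AddCommGroup M] [Module R M] (s : CompositionSeries (Submodule R M)) (h0 : s.head = ⊥) (h1 : s.last = ⊤) (m : Ideal R) [m.IsMaximal] : ((Finset.univ.filter fun i : Fin s.length => (s i.castSucc).colon (s i.succ : Set M) = m).card : ℕ∞) = Module.length (Localization.AtPrime m) (LocalizedModule m.primeCompl M) := by
  classical
  let Rm := Localization.AtPrime m
  let L : Fin (s.length + 1) → ℕ∞ := fun i => Module.length Rm (LocalizedModule m.primeCompl (s i))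
  have hstep : ∀ i : Fin s.length, L i.succ = L i.castSucc +
      (if (s i.castSucc).colon (s i.succ : Set M) = m then 1 else 0) := by
    intro i
    set A := s i.castSucc
    set B := s i.succ
    have hcov : A ⋖ B := s.step i
    haveI hsimple : IsSimpleModule R (B ⧸ A.comap B.subtype) := (covBy_iff_quot_is_simple hcov.le).mp hcov
    set Q := B ⧸ A.comap B.subtype
    let a : A →ₗ[R] B := Submodule.inclusion hcov.le
    let b : B →ₗ[R] Q := (A.comap B.subtype).mkQ
    have hex : Function.Exact a b := fun x => by
      show (A.comap B.subtype).mkQ x = 0 ↔ _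
      rw [Submodule.mkQ_apply, Submodule.Quotient.mk_eq_zero]
      exact ⟨fun hx => ⟨⟨x.1, hx⟩, rfl⟩, fun ⟨y, hy⟩ => hy ▸ y.2⟩
    have hadd := Module.length_eq_add_of_exact (LocalizedModule.map m.primeCompl a) (LocalizedModule.map m.primeCompl b)
      (LocalizedModule.map_injective _ a (Submodule.inclusion_injective hcov.le))
      (LocalizedModule.map_surjective _ b (Submodule.mkQ_surjective _))
      (LocalizedModule.map_exact _ a b hex)
    show Module.length Rm (LocalizedModule m.primeCompl B) = _
    rw [hadd]
    congr 1
    haveI := IsSimpleModule.nontrivial R Q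
    obtain ⟨x, hx⟩ := exists_ne (0 : Q)
    have hsurj := IsSimpleModule.toSpanSingleton_surjective R hx
    set m' := LinearMap.ker (LinearMap.toSpanSingleton R Q x)
    have hm' : Ideal.IsMaximal m' := IsSimpleModule.ker_toSpanSingleton_isMaximal R hx
    have hkill : ∀ r : R, r ∈ m' ↔ ∀ y : Q, r • y = 0 := by
      intro r
      refine ⟨fun hr y => ?_, fun h => h x⟩
      obtain ⟨c, rfl⟩ := hsurj y
      rw [LinearMap.toSpanSingleton_apply, smul_comm, show r • x = 0 from hr, smul_zero]
    have hcolon : A.colon (B : Set M) = m' := by
      ext r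
      rw [Submodule.mem_colon, hkill]
      constructor
      · intro h y
        obtain ⟨y, rfl⟩ := Submodule.mkQ_surjective _ y
        rw [← map_smul, Submodule.mkQ_apply, Submodule.Quotient.mk_eq_zero]
        exact h y y.2
      · intro h y hy
        have := h ((A.comap B.subtype).mkQ ⟨y, hy⟩)
        rw [← map_smul, Submodule.mkQ_apply, Submodule.Quotient.mk_eq_zero] at this
        exact this
    rw [hcolon]
    split_ifs with hmm
    · have hbij : Function.Bijective (LocalizedModule.mkLinearMap m.primeCompl Q) := by
        have hcancel : ∀ t : m.primeCompl, ∀ y : Q, ∃ z : Q, (t : R) • z = y := by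
          intro t y
          obtain ⟨u, hu⟩ := hm'.exists_inv (hmm ▸ t.2 : (t : R) ∉ m')
          obtain ⟨i, hi, hui⟩ := hu
          refine ⟨u • y, ?_⟩
          have : i • y = 0 := (hkill i).mp hi y
          rw [smul_smul]
          nth_rw 2 [← one_smul R y]
          rw [← hui, add_smul, this, add_zero, mul_comm]
        refine ⟨(injective_iff_map_eq_zero _).mpr fun y hy => ?_, fun z => ?_⟩
        · obtain ⟨t, ht⟩ := (IsLocalizedModule.eq_zero_iff m.primeCompl _).mp hy
          by_contra hne
          obtain ⟨u, i, hi, hui⟩ := hm'.exists_inv (hmm ▸ t.2 : (t : R) ∉ m')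
          refine hne ?_
          rw [← one_smul R y, ← hui, add_smul, (hkill i).mp hi y, add_zero, mul_smul, ← Submonoid.smul_def, ht, smul_zero]
        · induction z using LocalizedModule.induction_on with
          | h y t =>
            obtain ⟨z, hz⟩ := hcancel t y
            refine ⟨z, ?_⟩
            rw [LocalizedModule.mkLinearMap_apply, LocalizedModule.mk_eq]
            exact ⟨1, by rw [one_smul, one_smul, one_smul, Submonoid.smul_def, hz]⟩
      let eR := LinearEquiv.ofBijective _ hbij
      haveI : Nontrivial (LocalizedModule m.primeCompl Q) := eR.symm.toEquiv.nontrivial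
      refine le_antisymm ?_ (Order.one_le_iff_pos.mpr Module.length_pos)
      calc Module.length Rm (LocalizedModule m.primeCompl Q)
          = Module.length Rm (⊤ : Submodule Rm (LocalizedModule m.primeCompl Q)) := Submodule.topEquiv.length_eq.symm
        _ ≤ Module.length R ((⊤ : Submodule Rm (LocalizedModule m.primeCompl Q)).restrictScalars R) :=
            Submodule.length_le_length_restrictScalars R _
        _ = Module.length R Q := by
            rw [Submodule.restrictScalars_top]
            exact (Submodule.topEquiv.trans eR.symm).length_eq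
        _ = 1 := Module.length_eq_one R Q
    · rw [Module.length_eq_zero_iff, LocalizedModule.subsingleton_iff]
      intro y
      obtain ⟨r, hr, hr'⟩ := Set.not_subset.mp (fun hle : (m' : Set R) ⊆ m => hmm (hm'.eq_of_le Ideal.IsPrime.ne_top' hle))
      exact ⟨r, hr', (hkill r).mp hr y⟩
  have hsum : ∀ i : Fin (s.length + 1), L i = ∑ j ∈ Finset.univ.filter (fun j : Fin s.length => j.castSucc < i),
      (if (s j.castSucc).colon (s j.succ : Set M) = m then 1 else 0 : ℕ∞) := by
    intro i
    induction i using Fin.induction with
    | zero =>
      rw [Finset.sum_eq_zero (fun j hj => absurd (Finset.mem_filter.mp hj).2 (Fin.not_lt.mpr (Fin.zero_le _)))]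
      show Module.length Rm (LocalizedModule m.primeCompl (s 0)) = 0
      haveI : Subsingleton (s 0) := Submodule.subsingleton_iff_eq_bot.mpr h0
      exact Module.length_eq_zero_iff.mpr (LocalizedModule.subsingleton_iff.mpr fun y => ⟨1, m.primeCompl.one_mem, Subsingleton.elim _ _⟩)
    | succ i ih =>
      rw [hstep, ih]
      have : (Finset.univ.filter fun j : Fin s.length => j.castSucc < i.succ) =
          insert i (Finset.univ.filter fun j : Fin s.length => j.castSucc < i.castSucc) := by
        ext j
        simp only [Finset.mem_filter, Finset.mem_univ, true_and, Finset.mem_insert, Fin.lt_def, Fin.val_castSucc, Fin.val_succ, Fin.ext_iff]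
        omega
      rw [this, Finset.sum_insert (by simp), add_comm]
  have htop : L (Fin.last s.length) = Module.length Rm (LocalizedModule m.primeCompl M) := by
    let e : (s (Fin.last s.length)) ≃ₗ[R] M := (LinearEquiv.ofEq _ ⊤ h1).trans Submodule.topEquiv
    exact ((LinearEquiv.ofBijective (LocalizedModule.map m.primeCompl e.toLinearMap)
      ⟨LocalizedModule.map_injective _ _ e.injective, LocalizedModule.map_surjective _ _ e.surjective⟩)).length_eq
  rw [← htop, hsum, Finset.filter_true_of_mem (fun j _ => Fin.castSucc_lt_last j), Finset.sum_boole]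

end Groth.Agent.S6329
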