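import Groth.Statements.S6330
import Groth.Agent.S6309

set_option autoImplicit false
universe u
open scoped TensorProduct
open CAlg

namespace Groth.Agent.S6330

open scoped TensorProduct
open S6309

theorem surjective_locus_iff {R : Type u} [CommRing R] {P₁ P₂ : Type u} [AddCommGroup P₁] [Module R P₁]
    [AddCommGroup P₂] [Module R P₂] [Module.Finite R P₂]
    [Module.Projective R P₂] (φ : P₁ →ₗ[R] P₂) (p : Ideal R) [p.IsPrime] :
    Function.Surjective (φ.lTensor p.ResidueField) ↔
      ∃ g ∉ p, ∃ r : P₂ →ₗ[R] P₁, ∀ x, φ (r x) = g • x := by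
  constructor
  · intro hsurj
    obtain ⟨ρ, hρ⟩ := LinearMap.exists_rightInverse_of_surjective (φ.baseChange p.ResidueField)
      (LinearMap.range_eq_top.mpr hsurj)
    obtain ⟨s, hs, r₀, hr₀⟩ := exists_lift p ρ
    obtain ⟨g, hg, k, -, hk⟩ := exists_inverse_of_congr p (φ ∘ₗ r₀) s hs fun x => by
      refine mem_smul_top_of_residue_eq_zero p _ ?_
      have h1 := LinearMap.congr_fun hρ (1 ⊗ₜ[R] x)
      simp only [LinearMap.comp_apply, LinearMap.id_apply] at h1
      have h2 := congrArg (φ.baseChange p.ResidueField) (hr₀ x)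
      rw [LinearMap.baseChange_tmul, LinearMap.map_smul_of_tower, h1] at h2
      rw [TensorProduct.tmul_sub, LinearMap.comp_apply, h2, TensorProduct.tmul_smul, sub_self]
    exact ⟨g, hg, r₀ ∘ₗ k, fun x => LinearMap.congr_fun hk x⟩
  · rintro ⟨g, hg, r, hr⟩
    have hg' : IsUnit (algebraMap R p.ResidueField g) := by
      rw [isUnit_iff_ne_zero]; intro h
      exact hg (Ideal.algebraMap_residueField_eq_zero.mp h)
    have h2 : ∀ z, φ.lTensor p.ResidueField (r.lTensor p.ResidueField z) =
        algebraMap R p.ResidueField g • z := by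
      intro z
      rw [algebraMap_smul]
      induction z using TensorProduct.induction_on with
      | zero => simp
      | tmul c x => simp [hr, TensorProduct.tmul_smul]
      | add a b ha hb => rw [map_add, map_add, ha, hb, smul_add]
    intro z
    refine ⟨r.lTensor p.ResidueField ((↑hg'.unit⁻¹ : p.ResidueField) • z), ?_⟩
    rw [h2, smul_smul, IsUnit.mul_val_inv, one_smul]

/-- Let R be a ring and φ : P₁ → P₂ a map of finite projective R-modules. The set W of primes p of R
such that φ ⊗ κ(p) is surjective is open, and for every f ∈ R with D(f) ⊆ W the map (P₁)_f → (P₂)_f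
is surjective and Ker(φ)_f is a finite projective module over R_f. -/
theorem result {R : Type u} [CommRing R] {P₁ P₂ : Type u} [AddCommGroup P₁] [Module R P₁] [AddCommGroup P₂] [Module R P₂] [Module.Finite R P₁] [Module.Projective R P₁] [Module.Finite R P₂] [Module.Projective R P₂] (φ : P₁ →ₗ[R] P₂) : IsOpen {p : PrimeSpectrum R | Function.Surjective (φ.lTensor p.asIdeal.ResidueField)} ∧ ∀ f : R, (↑(PrimeSpectrum.basicOpen f) : Set (PrimeSpectrum R)) ⊆ {p : PrimeSpectrum R | Function.Surjective (φ.lTensor p.asIdeal.ResidueField)} → Function.Surjective (LocalizedModule.map (Submonoid.powers f) φ) ∧ Module.Finite (Localization.Away f) (LocalizedModule (Submonoid.powers f) (LinearMap.ker φ)) ∧ Module.Projective (Localization.Away f) (LocalizedModule (Submonoid.powers f) (LinearMap.ker φ)) := by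
  let G : Ideal R := (LinearMap.range (φ.compRight R : (P₂ →ₗ[R] P₁) →ₗ[R] (P₂ →ₗ[R] P₂))).comap
    (LinearMap.toSpanSingleton R (P₂ →ₗ[R] P₂) LinearMap.id)
  have hG : ∀ g, g ∈ G ↔ ∃ r : P₂ →ₗ[R] P₁, ∀ x, φ (r x) = g • x := fun g =>
    ⟨fun ⟨r, hr⟩ => ⟨r, fun x => LinearMap.congr_fun hr x⟩, fun ⟨r, hr⟩ => ⟨r, LinearMap.ext hr⟩⟩
  have hset : {p : PrimeSpectrum R | Function.Surjective (φ.lTensor p.asIdeal.ResidueField)}
      = (PrimeSpectrum.zeroLocus (G : Set R))ᶜ := by
    ext p
    rw [Set.mem_setOf_eq, surjective_locus_iff, Set.mem_compl_iff, PrimeSpectrum.mem_zeroLocus,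
      Set.not_subset]
    exact exists_congr fun g => by rw [SetLike.mem_coe, hG, SetLike.mem_coe, and_comm]
  refine ⟨by rw [hset]; exact (PrimeSpectrum.isClosed_zeroLocus _).isOpen_compl, fun f hf => ?_⟩
  obtain ⟨n, hn⟩ := exists_pow_of_basicOpen φ G _ (fun p hp => by
    rw [hset, Set.mem_compl_iff, PrimeSpectrum.mem_zeroLocus] at hp; exact hp) f hf
  obtain ⟨r, hr⟩ := (hG _).mp hn
  obtain ⟨r', hr'⟩ := localized_retraction hr
  let S := Submonoid.powers f
  let ι : LinearMap.ker φ →ₗ[R] P₁ := (LinearMap.ker φ).subtype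
  have hinj : Function.Injective (LocalizedModule.map S ι) :=
    LocalizedModule.map_injective S ι (Submodule.injective_subtype _)
  have hex : Function.Exact (LocalizedModule.map S ι) (LocalizedModule.map S φ) :=
    LocalizedModule.map_exact S ι φ (LinearMap.exact_subtype_ker_map φ)
  -- the section of `φ`
  let u : LocalizedModule S P₂ →ₗ[Localization.Away f] LocalizedModule S P₁ := by
    exact (↑(IsLocalization.map_units (M := S) (Localization.Away f) ⟨f ^ n, n, rfl⟩).unit⁻¹ : Localization.Away f) • LocalizedModule.map S r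
  have hu : ∀ z, LocalizedModule.map S φ (u z) = z := fun z => by
    induction z using LocalizedModule.induction_on with
    | h m s =>
      simp only [u, LinearMap.smul_apply, map_smul, LocalizedModule.map_mk, hr]
      rw [← LocalizedModule.smul'_mk, ← algebraMap_smul (Localization.Away f) (f ^ n), smul_smul,
        IsUnit.val_inv_mul, one_smul]
  have hsurj : Function.Surjective (LocalizedModule.map S φ) := fun z => ⟨u z, hu z⟩
  haveI : Module.Projective (Localization.Away f) (LocalizedModule S P₁) :=
    Module.projective_of_isLocalizedModule S (LocalizedModule.mkLinearMap S P₁)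
  haveI : Module.Finite (Localization.Away f) (LocalizedModule S P₁) :=
    Module.Finite.of_isLocalizedModule S (LocalizedModule.mkLinearMap S P₁)
  obtain ⟨v, hv⟩ : ∃ v : LocalizedModule S P₁ →ₗ[Localization.Away f] LocalizedModule S (LinearMap.ker φ),
      ∀ x, v (LocalizedModule.map S ι x) = x := by
    obtain ⟨e, he⟩ := (hex.splitSurjectiveEquiv hinj) ⟨u, LinearMap.ext hu⟩
    refine ⟨LinearMap.fst _ _ _ ∘ₗ e.toLinearMap, fun x => ?_⟩
    have := LinearMap.congr_fun he.1 x
    simp_all
  exact ⟨hsurj, Module.Finite.of_surjective v fun x => ⟨_, hv x⟩,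
    Module.Projective.of_split (LocalizedModule.map S ι) v (LinearMap.ext hv)⟩

end Groth.Agent.S6330
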