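import Groth.Statements.S6331
import Mathlib.Dynamics.Newton
import Mathlib.Algebra.Polynomial.Identities
-- import your own Groth.Agent.* helpers here

set_option autoImplicit false
universe u
open CAlg

namespace Groth.Agent.S6331

/-- Let R be a ring, I ⊆ R an ideal all of whose elements are nilpotent, and n ≥ 1 an integer whose
image in R/I is invertible. Then (1) raising to the n-th power is a bijection of the subset 1 + I of
R onto itself: for every y ∈ I there is exactly one x ∈ I with (1 + x)ⁿ = 1 + y; (2) a unit u of R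
has an n-th root in R exactly when the residue class of u has an n-th root in R/I. -/
theorem result {R : Type u} [CommRing R] (I : Ideal R) (hI : ∀ x ∈ I, IsNilpotent x) (n : ℕ) (hn : 1 ≤ n) (hinv : IsUnit ((n : ℕ) : R ⧸ I)) : (∀ y ∈ I, ∃! x : R, x ∈ I ∧ (1 + x) ^ n = 1 + y) ∧ (∀ u : Rˣ, (∃ v : R, v ^ n = (u : R)) ↔ ∃ w : R ⧸ I, w ^ n = Ideal.Quotient.mk I (u : R)) := by
  have hlift : ∀ (u : R) (v : R), IsUnit v → v ^ n - u ∈ I → ∃! r : R, v - r ∈ I ∧ r ^ n = u := by
    intro u v hv hvu
    let P : Polynomial R := Polynomial.X ^ n - Polynomial.C u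
    have hP : ∀ r, Polynomial.aeval r P = r ^ n - u := fun r => by simp [P]
    have hnu : IsUnit ((n : R) * v ^ (n - 1)) := by
      refine IsUnit.mul ?_ (hv.pow _)
      obtain ⟨w, hw⟩ := hinv.exists_right_inv
      obtain ⟨w, rfl⟩ := Ideal.Quotient.mk_surjective w
      rw [← map_natCast (Ideal.Quotient.mk I), ← map_mul, ← map_one (Ideal.Quotient.mk I), Ideal.Quotient.eq] at hw
      have h1 := (hI _ hw).isUnit_one_add
      rw [add_sub_cancel] at h1
      exact isUnit_of_mul_isUnit_left h1
    have hd : IsUnit (Polynomial.aeval v (Polynomial.derivative P)) := by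
      simpa [P, Polynomial.derivative_X_pow] using hnu
    obtain ⟨r, ⟨hr1, hr2⟩, huniq⟩ := Polynomial.existsUnique_nilpotent_sub_and_aeval_eq_zero
      (P := P) (x := v) (by rw [hP]; exact hI _ hvu) hd
    rw [hP, sub_eq_zero] at hr2
    have hrI : v - r ∈ I := by
      obtain ⟨w, hw⟩ := Polynomial.binomExpansion P v (r - v)
      rw [add_sub_cancel] at hw
      have hPr : P.eval r = 0 := by simp [P, hr2]
      rw [hPr] at hw
      have hPv : P.eval v ∈ I := by simpa [P] using hvu
      have h2 : (r - v) * ((Polynomial.derivative P).eval v + w * (r - v)) ∈ I := by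
        have h4 : (r - v) * ((Polynomial.derivative P).eval v + w * (r - v)) = - P.eval v := by linear_combination -hw
        rw [h4]; exact neg_mem hPv
      have h3 : IsUnit ((Polynomial.derivative P).eval v + w * (r - v)) := by
        refine IsNilpotent.isUnit_add_left_of_commute ?_ ?_ (Commute.all _ _)
        · exact (Commute.all _ _).isNilpotent_mul_left (by rw [← neg_sub]; exact hr1.neg)
        · simpa [P, Polynomial.derivative_X_pow] using hnu
      obtain ⟨q, hq⟩ := h3
      have h5 := I.mul_mem_right (↑q⁻¹ : R) h2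
      rw [← hq, mul_assoc, Units.mul_inv, mul_one] at h5
      rw [← neg_sub]; exact neg_mem h5
    refine ⟨r, ⟨hrI, hr2⟩, fun r' ⟨h1, h2⟩ => huniq r' ⟨hI _ h1, by rw [hP, h2, sub_self]⟩⟩
  refine ⟨fun y hy => ?_, fun u => ⟨?_, ?_⟩⟩
  · obtain ⟨r, ⟨hr1, hr2⟩, huniq⟩ := hlift (1 + y) 1 isUnit_one (by simpa using neg_mem hy)
    refine ⟨r - 1, ⟨by simpa using neg_mem hr1, by rw [add_sub_cancel]; exact hr2⟩, fun x ⟨hx, hxn⟩ => ?_⟩
    have := huniq (1 + x) ⟨by simpa using neg_mem hx, hxn⟩
    rw [← this]; ring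
  · rintro ⟨v, hv⟩
    exact ⟨Ideal.Quotient.mk I v, by rw [← map_pow, hv]⟩
  · rintro ⟨w, hw⟩
    obtain ⟨w, rfl⟩ := Ideal.Quotient.mk_surjective w
    rw [← map_pow, Ideal.Quotient.eq] at hw
    have hwu : IsUnit w := by
      have h1 : IsUnit ((u : R) + (w ^ n - (u : R))) :=
        IsNilpotent.isUnit_add_left_of_commute (hI _ hw) u.isUnit (Commute.all _ _)
      rw [add_sub_cancel, isUnit_pow_iff (by omega)] at h1
      exact h1
    obtain ⟨r, ⟨-, hr⟩, -⟩ := hlift u w hwu hw
    exact ⟨r, hr⟩

end Groth.Agent.S6331
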