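import Groth.Statements.S6332
import Mathlib.FieldTheory.Galois.Basic
import Mathlib.RingTheory.Trace.Basic
import Mathlib.GroupTheory.SpecificGroups.Cyclic

set_option autoImplicit false
universe u
open Fields

namespace Groth.Agent.S6332

open IntermediateField in
/-- Let L/K be a finite Galois extension of fields of characteristic p > 0 whose degree equals the prime
p (equivalently, the Galois group is cyclic of order p). Then there is an element z of L with z ^ p
- z in K which generates L over K. -/
theorem result {K L : Type u} [Field K] [Field L] [Algebra K L] (p : ℕ)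
    [Fact p.Prime] [CharP K p] [FiniteDimensional K L] [IsGalois K L]
    (hdeg : Module.finrank K L = p) :
    ∃ z : L, z ^ p - z ∈ Set.range (algebraMap K L) ∧ K⟮z⟯ = ⊤ := by
  classical
  have hp : p.Prime := Fact.out
  have hcard : Nat.card (L ≃ₐ[K] L) = p := (IsGalois.card_aut_eq_finrank K L).trans hdeg
  haveI : IsCyclic (L ≃ₐ[K] L) := isCyclic_of_prime_card hcard
  obtain ⟨σ, hσ⟩ := IsCyclic.exists_generator (α := L ≃ₐ[K] L)
  have hord : orderOf σ = p := by rw [orderOf_eq_card_of_forall_mem_zpowers hσ, hcard]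
  obtain ⟨θ, hθ⟩ := Algebra.trace_surjective K L 1
  have hsum : ∑ i ∈ Finset.range p, (σ ^ i) θ = 1 := by
    rw [← map_one (algebraMap K L), ← hθ, trace_eq_sum_automorphisms]
    refine Finset.sum_bij (fun i _ => σ ^ i) (fun i _ => Finset.mem_univ _) ?_ ?_ (fun i _ => rfl)
    · intro a ha b hb hab
      rw [Finset.mem_range, ← hord] at ha hb
      exact pow_injOn_Iio_orderOf ha hb hab
    · intro g _
      obtain ⟨k, hk⟩ := (isOfFinOrder_of_finite σ).mem_powers_iff_mem_zpowers.2 (hσ g)
      exact ⟨k % p, Finset.mem_range.2 (Nat.mod_lt _ hp.pos),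
        (hord ▸ pow_mod_orderOf σ k).trans hk⟩
  haveI : CharP L p := charP_of_injective_algebraMap (algebraMap K L).injective p
  let z : L := ∑ i ∈ Finset.range p, (i : L) * (σ ^ i) θ
  have hσz : σ z = z - 1 := by
    have h1 : σ z = ∑ i ∈ Finset.range p, (i : L) * (σ ^ (i + 1)) θ := by
      simp only [z, map_sum, map_mul, map_natCast, pow_succ', AlgEquiv.mul_apply]
    have h2 : ∑ i ∈ Finset.range p, ((i : L) + 1) * (σ ^ (i + 1)) θ = z := by
      have e1 := Finset.sum_range_succ' (fun i => (i : L) * (σ ^ i) θ) p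
      have e2 := Finset.sum_range_succ (fun i => (i : L) * (σ ^ i) θ) p
      rw [e2] at e1
      simp only [Nat.cast_add, Nat.cast_one, Nat.cast_zero, zero_mul, add_zero, CharP.cast_eq_zero] at e1
      exact e1.symm
    have h3 : ∑ i ∈ Finset.range p, (σ ^ (i + 1)) θ = 1 := by
      rw [show (1 : L) = σ 1 from (map_one σ).symm, ← hsum, map_sum]
      simp only [pow_succ', AlgEquiv.mul_apply]
    rw [h1, eq_sub_iff_add_eq]
    rw [Finset.sum_congr rfl (fun i (_ : i ∈ Finset.range p) => add_one_mul ((i : L)) _),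
      Finset.sum_add_distrib, h3] at h2
    exact h2
  have hfix : σ (z ^ p - z) = z ^ p - z := by
    rw [map_sub, map_pow, hσz, sub_pow_char, one_pow]
    ring
  refine ⟨z, ?_, ?_⟩
  · rw [IsGalois.mem_range_algebraMap_iff_fixed]
    intro g
    obtain ⟨k, hk⟩ := Subgroup.mem_zpowers_iff.1 (hσ g)
    have hmem : σ ∈ MulAction.stabilizer (L ≃ₐ[K] L) (z ^ p - z) := hfix
    have := Subgroup.zpow_mem _ hmem k
    rw [hk] at this
    exact this
  · have hz : z ∉ Set.range (algebraMap K L) := by
      rintro ⟨c, hc⟩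
      rw [← hc, AlgEquiv.commutes] at hσz
      exact one_ne_zero (sub_eq_self.1 hσz.symm)
    haveI := IntermediateField.isSimpleOrder_of_finrank_prime K L (hdeg ▸ hp)
    refine (IsSimpleOrder.eq_bot_or_eq_top (K⟮z⟯ : IntermediateField K L)).resolve_left ?_
    rw [IntermediateField.adjoin_simple_eq_bot_iff, IntermediateField.mem_bot]
    exact hz

end Groth.Agent.S6332
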