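import Groth.Statements.S6334
import Mathlib

set_option autoImplicit false
universe u
open Fields

namespace Groth.Agent.S6334

open IntermediateField in
/-- Let E/F be a finite purely inseparable extension of fields of characteristic p > 0. Then there are
elements a_1, ..., a_n of E generating E over F such that for each i the p-th power of a_i lies in
F(a_1, ..., a_{i-1}) while a_i itself does not (so each step adjoins a p-th root and has degree p);
in particular [E : F] = p ^ n. -/
theorem result {F E : Type u} [Field F] [Field E] [Algebra F E] (p : ℕ)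
    [Fact p.Prime] [CharP F p] [FiniteDimensional F E] [IsPurelyInseparable F E] :
    ∃ (n : ℕ) (a : Fin n → E), adjoin F (Set.range a) = ⊤ ∧
      (∀ i : Fin n, a i ^ p ∈ adjoin F (a '' {j | j < i}) ∧ a i ∉ adjoin F (a '' {j | j < i})) ∧
      Module.finrank F E = p ^ n := by
  classical
  have hp := (Fact.out : p.Prime)
  have pth : ∀ K : IntermediateField F E, K ≠ ⊤ → ∃ a : E, a ∉ K ∧ a ^ p ∈ K := by
    intro K hK
    haveI : CharP K p := charP_of_injective_algebraMap (algebraMap F K).injective p
    haveI : ExpChar K p := ExpChar.prime hp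
    haveI : IsPurelyInseparable K E := IsPurelyInseparable.tower_top F K E
    obtain ⟨x, -, hx⟩ := SetLike.exists_of_lt (lt_top_iff_ne_top.mpr hK)
    have hex : ∃ m, x ^ p ^ m ∈ K := by
      obtain ⟨m, ⟨y, hy⟩⟩ := IsPurelyInseparable.pow_mem K p x
      exact ⟨m, by rw [← hy]; exact y.2⟩
    obtain ⟨m, hm⟩ : ∃ m, Nat.find hex = m + 1 := Nat.exists_eq_succ_of_ne_zero fun h0 => hx (by
      have := Nat.find_spec hex
      rwa [h0, pow_zero, pow_one] at this)
    refine ⟨x ^ p ^ m, Nat.find_min hex (by omega), ?_⟩
    rw [← pow_mul, ← pow_succ, ← hm]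
    exact Nat.find_spec hex
  by_contra hne
  have hall : ∀ n, ∃ a : Fin n → E,
      (∀ i : Fin n, a i ^ p ∈ adjoin F (a '' {j | j < i}) ∧ a i ∉ adjoin F (a '' {j | j < i})) ∧
      Module.finrank F (adjoin F (Set.range a)) = p ^ n := by
    intro n
    induction n with
    | zero =>
      refine ⟨Fin.elim0, fun i => i.elim0, ?_⟩
      rw [Set.range_eq_empty, adjoin_empty, IntermediateField.finrank_bot, pow_zero]
    | succ n ih =>
      obtain ⟨a, ha, hr⟩ := ih
      have hKtop : adjoin F (Set.range a) ≠ ⊤ := fun h => hne ⟨n, a, h, ha, by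
        rw [← hr, h, IntermediateField.finrank_top']⟩
      obtain ⟨b, hb, hbp⟩ := pth _ hKtop
      set K := adjoin F (Set.range a)
      have himg : ∀ i : Fin n, (Fin.snoc a b : Fin (n + 1) → E) '' {j | j < i.castSucc} = a '' {j | j < i} := by
        intro i
        ext y
        simp only [Set.mem_image, Set.mem_setOf]
        constructor
        · rintro ⟨j, hj, rfl⟩
          have hjn : j.val < n := lt_trans (show j.val < i.val from hj) i.isLt
          refine ⟨⟨j, hjn⟩, hj, ?_⟩
          exact (Fin.snoc_castSucc (α := fun _ => E) b a ⟨j, hjn⟩).symm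
        · rintro ⟨j, hj, rfl⟩
          exact ⟨j.castSucc, hj, by rw [Fin.snoc_castSucc]⟩
      have hlast : (Fin.snoc a b : Fin (n + 1) → E) '' {j | j < Fin.last n} = Set.range a := by
        ext y
        simp only [Set.mem_image, Set.mem_setOf, Set.mem_range]
        constructor
        · rintro ⟨j, hj, rfl⟩
          refine ⟨⟨j, hj⟩, ?_⟩
          exact (Fin.snoc_castSucc (α := fun _ => E) b a ⟨j, hj⟩).symm
        · rintro ⟨j, rfl⟩
          exact ⟨j.castSucc, Fin.castSucc_lt_last j, by rw [Fin.snoc_castSucc]⟩
      refine ⟨Fin.snoc a b, fun i => ?_, ?_⟩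
      refine Fin.lastCases ?_ (fun i => ?_) i
      · rw [Fin.snoc_last, hlast]
        exact ⟨hbp, hb⟩
      · rw [Fin.snoc_castSucc, himg]
        exact ha i
      · have hrange : adjoin F (Set.range (Fin.snoc a b : Fin (n + 1) → E)) = (K⟮b⟯).restrictScalars F := by
          rw [Fin.range_snoc, show K = adjoin F (Set.range a) from rfl, adjoin_adjoin_left]
          congr 1
          rw [Set.union_singleton]
        rw [hrange]
        have hdeg : Module.finrank K K⟮b⟯ = p := by
          have hint : IsIntegral K b := Algebra.IsIntegral.isIntegral b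
          rw [adjoin.finrank hint]
          have hirr : Irreducible (Polynomial.X ^ p - Polynomial.C (⟨b ^ p, hbp⟩ : K)) := by
            refine X_pow_sub_C_irreducible_of_prime hp fun c hc => hb ?_
            haveI : CharP E p := charP_of_injective_algebraMap (algebraMap F E).injective p
            have : ((c : E)) ^ p = b ^ p := congrArg Subtype.val hc
            exact frobenius_inj E p this ▸ c.2
          rw [← minpoly.eq_of_irreducible_of_monic hirr (by simp)
            (Polynomial.monic_X_pow_sub_C _ hp.ne_zero), Polynomial.natDegree_X_pow_sub_C]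
        change Module.finrank F K⟮b⟯ = _
        rw [← Module.finrank_mul_finrank F K K⟮b⟯, hr, hdeg, pow_succ]
  obtain ⟨a, -, hr⟩ := hall (Module.finrank F E)
  have h1 : p ^ Module.finrank F E ≤ Module.finrank F E := hr ▸ (Submodule.finrank_le (adjoin F (Set.range a)).toSubalgebra.toSubmodule)
  exact absurd h1 (not_le.mpr (Nat.lt_pow_self hp.one_lt))

end Groth.Agent.S6334
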