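import Groth.Statements.S6335
import Mathlib.FieldTheory.PurelyInseparable.Basic
import Mathlib.FieldTheory.PurelyInseparable.PerfectClosure
import Mathlib.FieldTheory.IsAlgClosed.AlgebraicClosure
import Mathlib.FieldTheory.Perfect

set_option autoImplicit false
universe u
open Fields

namespace Groth.Agent.S6335

/-- Let K be a field of characteristic p > 0, L/K a separable algebraic extension and a an element of L.
If a is a root of a polynomial P over K which is separable (pairwise distinct roots in an algebraic
closure) and all of whose coefficients are p-th powers in K, then a is a p-th power in L. (Part (1),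
the case where P is the minimal polynomial of a, is a special case.) -/
theorem result {K L : Type u} [Field K] [Field L] [Algebra K L]
    (p : ℕ) [Fact p.Prime] [CharP K p] [Algebra.IsSeparable K L] (a : L) (P : Polynomial K)
    (hroot : Polynomial.aeval a P = 0) (hsep : P.Separable) (hcoeff : ∀ i : ℕ, ∃ b : K, b ^ p = P.coeff i) :
    ∃ c : L, c ^ p = a := by
  classical
  haveI : CharP L p := charP_of_injective_algebraMap (algebraMap K L).injective p
  let Ω := AlgebraicClosure L
  haveI : CharP Ω p := charP_of_injective_algebraMap (algebraMap L Ω).injective p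
  choose b hb using hcoeff
  let Q : Polynomial K := ∑ i ∈ Finset.range (P.natDegree + 1), Polynomial.monomial i (b i)
  have hQ : Q.map (frobenius K p) = P := by
    conv_rhs => rw [P.as_sum_range]
    simp only [Q, Polynomial.map_sum, Polynomial.map_monomial, frobenius_def, hb]
  have hQsep : Q.Separable := (Polynomial.separable_map (frobenius K p)).1 (hQ.symm ▸ hsep)
  obtain ⟨c, hc⟩ := IsAlgClosed.exists_pow_nat_eq (k := Ω) (algebraMap L Ω a) (Fact.out : p.Prime).pos
  have hQc : Polynomial.aeval c Q = 0 := by
    apply frobenius_inj Ω p
    rw [map_zero, Polynomial.aeval_def, Polynomial.hom_eval₂, ← RingHom.frobenius_comm,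
      ← Polynomial.eval₂_map, hQ, frobenius_def, hc, IsScalarTower.algebraMap_eq K L Ω,
      ← Polynomial.hom_eval₂, ← Polynomial.aeval_def, hroot, map_zero]
  have hcsep : IsSeparable L c := by
    refine IsSeparable.tower_top (F := K) L ?_
    exact hQsep.of_dvd (minpoly.dvd K c hQc)
  haveI : Algebra.IsSeparable L (IntermediateField.adjoin L {c} : IntermediateField L Ω) :=
    (IntermediateField.isSeparable_adjoin_simple_iff_isSeparable L Ω).2 hcsep
  haveI : ExpChar L p := ExpChar.prime (Fact.out)
  have hmem : c ∈ IntermediateField.adjoin L {c ^ p} := by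
    rw [show IntermediateField.adjoin L {c ^ p} = IntermediateField.adjoin L {c} from
      ((IntermediateField.adjoin_eq_adjoin_pow_expChar_of_isSeparable L Ω ({c} : Set Ω) p).trans
        (by rw [Set.image_singleton])).symm]
    exact IntermediateField.mem_adjoin_simple_self L c
  rw [hc, IntermediateField.adjoin_simple_eq_bot_iff.2 (IntermediateField.mem_bot.2 ⟨a, rfl⟩),
    IntermediateField.mem_bot] at hmem
  obtain ⟨c₀, rfl⟩ := hmem
  exact ⟨c₀, (algebraMap L Ω).injective (by rw [map_pow, hc])⟩

end Groth.Agent.S6335
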