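import Groth.Statements.S6336
import Mathlib

set_option autoImplicit false
universe u
open Fields

namespace Groth.Agent.S6336

open IntermediateField Polynomial in
/-- With an added hypothesis: let L/K be a finite extension of degree e generated by a single element a
whose e-th power lies in K, and assume that the polynomial X ^ e - 1 splits into linear factors over
K (so every e-th root of unity of any extension of K already lies in K; this holds when K contains a
primitive e-th root of unity, and when e is a power of the characteristic). Then every intermediate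
field of L/K is generated by a ^ d for some divisor d of e. (The published statement has no
hypothesis on roots of unity; for K the rationals and a a primitive 8-th root of unity, e = 4 and a
^ 4 = -1, the intermediate field generated by a + a⁻¹, a square root of 2, is none of K(a), K(a ^
2), K(a ^ 4); the published proof uses that the e-th roots of unity met are fixed by the
automorphisms it constructs, which the splitting hypothesis guarantees.) -/
theorem result {K L : Type u} [Field K] [Field L] [Algebra K L]
    [FiniteDimensional K L] (a : L) (ha : K⟮a⟯ = ⊤)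
    (hpow : a ^ Module.finrank K L ∈ Set.range (algebraMap K L))
    (hroots : (X ^ Module.finrank K L - 1 : K[X]).Splits) (L' : IntermediateField K L) :
    ∃ d : ℕ, d ∣ Module.finrank K L ∧ L' = K⟮a ^ d⟯ := by
  classical
  set e := Module.finrank K L with he
  have he0 : 0 < e := Module.finrank_pos
  obtain ⟨c, hc⟩ := hpow
  have hint : IsIntegral L' a := Algebra.IsIntegral.isIntegral a
  set g := minpoly L' a
  have hgm : g.Monic := minpoly.monic hint
  have htop : L'⟮a⟯ = ⊤ := by
    rw [← IntermediateField.restrictScalars_eq_top_iff (K := K), IntermediateField.restrictScalars_adjoin,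
      eq_top_iff, ← ha]
    exact IntermediateField.adjoin.mono K _ _ Set.subset_union_right
  have hf : g.natDegree = Module.finrank L' L := by
    rw [← IntermediateField.adjoin.finrank hint, htop, IntermediateField.finrank_top']
  set f := g.natDegree
  have hfe : f ∣ e := ⟨Module.finrank K L', by rw [hf, mul_comm]; exact (Module.finrank_mul_finrank K L' L).symm⟩
  let M := AlgebraicClosure L
  have hroot : ∀ r ∈ (g.map (algebraMap L' M)).roots, ∃ k : K, r = algebraMap K M k * algebraMap L M a := by
    intro r hr
    have hr0 : (g.map (algebraMap L' M)).IsRoot r := Polynomial.isRoot_of_mem_roots hr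
    have hdvd : g ∣ X ^ e - C (algebraMap K L' c) := minpoly.dvd _ _ (by
      rw [map_sub, map_pow, aeval_X, aeval_C, ← IsScalarTower.algebraMap_apply K L' L, hc, sub_self])
    have hr1 := hr0.dvd (Polynomial.map_dvd (algebraMap L' M) hdvd)
    rw [Polynomial.map_sub, Polynomial.map_pow, Polynomial.map_X, Polynomial.map_C, IsRoot.def, eval_sub,
      eval_pow, eval_X, eval_C, sub_eq_zero, ← IsScalarTower.algebraMap_apply K L' M,
      IsScalarTower.algebraMap_apply K L M, hc, map_pow] at hr1
    by_cases ha0 : algebraMap L M a = 0
    · rw [ha0, zero_pow he0.ne', pow_eq_zero_iff he0.ne'] at hr1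
      exact ⟨0, by simp [hr1]⟩
    · obtain ⟨k, hk⟩ := hroots.mem_range_of_isRoot (X_pow_sub_C_ne_zero he0 1) (i := algebraMap K M)
        (x := r / algebraMap L M a) (by
          simp [IsRoot.def, div_pow, hr1, div_self (pow_ne_zero e ha0)])
      exact ⟨k, by rw [hk, div_mul_cancel₀ _ ha0]⟩
  have hprod : ∀ S : Multiset M, (∀ r ∈ S, ∃ k : K, r = algebraMap K M k * algebraMap L M a) →
      ∃ k : K, S.prod = algebraMap K M k * algebraMap L M a ^ Multiset.card S := by
    intro S
    induction S using Multiset.induction with
    | empty => exact fun _ => ⟨1, by simp⟩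
    | cons r S ih =>
      intro h
      obtain ⟨k, hk⟩ := ih fun x hx => h x (Multiset.mem_cons_of_mem hx)
      obtain ⟨k', hk'⟩ := h r (Multiset.mem_cons_self r S)
      exact ⟨k' * k, by rw [Multiset.prod_cons, hk, hk', Multiset.card_cons, map_mul, pow_succ]; ring⟩
  have hspl : (g.map (algebraMap L' M)).Splits := IsAlgClosed.splits _
  obtain ⟨k, hk⟩ := hprod _ hroot
  rw [← hspl.natDegree_eq_card_roots, natDegree_map] at hk
  have h0 := hspl.coeff_zero_eq_prod_roots_of_monic (hgm.map _)
  rw [coeff_map, natDegree_map, hk, IsScalarTower.algebraMap_apply L' L M,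
    IsScalarTower.algebraMap_apply K L M] at h0
  have h1 : ((g.coeff 0 : L') : L) = (-1) ^ f * (algebraMap K L k * a ^ f) := by
    apply (algebraMap L M).injective
    rw [map_mul, map_mul, map_pow, map_pow, map_neg, map_one]
    exact h0
  have hk0 : k ≠ 0 ∨ a = 0 := by
    by_contra h
    push Not at h
    rw [h.1, map_zero, zero_mul, mul_zero] at h1
    exact minpoly.coeff_zero_ne_zero hint h.2 (Subtype.ext h1)
  have haf : a ^ f ∈ L' := by
    rcases hk0 with hk0 | ha0
    · have hmem : (-1) ^ f * (algebraMap K L k * a ^ f) ∈ L' := h1 ▸ (g.coeff 0).2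
      have h2 : algebraMap K L k⁻¹ * ((-1) ^ f * ((-1) ^ f * (algebraMap K L k * a ^ f))) = a ^ f := by
        rw [← mul_assoc ((-1 : L) ^ f), ← mul_pow, neg_one_mul, neg_neg, one_pow, one_mul, ← mul_assoc,
          ← map_mul, inv_mul_cancel₀ hk0, map_one, one_mul]
      rw [← h2]
      exact mul_mem (L'.algebraMap_mem _) (mul_mem (pow_mem (neg_mem (one_mem L')) _) hmem)
    · rw [ha0, zero_pow (hf ▸ Module.finrank_pos).ne']
      exact zero_mem L'
  refine ⟨f, hfe, ?_⟩
  have hle : K⟮a ^ f⟯ ≤ L' := by
    rw [IntermediateField.adjoin_simple_le_iff]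
    exact haf
  refine (IntermediateField.eq_of_le_of_finrank_le' hle ?_).symm
  set L₂ := K⟮a ^ f⟯
  have htop2 : L₂⟮a⟯ = ⊤ := by
    rw [← IntermediateField.restrictScalars_eq_top_iff (K := K), IntermediateField.restrictScalars_adjoin,
      eq_top_iff, ← ha]
    exact IntermediateField.adjoin.mono K _ _ Set.subset_union_right
  have hfpos : 0 < f := hf ▸ Module.finrank_pos
  rw [← hf, ← IntermediateField.finrank_top' (F := L₂) (E := L), ← htop2,
    IntermediateField.adjoin.finrank (Algebra.IsIntegral.isIntegral a)]
  have hmem2 : a ^ f ∈ L₂ := IntermediateField.mem_adjoin_simple_self K (a ^ f)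
  calc (minpoly L₂ a).natDegree ≤ (X ^ f - C (⟨a ^ f, hmem2⟩ : L₂)).natDegree :=
        natDegree_le_of_dvd (minpoly.dvd _ _ (by
          rw [map_sub, map_pow, aeval_X, aeval_C, IntermediateField.algebraMap_apply, sub_self]))
          (X_pow_sub_C_ne_zero hfpos _)
    _ = f := natDegree_X_pow_sub_C

end Groth.Agent.S6336
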