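import Groth.Statements.S6340
import Groth.Agent.H1CAlg.MittagLeffler

set_option autoImplicit false
universe u
open CAlg

namespace Groth.Agent.S6340

open Groth.Agent.H1CAlg

/-- Let M₁ → M₂ → M₃ → 0 be exact with M₁ finitely generated; if M₂ is Mittag-Leffler then so is M₃.
Equivalently, as stated here: the quotient of a Mittag-Leffler module by a finitely generated
submodule is Mittag-Leffler. -/
theorem result (R : Type u) [CommRing R] {M : Type u} [AddCommGroup M] [Module R M]
    (N : Submodule R M) (hN : N.FG) (hM : CAlg.IsMittagLeffler R M) :
    CAlg.IsMittagLeffler R (M ⧸ N) := by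
  exact isMittagLeffler_quotient N hN hM

end Groth.Agent.S6340
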