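import Groth.Statements.S6341
import Groth.Agent.H1CAlg.MittagLeffler
import Mathlib.LinearAlgebra.TensorProduct.DirectLimit

set_option autoImplicit false
universe u
open CAlg

namespace Groth.Agent.S6341

open TensorProduct Groth.Agent.H1CAlg

/-- The colimit of a directed system of Mittag-Leffler modules with universally injective transition
maps is Mittag-Leffler. -/
theorem result (R : Type u) [CommRing R] {ι : Type u}
    [Preorder ι] [IsDirected ι (· ≤ ·)] [DecidableEq ι] (G : ι → Type u) [∀ i, AddCommGroup (G i)]
    [∀ i, Module R (G i)] (f : ∀ i j, i ≤ j → G i →ₗ[R] G j) [DirectedSystem G fun i j h => f i j h]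
    (hf : ∀ i j (h : i ≤ j), CAlgX.UniversallyInjective R (f i j h))
    (hG : ∀ i, CAlg.IsMittagLeffler R (G i)) :
    CAlg.IsMittagLeffler R (Module.DirectLimit G f) := by
  intro κ Q _ _
  rw [injective_iff_map_eq_zero]
  intro x hx
  rcases isEmpty_or_nonempty ι with he | hne
  · haveI : Subsingleton (Module.DirectLimit G f) := inferInstance
    exact Subsingleton.elim _ _
  have hui : ∀ i, CAlgX.UniversallyInjective R (Module.DirectLimit.of R ι G f i) := by
    intro i P _ _
    rw [injective_iff_map_eq_zero]
    intro z hz
    have h2 : Module.DirectLimit.of R ι (fun i => G i ⊗[R] P) (fun i j h => (f i j h).rTensor P) i z = 0 := by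
      rw [← TensorProduct.directLimitLeft_rTensor_of, hz, map_zero]
    obtain ⟨j, hij, hj⟩ := Module.DirectLimit.of.zero_exact h2
    exact (injective_iff_map_eq_zero _).mp (hf i j hij P) z hj
  obtain ⟨i, y, hy⟩ := Module.DirectLimit.exists_of (TensorProduct.directLimitLeft f (∀ k, Q k) x)
  rw [← TensorProduct.directLimitLeft_rTensor_of] at hy
  have hy := (TensorProduct.directLimitLeft f _).injective hy
  subst hy
  have : y = 0 := by
    apply hG i κ Q
    rw [map_zero]
    funext k
    apply hui i (Q k)
    rw [← piRightHom_natural, hx, Pi.zero_apply, Pi.zero_apply, map_zero]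
  rw [this, map_zero]

end Groth.Agent.S6341
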