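import Groth.Statements.S6343
import Groth.Agent.H1CAlg.MLTensor
import Mathlib.LinearAlgebra.TensorProduct.Finiteness

set_option autoImplicit false
universe u
open scoped TensorProduct
open CAlg

namespace Groth.Agent.S6343

open TensorProduct Groth.Agent.H1CAlg

/-- The tensor product of two Mittag-Leffler modules over a commutative ring is Mittag-Leffler. -/
theorem result (R : Type u) [CommRing R] (M N : Type u) [AddCommGroup M] [Module R M]
    [AddCommGroup N] [Module R N] (hM : CAlg.IsMittagLeffler R M) (hN : CAlg.IsMittagLeffler R N) :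
    CAlg.IsMittagLeffler R (M ⊗[R] N) := by
  classical
  intro ι Q _ _
  rw [injective_iff_map_eq_zero]
  intro x hx
  obtain ⟨n, h, y, rfl⟩ := exists_fin_rTensor_eq x
  obtain ⟨M', N', hM', hN', hsub⟩ := TensorProduct.exists_finite_submodule_of_setFinite
    (Set.range fun i => h (Pi.single i 1)) (Set.finite_range _)
  obtain ⟨a, p, hp⟩ := Module.Finite.exists_fin' R M'
  obtain ⟨b, q, hq⟩ := Module.Finite.exists_fin' R N'
  let f₁ := M'.subtype ∘ₗ p
  let f₂ := N'.subtype ∘ₗ q
  have hlift : ∀ i, ∃ w, TensorProduct.map f₁ f₂ w = h (Pi.single i 1) := fun i => by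
    obtain ⟨v, hv⟩ := hsub ⟨i, rfl⟩
    obtain ⟨w, rfl⟩ := TensorProduct.map_surjective hp hq v
    replace hv : TensorProduct.mapIncl M' N' (TensorProduct.map p q w) = h (Pi.single i 1) := hv
    exact ⟨w, by rw [← hv, TensorProduct.mapIncl, ← LinearMap.comp_apply, ← TensorProduct.map_comp]⟩
  choose w hw using hlift
  have hh : h = TensorProduct.map f₁ f₂ ∘ₗ Fintype.linearCombination R w :=
    LinearMap.pi_ext' fun i => LinearMap.ext_ring (by simp [hw])
  rw [hh, LinearMap.rTensor_comp, LinearMap.comp_apply] at hx ⊢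
  generalize (Fintype.linearCombination R w).rTensor (∀ i, Q i) y = z at hx ⊢
  obtain ⟨A, _, _, _, g₁, _, -, hg₁⟩ := exists_fp_ker_eq hM _ f₁
  obtain ⟨B, _, _, _, g₂, _, -, hg₂⟩ := exists_fp_ker_eq hN _ f₂
  have hker : ∀ (P : Type u) [AddCommGroup P] [Module R P],
      LinearMap.ker ((TensorProduct.map f₁ f₂).rTensor P) = LinearMap.ker ((TensorProduct.map g₁ g₂).rTensor P) :=
    fun P _ _ => (ker_map_rTensor_eq f₁ g₁ hg₁ f₂ P).trans (ker_map_rTensor_eq_right f₂ g₂ hg₂ g₁ P)
  have : (TensorProduct.map g₁ g₂).rTensor _ z = 0 := by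
    haveI := finitePresentation_tensor (R := R) A B
    refine eq_zero_of_piRightHom_eq_zero Q _ fun i => ?_
    rw [piRightHom_natural]
    have : TensorProduct.piRightHom R R _ Q z i ∈ LinearMap.ker ((TensorProduct.map f₁ f₂).rTensor (Q i)) := by
      rw [LinearMap.mem_ker, ← piRightHom_natural, hx, Pi.zero_apply]
    rwa [hker] at this
  have h2 : z ∈ LinearMap.ker ((TensorProduct.map g₁ g₂).rTensor (∀ i, Q i)) := this
  rwa [← hker] at h2

end Groth.Agent.S6343
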