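import Groth.Statements.S6345
import Groth.Agent.S6344

set_option autoImplicit false
universe u
open CAlg

namespace Groth.Agent.S6345

open TensorProduct Groth.Agent.H1CAlg

/-- Let I be a finitely generated ideal of a commutative ring R and M an R/I-module. Then M is
Mittag-Leffler over R if and only if it is Mittag-Leffler over R/I. -/
theorem result (R : Type u) [CommRing R] (I : Ideal R) (hI : I.FG)
    (M : Type u) [AddCommGroup M] [Module (R ⧸ I) M] [Module R M] [IsScalarTower R (R ⧸ I) M] :
    CAlg.IsMittagLeffler R M ↔ CAlg.IsMittagLeffler (R ⧸ I) M := by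
  constructor
  · intro h ι Q _ _
    letI : ∀ i, Module R (Q i) := fun i => Module.compHom (Q i) (algebraMap R (R ⧸ I))
    haveI : ∀ i, IsScalarTower R (R ⧸ I) (Q i) := fun i => IsScalarTower.of_algebraMap_smul fun _ _ => rfl
    rw [injective_iff_map_eq_zero]
    intro x hx
    obtain ⟨y, rfl⟩ := TensorProduct.mapOfCompatibleSMul_surjective (R ⧸ I) R R M (∀ i, Q i) x
    have : y = 0 := by
      apply h ι Q
      rw [map_zero]
      funext i
      have key : ∀ y, TensorProduct.mapOfCompatibleSMul (R ⧸ I) R R M (Q i) (TensorProduct.piRightHom R R M Q y i) =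
          TensorProduct.piRightHom (R ⧸ I) (R ⧸ I) M Q (TensorProduct.mapOfCompatibleSMul (R ⧸ I) R R M (∀ i, Q i) y) i := by
        intro y
        induction y with
        | zero => simp
        | add a b ha hb => simp only [map_add, Pi.add_apply, ha, hb]
        | tmul a b => simp
      haveI : TensorProduct.CompatibleSMul R (R ⧸ I) M (Q i) :=
        TensorProduct.CompatibleSMul.of_algebraMap_surjective M (Q i) Ideal.Quotient.mk_surjective
      apply (TensorProduct.equivOfCompatibleSMul (R ⧸ I) R R M (Q i)).injective
      show TensorProduct.mapOfCompatibleSMul (R ⧸ I) R R M (Q i) _ = TensorProduct.mapOfCompatibleSMul (R ⧸ I) R R M (Q i) 0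
      rw [key, hx, Pi.zero_apply, map_zero]
    rw [this, map_zero]
  · intro h
    haveI : Module.Finite R (R ⧸ I) := inferInstance
    haveI : Algebra.FinitePresentation R (R ⧸ I) := Algebra.FinitePresentation.quotient hI
    exact Groth.Agent.S6344.result R (R ⧸ I) M h

end Groth.Agent.S6345
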