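import Groth.Statements.S6348
import Groth.Agent.H1CAlg.MittagLeffler

set_option autoImplicit false
universe u
open scoped TensorProduct
open CAlg

namespace Groth.Agent.S6348

open TensorProduct Groth.Agent.H1CAlg

/-- For a ring map R → S and a Mittag-Leffler R-module M, the S-module S ⊗_R M is Mittag-Leffler. (The
companion parts on flat modules, projective modules and direct sums of countably generated modules
are standard base-change facts.) -/
theorem result (R S : Type u) [CommRing R] [CommRing S] [Algebra R S] (M : Type u)
    [AddCommGroup M] [Module R M] (hM : CAlg.IsMittagLeffler R M) :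
    CAlg.IsMittagLeffler S (S ⊗[R] M) := by
  intro ι Q _ _
  letI : ∀ i, Module R (Q i) := fun i => Module.compHom (Q i) (algebraMap R S)
  haveI : ∀ i, IsScalarTower R S (Q i) := fun i => IsScalarTower.of_algebraMap_smul fun _ _ => rfl
  let E (P : Type u) [AddCommGroup P] [Module R P] [Module S P] [IsScalarTower R S P] :
      (S ⊗[R] M) ⊗[S] P ≃+ M ⊗[R] P :=
    (TensorProduct.comm S _ P).toAddEquiv.trans
      ((TensorProduct.AlgebraTensorModule.cancelBaseChange R S S P M).toAddEquiv.trans
        (TensorProduct.comm R P M).toAddEquiv)
  rw [injective_iff_map_eq_zero]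
  intro x hx
  have key : ∀ (i : ι) (z : (S ⊗[R] M) ⊗[S] (∀ i, Q i)),
      E (Q i) (TensorProduct.piRightHom S S (S ⊗[R] M) Q z i) =
        TensorProduct.piRightHom R R M Q (E (∀ i, Q i) z) i := by
    intro i z
    induction z with
    | zero => simp
    | add a b ha hb => simp only [map_add, Pi.add_apply, ha, hb]
    | tmul w q =>
      induction w with
      | zero => simp
      | add a b ha hb => simp only [add_tmul, map_add, Pi.add_apply, ha, hb]
      | tmul s m => simp [E]
  apply (E (∀ i, Q i)).injective
  rw [map_zero]
  apply hM ι Q
  rw [map_zero]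
  funext i
  rw [← key, hx, Pi.zero_apply, map_zero, Pi.zero_apply]

end Groth.Agent.S6348
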