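import Groth.Statements.S6349
import Groth.Agent.H1CAlg.FlatDevissage

set_option autoImplicit false
universe u
open scoped TensorProduct
open CAlg

namespace Groth.Agent.S6349

open scoped TensorProduct
open H1CAlg.FlatDev

/-- Let I be an ideal of a commutative ring R and M an R-module such that M/IM is flat over R/I and
Tor_1^R(R/I, M) = 0, i.e. the map I ⊗_R M → M is injective. Then M/IⁿM is flat over R/Iⁿ for every n
≥ 1. (When I is nilpotent this yields flatness of M itself, a standard companion statement.) -/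
theorem result (R : Type u) [CommRing R] (I : Ideal R) (M : Type u)
    [AddCommGroup M] [Module R M] [Module.Flat (R ⧸ I) ((R ⧸ I) ⊗[R] M)]
    (htor : Function.Injective ((Submodule.subtype I).rTensor M)) (n : ℕ) (hn : 1 ≤ n) :
    Module.Flat (R ⧸ I ^ n) ((R ⧸ I ^ n) ⊗[R] M) := by
  let S := R ⧸ I ^ n
  let J : Ideal S := I.map (algebraMap R S)
  have hJ : IsNilpotent J := ⟨n, by
    rw [← Ideal.map_pow, Ideal.Quotient.algebraMap_eq, Ideal.map_quotient_self, Ideal.zero_eq_bot]⟩
  haveI : Module.Flat (S ⧸ J) ((S ⧸ J) ⊗[S] (S ⊗[R] M)) := by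
    haveI := flat_baseChange_of_killed (M := M) I (S ⧸ J) (fun a ha => by
      rw [IsScalarTower.algebraMap_apply R S (S ⧸ J)]
      exact Ideal.Quotient.eq_zero_iff_mem.mpr (Ideal.mem_map_of_mem _ ha))
    exact Module.Flat.of_linearEquiv (TensorProduct.AlgebraTensorModule.cancelBaseChange R S (S ⧸ J) (S ⧸ J) M)
  refine H7Flat.flat_of_isNilpotent J hJ ?_
  rw [LinearMap.lTensor_inj_iff_rTensor_inj, rTensor_baseChange_injective_iff,
    ← LinearMap.lTensor_inj_iff_rTensor_inj]
  have h := H7Flat.lTensor_smul_top_injective I ((LinearMap.lTensor_inj_iff_rTensor_inj M _).mpr htor) S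
  have e : J.subtype.restrictScalars R = (I • (⊤ : Submodule R S)).subtype ∘ₗ
      (LinearEquiv.ofEq (J.restrictScalars R) (I • (⊤ : Submodule R S)) (Ideal.smul_top_eq_map I).symm).toLinearMap := rfl
  rw [e]
  erw [LinearMap.lTensor_comp]
  exact h.comp (LinearEquiv.lTensor M _).injective

end Groth.Agent.S6349
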