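import Groth.Statements.S6351
import Groth.Agent.H7Flat.FibreCriterion
import Groth.Agent.H3CAlg.ArtinFlat
import Mathlib.LinearAlgebra.TensorProduct.Basis

set_option autoImplicit false
universe u
open scoped TensorProduct
open CAlg

namespace Groth.Agent.S6351

open scoped TensorProduct

/-- Let I be a nilpotent ideal of a commutative ring R and M an R-module with Tor_1^R(R/I, M) = 0, i.e.
I ⊗_R M → M injective. If a family of elements of M maps to a basis of the R/I-module M/IM = R/I ⊗
M, then it is a basis of M over R. -/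
theorem result (R : Type u) [CommRing R] (I : Ideal R)
    (hI : IsNilpotent I) (M : Type u) [AddCommGroup M] [Module R M]
    (htor : Function.Injective ((Submodule.subtype I).rTensor M)) {A : Type u} (x : A → M)
    (hli : LinearIndependent (R ⧸ I) (fun a => (1 : R ⧸ I) ⊗ₜ[R] x a))
    (hsp : Submodule.span (R ⧸ I) (Set.range fun a => (1 : R ⧸ I) ⊗ₜ[R] x a) = ⊤) :
    LinearIndependent R x ∧ Submodule.span R (Set.range x) = ⊤ := by
  classical
  let b : Module.Basis A (R ⧸ I) ((R ⧸ I) ⊗[R] M) := Module.Basis.mk hli hsp.ge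
  haveI : Module.Free (R ⧸ I) ((R ⧸ I) ⊗[R] M) := Module.Free.of_basis b
  haveI : Module.Flat R M := H7Flat.flat_of_isNilpotent I hI
    ((LinearMap.lTensor_inj_iff_rTensor_inj M _).mpr htor)
  let φ : (A →₀ R) →ₗ[R] M := Finsupp.linearCombination R x
  let bF := (Finsupp.basisSingleOne (R := R) (ι := A)).baseChange (R ⧸ I)
  let e := bF.equiv b (Equiv.refl A)
  have he : φ.baseChange (R ⧸ I) = e.toLinearMap := bF.ext fun a => by
    rw [show e.toLinearMap (bF a) = b a from bF.equiv_apply a b _]
    simp [bF, φ, b]
  have hb : Function.Bijective (φ.lTensor (R ⧸ I)) := by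
    have : (φ.lTensor (R ⧸ I) : _ → _) = e := by
      rw [← LinearMap.baseChange_eq_ltensor (A := R ⧸ I), he]; rfl
    rw [this]; exact e.bijective
  have hs := H3CAlg.surjective_of_lTensor_quot I hI φ hb.2
  have hi := H3CAlg.injective_of_surjective_of_lTensor_quot I hI φ hs hb.1
  exact ⟨hi, by rw [← Finsupp.range_linearCombination, LinearMap.range_eq_top]; exact hs⟩

end Groth.Agent.S6351
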