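import Groth.Statements.S6352
import Groth.Agent.H1CAlg.FlatDevissage

set_option autoImplicit false
universe u
open scoped TensorProduct
open CAlg

namespace Groth.Agent.S6352

open scoped TensorProduct
open H1CAlg.FlatDev

theorem aux (n : ℕ) : ∀ (R R' : Type u) [CommRing R] [CommRing R'] [Algebra R R']
    (_ : Function.Injective (algebraMap R R')) (I : Ideal R) (_ : I ^ (n + 1) = ⊥)
    (M : Type u) [AddCommGroup M] [Module R M] [Module.Flat (R ⧸ I) ((R ⧸ I) ⊗[R] M)]
    [Module.Flat R' (R' ⊗[R] M)], Module.Flat R M := by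
  induction n with
  | zero =>
    intro R R' _ _ _ _ I hI M _ _ _ _
    rw [zero_add, pow_one] at hI
    refine H7Flat.flat_of_isNilpotent I ⟨1, by rw [pow_one, hI, Ideal.zero_eq_bot]⟩ ?_
    subst hI
    haveI : Subsingleton ↥(⊥ : Ideal R) := ⟨fun a b => Subtype.ext (a.2.trans b.2.symm)⟩
    exact Function.injective_of_subsingleton _
  | succ n ih =>
    intro R R' _ _ _ hinj I hI M _ _ _ _
    let J' : Ideal R' := (I.map (algebraMap R R')) ^ (n + 1)
    let J : Ideal R := J'.comap (algebraMap R R')
    have hIJ : I ^ (n + 1) ≤ J := by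
      rw [← Ideal.map_le_iff_le_comap, Ideal.map_pow]
    have hkill : ∀ a ∈ I, ∀ z ∈ J', algebraMap R R' a * z = 0 := by
      intro a ha z hz
      have h1 : algebraMap R R' a * z ∈ (I.map (algebraMap R R')) ^ (n + 1 + 1) := by
        rw [pow_succ']
        exact Ideal.mul_mem_mul (Ideal.mem_map_of_mem _ ha) hz
      rw [← Ideal.map_pow, hI, Ideal.map_bot] at h1
      exact h1
    have hJ2 : J ^ 2 = ⊥ := by
      rw [eq_bot_iff, sq, Ideal.mul_le]
      intro a ha b hb
      show a * b = 0
      apply hinj
      rw [map_mul, map_zero]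
      have h1 : algebraMap R R' a * algebraMap R R' b ∈ (I.map (algebraMap R R')) ^ (n + 1) * (I.map (algebraMap R R')) ^ (n + 1) :=
        Ideal.mul_mem_mul ha hb
      rw [← pow_add] at h1
      have h2 := Ideal.pow_le_pow_right (show n + 1 + 1 ≤ n + 1 + (n + 1) by omega) h1
      rw [← Ideal.map_pow, hI, Ideal.map_bot] at h2
      exact h2
    -- `M/JM` is flat over `R/J` by induction
    haveI hflat : Module.Flat (R ⧸ J) ((R ⧸ J) ⊗[R] M) := by
      let S := R ⧸ J
      let S' := R' ⧸ J'
      letI : Algebra S S' := (Ideal.quotientMap J' (algebraMap R R') le_rfl).toAlgebra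
      haveI : IsScalarTower R S S' := IsScalarTower.of_algebraMap_eq fun _ => rfl
      let I₁ : Ideal S := I.map (algebraMap R S)
      haveI : Module.Flat (S ⧸ I₁) ((S ⧸ I₁) ⊗[S] (S ⊗[R] M)) := by
        haveI := flat_baseChange_of_killed (M := M) I (S ⧸ I₁) (fun a ha => by
          rw [IsScalarTower.algebraMap_apply R S (S ⧸ I₁)]
          exact Ideal.Quotient.eq_zero_iff_mem.mpr (Ideal.mem_map_of_mem _ ha))
        exact Module.Flat.of_linearEquiv (TensorProduct.AlgebraTensorModule.cancelBaseChange R S (S ⧸ I₁) (S ⧸ I₁) M)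
      haveI : Module.Flat S' (S' ⊗[R'] (R' ⊗[R] M)) := Module.Flat.baseChange R' S' (R' ⊗[R] M)
      haveI : Module.Flat S' (S' ⊗[S] (S ⊗[R] M)) :=
        Module.Flat.of_linearEquiv ((TensorProduct.AlgebraTensorModule.cancelBaseChange R S S' S' M).trans
          (TensorProduct.AlgebraTensorModule.cancelBaseChange R R' S' S' M).symm)
      refine ih S S' Ideal.quotientMap_injective I₁ ?_ (S ⊗[R] M)
      rw [← Ideal.map_pow, eq_bot_iff, Ideal.map_le_iff_le_comap]
      exact hIJ.trans fun a ha => Ideal.Quotient.eq_zero_iff_mem.mpr ha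
    refine H7Flat.flat_of_isNilpotent J ⟨2, by rw [hJ2, Ideal.zero_eq_bot]⟩ ?_
    -- `J ⊗ M → J' ⊗ M → R' ⊗ M` is injective
    let ι : J →ₗ[R] J'.restrictScalars R :=
      { toFun := fun a => ⟨algebraMap R R' a.1, a.2⟩
        map_add' := fun a b => Subtype.ext (map_add (algebraMap R R') a.1 b.1)
        map_smul' := fun r a => Subtype.ext (by
          show algebraMap R R' (r * a.1) = r • algebraMap R R' a.1
          rw [map_mul, Algebra.smul_def]) }
    have hι : Function.Injective ι := fun a b hab => Subtype.ext (hinj (congrArg Subtype.val hab))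
    have h1 : Function.Injective (ι.lTensor M) := by
      have e : ι = (LinearMap.range ι).subtype ∘ₗ (LinearEquiv.ofInjective ι hι).toLinearMap := rfl
      rw [e, LinearMap.lTensor_comp]
      refine (lTensor_injective_of_killed I (fun a ha z => ?_) _).comp (LinearEquiv.lTensor M _).injective
      exact Subtype.ext ((Algebra.smul_def a z.1).trans (hkill a ha z.1 z.2))
    have h2 : Function.Injective ((J'.subtype.restrictScalars R).lTensor M) := by
      rw [LinearMap.lTensor_inj_iff_rTensor_inj, ← rTensor_baseChange_injective_iff (S := R')]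
      exact Module.Flat.rTensor_preserves_injective_linearMap _ Subtype.val_injective
    have e : (J'.subtype.restrictScalars R) ∘ₗ ι = (Algebra.linearMap R R') ∘ₗ J.subtype := rfl
    have h3 : Function.Injective (((J'.subtype.restrictScalars R) ∘ₗ ι).lTensor M) := by
      rw [LinearMap.lTensor_comp]; exact h2.comp h1
    rw [e, LinearMap.lTensor_comp] at h3
    exact Function.Injective.of_comp h3

/-- Let R → R' be an injective ring map, I ⊆ R a nilpotent ideal and M an R-module. Then flatness of M
over R follows from flatness of M/IM over R/I together with flatness of R' ⊗_R M over R'. -/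
theorem result (R R' : Type u) [CommRing R] [CommRing R']
    [Algebra R R'] (hinj : Function.Injective (algebraMap R R')) (I : Ideal R) (hI : IsNilpotent I)
    (M : Type u) [AddCommGroup M] [Module R M] [Module.Flat (R ⧸ I) ((R ⧸ I) ⊗[R] M)]
    [Module.Flat R' (R' ⊗[R] M)] : Module.Flat R M := by
  obtain ⟨n, hn⟩ := hI
  refine aux n R R' hinj I ?_ M
  rw [pow_succ, hn, Ideal.zero_eq_bot, Ideal.bot_mul]

end Groth.Agent.S6352
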