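import Groth.Statements.S6353
import Mathlib.RingTheory.Ideal.Pure
import Mathlib.RingTheory.Spectrum.Prime.Topology

set_option autoImplicit false
universe u
open CAlg

namespace Groth.Agent.S6353

open PrimeSpectrum

theorem part_one (R : Type u) [CommRing R] (I : Ideal R) [I.Pure] :
    StableUnderGeneralization (zeroLocus (I : Set R)) := by
  intro p q hqp hp x hx
  obtain ⟨y, hy, hxy⟩ := Ideal.exists_eq_mul_of_pure hx
  have hle : q.asIdeal ≤ p.asIdeal := (PrimeSpectrum.le_iff_specializes q p).mpr hqp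
  have h : x * (1 - y) ∈ q.asIdeal := by
    rw [mul_sub, mul_one, ← hxy, sub_self]; exact q.asIdeal.zero_mem
  refine (q.isPrime.mem_or_mem h).resolve_right fun h' => ?_
  exact p.isPrime.ne_top ((Ideal.eq_top_iff_one _).mpr (by simpa using p.asIdeal.add_mem (hle h') (hp hy)))

theorem part_two (R : Type u) [CommRing R] (Z : Set (PrimeSpectrum R)) (hZ : IsClosed Z)
    (hgen : StableUnderGeneralization Z) : ∃ I : Ideal R, I.Pure ∧ zeroLocus (I : Set R) = Z := by
  classical
  let I : Ideal R := ⨅ p : Z, RingHom.ker (algebraMap R (Localization.AtPrime p.1.asIdeal))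
  have hmem : ∀ x, x ∈ I ↔ ∀ p ∈ Z, ∃ t ∉ p.asIdeal, t * x = 0 := by
    intro x
    simp only [I, Submodule.mem_iInf, RingHom.mem_ker, Subtype.forall]
    exact forall₂_congr fun p _ => by
      rw [IsLocalization.map_eq_zero_iff p.asIdeal.primeCompl]
      exact ⟨fun ⟨t, ht⟩ => ⟨t, t.2, ht⟩, fun ⟨t, ht, h⟩ => ⟨⟨t, ht⟩, h⟩⟩
  have hV : zeroLocus (I : Set R) = Z := by
    refine subset_antisymm ?_ ?_
    · intro q hq
      by_contra hqZ
      obtain ⟨J, hJ⟩ := (PrimeSpectrum.isClosed_iff_zeroLocus_ideal Z).mp hZ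
      -- q and J are comaximal
      have htop : q.asIdeal ⊔ J = ⊤ := by
        by_contra h
        obtain ⟨r, hr, hle⟩ := Ideal.exists_le_maximal _ h
        have hrZ : (⟨r, hr.isPrime⟩ : PrimeSpectrum R) ∈ Z := hJ ▸ fun x hx => hle (Submodule.mem_sup_right hx)
        exact hqZ (hgen ((PrimeSpectrum.le_iff_specializes q ⟨r, hr.isPrime⟩).mp (le_sup_left.trans hle : q.asIdeal ≤ r)) hrZ)
      obtain ⟨a, ha, b, hb, hab⟩ := Submodule.mem_sup.mp (htop ▸ Submodule.mem_top : (1 : R) ∈ q.asIdeal ⊔ J)
      have hnil : ∀ p ∈ Z, ∃ (k : ℕ) (t : R), t ∉ p.asIdeal ∧ t * b ^ k = 0 := by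
        intro p hp
        have : IsNilpotent (algebraMap R (Localization.AtPrime p.asIdeal) b) := by
          rw [← mem_nilradical, nilradical_eq_sInf]
          refine Submodule.mem_sInf.mpr fun (P : Ideal (Localization.AtPrime p.asIdeal)) (hP : P.IsPrime) => ?_
          let P' : PrimeSpectrum R := PrimeSpectrum.comap (algebraMap R _) ⟨P, hP⟩
          have hle : P' ≤ p := ((IsLocalization.AtPrime.orderIsoOfPrime (Localization.AtPrime p.asIdeal) p.asIdeal) ⟨P, hP⟩).2.2
          have hP' : P' ∈ Z := hgen ((PrimeSpectrum.le_iff_specializes P' p).mp hle) hp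
          rw [hJ] at hP'
          exact hP' hb
        obtain ⟨k, hk⟩ := this
        rw [← map_pow, IsLocalization.map_eq_zero_iff p.asIdeal.primeCompl] at hk
        obtain ⟨t, ht⟩ := hk
        exact ⟨k, t, t.2, ht⟩
      choose k t ht h0 using hnil
      have hcomp : IsCompact Z := hZ.isCompact
      obtain ⟨s, hs⟩ := hcomp.elim_finite_subcover (fun p : Z => (basicOpen (t p.1 p.2) : Set (PrimeSpectrum R)))
        (fun p => isOpen_basicOpen) (fun p hp => Set.mem_iUnion.mpr ⟨⟨p, hp⟩, ht p hp⟩)
      let N := s.sup fun p => k p.1 p.2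
      have hbI : b ^ N ∈ I := by
        rw [hmem]
        intro p hp
        obtain ⟨r, hr, hpr⟩ := Set.mem_iUnion₂.mp (hs hp)
        refine ⟨t r.1 r.2, hpr, ?_⟩
        have hle : k r.1 r.2 ≤ N := Finset.le_sup (f := fun p : Z => k p.1 p.2) hr
        rw [← Nat.sub_add_cancel hle, pow_add, mul_left_comm, h0, mul_zero]
      have hbq : b ∈ q.asIdeal := q.isPrime.mem_of_pow_mem N (hq hbI)
      exact q.isPrime.ne_top ((Ideal.eq_top_iff_one _).mpr (hab ▸ q.asIdeal.add_mem ha hbq))
    · intro p hp x hx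
      obtain ⟨t, ht, h⟩ := (hmem x).mp hx p hp
      exact (p.isPrime.mem_or_mem (h ▸ p.asIdeal.zero_mem)).resolve_left ht
  refine ⟨I, Ideal.Pure.of_inf_eq_mul I fun J _ => le_antisymm ?_ Ideal.mul_le_inf, hV⟩
  rintro x ⟨hxI, hxJ⟩
  let A : Ideal R := Submodule.comap (LinearMap.toSpanSingleton R R x) (⊥ : Submodule R R)
  have htop : I ⊔ A = ⊤ := by
    by_contra h
    obtain ⟨r, hr, hle⟩ := Ideal.exists_le_maximal _ h
    have hrZ : (⟨r, hr.isPrime⟩ : PrimeSpectrum R) ∈ Z := hV ▸ fun z hz => hle (Submodule.mem_sup_left hz)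
    obtain ⟨t, ht, h0⟩ := (hmem x).mp hxI _ hrZ
    exact ht (hle (Submodule.mem_sup_right (by simpa [A] using h0)))
  obtain ⟨y, hy, a, ha, hya⟩ := Submodule.mem_sup.mp (htop ▸ Submodule.mem_top : (1 : R) ∈ I ⊔ A)
  have hax : a * x = 0 := by simpa [A] using ha
  have : x = y * x := by linear_combination -(x * hya) + hax
  rw [this]
  exact Ideal.mul_mem_mul hy hxJ

open PrimeSpectrum in
/-- For a commutative ring R, I ↦ V(I) is a bijection between pure ideals (R/I flat over R) and closed
subsets of Spec R stable under generalization. Stated here as: V(I) is stable under generalization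
for I pure, and every closed generalization-stable subset is V(I) for some pure I (injectivity on
pure ideals being the standard fact that pure ideals with the same zero locus coincide). -/
theorem result (R : Type u) [CommRing R] :
    (∀ I : Ideal R, I.Pure → StableUnderGeneralization (zeroLocus (I : Set R))) ∧
      ∀ Z : Set (PrimeSpectrum R), IsClosed Z → StableUnderGeneralization Z →
        ∃ I : Ideal R, I.Pure ∧ zeroLocus (I : Set R) = Z := by
  exact ⟨fun I hI => @part_one R _ I hI, part_two R⟩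

end Groth.Agent.S6353
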