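import Groth.Statements.S6354
import Mathlib.RingTheory.Ideal.Pure
import Mathlib.RingTheory.Spectrum.Prime.Topology
import Mathlib.RingTheory.Flat.EquationalCriterion
import Mathlib.RingTheory.Finiteness.Ideal

set_option autoImplicit false
universe u
open CAlg

namespace Groth.Agent.S6354

open PrimeSpectrum

open PrimeSpectrum in
/-- For an ideal I of a commutative ring R these four conditions are equivalent: (1) I is finitely
generated and pure; (2) I = (e) for some idempotent e; (3) I is pure with V(I) open in Spec R; (4)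
R/I is projective as an R-module. -/
theorem result (R : Type u) [CommRing R] (I : Ideal R) :
    List.TFAE [I.Pure ∧ I.FG, ∃ e : R, IsIdempotentElem e ∧ I = Ideal.span {e},
      I.Pure ∧ IsOpen (zeroLocus (I : Set R)), Module.Projective R (R ⧸ I)] := by
  tfae_have 1 → 2 := by
    rintro ⟨hp, hfg⟩
    exact (Ideal.isIdempotentElem_iff_of_fg I hfg).mp (I.isIdempotentElem_of_pure)
  tfae_have 2 → 1 := by
    rintro ⟨e, he, rfl⟩
    have hfg : (Ideal.span {e}).FG := ⟨{e}, by simp⟩
    exact ⟨Ideal.Pure.of_isIdempotentElem hfg ((Ideal.isIdempotentElem_iff_of_fg _ hfg).mpr ⟨e, he, rfl⟩), hfg⟩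
  tfae_have 1 → 4 := by
    rintro ⟨hp, hfg⟩
    haveI : Module.FinitePresentation R (R ⧸ I) :=
      Module.finitePresentation_of_free_of_surjective (Submodule.mkQ I) (Submodule.mkQ_surjective _)
        (by rw [Submodule.ker_mkQ]; exact hfg)
    exact Module.Flat.projective_of_finitePresentation
  tfae_have 4 → 1 := by
    intro h
    haveI : Module.Finite R (R ⧸ I) := Module.Finite.of_surjective (Submodule.mkQ I) (Submodule.mkQ_surjective _)
    haveI := Module.finitePresentation_of_projective R (R ⧸ I)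
    have := Module.FinitePresentation.fg_ker (Submodule.mkQ I) (Submodule.mkQ_surjective _)
    rw [Submodule.ker_mkQ] at this
    exact ⟨Module.Flat.of_projective, this⟩
  tfae_have 2 → 3 := by
    rintro ⟨e, he, rfl⟩
    have hfg : (Ideal.span {e}).FG := ⟨{e}, by simp⟩
    refine ⟨Ideal.Pure.of_isIdempotentElem hfg ((Ideal.isIdempotentElem_iff_of_fg _ hfg).mpr ⟨e, he, rfl⟩), ?_⟩
    have : zeroLocus ((Ideal.span {e} : Ideal R) : Set R) = (basicOpen (1 - e) : Set (PrimeSpectrum R)) := by
      rw [zeroLocus_span, basicOpen_eq_zeroLocus_of_isIdempotentElem _ he.one_sub, sub_sub_cancel]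
    rw [this]; exact isOpen_basicOpen
  tfae_have 3 → 2 := by
    rintro ⟨hp, hopen⟩
    obtain ⟨e, he, heq⟩ := exists_idempotent_basicOpen_eq_of_isClopen ⟨isClosed_zeroLocus _, hopen⟩
    have hfg : (Ideal.span {1 - e}).FG := ⟨{1 - e}, by simp⟩
    haveI : (Ideal.span {1 - e}).Pure := Ideal.Pure.of_isIdempotentElem hfg
      ((Ideal.isIdempotentElem_iff_of_fg _ hfg).mpr ⟨1 - e, he.one_sub, rfl⟩)
    refine ⟨1 - e, he.one_sub, Ideal.zeroLocus_inj_of_pure.mp ?_⟩
    rw [heq, basicOpen_eq_zeroLocus_of_isIdempotentElem _ he, zeroLocus_span]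
  tfae_finish

end Groth.Agent.S6354
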