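import Groth.Statements.S6355
import Groth.Agent.S6353
import Groth.Agent.S6354
import Groth.Agent.S6308
import Mathlib.RingTheory.Spectrum.Prime.FreeLocus
import Mathlib.RingTheory.Flat.EquationalCriterion
import Mathlib.RingTheory.Localization.Finiteness
import Mathlib.RingTheory.LocalProperties.Projective
import Mathlib.LinearAlgebra.FreeModule.StrongRankCondition

set_option autoImplicit false
universe u
open CAlg

namespace Groth.Agent.S6355

open PrimeSpectrum

variable {R : Type u} [CommRing R] {M : Type u} [AddCommGroup M] [Module R M] [Module.Finite R M]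
  [Module.Flat R M]

/-- locally at `p`, `M` is generated by `rankAtStalk M p` elements -/
theorem exists_map (p : PrimeSpectrum R) : ∃ G : (Fin (Module.rankAtStalk M p) → R) →ₗ[R] M,
    Function.Surjective (LocalizedModule.map p.asIdeal.primeCompl G) := by
  classical
  let A := Localization.AtPrime p.asIdeal
  let L := LocalizedModule p.asIdeal.primeCompl M
  haveI : Module.Free A L := Module.free_of_flat_of_isLocalRing
  let b : Module.Basis (Fin (Module.rankAtStalk M p)) A L := Module.finBasis A L
  have hb : ∀ i, ∃ ms : M × p.asIdeal.primeCompl, LocalizedModule.mk ms.1 ms.2 = b i := fun i => by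
    obtain ⟨⟨m, s⟩, h⟩ := Quot.exists_rep (b i)
    exact ⟨(m, s), h⟩
  choose ms hms using hb
  refine ⟨Fintype.linearCombination R fun i => (ms i).1, ?_⟩
  rw [← LinearMap.range_eq_top, eq_top_iff, ← b.span_eq, Submodule.span_le]
  rintro _ ⟨i, rfl⟩
  refine ⟨LocalizedModule.mk (Pi.single i 1) (ms i).2, ?_⟩
  rw [LocalizedModule.map_mk, Fintype.linearCombination_apply_single, one_smul]
  exact hms i

theorem finrank_free (n : ℕ) (q : PrimeSpectrum R) :
    Module.finrank (Localization.AtPrime q.asIdeal) (LocalizedModule q.asIdeal.primeCompl (Fin n → R)) = n := by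
  haveI : Nontrivial R := q.nontrivial
  have h := congrFun (Module.rankAtStalk_eq_finrank_of_free (R := R) (M := Fin n → R)) q
  simpa [Module.rankAtStalk] using h

theorem rank_le_nearby (p : PrimeSpectrum R) : ∃ U : Set (PrimeSpectrum R), IsOpen U ∧ p ∈ U ∧
    ∀ q ∈ U, Module.rankAtStalk M q ≤ Module.rankAtStalk M p := by
  obtain ⟨G, hG⟩ := exists_map (M := M) p
  refine ⟨{q | Function.Surjective (LocalizedModule.map q.asIdeal.primeCompl G)}, (S6308.result G).2.1, hG,
    fun q (hq : Function.Surjective _) => ?_⟩
  have h := LinearMap.finrank_range_le (LocalizedModule.map q.asIdeal.primeCompl G)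
  rw [LinearMap.range_eq_top.mpr hq, finrank_top, finrank_free] at h
  exact h

theorem exists_free_nearby (hconst : ∀ k, IsOpen {q : PrimeSpectrum R | Module.rankAtStalk M q = k})
    (p : PrimeSpectrum R) : ∃ f : R, f ∉ p.asIdeal ∧
      Module.Free (Localization.Away f) (LocalizedModule (Submonoid.powers f) M) := by
  obtain ⟨G, hG⟩ := exists_map (M := M) p
  obtain ⟨_, ⟨f, rfl⟩, hfp, hfU⟩ := isTopologicalBasis_basic_opens.exists_subset_of_mem_open
    (show p ∈ {q | Function.Surjective (LocalizedModule.map q.asIdeal.primeCompl G)} ∩
      {q | Module.rankAtStalk M q = Module.rankAtStalk M p} from ⟨hG, rfl⟩)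
    ((S6308.result G).2.1.inter (hconst _))
  refine ⟨f, hfp, ?_⟩
  have hsurj := (S6308.result G).2.2 f (fun q hq => (hfU hq).1)
  have hinj : ∀ q ∈ basicOpen f, Function.Injective (LocalizedModule.map q.asIdeal.primeCompl G) := by
    intro q hq
    obtain ⟨hs, hr⟩ := hfU hq
    haveI : Module.Free (Localization.AtPrime q.asIdeal) (LocalizedModule q.asIdeal.primeCompl (Fin (Module.rankAtStalk M p) → R)) :=
      Module.free_of_isLocalizedModule q.asIdeal.primeCompl (LocalizedModule.mkLinearMap q.asIdeal.primeCompl _)
    haveI : Module.Free (Localization.AtPrime q.asIdeal) (LocalizedModule q.asIdeal.primeCompl M) :=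
      Module.free_of_flat_of_isLocalRing
    let e : LocalizedModule q.asIdeal.primeCompl M ≃ₗ[Localization.AtPrime q.asIdeal]
        LocalizedModule q.asIdeal.primeCompl (Fin (Module.rankAtStalk M p) → R) :=
      LinearEquiv.ofFinrankEq _ _ (by rw [finrank_free]; exact hr)
    have := OrzechProperty.injective_of_surjective_endomorphism (e.toLinearMap ∘ₗ LocalizedModule.map q.asIdeal.primeCompl G)
      (e.surjective.comp hs)
    exact Function.Injective.of_comp this
  have hbij : Function.Bijective (LocalizedModule.map (Submonoid.powers f) G) := by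
    refine ⟨?_, hsurj⟩
    rw [injective_iff_map_eq_zero]
    intro z hz
    induction z using LocalizedModule.induction_on with
    | h x s =>
      rw [LocalizedModule.map_mk] at hz
      obtain ⟨c, hc⟩ := LocalizedModule.mk_eq.mp (hz.trans (LocalizedModule.zero_mk s).symm)
      obtain ⟨d, hd⟩ : ∃ d : Submonoid.powers f, (d : R) • G x = 0 :=
        ⟨c * s, by simpa [Submonoid.smul_def, mul_smul] using hc⟩
      let A : Ideal R := (⊥ : Submodule R (Fin (Module.rankAtStalk M p) → R)).comap (LinearMap.toSpanSingleton R _ x)
      have hA : f ∈ A.radical := by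
        rw [Ideal.radical_eq_sInf, Submodule.mem_sInf]
        rintro J ⟨hAJ, hJ⟩
        by_contra hfJ
        have h1 : LocalizedModule.map (⟨J, hJ⟩ : PrimeSpectrum R).asIdeal.primeCompl G (LocalizedModule.mk x 1) = 0 := by
          rw [LocalizedModule.map_mk, ← LocalizedModule.zero_mk 1, LocalizedModule.mk_eq]
          refine ⟨⟨d, ?_⟩, by simpa [Submonoid.smul_def] using hd⟩
          obtain ⟨n, hn⟩ := d.2
          exact fun h => hfJ (hJ.mem_of_pow_mem n (by rw [show f ^ n = _ from hn]; exact h))
        have h2 := hinj ⟨J, hJ⟩ hfJ (h1.trans (map_zero _).symm)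
        rw [← LocalizedModule.zero_mk 1, LocalizedModule.mk_eq] at h2
        obtain ⟨t, ht⟩ := h2
        exact t.2 (hAJ (by simpa [A, Submonoid.smul_def] using ht))
      obtain ⟨n, hn⟩ := hA
      rw [← LocalizedModule.zero_mk s, LocalizedModule.mk_eq]
      refine ⟨⟨f ^ n, n, rfl⟩, ?_⟩
      have : f ^ n • x = 0 := by simpa [A] using hn
      simp [Submonoid.smul_def, smul_comm (f ^ n) (s : R) x, this]
  haveI : Module.Free (Localization.Away f) (LocalizedModule (Submonoid.powers f) (Fin (Module.rankAtStalk M p) → R)) :=
    Module.free_of_isLocalizedModule (Submonoid.powers f) (LocalizedModule.mkLinearMap (Submonoid.powers f) _)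
  exact Module.Free.of_equiv (LinearEquiv.ofBijective _ hbij)

/-- For a commutative ring R the following are equivalent: (1) every subset of Spec R which is closed
and stable under generalization is open; (2) every finite flat R-module is finite locally free, i.e.
(for finite modules) projective. -/
theorem result (R : Type u) [CommRing R] :
    (∀ Z : Set (PrimeSpectrum R), IsClosed Z → StableUnderGeneralization Z → IsOpen Z) ↔
      ∀ (M : Type u) [AddCommGroup M] [Module R M], Module.Finite R M → Module.Flat R M →
        Module.Projective R M := by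
  constructor
  · intro h M _ _ _ _
    have hle : ∀ k, IsOpen {q : PrimeSpectrum R | Module.rankAtStalk M q ≤ k} := by
      intro k
      rw [isOpen_iff_forall_mem_open]
      intro p hp
      obtain ⟨U, hU, hpU, hle⟩ := rank_le_nearby (M := M) p
      exact ⟨U, fun q hq => (hle q hq).trans hp, hU, hpU⟩
    have hge : ∀ k, IsOpen {q : PrimeSpectrum R | k ≤ Module.rankAtStalk M q} := by
      intro k
      rcases k with _ | k
      · simp
      refine h _ ?_ ?_
      · have : {q : PrimeSpectrum R | k + 1 ≤ Module.rankAtStalk M q} = {q | Module.rankAtStalk M q ≤ k}ᶜ := by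
          ext q; simp
        rw [this]; exact (hle k).isClosed_compl
      · intro p q hqp hp
        have := Module.rankAtStalk_eq_of_le_of_finite_of_flat M ((PrimeSpectrum.le_iff_specializes q p).mpr hqp)
        exact le_of_le_of_eq hp this.symm
    have hconst : ∀ k, IsOpen {q : PrimeSpectrum R | Module.rankAtStalk M q = k} := fun k => by
      have : {q : PrimeSpectrum R | Module.rankAtStalk M q = k} =
          {q | Module.rankAtStalk M q ≤ k} ∩ {q | k ≤ Module.rankAtStalk M q} := by
        ext q; simp [le_antisymm_iff]
      rw [this]; exact (hle k).inter (hge k)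
    obtain ⟨m, π, hπ⟩ := Module.Finite.exists_fin' R M
    choose f hf hfree using exists_free_nearby hconst
    have htop : Ideal.span (Set.range f) = ⊤ := by
      by_contra hne
      obtain ⟨J, hJ, hle⟩ := Ideal.exists_le_maximal _ hne
      exact hf ⟨J, hJ.isPrime⟩ (hle (Ideal.subset_span ⟨_, rfl⟩))
    haveI : Module.Finite R (LinearMap.ker π) := by
      refine Module.Finite.of_localizationSpan (Set.range f) htop ?_
      rintro ⟨_, p, rfl⟩
      show Module.Finite (Localization.Away (f p)) (LocalizedModule (Submonoid.powers (f p)) (LinearMap.ker π))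
      let S := Submonoid.powers (f p)
      let ι : LinearMap.ker π →ₗ[R] (Fin m → R) := (LinearMap.ker π).subtype
      have hinj : Function.Injective (LocalizedModule.map S ι) :=
        LocalizedModule.map_injective S ι (Submodule.injective_subtype _)
      have hex : Function.Exact (LocalizedModule.map S ι) (LocalizedModule.map S π) :=
        LocalizedModule.map_exact S ι π (LinearMap.exact_subtype_ker_map π)
      haveI := hfree p
      obtain ⟨u, hu⟩ := Module.projective_lifting_property (LocalizedModule.map S π) LinearMap.id
        (LocalizedModule.map_surjective S π hπ)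
      obtain ⟨v, hv⟩ : ∃ v : LocalizedModule S (Fin m → R) →ₗ[Localization.Away (f p)] LocalizedModule S (LinearMap.ker π),
          ∀ x, v (LocalizedModule.map S ι x) = x := by
        have hr : ∀ z, z - u (LocalizedModule.map S π z) ∈ LinearMap.range (LocalizedModule.map S ι) :=
          fun z => (hex _).mp (by
            rw [map_sub, show LocalizedModule.map S π (u _) = _ from LinearMap.congr_fun hu _]
            exact sub_self _)
        refine ⟨(LinearEquiv.ofInjective _ hinj).symm.toLinearMap ∘ₗ
          (LinearMap.id - u ∘ₗ LocalizedModule.map S π).codRestrict _ hr, fun x => hinj ?_⟩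
        refine (congrArg Subtype.val ((LinearEquiv.ofInjective _ hinj).apply_symm_apply ⟨_, hr (LocalizedModule.map S ι x)⟩)).trans ?_
        simp [hex.apply_apply_eq_zero]
      haveI : Module.Finite (Localization.Away (f p)) (LocalizedModule S (Fin m → R)) :=
        Module.Finite.of_isLocalizedModule S (LocalizedModule.mkLinearMap S _)
      exact Module.Finite.of_surjective v fun x => ⟨_, hv x⟩
    haveI : Module.FinitePresentation R M :=
      Module.finitePresentation_of_free_of_surjective π hπ (Module.Finite.iff_fg.mp ‹_›)
    exact Module.Flat.projective_of_finitePresentation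
  · intro h Z hZ hgen
    obtain ⟨I, hI, rfl⟩ := S6353.part_two R Z hZ hgen
    haveI : Module.Finite R (R ⧸ I) := Module.Finite.of_surjective (Submodule.mkQ I) (Submodule.mkQ_surjective _)
    have h2 := (S6354.result R I).out 3 2 rfl rfl
    exact (h2.mp (h (R ⧸ I) ‹_› hI)).2

end Groth.Agent.S6355
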