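import Groth.Statements.S6357
import Groth.Agent.H1CAlg.DirectLimit

set_option autoImplicit false
universe u
open CAlg

namespace Groth.Agent.S6357

open TensorProduct Groth.Agent.H1CAlg

/-- Given finitely presented R-modules G_i forming a directed system over a nonempty directed index set,
with transition maps f_ij and colimit M, the module M is Mittag-Leffler exactly when every index i
admits some j ≥ i for which f_ij factors through f_ik whenever k ≥ i. -/
theorem result (R : Type u) [CommRing R] {ι : Type u}
    [Preorder ι] [IsDirected ι (· ≤ ·)] [Nonempty ι] [DecidableEq ι] (G : ι → Type u)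
    [∀ i, AddCommGroup (G i)] [∀ i, Module R (G i)] [∀ i, Module.FinitePresentation R (G i)]
    (f : ∀ i j, i ≤ j → G i →ₗ[R] G j) [DirectedSystem G fun i j h => f i j h] :
    CAlg.IsMittagLeffler R (Module.DirectLimit G f) ↔
      ∀ i, ∃ (j : ι) (hij : i ≤ j), ∀ (k : ι) (hik : i ≤ k),
        ∃ h : G k →ₗ[R] G j, f i j hij = h ∘ₗ f i k hik := by
  classical
  have hof : ∀ {i j : ι} (h : i ≤ j), Module.DirectLimit.of R ι G f j ∘ₗ f i j h = Module.DirectLimit.of R ι G f i :=
    fun h => LinearMap.ext fun x => Module.DirectLimit.of_f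
  have hff : ∀ {i j k : ι} (hij : i ≤ j) (hjk : j ≤ k), f j k hjk ∘ₗ f i j hij = f i k (hij.trans hjk) :=
    fun hij hjk => LinearMap.ext fun x => DirectedSystem.map_map' (f := f) hij hjk x
  constructor
  · intro h i
    obtain ⟨Q, _, _, _, g, c, hc, hker⟩ := exists_fp_ker_eq h (G i) (Module.DirectLimit.of R ι G f i)
    obtain ⟨l, c', rfl⟩ := exists_factor_directLimit c
    obtain ⟨m, him, hlm⟩ := exists_ge_ge i l
    obtain ⟨j, hmj, hj⟩ := exists_ge_comp_eq (f := f) (f i m him) (f l m hlm ∘ₗ c' ∘ₗ g)
      (by rw [hof, ← LinearMap.comp_assoc, hof, ← LinearMap.comp_assoc, ← hc])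
    refine ⟨j, him.trans hmj, fun k hik => ?_⟩
    haveI : Module.FinitePresentation R (G k ⧸ LinearMap.range (f i k hik)) :=
      Module.finitePresentation_of_surjective _ (Submodule.mkQ_surjective _)
        (by rw [Submodule.ker_mkQ, LinearMap.range_eq_map]; exact Module.Finite.fg_top.map _)
    refine exists_factor_of_ker_le _ _ fun N _ _ z hz => ?_
    have h1 : z ∈ LinearMap.ker ((Module.DirectLimit.of R ι G f i).rTensor N) := by
      rw [LinearMap.mem_ker] at hz ⊢
      rw [← hof hik, LinearMap.rTensor_comp, LinearMap.comp_apply, hz, map_zero]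
    rw [hker N, LinearMap.mem_ker] at h1
    rw [LinearMap.mem_ker, ← hff him hmj, hj]
    simp only [← LinearMap.comp_assoc]
    rw [LinearMap.rTensor_comp, LinearMap.comp_apply, h1, map_zero]
  · intro h
    refine isMittagLeffler_of_fin_dominate fun n p => ?_
    obtain ⟨i, p', rfl⟩ := exists_factor_directLimit p
    obtain ⟨j, hij, hj⟩ := h i
    refine ⟨G j, inferInstance, inferInstance, inferInstance, f i j hij ∘ₗ p', fun N _ _ => le_antisymm ?_ ?_⟩
    · intro z hz
      rw [LinearMap.mem_ker] at hz ⊢
      rw [LinearMap.rTensor_comp, LinearMap.comp_apply] at hz ⊢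
      have h2 : Module.DirectLimit.of R ι (fun i => G i ⊗[R] N) (fun i j h => (f i j h).rTensor N) i
          (p'.rTensor N z) = 0 := by
        rw [← TensorProduct.directLimitLeft_rTensor_of, hz, map_zero]
      obtain ⟨k, hik, hk⟩ := Module.DirectLimit.of.zero_exact h2
      obtain ⟨q, hq⟩ := hj k hik
      rw [hq, LinearMap.rTensor_comp, LinearMap.comp_apply]
      rw [show (f i k hik).rTensor N (p'.rTensor N z) = 0 from hk, map_zero]
    · rw [← hof hij, LinearMap.comp_assoc, LinearMap.rTensor_comp _ (Module.DirectLimit.of R ι G f j)]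
      exact LinearMap.ker_le_ker_comp _ _

end Groth.Agent.S6357
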