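import Groth.Statements.S6362
import Mathlib

set_option autoImplicit false
universe u
open scoped TensorProduct
open Fields

namespace Groth.Agent.S6362

/-- Let K/F be a finite separable extension and L/F an extension with L algebraically closed. Then the
L-algebra map K ⊗_F L → ∏_σ L, indexed by the F-algebra maps σ : K → L and sending a ⊗ b to (σ(a)
b)_σ, is an isomorphism; stated as bijectivity of that map. -/
theorem result {F K L : Type u} [Field F] [Field K] [Field L]
    [Algebra F K] [Algebra F L] [FiniteDimensional F K] [Algebra.IsSeparable F K] [IsAlgClosed L] :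
    Function.Bijective (fun x : K ⊗[F] L => fun σ : K →ₐ[F] L =>
      Algebra.TensorProduct.lift σ (AlgHom.id F L) (fun a b => Commute.all (σ a) b) x) := by
  classical
  let b := Module.finBasis F K
  have hcard : Fintype.card (K →ₐ[F] L) = Module.finrank F K := AlgHom.card F K L
  let e : Fin (Module.finrank F K) ≃ (K →ₐ[F] L) :=
    (Fintype.equivFinOfCardEq hcard).symm
  let M := Algebra.embeddingsMatrixReindex F L b e
  have hM : IsUnit M.det := by
    rw [isUnit_iff_ne_zero]
    intro h
    have h2 := Algebra.discr_eq_det_embeddingsMatrixReindex_pow_two F L b e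
    rw [h, zero_pow two_ne_zero, map_eq_zero] at h2
    exact Algebra.discr_not_zero_of_basis F b h2
  set Φ := fun x : K ⊗[F] L => fun σ : K →ₐ[F] L =>
      Algebra.TensorProduct.lift σ (AlgHom.id F L) (fun a b => Commute.all (σ a) b) x
  let E := TensorProduct.equivFinsuppOfBasisLeft (N := L) b
  have key : ∀ x j, Φ x (e j) = Matrix.vecMul (E x) M j := by
    intro x j
    obtain ⟨c, rfl⟩ := E.symm.surjective x
    rw [E.apply_symm_apply]
    simp only [E, TensorProduct.equivFinsuppOfBasisLeft_symm_apply, Φ]
    rw [Finsupp.sum_fintype _ _ (by simp), map_sum]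
    simp [M, Matrix.vecMul, dotProduct, Algebra.embeddingsMatrixReindex, mul_comm]
  have hv : Function.Bijective (fun c => Matrix.vecMul c M) :=
    ⟨Matrix.vecMul_injective_iff_isUnit.mpr (M.isUnit_iff_isUnit_det.mpr hM),
     Matrix.vecMul_surjective_iff_isUnit.mpr (M.isUnit_iff_isUnit_det.mpr hM)⟩
  let E' := E.toEquiv.trans Finsupp.equivFunOnFinite
  have hfac : Φ = (e.arrowCongr (Equiv.refl L)) ∘ (fun c => Matrix.vecMul c M) ∘ E' := by
    funext x σ
    obtain ⟨j, rfl⟩ := e.surjective σ
    simp only [key, Function.comp, Equiv.arrowCongr_apply, Equiv.symm_apply_apply]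
    rfl
  rw [hfac]
  exact (Equiv.bijective _).comp (hv.comp E'.bijective)

end Groth.Agent.S6362
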