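import Groth.Statements.S6363
import Mathlib

set_option autoImplicit false
universe u
open scoped TensorProduct
open Fields

namespace Groth.Agent.S6363

/-- For a finite field extension L/K and a normal closure M of L/K, some K-algebra homomorphism from the
n-fold tensor power L ⊗_K ⋯ ⊗_K L to M is surjective, where n = [L : K]_s is the separable degree
(so n ≤ [L : K]). -/
theorem result {K L M : Type u} [Field K] [Field L] [Field M]
    [Algebra K L] [Algebra K M] [Algebra L M] [IsScalarTower K L M] [FiniteDimensional K L]
    [IsNormalClosure K L M] :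
    ∃ f : (⨂[K] _ : Fin (Field.finSepDegree K L), L) →ₐ[K] M, Function.Surjective f := by
  classical
  haveI : Algebra.IsAlgebraic K M := (IsNormalClosure.normal (F := K) (K := L) (L := M)).toIsAlgebraic
  let g : M →ₐ[K] AlgebraicClosure L := IsAlgClosed.lift
  have hcard : Nat.card (L →ₐ[K] M) ≤ Field.finSepDegree K L :=
    Nat.card_le_card_of_injective (fun f => (g.comp f : Field.Emb K L)) fun f f' h =>
      AlgHom.ext fun x => g.injective (AlgHom.congr_fun h x)
  haveI : Nonempty (L →ₐ[K] M) := ⟨IsScalarTower.toAlgHom K L M⟩
  let emb : (L →ₐ[K] M) ↪ Fin (Field.finSepDegree K L) :=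
    (Finite.equivFin _).toEmbedding.trans (Fin.castLEEmb hcard)
  let σ : Fin (Field.finSepDegree K L) → (L →ₐ[K] M) := Function.invFun emb
  have hσ : Function.Surjective σ := Function.invFun_surjective emb.injective
  let ml : MultilinearMap K (fun _ : Fin (Field.finSepDegree K L) => L) M :=
    (MultilinearMap.mkPiAlgebra K (Fin (Field.finSepDegree K L)) M).compLinearMap fun i => (σ i).toLinearMap
  let f := PiTensorProduct.liftAlgHom ml (by simp [ml]) (fun x y => by simp [ml, Finset.prod_mul_distrib])
  have hf : ∀ i x, f (PiTensorProduct.singleAlgHom i x) = σ i x := by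
    intro i x
    simp only [f, PiTensorProduct.singleAlgHom_apply, PiTensorProduct.liftAlgHom_apply, PiTensorProduct.lift.tprod, ml,
      MultilinearMap.compLinearMap_apply, MultilinearMap.mkPiAlgebra_apply, AlgHom.toLinearMap_apply]
    rw [Finset.prod_eq_single i (fun j _ hji => by simp [Pi.mulSingle_eq_of_ne hji]) (by simp)]
    simp
  refine ⟨f, ?_⟩
  have htop : IntermediateField.normalClosure K L M = ⊤ := (Algebra.IsAlgebraic.isNormalClosure_iff.mp inferInstance).2
  let S : IntermediateField K M :=
    f.range.toIntermediateField' (Subalgebra.isField_of_algebraic f.range)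
  intro m
  have hS : IntermediateField.normalClosure K L M ≤ S := normalClosure_le_iff.mpr fun φ => by
    obtain ⟨i, rfl⟩ := hσ φ
    rintro _ ⟨x, rfl⟩
    exact ⟨PiTensorProduct.singleAlgHom i x, hf i x⟩
  exact hS (htop.symm ▸ IntermediateField.mem_top : m ∈ IntermediateField.normalClosure K L M)

end Groth.Agent.S6363
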