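import Groth.Statements.S6364
import Mathlib.LinearAlgebra.Charpoly.Basic
import Mathlib.LinearAlgebra.Matrix.Charpoly.Minpoly
import Mathlib.FieldTheory.IntermediateField.Adjoin.Basic
import Mathlib.LinearAlgebra.Charpoly.ToMatrix

set_option autoImplicit false
universe u
open Fields

namespace Groth.Agent.S6364

open IntermediateField in
/-- Let L/K be a finite extension and a ∈ L with minimal polynomial P over K. Then P ^ e, with e = [L :
K(a)], is the characteristic polynomial of multiplication by a (the K-linear map x ↦ a x on L), and
e · deg P = [L : K]. -/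
theorem result {K L : Type u} [Field K] [Field L] [Algebra K L] [FiniteDimensional K L]
    (a : L) :
    (Algebra.lmul K L a).charpoly = minpoly K a ^ Module.finrank K⟮a⟯ L ∧
      Module.finrank K⟮a⟯ L * (minpoly K a).natDegree = Module.finrank K L := by
  classical
  have hint : IsIntegral K a := IsIntegral.of_finite K a
  refine ⟨?_, ?_⟩
  · let pb := IntermediateField.adjoin.powerBasis hint
    let c := Module.finBasis K⟮a⟯ L
    have h1 : (Algebra.lmul K L a).charpoly = (Algebra.leftMulMatrix (pb.basis.smulTower c)
        (algebraMap K⟮a⟯ L pb.gen)).charpoly := by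
      rw [← LinearMap.charpoly_toMatrix _ (pb.basis.smulTower c), IntermediateField.adjoin.powerBasis_gen]
      rfl
    rw [h1, Algebra.smulTower_leftMulMatrix_algebraMap]
    have h2 : ∀ (o : Type) [Fintype o] [DecidableEq o] (M : Matrix (Fin pb.dim) (Fin pb.dim) K),
        (Matrix.blockDiagonal fun _ : o => M).charpoly = M.charpoly ^ Fintype.card o := by
      intro o _ _ M
      have : (Matrix.blockDiagonal fun _ : o => M).charmatrix =
          Matrix.blockDiagonal fun _ : o => M.charmatrix := by
        ext ⟨i, k⟩ ⟨j, l⟩ : 2
        simp only [Matrix.charmatrix_apply, Matrix.blockDiagonal_apply, Matrix.diagonal_apply, Prod.mk.injEq]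
        by_cases hkl : k = l <;> simp [hkl]
      rw [Matrix.charpoly, this, Matrix.det_blockDiagonal, Finset.prod_const, Finset.card_univ]
      rfl
    rw [h2, Fintype.card_fin, charpoly_leftMulMatrix, IntermediateField.adjoin.powerBasis_gen]
    congr 1
    exact IntermediateField.minpoly_gen K a
  · rw [← IntermediateField.adjoin.finrank hint, mul_comm, Module.finrank_mul_finrank]

end Groth.Agent.S6364
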