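import Groth.Statements.S6366
import Mathlib.RingTheory.Finiteness.Ideal
import Mathlib.Algebra.Module.FinitePresentation

set_option autoImplicit false
universe u
open CAlg

namespace Groth.Agent.S6366

theorem fg_fp_ext {R : Type u} [CommRing R] {A B C : Type u}
    [AddCommGroup A] [Module R A] [AddCommGroup B] [Module R B] [AddCommGroup C] [Module R C]
    (f : A →ₗ[R] B) (g : B →ₗ[R] C) (hf : Function.Injective f)
    (hfg : LinearMap.range f = LinearMap.ker g)
    (hA : ∀ N : Submodule R A, N.FG → Module.FinitePresentation R N)
    (hC : ∀ N : Submodule R C, N.FG → Module.FinitePresentation R N)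
    (N : Submodule R B) (hN : N.FG) : Module.FinitePresentation R N := by
  haveI : Module.Finite R N := Module.Finite.iff_fg.mpr hN
  haveI := hC (N.map g) (hN.map g)
  let g' : N →ₗ[R] N.map g := g.submoduleMap N
  have hg' : Function.Surjective g' := g.submoduleMap_surjective N
  have hk : (LinearMap.ker g').FG := Module.FinitePresentation.fg_ker g' hg'
  have e : (LinearMap.ker g').map N.subtype = (N.comap f).map f := by
    rw [Submodule.map_comap_eq, hfg]
    ext x
    constructor
    · rintro ⟨y, hy, rfl⟩
      exact ⟨congrArg Subtype.val hy, y.2⟩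
    · rintro ⟨hx, hxN⟩
      exact ⟨⟨x, hxN⟩, Subtype.ext hx, rfl⟩
  have hA' : (N.comap f).FG := by
    refine Submodule.fg_of_fg_map_injective f hf ?_
    rw [← e]; exact hk.map _
  haveI := hA _ hA'
  haveI : Module.FinitePresentation R (LinearMap.ker g') :=
    Module.FinitePresentation.of_equiv
      (((N.comap f).equivMapOfInjective f hf).trans ((LinearEquiv.ofEq _ _ e.symm).trans
        ((LinearMap.ker g').equivMapOfInjective N.subtype N.injective_subtype).symm))
  exact Module.finitePresentation_of_ker g' hg'

theorem fg_fp_pi {R : Type u} [CommRing R]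
    (hR : ∀ I : Ideal R, I.FG → Module.FinitePresentation R I) :
    ∀ (n : ℕ) (N : Submodule R (Fin n → R)), N.FG → Module.FinitePresentation R N
  | 0, N, _ => inferInstance
  | n + 1, N, hN => by
    let g : (Fin (n + 1) → R) →ₗ[R] R := LinearMap.proj 0
    let f : (Fin n → R) →ₗ[R] (Fin (n + 1) → R) :=
      { toFun := fun v => Fin.cons 0 v
        map_add' := fun v w => by ext i; refine Fin.cases ?_ (fun j => ?_) i <;> simp
        map_smul' := fun r v => by ext i; refine Fin.cases ?_ (fun j => ?_) i <;> simp }
    refine fg_fp_ext f g (fun v w h => Fin.cons_right_injective (α := fun _ => R) 0 h) ?_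
      (fg_fp_pi hR n) (fun J hJ => hR J hJ) N hN
    ext v
    constructor
    · rintro ⟨w, rfl⟩; simp [f, g]
    · intro hv
      refine ⟨Fin.tail v, ?_⟩
      have : v 0 = 0 := hv
      ext i
      refine Fin.cases ?_ (fun j => ?_) i
      · simp [f, this]
      · simp [f, Fin.tail]

/-- Let R be a coherent ring, i.e. every finitely generated ideal of R is finitely presented. Then an
R-module is coherent (finitely generated, and every finitely generated submodule is finitely
presented) if and only if it is finitely presented. -/
theorem result (R : Type u) [CommRing R]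
    (hR : ∀ I : Ideal R, I.FG → Module.FinitePresentation R I) (M : Type u) [AddCommGroup M] [Module R M] :
    (Module.Finite R M ∧ ∀ N : Submodule R M, N.FG → Module.FinitePresentation R N) ↔ Module.FinitePresentation R M := by
  constructor
  · rintro ⟨hfin, h⟩
    haveI := h ⊤ hfin.fg_top
    exact Module.FinitePresentation.of_equiv Submodule.topEquiv
  · intro hM
    refine ⟨inferInstance, fun N hN => ?_⟩
    obtain ⟨n, f, hf⟩ := Module.Finite.exists_fin' R M
    have hk := Module.FinitePresentation.fg_ker f hf
    have hfg : (N.comap f).FG := by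
      refine Submodule.fg_of_fg_map_of_fg_inf_ker f ?_ ?_
      · rw [Submodule.map_comap_eq_of_surjective hf]; exact hN
      · rw [inf_eq_right.mpr (LinearMap.ker_le_comap f)]; exact hk
    haveI := fg_fp_pi hR n _ hfg
    let f' : N.comap f →ₗ[R] N := f.restrict fun x hx => hx
    have hf' : Function.Surjective f' := by
      rintro ⟨y, hy⟩
      obtain ⟨x, rfl⟩ := hf y
      exact ⟨⟨x, hy⟩, rfl⟩
    refine Module.finitePresentation_of_surjective f' hf' ?_
    refine Submodule.fg_of_fg_map_injective (N.comap f).subtype (Submodule.injective_subtype _) ?_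
    have : (LinearMap.ker f').map (N.comap f).subtype = LinearMap.ker f := by
      ext x
      constructor
      · rintro ⟨y, hy, rfl⟩; exact congrArg Subtype.val hy
      · intro hx
        exact ⟨⟨x, LinearMap.ker_le_comap f hx⟩, Subtype.ext hx, rfl⟩
    rw [this]; exact hk

end Groth.Agent.S6366
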