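import Groth.Statements.S6368
import Mathlib.RingTheory.Flat.FaithfullyFlat.Basic
import Groth.Agent.H1CAlg.Kaplansky

set_option autoImplicit false
universe u
open scoped TensorProduct
open CAlg

namespace Groth.Agent.S6368

open TensorProduct

/-- Let R → S be faithfully flat and M an R-module. If the S-module S ⊗_R M is countably generated then
M is countably generated. -/
theorem result (R S : Type u) [CommRing R] [CommRing S] [Algebra R S]
    [Module.FaithfullyFlat R S] (M : Type u) [AddCommGroup M] [Module R M]
    (h : CAlg.IsCountablyGenerated S (S ⊗[R] M)) : CAlg.IsCountablyGenerated R M := by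
  obtain ⟨t, ht, htop⟩ := h
  choose F hF using fun x : S ⊗[R] M => TensorProduct.exists_finset x
  let s : Set M := ⋃ x ∈ t, (fun p : S × M => p.2) '' ↑(F x)
  refine ⟨s, ht.biUnion fun x _ => (F x).countable_toSet.image _, ?_⟩
  rw [← Submodule.range_subtype (Submodule.span R s), LinearMap.range_eq_top,
    ← Module.FaithfullyFlat.lTensor_surjective_iff_surjective R S, ← LinearMap.range_eq_top]
  have : LinearMap.range ((Submodule.span R s).subtype.baseChange S) = ⊤ := by
    refine top_unique (htop.symm.le.trans (Submodule.span_le.mpr fun x hx => ?_))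
    rw [SetLike.mem_coe, hF x]
    exact Submodule.sum_mem _ fun p hp => ⟨p.1 ⊗ₜ ⟨p.2,
      Submodule.subset_span (Set.mem_biUnion hx ⟨p, hp, rfl⟩)⟩, rfl⟩
  rw [LinearMap.range_eq_top] at this ⊢
  exact this

end Groth.Agent.S6368
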