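import Groth.Statements.S6369
import Mathlib.RingTheory.DedekindDomain.Ideal.Lemmas
import Mathlib.Tactic.Ring
import Mathlib.Tactic.LinearCombination
-- import your own Groth.Agent.* helpers here

set_option autoImplicit false
universe u
open CAlg

namespace Groth.Agent.S6369

/-- (1) ⇒ (3): let R be a domain such that every nonzero ideal is a product of nonzero prime ideals,
uniquely up to permutation of the factors. Then R is Noetherian, integrally closed and of dimension
at most one, i.e. a Dedekind domain in the Noetherian sense. (The converse and the description by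
discrete valuation rings at maximal ideals are the standard equivalences.) -/
theorem result (R : Type u) [CommRing R] [IsDomain R]
    (h : ∀ I : Ideal R, I ≠ ⊥ → ∃! s : Multiset (Ideal R), (∀ p ∈ s, p.IsPrime ∧ p ≠ ⊥) ∧ s.prod = I) :
    IsDedekindDomain R := by
  classical
  choose fac hfac huniq using h
  have hne : ∀ s : Multiset (Ideal R), (∀ q ∈ s, q.IsPrime ∧ q ≠ ⊥) → s.prod ≠ 0 := fun s hs =>
    Multiset.prod_ne_zero fun h0 => (hs _ h0).2 rfl
  -- cancellation
  have cancel : ∀ I J K : Ideal R, I ≠ ⊥ → I * J = I * K → J = K := by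
    intro I J K hI hJK
    by_cases hJ : J = ⊥
    · subst hJ
      rw [Ideal.mul_bot] at hJK
      exact ((Ideal.mul_eq_bot.mp hJK.symm).resolve_left hI).symm
    by_cases hK : K = ⊥
    · subst hK
      rw [Ideal.mul_bot] at hJK
      exact (Ideal.mul_eq_bot.mp hJK).resolve_left hI
    have hIJ : I * J ≠ ⊥ := fun h => (Ideal.mul_eq_bot.mp h).elim hI hJ
    have h1 := huniq (I * J) hIJ (fac I hI + fac J hJ) ⟨fun q hq => (Multiset.mem_add.mp hq).elim ((hfac I hI).1 q) ((hfac J hJ).1 q),
      by rw [Multiset.prod_add, (hfac I hI).2, (hfac J hJ).2]⟩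
    have h2 := huniq (I * J) hIJ (fac I hI + fac K hK) ⟨fun q hq => (Multiset.mem_add.mp hq).elim ((hfac I hI).1 q) ((hfac K hK).1 q),
      by rw [Multiset.prod_add, (hfac I hI).2, (hfac K hK).2, hJK]⟩
    have h3 := add_left_cancel (h1.trans h2.symm)
    rw [← (hfac J hJ).2, h3, (hfac K hK).2]
  -- nonzero primes are maximal
  haveI hdim : Ring.DimensionLEOne R := ⟨fun {p} hp0 hp => by
    refine Ideal.isMaximal_def.mpr ⟨hp.ne_top, fun J hJ => ?_⟩
    obtain ⟨a, haJ, hap⟩ := SetLike.exists_of_lt hJ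
    suffices p ⊔ Ideal.span {a} = ⊤ from
      top_le_iff.mp (this ▸ sup_le hJ.le ((Ideal.span_singleton_le_iff_mem J).mpr haJ))
    set A := Ideal.span {a} with hA
    have hne : p ⊔ A ≠ ⊥ := fun h => hp0 (eq_bot_iff.mpr (le_sup_left.trans h.le))
    have hsq : (p ⊔ A) * (p ⊔ A) = p * p ⊔ A * A := by
      refine cancel (p ⊔ A) _ _ hne ?_
      simp only [← Ideal.add_eq_sup]
      have h2 : ∀ X : Ideal R, X + X = X := fun X => by rw [Ideal.add_eq_sup, sup_idem]
      calc (p + A) * ((p + A) * (p + A)) = p * p * p + (p * p * A + p * p * A + p * p * A) +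
            (p * A * A + p * A * A + p * A * A) + A * A * A := by ring
        _ = p * p * p + p * p * A + p * A * A + A * A * A := by simp only [h2]
        _ = (p + A) * (p * p + A * A) := by ring
    have hle : p * A ≤ p * p ⊔ p * (A * A) := by
      intro z hz
      have hz1 : z ∈ p * p ⊔ A * A := hsq ▸ (Ideal.mul_mono le_sup_left le_sup_right hz)
      obtain ⟨y, hy, w, hw, rfl⟩ := Submodule.mem_sup.mp hz1
      refine Submodule.mem_sup.mpr ⟨y, hy, w, ?_, rfl⟩
      rw [hA, Ideal.span_singleton_mul_span_singleton] at hw ⊢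
      obtain ⟨r, rfl⟩ := Ideal.mem_span_singleton'.mp hw
      have hzp : y + r * (a * a) ∈ p := (Ideal.mul_le_inf hz).1
      have hr : r ∈ p := (hp.mem_or_mem ((Ideal.add_mem_iff_right p ((Ideal.mul_le_inf hy).1)).mp hzp)).resolve_right
        fun h => (hp.mem_or_mem h).elim hap hap
      exact Ideal.mul_mem_mul hr (Ideal.mem_span_singleton_self _)
    have h3 : p * (A ⊔ (p ⊔ A * A)) = p * (p ⊔ A * A) := by
      rw [Ideal.mul_sup, sup_eq_right.mpr]
      rwa [Ideal.mul_sup]
    have h4 : a ∈ p ⊔ A * A := cancel p _ _ hp0 h3 ▸ Submodule.mem_sup_left (Ideal.mem_span_singleton_self a)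
    rw [hA, Ideal.span_singleton_mul_span_singleton] at h4
    obtain ⟨u, hu, w, hw, huw⟩ := Submodule.mem_sup.mp h4
    obtain ⟨r, rfl⟩ := Ideal.mem_span_singleton'.mp hw
    have h5 : 1 - r * a ∈ p := (hp.mem_or_mem (show a * (1 - r * a) ∈ p from
      (show a * (1 - r * a) = u by linear_combination -huw) ▸ hu)).resolve_left hap
    rw [Ideal.eq_top_iff_one]
    exact Submodule.mem_sup.mpr ⟨_, h5, r * a, Ideal.mem_span_singleton'.mpr ⟨r, rfl⟩, sub_add_cancel _ _⟩⟩
  let K := FractionRing R
  have hsing : ∀ c : K, c ≠ 0 → IsUnit (FractionalIdeal.spanSingleton (nonZeroDivisors R) c) := fun c hc =>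
    IsUnit.of_mul_eq_one (FractionalIdeal.spanSingleton (nonZeroDivisors R) c⁻¹)
      (by rw [FractionalIdeal.spanSingleton_mul_spanSingleton, mul_inv_cancel₀ hc, FractionalIdeal.spanSingleton_one])
  have hprin : ∀ x : R, x ≠ 0 → IsUnit ((Ideal.span {x} : Ideal R) : FractionalIdeal (nonZeroDivisors R) K) := fun x hx => by
    rw [FractionalIdeal.coeIdeal_span_singleton]
    exact hsing _ ((map_ne_zero_iff _ (IsFractionRing.injective R K)).mpr hx)
  have hprime : ∀ p : Ideal R, p.IsPrime → p ≠ ⊥ → IsUnit (p : FractionalIdeal (nonZeroDivisors R) K) := by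
    intro p hp hp0
    obtain ⟨x, hx, hx0⟩ := (Submodule.ne_bot_iff p).mp hp0
    have hxne : Ideal.span {x} ≠ ⊥ := by simpa using hx0
    obtain ⟨hs, hprod⟩ := hfac _ hxne
    have hle : (fac _ hxne).prod ≤ p := hprod.le.trans ((Ideal.span_singleton_le_iff_mem p).mpr hx)
    obtain ⟨q, hq, hqp⟩ := hp.multiset_prod_le.mp hle
    have hqmax := (hs q hq).1.isMaximal_of_ne_bot (hs q hq).2
    rw [← hqmax.eq_of_le hp.ne_top hqp]
    have h1 : q * ((fac _ hxne).erase q).prod = Ideal.span {x} := by rw [Multiset.prod_erase hq, hprod]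
    have h2 := hprin x hx0
    rw [← h1, FractionalIdeal.coeIdeal_mul] at h2
    exact isUnit_of_mul_isUnit_left h2
  rw [isDedekindDomain_iff_mul_inv_cancel (K := K)]
  intro I hI
  rw [FractionalIdeal.mul_inv_cancel_iff_isUnit]
  obtain ⟨a, J, ha, rfl⟩ := FractionalIdeal.exists_eq_spanSingleton_mul I
  have hJ : J ≠ ⊥ := fun h => hI (by rw [h, FractionalIdeal.coeIdeal_bot, mul_zero]; rfl)
  refine IsUnit.mul ?_ ?_
  · exact hsing _ (inv_ne_zero ((map_ne_zero_iff _ (IsFractionRing.injective R K)).mpr ha))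
  · rw [← (hfac J hJ).2]
    have h1 : ∀ s : Multiset (Ideal R), (∀ q ∈ s, q.IsPrime ∧ q ≠ ⊥) →
        IsUnit ((s.prod : Ideal R) : FractionalIdeal (nonZeroDivisors R) K) := fun s => by
      induction s using Multiset.induction_on with
      | empty => intro _; simp
      | cons q s ih =>
        intro hs
        rw [Multiset.prod_cons, FractionalIdeal.coeIdeal_mul]
        exact (hprime q (hs q (Multiset.mem_cons_self q s)).1 (hs q (Multiset.mem_cons_self q s)).2).mul
          (ih fun r hr => hs r (Multiset.mem_cons_of_mem hr))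
    exact h1 _ (hfac J hJ).1

end Groth.Agent.S6369
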