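import Groth.Statements.S6371
import Mathlib.RingTheory.Localization.BaseChange
import Mathlib.Algebra.Algebra.Epi

set_option autoImplicit false
universe u
open CAlg

namespace Groth.Agent.S6371

open scoped TensorProduct

/-- A ring map R → S is an epimorphism of rings if and only if for every prime p of R the localized map
R_p → S_p is an epimorphism, where S_p is S localized at the image of R ∖ p. -/
theorem result (R S : Type u) [CommRing R] [CommRing S] [Algebra R S] :
    Algebra.IsEpi R S ↔ ∀ (p : Ideal R) [p.IsPrime],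
      Algebra.IsEpi (Localization.AtPrime p) (Localization (Algebra.algebraMapSubmonoid S p.primeCompl)) := by
  constructor
  · intro h p _
    let Rp := Localization.AtPrime p
    let Sp := Localization (Algebra.algebraMapSubmonoid S p.primeCompl)
    rw [Algebra.isEpi_iff_forall_one_tmul_eq]
    intro x
    obtain ⟨s, ⟨_, t, ht, rfl⟩, rfl⟩ := IsLocalization.exists_mk'_eq (Algebra.algebraMapSubmonoid S p.primeCompl) x
    let a : S →ₐ[R] Sp := IsScalarTower.toAlgHom R S Sp
    let Φ : S ⊗[R] S →ₗ[R] Sp ⊗[Rp] Sp := TensorProduct.lift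
      (LinearMap.mk₂ R (fun u v => a u ⊗ₜ[Rp] a v)
        (fun u u' v => by rw [map_add, TensorProduct.add_tmul])
        (fun r u v => by rw [map_smul, TensorProduct.smul_tmul'])
        (fun u v v' => by rw [map_add, TensorProduct.tmul_add])
        (fun r u v => by rw [map_smul, TensorProduct.tmul_smul]))
    have h1 := congrArg Φ ((Algebra.isEpi_iff_forall_one_tmul_eq R S).mp h s)
    simp only [Φ, TensorProduct.lift.tmul, LinearMap.mk₂_apply, map_one] at h1
    have ht' : IsUnit (algebraMap R Rp t) := IsLocalization.map_units Rp (⟨t, ht⟩ : p.primeCompl)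
    refine ht'.smul_left_cancel.mp ?_
    have h2 : algebraMap R Rp t • (IsLocalization.mk' Sp s
        (⟨algebraMap R S t, ⟨t, ht, rfl⟩⟩ : Algebra.algebraMapSubmonoid S p.primeCompl)) = a s := by
      rw [algebraMap_smul, Algebra.smul_def, IsScalarTower.algebraMap_apply R S Sp, mul_comm]
      exact IsLocalization.mk'_spec Sp s (⟨algebraMap R S t, ⟨t, ht, rfl⟩⟩ : Algebra.algebraMapSubmonoid S p.primeCompl)
    rw [← TensorProduct.tmul_smul, TensorProduct.smul_tmul', h2]
    exact h1
  · intro h
    rw [Algebra.isEpi_iff_forall_one_tmul_eq]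
    intro s
    rw [← sub_eq_zero]
    set z := (1 : S) ⊗ₜ[R] s - s ⊗ₜ[R] (1 : S)
    let I : Ideal R := (⊥ : Submodule R (S ⊗[R] S)).comap (LinearMap.toSpanSingleton R _ z)
    suffices I = ⊤ by
      have h1 : (1 : R) ∈ I := this ▸ trivial
      simpa [I] using h1
    by_contra hI
    obtain ⟨p, hp, hle⟩ := Ideal.exists_le_maximal I hI
    haveI := hp.isPrime
    let Rp := Localization.AtPrime p
    let Sp := Localization (Algebra.algebraMapSubmonoid S p.primeCompl)
    let a : S →ₗ[R] Sp := (IsScalarTower.toAlgHom R S Sp).toLinearMap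
    haveI : IsLocalizedModule p.primeCompl a := isLocalizedModule_iff_isLocalization.mpr inferInstance
    have h0 : TensorProduct.map a a z = 0 := by
      have h1 := (Algebra.isEpi_iff_forall_one_tmul_eq Rp Sp).mp (h p) (a s)
      apply (TensorProduct.equivOfCompatibleSMul Rp R R Sp Sp).injective
      simp only [z, map_sub, TensorProduct.map_tmul, map_zero]
      simp [a, TensorProduct.equivOfCompatibleSMul] at h1 ⊢
      rw [h1, sub_self]
    obtain ⟨c, hc⟩ := (IsLocalizedModule.eq_zero_iff p.primeCompl (TensorProduct.map a a)).mp h0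
    exact c.2 (hle (show (c : R) • z ∈ (⊥ : Submodule R (S ⊗[R] S)) from hc))

end Groth.Agent.S6371
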