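import Groth.Statements.S6372
import Mathlib.LinearAlgebra.TensorProduct.Tower
import Mathlib.RingTheory.TensorProduct.Maps

set_option autoImplicit false
universe u
open CAlg

namespace Groth.Agent.S6372

open TensorProduct

/-- A faithfully flat epimorphism of rings is an isomorphism: if R → S is faithfully flat and an
epimorphism in the category of rings then it is bijective. -/
theorem result (R S : Type u) [CommRing R] [CommRing S] [Algebra R S]
    [Module.FaithfullyFlat R S] [Algebra.IsEpi R S] : Function.Bijective (algebraMap R S) := by
  have h := (Algebra.isEpi_iff_forall_one_tmul_eq R S).mp inferInstance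
  have : Function.Bijective ((Algebra.linearMap R S).lTensor S) := by
    have hcomp : (LinearMap.mul' R S) ∘ₗ (Algebra.linearMap R S).lTensor S ∘ₗ (TensorProduct.rid R S).symm.toLinearMap = LinearMap.id := by
      ext s; simp
    constructor
    · intro a b hab
      apply (TensorProduct.rid R S).injective
      have := congrArg (LinearMap.mul' R S) hab
      have e := LinearMap.congr_fun hcomp
      simp only [LinearMap.comp_apply, LinearEquiv.coe_coe, LinearMap.id_apply] at e
      rw [← (TensorProduct.rid R S).symm_apply_apply a, ← (TensorProduct.rid R S).symm_apply_apply b, e, e] at this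
      exact this
    · intro z
      induction z with
      | zero => exact ⟨0, map_zero _⟩
      | add a b ha hb =>
        obtain ⟨a, rfl⟩ := ha; obtain ⟨b, rfl⟩ := hb
        exact ⟨a + b, map_add _ _ _⟩
      | tmul a b =>
        refine ⟨(a * b) ⊗ₜ 1, ?_⟩
        simp only [LinearMap.lTensor_tmul, Algebra.linearMap_apply, map_one]
        calc (a * b) ⊗ₜ[R] (1 : S) = (a ⊗ₜ[R] (1 : S)) * (b ⊗ₜ[R] (1 : S)) := by simp
          _ = (a ⊗ₜ[R] (1 : S)) * ((1 : S) ⊗ₜ[R] b) := by rw [h b]
          _ = a ⊗ₜ[R] b := by simp
  exact ⟨(Module.FaithfullyFlat.lTensor_injective_iff_injective R S (Algebra.linearMap R S)).mp this.1,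
    (Module.FaithfullyFlat.lTensor_surjective_iff_surjective R S (Algebra.linearMap R S)).mp this.2⟩

end Groth.Agent.S6372
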