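import Groth.Statements.S6373
import Mathlib.LinearAlgebra.Basis.VectorSpace

set_option autoImplicit false
universe u
open CAlg

namespace Groth.Agent.S6373

open TensorProduct

/-- If k is a field and k → S is an epimorphism of rings, then S is the zero ring or k → S is an
isomorphism. -/
theorem result (k S : Type u) [Field k] [CommRing S] [Algebra k S] [Algebra.IsEpi k S] :
    Subsingleton S ∨ Function.Bijective (algebraMap k S) := by
  rcases subsingleton_or_nontrivial S with h | h
  · exact Or.inl h
  refine Or.inr ⟨(algebraMap k S).injective, fun s => ?_⟩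
  obtain ⟨f, hf⟩ : ∃ f : S →ₗ[k] k, f 1 = 1 := by
    obtain ⟨f, hf⟩ := LinearMap.exists_leftInverse_of_injective (LinearMap.toSpanSingleton k S 1)
      (LinearMap.ker_eq_bot.mpr (fun a b h => by simpa using h))
    exact ⟨f, by simpa using LinearMap.congr_fun hf 1⟩
  refine ⟨f s, ?_⟩
  have := congrArg (fun z => TensorProduct.lid k S (TensorProduct.map f LinearMap.id z))
    ((Algebra.isEpi_iff_forall_one_tmul_eq k S).mp inferInstance s)
  simpa [hf, Algebra.algebraMap_eq_smul_one] using this.symm

end Groth.Agent.S6373
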