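import Groth.Statements.S6374
import Mathlib.Algebra.Algebra.Epi
import Mathlib.RingTheory.Spectrum.Prime.RingHom
import Mathlib.RingTheory.LocalRing.ResidueField.Fiber
import Mathlib.LinearAlgebra.Basis.VectorSpace

set_option autoImplicit false
universe u
open CAlg

namespace Groth.Agent.S6374

open scoped TensorProduct

theorem bijective_of_isEpi_field {k A : Type u} [Field k] [CommRing A] [Algebra k A]
    [Algebra.IsEpi k A] [Nontrivial A] : Function.Bijective (algebraMap k A) := by
  refine ⟨(algebraMap k A).injective, fun a => ?_⟩
  obtain ⟨φ, hφ⟩ := LinearMap.exists_leftInverse_of_injective (LinearMap.toSpanSingleton k A (1 : A))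
    (LinearMap.ker_eq_bot.mpr (by intro x y hxy; simpa using hxy))
  have h1 : φ 1 = 1 := by simpa using LinearMap.congr_fun hφ 1
  have h := congrArg (fun z => TensorProduct.lid k A (φ.rTensor A z))
    ((Algebra.isEpi_iff_forall_one_tmul_eq k A).mp inferInstance a)
  simp [h1] at h
  exact ⟨φ a, by rw [Algebra.algebraMap_eq_smul_one]; exact h.symm⟩

/-- For an epimorphism of rings R → S, the induced map Spec S → Spec R is injective and induces trivial
residue field extensions; stated in the form the proof gives: for every prime p of R the fibre ring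
S ⊗_R κ(p) is either zero or κ(p) → S ⊗_R κ(p) is bijective, together with injectivity of Spec S →
Spec R. -/
theorem result (R S : Type u) [CommRing R] [CommRing S] [Algebra R S]
    [Algebra.IsEpi R S] :
    Function.Injective (PrimeSpectrum.comap (algebraMap R S)) ∧
      ∀ (p : Ideal R) [p.IsPrime],
        Subsingleton (p.Fiber S) ∨ Function.Bijective (algebraMap p.ResidueField (p.Fiber S)) := by
  have hfib : ∀ (p : Ideal R) [p.IsPrime],
      Subsingleton (p.Fiber S) ∨ Function.Bijective (algebraMap p.ResidueField (p.Fiber S)) := by
    intro p _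
    rcases subsingleton_or_nontrivial (p.Fiber S) with h | h
    · exact Or.inl h
    · haveI : Algebra.IsEpi p.ResidueField (p.Fiber S) := by
        rw [Algebra.isEpi_iff_forall_one_tmul_eq]
        intro x
        induction x using TensorProduct.induction_on with
        | zero => simp
        | add a b ha hb => rw [TensorProduct.tmul_add, ha, hb, TensorProduct.add_tmul]
        | tmul c s =>
          let ι : S →ₐ[R] p.Fiber S := Algebra.TensorProduct.includeRight
          let Φ : S ⊗[R] S →ₗ[R] (p.Fiber S) ⊗[p.ResidueField] (p.Fiber S) := TensorProduct.lift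
            (LinearMap.mk₂ R (fun u v => ι u ⊗ₜ[p.ResidueField] ι v)
              (fun u u' v => by rw [map_add, TensorProduct.add_tmul])
              (fun r u v => by rw [map_smul, TensorProduct.smul_tmul'])
              (fun u v v' => by rw [map_add, TensorProduct.tmul_add])
              (fun r u v => by rw [map_smul, TensorProduct.tmul_smul]))
          have h1 := congrArg Φ ((Algebra.isEpi_iff_forall_one_tmul_eq R S).mp ‹_› s)
          simp only [Φ, TensorProduct.lift.tmul, LinearMap.mk₂_apply, map_one] at h1
          have h2 : (c ⊗ₜ[R] s : p.Fiber S) = c • ι s := by simp [ι, TensorProduct.smul_tmul']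
          rw [h2, TensorProduct.tmul_smul, h1, TensorProduct.smul_tmul']
      exact Or.inr bijective_of_isEpi_field
  refine ⟨fun x y hxy => ?_, hfib⟩
  let q := PrimeSpectrum.comap (algebraMap R S) y
  let e := PrimeSpectrum.preimageEquivFiber R S q
  haveI : Subsingleton (PrimeSpectrum (q.asIdeal.Fiber S)) := by
    rcases hfib q.asIdeal with h | h
    · exact ⟨fun a b => (IsEmpty.false a).elim⟩
    · exact (PrimeSpectrum.comapEquiv (RingEquiv.ofBijective _ h)).symm.injective.subsingleton
  have := e.injective (a₁ := ⟨x, hxy⟩) (a₂ := ⟨y, rfl⟩) (Subsingleton.elim _ _)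
  exact congrArg Subtype.val this

end Groth.Agent.S6374
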