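import Groth.Statements.S6375
import Mathlib.Algebra.Algebra.Epi
import Mathlib.SetTheory.Cardinal.Arithmetic
import Mathlib.LinearAlgebra.TensorProduct.RightExactness
import Mathlib.LinearAlgebra.Finsupp.LinearCombination

set_option autoImplicit false
universe u
open CAlg

namespace Groth.Agent.S6375

open scoped TensorProduct

theorem exists_data {R S : Type u} [CommRing R] [CommRing S] [Algebra R S] [Algebra.IsEpi R S]
    (s : S) : ∃ (n l : ℕ) (A : Fin n → Fin l → R) (b : Fin l → R) (c : Fin n → R)
      (x : Fin n → S) (u : Fin l → S), s = ∑ k, b k • u k ∧ s = - ∑ i, c i • x i ∧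
        (∀ i, ∑ k, A i k • u k = algebraMap R S (c i)) ∧
        (∀ k, algebraMap R S (b k) + ∑ i, A i k • x i = 0) := by
  classical
  rcases eq_or_ne s 1 with rfl | hs
  · refine ⟨1, 1, fun _ _ => -1, fun _ => 1, fun _ => -1, fun _ => 1, fun _ => 1, ?_⟩
    simp
  let g : (S →₀ R) →ₗ[R] S := Finsupp.linearCombination R (id : S → S)
  have hg : Function.Surjective g := fun y => ⟨Finsupp.single y 1, by simp [g]⟩
  have hex : Function.Exact (LinearMap.ker g).subtype g := by
    rw [LinearMap.exact_iff, Submodule.range_subtype]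
  let z : (S →₀ R) ⊗[R] S := Finsupp.single (1 : S) (1 : R) ⊗ₜ s - Finsupp.single s (1 : R) ⊗ₜ (1 : S)
  have hz : g.rTensor S z = 0 := by
    simp [z, g, (Algebra.isEpi_iff_forall_one_tmul_eq R S).mp ‹_› s]
  have hexS : Function.Exact ((LinearMap.ker g).subtype.rTensor S) (g.rTensor S) := by
    exact rTensor_exact (M := ↥(LinearMap.ker g)) (N := S →₀ R) (P := S) S hex hg
  obtain ⟨w, hw⟩ := (hexS z).mp hz
  obtain ⟨F, rfl⟩ := TensorProduct.exists_finset w
  let T : Finset S := (F.biUnion (fun j => j.1.1.support) ∪ {s}).erase 1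
  let coordS : S → ((S →₀ R) ⊗[R] S →ₗ[R] S) := fun y =>
    (TensorProduct.lid R S).toLinearMap ∘ₗ (Finsupp.lapply y).rTensor S
  have key : ∀ y : S, ∑ j ∈ F, j.1.1 y • j.2
      = (if (1 : S) = y then s else 0) - (if s = y then (1 : S) else 0) := by
    intro y
    have := congrArg (coordS y) hw
    simpa [coordS, z, Finsupp.single_apply, map_sum, ite_smul] using this
  let eT := T.equivFin.symm
  let eF := F.equivFin.symm
  refine ⟨T.card, F.card, fun i k => (eF k).1.1.1 (eT i).1, fun k => (eF k).1.1.1 1,
    fun i => if (eT i).1 = s then -1 else 0, fun i => (eT i).1, fun k => (eF k).1.2, ?_, ?_, ?_, ?_⟩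
  · rw [Equiv.sum_comp eF (fun j : F => j.1.1.1 1 • j.1.2), Finset.sum_coe_sort F (fun j => j.1.1 1 • j.2),
      key 1, if_pos rfl, if_neg hs, sub_zero]
  · rw [Equiv.sum_comp eT (fun y : T => (if y.1 = s then (-1 : R) else 0) • y.1),
      Finset.sum_coe_sort T (fun y => (if y = s then (-1 : R) else 0) • y)]
    have hsT : s ∈ T := Finset.mem_erase.mpr ⟨hs, Finset.mem_union_right _ (Finset.mem_singleton_self s)⟩
    simp [ite_smul, Finset.sum_ite_eq', hsT]
  · intro i
    rw [Equiv.sum_comp eF (fun j : F => j.1.1.1 (eT i).1 • j.1.2),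
      Finset.sum_coe_sort F (fun j => j.1.1 (eT i).1 • j.2), key]
    have h1 : (1 : S) ≠ (eT i).1 := (Finset.mem_erase.mp (eT i).2).1.symm
    beta_reduce
    rw [if_neg h1, zero_sub]
    by_cases h2 : s = (eT i).1
    · rw [if_pos h2, if_pos h2.symm]; simp
    · rw [if_neg h2, if_neg (Ne.symm h2)]; simp
  · intro k
    rw [Equiv.sum_comp eT (fun y : T => (eF k).1.1.1 y.1 • y.1),
      Finset.sum_coe_sort T (fun y => (eF k).1.1.1 y • y), Algebra.algebraMap_eq_smul_one]
    have h0 : g (eF k).1.1.1 = 0 := (eF k).1.1.2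
    rw [show g (eF k).1.1.1 = _ from Finsupp.linearCombination_apply R _] at h0
    simp only [id_eq, Finsupp.sum] at h0
    have hsub : (eF k).1.1.1.support ⊆ insert (1 : S) T := by
      intro y hy
      by_cases h : y = 1
      · subst h; exact Finset.mem_insert_self _ _
      · exact Finset.mem_insert_of_mem (Finset.mem_erase.mpr ⟨h, Finset.mem_union_left _
          (Finset.mem_biUnion.mpr ⟨_, (eF k).2, hy⟩)⟩)
    rw [Finset.sum_subset hsub (fun y _ hy => by rw [Finsupp.notMem_support_iff.mp hy, zero_smul]),
      Finset.sum_insert (Finset.notMem_erase _ _)] at h0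
    exact h0

/-- For an infinite source ring: if R → S is an epimorphism of rings with R infinite, then |S| ≤ |R| as
cardinals. (For finite R the published statement also asserts |S| ≤ |R|, but its proof only gives
that S is countable and omits the rest, so that case is not included.) -/
theorem result (R S : Type u) [CommRing R] [CommRing S] [Algebra R S] [Algebra.IsEpi R S]
    [Infinite R] : Cardinal.mk S ≤ Cardinal.mk R := by
  choose n l A b c x u h1 h2 h3 h4 using exists_data (R := R) (S := S)
  let F : S → List (List R) × List R × List R := fun s =>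
    (List.ofFn (fun i => List.ofFn (A s i)), List.ofFn (b s), List.ofFn (c s))
  have key : ∀ {n l : ℕ} (A : Fin n → Fin l → R) (b : Fin l → R) (c : Fin n → R)
      (x : Fin n → S) (u : Fin l → S), (∀ i, ∑ k, A i k • u k = algebraMap R S (c i)) →
      (∀ k, algebraMap R S (b k) + ∑ i, A i k • x i = 0) →
      ∑ k, b k • u k = - ∑ i, c i • x i := by
    intro n l A b c x u h3 h4
    calc ∑ k, b k • u k = ∑ k, (- ∑ i, A i k • x i) * u k := by
          refine Finset.sum_congr rfl fun k _ => ?_
          rw [Algebra.smul_def, eq_neg_of_add_eq_zero_left (h4 k)]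
      _ = - ∑ i, x i * (∑ k, A i k • u k) := by
          simp only [neg_mul, Finset.sum_neg_distrib, Finset.sum_mul, Finset.mul_sum, smul_mul_assoc,
            mul_smul_comm]
          rw [Finset.sum_comm]
      _ = _ := by
          simp only [h3]
          simp [Algebra.smul_def, mul_comm]
  have hF : Function.Injective F := by
    intro s t hst
    obtain ⟨hA, hb, hc⟩ := Prod.mk.injEq .. |>.mp hst |>.imp id (fun h => Prod.mk.injEq .. |>.mp h)
    have hn : n s = n t := by simpa using congrArg List.length hc
    have hl : l s = l t := by simpa using congrArg List.length hb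
    have hA' : ∀ i k, A s i k = A t (Fin.cast hn i) (Fin.cast hl k) := by
      intro i k
      have h5 := List.ofFn_inj'.mp hA
      rw [Fin.sigma_eq_iff_eq_comp_cast] at h5
      obtain ⟨_, h5⟩ := h5
      have h6 := List.ofFn_inj'.mp (congrFun h5 i)
      rw [Fin.sigma_eq_iff_eq_comp_cast] at h6
      obtain ⟨_, h6⟩ := h6
      exact congrFun h6 k
    have hb' : ∀ k, b s k = b t (Fin.cast hl k) := by
      intro k
      have h5 := List.ofFn_inj'.mp hb
      rw [Fin.sigma_eq_iff_eq_comp_cast] at h5
      exact congrFun h5.2 k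
    have hc' : ∀ i, c s i = c t (Fin.cast hn i) := by
      intro i
      have h5 := List.ofFn_inj'.mp hc
      rw [Fin.sigma_eq_iff_eq_comp_cast] at h5
      exact congrFun h5.2 i
    have h5 := key (A s) (b s) (c s) (fun i => x t (Fin.cast hn i)) (u s) (h3 s) (fun k => by
      have := h4 t (Fin.cast hl k)
      rw [← hb' k, ← Equiv.sum_comp (finCongr hn) (fun i => A t i (Fin.cast hl k) • x t i)] at this
      simp only [finCongr_apply, ← hA'] at this
      exact this)
    refine (h1 s).trans (h5.trans (Eq.trans ?_ (h2 t).symm))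
    rw [← Equiv.sum_comp (finCongr hn) (fun i => c t i • x t i)]
    simp [hc']
  refine (Cardinal.mk_le_of_injective hF).trans ?_
  simp [Cardinal.mk_list_eq_mk, Cardinal.mul_eq_self (Cardinal.aleph0_le_mk R)]

end Groth.Agent.S6375
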