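import Groth.Statements.S6377
import Groth.Agent.H1TorFlip.Acyclic
import Mathlib

set_option autoImplicit false
universe u
open CategoryTheory
open scoped TensorProduct
open CAlg

namespace Groth.Agent.S6377

/-- Let A be a ring, M an A-module and I = (f_1, ..., f_r) an ideal generated by r ≥ 1 elements. If (1)
M_{f_i} is flat over A_{f_i} for each i, (2) M/IM is flat over A/I, and (3) Tor_i^A(M, A/I) = 0 for
i = 1, ..., r + 1, then M is flat over A. (The published statement adds the same with 'faithfully
flat', whose proof it omits; that variant is not included.) -/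
theorem result (A : Type u) [CommRing A] (M : Type u) [AddCommGroup M]
    [Module A M] {r : ℕ} (hr : 1 ≤ r) (f : Fin r → A)
    (h1 : ∀ i, Module.Flat (Localization.Away (f i)) (LocalizedModule (Submonoid.powers (f i)) M))
    (h2 : Module.Flat (A ⧸ Ideal.span (Set.range f)) ((A ⧸ Ideal.span (Set.range f)) ⊗[A] M))
    (h3 : ∀ i : ℕ, 1 ≤ i → i ≤ r + 1 →
      Limits.IsZero (((CategoryTheory.Tor (ModuleCat.{u} A) i).obj (ModuleCat.of A M)).obj (ModuleCat.of A (A ⧸ Ideal.span (Set.range f))))) :
    Module.Flat A M := by
  classical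
  let MM : ModuleCat.{u} A := ModuleCat.of A M
  let I := Ideal.span (Set.range f)
  let B := A ⧸ I
  haveI : Module.Flat B (B ⊗[A] MM) := h2
  have hB : ∀ n < r + 1, H1TorFlip.Ex MM n B := fun n hn =>
    H1TorFlip.ex_of_isZero MM n B (h3 (n + 1) (by omega) (by omega))
  -- modules killed by I
  have hI : ∀ n < r + 1, ∀ (N : Type u) [AddCommGroup N] [Module A N],
      (∀ a ∈ I, ∀ x : N, a • x = 0) → H1TorFlip.Ex MM n N := fun n hn N _ _ hN => by
    letI : Module B N := Module.IsTorsionBySet.module (R := A) (M := N) (fun x a => hN a.1 a.2 x)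
    haveI : IsScalarTower A B N := Module.IsTorsionBySet.isScalarTower (R := A) (M := N) (fun x a => hN a.1 a.2 x)
    exact H1TorFlip.ex_of_algebra MM B hB n hn N
  -- modules killed by a power of I
  have hIp : ∀ k : ℕ, ∀ n < r + 1, ∀ (N : Type u) [AddCommGroup N] [Module A N],
      (∀ a ∈ I ^ k, ∀ x : N, a • x = 0) → H1TorFlip.Ex MM n N := by
    intro k
    induction k with
    | zero =>
      intro n hn N _ _ hN
      refine hI n hn N fun a _ x => ?_
      rw [show x = 0 by simpa using hN 1 (by simp) x, smul_zero]
    | succ k ih =>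
      intro n hn N _ _ hN
      let N' : Submodule A N := (I ^ k) • ⊤
      refine H1TorFlip.ex_mid MM (i := N'.subtype) (p := N'.mkQ) Subtype.val_injective (Submodule.mkQ_surjective N')
        (LinearMap.exact_subtype_mkQ N') (hI n hn N' fun a ha x => ?_) (ih n hn (N ⧸ N') fun a ha x => ?_)
      · refine Subtype.ext ?_
        show a • (x : N) = 0
        refine Submodule.smul_induction_on x.2 (fun b hb y _ => ?_) fun y z hy hz => by rw [smul_add, hy, hz, add_zero]
        rw [smul_smul]
        exact hN _ (by rw [pow_succ']; exact Ideal.mul_mem_mul ha hb) y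
      · obtain ⟨y, rfl⟩ := Submodule.Quotient.mk_surjective N' x
        rw [← Submodule.Quotient.mk_smul, Submodule.Quotient.mk_eq_zero]
        exact Submodule.smul_mem_smul ha trivial
  -- modules killed by powers of the first j generators
  have key : ∀ j, j ≤ r → ∀ n ≤ j, ∀ (N : Type u) [AddCommGroup N] [Module A N],
      (∀ i : Fin r, i.1 < j → ∀ x : N, ∃ k : ℕ, f i ^ k • x = 0) → H1TorFlip.Ex MM n N := by
    intro j hj
    induction hj using Nat.decreasingInduction with
    | self =>
      intro n hn N _ _ hN
      refine H1TorFlip.ex_of_fg MM fun N' hN' => ?_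
      obtain ⟨k, hk⟩ : ∃ k, I ^ k ≤ (Submodule.annihilator N') := by
        refine Ideal.exists_pow_le_of_le_radical_of_fg (Ideal.span_le.2 ?_) ⟨(Finset.univ.image f), by simp [I]⟩
        rintro _ ⟨i, rfl⟩
        obtain ⟨S, hS⟩ := hN'
        choose l hl using fun x : N => hN i i.2 x
        refine ⟨S.sup l, Submodule.mem_annihilator.2 fun x hx => ?_⟩
        rw [← hS] at hx
        induction hx using Submodule.span_induction with
        | mem y hy =>
          obtain ⟨d, hd⟩ := Nat.exists_eq_add_of_le (Finset.le_sup (f := l) hy)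
          rw [hd, pow_add, mul_comm, mul_smul, hl, smul_zero]
        | zero => rw [smul_zero]
        | add y z _ _ hy hz => rw [smul_add, hy, hz, add_zero]
        | smul c y _ hy => rw [smul_comm, hy, smul_zero]
      exact hIp k n (by omega) N' fun a ha x => Subtype.ext (Submodule.mem_annihilator.1 (hk ha) _ x.2)
    | of_succ j hjr ih =>
      intro n hn N _ _ hN
      let fj := f ⟨j, hjr⟩
      let S := Submonoid.powers fj
      let B' := Localization.Away fj
      haveI : Module.Flat B' (B' ⊗[A] MM) :=
        haveI := h1 ⟨j, hjr⟩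
        Module.Flat.of_linearEquiv (LocalizedModule.equivTensorProduct S M).symm
      haveI : Module.Flat A B' := IsLocalization.flat B' S
      have hloc : H1TorFlip.Ex MM n (LocalizedModule S N) :=
        H1TorFlip.ex_of_algebra MM B' (fun n _ => H1TorFlip.ex_of_flat MM B' n) (m := n + 1) n (by omega) _
      let g := LocalizedModule.mkLinearMap S N
      have hrange : H1TorFlip.Ex MM n (LinearMap.range g) := by
        refine H1TorFlip.ex_left MM (i := (LinearMap.range g).subtype) (p := (LinearMap.range g).mkQ)
          Subtype.val_injective (Submodule.mkQ_surjective _) (LinearMap.exact_subtype_mkQ _) hloc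
          (ih (n + 1) (by omega) _ fun i hi x => ?_)
        obtain ⟨y, rfl⟩ := Submodule.Quotient.mk_surjective _ x
        obtain ⟨⟨z, s⟩, hzs⟩ := IsLocalizedModule.surj S g y
        rcases Nat.lt_succ_iff_lt_or_eq.1 hi with hlt | heq
        · obtain ⟨k, hk⟩ := hN i hlt z
          refine ⟨k, ?_⟩
          have h0 : f i ^ k • y = 0 := by
            refine ((Module.End.isUnit_iff _).1 (IsLocalizedModule.map_units g s)).1 ?_
            show s.1 • (f i ^ k • y) = s.1 • (0 : LocalizedModule S N)
            rw [smul_comm, show s.1 • y = g z from hzs, ← map_smul, hk, map_zero, smul_zero]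
          rw [← Submodule.Quotient.mk_smul, h0, Submodule.Quotient.mk_zero]
        · obtain ⟨k, hk⟩ := s.2
          refine ⟨k, ?_⟩
          have hs : f i ^ k = s.1 := by rw [show i = ⟨j, hjr⟩ from Fin.ext heq]; exact hk
          rw [hs, ← Submodule.Quotient.mk_smul, Submodule.Quotient.mk_eq_zero]
          exact ⟨z, hzs.symm⟩
      refine H1TorFlip.ex_mid MM (i := (LinearMap.ker g).subtype) (p := g.rangeRestrict)
        Subtype.val_injective g.surjective_rangeRestrict (fun x => ?_) (ih n (by omega) _ fun i hi x => ?_) hrange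
      · exact ⟨fun h => ⟨⟨x, congrArg Subtype.val h⟩, rfl⟩, fun ⟨y, hy⟩ => hy ▸ Subtype.ext y.2⟩
      · rcases Nat.lt_succ_iff_lt_or_eq.1 hi with hlt | heq
        · obtain ⟨k, hk⟩ := hN i hlt x.1
          exact ⟨k, Subtype.ext hk⟩
        · obtain ⟨⟨a, k, hk⟩, hc⟩ := (IsLocalizedModule.eq_zero_iff S g).1 (show g x.1 = 0 from x.2)
          refine ⟨k, Subtype.ext ?_⟩
          show f i ^ k • x.1 = 0
          rw [show i = ⟨j, hjr⟩ from Fin.ext heq]
          have hk' : fj ^ k = a := hk
          show fj ^ k • x.1 = 0
          rw [hk']; exact hc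
  exact H1TorFlip.flat_of_ex MM fun J => key 0 (Nat.zero_le r) 0 le_rfl (A ⧸ J) fun i hi => absurd hi (Nat.not_lt_zero _)

end Groth.Agent.S6377
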