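import Groth.Statements.S6378
import Groth.Agent.H3CAlg.TorBasic
import Mathlib.RingTheory.FiniteLength
import Mathlib.RingTheory.LocalRing.ResidueField.Basic
import Mathlib.RingTheory.SimpleModule.Basic
-- import your own Groth.Agent.* helpers here

set_option autoImplicit false
universe u
open CategoryTheory
open CAlg
open CategoryTheory
open scoped TensorProduct

namespace Groth.Agent.S6378

/-- Let (R, m, κ) be a local ring and M an R-module with Tor_1^R(κ, M) = 0. Then Tor_1^R(N, M) = 0 for
every finite length R-module N. -/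
theorem result (R : Type u) [CommRing R] [IsLocalRing R]
    (M : Type u) [AddCommGroup M] [Module R M]
    (h : Limits.IsZero (((CategoryTheory.Tor (ModuleCat.{u} R) 1).obj (ModuleCat.of R (IsLocalRing.ResidueField R))).obj (ModuleCat.of R M)))
    (N : Type u) [AddCommGroup N] [Module R N] (hN : IsFiniteLength R N) :
    Limits.IsZero (((CategoryTheory.Tor (ModuleCat.{u} R) 1).obj (ModuleCat.of R N)).obj (ModuleCat.of R M)) := by
  induction hN with
  | @of_subsingleton Q _ _ _ =>
    haveI : ∀ L : ModuleCat.{u} R, Subsingleton (((MonoidalCategory.tensoringLeft (ModuleCat.{u} R)).obj (ModuleCat.of R Q)).obj L) :=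
      fun L => inferInstanceAs (Subsingleton (Q ⊗[R] L))
    refine Limits.IsZero.of_iso ?_ ((projectiveResolution (ModuleCat.of R M)).isoLeftDerivedObj _ 1)
    refine (HomologicalComplex.exactAt_iff_isZero_homology _ _).mp ?_
    exact ShortComplex.exact_of_isZero_X₂ _ (@ModuleCat.isZero_of_subsingleton R _ _ (this _))
  | @of_simple_quotient Q _ _ P _ _ ih =>
    let S : ShortComplex (ModuleCat.{u} R) := ShortComplex.mk (ModuleCat.ofHom P.subtype) (ModuleCat.ofHom P.mkQ)
      (by ext x; exact (Submodule.Quotient.mk_eq_zero P).mpr x.2)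
    have hS : S.ShortExact :=
      { exact := (ShortComplex.ShortExact.moduleCat_exact_iff_function_exact S).mpr (LinearMap.exact_subtype_mkQ P)
        mono_f := (ModuleCat.mono_iff_injective _).mpr Subtype.coe_injective
        epi_g := (ModuleCat.epi_iff_surjective _).mpr P.mkQ_surjective }
    refine Groth.Agent.H3CAlg.Tor.isZero_obj_X₂ (ModuleCat.of R M) S hS 1 ih ?_
    obtain ⟨m, hm, ⟨e⟩⟩ := isSimpleModule_iff_quot_maximal.mp (inferInstance : IsSimpleModule R (Q ⧸ P))
    obtain rfl := IsLocalRing.eq_maximalIdeal hm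
    let iso : ModuleCat.of R (IsLocalRing.ResidueField R) ≅ S.X₃ := e.symm.toModuleIso
    exact h.of_iso ((((CategoryTheory.Tor (ModuleCat.{u} R) 1).mapIso iso).app (ModuleCat.of R M)).symm)

end Groth.Agent.S6378
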