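import Groth.Statements.S6381
import Groth.Agent.H1CAlg.ResidueLift
import Mathlib.RingTheory.LocalRing.ResidueField.Ideal
-- import your own Groth.Agent.* helpers here

set_option autoImplicit false
universe u
open CAlg

namespace Groth.Agent.S6381

/-- Let R be a ring, p ⊆ R a prime and L a finite extension of the residue field κ(p). Then one can find
a ring map R → S, with S finite free over R, for which q = pS is a prime of S and the residue field
κ(q) is isomorphic to L over κ(p) (stated as a ring isomorphism κ(q) ≅ L compatible with the maps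
from R, which determines compatibility with κ(p)). -/
theorem result (R : Type u) [CommRing R] (p : Ideal R) [p.IsPrime]
    (L : Type u) [Field L] [Algebra p.ResidueField L] [FiniteDimensional p.ResidueField L]
    [Algebra R L] [IsScalarTower R p.ResidueField L] :
    ∃ (S : Type u) (_ : CommRing S) (_ : Algebra R S) (_ : Module.Finite R S) (_ : Module.Free R S)
      (_ : (p.map (algebraMap R S)).IsPrime)
      (e : (p.map (algebraMap R S)).ResidueField ≃+* L),
      ∀ r : R, e (algebraMap R (p.map (algebraMap R S)).ResidueField r) = algebraMap R L r := by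
  classical
  obtain ⟨S, _, _, hfin, hfree, ψ, hψ, hfrac⟩ :=
    Groth.Agent.H1CAlg.exists_residueLift p.ResidueField L p (Ideal.ker_algebraMap_residueField p) fun c => by
      obtain ⟨a, b, hb, rfl⟩ := IsFractionRing.div_surjective (A := R ⧸ p) c
      obtain ⟨a, rfl⟩ := Ideal.Quotient.mk_surjective a
      obtain ⟨b, rfl⟩ := Ideal.Quotient.mk_surjective b
      exact ⟨a, b, rfl⟩
  haveI hprime : (p.map (algebraMap R S)).IsPrime := hψ ▸ RingHom.ker_isPrime ψ.toRingHom
  set P := p.map (algebraMap R S)
  let φ : P.ResidueField →+* L := Ideal.ResidueField.lift P ψ.toRingHom hψ.ge (fun s hs => by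
    have : s ∉ P := hs
    exact isUnit_iff_ne_zero.mpr fun h => this (hψ ▸ h))
  have hφ : ∀ s : S, φ (algebraMap S P.ResidueField s) = ψ s := fun s => Ideal.ResidueField.lift_algebraMap _ _ _ _ s
  have hsurj : Function.Surjective φ := by
    intro x
    obtain ⟨a, b, -, rfl⟩ := Groth.Agent.H1CAlg.exists_frac ψ.toRingHom (hfrac x)
    exact ⟨algebraMap S P.ResidueField a / algebraMap S P.ResidueField b, by rw [map_div₀, hφ, hφ]; rfl⟩
  refine ⟨S, inferInstance, inferInstance, hfin, hfree, hprime, RingEquiv.ofBijective φ ⟨φ.injective, hsurj⟩, fun r => ?_⟩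
  show φ (algebraMap R P.ResidueField r) = _
  rw [IsScalarTower.algebraMap_apply R S P.ResidueField, hφ, ψ.commutes]

end Groth.Agent.S6381
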