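import Groth.Statements.S6382
import Groth.Agent.H7Flat.LocalCriterion
import Mathlib.RingTheory.TensorProduct.Finite
import Mathlib.RingTheory.Flat.Stability

set_option autoImplicit false
universe u
open CAlg

namespace Groth.Agent.S6382

/-- Consider a commutative square of local rings and local homomorphisms R → S, R → R', S → S', R' → S',
and a finite S-module M. Assume the maps R → R' and S → S' are flat, M is flat over R, the maximal
ideal of R generates the maximal ideal of R', and R', S' are Noetherian. Then M' = M ⊗_S S' (any
base change of M along S → S') is flat over R'. -/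
theorem result (R S R' S' : Type u) [CommRing R] [CommRing S]
    [CommRing R'] [CommRing S'] [IsLocalRing R] [IsLocalRing S] [IsLocalRing R'] [IsLocalRing S']
    [Algebra R S] [Algebra R R'] [Algebra S S'] [Algebra R' S'] [Algebra R S']
    [IsScalarTower R S S'] [IsScalarTower R R' S']
    [IsLocalHom (algebraMap R S)] [IsLocalHom (algebraMap R R')] [IsLocalHom (algebraMap S S')]
    [IsLocalHom (algebraMap R' S')] [Module.Flat R R'] [Module.Flat S S']
    [IsNoetherianRing R'] [IsNoetherianRing S']
    (hm : (IsLocalRing.maximalIdeal R).map (algebraMap R R') = IsLocalRing.maximalIdeal R')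
    (M : Type u) [AddCommGroup M] [Module S M] [Module R M] [IsScalarTower R S M] [Module.Finite S M]
    [Module.Flat R M]
    (M' : Type u) [AddCommGroup M'] [Module S' M'] [Module S M'] [IsScalarTower S S' M'] [Module R' M']
    [IsScalarTower R' S' M'] (j : M →ₗ[S] M') (hj : IsBaseChange S' j) :
    Module.Flat R' M' := by
  let N := TensorProduct S S' M
  suffices h : Module.Flat R' N from Module.Flat.of_linearEquiv ((hj.equiv).restrictScalars R').symm
  set m := IsLocalRing.maximalIdeal R
  set m' := IsLocalRing.maximalIdeal R'
  -- `M ⊗ m → M` and its base change to `S'`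
  let iM : TensorProduct R M m →ₗ[S] M :=
    (TensorProduct.AlgebraTensorModule.rid R S M).toLinearMap ∘ₗ
      TensorProduct.AlgebraTensorModule.lTensor S M m.subtype
  have hiM : Function.Injective iM :=
    (TensorProduct.AlgebraTensorModule.rid R S M).injective.comp
      (Module.Flat.lTensor_preserves_injective_linearMap _ Subtype.val_injective)
  let a := TensorProduct.AlgebraTensorModule.assoc R S S' S' M m
  let iN : TensorProduct R N m →ₗ[R] N :=
    (TensorProduct.rid R N).toLinearMap ∘ₗ m.subtype.lTensor N
  have hiN : Function.Injective iN := by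
    have h1 : Function.Injective (iM.lTensor S') :=
      Module.Flat.lTensor_preserves_injective_linearMap _ hiM
    have h2 : ∀ z : TensorProduct R N m, iN z = iM.lTensor S' (a z) := by
      intro z
      induction z with
      | zero => simp
      | add z z' hz hz' => simp only [map_add, hz, hz']
      | tmul n c =>
        induction n using TensorProduct.induction_on with
        | zero => simp
        | add n n' hn hn' => simp only [TensorProduct.add_tmul, map_add, hn, hn']
        | tmul s x =>
          show (c : R) • (s ⊗ₜ[S] x) = s ⊗ₜ[S] ((c : R) • x)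
          rw [TensorProduct.smul_tmul', TensorProduct.smul_tmul]
    intro z z' h
    rw [h2, h2] at h
    exact a.injective (h1 h)
  -- comparison with `N ⊗ m'`
  let im : m →ₗ[R] m'.restrictScalars R :=
    ((Algebra.linearMap R R').comp m.subtype).codRestrict _ fun c => by
      show algebraMap R R' c ∈ m'
      rw [← hm]
      exact Ideal.mem_map_of_mem _ c.2
  let Γ : TensorProduct R N m →ₗ[R] TensorProduct R' N m' :=
    TensorProduct.lift (LinearMap.mk₂ R (fun n c => n ⊗ₜ[R'] (⟨(im c).1, (im c).2⟩ : m'))
      (fun n n' c => TensorProduct.add_tmul _ _ _)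
      (fun r n c => TensorProduct.smul_tmul' r n _ |>.symm)
      (fun n c c' => by rw [← TensorProduct.tmul_add]; congr 1; exact Subtype.ext (by simp; rfl))
      (fun r n c => by
        rw [TensorProduct.smul_tmul', ← algebraMap_smul R' r n, TensorProduct.smul_tmul]
        congr 1
        refine Subtype.ext ?_
        show (im (r • c)).1 = algebraMap R R' r * (im c).1
        simp [im, Algebra.smul_def]))
  have hΓ : Function.Surjective Γ := by
    intro z
    induction z with
    | zero => exact ⟨0, map_zero _⟩
    | add z z' hz hz' =>
      obtain ⟨w, rfl⟩ := hz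
      obtain ⟨w', rfl⟩ := hz'
      exact ⟨w + w', map_add _ _ _⟩
    | tmul n c =>
      obtain ⟨c, hc⟩ := c
      have hc' : c ∈ Ideal.span (algebraMap R R' '' (m : Set R)) := by
        rw [← Ideal.map, hm]; exact hc
      suffices key : ∀ n : N, ∀ hc : c ∈ m', ∃ w, Γ w = n ⊗ₜ[R'] (⟨c, hc⟩ : m') from key n hc
      clear hc n
      induction hc' using Submodule.span_induction with
      | mem x hx =>
        obtain ⟨r, hr, rfl⟩ := hx
        exact fun n _ => ⟨n ⊗ₜ ⟨r, hr⟩, rfl⟩
      | zero =>
        intro n h0
        exact ⟨0, by rw [map_zero, show (⟨0, h0⟩ : m') = 0 from rfl, TensorProduct.tmul_zero]⟩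
      | add x y hx hy ihx ihy =>
        intro n hxy
        have hx' : x ∈ m' := by rw [← hm]; exact hx
        have hy' : y ∈ m' := by rw [← hm]; exact hy
        obtain ⟨w, hw⟩ := ihx n hx'
        obtain ⟨w', hw'⟩ := ihy n hy'
        exact ⟨w + w', by rw [map_add, hw, hw', ← TensorProduct.tmul_add]; rfl⟩
      | smul r x hx ihx =>
        intro n hrx
        have hx' : x ∈ m' := by rw [← hm]; exact hx
        obtain ⟨w, hw⟩ := ihx (r • n) hx'
        exact ⟨w, by rw [hw, TensorProduct.smul_tmul]; rfl⟩
  have hΓc : ∀ z, TensorProduct.rid R' N (m'.subtype.lTensor N (Γ z)) = iN z := by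
    intro z
    induction z with
    | zero => simp
    | add z z' hz hz' => simp only [map_add, hz, hz']
    | tmul n c =>
      simp [Γ, iN, im]
  refine Groth.Agent.H7Flat.flat_of_injective (S := S') ?_
  rw [injective_iff_map_eq_zero]
  intro z hz
  obtain ⟨w, rfl⟩ := hΓ z
  have : w = 0 := hiN (by rw [← hΓc, hz, map_zero, map_zero])
  rw [this, map_zero]

end Groth.Agent.S6382
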