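import Groth.Statements.S6384
import Groth.Agent.H7Flat.FibreCriterion
import Groth.Agent.H1CAlg.FlatDevissage

set_option autoImplicit false
universe u
open scoped TensorProduct
open CAlg

namespace Groth.Agent.S6384

/-- Let φ : R → R' be a ring map, I ⊆ R an ideal and M an R-module such that M/IM is R/I-flat and R' ⊗_R
M is R'-flat. Put I₂ = φ⁻¹(φ(I²) R'). Then M/I₂M is flat over R/I₂. -/
theorem result (R R' : Type u) [CommRing R] [CommRing R'] [Algebra R R']
    (I : Ideal R) (M : Type u) [AddCommGroup M] [Module R M] [Module.Flat (R ⧸ I) ((R ⧸ I) ⊗[R] M)]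
    [Module.Flat R' (R' ⊗[R] M)] :
    Module.Flat (R ⧸ ((I ^ 2).map (algebraMap R R')).comap (algebraMap R R'))
      ((R ⧸ ((I ^ 2).map (algebraMap R R')).comap (algebraMap R R')) ⊗[R] M) := by
  let J : Ideal R := ((I ^ 2).map (algebraMap R R')).comap (algebraMap R R')
  let K : Ideal R' := (I ^ 2).map (algebraMap R R')
  let S := R ⧸ J
  show Module.Flat S (S ⊗[R] M)
  let Ib : Ideal S := I.map (algebraMap R S)
  have hnil : IsNilpotent Ib := by
    refine ⟨2, ?_⟩
    rw [← Ideal.map_pow, Ideal.zero_eq_bot, eq_bot_iff, Ideal.map_le_iff_le_comap]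
    intro a ha
    exact Ideal.Quotient.eq_zero_iff_mem.mpr (Ideal.mem_map_of_mem (algebraMap R R') ha : a ∈ J)
  haveI : Module.Flat (S ⧸ Ib) ((S ⧸ Ib) ⊗[S] (S ⊗[R] M)) := by
    haveI : Module.Flat (S ⧸ Ib) ((S ⧸ Ib) ⊗[R] M) :=
      Groth.Agent.H1CAlg.FlatDev.flat_baseChange_of_killed I (S ⧸ Ib) fun a ha => by
        rw [IsScalarTower.algebraMap_apply R S (S ⧸ Ib)]
        exact Ideal.Quotient.eq_zero_iff_mem.mpr (Ideal.mem_map_of_mem _ ha)
    exact Module.Flat.of_linearEquiv
      (TensorProduct.AlgebraTensorModule.cancelBaseChange R S (S ⧸ Ib) (S ⧸ Ib) M)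
  refine Groth.Agent.H7Flat.flat_of_isNilpotent Ib hnil ?_
  rw [LinearMap.lTensor_inj_iff_rTensor_inj,
    Groth.Agent.H1CAlg.FlatDev.rTensor_baseChange_injective_iff (S := S)]
  -- the embedding of `R ⧸ J` into `R' ⧸ I²R'`
  let lam : S →ₗ[R] (R' ⧸ K) :=
    Submodule.liftQ J ((Ideal.Quotient.mkₐ R K).toLinearMap.comp (Algebra.linearMap R R'))
      fun a ha => Ideal.Quotient.eq_zero_iff_mem.mpr ha
  have hlam : ∀ a : R, lam (Ideal.Quotient.mk J a) = Ideal.Quotient.mk K (algebraMap R R' a) :=
    fun a => rfl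
  have hlinj : Function.Injective lam := by
    rw [← LinearMap.ker_eq_bot, eq_bot_iff]
    intro z hz
    obtain ⟨a, rfl⟩ := Ideal.Quotient.mk_surjective z
    rw [LinearMap.mem_ker, hlam, Ideal.Quotient.eq_zero_iff_mem] at hz
    exact Ideal.Quotient.eq_zero_iff_mem.mpr hz
  let W : Submodule R' (R' ⧸ K) := Submodule.map (Ideal.Quotient.mkₐ R' K).toLinearMap (I.map (algebraMap R R'))
  have hW : ∀ z : Ib, lam z.1 ∈ W.restrictScalars R := by
    rintro ⟨z, hz⟩
    obtain ⟨a, ha, rfl⟩ := (Ideal.mem_map_iff_of_surjective _ Ideal.Quotient.mk_surjective).mp hz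
    exact ⟨algebraMap R R' a, Ideal.mem_map_of_mem _ ha, (hlam a).symm⟩
  let psi : Ib →ₗ[R] W.restrictScalars R :=
    (lam.comp (Ib.subtype.restrictScalars R)).codRestrict _ hW
  have hkill : ∀ a ∈ I, ∀ w : W.restrictScalars R, a • w = 0 := by
    rintro a ha ⟨w, r, hr, rfl⟩
    refine Subtype.ext ?_
    show a • (Ideal.Quotient.mkₐ R' K r) = 0
    rw [← algebraMap_smul R' a, ← map_smul]
    refine Ideal.Quotient.eq_zero_iff_mem.mpr ?_
    show algebraMap R R' a * r ∈ (I ^ 2).map (algebraMap R R')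
    rw [pow_two, Ideal.map_mul]
    exact Ideal.mul_mem_mul (Ideal.mem_map_of_mem _ ha) hr
  have hpsi : Function.Injective psi := fun z z' h => Subtype.ext (hlinj (congrArg Subtype.val h))
  have h1 : Function.Injective (psi.rTensor M) := by
    have hf := Groth.Agent.H1CAlg.FlatDev.lTensor_injective_of_killed (M := M) I hkill
      (LinearMap.range psi)
    rw [LinearMap.lTensor_inj_iff_rTensor_inj] at hf
    have he : psi = (LinearMap.range psi).subtype.comp
        (LinearEquiv.ofInjective psi hpsi).toLinearMap := LinearMap.ext fun z => rfl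
    rw [he, LinearMap.rTensor_comp]
    exact hf.comp ((LinearEquiv.ofInjective psi hpsi).rTensor M).injective
  have h2 : Function.Injective ((W.subtype.restrictScalars R).rTensor M) :=
    (Groth.Agent.H1CAlg.FlatDev.rTensor_baseChange_injective_iff (S := R') W.subtype).mp
      (Module.Flat.rTensor_preserves_injective_linearMap _ Subtype.val_injective)
  have h3 : Function.Injective ((lam.rTensor M).comp ((Ib.subtype.restrictScalars R).rTensor M)) := by
    rw [← LinearMap.rTensor_comp, show lam.comp (Ib.subtype.restrictScalars R) =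
      (W.subtype.restrictScalars R).comp psi from LinearMap.ext fun z => rfl, LinearMap.rTensor_comp]
    exact h2.comp h1
  exact Function.Injective.of_comp h3

end Groth.Agent.S6384
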