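import Groth.Statements.S6385
import Groth.Agent.H8Props.FieldDimRing
-- import your own Groth.Agent.* helpers here

set_option autoImplicit false
universe u
open CAlg

namespace Groth.Agent.S6385

/-- Let k be a field, S a finite type k-algebra, q a prime of S and x the corresponding point of X =
Spec S. Then there is g ∈ S, g ∉ q, such that dim S_g equals dim_x X — the minimum of dim S_{g'}
over all g' ∉ q — and, writing d for this dimension, a finite injective k-algebra map from the
polynomial ring k[y_1, ..., y_d] to S_g. -/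
theorem result (k S : Type u) [Field k] [CommRing S] [Algebra k S]
    [Algebra.FiniteType k S] (q : Ideal S) [q.IsPrime] :
    ∃ (g : S) (d : ℕ), g ∉ q ∧ ringKrullDim (Localization.Away g) = d ∧
      (∀ g' : S, g' ∉ q → ringKrullDim (Localization.Away g) ≤ ringKrullDim (Localization.Away g')) ∧
      ∃ φ : MvPolynomial (Fin d) k →ₐ[k] Localization.Away g, Function.Injective φ ∧ φ.toRingHom.Finite := by
  classical
  have key : ∀ g : S, g ∉ q → ∃ (d : ℕ) (φ : MvPolynomial (Fin d) k →ₐ[k] Localization.Away g),
      ringKrullDim (Localization.Away g) = d ∧ Function.Injective φ ∧ φ.toRingHom.Finite := by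
    intro g hg
    haveI : Nontrivial (Localization.Away g) := by
      rw [← not_subsingleton_iff_nontrivial, IsLocalization.subsingleton_iff (M := Submonoid.powers g) (S := Localization.Away g)]
      rintro ⟨n, hn⟩
      exact hg (‹q.IsPrime›.mem_of_pow_mem n (by simp only at hn; rw [hn]; exact q.zero_mem))
    haveI : Algebra.FiniteType k (Localization.Away g) := Algebra.FiniteType.trans (R := k) (S := S) inferInstance inferInstance
    obtain ⟨d, φ, hφ, hfin⟩ := exists_finite_inj_algHom_of_fg k (Localization.Away g)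
    refine ⟨d, φ, ?_, hφ, hfin⟩
    letI := φ.toRingHom.toAlgebra
    haveI : Module.Finite (MvPolynomial (Fin d) k) (Localization.Away g) := hfin
    rw [(Groth.Agent.H05EGA4.dim_int (MvPolynomial (Fin d) k) (Localization.Away g)).2 hφ,
      MvPolynomial.ringKrullDim_of_isNoetherianRing, ringKrullDim_eq_zero_of_field]
    simp
  have hex : ∃ d : ℕ, ∃ g : S, g ∉ q ∧ ringKrullDim (Localization.Away g) = d := by
    obtain ⟨d, -, hd, -⟩ := key 1 (fun h => ‹q.IsPrime›.ne_top ((Ideal.eq_top_iff_one q).mpr h))
    exact ⟨d, 1, fun h => ‹q.IsPrime›.ne_top ((Ideal.eq_top_iff_one q).mpr h), hd⟩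
  obtain ⟨g, hg, hd⟩ := Nat.find_spec hex
  obtain ⟨d, φ, hd', hφ, hfin⟩ := key g hg
  refine ⟨g, d, hg, hd', fun g' hg' => ?_, φ, hφ, hfin⟩
  obtain ⟨d', -, hd'', -⟩ := key g' hg'
  rw [hd, hd'']
  exact_mod_cast Nat.find_min' hex ⟨g', hg', hd''⟩

end Groth.Agent.S6385
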