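import Groth.Statements.S6386
import Mathlib.RingTheory.Flat.EquationalCriterion
import Mathlib.Algebra.FreeAlgebra.Cardinality
import Mathlib.SetTheory.Cardinal.Arithmetic
import Mathlib.Algebra.Algebra.Subalgebra.Directed
-- import your own Groth.Agent.* helpers here

set_option autoImplicit false
universe u
open CAlg

namespace Groth.Agent.S6386

open Cardinal

theorem adjoin_step (A B : Type u) [CommRing A] [CommRing B] [Algebra A B] [Module.Flat A B] (E : Subalgebra A B)
    (hE : Cardinal.mk E ≤ max (Cardinal.mk A) ℵ₀) :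
    ∃ E' : Subalgebra A B, E ≤ E' ∧ Cardinal.mk E' ≤ max (Cardinal.mk A) ℵ₀ ∧
      ∀ (l : ℕ) (f : Fin l → A) (x : Fin l → B), (∀ i, x i ∈ E) → ∑ i, f i • x i = 0 →
        ∃ (k : ℕ) (a : Fin l → Fin k → A) (y : Fin k → B), (∀ j, y j ∈ E') ∧
          (∀ i, x i = ∑ j, a i j • y j) ∧ ∀ j, ∑ i, f i * a i j = 0 := by
  classical
  set κ := max (Cardinal.mk A) ℵ₀
  have hκ : ℵ₀ ≤ κ := le_max_right _ _
  let I := {r : (Σ l : ℕ, (Fin l → A) × (Fin l → E)) // ∑ i, r.2.1 i • (r.2.2 i : B) = 0}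
  choose k a y hy ha using fun r : I => Module.Flat.isTrivialRelation_of_sum_smul_eq_zero r.2
  have hI : Cardinal.mk I ≤ κ := by
    refine (Cardinal.mk_subtype_le _).trans ?_
    rw [Cardinal.mk_sigma]
    refine (Cardinal.sum_le_sum _ (fun _ => κ) fun l => ?_).trans ?_
    · rw [Cardinal.mk_prod, Cardinal.lift_id, Cardinal.lift_id, Cardinal.mk_arrow, Cardinal.mk_arrow]
      simp only [Cardinal.mk_fin, Cardinal.lift_natCast, Cardinal.lift_id, Cardinal.lift_uzero]
      refine (mul_le_mul' ?_ ?_).trans (Cardinal.mul_eq_self hκ).le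
      · exact (Cardinal.power_le_power_right (le_max_left _ _)).trans (Cardinal.power_nat_le hκ)
      · exact (Cardinal.power_le_power_right hE).trans (Cardinal.power_nat_le hκ)
    · rw [Cardinal.sum_const, Cardinal.mk_nat, Cardinal.lift_aleph0, Cardinal.lift_uzero]
      exact (mul_le_mul' hκ le_rfl).trans (Cardinal.mul_eq_self hκ).le
  let Y : Set B := Set.range fun q : (Σ r : I, ULift.{u} (Fin (k r))) => y q.1 q.2.down
  refine ⟨Algebra.adjoin A ((E : Set B) ∪ Y), fun z hz => Algebra.subset_adjoin (Or.inl hz), ?_, ?_⟩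
  · refine (Algebra.cardinalMk_adjoin_le A _).trans ?_
    have hY : Cardinal.mk Y ≤ κ := by
      refine Cardinal.mk_range_le.trans ?_
      rw [Cardinal.mk_sigma]
      refine (Cardinal.sum_le_sum _ (fun _ => κ) fun r => ?_).trans ?_
      · rw [Cardinal.mk_uLift, Cardinal.mk_fin, Cardinal.lift_natCast]; exact Cardinal.natCast_lt_aleph0.le.trans hκ
      · rw [Cardinal.sum_const, Cardinal.lift_id, Cardinal.lift_id]
        exact (mul_le_mul' hI le_rfl).trans (Cardinal.mul_eq_self hκ).le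
    have hU : Cardinal.mk ↥((E : Set B) ∪ Y) ≤ κ :=
      (Cardinal.mk_union_le _ _).trans ((add_le_add hE hY).trans (Cardinal.add_eq_self hκ).le)
    simp only [max_le_iff]
    exact ⟨⟨le_max_left _ _, hU⟩, hκ⟩
  · intro l f x hx hfx
    let r : I := ⟨⟨l, f, fun i => ⟨x i, hx i⟩⟩, hfx⟩
    exact ⟨k r, a r, y r, fun j => Algebra.subset_adjoin (Or.inr ⟨⟨r, ⟨j⟩⟩, rfl⟩), hy r, ha r⟩

/-- The key step of its proof: let A be a ring, κ = max(|A|, ℵ₀), and B a flat A-algebra. Then every
A-subalgebra E ⊆ B with at most κ elements lies inside a flat A-subalgebra B' ⊆ B with at most κ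
elements. Consequently B is the filtered colimit (union) of its flat A-subalgebras of cardinality at
most κ. -/
theorem result (A B : Type u) [CommRing A] [CommRing B] [Algebra A B]
    [Module.Flat A B] (E : Subalgebra A B) (hE : Cardinal.mk E ≤ max (Cardinal.mk A) Cardinal.aleph0) :
    ∃ B' : Subalgebra A B, E ≤ B' ∧ Module.Flat A B' ∧ Cardinal.mk B' ≤ max (Cardinal.mk A) Cardinal.aleph0 := by
  classical
  let T := {E' : Subalgebra A B // Cardinal.mk E' ≤ max (Cardinal.mk A) Cardinal.aleph0}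
  choose nxt hle hcard hrel using fun E' : T => adjoin_step A B E'.1 E'.2
  let seq : ℕ → T := fun n => Nat.rec ⟨E, hE⟩ (fun _ E' => ⟨nxt E', hcard E'⟩) n
  have hmono : Monotone fun n => (seq n).1 := monotone_nat_of_le_succ fun n => hle (seq n)
  let B' : Subalgebra A B := ⨆ n, (seq n).1
  have hmem : ∀ {z : B}, z ∈ B' ↔ ∃ n, z ∈ (seq n).1 := fun {z} => by
    rw [← SetLike.mem_coe, Subalgebra.coe_iSup_of_directed hmono.directed_le]
    simp
  refine ⟨B', le_iSup (fun n => (seq n).1) 0, ?_, ?_⟩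
  · refine Module.Flat.of_forall_isTrivialRelation fun {l f x} hfx => ?_
    obtain ⟨n, hn⟩ : ∃ n, ∀ i, (x i : B) ∈ (seq n).1 := by
      choose m hm using fun i => hmem.mp (x i).2
      exact ⟨Finset.univ.sup m, fun i => hmono (Finset.le_sup (Finset.mem_univ i)) (hm i)⟩
    obtain ⟨k, a, y, hy, hxy, ha⟩ := hrel (seq n) l f (fun i => x i) hn (by simpa using congrArg Subtype.val hfx)
    exact ⟨k, a, fun j => ⟨y j, hmem.mpr ⟨n + 1, hy j⟩⟩, fun i => Subtype.ext (by simpa using hxy i), ha⟩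
  · have h1 : (B' : Set B) = ⋃ n, ((seq n).1 : Set B) := Subalgebra.coe_iSup_of_directed hmono.directed_le
    show Cardinal.mk ↥(B' : Set B) ≤ _
    rw [h1]
    rw [show (⋃ n, ((seq n).1 : Set B)) = ⋃ n : ULift.{u} ℕ, ((seq n.down).1 : Set B) from
      (Equiv.ulift.surjective.iUnion_comp fun n => ((seq n).1 : Set B)).symm]
    refine (Cardinal.mk_iUnion_le_sum_mk).trans ((Cardinal.sum_le_sum _ (fun _ => max (Cardinal.mk A) Cardinal.aleph0)
      fun n => (seq (ULift.down n)).2).trans ?_)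
    rw [Cardinal.sum_const, Cardinal.lift_id, Cardinal.lift_id, Cardinal.mk_uLift, Cardinal.mk_nat, Cardinal.lift_aleph0]
    exact (mul_le_mul' (le_max_right _ _) le_rfl).trans (Cardinal.mul_eq_self (le_max_right _ _)).le

end Groth.Agent.S6386
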