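import Groth.Statements.S6387
import Groth.Agent.H7Flat.InjectiveModMax
import Mathlib.Algebra.Homology.ShortComplex.ModuleCat
import Mathlib.LinearAlgebra.TensorProduct.Quotient

set_option autoImplicit false
universe u
open CategoryTheory
open CAlg

namespace Groth.Agent.S6387

/-- Let R and S be Noetherian local rings, R → S a local ring map, and m the maximal ideal of R. Take a
bounded complex F_e → … → F_1 → F_0 of finitely generated S-modules, zero to the left of F_e (a
chain complex C with C_j = 0 for j > e) such that every F_j is flat over R and the complex 0 →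
F_e/mF_e → … → F_0/mF_0 (C tensored over S with S/mS) is exact at F_e, …, F_1. Then 0 → F_e → … →
F_0 is exact at F_e, …, F_1 and the cokernel of F_1 → F_0 (the homology of C in degree 0) is flat
over R. -/
theorem result {R S : Type u} [CommRing R] [CommRing S]
    [IsLocalRing R] [IsLocalRing S] [IsNoetherianRing R] [IsNoetherianRing S] [Algebra R S]
    [IsLocalHom (algebraMap R S)] (C : ChainComplex (ModuleCat.{u} S) ℕ) (e : ℕ)
    (hzero : ∀ j, e < j → Limits.IsZero (C.X j)) (hfin : ∀ j, Module.Finite S (C.X j))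
    (hflat : ∀ j, Module.Flat R ((ModuleCat.restrictScalars (algebraMap R S)).obj (C.X j)))
    (hex : ∀ j, 1 ≤ j → j ≤ e →
      (((MonoidalCategory.tensorLeft
          (ModuleCat.of S (S ⧸ (IsLocalRing.maximalIdeal R).map (algebraMap R S)))).mapHomologicalComplex
          (ComplexShape.down ℕ)).obj C).ExactAt j) :
    (∀ j, 1 ≤ j → j ≤ e → C.ExactAt j) ∧
      Module.Flat R ((ModuleCat.restrictScalars (algebraMap R S)).obj (C.homology 0)) := by
  classical
  letI instR : ∀ j, Module R (C.X j) := fun j => Module.compHom (C.X j) (algebraMap R S)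
  haveI : ∀ j, IsScalarTower R S (C.X j) := fun j => IsScalarTower.of_algebraMap_smul fun r x => rfl
  haveI : ∀ j, Module.Flat R (C.X j) := fun j => hflat j
  haveI := hfin
  set J := (IsLocalRing.maximalIdeal R).map (algebraMap R S)
  have hsm : ∀ {P : Type u} [AddCommGroup P] [Module S P] [Module R P] [IsScalarTower R S P] (x : P),
      x ∈ J • (⊤ : Submodule S P) ↔ x ∈ IsLocalRing.maximalIdeal R • (⊤ : Submodule R P) := by
    intro P _ _ _ _ x
    have : IsLocalRing.maximalIdeal R • (⊤ : Submodule R P) =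
        (J • (⊤ : Submodule S P)).restrictScalars R := by
      rw [Ideal.smul_restrictScalars, Submodule.restrictScalars_top]
    rw [this, Submodule.restrictScalars_mem]
  let B : ∀ j, Submodule S (C.X j) := fun j => LinearMap.range (C.d (j + 1) j).hom
  have hmk : ∀ j (y : C.X j), ((Ideal.Quotient.mk J (1 : S)) ⊗ₜ[S] y) = 0 ↔ y ∈ J • (⊤ : Submodule S (C.X j)) := by
    intro j y
    rw [← (TensorProduct.quotTensorEquivQuotSMul (C.X j) J).map_eq_zero_iff,
      TensorProduct.quotTensorEquivQuotSMul_mk_tmul, one_smul, Submodule.Quotient.mk_eq_zero]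
  -- exactness of the fibre, elementwise
  have hfib : ∀ j, 1 ≤ j → j ≤ e → ∀ y : C.X j, (C.d j (j - 1)).hom y ∈ J • (⊤ : Submodule S (C.X (j - 1))) →
      y ∈ B j ⊔ J • (⊤ : Submodule S (C.X j)) := by
    intro j h1 h2 y hy
    let F := ((MonoidalCategory.tensorLeft (ModuleCat.of S (S ⧸ J))).mapHomologicalComplex
      (ComplexShape.down ℕ)).obj C
    have h := (HomologicalComplex.exactAt_iff' F (j + 1) j (j - 1) (by simp) (by
      obtain ⟨i, rfl⟩ : ∃ i, j = i + 1 := ⟨j - 1, by omega⟩
      simp)).mp (hex j h1 h2)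
    rw [ShortComplex.ShortExact.moduleCat_exact_iff_function_exact] at h
    obtain ⟨w, hw⟩ := (h ((Ideal.Quotient.mk J (1 : S)) ⊗ₜ[S] y)).mp (by
      show (Ideal.Quotient.mk J (1 : S)) ⊗ₜ[S] ((C.d j (j - 1)).hom y) = (0 : TensorProduct S (S ⧸ J) (C.X (j - 1)))
      exact (hmk _ _).mpr hy)
    obtain ⟨w₀, rfl⟩ := TensorProduct.mk_surjective S (C.X (j + 1)) (S ⧸ J) Ideal.Quotient.mk_surjective w
    have h3 : (Ideal.Quotient.mk J (1 : S)) ⊗ₜ[S] ((C.d (j + 1) j).hom w₀) =
        ((Ideal.Quotient.mk J (1 : S)) ⊗ₜ[S] y : TensorProduct S (S ⧸ J) (C.X j)) := hw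
    rw [← sub_eq_zero, ← TensorProduct.tmul_sub, hmk] at h3
    rw [Submodule.mem_sup]
    exact ⟨_, ⟨w₀, rfl⟩, -((C.d (j + 1) j).hom w₀ - y), neg_mem h3, by abel⟩
  have key : ∀ k j, j + k = e → Module.Flat R (C.X j ⧸ B j) ∧ ∀ i, j < i → i ≤ e → C.ExactAt i := by
    intro k
    induction k with
    | zero =>
      intro j hj
      refine ⟨?_, fun i h1 h2 => absurd h1 (by omega)⟩
      have hB : B j = ⊥ := by
        haveI := ModuleCat.subsingleton_of_isZero (hzero (j + 1) (by omega))
        rw [eq_bot_iff]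
        rintro _ ⟨x, rfl⟩
        rw [Subsingleton.elim x 0, map_zero]
        exact zero_mem _
      exact Module.Flat.of_linearEquiv ((Submodule.quotEquivOfEqBot _ hB).restrictScalars R)
    | succ k ih =>
      intro j hj
      obtain ⟨hflatQ, hexQ⟩ := ih (j + 1) (by omega)
      have hle : B (j + 1) ≤ LinearMap.ker (C.d (j + 1) j).hom := by
        rintro _ ⟨x, rfl⟩
        exact LinearMap.congr_fun (congrArg ModuleCat.Hom.hom (C.d_comp_d (j + 2) (j + 1) j)) x
      let v : (C.X (j + 1) ⧸ B (j + 1)) →ₗ[S] C.X j := (B (j + 1)).liftQ _ hle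
      have hv : Function.Injective ((v.restrictScalars R).lTensor (IsLocalRing.ResidueField R)) := by
        refine Groth.Agent.H7Flat.lTensor_residueField_injective _ fun x hx => ?_
        obtain ⟨y, rfl⟩ := Submodule.Quotient.mk_surjective _ x
        have hy := hfib (j + 1) (by omega) (by omega) y ((hsm _).mpr hx)
        rw [← hsm]
        obtain ⟨a, ha, b, hb, rfl⟩ := Submodule.mem_sup.mp hy
        rw [Submodule.Quotient.mk_add, (Submodule.Quotient.mk_eq_zero _).mpr ha, zero_add]
        have := Submodule.mem_map_of_mem (f := (B (j + 1)).mkQ) hb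
        rw [Submodule.map_smul''] at this
        exact Submodule.smul_mono le_rfl le_top this
      obtain ⟨hinj, hfl⟩ := Groth.Agent.H7Flat.injective_and_flat_quotient (S := S) (v.restrictScalars R) hv
      have hr : LinearMap.range (v.restrictScalars R) = (B j).restrictScalars R := by
        ext z
        constructor
        · rintro ⟨x, rfl⟩
          obtain ⟨y, rfl⟩ := Submodule.Quotient.mk_surjective _ x
          exact ⟨y, rfl⟩
        · rintro ⟨y, rfl⟩
          exact ⟨Submodule.Quotient.mk y, rfl⟩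
      haveI := hfl
      refine ⟨Module.Flat.of_linearEquiv ((Submodule.quotEquivOfEq _ _ hr).trans
        (Submodule.Quotient.restrictScalarsEquiv R (B j))).symm, fun i h1 h2 => ?_⟩
      rcases Nat.lt_or_ge (j + 1) i with h | h
      · exact hexQ i h h2
      · obtain rfl : i = j + 1 := by omega
        rw [HomologicalComplex.exactAt_iff' C (j + 2) (j + 1) j (by simp) (by simp),
          ShortComplex.moduleCat_exact_iff_range_eq_ker]
        refine le_antisymm hle fun x hx => ?_
        have : v (Submodule.Quotient.mk x) = 0 := hx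
        exact (Submodule.Quotient.mk_eq_zero _).mp (hinj (show v.restrictScalars R _ = v.restrictScalars R 0 by
          rw [map_zero]; exact this))
  obtain ⟨hQ0, hexact⟩ := key e 0 (by omega)
  refine ⟨fun j h1 h2 => hexact j (by omega) h2, ?_⟩
  let S' := C.sc' 1 0 0
  let eH : C.homology 0 ≅ S'.moduleCatLeftHomologyData.H :=
    ShortComplex.homologyMapIso (C.isoSc' 1 0 0 (by simp) (by simp)) ≪≫
      S'.moduleCatLeftHomologyData.homologyIso
  have hker : LinearMap.ker S'.g.hom = ⊤ := by
    show LinearMap.ker (C.d 0 0).hom = ⊤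
    rw [C.shape 0 0 (by simp), ModuleCat.hom_zero, LinearMap.ker_zero]
  let e1 : (LinearMap.ker S'.g.hom) ≃ₗ[S] C.X 0 := LinearEquiv.ofTop _ hker
  have e2 : (LinearMap.range S'.moduleCatToCycles).map (e1 : _ →ₗ[S] C.X 0) = B 0 := by
    ext z
    constructor
    · rintro ⟨_, ⟨x, rfl⟩, rfl⟩
      exact ⟨x, rfl⟩
    · rintro ⟨x, rfl⟩
      exact ⟨_, ⟨x, rfl⟩, rfl⟩
  let eQ : C.homology 0 ≃ₗ[S] (C.X 0 ⧸ B 0) :=
    eH.toLinearEquiv.trans (Submodule.Quotient.equiv _ _ e1 e2)
  letI : Module R (C.homology 0) := Module.compHom (C.homology 0) (algebraMap R S)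
  haveI : IsScalarTower R S (C.homology 0) := IsScalarTower.of_algebraMap_smul fun r x => rfl
  haveI := hQ0
  exact (Module.Flat.of_linearEquiv (eQ.restrictScalars R) : Module.Flat R (C.homology 0))

end Groth.Agent.S6387
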