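import Groth.Statements.S6390
import Groth.Agent.H1CAlg.Kaplansky

set_option autoImplicit false
universe u
open scoped Classical
open CAlg

namespace Groth.Agent.S6390

/-- An R-module M is a direct sum of countably generated modules if and only if it admits a Kaplansky
dévissage, i.e. an increasing family of submodules (M_s) indexed by a well-ordered set S with M_s =
⋃_{t<s} M_t at non-successor indices (so the first term is 0), ⋃_s M_s = M, and, whenever t is the
successor of s, M_s a direct summand of M_t with M_t/M_s countably generated. -/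
theorem result (R : Type u) [CommRing R] (M : Type u)
    [AddCommGroup M] [Module R M] :
    (∃ (ι : Type u) (N : ι → Submodule R M), DirectSum.IsInternal N ∧ ∀ i, CAlg.IsCountablyGenerated R (N i)) ↔
      ∃ (S : Type u) (_ : LinearOrder S) (_ : WellFoundedLT S) (Mf : S → Submodule R M), Monotone Mf ∧
        (∀ s : S, Order.IsSuccPrelimit s → Mf s = ⨆ t : {t : S // t < s}, Mf t.1) ∧
        (⨆ s, Mf s) = ⊤ ∧
        (∀ s t : S, s ⋖ t → ∃ C : Submodule R M, Mf s ⊓ C = ⊥ ∧ Mf s ⊔ C = Mf t ∧
          CAlg.IsCountablyGenerated R (↥(Mf t) ⧸ Submodule.comap (Mf t).subtype (Mf s))) := by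
  constructor
  · rintro ⟨ι, N, hN, hc⟩
    obtain ⟨S, _, _, Mf, hmono, hlim, htop, hstep⟩ := Groth.Agent.H1CAlg.exists_filtration_of_isInternal N hN
    refine ⟨S, inferInstance, inferInstance, Mf, hmono, hlim, htop, fun s t hst => ?_⟩
    obtain ⟨i, h1, h2⟩ := hstep s t hst
    exact ⟨N i, h1, h2, Groth.Agent.H1CAlg.isCountablyGenerated_of_surjective
      (Groth.Agent.H1CAlg.complEquivQuotient h1 h2).toLinearMap
      (Groth.Agent.H1CAlg.complEquivQuotient h1 h2).surjective (hc i)⟩
  · rintro ⟨S, _, _, Mf, hmono, hlim, htop, hC⟩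
    choose C hdis hsup hc using fun p : {p : S × S // p.1 ⋖ p.2} => hC p.1.1 p.1.2 p.2
    exact ⟨_, C, (by convert Groth.Agent.H1CAlg.isInternal_of_filtration Mf hmono hlim htop C hdis hsup), fun p =>
      Groth.Agent.H1CAlg.isCountablyGenerated_of_surjective
        (Groth.Agent.H1CAlg.complEquivQuotient (hdis p) (hsup p)).symm.toLinearMap
        (Groth.Agent.H1CAlg.complEquivQuotient (hdis p) (hsup p)).symm.surjective (hc p)⟩

end Groth.Agent.S6390
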