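import Groth.Statements.S6391
import Groth.Agent.H1CAlg.IndEtalePtColim

set_option autoImplicit false
universe u
open CAlg

namespace Groth.Agent.S6391

/-- Let R be a ring, S and S' henselian local rings which are filtered colimits of étale R-algebras, and
K a field together with R-algebra maps S → K and S' → K identifying K with the residue field of each
(surjective with kernel the maximal ideal). Then exactly one isomorphism of R-algebras S → S'
commutes with the two maps to K. -/
theorem result (R S S' K : Type u) [CommRing R]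
    [CommRing S] [CommRing S'] [Field K] [HenselianLocalRing S] [HenselianLocalRing S']
    [Algebra R S] [Algebra R S'] [Algebra R K] (hS : EtPBC.IsIndEtale R S) (hS' : EtPBC.IsIndEtale R S')
    (u : S →ₐ[R] K) (u' : S' →ₐ[R] K) (hu : Function.Surjective u) (hu' : Function.Surjective u')
    (hku : RingHom.ker u.toRingHom = IsLocalRing.maximalIdeal S)
    (hku' : RingHom.ker u'.toRingHom = IsLocalRing.maximalIdeal S') :
    ∃! e : S ≃ₐ[R] S', u'.comp (e : S →ₐ[R] S') = u := by
  haveI : HenselianRing S (RingHom.ker u) := by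
    rw [show RingHom.ker u = IsLocalRing.maximalIdeal S from hku]; infer_instance
  haveI : HenselianRing S' (RingHom.ker u') := by
    rw [show RingHom.ker u' = IsLocalRing.maximalIdeal S' from hku']; infer_instance
  have hp := H1CAlg.IndEtale.isPtColim_of_isIndEtale hS u hu
  have hp' := H1CAlg.IndEtale.isPtColim_of_isIndEtale hS' u' hu'
  let e₁ : (S ⧸ RingHom.ker u) ≃ₐ[R] K := Ideal.quotientKerAlgEquivOfSurjective hu
  let e₂ : (S' ⧸ RingHom.ker u') ≃ₐ[R] K := Ideal.quotientKerAlgEquivOfSurjective hu'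
  obtain ⟨g, hg, -⟩ := hp.existsUnique_algHom (J := RingHom.ker u') e₂.symm.toAlgHom
  obtain ⟨g', hg', -⟩ := hp'.existsUnique_algHom (J := RingHom.ker u) e₁.symm.toAlgHom
  have hg1 : u'.comp g = u := AlgHom.ext fun x =>
    (congrArg e₂ (DFunLike.congr_fun hg x)).trans (e₂.apply_symm_apply _)
  have hg2 : u.comp g' = u' := AlgHom.ext fun x =>
    (congrArg e₁ (DFunLike.congr_fun hg' x)).trans (e₁.apply_symm_apply _)
  have hcomp : ∀ {T T' : Type u} [CommRing T] [Algebra R T] [CommRing T'] [Algebra R T']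
      (π : T →ₐ[R] K) (π' : T' →ₐ[R] K), H9Hens.IsPtColim π → H9Hens.IsPtColim π' →
      ∀ f f' : T →ₐ[R] T', π'.comp f = π → π'.comp f' = π → f = f' := by
    intro T T' _ _ _ _ π π' hπ hπ' f f' hf hf'
    refine AlgHom.ext fun x => ?_
    obtain ⟨E, _, _, _, φ, s, rfl⟩ := hπ.exists_rep x
    exact DFunLike.congr_fun (hπ'.hom_ext (φ := f.comp φ) (φ' := f'.comp φ) (by
      rw [← AlgHom.comp_assoc, ← AlgHom.comp_assoc, hf, hf'])) s
  have h1 : g'.comp g = AlgHom.id R S := hcomp u u hp hp _ _
    (by rw [← AlgHom.comp_assoc, hg2, hg1]) (AlgHom.comp_id u)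
  have h2 : g.comp g' = AlgHom.id R S' := hcomp u' u' hp' hp' _ _
    (by rw [← AlgHom.comp_assoc, hg1, hg2]) (AlgHom.comp_id u')
  refine ⟨AlgEquiv.ofAlgHom g g' h2 h1, hg1, fun e he => ?_⟩
  exact AlgEquiv.ext fun x =>
    DFunLike.congr_fun (hcomp u u' hp hp' e.toAlgHom g he hg1) x

end Groth.Agent.S6391
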