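import Groth.Statements.S6392
import Groth.Agent.S6357
import Groth.Agent.H1CAlg.CountableML

set_option autoImplicit false
universe u
open CAlg

namespace Groth.Agent.S6392

/-- Suppose M is the colimit of finitely presented R-modules G_i along a directed system over a nonempty
directed index set (transition maps f_ij), and M is both Mittag-Leffler and countably generated.
Then some countable directed subset I' of the indices already computes M: the canonical map from the
colimit of the G_i with i ∈ I' to M is bijective. -/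
theorem result (R : Type u) [CommRing R]
    {ι : Type u} [Preorder ι] [IsDirected ι (· ≤ ·)] [Nonempty ι] [DecidableEq ι] (G : ι → Type u)
    [∀ i, AddCommGroup (G i)] [∀ i, Module R (G i)] [∀ i, Module.FinitePresentation R (G i)]
    (f : ∀ i j, i ≤ j → G i →ₗ[R] G j) [DirectedSystem G fun i j h => f i j h]
    (hML : CAlg.IsMittagLeffler R (Module.DirectLimit G f))
    (hc : CAlg.IsCountablyGenerated R (Module.DirectLimit G f)) :
    ∃ I' : Set ι, I'.Countable ∧ DirectedOn (· ≤ ·) I' ∧
      Function.Bijective (Module.DirectLimit.lift R I' (fun i : I' => G i.1)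
        (fun (i j : I') (h : i ≤ j) => f i.1 j.1 h)
        (fun i : I' => Module.DirectLimit.of R ι G f i.1)
        (fun (i j : I') (h : i ≤ j) (x : G i.1) => Module.DirectLimit.of_f)) := by
  classical
  obtain ⟨x, hx⟩ := Groth.Agent.H1CAlg.exists_seq_of_countablyGenerated hc
  choose j hij hj using (Groth.Agent.S6357.result R G f).mp hML
  choose l y hy using fun n => Module.DirectLimit.exists_of (x n)
  choose up hup using fun (i : ι) (n : ℕ) => exists_ge_ge (j i) (l n)
  let I : ℕ → ι := fun n => Nat.rec (Classical.arbitrary ι) (fun m i => up i m) n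
  have hstep : ∀ n, j (I n) ≤ I (n + 1) := fun n => (hup (I n) n).1
  have hmono : Monotone I := monotone_nat_of_le_succ fun n => (hij _).trans (hstep n)
  have hdir : DirectedOn (· ≤ ·) (Set.range I) := by
    rintro _ ⟨a, rfl⟩ _ ⟨b, rfl⟩
    exact ⟨I (max a b), ⟨_, rfl⟩, hmono (le_max_left a b), hmono (le_max_right a b)⟩
  haveI : IsDirected (Set.range I) (· ≤ ·) := directedOn_iff_directed.mp hdir |> fun h => ⟨fun a b => h a b⟩
  haveI : Nonempty (Set.range I) := ⟨⟨I 0, 0, rfl⟩⟩
  haveI : DirectedSystem (fun i : Set.range I => G i.1) (fun (a b : Set.range I) (h : a ≤ b) => f a.1 b.1 h) :=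
    { map_self := fun i z => DirectedSystem.map_self' (f := f) z
      map_map := fun _ _ _ hab hbc z => DirectedSystem.map_map' (f := f) hab hbc z }
  refine ⟨Set.range I, Set.countable_range I, hdir, (injective_iff_map_eq_zero _).mpr ?_,
    LinearMap.range_eq_top.mp (top_unique ?_)⟩
  · intro z hz
    obtain ⟨⟨_, n, rfl⟩, w, rfl⟩ := Module.DirectLimit.exists_of z
    rw [Module.DirectLimit.lift_of] at hz
    obtain ⟨k, hk, hw⟩ := Module.DirectLimit.of.zero_exact hz
    obtain ⟨g, hg⟩ := hj (I n) k hk
    have h0 : f (I n) (I (n + 1)) ((hij _).trans (hstep n)) w = 0 := by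
      rw [← DirectedSystem.map_map' (f := f) (hij _) (hstep n), hg, LinearMap.comp_apply, hw, map_zero, map_zero]
    have := Module.DirectLimit.of_f (R := R) (ι := Set.range I) (G := fun i : Set.range I => G i.1)
      (f := fun (a b : Set.range I) (h : a ≤ b) => f a.1 b.1 h) (i := ⟨I n, n, rfl⟩) (j := ⟨I (n + 1), n + 1, rfl⟩)
      (hij := (hij _).trans (hstep n)) (x := w)
    rw [← this]
    simp [h0]
  · rw [← hx, Submodule.span_le]
    rintro _ ⟨n, rfl⟩
    refine ⟨Module.DirectLimit.of R (Set.range I) (fun i => G i.1) _ ⟨I (n + 1), n + 1, rfl⟩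
      (f (l n) (I (n + 1)) (hup (I n) n).2 (y n)), ?_⟩
    rw [Module.DirectLimit.lift_of, Module.DirectLimit.of_f, hy]

end Groth.Agent.S6392
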