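import Groth.Statements.S6398
import Groth.Agent.H14Fib.FiberFun

set_option autoImplicit false
set_option backward.isDefEq.respectTransparency false
set_option backward.isDefEq.respectTransparency.types false
open CategoryTheory
universe v u
open FibCat

namespace Groth.Agent.S6398

/-- A functor `G` over `C` between categories fibred in groupoids is an equivalence of categories if and
only if each induced functor of fibre categories `𝒳_U ⥤ 𝒴_U` is an equivalence of categories. -/
theorem result {C : Type u} [Category.{v} C] {𝒳 𝒴 : BasedCategory.{v, max u v} C} (G : 𝒳 ⥤ᵇ 𝒴) (h𝒳 : FibCat.IsFibGrpd 𝒳.p) (h𝒴 : FibCat.IsFibGrpd 𝒴.p) :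
    G.toFunctor.IsEquivalence ↔ ∀ U : C, (FibCat.fiberFunctor G U).IsEquivalence := by
  have := H14Fib.isFibered_of_fibGrpd h𝒳
  have hGU : ∀ U : C, FibCat.fiberFunctor G U ⋙ Functor.Fiber.fiberInclusion =
      Functor.Fiber.fiberInclusion ⋙ G.toFunctor := fun U => rfl
  rw [← H14Fib.isEquivOver_iff_fam hGU (H14Fib.MapSC.of_fibGrpd G h𝒴)]
  exact ⟨fun _ => H14Fib.isEquivOver_of_isEquivalence (fun T S α ξ hξ => H14Fib.exists_iso_lift α ξ hξ) G,
    fun h => H14Fib.isEquivalence_of_isEquivOver h⟩

end Groth.Agent.S6398
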