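import Groth.Statements.S6399
import Groth.Agent.H14Fib.FiberFun
import Groth.Agent.H14Fib.Fp

set_option autoImplicit false
set_option backward.isDefEq.respectTransparency false
set_option backward.isDefEq.respectTransparency.types false
open CategoryTheory
universe v u
open FibCat

namespace Groth.Agent.S6399

/-- A functor `G : 𝒳 ⟶ 𝒴` over `C` between categories fibred in groupoids is fully faithful if and only
if the diagonal `𝒳 ⟶ 𝒳 ×_𝒴 𝒳` is an equivalence over `C`. -/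
theorem result {C : Type u} [Category.{v} C] {𝒳 𝒴 : BasedCategory.{v, max u v} C} (G : 𝒳 ⥤ᵇ 𝒴) (h𝒳 : FibCat.IsFibGrpd 𝒳.p) (h𝒴 : FibCat.IsFibGrpd 𝒴.p) :
    (G.toFunctor.Full ∧ G.toFunctor.Faithful) ↔ FibCat.IsEquivOver (FibCat.diag G) := by
  have := H14Fib.isFibered_of_fibGrpd h𝒳
  constructor
  · rintro ⟨_, _⟩
    refine (H14Fib.isEquivOver_iff _).2 ⟨⟨⟨fun {a b} m => ?_⟩, ⟨fun {a b} f g h => ?_⟩⟩, fun z => ?_⟩
    · have hw : G.map m.hom.fst ≫ 𝟙 _ = 𝟙 _ ≫ G.map m.hom.snd := m.hom.w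
      have : m.hom.fst = m.hom.snd := G.toFunctor.map_injective
        ((Category.comp_id _).symm.trans (hw.trans (Category.id_comp _)))
      exact ⟨m.hom.fst, H14Fib.fp_hom_ext rfl this⟩
    · exact congrArg (fun t => t.hom.fst) h
    · let i := G.toFunctor.preimageIso z.obj.iso
      have hz : 𝒴.p.IsHomLift (𝟙 (𝒳.p.obj z.obj.fst)) z.obj.iso.hom := z.property
      have hi : G.map i.hom = z.obj.iso.hom := G.toFunctor.map_preimage _
      let w : (FibCat.diag G).obj z.obj.fst ⟶ z := H14Fib.fpHom (𝟙 _) i.hom (by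
        change G.map (𝟙 _) ≫ z.obj.iso.hom = 𝟙 _ ≫ G.map i.hom
        rw [hi]; simp)
      let w' : z ⟶ (FibCat.diag G).obj z.obj.fst := H14Fib.fpHom (𝟙 _) i.inv (by
        change G.map (𝟙 _) ≫ 𝟙 _ = z.obj.iso.hom ≫ G.map i.inv
        rw [← hi, ← Functor.map_comp, i.hom_inv_id]
        exact Category.comp_id _)
      refine ⟨z.obj.fst, ⟨w, w', H14Fib.fp_hom_ext (Category.id_comp _) i.hom_inv_id,
        H14Fib.fp_hom_ext (Category.id_comp _) i.inv_hom_id⟩, ?_⟩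
      exact (H14Fib.fp_isHomLift_iff _ _).2 (IsHomLift.id rfl)
  · intro h
    obtain ⟨⟨_, _⟩, hs⟩ := (H14Fib.isEquivOver_iff _).1 h
    have hMap := H14Fib.MapSC.of_fibGrpd G h𝒴
    have vert : ∀ {U : C} {a b : 𝒳.obj}, 𝒳.p.obj a = U → 𝒳.p.obj b = U → ∀ ψ : G.obj a ⟶ G.obj b,
        𝒴.p.IsHomLift (𝟙 U) ψ → ∃ φ : a ⟶ b, 𝒳.p.IsHomLift (𝟙 U) φ ∧ G.map φ = ψ := by
      intro U a b ha hb ψ hψ
      subst ha
      have := H14Fib.isIso_of_fibGrpd h𝒴 (𝟙 (𝒳.p.obj a)) ψ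
      let z : (FibCat.fp G G).obj := ⟨{ fst := a, snd := b, iso := asIso ψ }, hψ⟩
      obtain ⟨ξ, e, he⟩ := hs z
      have := H14Fib.fp_isHomLift_fst (𝟙 ((FibCat.fp G G).p.obj z)) e.hom
      have := H14Fib.fp_isHomLift_snd' (𝟙 ((FibCat.fp G G).p.obj z)) e.hom
      have hinv := IsHomLift.lift_id_inv (FibCat.fp G G).p ((FibCat.fp G G).p.obj z) e
      have := H14Fib.fp_isHomLift_fst (𝟙 ((FibCat.fp G G).p.obj z)) e.inv
      refine ⟨e.inv.hom.fst ≫ e.hom.hom.snd, inferInstanceAs (𝒳.p.IsHomLift (𝟙 ((FibCat.fp G G).p.obj z)) (e.inv.hom.fst ≫ e.hom.hom.snd)), ?_⟩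
      have hw : G.map e.hom.hom.fst ≫ ψ = 𝟙 _ ≫ G.map e.hom.hom.snd := e.hom.hom.w
      have e1 : e.inv.hom.fst ≫ e.hom.hom.fst = 𝟙 _ := congrArg (fun t => t.hom.fst) e.inv_hom_id
      rw [Functor.map_comp, ← Category.id_comp (G.map e.hom.hom.snd)]
      erw [← hw]
      rw [← Category.assoc, ← Functor.map_comp, e1]
      exact (congrArg (· ≫ ψ) (G.toFunctor.map_id _)).trans (Category.id_comp ψ)
    refine ⟨H14Fib.full_of_vertFull hMap (fun U a b ha hb ψ hψ => vert ha hb ψ hψ),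
      H14Fib.faithful_of_vertFaithful hMap ?_⟩
    intro U a b φ ψ hφ hψ heq
    let m : (FibCat.diag G).obj a ⟶ (FibCat.diag G).obj b := H14Fib.fpHom φ ψ (by
      change G.map φ ≫ 𝟙 _ = 𝟙 _ ≫ G.map ψ
      exact (Category.comp_id _).trans (heq.trans (Category.id_comp _).symm))
    obtain ⟨t, ht⟩ := (FibCat.diag G).toFunctor.map_surjective m
    exact (congrArg (fun s => s.hom.fst) ht).symm.trans (congrArg (fun s => s.hom.snd) ht)

end Groth.Agent.S6399
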