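import Groth.Statements.S6402
import Groth.Agent.H14Fib.Basic
import Groth.Agent.H14Fib.Fp
import Groth.Agent.H14Fib.Equiv

set_option autoImplicit false
set_option backward.isDefEq.respectTransparency false
set_option backward.isDefEq.respectTransparency.types false
open CategoryTheory
universe v u
open FibCat

namespace Groth.Agent.S6402

/-- For a functor `F : 𝒳 ⟶ 𝒴` of fibred categories over `C` preserving strongly cartesian morphisms, the
relative inertia `I_{𝒳/𝒴}` (pairs `(x, α)` with `α` an automorphism of `x` sent to the identity by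
`F`) is equivalent over `C` to `𝒳 ×_{Δ, 𝒳 ×_𝒴 𝒳, Δ} 𝒳`, by a functor over `C` whose composite with
either projection is the forgetful functor `(x, α) ↦ x`. (Only the two projections of the
equivalence are pinned here; its 2-cell component at `(x, α)` is `(α, 𝟙)`.) -/
theorem result {C : Type u} [Category.{v} C] {𝒳 𝒴 : BasedCategory.{v, max u v} C} [𝒳.p.IsFibered] [𝒴.p.IsFibered] (F : 𝒳 ⥤ᵇ 𝒴) (hF : FibCat.PreservesStronglyCartesian F) :
    ∃ E : FibCat.inertia F ⥤ᵇ FibCat.fp (FibCat.diag F) (FibCat.diag F),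
      FibCat.IsEquivOver E ∧ BasedFunctor.comp E (FibCat.fpFst _ _) = FibCat.inertiaToBase F ∧
        BasedFunctor.comp E (FibCat.fpSnd _ _) = FibCat.inertiaToBase F := by
  let D := FibCat.diag F
  have hl : ∀ a : FibCat.InertiaObj F, 𝒳.p.IsHomLift (𝟙 (𝒳.p.obj a.pt)) a.aut.hom := fun a => by
    rw [← BasedFunctor.isHomLift_iff F, a.map_aut]; infer_instance
  let io : ∀ a : FibCat.InertiaObj F, D.obj a.pt ≅ D.obj a.pt := fun a =>
    { hom := H14Fib.fpHom a.aut.hom (𝟙 _) (by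
        change F.map a.aut.hom ≫ 𝟙 _ = 𝟙 _ ≫ F.map (𝟙 _)
        rw [a.map_aut]
        simp)
      inv := H14Fib.fpHom a.aut.inv (𝟙 _) (by
        change F.map a.aut.inv ≫ 𝟙 _ = 𝟙 _ ≫ F.map (𝟙 _)
        have : F.map a.aut.inv = 𝟙 _ := by
          calc F.map a.aut.inv = 𝟙 _ ≫ F.map a.aut.inv := (Category.id_comp _).symm
            _ = F.map a.aut.hom ≫ F.map a.aut.inv := by rw [a.map_aut]
            _ = 𝟙 _ := by rw [← Functor.map_comp, a.aut.hom_inv_id]; exact CategoryTheory.Functor.map_id _ _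
        rw [this]
        simp)
      hom_inv_id := H14Fib.fp_hom_ext a.aut.hom_inv_id (Category.id_comp _)
      inv_hom_id := H14Fib.fp_hom_ext a.aut.inv_hom_id (Category.id_comp _) }
  let E : FibCat.inertia F ⥤ᵇ FibCat.fp D D :=
    { toFunctor :=
        { obj := fun a => ⟨{ fst := a.pt, snd := a.pt, iso := io a }, (H14Fib.fp_isHomLift_iff _ _).2 (hl a)⟩
          map := fun {a b} f => H14Fib.fpHom f.hom f.hom (H14Fib.fp_hom_ext f.comm.symm
            ((Category.comp_id _).trans (Category.id_comp _).symm))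
          map_id := fun a => H14Fib.fp_hom_ext rfl rfl
          map_comp := fun f g => H14Fib.fp_hom_ext rfl rfl }
      w := rfl }
  refine ⟨E, (H14Fib.isEquivOver_iff E).2 ⟨⟨⟨fun {a b} m => ?_⟩, ⟨fun {a b} f g h => ?_⟩⟩, fun z => ?_⟩, rfl, rfl⟩
  · have hw := m.hom.w
    have h1 : m.hom.fst ≫ b.aut.hom = a.aut.hom ≫ m.hom.snd := congrArg (fun t => t.hom.fst) hw
    have h2 : m.hom.fst ≫ 𝟙 _ = 𝟙 _ ≫ m.hom.snd := congrArg (fun t => t.hom.snd) hw
    have h3 : m.hom.fst = m.hom.snd := (Category.comp_id _).symm.trans (h2.trans (Category.id_comp _))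
    refine ⟨⟨m.hom.fst, ?_⟩, H14Fib.fp_hom_ext rfl h3⟩
    rw [h1, ← h3]
  · exact FibCat.InertiaObj.hom_ext (congrArg (fun t => t.hom.fst) h)
  · let α := (FibCat.fpFst F F).toFunctor.mapIso z.obj.iso
    let β := (FibCat.fpSnd F F).toFunctor.mapIso z.obj.iso
    have hαl : 𝒳.p.IsHomLift (𝟙 (𝒳.p.obj z.obj.fst)) α.hom :=
      @H14Fib.fp_isHomLift_fst C _ _ _ _ F F _ _ _ _ (𝟙 (𝒳.p.obj z.obj.fst)) z.obj.iso.hom z.property
    have hβl : 𝒳.p.IsHomLift (𝟙 (𝒳.p.obj z.obj.fst)) β.hom :=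
      @H14Fib.fp_isHomLift_snd' C _ _ _ _ F F _ _ _ _ (𝟙 (𝒳.p.obj z.obj.fst)) z.obj.iso.hom z.property
    have hw : F.map α.hom ≫ 𝟙 _ = 𝟙 _ ≫ F.map β.hom := z.obj.iso.hom.hom.w
    have hab : F.map α.hom = F.map β.hom := (Category.comp_id _).symm.trans (hw.trans (Category.id_comp _))
    let a : FibCat.InertiaObj F := ⟨z.obj.fst, α ≪≫ β.symm, by
      rw [Iso.trans_hom, Iso.symm_hom, Functor.map_comp, hab, ← Functor.map_comp, β.hom_inv_id]
      exact CategoryTheory.Functor.map_id _ _⟩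
    let w : E.obj a ⟶ z := H14Fib.fpHom (𝟙 _) β.hom (H14Fib.fp_hom_ext
      (by
        change 𝟙 _ ≫ α.hom = (α.hom ≫ β.inv) ≫ β.hom
        rw [Category.id_comp, Category.assoc, β.inv_hom_id]
        exact (Category.comp_id _).symm)
      rfl)
    let w' : z ⟶ E.obj a := H14Fib.fpHom (𝟙 _) β.inv (H14Fib.fp_hom_ext
      (by
        change 𝟙 _ ≫ α.hom ≫ β.inv = α.hom ≫ β.inv
        exact Category.id_comp _)
      (by
        change 𝟙 _ ≫ 𝟙 _ = β.hom ≫ β.inv
        rw [β.hom_inv_id]; exact Category.id_comp _))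
    refine ⟨a, ⟨w, w', H14Fib.fp_hom_ext (Category.id_comp _) β.hom_inv_id,
      H14Fib.fp_hom_ext (Category.id_comp _) β.inv_hom_id⟩, ?_⟩
    exact (H14Fib.fp_isHomLift_iff _ _).2 (IsHomLift.id rfl)

end Groth.Agent.S6402
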