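import Groth.Statements.S6403
import Groth.Agent.H14Fib.Basic

set_option autoImplicit false
set_option backward.isDefEq.respectTransparency false
set_option backward.isDefEq.respectTransparency.types false
open CategoryTheory
universe v u
open FibCat

namespace Groth.Agent.S6403

/-- For a functor `F : 𝒳 ⟶ 𝒴` of fibred categories over `C` preserving strongly cartesian morphisms, the
relative inertia `I_{𝒳/𝒴}` is a fibred category over `C`. -/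
theorem result {C : Type u} [Category.{v} C] {𝒳 𝒴 : BasedCategory.{v, max u v} C} [𝒳.p.IsFibered] [𝒴.p.IsFibered] (F : 𝒳 ⥤ᵇ 𝒴) (hF : FibCat.PreservesStronglyCartesian F) :
    (FibCat.inertia F).p.IsFibered := by
  refine Functor.IsFibered.of_exists_isStronglyCartesian fun y R f => ?_
  change R ⟶ 𝒳.p.obj y.pt at f
  obtain ⟨x, φ, hφ⟩ := H14Fib.isFibered_exists_sc 𝒳.p (a := y.pt) rfl f
  have hFφ := hF f φ hφ
  have hβ : 𝒳.p.IsHomLift (𝟙 (𝒳.p.obj y.pt)) y.aut.hom := by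
    rw [← BasedFunctor.isHomLift_iff F, y.map_aut]; infer_instance
  have := IsHomLift.lift_id_inv 𝒳.p (𝒳.p.obj y.pt) y.aut
  have h1 : 𝒳.p.IsHomLift f (φ ≫ y.aut.hom) := inferInstance
  have h2 : 𝒳.p.IsHomLift f (φ ≫ y.aut.inv) := inferInstance
  have hx : 𝒳.p.obj x = R := IsHomLift.domain_eq 𝒳.p f φ
  have := IsHomLift.id (p := 𝒳.p) hx
  let α : x ≅ x :=
    { hom := Functor.IsCartesian.map 𝒳.p f φ (φ ≫ y.aut.hom)
      inv := Functor.IsCartesian.map 𝒳.p f φ (φ ≫ y.aut.inv)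
      hom_inv_id := Functor.IsCartesian.ext 𝒳.p f φ _ _ (by simp)
      inv_hom_id := Functor.IsCartesian.ext 𝒳.p f φ _ _ (by simp) }
  have hFα : F.map α.hom = 𝟙 (F.obj x) := by
    have : 𝒴.p.IsHomLift (𝟙 R) (𝟙 (F.obj x)) := IsHomLift.id ((F.w_obj x).trans hx)
    have : 𝒳.p.IsHomLift (𝟙 R) α.hom := inferInstanceAs (𝒳.p.IsHomLift (𝟙 R) (Functor.IsCartesian.map 𝒳.p f φ (φ ≫ y.aut.hom)))
    apply Functor.IsCartesian.ext 𝒴.p f (F.map φ)
    rw [← Functor.map_comp, Category.id_comp]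
    simp [α, y.map_aut]
  let X : FibCat.InertiaObj F := ⟨x, α, hFα⟩
  let Φ : X ⟶ y := ⟨φ, by simp [X, α]⟩
  have : (FibCat.inertia F).p.IsHomLift f Φ :=
    (BasedFunctor.isHomLift_iff (FibCat.inertiaToBase F) f Φ).1 (show 𝒳.p.IsHomLift f φ from hφ.toIsHomLift)
  refine ⟨X, Φ, ⟨fun {z} g ψ _ => ?_⟩⟩
  change 𝒳.p.obj z.pt ⟶ R at g
  have : 𝒳.p.IsHomLift (g ≫ f) ψ.hom :=
    (BasedFunctor.isHomLift_iff (FibCat.inertiaToBase F) (g ≫ f) ψ).2 inferInstance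
  obtain ⟨χ, ⟨hc1, hc2⟩, hcu⟩ := Functor.IsStronglyCartesian.universal_property 𝒳.p f φ g (g ≫ f) rfl ψ.hom
  have hγ : 𝒳.p.IsHomLift (𝟙 (𝒳.p.obj z.pt)) z.aut.hom := by
    rw [← BasedFunctor.isHomLift_iff F, z.map_aut]; infer_instance
  have : 𝒳.p.IsHomLift (𝟙 R) α.hom := inferInstanceAs (𝒳.p.IsHomLift (𝟙 R) (Functor.IsCartesian.map 𝒳.p f φ (φ ≫ y.aut.hom)))
  have hcomm : z.aut.hom ≫ χ = χ ≫ α.hom := by
    apply Functor.IsStronglyCartesian.ext 𝒳.p f φ g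
    simp [α, hc2, reassoc_of% hc2, ψ.comm]
  refine ⟨⟨χ, hcomm⟩, ⟨(BasedFunctor.isHomLift_iff (FibCat.inertiaToBase F) g _).1 hc1,
    FibCat.InertiaObj.hom_ext hc2⟩, ?_⟩
  rintro τ ⟨hτ, rfl⟩
  exact FibCat.InertiaObj.hom_ext (hcu _ ⟨(BasedFunctor.isHomLift_iff (FibCat.inertiaToBase F) g τ).2 hτ, rfl⟩)

end Groth.Agent.S6403
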