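import Groth.Statements.S6404
import Groth.Agent.H14Fib.Basic

set_option autoImplicit false
set_option backward.isDefEq.respectTransparency false
set_option backward.isDefEq.respectTransparency.types false
open CategoryTheory
universe v u
open FibCat

namespace Groth.Agent.S6404

/-- The inertia of a category fibred in groupoids over `C` is fibred in groupoids over `C`. -/
theorem result {C : Type u} [Category.{v} C] {𝒳 : BasedCategory.{v, max u v} C} (h𝒳 : FibCat.IsFibGrpd 𝒳.p) :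
    FibCat.IsFibGrpd (FibCat.inertia (FibCat.toSelf 𝒳)).p := by
  refine ⟨fun {y R} f => ?_, fun {x y} Φ => ?_⟩
  · change R ⟶ 𝒳.p.obj y.pt at f
    obtain ⟨x, φ, hφ⟩ := H14Fib.exists_sc_lift h𝒳 (a := y.pt) rfl f
    have hβ : 𝒳.p.IsHomLift (𝟙 (𝒳.p.obj y.pt)) y.aut.hom :=
      IsHomLift.of_fac 𝒳.p _ _ rfl rfl (by
        simp only [eqToHom_refl, Category.id_comp, Category.comp_id]
        exact y.map_aut.symm)
    have := IsHomLift.lift_id_inv 𝒳.p (𝒳.p.obj y.pt) y.aut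
    have h1 : 𝒳.p.IsHomLift f (φ ≫ y.aut.hom) := inferInstance
    have h2 : 𝒳.p.IsHomLift f (φ ≫ y.aut.inv) := inferInstance
    have := IsHomLift.id (p := 𝒳.p) (IsHomLift.domain_eq 𝒳.p f φ)
    let α : x ≅ x :=
      { hom := Functor.IsCartesian.map 𝒳.p f φ (φ ≫ y.aut.hom)
        inv := Functor.IsCartesian.map 𝒳.p f φ (φ ≫ y.aut.inv)
        hom_inv_id := Functor.IsCartesian.ext 𝒳.p f φ _ _ (by simp)
        inv_hom_id := Functor.IsCartesian.ext 𝒳.p f φ _ _ (by simp) }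
    have hα : (FibCat.toSelf 𝒳).map α.hom = 𝟙 ((FibCat.toSelf 𝒳).obj x) := by
      change 𝒳.p.map α.hom = 𝟙 _
      rw [IsHomLift.fac' 𝒳.p (𝟙 R) (Functor.IsCartesian.map 𝒳.p f φ (φ ≫ y.aut.hom))]
      simp
    let X : FibCat.InertiaObj (FibCat.toSelf 𝒳) := ⟨x, α, hα⟩
    let Φ : X ⟶ y := ⟨φ, by simp [X, α]⟩
    exact ⟨X, Φ, (BasedFunctor.isHomLift_iff (FibCat.inertiaToBase (FibCat.toSelf 𝒳)) f Φ).1
      (show 𝒳.p.IsHomLift f φ from hφ.toIsHomLift)⟩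
  · have := h𝒳.isStronglyCartesian Φ.hom
    refine ⟨fun {z} g ψ _ => ?_⟩
    have : 𝒳.p.IsHomLift (g ≫ 𝒳.p.map Φ.hom) ψ.hom :=
      (BasedFunctor.isHomLift_iff (FibCat.inertiaToBase (FibCat.toSelf 𝒳)) _ ψ).2
        (inferInstanceAs ((FibCat.inertia (FibCat.toSelf 𝒳)).p.IsHomLift (g ≫ (FibCat.inertia (FibCat.toSelf 𝒳)).p.map Φ) ψ))
    obtain ⟨χ, ⟨hc1, hc2⟩, hcu⟩ := Functor.IsStronglyCartesian.universal_property 𝒳.p
      (𝒳.p.map Φ.hom) Φ.hom g _ rfl ψ.hom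
    have hid : ∀ w : FibCat.InertiaObj (FibCat.toSelf 𝒳), 𝒳.p.IsHomLift (𝟙 (𝒳.p.obj w.pt)) w.aut.hom :=
      fun w => IsHomLift.of_fac 𝒳.p _ _ rfl rfl (by
        simp only [eqToHom_refl, Category.id_comp, Category.comp_id]
        exact w.map_aut.symm)
    have := hid z
    have := hid x
    have hg1 : 𝒳.p.IsHomLift g (z.aut.hom ≫ χ) := IsHomLift.comp_lift_id_left' 𝒳.p (𝒳.p.obj z.pt) z.aut.hom g χ
    have hg2 : 𝒳.p.IsHomLift g (χ ≫ x.aut.hom) := IsHomLift.comp_lift_id_right' 𝒳.p g χ (𝒳.p.obj x.pt) x.aut.hom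
    have hcomm : z.aut.hom ≫ χ = χ ≫ x.aut.hom := by
      apply Functor.IsStronglyCartesian.ext 𝒳.p (𝒳.p.map Φ.hom) Φ.hom g
      rw [Category.assoc, Category.assoc, hc2, Φ.comm, reassoc_of% hc2, ψ.comm]
    refine ⟨⟨χ, hcomm⟩, ⟨(BasedFunctor.isHomLift_iff (FibCat.inertiaToBase (FibCat.toSelf 𝒳)) g _).1 hc1,
      FibCat.InertiaObj.hom_ext hc2⟩, ?_⟩
    rintro τ ⟨hτ, rfl⟩
    exact FibCat.InertiaObj.hom_ext (hcu _
      ⟨(BasedFunctor.isHomLift_iff (FibCat.inertiaToBase (FibCat.toSelf 𝒳)) g τ).2 hτ, rfl⟩)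

end Groth.Agent.S6404
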