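import Groth.Statements.S6405
import Groth.Agent.H14Fib.Setoid

set_option autoImplicit false
set_option backward.isDefEq.respectTransparency false
set_option backward.isDefEq.respectTransparency.types false
open CategoryTheory
universe v u
open FibCat

namespace Groth.Agent.S6405

/-- (2) ⇒ (1): if `𝒳` is fibred in groupoids over `C` and the canonical functor `I_𝒳 ⟶ 𝒳` from its
inertia is an equivalence over `C`, then `𝒳` is fibred in setoids. (The published statement is an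
equivalence; this row states only that the inertia condition implies that `𝒳` is fibred in setoids.) -/
theorem result {C : Type u} [Category.{v} C] {𝒳 : BasedCategory.{v, max u v} C} (h𝒳 : FibCat.IsFibGrpd 𝒳.p)
    (h : FibCat.IsEquivOver (FibCat.inertiaToBase (FibCat.toSelf 𝒳))) : FibCat.IsFibSetoid 𝒳.p := by
  obtain ⟨⟨_, _⟩, -⟩ := (H14Fib.isEquivOver_iff _).1 h
  refine ⟨h𝒳, fun U a b => ⟨fun φ ψ => Subtype.ext ?_⟩⟩
  have := φ.2; have := ψ.2
  have := H14Fib.isIso_of_fibGrpd h𝒳 (𝟙 U) φ.1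
  have := H14Fib.isIso_of_fibGrpd h𝒳 (𝟙 U) ψ.1
  let α : a.1 ≅ a.1 := asIso φ.1 ≪≫ (asIso ψ.1).symm
  have hα : (FibCat.toSelf 𝒳).map α.hom = 𝟙 ((FibCat.toSelf 𝒳).obj a.1) := by
    change 𝒳.p.map (φ.1 ≫ inv ψ.1) = 𝟙 _
    rw [Functor.map_comp, Functor.map_inv, IsIso.comp_inv_eq, Category.id_comp,
      IsHomLift.fac' 𝒳.p (𝟙 U) φ.1, IsHomLift.fac' 𝒳.p (𝟙 U) ψ.1]
  let P : FibCat.InertiaObj (FibCat.toSelf 𝒳) := ⟨a.1, α, hα⟩
  let Q : FibCat.InertiaObj (FibCat.toSelf 𝒳) := ⟨a.1, Iso.refl _, CategoryTheory.Functor.map_id _ _⟩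
  obtain ⟨m, hm⟩ := (FibCat.inertiaToBase (FibCat.toSelf 𝒳)).toFunctor.map_surjective
    (X := P) (Y := Q) (𝟙 a.1)
  have hc := m.comm
  have hm' : m.hom = 𝟙 a.1 := hm
  rw [hm'] at hc
  simp [α, P, Q] at hc
  exact hc

end Groth.Agent.S6405
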