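import Groth.Statements.S6406
import Groth.Agent.H14Fib.SplitRepl

set_option autoImplicit false
set_option backward.isDefEq.respectTransparency false
set_option backward.isDefEq.respectTransparency.types false
open CategoryTheory
universe v u
open FibCat

namespace Groth.Agent.S6406

/-- A category fibred in setoids over `C` admits an equivalence over `C` to a category fibred in sets
over `C`. (The target is taken in the same universes as the slices `C/U`; its morphism sets are
essentially as small as those of `C`.) -/
theorem result {C : Type u} [Category.{v} C] {𝒳 : BasedCategory.{v, max u v} C} (h𝒳 : FibCat.IsFibSetoid 𝒳.p) :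
    ∃ (𝒴 : BasedCategory.{v, max u v} C) (F : 𝒳 ⥤ᵇ 𝒴), FibCat.IsFibSet 𝒴.p ∧ FibCat.IsEquivOver F := by
  exact Groth.Agent.H14Fib.exists_fibSet h𝒳

end Groth.Agent.S6406
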