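import Groth.Statements.S6408
import Groth.Agent.H14Fib.Setoid

set_option autoImplicit false
set_option backward.isDefEq.respectTransparency false
set_option backward.isDefEq.respectTransparency.types false
open CategoryTheory
universe v u
open FibCat

namespace Groth.Agent.S6408

/-- Between categories fibred in sets over `C` the only 2-morphisms over `C` are identities. -/
theorem result {C : Type u} [Category.{v} C] {𝒳 𝒴 : BasedCategory.{v, max u v} C} (h𝒳 : FibCat.IsFibSet 𝒳.p) (h𝒴 : FibCat.IsFibSet 𝒴.p) {F G : 𝒳 ⥤ᵇ 𝒴} (α : F ⟶ G) :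
    ∃ h : F = G, α = eqToHom h := by
  have hobj : ∀ a, ∃ e : F.obj a = G.obj a, α.toNatTrans.app a = eqToHom e := fun a =>
    H14Fib.eq_of_homLift_fibSet h𝒴 (U := 𝒳.p.obj a) (α.toNatTrans.app a)
  have h : F.toFunctor = G.toFunctor := Functor.ext (fun a => (hobj a).1) (fun a b f => by
    have hn := α.toNatTrans.naturality f
    rw [(hobj a).2, (hobj b).2] at hn
    rw [← reassoc_of% hn]
    simp)
  obtain ⟨F', wF⟩ := F
  obtain ⟨G', wG⟩ := G
  dsimp at h
  subst h
  refine ⟨rfl, BasedNatTrans.homCategory.ext _ _ ?_⟩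
  ext a
  exact (hobj a).2

end Groth.Agent.S6408
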