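import Groth.Statements.S6409
import Groth.Agent.H14Fib.Yoneda

set_option autoImplicit false
set_option backward.isDefEq.respectTransparency false
set_option backward.isDefEq.respectTransparency.types false
open CategoryTheory
universe v u
open FibCat

namespace Groth.Agent.S6409

/-- For `𝒳` fibred in groupoids over `C`, evaluation at `𝟙_U` is an equivalence of categories from the
category of functors `C/U ⟶ 𝒳` over `C` to the fibre category `𝒳_U`. -/
theorem result {C : Type u} [Category.{v} C] {𝒳 : BasedCategory.{v, max u v} C} (h𝒳 : FibCat.IsFibGrpd 𝒳.p) (U : C) :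
    (FibCat.evalAtId 𝒳 U).IsEquivalence := by
  have := H14Fib.isFibered_of_fibGrpd h𝒳
  have hsc := fun G : FibCat.overCat U ⥤ᵇ 𝒳 => H14Fib.topSC_of_fibGrpd h𝒳 G
  have : (FibCat.evalAtId 𝒳 U).Faithful := ⟨fun {G H} α β h =>
    H14Fib.natTrans_ext (hsc H) (congrArg Subtype.val h)⟩
  have : (FibCat.evalAtId 𝒳 U).Full := ⟨fun {G H} φ => by
    have : 𝒳.p.IsHomLift (𝟙 U) φ.1 := φ.2
    exact ⟨H14Fib.extendNatTrans (hsc H) φ.1, Subtype.ext (H14Fib.extendNatTrans_top (hsc H) φ.1)⟩⟩
  have : (FibCat.evalAtId 𝒳 U).EssSurj := ⟨fun x => by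
    obtain ⟨G, e, -, he⟩ := H14Fib.exists_fromOver x.2
    exact ⟨G, ⟨H14Fib.fiberIso e he⟩⟩⟩
  exact {}

end Groth.Agent.S6409
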