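import Groth.Statements.S6410
import Groth.Agent.H14Fib.Yoneda

set_option autoImplicit false
set_option backward.isDefEq.respectTransparency false
set_option backward.isDefEq.respectTransparency.types false
open CategoryTheory
universe v u
open FibCat

namespace Groth.Agent.S6410

/-- For `𝒳` fibred over `C`, evaluation at `𝟙_U` restricted to the functors `C/U ⟶ 𝒳` over `C` that
preserve strongly cartesian morphisms is an equivalence of categories onto the fibre category `𝒳_U`. -/
theorem result {C : Type u} [Category.{v} C] {𝒳 : BasedCategory.{v, max u v} C} [𝒳.p.IsFibered] (U : C) :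
    ((ObjectProperty.ι (FibCat.PreservesStronglyCartesian (𝒳 := FibCat.overCat U) (𝒴 := 𝒳))) ⋙ FibCat.evalAtId 𝒳 U).IsEquivalence := by
  have hsc := fun G : FibCat.overCat U ⥤ᵇ 𝒳 => fun h => H14Fib.topSC_of_preserves G h
  let P : ObjectProperty (FibCat.overCat U ⥤ᵇ 𝒳) := FibCat.PreservesStronglyCartesian
  have : (P.ι ⋙ FibCat.evalAtId 𝒳 U).Faithful := ⟨fun {G H} α β h =>
    ObjectProperty.hom_ext _ (H14Fib.natTrans_ext (hsc H.obj H.property) (congrArg Subtype.val h))⟩
  have : (P.ι ⋙ FibCat.evalAtId 𝒳 U).Full := ⟨fun {G H} φ => by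
    have : 𝒳.p.IsHomLift (𝟙 U) φ.1 := φ.2
    exact ⟨ObjectProperty.homMk (H14Fib.extendNatTrans (hsc H.obj H.property) φ.1),
      Subtype.ext (H14Fib.extendNatTrans_top (hsc H.obj H.property) φ.1)⟩⟩
  have : (P.ι ⋙ FibCat.evalAtId 𝒳 U).EssSurj := ⟨fun x => by
    obtain ⟨e, he⟩ := H14Fib.fromOver_top_iso x.2
    exact ⟨⟨H14Fib.fromOver x.2, H14Fib.fromOver_preserves x.2⟩, ⟨H14Fib.fiberIso e he⟩⟩⟩
  exact {}

end Groth.Agent.S6410
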