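import Groth.Statements.S6412
import Groth.Agent.H14Fib.Rep
import Groth.Agent.H14Fib.FibSet
import Groth.Agent.S11728

set_option autoImplicit false
set_option backward.isDefEq.respectTransparency false
set_option backward.isDefEq.respectTransparency.types false
open CategoryTheory CategoryTheory.Limits
universe v u
open FibCat

namespace Groth.Agent.S6412

/-- For `C` with binary products and fibre products and `𝒮` fibred in groupoids over `C`, the diagonal
`𝒮 ⟶ 𝒮 ×_C 𝒮` is representable if and only if every functor `C/U ⟶ 𝒮` over `C` is representable.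
(Representability of each base change to a slice `C/V` is taken as a category over `C`; for
categories fibred in groupoids this agrees with representability over `C/V`.) -/
theorem result {C : Type u} [Category.{v} C] [HasBinaryProducts C] [HasPullbacks C] {𝒮 : BasedCategory.{v, max u v} C} (h𝒮 : FibCat.IsFibGrpd 𝒮.p) :
    FibCat.IsRepresentable1 (FibCat.diag (FibCat.toSelf 𝒮)) ↔ ∀ (U : C) (G : FibCat.overCat U ⥤ᵇ 𝒮), FibCat.IsRepresentable1 G := by
  have uniqS : ∀ {a b : (FibCat.selfOver C).obj} {R T : C} (f : R ⟶ T) (φ ψ : a ⟶ b),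
      (FibCat.selfOver C).p.IsHomLift f φ → (FibCat.selfOver C).p.IsHomLift f ψ → φ = ψ :=
    fun f φ ψ _ _ => (IsHomLift.fac' (FibCat.selfOver C).p f φ).trans (IsHomLift.fac' (FibCat.selfOver C).p f ψ).symm
  constructor
  · -- the diagonal is representable, so every map from a slice is
    intro hΔ U G V H
    have h₀ := hΔ (U ⨯ V)
    let M₁ : FibCat.overCat (U ⨯ V) ⥤ᵇ FibCat.overCat U := ⟨Over.map prod.fst, Over.mapForget_eq _⟩
    let M₂ : FibCat.overCat (U ⨯ V) ⥤ᵇ FibCat.overCat V := ⟨Over.map prod.snd, Over.mapForget_eq _⟩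
    let e : BasedFunctor.comp (BasedFunctor.comp M₁ G) (FibCat.toSelf 𝒮) ≅
        BasedFunctor.comp (BasedFunctor.comp M₂ H) (FibCat.toSelf 𝒮) :=
      BasedNatIso.mkNatIso (eqToIso ((BasedFunctor.comp (BasedFunctor.comp M₁ G) (FibCat.toSelf 𝒮)).w.trans
          (BasedFunctor.comp (BasedFunctor.comp M₂ H) (FibCat.toSelf 𝒮)).w.symm)) (fun a => by
        refine IsHomLift.of_fac' _ _ _ ((BasedFunctor.comp (BasedFunctor.comp M₁ G) (FibCat.toSelf 𝒮)).w_obj a)
          ((BasedFunctor.comp (BasedFunctor.comp M₂ H) (FibCat.toSelf 𝒮)).w_obj a) ?_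
        simp; rfl)
    let P := FibCat.fpLift (BasedFunctor.comp M₁ G) (BasedFunctor.comp M₂ H) e
    have hP : FibCat.IsRepresentable (FibCat.fp P (FibCat.diag (FibCat.toSelf 𝒮))) := h₀ P
    have hfib : FibCat.IsFibGrpd (FibCat.fp H G).p :=
      H14Fib.fp_fibGrpd (H14Fib.overCat_fibSet V).1 (H14Fib.overCat_fibSet U).1 h𝒮
    have hfibP : FibCat.IsFibGrpd (FibCat.fp P (FibCat.diag (FibCat.toSelf 𝒮))).p :=
      H14Fib.fp_fibGrpd (H14Fib.overCat_fibSet _).1 h𝒮 (H14Fib.fp_fibGrpd h𝒮 h𝒮 H14Fib.selfOver_fibGrpd)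
    have := H14Fib.isFibered_of_fibGrpd hfib
    have := H14Fib.isFibered_of_fibGrpd hfibP
    obtain ⟨-, T, hT⟩ := (Groth.Agent.S11728.result _).1 hP
    refine (Groth.Agent.S11728.result _).2 ⟨hfib, ?_⟩
    let α := (FibCat.fpFst (FibCat.toSelf 𝒮) (FibCat.toSelf 𝒮)).toFunctor.mapIso T.obj.iso
    let β := (FibCat.fpSnd (FibCat.toSelf 𝒮) (FibCat.toSelf 𝒮)).toFunctor.mapIso T.obj.iso
    have hα : 𝒮.p.IsHomLift (𝟙 ((FibCat.overCat (U ⨯ V)).p.obj T.obj.fst)) α.hom :=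
      @H14Fib.fp_isHomLift_fst C _ _ _ _ (FibCat.toSelf 𝒮) (FibCat.toSelf 𝒮) _ _ _ _ _ T.obj.iso.hom T.property
    have hβ : 𝒮.p.IsHomLift (𝟙 ((FibCat.overCat (U ⨯ V)).p.obj T.obj.fst)) β.hom :=
      @H14Fib.fp_isHomLift_snd' C _ _ _ _ (FibCat.toSelf 𝒮) (FibCat.toSelf 𝒮) _ _ _ _ _ T.obj.iso.hom T.property
    refine ⟨H14Fib.fpObj (F := H) (G := G) (M₂.obj T.obj.fst) (M₁.obj T.obj.fst) (β ≪≫ α.symm) rfl
      (H14Fib.homLift_id_comp hβ (@IsHomLift.lift_id_inv _ _ _ _ 𝒮.p _ _ _ α hα)), fun ρ => ?_⟩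
    -- objects of `V ×_𝒮 U` map to objects of the fibre product with the diagonal
    let cr : ρ.obj.snd.left = ρ.obj.fst.left := H14Fib.fp_snd_obj ρ
    let q : Over (U ⨯ V) := Over.mk (prod.lift (eqToHom cr.symm ≫ ρ.obj.snd.hom) ρ.obj.fst.hom)
    let q₁ : M₁.obj q ≅ ρ.obj.snd := Over.isoMk (eqToIso cr.symm) (by
      change eqToHom cr.symm ≫ ρ.obj.snd.hom = _ ≫ prod.fst
      exact (prod.lift_fst _ _).symm)
    let q₂ : M₂.obj q ≅ ρ.obj.fst := Over.isoMk (Iso.refl _) (by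
      change 𝟙 _ ≫ ρ.obj.fst.hom = _ ≫ prod.snd
      exact (Category.id_comp _).trans (prod.lift_snd _ _).symm)
    have hq₁ : (FibCat.overCat U).p.IsHomLift (𝟙 ρ.obj.fst.left) q₁.hom :=
      IsHomLift.of_fac' _ _ _ rfl cr (by
        change eqToHom cr.symm = _
        simp)
    have hq₂ : (FibCat.overCat V).p.IsHomLift (𝟙 ρ.obj.fst.left) q₂.hom :=
      IsHomLift.map (FibCat.overCat V).p q₂.hom
    let s := G.obj ρ.obj.snd
    let a₁ : G.obj (M₁.obj q) ≅ s := G.toFunctor.mapIso q₁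
    let a₂ : H.obj (M₂.obj q) ≅ s := H.toFunctor.mapIso q₂ ≪≫ ρ.obj.iso
    have ha₁ : 𝒮.p.IsHomLift (𝟙 ρ.obj.fst.left) a₁.hom :=
      @BasedFunctor.preserves_isHomLift _ _ _ _ G _ _ _ _ _ _ hq₁
    have ha₂ : 𝒮.p.IsHomLift (𝟙 ρ.obj.fst.left) a₂.hom :=
      H14Fib.homLift_id_comp (@BasedFunctor.preserves_isHomLift _ _ _ _ H _ _ _ _ _ _ hq₂) ρ.property
    let ia : P.obj q ≅ (FibCat.diag (FibCat.toSelf 𝒮)).obj s := by
        refine H14Fib.fpIsoMk a₁ a₂ ?_
        refine uniqS (𝟙 ρ.obj.fst.left) _ _ ?_ ?_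
        · exact H14Fib.homLift_id_comp (@BasedFunctor.preserves_isHomLift _ _ _ _ (FibCat.toSelf 𝒮) _ _ _ _ _ _ ha₁)
            (H14Fib.fp_iso_isHomLift _ ((FibCat.diag (FibCat.toSelf 𝒮)).w_obj s |>.trans (IsHomLift.codomain_eq 𝒮.p (𝟙 ρ.obj.fst.left) a₁.hom)))
        · exact H14Fib.homLift_id_comp (H14Fib.fp_iso_isHomLift _ (P.w_obj q))
            (@BasedFunctor.preserves_isHomLift _ _ _ _ (FibCat.toSelf 𝒮) _ _ _ _ _ _ ha₂)
    let σ : (FibCat.fp P (FibCat.diag (FibCat.toSelf 𝒮))).obj :=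
      H14Fib.fpObj q s ia rfl ((H14Fib.fp_isHomLift_iff _ _).2 ha₁)
    obtain ⟨uσ⟩ := hT σ
    let t := uσ.default
    have hw₁ : G.map (M₁.map t.hom.fst) ≫ α.hom = a₁.hom ≫ t.hom.snd := congrArg (fun m => m.hom.fst) t.hom.w
    have hw₂ : H.map (M₂.map t.hom.fst) ≫ β.hom = a₂.hom ≫ t.hom.snd := congrArg (fun m => m.hom.snd) t.hom.w
    let A : ρ.obj.fst ⟶ M₂.obj T.obj.fst := q₂.inv ≫ M₂.map t.hom.fst
    let B : ρ.obj.snd ⟶ M₁.obj T.obj.fst := q₁.inv ≫ M₁.map t.hom.fst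
    have hAB : H.map A ≫ β.hom ≫ α.inv = ρ.obj.iso.hom ≫ G.map B := by
      have h1 : G.map (M₁.map t.hom.fst) = a₁.hom ≫ t.hom.snd ≫ α.inv := by
        rw [← Category.assoc, ← hw₁, Category.assoc, Iso.hom_inv_id, Category.comp_id]
      simp only [A, B, Functor.map_comp, Category.assoc]
      erw [reassoc_of% hw₂, h1]
      simp [a₁, a₂, ← Functor.map_comp_assoc]
    refine ⟨{ default := H14Fib.fpHom A B hAB, uniq := fun u => ?_ }⟩
    -- uniqueness
    have hB : u.hom.snd.left = eqToHom cr ≫ u.hom.fst.left := by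
      have h1 : (FibCat.overCat U).p.map u.hom.snd = _ :=
        IsHomLift.fac' (FibCat.overCat U).p ((FibCat.fp H G).p.map u) u.hom.snd
      simp at h1
      exact h1
    let qu : q ⟶ T.obj.fst := Over.homMk u.hom.fst.left (by
      apply Limits.prod.hom_ext
      · rw [Category.assoc]
        erw [Limits.prod.lift_fst]
        have := Over.w u.hom.snd
        rw [hB, Category.assoc] at this
        have := congrArg (eqToHom cr.symm ≫ ·) this
        simp at this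
        exact this
      · rw [Category.assoc]
        erw [Limits.prod.lift_snd]
        exact Over.w u.hom.fst)
    have hu₂ : M₂.map qu = q₂.hom ≫ u.hom.fst := Over.OverMorphism.ext (Category.id_comp _).symm
    have hu₁ : M₁.map qu = q₁.hom ≫ u.hom.snd := Over.OverMorphism.ext (by
      change u.hom.fst.left = eqToHom cr.symm ≫ u.hom.snd.left
      rw [hB, eqToHom_trans_assoc, eqToHom_refl]
      exact (Category.id_comp _).symm)
    let τ : s ⟶ T.obj.snd := G.map u.hom.snd ≫ α.hom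
    have huw : H.map u.hom.fst ≫ β.hom ≫ α.inv = ρ.obj.iso.hom ≫ G.map u.hom.snd := u.hom.w
    let t' : σ ⟶ T := H14Fib.fpHom qu τ (H14Fib.fp_hom_ext
      (by
        change G.map (M₁.map qu) ≫ α.hom = a₁.hom ≫ G.map u.hom.snd ≫ α.hom
        rw [hu₁, Functor.map_comp, Category.assoc]
        rfl)
      (by
        change H.map (M₂.map qu) ≫ β.hom = a₂.hom ≫ G.map u.hom.snd ≫ α.hom
        rw [hu₂, Functor.map_comp]
        simp only [a₂, Iso.trans_hom, Functor.mapIso_hom, Category.assoc]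
        rw [← reassoc_of% huw, α.inv_hom_id]
        erw [Category.comp_id]))
    have hq : qu = t.hom.fst := congrArg (fun m => m.hom.fst) (uσ.uniq t')
    refine H14Fib.fp_hom_ext ?_ ?_
    · change u.hom.fst = q₂.inv ≫ M₂.map t.hom.fst
      rw [← hq, hu₂, Iso.inv_hom_id_assoc]
    · change u.hom.snd = q₁.inv ≫ M₁.map t.hom.fst
      rw [← hq, hu₁, Iso.inv_hom_id_assoc]
  · -- every map from a slice is representable, so the diagonal is
    intro h W G
    let p₁ := FibCat.fpFst (FibCat.toSelf 𝒮) (FibCat.toSelf 𝒮)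
    let p₂ := FibCat.fpSnd (FibCat.toSelf 𝒮) (FibCat.toSelf 𝒮)
    let x := BasedFunctor.comp G p₁
    let y := BasedFunctor.comp G p₂
    have hfib : FibCat.IsFibGrpd (FibCat.fp x y).p :=
      H14Fib.fp_fibGrpd (H14Fib.overCat_fibSet W).1 (H14Fib.overCat_fibSet W).1 h𝒮
    have hfibΔ : FibCat.IsFibGrpd (FibCat.fp G (FibCat.diag (FibCat.toSelf 𝒮))).p :=
      H14Fib.fp_fibGrpd (H14Fib.overCat_fibSet W).1 h𝒮 (H14Fib.fp_fibGrpd h𝒮 h𝒮 H14Fib.selfOver_fibGrpd)
    have := H14Fib.isFibered_of_fibGrpd hfib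
    have := H14Fib.isFibered_of_fibGrpd hfibΔ
    obtain ⟨-, T, hT⟩ := (Groth.Agent.S11728.result _).1 (h W y W x)
    refine (Groth.Agent.S11728.result _).2 ⟨hfibΔ, ?_⟩
    have cT : T.obj.snd.left = T.obj.fst.left := H14Fib.fp_snd_obj T
    let p : T.obj.fst.left ⟶ W := T.obj.fst.hom
    let q : T.obj.fst.left ⟶ W := eqToHom cT.symm ≫ T.obj.snd.hom
    -- the equalizer of the two maps to `W`
    let E := pullback (prod.lift p q) (prod.lift (𝟙 W) (𝟙 W))
    let ε : E ⟶ T.obj.fst.left := pullback.fst _ _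
    have hc := pullback.condition (f := prod.lift p q) (g := prod.lift (𝟙 W) (𝟙 W))
    have hεp : ε ≫ p = pullback.snd (prod.lift p q) (prod.lift (𝟙 W) (𝟙 W)) := by
      have := congrArg (· ≫ prod.fst) hc
      simp only [Category.assoc, prod.lift_fst, Category.comp_id] at this
      exact this
    have hεq : ε ≫ q = pullback.snd (prod.lift p q) (prod.lift (𝟙 W) (𝟙 W)) := by
      have := congrArg (· ≫ prod.snd) hc
      simp only [Category.assoc, prod.lift_snd, Category.comp_id] at this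
      exact this
    let w : Over W := Over.mk (ε ≫ p)
    let mA : w ⟶ T.obj.fst := Over.homMk ε rfl
    let mB : w ⟶ T.obj.snd := Over.homMk (ε ≫ eqToHom cT.symm) (by
      rw [Category.assoc]; exact hεq.trans hεp.symm)
    have hmA : 𝒮.p.IsHomLift ε (x.map mA) :=
      @BasedFunctor.preserves_isHomLift _ _ _ _ x _ _ _ _ _ _ (IsHomLift.map (FibCat.overCat W).p mA)
    have hmBl : (FibCat.overCat W).p.IsHomLift ε mB :=
      IsHomLift.of_fac' _ _ _ rfl cT (by simp [mB]; rfl)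
    have hmB : 𝒮.p.IsHomLift ε (y.map mB) :=
      @BasedFunctor.preserves_isHomLift _ _ _ _ y _ _ _ _ _ _ hmBl
    have hTi : 𝒮.p.IsHomLift (𝟙 T.obj.fst.left) T.obj.iso.hom := T.property
    have hl : 𝒮.p.IsHomLift ε (x.map mA ≫ T.obj.iso.hom) :=
      IsHomLift.comp_lift_id_right' 𝒮.p ε (x.map mA) T.obj.fst.left T.obj.iso.hom
    have := H14Fib.sc_of_fibGrpd h𝒮 ε (x.map mA ≫ T.obj.iso.hom)
    have := H14Fib.sc_of_fibGrpd h𝒮 ε (y.map mB)
    let j := Functor.IsCartesian.domainUniqueUpToIso 𝒮.p ε (y.map mB) (x.map mA ≫ T.obj.iso.hom)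
    have hj : 𝒮.p.IsHomLift (𝟙 E) j.hom := inferInstance
    have hjf : j.hom ≫ y.map mB = x.map mA ≫ T.obj.iso.hom := Functor.IsCartesian.fac 𝒮.p ε (y.map mB) (x.map mA ≫ T.obj.iso.hom)
    let iD : G.obj w ≅ (FibCat.diag (FibCat.toSelf 𝒮)).obj (y.obj w) := by
        refine H14Fib.fpIsoMk j (Iso.refl _) ?_
        refine uniqS (𝟙 E) _ _ ?_ ?_
        · exact H14Fib.homLift_id_comp (@BasedFunctor.preserves_isHomLift _ _ _ _ (FibCat.toSelf 𝒮) _ _ _ _ _ _ hj)
            (H14Fib.fp_iso_isHomLift _ (((FibCat.diag (FibCat.toSelf 𝒮)).w_obj _).trans (y.w_obj w)))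
        · exact H14Fib.homLift_id_comp (H14Fib.fp_iso_isHomLift _ (G.w_obj w))
            (@BasedFunctor.preserves_isHomLift _ _ _ _ (FibCat.toSelf 𝒮) _ _ _ _ _ _ (IsHomLift.id (y.w_obj w)))
    let Z : (FibCat.fp G (FibCat.diag (FibCat.toSelf 𝒮))).obj :=
      H14Fib.fpObj w (y.obj w) iD rfl ((H14Fib.fp_isHomLift_iff _ _).2 hj)
    refine ⟨Z, fun ρ => ?_⟩
    let α := p₁.toFunctor.mapIso ρ.obj.iso
    let β := p₂.toFunctor.mapIso ρ.obj.iso
    have hα : 𝒮.p.IsHomLift (𝟙 ρ.obj.fst.left) α.hom :=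
      @H14Fib.fp_isHomLift_fst C _ _ _ _ (FibCat.toSelf 𝒮) (FibCat.toSelf 𝒮) _ _ _ _ _ ρ.obj.iso.hom ρ.property
    have hβ : 𝒮.p.IsHomLift (𝟙 ρ.obj.fst.left) β.hom :=
      @H14Fib.fp_isHomLift_snd' C _ _ _ _ (FibCat.toSelf 𝒮) (FibCat.toSelf 𝒮) _ _ _ _ _ ρ.obj.iso.hom ρ.property
    let ρ' : (FibCat.fp x y).obj := H14Fib.fpObj ρ.obj.fst ρ.obj.fst (α ≪≫ β.symm) rfl
      (H14Fib.homLift_id_comp hα (@IsHomLift.lift_id_inv _ _ _ _ 𝒮.p _ _ _ β hβ))
    obtain ⟨uρ⟩ := hT ρ'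
    let t := uρ.default
    have htB : t.hom.snd.left = t.hom.fst.left ≫ eqToHom cT.symm := by
      have h1 : (FibCat.overCat W).p.map t.hom.snd = _ :=
        IsHomLift.fac' (FibCat.overCat W).p ((FibCat.fp x y).p.map t) t.hom.snd
      simp at h1
      exact h1
    have hp' : t.hom.fst.left ≫ p = ρ.obj.fst.hom := Over.w t.hom.fst
    have hq' : t.hom.fst.left ≫ q = ρ.obj.fst.hom := by
      have := Over.w t.hom.snd
      rw [htB, Category.assoc] at this
      exact this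
    let l : ρ.obj.fst.left ⟶ E := pullback.lift t.hom.fst.left ρ.obj.fst.hom (by
      apply Limits.prod.hom_ext <;> simp [hp', hq'])
    let L : ρ.obj.fst ⟶ w := Over.homMk l (by
      change l ≫ ε ≫ p = _
      rw [← Category.assoc, pullback.lift_fst]
      exact hp')
    have hLA : L ≫ mA = t.hom.fst := Over.OverMorphism.ext (pullback.lift_fst _ _ _)
    have hLB : L ≫ mB = t.hom.snd := Over.OverMorphism.ext (by
      change l ≫ ε ≫ eqToHom cT.symm = _
      rw [← Category.assoc, pullback.lift_fst]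
      exact htB.symm)
    have htw : x.map t.hom.fst ≫ T.obj.iso.hom = (α.hom ≫ β.inv) ≫ y.map t.hom.snd := t.hom.w
    let τ : ρ.obj.snd ⟶ y.obj w := β.inv ≫ y.map L
    have key : x.map L ≫ j.hom = α.hom ≫ τ := by
      have hlL : 𝒮.p.IsHomLift l (x.map L) :=
        @BasedFunctor.preserves_isHomLift _ _ _ _ x _ _ _ _ _ _ (IsHomLift.map (FibCat.overCat W).p L)
      have hlL' : 𝒮.p.IsHomLift l (y.map L) :=
        @BasedFunctor.preserves_isHomLift _ _ _ _ y _ _ _ _ _ _ (IsHomLift.map (FibCat.overCat W).p L)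
      have h1 : 𝒮.p.IsHomLift l (x.map L ≫ j.hom) := IsHomLift.comp_lift_id_right' 𝒮.p l _ E j.hom
      have hαβ : 𝒮.p.IsHomLift (𝟙 ρ.obj.fst.left) (α.hom ≫ β.inv) :=
        H14Fib.homLift_id_comp hα (@IsHomLift.lift_id_inv _ _ _ _ 𝒮.p _ _ _ β hβ)
      have h2 : 𝒮.p.IsHomLift l (α.hom ≫ τ) := by
        simp only [τ, ← Category.assoc]
        exact IsHomLift.comp_lift_id_left' 𝒮.p ρ.obj.fst.left (α.hom ≫ β.inv) l (y.map L)
      apply Functor.IsStronglyCartesian.ext 𝒮.p ε (y.map mB) l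
      simp only [τ, Category.assoc]
      rw [hjf, ← Functor.map_comp_assoc, hLA, ← Functor.map_comp, hLB, htw, Category.assoc]
    refine ⟨{ default := H14Fib.fpHom L τ (H14Fib.fp_hom_ext key ?_), uniq := fun u => ?_ }⟩
    · change y.map L ≫ 𝟙 _ = β.hom ≫ β.inv ≫ y.map L
      rw [Iso.hom_inv_id_assoc]
      exact Category.comp_id _
    · have hu₁ : x.map u.hom.fst ≫ j.hom = α.hom ≫ u.hom.snd := congrArg (fun m => m.hom.fst) u.hom.w
      have hu₂ : y.map u.hom.fst = β.hom ≫ u.hom.snd :=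
        (Category.comp_id _).symm.trans (congrArg (fun m => m.hom.snd) u.hom.w)
      let t' : ρ' ⟶ T := H14Fib.fpHom (u.hom.fst ≫ mA) (u.hom.fst ≫ mB) (by
        change x.map (u.hom.fst ≫ mA) ≫ T.obj.iso.hom = (α.hom ≫ β.inv) ≫ y.map (u.hom.fst ≫ mB)
        rw [Functor.map_comp, Functor.map_comp, Category.assoc, ← hjf, reassoc_of% hu₁, hu₂]
        simp)
      have ht := congrArg (fun m => m.hom.fst) (uρ.uniq t')
      have hL : u.hom.fst = L := by
        apply Over.OverMorphism.ext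
        apply pullback.hom_ext
        · have := congrArg Over.Hom.left ht
          exact this.trans (pullback.lift_fst _ _ _).symm
        · have hw1 : u.hom.fst.left ≫ ε ≫ p = ρ.obj.fst.hom := Over.w u.hom.fst
          rw [hεp] at hw1
          exact hw1.trans (pullback.lift_snd _ _ _).symm
      refine H14Fib.fp_hom_ext hL ?_
      change u.hom.snd = β.inv ≫ y.map L
      rw [← hL, hu₂, Iso.inv_hom_id_assoc]

end Groth.Agent.S6412
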