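import Groth.Statements.S6413
import Groth.Agent.H14Fib.Fp

set_option autoImplicit false
set_option backward.isDefEq.respectTransparency false
set_option backward.isDefEq.respectTransparency.types false
open CategoryTheory
universe v u
open FibCat

namespace Groth.Agent.S6413

/-- For `𝒳, 𝒴` fibred in groupoids over `C` and `F : 𝒳 ⟶ 𝒴` over `C`, the projection `𝒳 ×_{F, 𝒴, id} 𝒴 ⟶
𝒴` is a category fibred in groupoids over `𝒴`. -/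
theorem result {C : Type u} [Category.{v} C] {𝒳 𝒴 : BasedCategory.{v, max u v} C} (h𝒳 : FibCat.IsFibGrpd 𝒳.p) (h𝒴 : FibCat.IsFibGrpd 𝒴.p) (F : 𝒳 ⥤ᵇ 𝒴) :
    FibCat.IsFibGrpd (FibCat.fpSnd F (BasedFunctor.id 𝒴)).toFunctor := by
  refine ⟨fun {z η} ψ => ?_, fun {x z} Φ => ⟨fun {r} g Ψ _ => ?_⟩⟩
  · change η ⟶ z.obj.snd at ψ
    let R := 𝒴.p.obj η
    let f : R ⟶ 𝒳.p.obj z.obj.fst := 𝒴.p.map ψ ≫ eqToHom (H14Fib.fp_snd_obj z)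
    have hψ : 𝒴.p.IsHomLift f ψ := IsHomLift.of_fac' 𝒴.p f ψ rfl (H14Fib.fp_snd_obj z) (by simp [f, R])
    obtain ⟨a', a, ha⟩ := H14Fib.exists_sc_lift h𝒳 (a := z.obj.fst) rfl f
    have := H14Fib.sc_of_fibGrpd h𝒴 f (F.map a)
    have := H14Fib.sc_of_fibGrpd h𝒴 f ((BasedFunctor.id 𝒴).map ψ)
    obtain ⟨x, Φ, hx, hx', -, -, hΦ⟩ := H14Fib.fp_exists_lift z rfl f a ψ
    subst hx'
    rw [eqToHom_refl, Category.id_comp] at hΦ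
    subst hΦ
    exact ⟨x, Φ, IsHomLift.map (FibCat.fpSnd F (BasedFunctor.id 𝒴)).toFunctor Φ⟩
  · change r.obj.snd ⟶ x.obj.snd at g
    have hg : g ≫ Φ.hom.snd = Ψ.hom.snd :=
      IsHomLift.eq_of_isHomLift (FibCat.fpSnd F (BasedFunctor.id 𝒴)).toFunctor
        (g ≫ (FibCat.fpSnd F (BasedFunctor.id 𝒴)).toFunctor.map Φ) Ψ
    let g' : 𝒳.p.obj r.obj.fst ⟶ 𝒳.p.obj x.obj.fst :=
      eqToHom (H14Fib.fp_snd_obj r).symm ≫ 𝒴.p.map g ≫ eqToHom (H14Fib.fp_snd_obj x)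
    have hgl : 𝒴.p.IsHomLift g' g :=
      IsHomLift.of_fac' 𝒴.p g' g (H14Fib.fp_snd_obj r) (H14Fib.fp_snd_obj x) (by simp [g'])
    let fP := (FibCat.fp F (BasedFunctor.id 𝒴)).p.map Φ
    have := H14Fib.fp_isHomLift_fst fP Φ
    have := H14Fib.fp_isHomLift_snd' fP Φ
    have hfp := H14Fib.sc_of_fibGrpd (H14Fib.fp_fibGrpd (F := F) (G := BasedFunctor.id 𝒴) h𝒳 h𝒴 h𝒴) fP Φ
    have h1 : (FibCat.fp F (BasedFunctor.id 𝒴)).p.IsHomLift (g' ≫ fP) Ψ := by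
      have h2 : 𝒴.p.IsHomLift (g' ≫ fP) Ψ.hom.snd := hg ▸ inferInstance
      exact (BasedFunctor.isHomLift_iff (FibCat.fpSnd F (BasedFunctor.id 𝒴)) _ Ψ).1 h2
    obtain ⟨χ, ⟨hc1, hc2⟩, hcu⟩ := Functor.IsStronglyCartesian.universal_property
      (FibCat.fp F (BasedFunctor.id 𝒴)).p fP Φ g' _ rfl Ψ
    have := H14Fib.fp_isHomLift_snd' g' χ
    have hgχ : g = χ.hom.snd := by
      have := H14Fib.sc_of_fibGrpd h𝒴 fP Φ.hom.snd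
      apply Functor.IsStronglyCartesian.ext 𝒴.p fP Φ.hom.snd g'
      rw [hg, ← hc2]
      rfl
    refine ⟨χ, ⟨hgχ ▸ IsHomLift.map (FibCat.fpSnd F (BasedFunctor.id 𝒴)).toFunctor χ, hc2⟩, ?_⟩
    rintro τ ⟨hτ, e⟩
    have ht : g = τ.hom.snd :=
      IsHomLift.eq_of_isHomLift (FibCat.fpSnd F (BasedFunctor.id 𝒴)).toFunctor g τ
    refine hcu τ ⟨?_, e⟩
    have h3 : 𝒴.p.IsHomLift g' τ.hom.snd := ht ▸ hgl
    exact (BasedFunctor.isHomLift_iff (FibCat.fpSnd F (BasedFunctor.id 𝒴)) g' τ).1 h3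

end Groth.Agent.S6413
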