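import Groth.Statements.S6414

set_option autoImplicit false
set_option backward.isDefEq.respectTransparency false
set_option backward.isDefEq.respectTransparency.types false
open CategoryTheory
universe v₁ u₁ v₂ u₂ v₃ u₃
open FibCat

namespace Groth.Agent.S6414

/-- A morphism that is strongly cartesian with respect to `F : 𝒜 ⥤ ℬ` and whose image is strongly
cartesian with respect to `G : ℬ ⥤ 𝒞` is strongly cartesian with respect to `F ⋙ G`. -/
theorem result {𝒜 : Type u₁} [Category.{v₁} 𝒜] {ℬ : Type u₂} [Category.{v₂} ℬ] {𝒞 : Type u₃} [Category.{v₃} 𝒞] (F : 𝒜 ⥤ ℬ) (G : ℬ ⥤ 𝒞) {x y : 𝒜} (φ : x ⟶ y)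
    [F.IsStronglyCartesian (F.map φ) φ] [G.IsStronglyCartesian (G.map (F.map φ)) (F.map φ)] :
    (F ⋙ G).IsStronglyCartesian ((F ⋙ G).map φ) φ := by
  refine ⟨fun {a'} g ψ _ => ?_⟩
  have : G.IsHomLift (g ≫ G.map (F.map φ)) (F.map ψ) :=
    IsHomLift.of_fac' G _ _ rfl rfl (IsHomLift.fac' (F ⋙ G) (g ≫ (F ⋙ G).map φ) ψ)
  obtain ⟨χ, ⟨c1, c2⟩, cu⟩ := Functor.IsStronglyCartesian.universal_property G (G.map (F.map φ)) (F.map φ) g _ rfl (F.map ψ)
  have : F.IsHomLift (χ ≫ F.map φ) ψ := c2 ▸ IsHomLift.map F ψ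
  obtain ⟨θ, ⟨d1, d2⟩, du⟩ := Functor.IsStronglyCartesian.universal_property F (F.map φ) φ χ _ rfl ψ
  refine ⟨θ, ⟨?_, d2⟩, ?_⟩
  · obtain rfl : χ = F.map θ := IsHomLift.eq_of_isHomLift F χ θ
    obtain rfl : g = G.map (F.map θ) := IsHomLift.eq_of_isHomLift G g (F.map θ)
    exact IsHomLift.map (F ⋙ G) θ
  · rintro τ ⟨t1, rfl⟩
    obtain rfl : g = G.map (F.map τ) := IsHomLift.eq_of_isHomLift (F ⋙ G) g τ
    obtain rfl : F.map τ = χ := cu _ ⟨inferInstance, (F.map_comp _ _).symm⟩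
    exact du τ ⟨inferInstance, rfl⟩

end Groth.Agent.S6414
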