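import Groth.Statements.S6416
import Groth.Agent.H14Fib.Basic

set_option autoImplicit false
set_option backward.isDefEq.respectTransparency false
set_option backward.isDefEq.respectTransparency.types false
open CategoryTheory
universe v₁ u₁ v₂ u₂ v₃ u₃
open FibCat

namespace Groth.Agent.S6416

/-- The composite of two functors fibred in groupoids is fibred in groupoids. -/
theorem result {𝒜 : Type u₁} [Category.{v₁} 𝒜] {ℬ : Type u₂} [Category.{v₂} ℬ] {𝒞 : Type u₃} [Category.{v₃} 𝒞] (F : 𝒜 ⥤ ℬ) (G : ℬ ⥤ 𝒞) (hF : FibCat.IsFibGrpd F) (hG : FibCat.IsFibGrpd G) : FibCat.IsFibGrpd (F ⋙ G) := by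
  refine ⟨fun {x V} f => ?_, fun {y x} φ => ?_⟩
  · obtain ⟨b, ψ, hψ⟩ := hG.exists_lift (x := F.obj x) f
    obtain ⟨a, φ, hφ⟩ := hF.exists_lift (x := x) ψ
    obtain rfl : F.obj a = b := IsHomLift.domain_eq F ψ φ
    obtain rfl : ψ = F.map φ := IsHomLift.eq_of_isHomLift F ψ φ
    exact ⟨a, φ, IsHomLift.of_fac' (F ⋙ G) f φ (IsHomLift.domain_eq G f (F.map φ)) rfl
      (IsHomLift.fac' G f (F.map φ))⟩
  · have h1 := hF.isStronglyCartesian φ
    have h2 := hG.isStronglyCartesian (F.map φ)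
    refine ⟨fun {a'} g ψ _ => ?_⟩
    have : G.IsHomLift (g ≫ G.map (F.map φ)) (F.map ψ) := by
      have := IsHomLift.fac' (F ⋙ G) (g ≫ (F ⋙ G).map φ) ψ
      exact IsHomLift.of_fac' G _ _ rfl rfl this
    obtain ⟨χ, ⟨c1, c2⟩, cu⟩ := Functor.IsStronglyCartesian.universal_property G (G.map (F.map φ)) (F.map φ) g _ rfl (F.map ψ)
    have : F.IsHomLift (χ ≫ F.map φ) ψ := c2 ▸ IsHomLift.map F ψ
    obtain ⟨θ, ⟨d1, d2⟩, du⟩ := Functor.IsStronglyCartesian.universal_property F (F.map φ) φ χ _ rfl ψ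
    refine ⟨θ, ⟨?_, d2⟩, ?_⟩
    · obtain rfl : χ = F.map θ := IsHomLift.eq_of_isHomLift F χ θ
      obtain rfl : g = G.map (F.map θ) := IsHomLift.eq_of_isHomLift G g (F.map θ)
      exact IsHomLift.map (F ⋙ G) θ
    · rintro τ ⟨t1, rfl⟩
      obtain rfl : g = G.map (F.map τ) := IsHomLift.eq_of_isHomLift (F ⋙ G) g τ
      obtain rfl : F.map τ = χ := cu _ ⟨inferInstance, (F.map_comp _ _).symm⟩
      exact du τ ⟨inferInstance, rfl⟩

end Groth.Agent.S6416
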