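import Groth.Statements.S6417

set_option autoImplicit false
set_option backward.isDefEq.respectTransparency false
set_option backward.isDefEq.respectTransparency.types false
open CategoryTheory CategoryTheory.Limits
universe v₁ u₁ v₂ u₂
open FibCat

namespace Groth.Agent.S6417

/-- For `p : 𝒮 ⥤ C`, a strongly cartesian `φ : x ⟶ y`, any `ψ : z ⟶ y`, and a strongly cartesian `a : w
⟶ z` lying over the second projection of `p x ×_{p y} p z`, the object `w` is a fibre product `x ×_y
z`: there is `b : w ⟶ x` over the first projection with `(b, a)` a pullback square. -/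
theorem result {𝒮 : Type u₁} [Category.{v₁} 𝒮] {C : Type u₂} [Category.{v₂} C] (p : 𝒮 ⥤ C) {x y z w : 𝒮} (φ : x ⟶ y) (ψ : z ⟶ y)
    [p.IsStronglyCartesian (p.map φ) φ] [HasPullback (p.map φ) (p.map ψ)] (a : w ⟶ z)
    [p.IsStronglyCartesian (pullback.snd (p.map φ) (p.map ψ)) a] :
    ∃ b : w ⟶ x, p.IsHomLift (pullback.fst (p.map φ) (p.map ψ)) b ∧ IsPullback b a φ ψ := by
  obtain ⟨b, ⟨hb, hbf⟩, hbu⟩ := Functor.IsStronglyCartesian.universal_property p (p.map φ) φ
    (eqToHom (IsHomLift.domain_eq p (pullback.snd (p.map φ) (p.map ψ)) a) ≫ pullback.fst (p.map φ) (p.map ψ))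
    (p.map (a ≫ ψ)) (by
      rw [p.map_comp, IsHomLift.fac' p (pullback.snd (p.map φ) (p.map ψ)) a]
      simp [pullback.condition]) (a ≫ ψ)
  have hw := IsHomLift.domain_eq p (pullback.snd (p.map φ) (p.map ψ)) a
  have hbl : p.IsHomLift (pullback.fst (p.map φ) (p.map ψ)) b :=
    IsHomLift.of_fac' p _ _ hw rfl (by
      have := @IsHomLift.eq_of_isHomLift _ _ _ _ p _ _ _ b hb
      simp only [← this, eqToHom_refl, Category.comp_id])
  refine ⟨b, hbl, ⟨⟨hbf⟩, ⟨?_⟩⟩⟩
  have hmap_a : p.map a = eqToHom hw ≫ pullback.snd (p.map φ) (p.map ψ) := by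
    rw [IsHomLift.fac' p (pullback.snd (p.map φ) (p.map ψ)) a]; simp
  have hmap_b : p.map b = eqToHom hw ≫ pullback.fst (p.map φ) (p.map ψ) := by
    rw [IsHomLift.fac' p (pullback.fst (p.map φ) (p.map ψ)) b]; simp
  have key : ∀ s : PullbackCone φ ψ, ∃! l : s.pt ⟶ w, l ≫ b = s.fst ∧ l ≫ a = s.snd := by
    intro s
    let g : p.obj s.pt ⟶ pullback (p.map φ) (p.map ψ) :=
      pullback.lift (p.map s.fst) (p.map s.snd) (by rw [← p.map_comp, s.condition, p.map_comp])
    obtain ⟨l, ⟨hl, hla⟩, hlu⟩ := Functor.IsStronglyCartesian.universal_property p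
      (pullback.snd (p.map φ) (p.map ψ)) a g (p.map s.snd) (by simp [g]) s.snd
    have hlm : p.map l = g ≫ eqToHom hw.symm := by
      rw [IsHomLift.fac' p g l]; simp
    refine ⟨l, ⟨?_, hla⟩, ?_⟩
    · have h1 : p.map (l ≫ b) = p.map s.fst := by
        simp [hlm, hmap_b, g]
      have : p.IsHomLift (p.map s.fst) (l ≫ b) := h1 ▸ inferInstance
      refine Functor.IsStronglyCartesian.ext p (p.map φ) φ (p.map s.fst) ?_
      rw [Category.assoc, hbf, ← Category.assoc, hla, s.condition]
    · rintro l' ⟨h1, h2⟩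
      refine hlu l' ⟨?_, h2⟩
      have : p.map l' = g ≫ eqToHom hw.symm := by
        rw [← cancel_mono (eqToHom hw)]
        apply pullback.hom_ext
        · simp [g, ← hmap_b, ← p.map_comp, h1]
        · simp [g, ← hmap_a, ← p.map_comp, h2]
      exact IsHomLift.of_fac' p g l' rfl hw (by simp [this])
  exact PullbackCone.IsLimit.mk hbf (fun s => (key s).choose) (fun s => (key s).choose_spec.1.1)
    (fun s => (key s).choose_spec.1.2) (fun s m h1 h2 => (key s).choose_spec.2 m ⟨h1, h2⟩)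

end Groth.Agent.S6417
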