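import Groth.Statements.S6418

set_option autoImplicit false
set_option backward.isDefEq.respectTransparency false
set_option backward.isDefEq.respectTransparency.types false
open CategoryTheory
universe v₁ u₁ v₂ u₂
open FibCat

namespace Groth.Agent.S6418

/-- If `p' : 𝒮 ⥤ C/U` composed with the forgetful functor `C/U ⥤ C` is a fibred category, then so is
`p'`. -/
theorem result {𝒮 : Type u₁} [Category.{v₁} 𝒮] {C : Type u₂} [Category.{v₂} C] {U : C} (p' : 𝒮 ⥤ Over U) [(p' ⋙ Over.forget U).IsFibered] : p'.IsFibered := by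
  have hp : ∀ {a b : 𝒮} (φ : a ⟶ b) {R : Over U} (f : R ⟶ p'.obj b) (h : R = p'.obj a),
      (p' ⋙ Over.forget U).IsHomLift f.left φ → p'.IsHomLift f φ := by
    intro a b φ R f h hh
    subst h
    obtain rfl : f = p'.map φ := by
      apply Over.OverMorphism.ext
      exact IsHomLift.eq_of_isHomLift (p' ⋙ Over.forget U) f.left φ
    infer_instance
  have hlift : ∀ {a b : 𝒮} (φ : a ⟶ b) {R S : Over U} (f : R ⟶ S),
      p'.IsHomLift f φ → (p' ⋙ Over.forget U).IsHomLift f.left φ := by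
    intro a b φ R S f hh
    subst_hom_lift p' f φ
    exact IsHomLift.map (p' ⋙ Over.forget U) φ
  refine Functor.IsFibered.of_exists_isStronglyCartesian fun a R f => ?_
  obtain ⟨b, φ, hφ⟩ := Functor.IsPreFibered.exists_isCartesian' (p := p' ⋙ Over.forget U) (a := a) f.left
  have hb : p'.obj b = R := by
    have h1 : (p'.obj b).left = R.left := IsHomLift.domain_eq (p' ⋙ Over.forget U) f.left φ
    have h2 := IsHomLift.fac' (p' ⋙ Over.forget U) f.left φ
    have h3 := Over.w (p'.map φ)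
    simp only [Functor.comp_map, Over.forget_map] at h2
    rw [h2] at h3
    simp only [eqToHom_refl, Category.comp_id, Category.assoc, Over.w] at h3
    have hx : ∀ (P Q : Over U) (h : P.left = Q.left), P.hom = eqToHom h ≫ Q.hom → P = Q := by
      rintro ⟨a, ⟨⟨⟩⟩, f⟩ ⟨b, ⟨⟨⟩⟩, g⟩ h e
      cases h
      simp only [eqToHom_refl, Category.id_comp] at e
      cases e
      rfl
    exact hx _ _ h1 h3.symm
  subst hb
  have hφ' : p'.IsHomLift f φ := hp φ f rfl inferInstance
  refine ⟨b, φ, ⟨fun {a'} g ψ _ => ?_⟩⟩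
  have := hlift ψ (g ≫ f) inferInstance
  obtain ⟨χ, ⟨h1, h2⟩, hu⟩ := Functor.IsStronglyCartesian.universal_property (p' ⋙ Over.forget U) f.left φ g.left (g ≫ f).left rfl ψ
  refine ⟨χ, ⟨hp χ g rfl h1, h2⟩, ?_⟩
  rintro τ ⟨hτ, rfl⟩
  exact hu τ ⟨hlift τ g hτ, rfl⟩

end Groth.Agent.S6418
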