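import Groth.Statements.S6419
import Groth.Agent.H14Fib.Basic

set_option autoImplicit false
set_option backward.isDefEq.respectTransparency false
set_option backward.isDefEq.respectTransparency.types false
open CategoryTheory
universe v₁ u₁ v₂ u₂
open FibCat

namespace Groth.Agent.S6419

/-- If `p' : 𝒮 ⥤ C/U` composed with the forgetful functor `C/U ⥤ C` is fibred in groupoids, then so is
`p'`. -/
theorem result {𝒮 : Type u₁} [Category.{v₁} 𝒮] {C : Type u₂} [Category.{v₂} C] {U : C} (p' : 𝒮 ⥤ Over U) (h : FibCat.IsFibGrpd (p' ⋙ Over.forget U)) : FibCat.IsFibGrpd p' := by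
  have hp : ∀ {a b : 𝒮} (φ : a ⟶ b) {R : Over U} (f : R ⟶ p'.obj b) (e : R = p'.obj a),
      (p' ⋙ Over.forget U).IsHomLift f.left φ → p'.IsHomLift f φ := by
    intro a b φ R f e hh
    subst e
    obtain rfl : f = p'.map φ := by
      apply Over.OverMorphism.ext
      exact IsHomLift.eq_of_isHomLift (p' ⋙ Over.forget U) f.left φ
    infer_instance
  have hx : ∀ (P Q : Over U) (e : P.left = Q.left), P.hom = eqToHom e ≫ Q.hom → P = Q := by
    rintro ⟨a, ⟨⟨⟩⟩, f⟩ ⟨b, ⟨⟨⟩⟩, g⟩ e e'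
    cases e
    simp only [eqToHom_refl, Category.id_comp] at e'
    cases e'
    rfl
  refine ⟨fun {x R} f => ?_, fun {y x} φ => ?_⟩
  · obtain ⟨b, φ, hφ⟩ := h.exists_lift (x := x) f.left
    have h1 : (p'.obj b).left = R.left := IsHomLift.domain_eq (p' ⋙ Over.forget U) f.left φ
    have h2 := IsHomLift.fac' (p' ⋙ Over.forget U) f.left φ
    have h3 := Over.w (p'.map φ)
    simp only [Functor.comp_map, Over.forget_map] at h2
    rw [h2] at h3
    simp only [eqToHom_refl, Category.comp_id, Category.assoc, Over.w] at h3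
    exact ⟨b, φ, hp φ f (hx _ _ h1 h3.symm).symm hφ⟩
  · have := h.isStronglyCartesian φ
    refine ⟨fun {a'} g ψ _ => ?_⟩
    have : (p' ⋙ Over.forget U).IsHomLift (g.left ≫ (p'.map φ).left) ψ := by
      rw [← Over.comp_left, IsHomLift.eq_of_isHomLift p' (g ≫ p'.map φ) ψ]
      exact IsHomLift.map (p' ⋙ Over.forget U) ψ
    obtain ⟨χ, ⟨h1, h2⟩, hu⟩ := Functor.IsStronglyCartesian.universal_property
      (p' ⋙ Over.forget U) ((p' ⋙ Over.forget U).map φ) φ g.left (g.left ≫ (p'.map φ).left) rfl ψ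
    refine ⟨χ, ⟨hp χ g rfl h1, h2⟩, ?_⟩
    rintro τ ⟨hτ, rfl⟩
    refine hu τ ⟨?_, rfl⟩
    rw [IsHomLift.eq_of_isHomLift p' g τ]
    exact IsHomLift.map (p' ⋙ Over.forget U) τ

end Groth.Agent.S6419
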