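import Groth.Statements.S6421
import Groth.Agent.H14Fib.CatPb

set_option autoImplicit false
set_option backward.isDefEq.respectTransparency false
set_option backward.isDefEq.respectTransparency.types false
open CategoryTheory CategoryTheory.Limits
universe v u
open FibCat

namespace Groth.Agent.S6421

/-- For a 2-commutative morphism of cospans of categories whose outer functors `X ⥤ A`, `Y ⥤ B` are
fully faithful and whose middle functor `Z ⥤ C` is faithful, the induced functor `X ×_Z Y ⥤ A ×_C B`
is fully faithful. -/
theorem result {X Y Z A B C : Type u} [Category.{v} X] [Category.{v} Y] [Category.{v} Z] [Category.{v} A] [Category.{v} B] [Category.{v} C] {H : X ⥤ Z} {I : Y ⥤ Z} {F : A ⥤ C} {G : B ⥤ C} (ψ : CatCospanTransform H I F G) [ψ.left.Full] [ψ.left.Faithful] [ψ.right.Full] [ψ.right.Faithful] [ψ.base.Faithful] :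
    (FibCat.categoricalPullbackMap ψ).Full ∧ (FibCat.categoricalPullbackMap ψ).Faithful := by
  exact ⟨H14Fib.catPbMap_full ψ, H14Fib.catPbMap_faithful ψ⟩

end Groth.Agent.S6421
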