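import Groth.Statements.S6423
import Mathlib

open CategoryTheory CategoryTheory.Limits Opposite TopologicalSpace TopCat MonoidalCategory

set_option linter.style.haveILetI false
open CategoryTheory CategoryTheory.Limits Opposite Simplicial

set_option autoImplicit false
open CategoryTheory CategoryTheory.Limits
universe v u
open CatLim

namespace Groth.Agent.S6423

section
variable {C : Type u} [Category.{v} C] {J : Type} [SmallCategory J] [FinCategory J]

/-- a universal family of maps to the objects indexed by `T`, compatible with the arrows in `E` -/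
def Good (F : J ⥤ C) (T : Finset J) (E : Finset (Σ a b : J, (a ⟶ b))) : Prop :=
  (∀ e ∈ E, e.1 ∈ T ∧ e.2.1 ∈ T) ∧
  ∃ (P : C) (π : ∀ j ∈ T, (P ⟶ F.obj j)),
    (∀ e ∈ E, ∀ (ha : e.1 ∈ T) (hb : e.2.1 ∈ T), π _ ha ≫ F.map e.2.2 = π _ hb) ∧
    ∀ (X : C) (x : ∀ j ∈ T, (X ⟶ F.obj j)),
      (∀ e ∈ E, ∀ (ha : e.1 ∈ T) (hb : e.2.1 ∈ T), x _ ha ≫ F.map e.2.2 = x _ hb) →
      ∃! l : X ⟶ P, ∀ j hj, l ≫ π j hj = x j hj

variable [DecidableEq J] [∀ a b : J, DecidableEq (a ⟶ b)]

lemma good_addArrow [HasEqualizers C] {F : J ⥤ C} {T : Finset J} {E : Finset (Σ a b : J, (a ⟶ b))}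
    (h : Good F T E) {a b : J} (ha : a ∈ T) (hb : b ∈ T) (f : a ⟶ b) :
    Good F T (insert ⟨a, b, f⟩ E) := by
  obtain ⟨hE, P, π, hπ, hu⟩ := h
  refine ⟨?_, equalizer (π a ha ≫ F.map f) (π b hb), fun j hj => equalizer.ι _ _ ≫ π j hj, ?_, ?_⟩
  · intro e he
    rcases Finset.mem_insert.1 he with rfl | he
    · exact ⟨ha, hb⟩
    · exact hE e he
  · intro e he ha' hb'
    rcases Finset.mem_insert.1 he with rfl | he
    · simpa [Category.assoc] using equalizer.condition (π a ha ≫ F.map f) (π b hb)
    · simp [Category.assoc, hπ e he _ (hE e he).2]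
  · intro X x hx
    obtain ⟨l, hl, hl'⟩ := hu X x (fun e he => hx e (Finset.mem_insert_of_mem he))
    have hcond : l ≫ π a ha ≫ F.map f = l ≫ π b hb := by
      rw [← Category.assoc, hl, hl]
      exact hx ⟨a, b, f⟩ (Finset.mem_insert_self _ _) ha hb
    refine ⟨equalizer.lift l hcond, fun j hj => by simp [hl], fun l' h' => ?_⟩
    apply equalizer.hom_ext
    rw [equalizer.lift_ι]
    exact hl' _ (fun j hj => by rw [Category.assoc]; exact h' j hj)

lemma good_addObj_in [HasPullbacks C] {F : J ⥤ C} {T : Finset J} {E : Finset (Σ a b : J, (a ⟶ b))}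
    (h : Good F T E) {j k : J} (hj : j ∈ T) (hk : k ∉ T) (f : k ⟶ j) :
    Good F (insert k T) (insert ⟨k, j, f⟩ E) := by
  obtain ⟨hE, P, π, hπ, hu⟩ := h
  refine ⟨?_, pullback (π j hj) (F.map f),
    fun i hi => if h : i = k then pullback.snd _ _ ≫ eqToHom (by rw [h]) else
      pullback.fst _ _ ≫ π i (Finset.mem_of_mem_insert_of_ne hi h), ?_, ?_⟩
  · intro e he
    rcases Finset.mem_insert.1 he with rfl | he
    · exact ⟨Finset.mem_insert_self _ _, Finset.mem_insert_of_mem hj⟩
    · exact ⟨Finset.mem_insert_of_mem (hE e he).1, Finset.mem_insert_of_mem (hE e he).2⟩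
  · intro e he ha' hb'
    rcases Finset.mem_insert.1 he with rfl | he
    · have hjk : j ≠ k := fun e => hk (e ▸ hj)
      simp [hjk, pullback.condition]
    · have h1 : e.1 ≠ k := fun h => hk (h ▸ (hE e he).1)
      have h2 : e.2.1 ≠ k := fun h => hk (h ▸ (hE e he).2)
      simp [h1, h2, hπ e he _ (hE e he).2]
  · intro X x hx
    obtain ⟨l, hl, hl'⟩ := hu X (fun i hi => x i (Finset.mem_insert_of_mem hi))
      (fun e he _ _ => hx e (Finset.mem_insert_of_mem he) _ _)
    have hcond : l ≫ π j hj = x k (Finset.mem_insert_self _ _) ≫ F.map f := by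
      rw [hl]; exact (hx ⟨k, j, f⟩ (Finset.mem_insert_self _ _) _ _).symm
    refine ⟨pullback.lift l (x k (Finset.mem_insert_self _ _)) hcond, ?_, fun l' h' => ?_⟩
    · intro i hi
      by_cases h : i = k
      · subst h; simp only [dite_true, eqToHom_refl, Category.comp_id]; exact pullback.lift_snd _ _ _
      · simp only [h, dite_false]; erw [pullback.lift_fst_assoc]; exact hl i _
    · apply pullback.hom_ext
      · rw [pullback.lift_fst]
        refine hl' _ (fun i hi => ?_)
        have hik : i ≠ k := fun e => hk (e ▸ hi)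
        simpa [hik] using h' i (Finset.mem_insert_of_mem hi)
      · rw [pullback.lift_snd]
        simpa using h' k (Finset.mem_insert_self _ _)

lemma good_addObj_out {F : J ⥤ C} {T : Finset J} {E : Finset (Σ a b : J, (a ⟶ b))}
    (h : Good F T E) {j k : J} (hj : j ∈ T) (hk : k ∉ T) (f : j ⟶ k) :
    Good F (insert k T) (insert ⟨j, k, f⟩ E) := by
  obtain ⟨hE, P, π, hπ, hu⟩ := h
  refine ⟨?_, P,
    fun i hi => if h : i = k then π j hj ≫ F.map f ≫ eqToHom (by rw [h]) else
      π i (Finset.mem_of_mem_insert_of_ne hi h), ?_, ?_⟩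
  · intro e he
    rcases Finset.mem_insert.1 he with rfl | he
    · exact ⟨Finset.mem_insert_of_mem hj, Finset.mem_insert_self _ _⟩
    · exact ⟨Finset.mem_insert_of_mem (hE e he).1, Finset.mem_insert_of_mem (hE e he).2⟩
  · intro e he ha' hb'
    rcases Finset.mem_insert.1 he with rfl | he
    · have hjk : j ≠ k := fun e => hk (e ▸ hj)
      simp [hjk]
    · have h1 : e.1 ≠ k := fun h => hk (h ▸ (hE e he).1)
      have h2 : e.2.1 ≠ k := fun h => hk (h ▸ (hE e he).2)
      simp [h1, h2, hπ e he _ (hE e he).2]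
  · intro X x hx
    obtain ⟨l, hl, hl'⟩ := hu X (fun i hi => x i (Finset.mem_insert_of_mem hi))
      (fun e he _ _ => hx e (Finset.mem_insert_of_mem he) _ _)
    refine ⟨l, ?_, fun l' h' => hl' _ (fun i hi => ?_)⟩
    · intro i hi
      by_cases h : i = k
      · subst h
        simp only [dite_true, eqToHom_refl, Category.comp_id]
        rw [← Category.assoc, hl]
        exact hx ⟨j, i, f⟩ (Finset.mem_insert_self _ _) _ _
      · simp [h, hl]
    · have hik : i ≠ k := fun e => hk (e ▸ hi)
      simpa [hik] using h' i (Finset.mem_insert_of_mem hi)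

theorem main [HasEqualizers C] [HasPullbacks C] [IsConnected J] (F : J ⥤ C) : HasLimit F := by
  classical
  obtain ⟨j₀⟩ : Nonempty J := IsConnected.is_nonempty
  have base : Good F {j₀} ∅ := by
    refine ⟨by simp, F.obj j₀, fun j hj => eqToHom (by rw [Finset.mem_singleton.1 hj]),
      by simp, fun X x _ => ⟨x j₀ (Finset.mem_singleton_self _), ?_, fun l hl => ?_⟩⟩
    · intro j hj
      obtain rfl := Finset.mem_singleton.1 hj
      simp
    · simpa using hl j₀ (Finset.mem_singleton_self _)
  let S : Finset (Finset J) := Finset.univ.filter (fun T => j₀ ∈ T ∧ ∃ E, Good F T E)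
  obtain ⟨T, hT, hmax⟩ := S.exists_maximal ⟨{j₀}, by simp [S]; exact ⟨_, base⟩⟩
  simp only [S, Finset.mem_filter, Finset.mem_univ, true_and] at hT
  obtain ⟨hj₀, E, hTE⟩ := hT
  have step : ∀ k, k ∉ T → ∀ E', Good F (insert k T) E' → False := fun k hk E' h => by
    have hle := hmax (y := insert k T)
      (by simp only [S, Finset.mem_filter, Finset.mem_univ, true_and]
          exact ⟨Finset.mem_insert_of_mem hj₀, E', h⟩) (Finset.subset_insert _ _)
    exact hk (hle (Finset.mem_insert_self _ _))
  have hall : ∀ j, j ∈ T := by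
    intro j
    refine induct_on_objects {i | i ∈ T} hj₀ (fun {a b} f => ⟨fun ha => ?_, fun hb => ?_⟩) j
    · by_contra hb
      exact step b hb _ (good_addObj_out hTE ha hb f)
    · by_contra ha
      exact step a ha _ (good_addObj_in hTE hb ha f)
  have hfull : ∀ E' : Finset (Σ a b : J, (a ⟶ b)), Good F T (E' ∪ E) := by
    intro E'
    induction E' using Finset.induction with
    | empty => simpa using hTE
    | @insert e s _ ih =>
      rw [Finset.insert_union]
      exact good_addArrow ih (hall e.1) (hall e.2.1) e.2.2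
  obtain ⟨-, P, π, hπ, hu⟩ := hfull Finset.univ
  let c : Cone F :=
    { pt := P
      π := { app := fun j => π j (hall j)
             naturality := fun a b f => by simpa using (hπ ⟨a, b, f⟩ (by simp) (hall a) (hall b)).symm } }
  have hs : ∀ s : Cone F, ∃! l : s.pt ⟶ P, ∀ j hj, l ≫ π j hj = s.π.app j :=
    fun s => hu s.pt (fun j _ => s.π.app j) (fun e _ _ _ => s.w e.2.2)
  exact HasLimit.mk ⟨c,
    { lift := fun s => (hs s).choose
      fac := fun s j => (hs s).choose_spec.1 j (hall j)
      uniq := fun s m hm => (hs s).choose_spec.2 m (fun j _ => hm j) }⟩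
end

/-- (2) ⇒ (1): a category with equalizers and fibre products has all finite connected limits. -/
theorem result {C : Type u} [Category.{v} C] [HasEqualizers C] [HasPullbacks C]
    (J : Type) [SmallCategory J] [FinCategory J] [IsConnected J] : HasLimitsOfShape J C := by
  classical
  exact ⟨fun F => main F⟩

end Groth.Agent.S6423
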