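import Groth.Statements.S6424
import Mathlib.CategoryTheory.Limits.Constructions.FiniteProductsOfBinaryProducts
import Mathlib.CategoryTheory.Limits.Constructions.LimitsOfProductsAndEqualizers
import Mathlib.Data.Fintype.Sigma

set_option linter.style.haveILetI false

set_option autoImplicit false
open CategoryTheory CategoryTheory.Limits
universe v u
open CatLim

namespace Groth.Agent.S6424

section
variable {C : Type u} [Category.{v} C] [HasBinaryProducts C]
theorem hasProduct_fin_succ : ∀ (n : ℕ) (f : Fin (n + 1) → C), HasProduct f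
  | 0, f => by
    haveI : Subsingleton (Fin (0 + 1)) := inferInstanceAs (Subsingleton (Fin 1))
    exact hasProduct_unique f
  | n + 1, f => by
    haveI := hasProduct_fin_succ n
    exact ⟨⟨⟨_, extendFanIsLimit f (limit.isLimit _) (limit.isLimit _)⟩⟩⟩

theorem hasProduct_nonempty {ι : Type*} [Finite ι] [Nonempty ι] (f : ι → C) :
    HasLimit (Discrete.functor f) := by
  obtain ⟨n, ⟨e⟩⟩ := Finite.exists_equiv_fin ι
  cases n with
  | zero => exact (IsEmpty.false (e (Classical.arbitrary ι))).elim
  | succ n =>
    haveI := hasProduct_fin_succ n (f ∘ e.symm)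
    exact hasProduct_of_equiv_of_iso (f ∘ e.symm) f e (fun j => eqToIso (by simp))
end

/-- (2) ⇒ (1): a category with products of pairs and equalizers has all finite nonempty limits. -/
theorem result {C : Type u} [Category.{v} C] [HasBinaryProducts C] [HasEqualizers C]
    (J : Type) [SmallCategory J] [FinCategory J] [Nonempty J] : HasLimitsOfShape J C := by
  refine ⟨fun F => ?_⟩
  haveI : Nonempty (Σ p : J × J, p.1 ⟶ p.2) := ⟨⟨(Classical.arbitrary J, Classical.arbitrary J), 𝟙 _⟩⟩
  haveI := hasProduct_nonempty F.obj
  haveI := hasProduct_nonempty (fun f : Σ p : J × J, p.1 ⟶ p.2 => F.obj f.1.2)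
  exact hasLimit_of_equalizer_and_product F

end Groth.Agent.S6424
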