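import Groth.Statements.S6425
import Mathlib.CategoryTheory.Limits.Types.Products

set_option linter.style.haveILetI false

set_option autoImplicit false
open CategoryTheory CategoryTheory.Limits
universe v
open CatLim

namespace Groth.Agent.S6425

/-- Over an index category in which any two objects map to a common object, the comparison map `colim (M
× N) → colim M × colim N` for diagrams of sets is surjective. -/
theorem result {I : Type v} [SmallCategory I]
    (hI : ∀ x y : I, ∃ (z : I) (_ : x ⟶ z) (_ : y ⟶ z), True) (M N : I ⥤ Type v) :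
    Function.Surjective (prodComparison (colim : (I ⥤ Type v) ⥤ Type v) M N) := by
  intro p
  obtain ⟨i, m, hm⟩ := Types.jointly_surjective' ((prod.fst : colim.obj M ⨯ colim.obj N ⟶ _) p)
  obtain ⟨j, n, hn⟩ := Types.jointly_surjective' ((prod.snd : colim.obj M ⨯ colim.obj N ⟶ _) p)
  obtain ⟨z, f, g, -⟩ := hI i j
  let a := coyonedaEquiv.symm (M.map f m)
  let b := coyonedaEquiv.symm (N.map g n)
  let e : (M ⨯ N).obj z := coyonedaEquiv (prod.lift a b)
  refine ⟨colimit.ι (M ⨯ N) z e, ?_⟩
  have hfst : (prod.fst : M ⨯ N ⟶ M).app z e = M.map f m := by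
    show (prod.fst : M ⨯ N ⟶ M).app z (coyonedaEquiv (prod.lift a b)) = _
    rw [← coyonedaEquiv_comp, prod.lift_fst, Equiv.apply_symm_apply]
  have hsnd : (prod.snd : M ⨯ N ⟶ N).app z e = N.map g n := by
    show (prod.snd : M ⨯ N ⟶ N).app z (coyonedaEquiv (prod.lift a b)) = _
    rw [← coyonedaEquiv_comp, prod.lift_snd, Equiv.apply_symm_apply]
  apply (Types.binaryProductIso _ _).toEquiv.injective
  apply Prod.ext
  · simp only [Iso.toEquiv_fun, Types.binaryProductIso_hom_comp_fst_apply]
    rw [← hm, ← ConcreteCategory.comp_apply, prodComparison_fst, colim_map,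
      colimit.ι_map_apply, hfst, Types.Colimit.w_apply]
  · simp only [Iso.toEquiv_fun, Types.binaryProductIso_hom_comp_snd_apply]
    rw [← hn, ← ConcreteCategory.comp_apply, prodComparison_snd, colim_map,
      colimit.ι_map_apply, hsnd, Types.Colimit.w_apply]

end Groth.Agent.S6425
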