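import Groth.Statements.S6426

set_option linter.style.haveILetI false

set_option autoImplicit false
open CategoryTheory CategoryTheory.Limits
universe v
open CatLim

namespace Groth.Agent.S6426

/-- Over a nonempty index category in which any two objects map to a common object, the set-theoretic
colimit of a diagram of abelian groups surjects onto its colimit in abelian groups. (The published
statement does not require the index category to be nonempty; this row assumes it, because for the
empty index category the colimit of sets is empty while the colimit of abelian groups is the zero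
group.) -/
theorem result {I : Type v} [SmallCategory I] [Nonempty I]
    (hI : ∀ x y : I, ∃ (z : I) (_ : x ⟶ z) (_ : y ⟶ z), True) (M : I ⥤ AddCommGrpCat.{v}) :
    Function.Surjective (colimit.post M (forget AddCommGrpCat.{v})) := by
  let H : AddSubgroup (colimit M : AddCommGrpCat.{v}) :=
    { carrier := {x | ∃ (i : I) (a : M.obj i), colimit.ι M i a = x}
      zero_mem' := ⟨Classical.arbitrary I, 0, map_zero _⟩
      add_mem' := by
        rintro _ _ ⟨i, a, rfl⟩ ⟨j, b, rfl⟩
        obtain ⟨z, f, g, -⟩ := hI i j
        refine ⟨z, M.map f a + M.map g b, ?_⟩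
        rw [map_add, colimit.w_apply, colimit.w_apply]
      neg_mem' := by rintro _ ⟨i, a, rfl⟩; exact ⟨i, -a, map_neg _ _⟩ }
  intro x
  have hH : AddCommGrpCat.ofHom (QuotientAddGroup.mk' H) = 0 := by
    apply colimit.hom_ext
    intro i
    ext a
    simp only [comp_zero]
    exact (QuotientAddGroup.eq_zero_iff _).2 ⟨i, a, rfl⟩
  obtain ⟨i, a, ha⟩ : x ∈ H :=
    (QuotientAddGroup.eq_zero_iff (N := H) x).1 (congrArg (fun φ : (colimit M ⟶ AddCommGrpCat.of _) => φ x) hH)
  refine ⟨colimit.ι (M ⋙ forget AddCommGrpCat.{v}) i a, ?_⟩
  rw [← types_comp_apply (colimit.ι (M ⋙ forget AddCommGrpCat.{v}) i) (colimit.post M _), colimit.ι_post]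
  exact ha

end Groth.Agent.S6426
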