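import Groth.Statements.S6427

set_option linter.style.haveILetI false

set_option autoImplicit false
open CategoryTheory CategoryTheory.Limits
universe v
open CatLim

namespace Groth.Agent.S6427

/-- Over an index category in which every pair of morphisms with common source can be completed to a
commutative square, colimits of sets preserve injective morphisms of diagrams. -/
theorem result {I : Type v} [SmallCategory I]
    (hI : ∀ ⦃x y z : I⦄ (f : x ⟶ y) (g : x ⟶ z), ∃ (w : I) (f' : y ⟶ w) (g' : z ⟶ w), f ≫ f' = g ≫ g')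
    {M N : I ⥤ Type v} (φ : M ⟶ N) (hφ : ∀ i, Function.Injective (φ.app i)) :
    Function.Injective (colimMap φ) := by
  intro a b hab
  obtain ⟨i, m, rfl⟩ := Types.jointly_surjective' a
  obtain ⟨j, n, rfl⟩ := Types.jointly_surjective' b
  rw [colimit.ι_map_apply, colimit.ι_map_apply] at hab
  have h := Types.colimit_eq hab
  have key : ∀ p q : Σ k, N.obj k, Relation.EqvGen N.ColimitTypeRel p q →
      ∃ (w : I) (f : p.1 ⟶ w) (g : q.1 ⟶ w), N.map f p.2 = N.map g q.2 := by
    intro p q hpq
    induction hpq with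
    | rel p q hr =>
      obtain ⟨f, hf⟩ := hr
      exact ⟨q.1, f, 𝟙 _, by simp [hf]⟩
    | refl p => exact ⟨p.1, 𝟙 _, 𝟙 _, rfl⟩
    | symm p q _ ih => obtain ⟨w, f, g, e⟩ := ih; exact ⟨w, g, f, e.symm⟩
    | trans p q r _ _ ih₁ ih₂ =>
      obtain ⟨w₁, f₁, g₁, e₁⟩ := ih₁
      obtain ⟨w₂, f₂, g₂, e₂⟩ := ih₂
      obtain ⟨w, a, b, hab⟩ := hI g₁ f₂
      refine ⟨w, f₁ ≫ a, g₂ ≫ b, ?_⟩
      simp only [Functor.map_comp, types_comp_apply, e₁, ← e₂]
      rw [← types_comp_apply (N.map g₁) (N.map a), ← N.map_comp, hab, N.map_comp, types_comp_apply]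
  obtain ⟨w, f, g, e⟩ := key _ _ h
  have : φ.app w (M.map f m) = φ.app w (M.map g n) := by
    rw [FunctorToTypes.naturality, FunctorToTypes.naturality]; exact e
  exact Types.colimit_sound' f g (hφ w this)

end Groth.Agent.S6427
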