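import Groth.Statements.S6428
import Mathlib

set_option linter.style.haveILetI false
open CategoryTheory CategoryTheory.Limits Opposite Simplicial

set_option autoImplicit false
open CategoryTheory CategoryTheory.Limits
universe v₁ u₁ v₂ u₂ v₃ u₃
open CatLim

namespace Groth.Agent.S6428

/-- If `F : I ⥤ I'` has connected fibre categories and is surjective on morphisms, then for every
diagram `M : I' ⥤ C` the colimit of `F ⋙ M` exists if and only if that of `M` does, and the
canonical comparison between them is then an isomorphism. -/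
theorem result {I : Type u₁} [Category.{v₁} I] {I' : Type u₂} [Category.{v₂} I'] {C : Type u₃} [Category.{v₃} C] (F : I ⥤ I')
    (h1 : ∀ x' : I', IsConnected (F.Fiber x'))
    (h2 : ∀ ⦃x' y' : I'⦄ (α' : x' ⟶ y'), ∃ (x y : I) (hx : F.obj x = x') (hy : F.obj y = y') (α : x ⟶ y), F.map α = eqToHom hx ≫ α' ≫ eqToHom hy.symm)
    (M : I' ⥤ C) :
    (HasColimit (F ⋙ M) ↔ HasColimit M) ∧ ∀ [HasColimit (F ⋙ M)] [HasColimit M], IsIso (colimit.pre M F) := by
  have : F.Final := by
    refine ⟨fun d => ?_⟩
    let G : F.Fiber d ⥤ StructuredArrow d F :=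
      { obj := fun a => StructuredArrow.mk (eqToHom a.2.symm)
        map := fun {a b} φ => StructuredArrow.homMk φ.1 (by
          have := φ.2
          simp [IsHomLift.fac' F (𝟙 d) φ.1]) }
    have := h1 d
    obtain ⟨a₀⟩ := (inferInstance : Nonempty (F.Fiber d))
    have : Nonempty (StructuredArrow d F) := ⟨G.obj a₀⟩
    refine zigzag_isConnected fun j j' => ?_
    have key : ∀ j : StructuredArrow d F, ∃ a, Zigzag j (G.obj a) := by
      intro j
      obtain ⟨x, y, hx, hy, α, hα⟩ := h2 j.hom
      refine ⟨⟨x, hx⟩, ?_⟩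
      have e1 : G.obj ⟨x, hx⟩ ⟶ StructuredArrow.mk (j.hom ≫ eqToHom hy.symm) :=
        StructuredArrow.homMk α (by
          simp [G, hα])
      have := h1 (F.obj j.right)
      let G' : F.Fiber (F.obj j.right) ⥤ StructuredArrow d F :=
        { obj := fun a => StructuredArrow.mk (j.hom ≫ eqToHom a.2.symm)
          map := fun {a b} φ => StructuredArrow.homMk φ.1 (by
            have := φ.2
            simp [IsHomLift.fac' F (𝟙 (F.obj j.right)) φ.1]) }
      let p₀ : F.Fiber (F.obj j.right) := ⟨j.right, rfl⟩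
      let p₁ : F.Fiber (F.obj j.right) := ⟨y, hy⟩
      have e2 := zigzag_obj_of_zigzag G' (isPreconnected_zigzag p₀ p₁)
      have e3 : Zigzag j (G'.obj ⟨j.right, rfl⟩) := Zigzag.of_hom (StructuredArrow.homMk (𝟙 _) (by simp [G']))
      exact (e3.trans e2).trans (Zigzag.of_inv e1)
    obtain ⟨a, ha⟩ := key j
    obtain ⟨a', ha'⟩ := key j'
    exact (ha.trans (zigzag_obj_of_zigzag G (isPreconnected_zigzag a a'))).trans ha'.symm
  exact ⟨Functor.Final.hasColimit_comp_iff F, inferInstance⟩

end Groth.Agent.S6428
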