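import Groth.Statements.S6430
import Groth.Agent.H14Fib.Basic

set_option autoImplicit false
set_option backward.isDefEq.respectTransparency false
set_option backward.isDefEq.respectTransparency.types false
open CategoryTheory
universe v₂ u₂ v u
open FibCat

namespace Groth.Agent.S6430

/-- For a fibred category `p : 𝒮 ⥤ C`, the wide subcategory of `𝒮` on the strongly cartesian morphisms
is fibred in groupoids over `C`. -/
theorem result {C : Type u} [Category.{v} C] {𝒮 : Type u₂} [Category.{v₂} 𝒮] (p : 𝒮 ⥤ C) [p.IsFibered] :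
    FibCat.IsFibGrpd (FibCat.cartSubProj p) := by
  have key : ∀ {a b : FibCat.cartSub p} (φ : a ⟶ b) {R S : C} (f : R ⟶ S),
      (FibCat.cartSubProj p).IsHomLift f φ ↔ p.IsHomLift f φ.hom := by
    intro a b φ R S f
    constructor <;> intro h
    · subst_hom_lift (FibCat.cartSubProj p) f φ
      exact IsHomLift.map p φ.hom
    · exact IsHomLift.of_fac' _ f φ (IsHomLift.domain_eq p f φ.hom) (IsHomLift.codomain_eq p f φ.hom)
        (IsHomLift.fac' p f φ.hom)
  refine ⟨fun {x R} f => ?_, fun {y x} φ => ?_⟩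
  · obtain ⟨b, φ, hφ⟩ := H14Fib.isFibered_exists_sc p (a := x.obj) rfl f
    exact ⟨⟨b⟩, ⟨φ, H14Fib.sc_self f φ⟩, (key _ f).2 hφ.toIsHomLift⟩
  · refine ⟨fun {z} g ψ _ => ?_⟩
    have : p.IsStronglyCartesian (p.map φ.hom) φ.hom := φ.2
    have hψ : p.IsHomLift (g ≫ p.map φ.hom) ψ.hom := (key ψ _).1 (by assumption)
    have : p.IsStronglyCartesian (p.map ψ.hom) ψ.hom := ψ.2
    have := H14Fib.sc_of_self (p := p) (g ≫ p.map φ.hom) ψ.hom
    obtain ⟨χ, ⟨h1, h2⟩, hu⟩ := Functor.IsStronglyCartesian.universal_property p (p.map φ.hom) φ.hom g _ rfl ψ.hom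
    have : p.IsStronglyCartesian (g ≫ p.map φ.hom) (χ ≫ φ.hom) := h2.symm ▸ (by assumption)
    have hχ : p.IsStronglyCartesian g χ := Functor.IsStronglyCartesian.of_comp p (g := p.map φ.hom) (ψ := φ.hom)
    refine ⟨⟨χ, H14Fib.sc_self g χ⟩, ⟨(key _ g).2 h1, WideSubcategory.hom_ext (cartMor p) h2⟩, ?_⟩
    rintro τ ⟨hτ, he⟩
    exact WideSubcategory.hom_ext (cartMor p) (hu _ ⟨(key τ g).1 hτ, congrArg InducedWideCategory.Hom.hom he⟩)

end Groth.Agent.S6430
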