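import Groth.Statements.S6431
import Groth.Agent.H14Fib.SplitRepl

set_option autoImplicit false
set_option backward.isDefEq.respectTransparency false
set_option backward.isDefEq.respectTransparency.types false
open CategoryTheory
universe v u
open FibCat

namespace Groth.Agent.S6431

/-- Every fibred category over `C` is equivalent over `C` to a split one, namely to the Grothendieck
construction of a strict functor `Cᵒᵖ ⥤ Cat`. -/
theorem result {C : Type u} [Category.{v} C] (𝒳 : BasedCategory.{v, max u v} C) [𝒳.p.IsFibered] :
    ∃ (F : Cᵒᵖ ⥤ Cat.{v, max u v}) (E : 𝒳 ⥤ᵇ BasedCategory.ofFunctor (Pseudofunctor.CoGrothendieck.forget F.toPseudofunctor')),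
      FibCat.IsEquivOver E := by
  obtain ⟨F, E, hE, -⟩ := Groth.Agent.H14Fib.exists_split_functor 𝒳
  exact ⟨F, E, hE⟩

end Groth.Agent.S6431
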