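import Groth.Statements.S6433
import Groth.Agent.H16Derived.CatLoc

set_option autoImplicit false
open CategoryTheory
universe v u v' u'
open CatLoc

namespace Groth.Agent.S6433

/-- For a left multiplicative system `W` and a localization functor `L`, any finite family of morphisms
`L X_i ⟶ L Y` admits a common denominator: some `s : Y ⟶ Y'` in `W` and morphisms `f_i : X_i ⟶ Y'`
with `g_i = L(s)⁻¹ L(f_i)`. -/
theorem result {C : Type u} [Category.{v} C] {D : Type u'} [Category.{v'} D] (W : MorphismProperty C) (L : C ⥤ D) [L.IsLocalization W] [W.HasLeftCalculusOfFractions]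
    {ι : Type} [Finite ι] (X : ι → C) (Y : C) (g : ∀ i, L.obj (X i) ⟶ L.obj Y) :
    ∃ (Y' : C) (s : Y ⟶ Y') (_ : W s) (f : ∀ i, X i ⟶ Y'), ∀ i, g i ≫ L.map s = L.map (f i) := by
  exact Groth.Agent.H16Derived.exists_common_denominator W L X Y g

end Groth.Agent.S6433
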