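import Groth.Statements.S6435
import Groth.Agent.H16Derived.CatLoc

set_option autoImplicit false
open CategoryTheory
universe v u v' u'
open CatLoc

namespace Groth.Agent.S6435

/-- For a multiplicative system `W` (left and right calculus of fractions) with localization functor
`L`, a morphism `f` becomes an isomorphism under `L` if and only if `g ∘ f ∈ W` and `f ∘ h ∈ W` for
some `g, h`. -/
theorem result {C : Type u} [Category.{v} C] {D : Type u'} [Category.{v'} D] (W : MorphismProperty C) (L : C ⥤ D) [L.IsLocalization W] [W.HasLeftCalculusOfFractions] [W.HasRightCalculusOfFractions]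
    {X Y : C} (f : X ⟶ Y) :
    IsIso (L.map f) ↔ ∃ (Z Z' : C) (g : Y ⟶ Z) (h : Z' ⟶ X), W (f ≫ g) ∧ W (h ≫ f) := by
  constructor
  · intro _
    obtain ⟨⟨a, s, hs⟩, ha⟩ := Localization.exists_leftFraction L W (inv (L.map f))
    obtain ⟨⟨s', hs', b⟩, hb⟩ := Localization.exists_rightFraction L W (inv (L.map f))
    have ha' : inv (L.map f) ≫ L.map s = L.map a := by
      rw [ha]; exact MorphismProperty.LeftFraction.map_comp_map_s _ L (Localization.inverts L W)
    have hb' : L.map s' ≫ inv (L.map f) = L.map b := by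
      rw [hb]; exact MorphismProperty.RightFraction.map_s_comp_map (MorphismProperty.RightFraction.mk s' hs' b) L (Localization.inverts L W)
    obtain ⟨Z, t, ht, fac⟩ := (W.map_eq_iff_postcomp L (f ≫ a) s).1 (by
      rw [L.map_comp, ← ha', IsIso.hom_inv_id_assoc])
    obtain ⟨Z', t', ht', fac'⟩ := (W.map_eq_iff_precomp L (b ≫ f) s').1 (by
      rw [L.map_comp, ← hb', Category.assoc, IsIso.inv_hom_id, Category.comp_id])
    refine ⟨Z, Z', a ≫ t, t' ≫ b, ?_, ?_⟩
    · rw [← Category.assoc, fac]; exact W.comp_mem _ _ hs ht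
    · rw [Category.assoc, fac']; exact W.comp_mem _ _ ht' hs'
  · rintro ⟨Z, Z', g, h, hg, hh⟩
    have := Localization.inverts L W _ hg
    have := Localization.inverts L W _ hh
    rw [L.map_comp] at *
    have : IsSplitMono (L.map f) := ⟨⟨L.map g ≫ inv (L.map f ≫ L.map g), by rw [← Category.assoc, IsIso.hom_inv_id]⟩⟩
    have : IsSplitEpi (L.map f) := ⟨⟨inv (L.map h ≫ L.map f) ≫ L.map h, by rw [Category.assoc, IsIso.inv_hom_id]⟩⟩
    exact isIso_of_mono_of_isSplitEpi _

end Groth.Agent.S6435
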