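import Groth.Statements.S6436

set_option linter.style.haveILetI false

set_option autoImplicit false
open CategoryTheory
universe v₁ u₁ v₂ u₂
open CatLim

namespace Groth.Agent.S6436

/-- For an adjunction `u ⊣ v`, if `v ∘ u` is fully faithful then so is `u`, and if `u ∘ v` is fully
faithful then so is `v`. -/
theorem result {C : Type u₁} [Category.{v₁} C] {D : Type u₂} [Category.{v₂} D] {u : C ⥤ D} {v : D ⥤ C} (adj : u ⊣ v) :
    ((u ⋙ v).Full → (u ⋙ v).Faithful → u.Full ∧ u.Faithful) ∧ ((v ⋙ u).Full → (v ⋙ u).Faithful → v.Full ∧ v.Faithful) := by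
  constructor
  · intro hf hg
    refine ⟨⟨fun {X Y} g => ?_⟩, Functor.Faithful.of_comp u v⟩
    obtain ⟨h, hh⟩ := (u ⋙ v).map_surjective (v.map g)
    refine ⟨h, (adj.homEquiv _ _).injective ?_⟩
    simp only [Adjunction.homEquiv_unit]
    rw [← hh]; rfl
  · intro hf hg
    refine ⟨⟨fun {X Y} g => ?_⟩, Functor.Faithful.of_comp v u⟩
    obtain ⟨h, hh⟩ := (v ⋙ u).map_surjective (u.map g)
    refine ⟨h, (adj.homEquiv _ _).symm.injective ?_⟩
    simp only [Adjunction.homEquiv_counit]
    rw [← hh]; rfl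

end Groth.Agent.S6436
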