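import Groth.Statements.S6437
import Mathlib

set_option autoImplicit false
open CategoryTheory CategoryTheory.Limits
universe v
open CatLim

set_option linter.style.haveILetI false
set_option backward.isDefEq.respectTransparency false
open CategoryTheory.Limits

namespace Groth.Agent.S6437

variable {I : Type v} [SmallCategory I]
  (h1 : ∀ ⦃w x y : I⦄ (a : w ⟶ x) (b : w ⟶ y), ∃ (z : I) (c : x ⟶ z) (d : y ⟶ z), a ≫ c = b ≫ d)
  (h2 : ∀ ⦃x y : I⦄ (a b : x ⟶ y), ∃ (z : I) (c : y ⟶ z), a ≫ c = b ≫ c)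

/-- Two elements become equal further on. -/
def Rel (F : I ⥤ Type v) (p q : Σ i, F.obj i) : Prop :=
  ∃ (k : I) (a : p.1 ⟶ k) (b : q.1 ⟶ k), F.map a p.2 = F.map b q.2

include h1 h2 in
lemma rel_of_eq (F : I ⥤ Type v) {i j : I} (x : F.obj i) (y : F.obj j)
    (h : colimit.ι F i x = colimit.ι F j y) : Rel F ⟨i, x⟩ ⟨j, y⟩ := by
  have hE : _root_.Equivalence (Rel F) := by
    refine ⟨fun p => ⟨p.1, 𝟙 _, 𝟙 _, rfl⟩, fun ⟨k, a, b, e⟩ => ⟨k, b, a, e.symm⟩, ?_⟩
    rintro p q r ⟨k, a, b, e⟩ ⟨k', a', b', e'⟩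
    obtain ⟨z, c, d, hcd⟩ := h1 b a'
    refine ⟨z, a ≫ c, b' ≫ d, ?_⟩
    rw [F.map_comp_apply, F.map_comp_apply, e, ← e', ← F.map_comp_apply, ← F.map_comp_apply, hcd]
  refine hE.eqvGen_iff.1 (Relation.EqvGen.mono (r := F.ColimitTypeRel) ?_ _ _ (Types.colimit_eq h))
  rintro p q ⟨f, hf⟩
  exact ⟨q.1, f, 𝟙 _, by rw [hf]; simp⟩

include h1 in
lemma exists_cocone {a b : I} (h : Zigzag a b) : ∃ (k : I) (_ : a ⟶ k), Nonempty (b ⟶ k) := by
  induction h with
  | refl => exact ⟨a, 𝟙 _, ⟨𝟙 _⟩⟩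
  | tail _ hz ih =>
    obtain ⟨k, f, ⟨g⟩⟩ := ih
    rcases hz with ⟨⟨m⟩⟩ | ⟨⟨m⟩⟩
    · obtain ⟨z, c, d, -⟩ := h1 g m
      exact ⟨z, f ≫ c, ⟨d⟩⟩
    · exact ⟨k, f, ⟨m ≫ g⟩⟩

/-- A connected component. -/
abbrev CompProp (i₀ : I) : ObjectProperty I := fun i => Zigzag i₀ i

include h1 h2 in
lemma isFiltered_comp (i₀ : I) : IsFiltered (CompProp i₀).FullSubcategory := by
  haveI : IsFilteredOrEmpty (CompProp i₀).FullSubcategory :=
  { cocone_objs := fun X Y => by
      obtain ⟨k, f, ⟨g⟩⟩ := exists_cocone h1 ((zigzag_equivalence.symm X.2).trans Y.2)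
      exact ⟨⟨k, X.2.trans (Zigzag.of_hom f)⟩, ObjectProperty.homMk f, ObjectProperty.homMk g, trivial⟩
    cocone_maps := fun X Y f g => by
      obtain ⟨z, c, hc⟩ := h2 f.hom g.hom
      exact ⟨⟨z, Y.2.trans (Zigzag.of_hom c)⟩, ObjectProperty.homMk c, by ext; exact hc⟩ }
  haveI : Nonempty (CompProp i₀).FullSubcategory := ⟨⟨i₀, Relation.ReflTransGen.refl⟩⟩
  exact ⟨⟩

include h1 h2 in
lemma pre_injective (F : I ⥤ Type v) (i₀ : I) :
    Function.Injective (colimit.pre F (CompProp i₀).ι) := by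
  intro a b hab
  obtain ⟨A, x, rfl⟩ := Types.jointly_surjective_of_isColimit (colimit.isColimit _) a
  obtain ⟨B, y, rfl⟩ := Types.jointly_surjective_of_isColimit (colimit.isColimit _) b
  simp only [colimit.cocone_ι] at hab ⊢
  replace hab := (ConcreteCategory.congr_hom (colimit.ι_pre F (CompProp i₀).ι A) x).symm.trans
    (hab.trans (ConcreteCategory.congr_hom (colimit.ι_pre F (CompProp i₀).ι B) y))
  obtain ⟨k, f, g, e⟩ := rel_of_eq h1 h2 F x y hab
  let Kk : (CompProp i₀).FullSubcategory := ⟨k, A.2.trans (Zigzag.of_hom f)⟩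
  let f' : A ⟶ Kk := ObjectProperty.homMk f
  let g' : B ⟶ Kk := ObjectProperty.homMk g
  rw [← colimit.w ((CompProp i₀).ι ⋙ F) f', ← colimit.w ((CompProp i₀).ι ⋙ F) g',
    ConcreteCategory.comp_apply, ConcreteCategory.comp_apply]
  exact congrArg _ e

/-- The class of an object. -/
def cls (i : I) : ConnectedComponents I := Quotient.mk (Zigzag.setoid I) i

/-- The component of an element. -/
noncomputable def compOf (F : I ⥤ Type v) : colimit F ⟶ ConnectedComponents I :=
  colimit.desc F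
    { pt := ConnectedComponents I
      ι := { app := fun i => ↾fun _ => cls i
             naturality := fun i j f => by
               ext x
               exact Quotient.sound (s := Zigzag.setoid I) (Zigzag.of_inv f) } }

lemma compOf_ι (F : I ⥤ Type v) (i : I) (x : F.obj i) :
    compOf F (colimit.ι F i x) = cls i :=
  by
  unfold compOf
  exact ConcreteCategory.congr_hom (colimit.ι_desc (F := F) _ i) x

lemma compOf_map {F G : I ⥤ Type v} (α : F ⟶ G) (a : colimit F) :
    compOf G (colim.map α a) = compOf F a := by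
  obtain ⟨i, x, rfl⟩ := Types.jointly_surjective_of_isColimit (colimit.isColimit _) a
  simp only [colimit.cocone_ι]
  exact ((congrArg (compOf G) (ConcreteCategory.congr_hom (colimit.ι_map α i) x)).trans
    (compOf_ι G i _)).trans (compOf_ι F i x).symm

lemma exists_pre (F : I ⥤ Type v) (i₀ : I) (a : colimit F) (h : compOf F a = cls i₀) :
    ∃ b, colimit.pre F (CompProp i₀).ι b = a := by
  obtain ⟨i, x, rfl⟩ := Types.jointly_surjective_of_isColimit (colimit.isColimit _) a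
  simp only [colimit.cocone_ι] at h ⊢
  replace h : cls i = cls i₀ := (compOf_ι F i x).symm.trans h
  refine ⟨colimit.ι ((CompProp i₀).ι ⋙ F) ⟨i, Quotient.exact (s := Zigzag.setoid I) h.symm⟩ x, ?_⟩
  exact ConcreteCategory.congr_hom (colimit.ι_pre F (CompProp i₀).ι
    ⟨i, Quotient.exact (s := Zigzag.setoid I) h.symm⟩) x

end Groth.Agent.S6437


namespace Groth.Agent.S6437

/-- Over an index category in which spans can be completed to commutative squares and parallel pairs can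
be coequalized (a disjoint union of filtered categories), colimits of sets commute with finite
connected limits. -/
theorem result {I : Type v} [SmallCategory I]
    (h1 : ∀ ⦃w x y : I⦄ (a : w ⟶ x) (b : w ⟶ y), ∃ (z : I) (c : x ⟶ z) (d : y ⟶ z), a ≫ c = b ≫ d)
    (h2 : ∀ ⦃x y : I⦄ (a b : x ⟶ y), ∃ (z : I) (c : y ⟶ z), a ≫ c = b ≫ c)
    (J : Type) [SmallCategory J] [FinCategory J] [IsConnected J] :
    PreservesLimitsOfShape J (colim : (I ⥤ Type v) ⥤ Type v) := by
  refine ⟨fun {D} => ⟨fun {c} hc => (Types.isLimit_iff _).2 fun s hs => ?_⟩⟩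
  obtain ⟨j₀⟩ := (inferInstance : Nonempty J)
  obtain ⟨i₀, hi₀⟩ : ∃ i₀, compOf (D.obj j₀) (s j₀) = cls i₀ :=
    ⟨_, (Quotient.out_eq (s := Zigzag.setoid I) _).symm⟩
  have hcomp : ∀ j, compOf (D.obj j) (s j) = cls i₀ := fun j => by
    rw [← hi₀]
    refine (equiv_relation (fun a b => compOf (D.obj a) (s a) = compOf (D.obj b) (s b))
      ⟨fun _ => rfl, Eq.symm, Eq.trans⟩ (fun {a b} f => ?_) j j₀)
    rw [← hs f]
    exact (compOf_map (D.map f) (s a)).symm
  choose t ht using fun j => exists_pre (D.obj j) i₀ (s j) (hcomp j)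
  let E : (I ⥤ Type v) ⥤ ((CompProp i₀).FullSubcategory ⥤ Type v) :=
    (Functor.whiskeringLeft _ _ (Type v)).obj (CompProp i₀).ι
  haveI := isFiltered_comp h1 h2 i₀
  have hnat : ∀ {F G : I ⥤ Type v} (α : F ⟶ G) (b : colimit ((CompProp i₀).ι ⋙ F)),
      colimit.pre G (CompProp i₀).ι (colim.map (E.map α) b) = colim.map α (colimit.pre F (CompProp i₀).ι b) :=
    fun α b => (ConcreteCategory.congr_hom (colimit.pre_map (α := α) (CompProp i₀).ι) b).symm
  have hlim := (Types.isLimit_iff ((E ⋙ colim).mapCone c)).1 ⟨isLimitOfPreserves (E ⋙ colim) hc⟩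
  obtain ⟨y, hy, hyu⟩ := hlim t fun {a b} f => by
    apply pre_injective h1 h2 (D.obj b) i₀
    refine (hnat (D.map f) (t a)).trans ?_
    rw [ht, ht]
    exact hs f
  refine ⟨colimit.pre c.pt (CompProp i₀).ι y, fun j => ?_, fun z hz => ?_⟩
  · refine (hnat (c.π.app j) y).symm.trans ?_
    exact (congrArg (colimit.pre (D.obj j) (CompProp i₀).ι) (hy j)).trans (ht j)
  · have hz₀ : compOf c.pt z = cls i₀ :=
      (compOf_map (c.π.app j₀) z).symm.trans ((congrArg (compOf (D.obj j₀)) (hz j₀)).trans hi₀)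
    obtain ⟨w, rfl⟩ := exists_pre c.pt i₀ z hz₀
    rw [hyu w fun j => ?_]
    apply pre_injective h1 h2 (D.obj j) i₀
    refine (hnat (c.π.app j) w).trans ?_
    rw [ht]
    exact hz j

end Groth.Agent.S6437
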