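import Groth.Statements.S6438
import Mathlib

set_option autoImplicit false
open CategoryTheory
universe v u
open CatLim

set_option linter.style.haveILetI false
set_option linter.unusedSectionVars false
open CategoryTheory.Limits

namespace Groth.Agent.S6438

variable {V E : Type} (src tgt : E → V)

/-- Objects of the bipartite category: two copies of the vertices. -/
structure Bip (src tgt : E → V) : Type where
  /-- vertex -/
  vert : V
  /-- level -/
  top : Bool

/-- Morphisms: identities and edges from level `false` to level `true`. -/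
def BHom (X Y : Bip src tgt) : Type :=
  PLift (X = Y) ⊕ {k : E // (src k = X.vert ∧ X.top = false) ∧ (tgt k = Y.vert ∧ Y.top = true)}

/-- Composition. -/
def bcomp {X Y Z : Bip src tgt} : BHom src tgt X Y → BHom src tgt Y Z → BHom src tgt X Z
  | .inl ⟨e⟩, g => e ▸ g
  | .inr k, .inl ⟨e⟩ => .inr (e ▸ k)
  | .inr k, .inr l => absurd (k.2.2.2.symm.trans l.2.1.2) (by simp)

instance bipCat : SmallCategory (Bip src tgt) where
  Hom := BHom src tgt
  id X := .inl ⟨rfl⟩
  comp := bcomp src tgt
  id_comp f := rfl
  comp_id := by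
    rintro X Y (⟨⟨rfl⟩⟩ | k) <;> rfl
  assoc := by
    rintro W X Y Z (⟨⟨rfl⟩⟩ | k) g h
    · rfl
    · rcases g with ⟨⟨rfl⟩⟩ | l
      · rfl
      · exact absurd (k.2.2.2.symm.trans l.2.1.2) (by simp)

instance bipObjFintype [Fintype V] : Fintype (Bip src tgt) :=
  Fintype.ofEquiv (V × Bool) ⟨fun p => ⟨p.1, p.2⟩, fun p => (p.vert, p.top), fun _ => rfl, fun _ => rfl⟩

noncomputable instance bipFin [Fintype V] [Fintype E] : FinCategory (Bip src tgt) where
  fintypeHom X Y := by
    classical
    exact inferInstanceAs (Fintype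
      (PLift (X = Y) ⊕ {k : E // (src k = X.vert ∧ X.top = false) ∧ (tgt k = Y.vert ∧ Y.top = true)}))

/-- An edge. -/
def edge (k : E) : (⟨src k, false⟩ : Bip src tgt) ⟶ ⟨tgt k, true⟩ := .inr ⟨k, ⟨rfl, rfl⟩, ⟨rfl, rfl⟩⟩

variable {I : Type u} [Category.{v} I] (o : V → I) (m : ∀ k, o (src k) ⟶ o (tgt k))

/-- The functor out of the bipartite category. -/
def toI : Bip src tgt ⥤ I where
  obj X := o X.vert
  map {X Y} f := match f with
    | .inl ⟨e⟩ => eqToHom (by rw [e])
    | .inr k => eqToHom (by rw [k.2.1.1]) ≫ m k.1 ≫ eqToHom (by rw [k.2.2.1])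
  map_id X := rfl
  map_comp := by
    rintro X Y Z (⟨⟨rfl⟩⟩ | k) g
    · show _ = eqToHom rfl ≫ _
      rw [eqToHom_refl, Category.id_comp]
      rfl
    · rcases g with ⟨⟨rfl⟩⟩ | l
      · show _ = _ ≫ eqToHom rfl
        rw [eqToHom_refl, Category.comp_id]
        rfl
      · exact absurd (k.2.2.2.symm.trans l.2.1.2) (by simp)

lemma toI_edge (k : E) : (toI src tgt o m).map (edge src tgt k) = m k := by
  show eqToHom _ ≫ m k ≫ eqToHom _ = m k
  rw [eqToHom_refl, eqToHom_refl, Category.id_comp, Category.comp_id]

end Groth.Agent.S6438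


namespace Groth.Agent.S6438

/-- A category with finitely many objects whose morphisms are generated under composition by finitely
many of them receives a functor from a finite category which is both final and initial, the finite
category being connected (resp. nonempty) exactly when the given one is. (The published statement
says that limits and colimits of every diagram are computed after restriction along the functor;
this is expressed here through finality and initiality.) -/
theorem result {I : Type u} [Category.{v} I] [Finite I]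
    (gen : Finset (Σ x y : I, x ⟶ y))
    (hgen : ∀ P : MorphismProperty I, P.IsMultiplicative → (∀ a ∈ gen, P a.2.2) → P = ⊤) :
    ∃ (J : Type) (_ : SmallCategory J) (_ : FinCategory J) (F : J ⥤ I),
      F.Final ∧ F.Initial ∧ (IsConnected J ↔ IsConnected I) ∧ (Nonempty J ↔ Nonempty I) := by
  classical
  obtain ⟨n, ⟨e⟩⟩ := Finite.exists_equiv_fin I
  let N := gen.card
  let g : Fin N → (Σ x y : I, x ⟶ y) := fun k => (gen.equivFin.symm k).1
  let src : Fin n ⊕ Fin N → Fin n := Sum.elim id fun k => e (g k).1
  let tgt : Fin n ⊕ Fin N → Fin n := Sum.elim id fun k => e (g k).2.1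
  let m : ∀ k, e.symm (src k) ⟶ e.symm (tgt k) := fun k => match k with
    | .inl a => 𝟙 _
    | .inr k => eqToHom (by simp [src]) ≫ (g k).2.2 ≫ eqToHom (by simp [tgt])
  let F := toI src tgt (fun a => e.symm a) m
  let b : I → Bip src tgt := fun x => ⟨e x, false⟩
  have hb : ∀ x, F.obj (b x) = x := fun x => e.symm_apply_apply x
  have hvert : ∀ X : Bip src tgt, Zigzag X (b (F.obj X)) := by
    rintro ⟨a, t⟩
    have h0 : b (F.obj ⟨a, t⟩) = ⟨a, false⟩ := by simp [b, F, toI]
    rw [h0]
    cases t
    · exact Zigzag.refl _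
    · exact Zigzag.of_inv (edge src tgt (.inl a))
  refine ⟨Bip src tgt, inferInstance, inferInstance, F, ⟨fun i => ?_⟩, ⟨fun i => ?_⟩, ?_, ?_⟩
  · let A : ∀ x, (i ⟶ x) → StructuredArrow i F := fun x h =>
      StructuredArrow.mk (Y := b x) (h ≫ eqToHom (hb x).symm)
    let P : MorphismProperty I := fun x y f => ∀ h : i ⟶ x, Zigzag (A x h) (A y (h ≫ f))
    have hP : P = ⊤ := by
      refine hgen P
        { id_mem := fun x h => ?_
          comp_mem := fun f f' hf hf' h => ?_ } fun a ha => ?_
      · show Zigzag (A x h) (A x (h ≫ 𝟙 x))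
        rw [Category.comp_id]
      · show Zigzag _ (A _ (h ≫ f ≫ f'))
        rw [← Category.assoc]
        exact (hf h).trans (hf' (h ≫ f))
      · intro h
        obtain ⟨k, rfl⟩ : ∃ k, g k = a := ⟨gen.equivFin ⟨a, ha⟩, by simp [g]⟩
        let M : StructuredArrow i F := StructuredArrow.mk (Y := (⟨tgt (.inr k), true⟩ : Bip src tgt))
          ((h ≫ (g k).2.2) ≫ eqToHom (e.symm_apply_apply (g k).2.1).symm)
        have f₁ : A (g k).1 h ⟶ M := StructuredArrow.homMk (edge src tgt (.inr k)) (by
          refine (congrArg (fun t => _ ≫ t) (toI_edge src tgt (fun a => e.symm a) m (.inr k))).trans ?_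
          simp [m, A, M, b, src, tgt, F, toI]
          try erw [eqToHom_trans_assoc, eqToHom_refl, Category.id_comp])
        have f₂ : A (g k).2.1 (h ≫ (g k).2.2) ⟶ M := StructuredArrow.homMk (edge src tgt (.inl (e (g k).2.1))) (by
          refine (congrArg (fun t => _ ≫ t) (toI_edge src tgt (fun a => e.symm a) m (.inl (e (g k).2.1)))).trans ?_
          exact Category.comp_id _)
        exact (Zigzag.of_hom f₁).trans (Zigzag.of_inv f₂)
    haveI : Nonempty (StructuredArrow i F) := ⟨A i (𝟙 i)⟩
    refine zigzag_isConnected fun X Y => ?_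
    suffices h : ∀ X : StructuredArrow i F, Zigzag (A i (𝟙 i)) X from (h X).symm.trans (h Y)
    intro X
    have h1 : Zigzag (A i (𝟙 i)) (A (F.obj X.right) (𝟙 i ≫ X.hom)) :=
      (congrFun (congrFun (congrFun hP _) _) _ ▸ trivial : P X.hom) (𝟙 i)
    refine h1.trans ?_
    obtain ⟨⟨⟨⟩⟩, ⟨a, t⟩, h⟩ := X
    cases t
    · refine Zigzag.of_hom (StructuredArrow.homMk (eqToHom (by simp [A, b, F, toI])) ?_)
      simp [A, eqToHom_map]
    · refine (Zigzag.of_hom (StructuredArrow.homMk (f' := StructuredArrow.mk (Y := (⟨a, true⟩ : Bip src tgt)) h)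
        (eqToHom (by simp [A, b, F, toI, src]) ≫ edge src tgt (.inl a)) ?_))
      refine (congrArg (fun t => _ ≫ t) ((F.map_comp _ _).trans (congrArg₂ (· ≫ ·) (eqToHom_map F _)
        (toI_edge src tgt (fun a => e.symm a) m (.inl a))))).trans ?_
      simp [m, A]
      try erw [Category.comp_id]
      try simp
      try erw [eqToHom_trans, eqToHom_refl, Category.comp_id]
      try rfl
      all_goals first
        | exact Category.comp_id _
        | exact Category.id_comp _
        | exact (Category.assoc _ _ _).trans (Category.comp_id _)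
        | (show h ≫ eqToHom _ = h; simp)
        | (show eqToHom _ ≫ h = h; simp)
        | (erw [Category.id_comp]; simp)
        | (erw [Category.id_comp]; erw [eqToHom_refl, Category.id_comp])
        | (erw [Category.id_comp]; rfl)
  · let A : ∀ x, (x ⟶ i) → CostructuredArrow F i := fun x h =>
      CostructuredArrow.mk (Y := b x) (eqToHom (hb x) ≫ h)
    let P : MorphismProperty I := fun x y f => ∀ h : y ⟶ i, Zigzag (A x (f ≫ h)) (A y h)
    have hP : P = ⊤ := by
      refine hgen P
        { id_mem := fun x h => ?_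
          comp_mem := fun f f' hf hf' h => ?_ } fun a ha => ?_
      · show Zigzag (A x (𝟙 x ≫ h)) (A x h)
        rw [Category.id_comp]
      · show Zigzag (A _ ((f ≫ f') ≫ h)) _
        rw [Category.assoc]
        exact (hf (f' ≫ h)).trans (hf' h)
      · intro h
        obtain ⟨k, rfl⟩ : ∃ k, g k = a := ⟨gen.equivFin ⟨a, ha⟩, by simp [g]⟩
        let M : CostructuredArrow F i := CostructuredArrow.mk (Y := (⟨tgt (.inr k), true⟩ : Bip src tgt))
          (eqToHom (e.symm_apply_apply (g k).2.1) ≫ h)
        have f₁ : A (g k).1 ((g k).2.2 ≫ h) ⟶ M := CostructuredArrow.homMk (edge src tgt (.inr k)) (by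
          refine (congrArg (fun t => t ≫ _) (toI_edge src tgt (fun a => e.symm a) m (.inr k))).trans ?_
          simp [m, A, M, b, src, tgt, F, toI]
          try erw [eqToHom_trans_assoc, eqToHom_refl, Category.id_comp])
        have f₂ : A (g k).2.1 h ⟶ M := CostructuredArrow.homMk (edge src tgt (.inl (e (g k).2.1))) (by
          refine (congrArg (fun t => t ≫ _) (toI_edge src tgt (fun a => e.symm a) m (.inl (e (g k).2.1)))).trans ?_
          exact Category.id_comp _)
        exact (Zigzag.of_hom f₁).trans (Zigzag.of_inv f₂)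
    haveI : Nonempty (CostructuredArrow F i) := ⟨A i (𝟙 i)⟩
    refine zigzag_isConnected fun X Y => ?_
    suffices h : ∀ X : CostructuredArrow F i, Zigzag X (A i (𝟙 i)) from (h X).trans (h Y).symm
    intro X
    have h1 : Zigzag (A (F.obj X.left) (X.hom ≫ 𝟙 i)) (A i (𝟙 i)) :=
      (congrFun (congrFun (congrFun hP _) _) _ ▸ trivial : P X.hom) (𝟙 i)
    refine Zigzag.trans ?_ h1
    obtain ⟨⟨a, t⟩, ⟨⟨⟩⟩, h⟩ := X
    cases t
    · refine Zigzag.of_inv (CostructuredArrow.homMk (eqToHom (by simp [A, b, F, toI])) ?_)
      simp [A, eqToHom_map]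
    · refine (Zigzag.of_inv (CostructuredArrow.homMk (f' := CostructuredArrow.mk (Y := (⟨a, true⟩ : Bip src tgt)) h)
        (eqToHom (by simp [A, b, F, toI, src]) ≫ edge src tgt (.inl a)) ?_))
      refine (congrArg (fun t => t ≫ _) ((F.map_comp _ _).trans (congrArg₂ (· ≫ ·) (eqToHom_map F _)
        (toI_edge src tgt (fun a => e.symm a) m (.inl a))))).trans ?_
      simp [m, A]
      try erw [Category.comp_id]
      try simp
      try erw [eqToHom_trans, eqToHom_refl, Category.comp_id]
      try rfl
      all_goals first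
        | exact Category.comp_id _
        | exact Category.id_comp _
        | exact (Category.assoc _ _ _).trans (Category.comp_id _)
        | (show h ≫ eqToHom _ = h; simp)
        | (show eqToHom _ ≫ h = h; simp)
        | (erw [Category.id_comp]; simp)
        | (erw [Category.id_comp]; erw [eqToHom_refl, Category.id_comp])
        | (erw [Category.id_comp]; rfl)
  · constructor
    · intro hJ
      haveI : Nonempty I := ⟨F.obj (Classical.arbitrary _)⟩
      refine zigzag_isConnected fun x y => ?_
      have := zigzag_obj_of_zigzag F (isPreconnected_zigzag (b x) (b y))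
      rwa [hb, hb] at this
    · intro hI
      haveI : Nonempty (Bip src tgt) := ⟨b (Classical.arbitrary I)⟩
      refine zigzag_isConnected fun X Y => (hvert X).trans (Zigzag.trans ?_ (hvert Y).symm)
      let Q : MorphismProperty I := fun x y _ => Zigzag (b x) (b y)
      have hQ : Q = ⊤ := by
        refine hgen Q { id_mem := fun x => Zigzag.refl _, comp_mem := fun f f' hf hf' => Zigzag.trans hf hf' } fun a ha => ?_
        obtain ⟨k, rfl⟩ : ∃ k, g k = a := ⟨gen.equivFin ⟨a, ha⟩, by simp [g]⟩
        exact (Zigzag.of_hom (edge src tgt (.inr k))).trans (Zigzag.of_inv (edge src tgt (.inl (e (g k).2.1))))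
      have hz := isPreconnected_zigzag (F.obj X) (F.obj Y)
      generalize F.obj X = x at hz ⊢
      generalize F.obj Y = y at hz ⊢
      induction hz with
      | refl => exact Zigzag.refl _
      | tail _ hzag ih =>
        rcases hzag with ⟨⟨f⟩⟩ | ⟨⟨f⟩⟩
        · exact ih.trans (congrFun (congrFun (congrFun hQ _) _) f ▸ trivial : Q f)
        · exact ih.trans (congrFun (congrFun (congrFun hQ _) _) f ▸ trivial : Q f).symm
  · exact ⟨fun ⟨X⟩ => ⟨F.obj X⟩, fun ⟨x⟩ => ⟨b x⟩⟩

end Groth.Agent.S6438
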