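import Groth.Statements.S6439
import Groth.Agent.H14Fib.Equiv

set_option autoImplicit false
set_option backward.isDefEq.respectTransparency false
set_option backward.isDefEq.respectTransparency.types false
open CategoryTheory
universe v u
open FibCat

namespace Groth.Agent.S6439

/-- For categories fibred in groupoids over `C` and equivalences `φ : 𝒮₁ ⟶ 𝒮₂`, `ψ : 𝒮₃ ⟶ 𝒮₄` over `C`,
the functor `α ↦ ψ ∘ α ∘ φ` between the categories of functors over `C` is an equivalence of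
categories. -/
theorem result {C : Type u} [Category.{v} C] {𝒮₁ 𝒮₂ 𝒮₃ 𝒮₄ : BasedCategory.{v, max u v} C}
    (h₁ : FibCat.IsFibGrpd 𝒮₁.p) (h₂ : FibCat.IsFibGrpd 𝒮₂.p) (h₃ : FibCat.IsFibGrpd 𝒮₃.p) (h₄ : FibCat.IsFibGrpd 𝒮₄.p)
    (φ : 𝒮₁ ⟶ 𝒮₂) (ψ : 𝒮₃ ⟶ 𝒮₄) (hφ : FibCat.IsEquivOver φ) (hψ : FibCat.IsEquivOver ψ) :
    (Bicategory.precomp 𝒮₃ φ ⋙ Bicategory.postcomp 𝒮₁ ψ).IsEquivalence := by
  obtain ⟨φ', ⟨a⟩, ⟨b⟩⟩ := hφ
  obtain ⟨ψ', ⟨c⟩, ⟨d⟩⟩ := hψ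
  let T := Bicategory.precomp 𝒮₃ φ ⋙ Bicategory.postcomp 𝒮₁ ψ
  let T' := Bicategory.precomp 𝒮₄ φ' ⋙ Bicategory.postcomp 𝒮₂ ψ'
  have pre : ∀ {𝒜 ℬ : BasedCategory.{v, max u v} C} (f : 𝒜 ⟶ ℬ) (f' : ℬ ⟶ 𝒜)
      (i : BasedFunctor.comp f f' ≅ BasedFunctor.id 𝒜) (j : BasedFunctor.comp f' f ≅ BasedFunctor.id ℬ)
      (𝒵 : BasedCategory.{v, max u v} C), (Bicategory.precomp 𝒵 f).IsEquivalence := by
    intro 𝒜 ℬ f f' i j 𝒵
    refine (CategoryTheory.Equivalence.mk (Bicategory.precomp 𝒵 f) (Bicategory.precomp 𝒵 f')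
      (NatIso.ofComponents (fun G => (Bicategory.leftUnitor G).symm ≪≫ (Bicategory.whiskerRightIso (show 𝟙 _ ≅ f' ≫ f from j.symm) G) ≪≫ (Bicategory.associator f' f G)) ?_)
      (NatIso.ofComponents (fun G => (Bicategory.associator f f' G).symm ≪≫ (Bicategory.whiskerRightIso (show f ≫ f' ≅ 𝟙 _ from i) G) ≪≫ (Bicategory.leftUnitor G)) ?_)).isEquivalence_functor
    · intro G H θ
      apply BasedNatTrans.homCategory.ext; ext x
      change _ ≫ 𝟙 _ ≫ _ ≫ 𝟙 _ = (𝟙 _ ≫ _ ≫ 𝟙 _) ≫ _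
      simp only [Category.id_comp, Category.comp_id]
      exact (θ.toNatTrans.naturality _).symm
    · intro G H θ
      apply BasedNatTrans.homCategory.ext; ext x
      change _ ≫ 𝟙 _ ≫ _ ≫ 𝟙 _ = (𝟙 _ ≫ _ ≫ 𝟙 _) ≫ _
      simp only [Category.id_comp, Category.comp_id]
      exact (θ.toNatTrans.naturality _).symm
  have post : ∀ {𝒜 ℬ : BasedCategory.{v, max u v} C} (f : 𝒜 ⟶ ℬ) (f' : ℬ ⟶ 𝒜)
      (i : BasedFunctor.comp f f' ≅ BasedFunctor.id 𝒜) (j : BasedFunctor.comp f' f ≅ BasedFunctor.id ℬ)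
      (𝒵 : BasedCategory.{v, max u v} C), (Bicategory.postcomp 𝒵 f).IsEquivalence := by
    intro 𝒜 ℬ f f' i j 𝒵
    refine (CategoryTheory.Equivalence.mk (Bicategory.postcomp 𝒵 f) (Bicategory.postcomp 𝒵 f')
      (NatIso.ofComponents (fun G => (Bicategory.rightUnitor G).symm ≪≫ (Bicategory.whiskerLeftIso G (show 𝟙 _ ≅ f ≫ f' from i.symm)) ≪≫ (Bicategory.associator G f f').symm) ?_)
      (NatIso.ofComponents (fun G => (Bicategory.associator G f' f) ≪≫ (Bicategory.whiskerLeftIso G (show f' ≫ f ≅ 𝟙 _ from j)) ≪≫ (Bicategory.rightUnitor G)) ?_)).isEquivalence_functor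
    · intro G H θ
      apply BasedNatTrans.homCategory.ext; ext x
      change _ ≫ 𝟙 _ ≫ _ ≫ 𝟙 _ = (𝟙 _ ≫ _ ≫ 𝟙 _) ≫ _
      simp only [Category.id_comp, Category.comp_id]
      exact i.inv.toNatTrans.naturality (θ.toNatTrans.app x)
    · intro G H θ
      apply BasedNatTrans.homCategory.ext; ext x
      change _ ≫ 𝟙 _ ≫ _ ≫ 𝟙 _ = (𝟙 _ ≫ _ ≫ 𝟙 _) ≫ _
      simp only [Category.id_comp, Category.comp_id]
      exact j.hom.toNatTrans.naturality (θ.toNatTrans.app x)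
  have := pre φ φ' a b 𝒮₃
  have := post ψ ψ' c d 𝒮₁
  infer_instance

end Groth.Agent.S6439
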