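import Groth.Statements.S6440
import Groth.Agent.H15Site.AlmostCocont
import Mathlib.CategoryTheory.IsConnected
import Mathlib.CategoryTheory.Limits.Types.Colimits

set_option autoImplicit false
open CategoryTheory CategoryTheory.Limits Opposite
universe u
open SiteMisc

set_option linter.style.haveILetI false
set_option backward.isDefEq.respectTransparency false
open CategoryTheory.Limits Opposite
open Groth.Agent.H15Site


namespace Groth.Agent.S6440

/-- For a continuous and almost cocontinuous functor `u` between small sites, the functor `u^s` on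
sheaves of sets preserves finite connected colimits. -/
theorem result {C D : Type u} [SmallCategory C] [SmallCategory D]
    (J : GrothendieckTopology C) (K : GrothendieckTopology D) (u : C ⥤ D) [u.IsContinuous J K]
    (hu : BigSite.IsAlmostCocontinuous u J K) (I : Type) [SmallCategory I] [FinCategory I] [IsConnected I] :
    PreservesColimitsOfShape I (u.sheafPushforwardContinuous (Type u) J K) := by
  have hempty : ∀ (F : Sheaf K (Type u)) (V : D), (⊥ : Sieve V) ∈ K V → Nonempty (Unique (F.obj.obj (op V))) := by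
    intro F V hV
    have h := ((isSheaf_iff_isSheaf_of_type _ _).1 F.property) _ hV
    exact ⟨{ default := h.amalgamate (fun _ _ hf => hf.elim) (fun _ _ _ _ _ _ _ hf => hf.elim)
             uniq := fun a => h.isSeparatedFor.ext fun _ _ hf => hf.elim }⟩
  refine ⟨fun {F} => ?_⟩
  let P := F ⋙ sheafToPresheaf K (Type u)
  let c₀ := colimit.cocone P
  let hc₀ := colimit.isColimit P
  let W := (Functor.whiskeringLeft Cᵒᵖ Dᵒᵖ (Type u)).obj u.op
  have hpt : ∀ V : D, (⊥ : Sieve V) ∈ K V → Nonempty (Unique (c₀.pt.obj (op V))) := by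
    intro V hV
    obtain ⟨i₀⟩ := (inferInstance : Nonempty I)
    let hev := isColimitOfPreserves ((evaluation Dᵒᵖ (Type u)).obj (op V)) hc₀
    haveI : ∀ i, Subsingleton ((P.obj i).obj (op V)) := fun i =>
      @Unique.instSubsingleton _ (hempty (F.obj i) V hV).some
    let e : ∀ i, (P.obj i).obj (op V) := fun i => (hempty (F.obj i) V hV).some.default
    refine ⟨{ default := (c₀.ι.app i₀).app (op V) (e i₀), uniq := fun a => ?_ }⟩
    obtain ⟨i, x, rfl⟩ := Types.jointly_surjective_of_isColimit hev a
    obtain rfl : x = e i := @Subsingleton.elim ((P.obj i).obj (op V)) _ _ _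
    refine equiv_relation (fun a b => (c₀.ι.app a).app (op V) (e a) = (c₀.ι.app b).app (op V) (e b))
      ⟨fun _ => rfl, Eq.symm, Eq.trans⟩ (fun {a b} f => ?_) i i₀
    have := ConcreteCategory.congr_hom (NatTrans.congr_app (c₀.w f) (op V)) (e a)
    exact this.symm.trans (congrArg ((c₀.ι.app b).app (op V)) (Subsingleton.elim _ _))
  let U := u.sheafPushforwardContinuous (Type u) J K
  let LJ := presheafToSheaf J (Type u)
  let LK := presheafToSheaf K (Type u)
  let φ := AlmostCocont.cmpNat J K u
  haveI : ∀ i, IsIso (φ.app (P.obj i)) := fun i =>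
    AlmostCocont.isIso_cmp J K u hu _ (fun V hV => hempty (F.obj i) V hV)
  haveI : IsIso (φ.app c₀.pt) := AlmostCocont.isIso_cmp J K u hu _ hpt
  have h₁ : IsColimit ((W ⋙ LJ).mapCocone c₀) := isColimitOfPreserves (W ⋙ LJ) hc₀
  let e : P ⋙ W ⋙ LJ ≅ P ⋙ LK ⋙ U := NatIso.ofComponents (fun i => asIso (φ.app (P.obj i)))
    (fun f => φ.naturality (P.map f))
  have h₂ : IsColimit ((LK ⋙ U).mapCocone c₀) :=
    IsColimit.equivOfNatIsoOfIso e ((W ⋙ LJ).mapCocone c₀) ((LK ⋙ U).mapCocone c₀)
      (Cocone.ext (asIso (φ.app c₀.pt)) (fun i => by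
        refine (Category.assoc _ _ _).trans ((Iso.inv_comp_eq (e.app i)).2 ?_)
        exact φ.naturality (c₀.ι.app i))) h₁
  have hLK : IsColimit (LK.mapCocone c₀) := isColimitOfPreserves LK hc₀
  haveI : PreservesColimit (P ⋙ LK) U := preservesColimit_of_preserves_colimit_cocone hLK h₂
  exact preservesColimit_of_iso_diagram U
    (Functor.associator _ _ _ ≪≫ Functor.isoWhiskerLeft F (asIso (sheafificationAdjunction K (Type u)).counit) ≪≫
      F.rightUnitor : P ⋙ LK ≅ F)

end Groth.Agent.S6440
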