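import Groth.Statements.S6442
import Groth.Agent.H15Site.CofanSheafify
import Mathlib.CategoryTheory.Sites.LocallyBijective
import Mathlib.CategoryTheory.Sites.EpiMono

set_option linter.style.haveILetI false
open CategoryTheory CategoryTheory.Limits Opposite

set_option autoImplicit false
open CategoryTheory CategoryTheory.Limits Opposite
universe u
open SiteMisc

namespace Groth.Agent.S6442

/-- An object `U` of a site is weakly contractible, i.e. for every covering sieve `S` the sheafified map
`(∐_{V → U ∈ S} h_V)^# ⟶ h_U^#` has a section, if and only if taking sections over `U` turns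
epimorphisms of sheaves of sets into surjections. (Coverings are taken as covering sieves; the
coproduct is formed in presheaves and then sheafified.) -/
theorem result {C : Type u} [SmallCategory C] (J : GrothendieckTopology C) (U : C) :
    (∀ S : Sieve U, S ∈ J U →
      IsSplitEpi ((presheafToSheaf J (Type u)).map
        (Sigma.desc (fun i : (Σ V : C, {f : V ⟶ U // S f}) => yoneda.map i.2.1) :
          (∐ fun i : (Σ V : C, {f : V ⟶ U // S f}) => yoneda.obj i.1) ⟶ yoneda.obj U))) ↔
    ∀ (F G : Sheaf J (Type u)) (φ : F ⟶ G), Epi φ → Function.Surjective (φ.hom.app (op U)) := by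
  let adj := sheafificationAdjunction J (Type u)
  constructor
  · intro h F G φ hφ s
    haveI := (Sheaf.isLocallySurjective_iff_epi φ).2 hφ
    let S := Presheaf.imageSieve φ.hom s
    haveI := h S (Presheaf.imageSieve_mem J φ.hom s)
    let d := Sigma.desc (fun i : (Σ V : C, {f : V ⟶ U // S f}) => yoneda.map i.2.1)
    let l := Sigma.desc (fun i : (Σ V : C, {f : V ⟶ U // S f}) => yonedaEquiv.symm i.2.2.choose)
    have hl : l ≫ φ.hom = d ≫ yonedaEquiv.symm s := by
      apply Sigma.hom_ext
      intro i
      rw [Sigma.ι_desc_assoc, Sigma.ι_desc_assoc]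
      apply yonedaEquiv.injective
      rw [yonedaEquiv_comp, Equiv.apply_symm_apply, ← yonedaEquiv_naturality, Equiv.apply_symm_apply]
      exact i.2.2.choose_spec
    let ŝ := (adj.homEquiv _ G).symm (yonedaEquiv.symm s)
    let l' := (adj.homEquiv _ F).symm l
    have hl' : l' ≫ φ = (presheafToSheaf J (Type u)).map d ≫ ŝ := by
      simp only [l', ŝ]
      rw [← adj.homEquiv_naturality_right_symm, ← adj.homEquiv_naturality_left_symm]
      exact congrArg _ hl
    refine ⟨Groth.Agent.H15Site.sheafifyYonedaHomEquiv J U F (section_ ((presheafToSheaf J (Type u)).map d) ≫ l'), ?_⟩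
    rw [← Groth.Agent.H15Site.sheafifyYonedaHomEquiv_naturality_right, Category.assoc, hl', IsSplitEpi.id_assoc]
    simp [ŝ, adj, Groth.Agent.H15Site.sheafifyYonedaHomEquiv]
  · intro h S hS
    let d := (presheafToSheaf J (Type u)).map (Sigma.desc (fun i : (Σ V : C, {f : V ⟶ U // S f}) => yoneda.map i.2.1))
    haveI : Presheaf.IsLocallySurjective J (Sigma.desc (fun i : (Σ V : C, {f : V ⟶ U // S f}) => yoneda.map i.2.1)) := by
      refine ⟨fun {W} g => ?_⟩
      refine J.superset_covering ?_ (J.pullback_stable g hS)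
      intro Z a ha
      refine ⟨yonedaEquiv (Sigma.ι (fun i : (Σ V : C, {f : V ⟶ U // S f}) => yoneda.obj i.1) ⟨Z, a ≫ g, ha⟩), ?_⟩
      rw [← yonedaEquiv_comp, Sigma.ι_desc, yonedaEquiv_yoneda_map]
      rfl
    haveI : Epi d := (Sheaf.isLocallySurjective_iff_epi d).1 (by
      simpa [d, Presheaf.isLocallySurjective_presheafToSheaf_map_iff])
    obtain ⟨z, hz⟩ := h _ _ d inferInstance (Groth.Agent.H15Site.sheafifyYonedaHomEquiv J U _ (𝟙 _))
    refine IsSplitEpi.mk' ⟨(Groth.Agent.H15Site.sheafifyYonedaHomEquiv J U _).symm z, ?_⟩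
    apply (Groth.Agent.H15Site.sheafifyYonedaHomEquiv J U _).injective
    rw [Groth.Agent.H15Site.sheafifyYonedaHomEquiv_naturality_right, Equiv.apply_symm_apply]
    exact hz

end Groth.Agent.S6442
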