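import Groth.Statements.S6443
import Groth.Agent.H14Fib.Yoneda

set_option autoImplicit false
set_option backward.isDefEq.respectTransparency false
set_option backward.isDefEq.respectTransparency.types false
open CategoryTheory
universe v u
open FibCat

namespace Groth.Agent.S6443

/-- If a category `𝒮` fibred in groupoids over `C` is represented by `X` via `j : 𝒮 ⟶ C/X` and by `X'`
via `j' : 𝒮 ⟶ C/X'` (equivalences over `C`), then there is an isomorphism `X' ≅ X` under which `j'`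
becomes 2-isomorphic to `j` over `C`. -/
theorem result {C : Type u} [Category.{v} C] {𝒮 : BasedCategory.{v, max u v} C} (h𝒮 : FibCat.IsFibGrpd 𝒮.p)
    {X X' : C} (j : 𝒮 ⥤ᵇ FibCat.overCat X) (j' : 𝒮 ⥤ᵇ FibCat.overCat X') (hj : FibCat.IsEquivOver j) (hj' : FibCat.IsEquivOver j') :
    ∃ e : X' ≅ X, Nonempty (BasedFunctor.comp j' (⟨Over.map e.hom, Over.mapForget_eq e.hom⟩ : FibCat.overCat X' ⥤ᵇ FibCat.overCat X) ≅ j) := by
  obtain ⟨k, ⟨e₁⟩, ⟨e₂⟩⟩ := hj'
  -- the composite equivalence between the two slices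
  let T := BasedFunctor.comp k j
  have hT : FibCat.IsEquivOver T := H14Fib.isEquivOver_comp ⟨j', ⟨e₂⟩, ⟨e₁⟩⟩ hj
  have := H14Fib.isEquivalence_of_isEquivOver hT
  let h : X' ⟶ X := eqToHom (T.w_obj (H14Fib.topObj X')).symm ≫ (T.obj (H14Fib.topObj X')).hom
  have hTs : H14Fib.TopSC T := fun s => by
    obtain ⟨⟨_, _⟩, hs⟩ := (H14Fib.isEquivOver_iff T).1 hT
    have : (FibCat.overCat X').p.IsStronglyCartesian s.hom (H14Fib.toTop s) := H14Fib.overCat_map_sc (H14Fib.toTop s)
    exact H14Fib.map_sc_of_sc T s.hom _ hs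
  let M : FibCat.overCat X' ⥤ᵇ FibCat.overCat X := ⟨Over.map h, Over.mapForget_eq h⟩
  let d : T.obj (H14Fib.topObj X') ≅ M.obj (H14Fib.topObj X') :=
    Over.isoMk (eqToIso (T.w_obj (H14Fib.topObj X'))) (by
      change eqToHom (T.w_obj (H14Fib.topObj X')) ≫ 𝟙 X' ≫ h = _
      erw [Category.id_comp]
      simp [h])
  have hd : (FibCat.overCat X).p.IsHomLift (𝟙 X') d.hom :=
    IsHomLift.of_fac' _ _ _ (T.w_obj (H14Fib.topObj X')) rfl (by simp [d]; rfl)
  have hM : H14Fib.TopSC M := fun s => by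
    have h1 := H14Fib.overCat_map_sc (M.map (H14Fib.toTop s))
    exact h1
  let iso : T ≅ M := H14Fib.isoOfTop hTs hM d hd
  have : M.toFunctor.IsEquivalence :=
    H14Fib.isEquivalence_of_isEquivOver (H14Fib.isEquivOver_of_iso iso hT)
  have : IsIso h := by
    have : (Over.map h).IsEquivalence := ‹M.toFunctor.IsEquivalence›
    let o := (Over.map h).objPreimage (Over.mk (𝟙 X))
    let i := (Over.map h).objObjPreimageIso (Over.mk (𝟙 X))
    have hw : i.inv.left ≫ o.hom ≫ h = 𝟙 X := Over.w i.inv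
    have : IsSplitEpi h := ⟨⟨⟨i.inv.left ≫ o.hom, by rw [Category.assoc]; exact hw⟩⟩⟩
    let r := i.inv.left ≫ o.hom
    have hr : r ≫ h = 𝟙 X := by rw [Category.assoc]; exact hw
    let P : Over X' := Over.mk (h ≫ r)
    let Q : Over X' := Over.mk (𝟙 X')
    let m : (Over.map h).obj P ⟶ (Over.map h).obj Q := Over.homMk (𝟙 X') (by
      change 𝟙 X' ≫ 𝟙 X' ≫ h = (h ≫ r) ≫ h
      rw [Category.assoc, hr]; simp)
    have e := Over.w ((Over.map h).preimage m)
    have hm : ((Over.map h).preimage m).left = 𝟙 X' := by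
      have := congrArg Over.Hom.left ((Over.map h).map_preimage m)
      exact this
    rw [hm] at e
    exact ⟨r, by simpa [P, Q] using e.symm, hr⟩
  exact ⟨asIso h, ⟨BasedNatIso.mkNatIso
    (Functor.isoWhiskerLeft j'.toFunctor ((BasedNatTrans.forgetful _ _).mapIso iso.symm) ≪≫
      Functor.isoWhiskerRight ((BasedNatTrans.forgetful _ _).mapIso e₁) j.toFunctor)
    (fun a => H14Fib.homLift_id_comp (BasedNatTrans.isHomLift iso.inv (j'.w_obj a))
      (@BasedFunctor.preserves_isHomLift _ _ _ _ j _ _ _ _ _ _ (BasedNatTrans.isHomLift e₁.hom rfl)))⟩⟩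

end Groth.Agent.S6443
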