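import Groth.Statements.S6444
import Groth.Agent.H16Derived.CatLoc

set_option autoImplicit false
open CategoryTheory
universe v u v' u'
open CatLoc

namespace Groth.Agent.S6444

/-- For a left multiplicative system, a commutative square in the localization between the images of two
morphisms `f, f'` of `C` lifts to a commutative diagram `X → X'' ← X'`, `Y → Y'' ← Y'` in `C` over a
third morphism `f''`, the backward arrows lying in `W`. -/
theorem result {C : Type u} [Category.{v} C] {D : Type u'} [Category.{v'} D] (W : MorphismProperty C) (L : C ⥤ D) [L.IsLocalization W] [W.HasLeftCalculusOfFractions]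
    {X Y X' Y' : C} (f : X ⟶ Y) (f' : X' ⟶ Y') (a : L.obj X ⟶ L.obj X') (b : L.obj Y ⟶ L.obj Y') (w : L.map f ≫ b = a ≫ L.map f') :
    ∃ (X'' Y'' : C) (f'' : X'' ⟶ Y'') (g : X ⟶ X'') (h : Y ⟶ Y'') (s : X' ⟶ X'') (t : Y' ⟶ Y''),
      W s ∧ W t ∧ f ≫ h = g ≫ f'' ∧ f' ≫ t = s ≫ f'' ∧ L.map g = a ≫ L.map s ∧ L.map h = b ≫ L.map t := by
  obtain ⟨⟨g₀, s, hs⟩, ha⟩ := Localization.exists_leftFraction L W a
  obtain ⟨⟨f₁, t₁, ht₁⟩, hψ⟩ := (MorphismProperty.RightFraction.mk s hs f').exists_leftFraction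
  dsimp at hψ
  obtain ⟨⟨h, t₂, ht₂⟩, hb⟩ := Localization.exists_leftFraction L W (b ≫ L.map t₁)
  have ha' : a ≫ L.map s = L.map g₀ := by
    rw [ha]
    exact MorphismProperty.LeftFraction.map_comp_map_s _ L (Localization.inverts L W)
  have hb' : b ≫ L.map (t₁ ≫ t₂) = L.map h := by
    rw [L.map_comp, ← Category.assoc, hb]
    exact MorphismProperty.LeftFraction.map_comp_map_s _ L (Localization.inverts L W)
  obtain ⟨Y'', t₃, ht₃, fac⟩ := (W.map_eq_iff_postcomp L (f ≫ h) (g₀ ≫ f₁ ≫ t₂)).1 (by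
    rw [L.map_comp, ← hb', reassoc_of% w, L.map_comp g₀, ← ha', Category.assoc, ← L.map_comp,
      ← L.map_comp, ← Category.assoc f' t₁, hψ, Category.assoc])
  refine ⟨_, Y'', f₁ ≫ t₂ ≫ t₃, g₀, h ≫ t₃, s, t₁ ≫ t₂ ≫ t₃, hs,
    W.comp_mem _ _ ht₁ (W.comp_mem _ _ ht₂ ht₃), ?_, ?_, ha'.symm, ?_⟩
  · simpa using fac
  · simp [reassoc_of% hψ]
  · rw [L.map_comp, ← hb']
    simp

end Groth.Agent.S6444
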