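import Groth.Statements.S6447
import Groth.Agent.H14Fib.CatPb

set_option autoImplicit false
set_option backward.isDefEq.respectTransparency false
set_option backward.isDefEq.respectTransparency.types false
open CategoryTheory CategoryTheory.Limits
universe v u
open FibCat

namespace Groth.Agent.S6447

/-- For a 2-fibre product `U = X ×_Y V` of categories, the square formed by `U ⟶ X`, the diagonals `U ⟶
U ×_V U`, `X ⟶ X ×_Y X` and the induced functor `U ×_V U ⟶ X ×_Y X` is 2-cartesian. (The filling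
2-isomorphism is the one whose two components at every object are identities; it exists and is
unique with that property.) -/
theorem result {X Y V : Type u} [Category.{v} X] [Category.{v} Y] [Category.{v} V] (p : X ⥤ Y) (q : V ⥤ Y) :
    ∃ e, (∀ u, (e.hom.app u).fst = 𝟙 _ ∧ (e.hom.app u).snd = 𝟙 _) ∧ FibCat.IsTwoCart
      (CategoricalPullback.π₁ p q)
      ((CategoricalPullback.CatCommSqOver.toFunctorToCategoricalPullback (CategoricalPullback.π₂ p q) (CategoricalPullback.π₂ p q) (CategoricalPullback p q)).obj ⟨𝟭 _, 𝟭 _, Iso.refl _⟩)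
      ((CategoricalPullback.CatCommSqOver.toFunctorToCategoricalPullback p p X).obj ⟨𝟭 _, 𝟭 _, Iso.refl _⟩)
      (FibCat.categoricalPullbackMap (⟨CategoricalPullback.π₁ p q, q, CategoricalPullback.π₁ p q, ⟨(CatCommSq.iso (CategoricalPullback.π₁ p q) (CategoricalPullback.π₂ p q) p q).symm⟩, ⟨(CatCommSq.iso (CategoricalPullback.π₁ p q) (CategoricalPullback.π₂ p q) p q).symm⟩⟩ : CatCospanTransform (CategoricalPullback.π₂ p q) (CategoricalPullback.π₂ p q) p p))
      e := by
  let D := (CategoricalPullback.CatCommSqOver.toFunctorToCategoricalPullback p p X).obj ⟨𝟭 _, 𝟭 _, Iso.refl _⟩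
  let ψ : CatCospanTransform (CategoricalPullback.π₂ p q) (CategoricalPullback.π₂ p q) p p :=
    ⟨CategoricalPullback.π₁ p q, q, CategoricalPullback.π₁ p q,
      ⟨(CatCommSq.iso (CategoricalPullback.π₁ p q) (CategoricalPullback.π₂ p q) p q).symm⟩,
      ⟨(CatCommSq.iso (CategoricalPullback.π₁ p q) (CategoricalPullback.π₂ p q) p q).symm⟩⟩
  let L := (CategoricalPullback.CatCommSqOver.toFunctorToCategoricalPullback (CategoricalPullback.π₂ p q)
    (CategoricalPullback.π₂ p q) (CategoricalPullback p q)).obj ⟨𝟭 _, 𝟭 _, Iso.refl _⟩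
  let M := FibCat.categoricalPullbackMap ψ
  have hM : ∀ z, (M.obj z).iso.hom = z.fst.iso.hom ≫ q.map z.iso.hom ≫ z.snd.iso.inv := fun z => by
    change ((FibCat.categoricalPullbackMap ψ).obj z).iso.hom = _
    simp [FibCat.categoricalPullbackMap, ψ]
    rfl
  let e : CategoricalPullback.π₁ p q ⋙ D ≅ L ⋙ M :=
    NatIso.ofComponents (fun u => CategoricalPullback.mkIso (Iso.refl _) (Iso.refl _) (by
      change p.map (𝟙 u.fst) ≫ (M.obj (L.obj u)).iso.hom = 𝟙 _ ≫ p.map (𝟙 u.fst)
      rw [hM]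
      change p.map (𝟙 u.fst) ≫ u.iso.hom ≫ q.map (𝟙 u.snd) ≫ u.iso.inv = 𝟙 _ ≫ p.map (𝟙 u.fst)
      simp))
      (fun {u u'} f => CategoricalPullback.hom_ext ((Category.comp_id _).trans (Category.id_comp _).symm)
        ((Category.comp_id _).trans (Category.id_comp _).symm))
  refine ⟨e, fun u => ⟨rfl, rfl⟩, ?_⟩
  refine { faithful := ⟨fun {u u'} f g h => ?_⟩, full := ⟨fun {u u'} m => ?_⟩, essSurj := ⟨fun z => ?_⟩ }
  · exact congrArg (fun t => t.snd.fst) h
  · obtain ⟨f, ⟨g₁, g₂, w'⟩, w⟩ := m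
    have hw : g₁.snd ≫ 𝟙 _ = 𝟙 _ ≫ g₂.snd := w'
    have h1 : f ≫ 𝟙 _ = 𝟙 _ ≫ g₁.fst := congrArg (fun t => t.fst) w
    have h2 : f ≫ 𝟙 _ = 𝟙 _ ≫ g₂.fst := congrArg (fun t => t.snd) w
    have e1 : f = g₁.fst := (Category.comp_id f).symm.trans (h1.trans (Category.id_comp _))
    have e2 : f = g₂.fst := (Category.comp_id f).symm.trans (h2.trans (Category.id_comp _))
    have e3 : g₁.snd = g₂.snd := (Category.comp_id _).symm.trans (hw.trans (Category.id_comp _))
    have e4 : g₁ = g₂ := CategoricalPullback.hom_ext (e1.symm.trans e2) e3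
    subst e4
    exact ⟨g₁, CategoricalPullback.hom_ext e1.symm (CategoricalPullback.hom_ext rfl rfl)⟩
  · let a : z.fst ≅ z.snd.fst.fst := (CategoricalPullback.π₁ p p).mapIso z.iso
    let b : z.fst ≅ z.snd.snd.fst := (CategoricalPullback.π₂ p p).mapIso z.iso
    have hw : p.map a.hom ≫ (M.obj z.snd).iso.hom = (D.obj z.fst).iso.hom ≫ p.map b.hom := z.iso.hom.w
    rw [hM, show (D.obj z.fst).iso.hom = 𝟙 _ from rfl, Category.id_comp] at hw
    let m : z.snd.fst ≅ z.snd.snd := CategoricalPullback.mkIso (a.symm ≪≫ b) z.snd.iso (by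
      change p.map (a.inv ≫ b.hom) ≫ z.snd.snd.iso.hom = z.snd.fst.iso.hom ≫ q.map z.snd.iso.hom
      rw [Functor.map_comp, Category.assoc, ← hw]
      simp [← Functor.map_comp_assoc])
    refine ⟨z.snd.fst, ⟨CategoricalPullback.mkIso a.symm (CategoricalPullback.mkIso (Iso.refl _) m ?_) ?_⟩⟩
    · change (CategoricalPullback.π₂ p q).map (𝟙 _) ≫ z.snd.iso.hom = 𝟙 _ ≫ z.snd.iso.hom
      simp
      exact Category.id_comp _
    · refine CategoricalPullback.hom_ext ?_ ?_
      · change a.inv ≫ a.hom = 𝟙 _ ≫ 𝟙 _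
        simp
      · change a.inv ≫ b.hom = 𝟙 _ ≫ (a.inv ≫ b.hom)
        simp

end Groth.Agent.S6447
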