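import Groth.Statements.S6448

set_option linter.style.haveILetI false

set_option autoImplicit false
open CategoryTheory
universe v u
open CatLim

namespace Groth.Agent.S6448

/-- In a category where spans complete to commutative squares and parallel pairs are coequalized by a
later arrow, every connected component is filtered (so the category is a disjoint union of filtered
categories). -/
theorem result {I : Type u} [Category.{v} I]
    (h1 : ∀ ⦃w x y : I⦄ (a : w ⟶ x) (b : w ⟶ y), ∃ (z : I) (c : x ⟶ z) (d : y ⟶ z), a ≫ c = b ≫ d)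
    (h2 : ∀ ⦃x y : I⦄ (a b : x ⟶ y), ∃ (z : I) (c : y ⟶ z), a ≫ c = b ≫ c)
    (j : ConnectedComponents I) : IsFiltered j.Component := by
  have key : ∀ x y : I, Zigzag x y → ∃ (z : I) (_ : x ⟶ z), Nonempty (y ⟶ z) := by
    intro x y h
    induction h with
    | refl => exact ⟨x, 𝟙 _, ⟨𝟙 _⟩⟩
    | @tail b c _ hz ih =>
      obtain ⟨z, f, ⟨g⟩⟩ := ih
      rcases hz with ⟨⟨a⟩⟩ | ⟨⟨a⟩⟩
      · obtain ⟨z', c', d', _⟩ := h1 g a
        exact ⟨z', f ≫ c', ⟨d'⟩⟩
      · exact ⟨z, f, ⟨a ≫ g⟩⟩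
  refine { toIsFilteredOrEmpty := ⟨fun X Y => ?_, fun X Y f g => ?_⟩, nonempty := inferInstance }
  · have hXY : Zigzag X.obj Y.obj := Quotient.exact' (X.property.trans Y.property.symm)
    obtain ⟨z, f, ⟨g⟩⟩ := key _ _ hXY
    refine ⟨⟨z, ?_⟩, ObjectProperty.homMk f, ObjectProperty.homMk g, trivial⟩
    exact (Quotient.sound' (Zigzag.of_inv f)).trans X.property
  · obtain ⟨z, c, hc⟩ := h2 f.hom g.hom
    refine ⟨⟨z, (Quotient.sound' (Zigzag.of_inv c)).trans Y.property⟩, ObjectProperty.homMk c, ?_⟩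
    ext; exact hc

end Groth.Agent.S6448
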