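import Groth.Statements.S6450
import Groth.Agent.H3CAlg.ChiTriple
-- import your own Groth.Agent.* helpers here

set_option autoImplicit false
universe u
open CategoryTheory CategoryTheory.Limits AlgebraicGeometry
attribute [local instance] HasDerivedCategory.standard
open IntMult

namespace Groth.Agent.S6450

/-- Let X be a nonsingular variety of dimension n and U, V, W closed subvarieties, with generic points
ξU, ξV, ξW, which intersect properly pairwise and with dim(U ∩ V ∩ W) ≤ dim U + dim V + dim W − 2n.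
Then U · (V · W) = (U · V) · W as cycles on X. The prime cycle [U] is the indicator function of the
generic point ξU. Here X is a nonsingular variety over the algebraically closed field K (smooth,
separated, quasi-compact, integral) with dimension function δ (transcendence degree over K, recorded
by Cyc.DeltaCompat to Spec K with value 0, together with Cyc.IsSetup) and n = dim X = δ of the
generic point; cycles are coefficient functions X → ℤ, proper intersection is
IntMult.IntersectProperly and α · β is the Tor-formula intersection product on coefficient functions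
(IntMult.interProd). -/
theorem result (K : Type u) [Field K] [IsAlgClosed K] (X : Scheme.{u}) (f : X ⟶ Spec (CommRingCat.of K)) [Smooth f] [IsSeparated f] [QuasiCompact f] [IsIntegral X] (δ : X → ℤ) (hX : Cyc.IsSetup X δ) (hδ : Cyc.DeltaCompat f δ (fun _ => 0)) (n : ℤ) (hn : δ (genericPoint X) = n) (ξU ξV ξW : X) (hUV : IntMult.IntersectProperly δ n (Set.indicator {ξU} 1) (Set.indicator {ξV} 1)) (hVW : IntMult.IntersectProperly δ n (Set.indicator {ξV} 1) (Set.indicator {ξW} 1)) (hUW : IntMult.IntersectProperly δ n (Set.indicator {ξU} 1) (Set.indicator {ξW} 1)) (hUVW : ∀ ζ : X, ξU ⤳ ζ → ξV ⤳ ζ → ξW ⤳ ζ → δ ζ ≤ δ ξU + δ ξV + δ ξW - 2 * n) : IntMult.interProd δ n (Set.indicator {ξU} 1) (IntMult.interProd δ n (Set.indicator {ξV} 1) (Set.indicator {ξW} 1)) = IntMult.interProd δ n (IntMult.interProd δ n (Set.indicator {ξU} 1) (Set.indicator {ξV} 1)) (Set.indicator {ξW} 1) := by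
  classical
  haveI : IsLocallyNoetherian X := LocallyOfFiniteType.isLocallyNoetherian f
  haveI : CompactSpace X := (quasiCompact_iff_compactSpace f).mp inferInstance
  haveI : IsNoetherian X := {}
  have h1 : ∀ x : X, Set.indicator ({x} : Set X) (1 : X → ℤ) x ≠ 0 := fun x => by simp
  have hVW' : ∀ η, ξV ⤳ η → ξW ⤳ η → δ η ≤ δ ξV + δ ξW - n := fun η a b =>
    hVW ξV ξW η (h1 _) (h1 _) a b
  have hUV' : ∀ η, ξU ⤳ η → ξV ⤳ η → δ η ≤ δ ξU + δ ξV - n := fun η a b =>
    hUV ξU ξV η (h1 _) (h1 _) a b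
  funext ζ
  rw [H3CAlg.ChiTriple.interProd_comm δ n (IntMult.interProd δ n (Set.indicator {ξU} 1) (Set.indicator {ξV} 1))
    (Set.indicator {ξW} 1)]
  by_cases hc : ξU ⤳ ζ ∧ ξV ⤳ ζ ∧ ξW ⤳ ζ ∧ δ ζ = δ ξU + δ ξV + δ ξW - 2 * n
  · obtain ⟨hu, hv, hw, hζ⟩ := hc
    rw [H3CAlg.ChiTriple.interProd_interProd f δ hδ n hn ξU ξV ξW ζ hu hv hw hζ hVW'
        (fun η a b c => by have := hUVW η a b c; omega),
      H3CAlg.ChiTriple.interProd_interProd f δ hδ n hn ξW ξU ξV ζ hw hu hv (by omega) hUV'
        (fun η a b c => by have := hUVW η b c a; omega)]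
    obtain ⟨cn, hcn, -⟩ := H3CAlg.IntPt.delta_eq_cdim f δ hδ (genericPoint X)
    obtain ⟨cz, hcz, hcz'⟩ := H3CAlg.IntPt.delta_eq_cdim f δ hδ ζ
    obtain ⟨dA, hdA, -⟩ := H3CAlg.IntLocal.ringKrullDim_stalk f (H3CAlg.ChiMain.topologicalKrullDim_eq cn hcn) ζ hcz
    obtain ⟨I, hI⟩ : ∃ I, I = fun a : X => IntMult.stalkIdeal (IntMult.ptIdeal a) ζ := ⟨_, rfl⟩
    have htri : ∀ S : Ideal (X.presheaf.stalk ζ), S.IsPrime → I ξU ≤ S → I ξV ≤ S → I ξW ≤ S →
        S = IsLocalRing.maximalIdeal (X.presheaf.stalk ζ) := by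
      intro S hS hSU hSV hSW
      obtain ⟨η, hη, hηI⟩ := H3CAlg.ChiStalk.exists_generization (⟨S, hS⟩ : PrimeSpectrum (X.presheaf.stalk ζ))
      simp only [hI] at hSU hSV hSW
      have hle := hUVW η (H3CAlg.ChiTriple.specializes_of_le hu hη (by rw [hηI]; exact hSU))
        (H3CAlg.ChiTriple.specializes_of_le hv hη (by rw [hηI]; exact hSV))
        (H3CAlg.ChiTriple.specializes_of_le hw hη (by rw [hηI]; exact hSW))
      have heq := (H3CAlg.ChiMain.eq_of_specializes f δ hδ hη).2 (by omega)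
      show (⟨S, hS⟩ : PrimeSpectrum (X.presheaf.stalk ζ)).asIdeal = _
      rw [← hηI, heq]
      exact H3CAlg.IntPt.stalkIdeal_ptIdeal_self ζ
    have key := fun (Q a b : X) (h : ∀ S : Ideal (X.presheaf.stalk ζ), S.IsPrime → I Q ≤ S → I a ≤ S → I b ≤ S →
        S = IsLocalRing.maximalIdeal (X.presheaf.stalk ζ)) =>
      H3CAlg.ChiAssoc.chi_assoc f ζ (I Q) hdA (X.presheaf.stalk ζ ⧸ I a) (X.presheaf.stalk ζ ⧸ I b)
        (fun S hS x y z => h S hS x (by rwa [Ideal.annihilator_quotient] at y)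
          (by rwa [Ideal.annihilator_quotient] at z))
    have e1 := key ξU ξV ξW htri
    have e2 := key ξV ξW ξU (fun S hS x y z => htri S hS z x y)
    subst hI
    exact e1.trans e2
  · rw [H3CAlg.ChiTriple.interProd_single_left_eq_zero, H3CAlg.ChiTriple.interProd_single_left_eq_zero]
    · intro η hw hη he
      by_contra hne
      obtain ⟨a, b, hab⟩ := H3CAlg.ChiTriple.interProd_single_single_ne_zero δ n ξU ξV η hne
      exact hc ⟨a.trans hη, b.trans hη, hw, by omega⟩
    · intro η hu hη he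
      by_contra hne
      obtain ⟨a, b, hab⟩ := H3CAlg.ChiTriple.interProd_single_single_ne_zero δ n ξV ξW η hne
      exact hc ⟨hu, a.trans hη, b.trans hη, by omega⟩

end Groth.Agent.S6450
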