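import Groth.Statements.S6451
import Groth.Agent.H3CAlg.ChiPull
import Groth.Agent.H3CAlg.ChiCycles
-- import your own Groth.Agent.* helpers here

set_option autoImplicit false
universe u
open CategoryTheory CategoryTheory.Limits AlgebraicGeometry
attribute [local instance] HasDerivedCategory.standard
open IntMult

namespace Groth.Agent.S6451

/-- For a flat morphism f : X → Y between nonsingular varieties, with e = dim X − dim Y (every fibre
component has dimension e), and for cycles α ∈ Z_r(Y) and β ∈ Z_s(Y) meeting properly, the flat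
pullbacks f^*α and f^*β again meet properly and pulling back commutes with the product: f^*(α · β) =
f^*α · f^*β, coefficientwise (flat pullback is Cyc.pullFun with relative dimension e). Here X is a
nonsingular variety over the algebraically closed field K (smooth, separated, quasi-compact,
integral) with dimension function δ (transcendence degree over K, recorded by Cyc.DeltaCompat to
Spec K with value 0, together with Cyc.IsSetup) and n = dim X = δ of the generic point; cycles are
Mathlib AlgebraicCycles with Cyc.Zk membership, proper intersection is IntMult.IntersectProperly and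
α · β is the Tor-formula intersection product on coefficient functions (IntMult.interProd). The same
holds for Y with δY and m = dim Y. -/
theorem result (K : Type u) [Field K] [IsAlgClosed K] (X Y : Scheme.{u}) (f : X ⟶ Y) (gX : X ⟶ Spec (CommRingCat.of K)) (gY : Y ⟶ Spec (CommRingCat.of K)) (hf : f ≫ gY = gX) [Smooth gX] [IsSeparated gX] [QuasiCompact gX] [IsIntegral X] [Smooth gY] [IsSeparated gY] [QuasiCompact gY] [IsIntegral Y] [Flat f] (δX : X → ℤ) (δY : Y → ℤ) (hX : Cyc.IsSetup X δX) (hY : Cyc.IsSetup Y δY) (hδX : Cyc.DeltaCompat gX δX (fun _ => 0)) (hδY : Cyc.DeltaCompat gY δY (fun _ => 0)) (hδ : Cyc.DeltaCompat f δX δY) (n m : ℤ) (hn : δX (genericPoint X) = n) (hm : δY (genericPoint Y) = m) (e : ℕ) (he : (e : ℤ) = n - m) (hrel : Cyc.HasRelDim f e) (r s : ℤ) (α β : AlgebraicCycle Y ℤ) (hα : α ∈ Cyc.Zk Y δY r) (hβ : β ∈ Cyc.Zk Y δY s) (hprop : IntMult.IntersectProperly δY m ⇑α ⇑β) : IntMult.IntersectProperly δX n (Cyc.pullFun f δX δY e ⇑α) (Cyc.pullFun f δX δY e ⇑β) ∧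 Cyc.pullFun f δX δY e (IntMult.interProd δY m ⇑α ⇑β) = IntMult.interProd δX n (Cyc.pullFun f δX δY e ⇑α) (Cyc.pullFun f δX δY e ⇑β) := by
  classical
  haveI : IsLocallyNoetherian X := LocallyOfFiniteType.isLocallyNoetherian gX
  haveI : IsLocallyNoetherian Y := LocallyOfFiniteType.isLocallyNoetherian gY
  haveI : CompactSpace Y := (quasiCompact_iff_compactSpace gY).mp inferInstance
  haveI : IsNoetherian Y := {}
  haveI : LocallyOfFiniteType (f ≫ gY) := by rw [hf]; infer_instance
  haveI : LocallyOfFiniteType f := locallyOfFiniteType_of_comp f gY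
  have hle := fun x => H22Alg.CycBasic.delta_le_of_hasRelDim f hrel hδ x
  have hmem : ∀ (γ : AlgebraicCycle Y ℤ) (t : ℤ), γ ∈ Cyc.Zk Y δY t → ∀ v, γ v ≠ 0 → δY v = t := by
    intro γ t hγ v hv
    by_contra hne
    exact hv (hγ v hne)
  have hsupp : ∀ (γ : Y → ℤ) (a : X), Cyc.pullFun f δX δY e γ a ≠ 0 → δX a = δY (f a) + e ∧ γ (f a) ≠ 0 := by
    intro γ a ha
    rw [Cyc.pullFun] at ha
    by_cases h : δX a = δY (f a) + e
    · rw [if_pos h] at ha
      exact ⟨h, left_ne_zero_of_mul ha⟩
    · rw [if_neg h] at ha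
      exact absurd rfl ha
  refine ⟨?_, funext fun x => ?_⟩
  · intro a b z ha hb haz hbz
    obtain ⟨ea, hva⟩ := hsupp _ a ha
    obtain ⟨eb, hvb⟩ := hsupp _ b hb
    have := hprop _ _ _ hva hvb (haz.map f.continuous) (hbz.map f.continuous)
    have := hle z
    omega
  by_cases hd : δX x = δY (f x) + e ∧ δY (f x) = r + s - m
  swap
  · have hL : Cyc.pullFun f δX δY e (IntMult.interProd δY m ⇑α ⇑β) x = 0 := by
      rw [Cyc.pullFun]
      by_cases hx : δX x = δY (f x) + e
      · rw [if_pos hx, IntMult.interProd, finsum_eq_zero_of_forall_eq_zero, zero_mul]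
        rintro ⟨⟨v, w⟩, hv, hw, hvw⟩
        change δY v + δY w - m = δY (f x) at hvw
        by_contra h0
        simp only [mul_eq_zero, not_or] at h0
        have := hmem α r hα v h0.1.1
        have := hmem β s hβ w h0.1.2
        exact hd ⟨hx, by omega⟩
      · rw [if_neg hx]
    rw [hL, IntMult.interProd, finsum_eq_zero_of_forall_eq_zero]
    rintro ⟨⟨a, b⟩, hax, hbx, hab⟩
    change δX a + δX b - n = δX x at hab
    by_contra h0
    simp only [mul_eq_zero, not_or] at h0
    obtain ⟨ea, hva⟩ := hsupp _ a h0.1.1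
    obtain ⟨eb, hvb⟩ := hsupp _ b h0.1.2
    have := hmem α r hα _ hva
    have := hmem β s hβ _ hvb
    have := hprop _ _ _ hva hvb (hax.map f.continuous) (hbx.map f.continuous)
    have := hle x
    exact hd ⟨by omega, by omega⟩
  obtain ⟨hdx, hdy⟩ := hd
  have hY0 := fun (v : Y) => (H3CAlg.PrimeMod.isCoh_primeMod v)
  have hboundY : ∀ (t : ℤ) (v y : Y), δY v = t → Nontrivial ((H3CAlg.PrimeMod.primeMod v).presheaf.stalk y) →
      δY y ≤ t := fun t v y hv h => by
    have := (H3CAlg.ChiMain.eq_of_specializes gY δY hδY ((H3CAlg.PrimeMod.nontrivial_iff v y).mp h)).1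
    omega
  have hfinα := H3CAlg.ChiCycles.finite_generizations_support α (f x)
  have hfinβ := H3CAlg.ChiCycles.finite_generizations_support β (f x)
  have expY : ∀ (γ : AlgebraicCycle Y ℤ) (t : ℤ) (hγ : γ ∈ Cyc.Zk Y δY t)
      (hfin : {v | v ⤳ f x ∧ γ v ≠ 0}.Finite) (a : Y), a ⤳ f x →
      γ a = ∑ v ∈ hfin.toFinset, γ v * Cyc.sheafFun δY t (H3CAlg.PrimeMod.primeMod v) a := by
    intro γ t hγ hfin a ha
    have hz : ∀ v ∈ hfin.toFinset, v ≠ a → Cyc.sheafFun δY t (H3CAlg.PrimeMod.primeMod v) a = 0 := by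
      intro v hv hne
      by_contra h0
      obtain ⟨hda, hna⟩ := H3CAlg.ChiMain.nontrivial_of_sheafFun_ne_zero _ _ _ h0
      rw [Set.Finite.mem_toFinset] at hv
      exact hne ((H3CAlg.ChiMain.eq_of_specializes gY δY hδY ((H3CAlg.PrimeMod.nontrivial_iff v a).mp hna)).2
        (by rw [hmem γ t hγ v hv.2, hda]))
    by_cases hga : γ a = 0
    · rw [hga]
      refine (Finset.sum_eq_zero fun v hv => ?_).symm
      rw [hz v hv (fun h => by rw [Set.Finite.mem_toFinset] at hv; exact hv.2 (h ▸ hga)), mul_zero]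
    · rw [Finset.sum_eq_single a (fun v hv hne => by rw [hz v hv hne, mul_zero])
        (fun h => absurd (hfin.mem_toFinset.mpr ⟨ha, hga⟩) h), Cyc.sheafFun, if_pos (hmem γ t hγ a hga),
        H3CAlg.PrimeMod.length_self]
      simp
  have expX : ∀ (γ : AlgebraicCycle Y ℤ) (t : ℤ) (hγ : γ ∈ Cyc.Zk Y δY t)
      (hfin : {v | v ⤳ f x ∧ γ v ≠ 0}.Finite) (a : X), a ⤳ x →
      Cyc.pullFun f δX δY e ⇑γ a = ∑ v ∈ hfin.toFinset, γ v *
        Cyc.sheafFun δX (t + e) ((Scheme.Modules.pullback f).obj (H3CAlg.PrimeMod.primeMod v)) a := by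
    intro γ t hγ hfin a ha
    have hfa := ha.map f.continuous
    by_cases hda : δX a = δY (f a) + e
    · rw [Cyc.pullFun, if_pos hda, expY γ t hγ hfin (f a) hfa, Finset.sum_mul]
      refine Finset.sum_congr rfl fun v hv => ?_
      rw [mul_assoc, Cyc.sheafFun, Cyc.sheafFun]
      by_cases ht : δY (f a) = t
      · rw [if_pos ht, if_pos (by omega), H3CAlg.ChiPull.length_pullback, ENat.toNat_mul, Nat.cast_mul]
      · rw [if_neg ht, if_neg (by omega), zero_mul]
    · rw [Cyc.pullFun, if_neg hda]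
      refine (Finset.sum_eq_zero fun v hv => ?_).symm
      rw [mul_eq_zero]
      right
      by_contra h0
      obtain ⟨hta, hna⟩ := H3CAlg.ChiMain.nontrivial_of_sheafFun_ne_zero _ _ _ h0
      rw [Set.Finite.mem_toFinset] at hv
      have := hboundY t v (f a) (hmem γ t hγ v hv.2) (H3CAlg.ChiPull.nontrivial_of_pullback f _ a hna)
      have := hle a
      omega
  rw [Cyc.pullFun, if_pos hdx,
    H3CAlg.ChiCycles.interProd_expand δY m ⇑α ⇑β (f x) hfinα.toFinset hfinβ.toFinset (fun v => α v)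
      (fun v => Cyc.sheafFun δY r (H3CAlg.PrimeMod.primeMod v)) (fun w => β w)
      (fun w => Cyc.sheafFun δY s (H3CAlg.PrimeMod.primeMod w))
      (expY α r hα hfinα) (expY β s hβ hfinβ)
      (fun v hv => H3CAlg.ChiCycles.finite_sheafFun gY δY hδY _ (hY0 v) r
        (fun y => hboundY r v y (hmem α r hα v (hfinα.mem_toFinset.mp hv).2)) (f x))
      (fun w hw => H3CAlg.ChiCycles.finite_sheafFun gY δY hδY _ (hY0 w) s
        (fun y => hboundY s w y (hmem β s hβ w (hfinβ.mem_toFinset.mp hw).2)) (f x)),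
    H3CAlg.ChiCycles.interProd_expand δX n _ _ x hfinα.toFinset hfinβ.toFinset (fun v => α v)
      (fun v => Cyc.sheafFun δX (r + e) ((Scheme.Modules.pullback f).obj (H3CAlg.PrimeMod.primeMod v)))
      (fun w => β w)
      (fun w => Cyc.sheafFun δX (s + e) ((Scheme.Modules.pullback f).obj (H3CAlg.PrimeMod.primeMod w)))
      (expX α r hα hfinα) (expX β s hβ hfinβ)
      (fun v hv => H3CAlg.ChiCycles.finite_sheafFun gX δX hδX _ (H3CAlg.ChiPull.isCoh_pullback f _ (hY0 v)) _
        (fun y => H3CAlg.ChiPull.support_bound f _ y hrel hδ r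
          (fun z => hboundY r v z (hmem α r hα v (hfinα.mem_toFinset.mp hv).2))) x)
      (fun w hw => H3CAlg.ChiCycles.finite_sheafFun gX δX hδX _ (H3CAlg.ChiPull.isCoh_pullback f _ (hY0 w)) _
        (fun y => H3CAlg.ChiPull.support_bound f _ y hrel hδ s
          (fun z => hboundY s w z (hmem β s hβ w (hfinβ.mem_toFinset.mp hw).2))) x),
    Finset.sum_mul]
  refine Finset.sum_congr rfl fun v hv => ?_
  rw [Finset.sum_mul]
  refine Finset.sum_congr rfl fun w hw => ?_
  obtain ⟨hvy, hv0⟩ := hfinα.mem_toFinset.mp hv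
  obtain ⟨hwy, hw0⟩ := hfinβ.mem_toFinset.mp hw
  have hvd := hmem α r hα v hv0
  have hwd := hmem β s hβ w hw0
  rw [mul_assoc]
  congr 1
  rw [← H3CAlg.ChiMain.chi_stalk gY δY hδY m hm _ _ (hY0 v) (hY0 w) r s (fun y => hboundY r v y hvd)
      (fun y => hboundY s w y hwd) (f x) hdy ?_,
    ← H3CAlg.ChiMain.chi_stalk gX δX hδX n hn _ _ (H3CAlg.ChiPull.isCoh_pullback f _ (hY0 v))
      (H3CAlg.ChiPull.isCoh_pullback f _ (hY0 w)) (r + e) (s + e)
      (fun y => H3CAlg.ChiPull.support_bound f _ y hrel hδ r (fun z => hboundY r v z hvd))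
      (fun y => H3CAlg.ChiPull.support_bound f _ y hrel hδ s (fun z => hboundY s w z hwd)) x (by omega) ?_,
    H3CAlg.ChiPull.chi_pullback f _ _ x (hY0 v) (hY0 w)]
  · intro z h1 h2 hzx
    have := hprop v w (f z) hv0 hw0
      ((H3CAlg.PrimeMod.nontrivial_iff v _).mp (H3CAlg.ChiPull.nontrivial_of_pullback f _ z h1))
      ((H3CAlg.PrimeMod.nontrivial_iff w _).mp (H3CAlg.ChiPull.nontrivial_of_pullback f _ z h2))
    have := hle z
    exact (H3CAlg.ChiMain.eq_of_specializes gX δX hδX hzx).2 (by omega)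
  · intro z h1 h2 hzx
    have := hprop v w z hv0 hw0 ((H3CAlg.PrimeMod.nontrivial_iff v _).mp h1) ((H3CAlg.PrimeMod.nontrivial_iff w _).mp h2)
    exact (H3CAlg.ChiMain.eq_of_specializes gY δY hδY hzx).2 (by omega)

end Groth.Agent.S6451
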