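import Groth.Statements.S6453
import Groth.Agent.H3CAlg.IntLocal
import Groth.Agent.H3CAlg.TorMult

set_option autoImplicit false
universe u
open CategoryTheory AlgebraicGeometry
attribute [local instance] HasDerivedCategory.standard
open IntMult

namespace Groth.Agent.S6453

/-- Suppose the ideal of V in O_{X,ξ} is generated by a single nonzerodivisor g (c = 1: V is an
effective Cartier divisor at ξ). Then e(X, V·W, Z) = length_{O_{X,ξ}}(O_{W,ξ}/g O_{W,ξ}), i.e. the
length of O_{X,ξ}/(I_{W,ξ} + (g)). Here X is a nonsingular variety over an algebraically closed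
field K (smooth, separated, quasi-compact, integral), V and W are closed subvarieties given by
quasi-coherent ideal sheaves with integral subschemes, of dimensions r and s with dim X = n,
intersecting properly, and ξ is the generic point of an irreducible component Z of V ∩ W (a point of
V ∩ W maximal under specialization); e(X, V·W, Z) = IntMult.mult is the alternating sum of lengths
of Tor over O_{X,ξ}, and O_{W,ξ} = O_{X,ξ}/I_{W,ξ}. -/
theorem result (K : Type u) [Field K] [IsAlgClosed K] (X : Scheme.{u}) (f : X ⟶ Spec (CommRingCat.of K)) [Smooth f] [IsSeparated f] [QuasiCompact f] [IsIntegral X] (IV IW : X.IdealSheafData) [IsIntegral IV.subscheme] [IsIntegral IW.subscheme] (n r s : ℕ) (hn : topologicalKrullDim X = n) (hr : topologicalKrullDim IV.support = r) (hs : topologicalKrullDim IW.support = s) (hprop : IntMult.ProperInt (IV.support : Set X) (IW.support : Set X) n r s) (ξ : X) (hξV : ξ ∈ IV.support) (hξW : ξ ∈ IW.support) (hmax : ∀ ξ' : X, ξ' ∈ IV.support → ξ' ∈ IW.support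 → ξ' ⤳ ξ → ξ' = ξ) (g : ↑(X.presheaf.stalk ξ)) (hg : IntMult.stalkIdeal IV ξ = Ideal.span {g}) (hreg : IsSMulRegular (↑(X.presheaf.stalk ξ)) g) : (IntMult.mult IV IW ξ : ℤ) = (Module.length (X.presheaf.stalk ξ) (↑(X.presheaf.stalk ξ) ⧸ (IntMult.stalkIdeal IW ξ ⊔ Ideal.span {g}))).toNat := by
  obtain ⟨hA, hP, hQ, hmaxA, dA, dP, dQ, hdA, hdP, hdQ, hsum⟩ :=
    Groth.Agent.H3CAlg.IntLocal.local_data f IV IW hn hr hs hprop hξV hξW hmax
  haveI := hA
  haveI := hQ
  have hgm : g ∈ IsLocalRing.maximalIdeal (X.presheaf.stalk ξ) :=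
    IsLocalRing.le_maximalIdeal hP.ne_top (hg ▸ Ideal.mem_span_singleton_self g)
  have hwr : RingTheory.Sequence.IsWeaklyRegular (X.presheaf.stalk ξ) [g] :=
    (RingTheory.Sequence.isWeaklyRegular_cons_iff _ _ _).mpr ⟨hreg, .nil _ _⟩
  have hregseq : RingTheory.Sequence.IsRegular (X.presheaf.stalk ξ) [g] := by
    refine ⟨hwr, fun h => ?_⟩
    rw [smul_eq_mul, Ideal.mul_top, Ideal.ofList_singleton] at h
    exact (IsLocalRing.maximalIdeal.isMaximal (X.presheaf.stalk ξ)).ne_top
      (top_le_iff.mp (h.le.trans ((Ideal.span_singleton_le_iff_mem _).mpr hgm)))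
  have h1 := ringKrullDim_add_length_eq_ringKrullDim_of_isRegular _ hregseq
  rw [Ideal.ofList_singleton, ← hg, hdP, hdA, List.length_singleton] at h1
  have h1' : dP + 1 = dA := by exact_mod_cast h1
  have hgQ : g ∉ IntMult.stalkIdeal IW ξ := fun hmem => by
    have hQm : IntMult.stalkIdeal IW ξ = IsLocalRing.maximalIdeal (X.presheaf.stalk ξ) :=
      hmaxA ⟨_, hQ⟩ (sup_le (hg ▸ (Ideal.span_singleton_le_iff_mem _).mpr hmem) le_rfl)
    rw [ringKrullDim_eq_of_ringEquiv (Ideal.quotEquivOfEq hQm)] at hdQ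
    have h0 : ringKrullDim (IsLocalRing.ResidueField (X.presheaf.stalk ξ)) = 0 := ringKrullDim_eq_zero_of_field _
    have : (dQ : WithBot ℕ∞) = 0 := hdQ.symm.trans h0
    have : dQ = 0 := by exact_mod_cast this
    omega
  have hwq : RingTheory.Sequence.IsWeaklyRegular (↑(X.presheaf.stalk ξ) ⧸ IntMult.stalkIdeal IW ξ) [g] := by
    refine (RingTheory.Sequence.isWeaklyRegular_cons_iff _ _ _).mpr ⟨fun a b hab => ?_, .nil _ _⟩
    obtain ⟨a, rfl⟩ := Submodule.Quotient.mk_surjective _ a
    obtain ⟨b, rfl⟩ := Submodule.Quotient.mk_surjective _ b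
    rw [Submodule.Quotient.eq]
    simp only [← Submodule.Quotient.mk_smul, Submodule.Quotient.eq, smul_eq_mul, ← mul_sub] at hab
    exact (hQ.mem_or_mem hab).resolve_left hgQ
  rw [IntMult.mult, hg, ← Ideal.ofList_singleton g, Groth.Agent.H3CAlg.TorMult.chi_flip,
    Groth.Agent.H3CAlg.TorKoszul.chi_eq_chi _ (Groth.Agent.S15821.result _ _ hwr).1,
    Groth.Agent.H3CAlg.TorMult.chi_eq_length_of_regular _ _ hwq, Groth.Agent.H3CAlg.TorMult.length_quot_smul]

end Groth.Agent.S6453
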