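import Groth.Statements.S6455
import Groth.Agent.H3Cyc.C1Api
-- import your own Groth.Agent.* helpers here

set_option autoImplicit false
universe u
open CategoryTheory AlgebraicGeometry
open Cyc

namespace Groth.Agent.S6455

/-- c_1(O_X) ∩ α = 0 in CH_k(X) for every (k + 1)-cycle α: computed with any nonzero rational sections
of the structure sheaf, the k-cycle c_1(O_X) ∩ α is rationally equivalent to zero. Here L(ξ) =
L_ξ/𝔪_ξ L_ξ is the space of rational sections of L on the closure of ξ, div_{L|W}(s) and c_1(L) ∩ α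
are computed as coefficient functions from chosen nonzero rational sections (Cyc.secDivFun,
Cyc.c1CapFun), and results are compared up to rational equivalence for any cycles with those
coefficients. A pair (X, δ) with Cyc.IsSetup plays the role of a scheme locally of finite type over
the base (S, δ) (X locally Noetherian with universally catenary local rings, δ a dimension
function). -/
theorem result (X : Scheme.{u}) (δ : X → ℤ) (hX : Cyc.IsSetup X δ) (k : ℤ) (α : AlgebraicCycle X ℤ) (hα : α ∈ Cyc.Zk X δ (k + 1)) (s : (ξ : X) → Cyc.secFibre (Coh.structureModule X) ξ) (hs : ∀ ξ, s ξ ≠ 0) (γ : AlgebraicCycle X ℤ) (hγ : ⇑γ = Cyc.c1CapFun δ (Coh.structureModule X) ⇑α s) : Cyc.RatEquivZero δ k γ := by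
  haveI := hX.1
  have hL : PicF.IsInvertible (Coh.structureModule X) :=
    Groth.Agent.H11Ample.isInvertible_of_gen fun x => ⟨⊤, Groth.Agent.H11Ample.one ⊤, trivial, Groth.Agent.H11Ample.isGen_one ⊤⟩
  let s0 : (ξ : X) → Cyc.secFibre (Coh.structureModule X) ξ := fun ξ =>
    Groth.Agent.H3Cyc.C1Api.fib (Coh.structureModule X) ξ (V := ⊤) trivial (Groth.Agent.H11Ample.one ⊤)
  have hs0 : ∀ ξ, s0 ξ ≠ 0 := fun ξ => by
    have h := (Groth.Agent.H3Cyc.C1Api.residue_ne_zero_iff (L := Coh.structureModule X)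
      (Groth.Agent.H11Ample.isGen_one (X := X) ⊤) (z := ξ) trivial 1).mpr (by rw [map_one]; exact one_ne_zero)
    rwa [one_smul] at h
  have hzero : ⇑(0 : AlgebraicCycle X ℤ) = Cyc.c1CapFun δ (Coh.structureModule X) ⇑α s0 := by
    funext x
    show (0 : ℤ) = ∑ᶠ ξ, α ξ * Cyc.secDivFun δ _ ξ (s0 ξ) x
    refine ((finsum_congr fun ξ => ?_).trans finsum_zero).symm
    have h := Groth.Agent.H3Cyc.C1Api.secDivFun_gen (L := Coh.structureModule X)
      (Groth.Agent.H11Ample.isGen_one (X := X) ⊤) δ (ξ := ξ) trivial 1 (by rw [map_one]; exact one_ne_zero) (x := x) trivial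
    rw [one_smul] at h
    rw [show Cyc.secDivFun δ _ ξ (s0 ξ) x = _ from h, map_one, Cyc.divFun]
    split_ifs with hh
    · rw [Groth.Agent.H3Cyc.C1Api.ordAt_one, mul_zero]
    · rw [mul_zero]
  have h := Groth.Agent.H3Cyc.C1Api.c1Cap_ratEquiv hL k α hα s0 s hs0 hs 0 γ hzero hγ
  rwa [Cyc.RatEquiv, sub_zero] at h

end Groth.Agent.S6455
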