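import Groth.Statements.S6458
import Mathlib

set_option autoImplicit false
universe u
open CategoryTheory AlgebraicGeometry
open Cyc

namespace Groth.Agent.S6458

/-- Let X be integral with generic point η and ξ the generic point of an irreducible component of an
effective Cartier divisor on X; locally: g ∈ 𝔪_ξ ⊂ O_{X,ξ} is nonzero and O_{X,ξ}/(g) is
zero-dimensional. Then dim_δ of the closure of ξ is dim_δ(X) − 1, i.e. δ(ξ) = δ(η) − 1. Here a pair
(X, δ) with Cyc.IsSetup plays the role of a scheme locally of finite type over the base (S, δ) (X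
locally Noetherian with universally catenary local rings, δ a dimension function). -/
theorem result (X : Scheme.{u}) [IsIntegral X] (δ : X → ℤ) (hX : Cyc.IsSetup X δ) (ξ : X) (g : ↑(X.presheaf.stalk ξ)) (hg0 : g ≠ 0) (hgm : g ∈ IsLocalRing.maximalIdeal (X.presheaf.stalk ξ)) (hdim : ringKrullDim (↑(X.presheaf.stalk ξ) ⧸ Ideal.span {g}) = 0) : δ ξ = δ (genericPoint X) - 1 := by
  haveI := hX.1
  haveI : Ring.KrullDimLE 0 ((X.presheaf.stalk ξ) ⧸ Ideal.span {g}) := (Ring.krullDimLE_iff (n := 0)).mpr hdim.le
  have hI : ∀ P : Ideal (X.presheaf.stalk ξ), P.IsPrime → g ∈ P → P = IsLocalRing.maximalIdeal (X.presheaf.stalk ξ) := fun P hP hgP => by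
    have hle : Ideal.span {g} ≤ P := (Ideal.span_singleton_le_iff_mem _).mpr hgP
    haveI : (P.map (Ideal.Quotient.mk (Ideal.span {g}))).IsPrime :=
      Ideal.map_isPrime_of_surjective Ideal.Quotient.mk_surjective (by rwa [Ideal.mk_ker])
    have hm : (P.map (Ideal.Quotient.mk (Ideal.span {g}))).IsMaximal := Ring.krullDimLE_zero_iff.mp inferInstance _ this
    have := Ideal.comap_isMaximal_of_surjective (Ideal.Quotient.mk (Ideal.span {g})) Ideal.Quotient.mk_surjective (K := P.map (Ideal.Quotient.mk (Ideal.span {g}))) (H := hm)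
    rw [Ideal.comap_map_of_surjective _ Ideal.Quotient.mk_surjective, ← RingHom.ker_eq_comap_bot, Ideal.mk_ker,
      sup_eq_left.mpr hle] at this
    exact IsLocalRing.eq_maximalIdeal this
  have hh : ∀ P : Ideal (X.presheaf.stalk ξ), P.IsPrime → P = ⊥ ∨ P = IsLocalRing.maximalIdeal (X.presheaf.stalk ξ) := fun P hP => by
    by_contra h
    push Not at h
    have hmin : IsLocalRing.maximalIdeal (X.presheaf.stalk ξ) ∈ (Ideal.span {g}).minimalPrimes :=
      ⟨⟨inferInstance, (Ideal.span_singleton_le_iff_mem _).mpr hgm⟩, fun Q hQ _ =>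
        (hI Q hQ.1 (hQ.2 (Ideal.mem_span_singleton_self g))).ge⟩
    have h1 : (IsLocalRing.maximalIdeal (X.presheaf.stalk ξ)).height ≤ 1 := Ideal.height_le_one_of_isPrincipal_of_mem_minimalPrimes (Ideal.span {g}) _ hmin
    have h2 : P.height < (IsLocalRing.maximalIdeal (X.presheaf.stalk ξ)).height :=
      Ideal.height_strict_mono_of_isPrime ((IsLocalRing.le_maximalIdeal hP.ne_top).lt_of_ne h.2)
    have h3 : (⊥ : Ideal (X.presheaf.stalk ξ)).height < P.height := Ideal.height_strict_mono_of_isPrime (bot_lt_iff_ne_bot.mpr h.1)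
    have h4 := ENat.add_one_le_iff (ne_top_of_lt h3) |>.mpr h3
    have h5 := h2.trans_le h1
    rw [ENat.lt_one_iff_eq_zero] at h5
    rw [h5] at h4
    exact absurd h4 (by simp)
  have hne : genericPoint X ≠ ξ := by
    intro e
    subst e
    haveI : IsField (X.presheaf.stalk (genericPoint X)) := Field.toIsField (X.functionField)
    exact hg0 (by simpa [IsLocalRing.isField_iff_maximalIdeal_eq.mp this] using hgm)
  have key := (hX.2.2 (genericPoint X) ξ (genericPoint_specializes ξ) hne).2 fun z _ hz => by
    obtain ⟨P, rfl⟩ : z ∈ Set.range (X.fromSpecStalk ξ) := by rw [Scheme.range_fromSpecStalk]; exact hz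
    rcases hh P.asIdeal P.2 with hP | hP
    · left
      have h1 : genericPoint X ∈ Set.range (X.fromSpecStalk ξ) := by
        rw [Scheme.range_fromSpecStalk]; exact genericPoint_specializes ξ
      obtain ⟨Q, hQ⟩ := h1
      refine ((genericPoint_specializes _).antisymm ?_).eq.symm
      rw [← hQ]
      refine ((PrimeSpectrum.le_iff_specializes P Q).mp ?_).map (X.fromSpecStalk ξ).continuous
      show P.asIdeal ≤ Q.asIdeal
      rw [hP]; exact bot_le
    · right
      have : P = IsLocalRing.closedPoint (X.presheaf.stalk ξ) := PrimeSpectrum.ext hP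
      rw [this]; exact Scheme.fromSpecStalk_closedPoint
  omega

end Groth.Agent.S6458
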