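import Groth.Statements.S6460
import Mathlib
import Groth.Agent.H8Props.Generic

set_option autoImplicit false
universe u
open CategoryTheory AlgebraicGeometry
open Cyc

namespace Groth.Agent.S6460

/-- (3) ⇒ (1): suppose that for every x ∈ X there is an integer n_x with δ(ξ) = n_x for every generic
point ξ of an irreducible component of X containing x. Then X decomposes into open and closed
subschemes X_n (n ∈ ℤ) such that every irreducible component of X_n has δ-dimension n; stated as the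
existence of a locally constant c : X → ℤ with δ(ξ) = c(ξ) for every point ξ that is maximal under
specialization. (The converse implications are immediate and not stated.) Here a pair (X, δ) with
Cyc.IsSetup plays the role of a scheme locally of finite type over the base (S, δ) (X locally
Noetherian with universally catenary local rings, δ a dimension function). -/
theorem result (X : Scheme.{u}) (δ : X → ℤ) (hX : Cyc.IsSetup X δ) (h3 : ∀ x : X, ∃ n : ℤ, ∀ ξ : X, (∀ ξ' : X, ξ' ⤳ ξ → ξ' = ξ) → ξ ⤳ x → δ ξ = n) : ∃ c : X → ℤ, IsLocallyConstant c ∧ ∀ ξ : X, (∀ ξ' : X, ξ' ⤳ ξ → ξ' = ξ) → δ ξ = c ξ := by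
  haveI := hX.1
  choose c hc using h3
  refine ⟨c, (IsLocallyConstant.iff_exists_open _).mpr fun x => ?_, fun ξ hξ => hc ξ ξ hξ specializes_rfl⟩
  obtain ⟨U, hU, hxU, -⟩ := exists_isAffineOpen_mem_and_subset (X := X) (x := x) (U := ⊤) trivial
  haveI : IsNoetherianRing Γ(X, U) := IsLocallyNoetherian.component_noetherian ⟨U, hU⟩
  let T : Set X := {ξ | ξ ∈ U ∧ (∀ ξ' : X, ξ' ⤳ ξ → ξ' = ξ) ∧ ¬ ξ ⤳ x}
  have hT : T.Finite := by
    refine ((minimalPrimes.finite_of_isNoetherianRing Γ(X, U)).preimage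
      (fun p _ q _ h => PrimeSpectrum.ext h) |>.image hU.fromSpec).subset ?_
    rintro ξ ⟨hξU, hξ, -⟩
    refine ⟨hU.primeIdealOf ⟨ξ, hξU⟩, ?_, hU.fromSpec_primeIdealOf _⟩
    refine ⟨⟨(hU.primeIdealOf ⟨ξ, hξU⟩).2, bot_le⟩, fun Q hQ hle => ?_⟩
    have h1 := ((PrimeSpectrum.le_iff_specializes (⟨Q, hQ.1⟩ : PrimeSpectrum Γ(X, U)) _).mp hle).map hU.fromSpec.continuous
    rw [hU.fromSpec_primeIdealOf] at h1
    exact (congrArg PrimeSpectrum.asIdeal (hU.fromSpec.isOpenEmbedding.injective ((hξ _ h1).trans (hU.fromSpec_primeIdealOf ⟨ξ, hξU⟩).symm))).ge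
  have hC : IsClosed (⋃ ξ ∈ T, closure ({ξ} : Set X)) := hT.isClosed_biUnion fun _ _ => isClosed_closure
  refine ⟨(U : Set X) \ ⋃ ξ ∈ T, closure ({ξ} : Set X), U.isOpen.sdiff hC, ⟨hxU, ?_⟩, ?_⟩
  · simp only [Set.mem_iUnion, exists_prop, not_exists, not_and]
    exact fun ξ hξ hx => hξ.2.2 (specializes_iff_mem_closure.mpr hx)
  · rintro y ⟨hyU, hy⟩
    obtain ⟨η, hη, hηy⟩ := Groth.Agent.H8Props.exists_genericPoints_specializes y
    rw [Groth.Agent.H8Props.mem_genericPoints_iff] at hη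
    have hηx : η ⤳ x := by
      by_contra hne
      exact hy (Set.mem_biUnion ⟨hηy.mem_open U.isOpen hyU, hη, hne⟩ hηy.mem_closure)
    exact (hc y η hη hηy).symm.trans (hc x η hη hηx)

end Groth.Agent.S6460
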