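import Groth.Statements.S6461
import Mathlib
import Groth.Agent.H22Alg.DeltaDim
import Groth.Agent.H22Alg.CycDiv
import Groth.Agent.H22Alg.FibreDimBound

set_option autoImplicit false
universe u
open CategoryTheory AlgebraicGeometry
open Cyc

namespace Groth.Agent.S6461

/-- If all local rings of X are Cohen–Macaulay then every x ∈ X has an open neighbourhood U and an
integer n with δ(ξ) = n for every generic point ξ of an irreducible component of U (every point of U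
maximal under specialization). Here a pair (X, δ) with Cyc.IsSetup plays the role of a scheme
locally of finite type over the base (S, δ) (X locally Noetherian with universally catenary local
rings, δ a dimension function). -/
theorem result (X : Scheme.{u}) (δ : X → ℤ) (hX : Cyc.IsSetup X δ) (hCM : ∀ x : X, LocCoh.IsCohenMacaulayLocalRing ↑(X.presheaf.stalk x)) (x : X) : ∃ (U : X.Opens) (n : ℤ), x ∈ U ∧ ∀ ξ : X, ξ ∈ U → (∀ ξ' : X, ξ' ⤳ ξ → ξ' = ξ) → δ ξ = n := by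
  obtain ⟨hN, -, hδ⟩ := hX
  haveI := hN
  obtain ⟨W, hW, hxW, -⟩ := exists_isAffineOpen_mem_and_subset (x := x) (U := (⊤ : X.Opens)) trivial
  haveI : TopologicalSpace.NoetherianSpace ↥W := Groth.Agent.H22Alg.CycDiv.noetherianSpace_affine hW
  have hfin : {ξ : X | ξ ∈ W ∧ (∀ ξ' : X, ξ' ⤳ ξ → ξ' = ξ) ∧ ¬ ξ ⤳ x}.Finite := by
    have hf : (genericPoints ↥W).Finite := genericPoints.finite TopologicalSpace.NoetherianSpace.finite_irreducibleComponents
    refine (hf.image Subtype.val).subset ?_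
    rintro ξ ⟨hξW, hmax, -⟩
    refine ⟨⟨ξ, hξW⟩, ?_, rfl⟩
    have hmax' : ∀ ζ : (W : Scheme.{u}), ζ ⤳ ⟨ξ, hξW⟩ → ζ = ⟨ξ, hξW⟩ := fun ζ hζ =>
      Subtype.ext (hmax _ (hζ.map continuous_subtype_val))
    exact Groth.Agent.H22Alg.closure_mem_irreducibleComponents_of_max hmax'
  obtain ⟨d, hd⟩ : ∃ d : ℕ, ringKrullDim (X.presheaf.stalk x) = d := by
    haveI := hCM x
    obtain ⟨d, hd⟩ := Groth.Agent.H4Depth.exists_nat_supportDim_eq (R := X.presheaf.stalk x) (M := X.presheaf.stalk x)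
    exact ⟨d, by rw [← Module.supportDim_self_eq_ringKrullDim]; exact hd⟩
  refine ⟨W ⊓ ⟨(⋃ ξ ∈ {ξ : X | ξ ∈ W ∧ (∀ ξ' : X, ξ' ⤳ ξ → ξ' = ξ) ∧ ¬ ξ ⤳ x}, closure ({ξ} : Set X))ᶜ,
    (hfin.isClosed_biUnion fun _ _ => isClosed_closure).isOpen_compl⟩, δ x + d, ⟨hxW, ?_⟩, ?_⟩
  · intro hx
    obtain ⟨ξ, hξ, hmem⟩ := Set.mem_iUnion₂.mp hx
    exact hξ.2.2 (specializes_iff_mem_closure.mpr hmem)
  rintro ξ ⟨hξW, hξU⟩ hmax
  have hξx : ξ ⤳ x := by
    by_contra h
    exact hξU (Set.mem_iUnion₂.mpr ⟨ξ, ⟨hξW, hmax, h⟩, subset_closure rfl⟩)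
  have h := Groth.Agent.H22Alg.DeltaDim.ringKrullDim_stalk_eq hδ hξx (hCM x)
  have h0 : ringKrullDim (X.presheaf.stalk ξ) = 0 := by
    rw [AlgebraicGeometry.ringKrullDim_stalk_eq_coheight, WithBot.coe_eq_zero, Order.coheight_eq_zero]
    intro z hz
    rw [hmax z hz]
  rw [h0, add_zero, hd] at h
  have e : d = (δ ξ - δ x).toNat := by exact_mod_cast h
  have := Groth.Agent.H22Alg.DeltaDim.delta_le hδ hξx
  omega

end Groth.Agent.S6461
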