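import Groth.Statements.S6471
import Groth.Agent.S6470
import Groth.Agent.H3CAlg.ChiPull
-- import your own Groth.Agent.* helpers here

set_option autoImplicit false
universe u
open CategoryTheory CategoryTheory.Limits AlgebraicGeometry
attribute [local instance] HasDerivedCategory.standard
open IntMult

namespace Groth.Agent.S6471

/-- For a flat morphism f : X → Y between nonsingular varieties, with e = dim X − dim Y (every fibre
component has dimension e), and coherent O_Y-modules F, G whose supports have dimension at most r
and s and meet in dimension at most r + s − dim Y, the cycles of the pulled-back modules,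
[f^*F]_{r+e} and [f^*G]_{s+e}, meet properly, and pulling back the product [F]_r · [G]_s along f
gives their product: f^*([F]_r · [G]_s) = [f^*F]_{r+e} · [f^*G]_{s+e}, coefficientwise (f^* on
cycles is Cyc.pullFun with relative dimension e, f^* on modules is Mathlib's
Scheme.Modules.pullback). Here X is a nonsingular variety over the algebraically closed field K
(smooth, separated, quasi-compact, integral) with dimension function δ (transcendence degree over K,
recorded by Cyc.DeltaCompat to Spec K with value 0, together with Cyc.IsSetup) and n = dim X = δ of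
the generic point; cycles are coefficient functions X → ℤ, proper intersection is
IntMult.IntersectProperly and α · β is the Tor-formula intersection product on coefficient functions
(IntMult.interProd). The same holds for Y with δY and m = dim Y. -/
theorem result (K : Type u) [Field K] [IsAlgClosed K] (X Y : Scheme.{u}) (f : X ⟶ Y) (gX : X ⟶ Spec (CommRingCat.of K)) (gY : Y ⟶ Spec (CommRingCat.of K)) (hf : f ≫ gY = gX) [Smooth gX] [IsSeparated gX] [QuasiCompact gX] [IsIntegral X] [Smooth gY] [IsSeparated gY] [QuasiCompact gY] [IsIntegral Y] [Flat f] (δX : X → ℤ) (δY : Y → ℤ) (hX : Cyc.IsSetup X δX) (hY : Cyc.IsSetup Y δY) (hδX : Cyc.DeltaCompat gX δX (fun _ => 0)) (hδY : Cyc.DeltaCompat gY δY (fun _ => 0)) (hδ : Cyc.DeltaCompat f δX δY) (n m : ℤ) (hn : δX (genericPoint X) = n) (hm : δY (genericPoint Y) = m) (e : ℕ) (he : (e : ℤ) = n - m) (hrel : Cyc.HasRelDim f e) (F G : Y.Modules) (hF : Coh.IsCoh F) (hG : Coh.IsCoh G) (r s : ℤ) (hr : ∀ y : Y, Nontrivial (F.presheaf.stalk y) → δY y ≤ r) (hs : ∀ y : Y, Nontrivial (G.presheaf.stalk y) → δY y ≤ s) (hrs :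 ∀ y : Y, Nontrivial (F.presheaf.stalk y) → Nontrivial (G.presheaf.stalk y) → δY y ≤ r + s - m) : IntMult.IntersectProperly δX n (Cyc.sheafFun δX (r + e) ((Scheme.Modules.pullback f).obj F)) (Cyc.sheafFun δX (s + e) ((Scheme.Modules.pullback f).obj G)) ∧ Cyc.pullFun f δX δY e (IntMult.interProd δY m (Cyc.sheafFun δY r F) (Cyc.sheafFun δY s G)) = IntMult.interProd δX n (Cyc.sheafFun δX (r + e) ((Scheme.Modules.pullback f).obj F)) (Cyc.sheafFun δX (s + e) ((Scheme.Modules.pullback f).obj G)) := by
  haveI : IsLocallyNoetherian X := LocallyOfFiniteType.isLocallyNoetherian gX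
  haveI : IsLocallyNoetherian Y := LocallyOfFiniteType.isLocallyNoetherian gY
  haveI : LocallyOfFiniteType (f ≫ gY) := by rw [hf]; infer_instance
  haveI : LocallyOfFiniteType f := locallyOfFiniteType_of_comp f gY
  have hF' := H3CAlg.ChiPull.isCoh_pullback f F hF
  have hG' := H3CAlg.ChiPull.isCoh_pullback f G hG
  have hle := fun x => H22Alg.CycBasic.delta_le_of_hasRelDim f hrel hδ x
  have hrs' : ∀ x : X, Nontrivial (((Scheme.Modules.pullback f).obj F).presheaf.stalk x) →
      Nontrivial (((Scheme.Modules.pullback f).obj G).presheaf.stalk x) → δX x ≤ (r + e) + (s + e) - n := by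
    intro x h1 h2
    have := hrs _ (H3CAlg.ChiPull.nontrivial_of_pullback f F x h1) (H3CAlg.ChiPull.nontrivial_of_pullback f G x h2)
    have := hle x
    omega
  obtain ⟨hprop, hformula⟩ := S6470.result K X gX δX hX hδX n hn _ _ hF' hG' (r + e) (s + e)
    (fun x h => H3CAlg.ChiPull.support_bound f F x hrel hδ r hr h)
    (fun x h => H3CAlg.ChiPull.support_bound f G x hrel hδ s hs h) hrs'
  obtain ⟨-, hformulaY⟩ := S6470.result K Y gY δY hY hδY m hm F G hF hG r s hr hs hrs
  refine ⟨hprop, funext fun x => ?_⟩
  rw [hformula, Cyc.pullFun]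
  by_cases hx : δX x = δY (f x) + e
  · rw [if_pos hx, hformulaY]
    by_cases hy : δY (f x) = r + s - m
    · rw [if_pos hy, if_pos (by omega), H3CAlg.ChiPull.chi_pullback f F G x hF hG]
    · rw [if_neg hy, if_neg (by omega), zero_mul]
  · rw [if_neg hx]
    by_cases hy : δX x = (r + e) + (s + e) - n
    · rw [if_pos hy]
      by_cases h1 : Nontrivial (((Scheme.Modules.pullback f).obj F).presheaf.stalk x) ∧
          Nontrivial (((Scheme.Modules.pullback f).obj G).presheaf.stalk x)
      · have := hrs _ (H3CAlg.ChiPull.nontrivial_of_pullback f F x h1.1)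
          (H3CAlg.ChiPull.nontrivial_of_pullback f G x h1.2)
        have := hle x
        omega
      · haveI := H3CAlg.ChiStalk.finite_stalk _ hF' x
        haveI := H3CAlg.ChiStalk.finite_stalk _ hG' x
        rw [not_and_or, not_nontrivial_iff_subsingleton, not_nontrivial_iff_subsingleton] at h1
        rcases h1 with h | h
        · exact (H3CAlg.ChiMain.chi_eq_zero_of_subsingleton _ _).symm
        · rw [H3CAlg.TorComm.chi_comm]
          exact (H3CAlg.ChiMain.chi_eq_zero_of_subsingleton _ _).symm
    · rw [if_neg hy]

end Groth.Agent.S6471
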