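import Groth.Statements.S6473
import Groth.Agent.H3CAlg.IntLocal
import Mathlib
-- import your own Groth.Agent.* helpers here

set_option autoImplicit false
universe u
open CategoryTheory CategoryTheory.Limits AlgebraicGeometry
open IntMult

namespace Groth.Agent.S6473

/-- Let f : X → Y be a morphism of varieties over K which is a regular immersion of codimension c, and Z
⊂ Y a closed subvariety of dimension d. Then each irreducible component T of f⁻¹(Z) = X ×_Y Z
satisfies dim T ≥ d − c; stated as d ≤ dim T + c. Varieties: integral, separated, of finite type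
over the algebraically closed field K. (The published statement takes f to be a closed immersion,
regular immersions being closed there; this row allows any immersion cut out, locally on Y where it
is closed, by a regular sequence of length c, the bound being local on Y. The published statement
also has a second part, for local complete intersection morphisms of a given relative dimension,
which this row does not state.) -/
theorem result (K : Type u) [Field K] [IsAlgClosed K] (X Y Z : Scheme.{u}) (gX : X ⟶ Spec (CommRingCat.of K)) (gY : Y ⟶ Spec (CommRingCat.of K)) [IsSeparated gX] [LocallyOfFiniteType gX] [QuasiCompact gX] [IsIntegral X] [IsSeparated gY] [LocallyOfFiniteType gY] [QuasiCompact gY] [IsIntegral Y] (f : X ⟶ Y) (hf : f ≫ gY = gX) (c : ℕ) (hreg : RegImm.IsRegularImmersionOfCodim RegImm.Kind.regular c f) (ι : Z ⟶ Y) [IsClosedImmersion ι] [IsIntegral Z] (d : ℕ) (hd : topologicalKrullDim Z = d) (T : Set ↥(pullback f ι)) (hT : T ∈ irreducibleComponents ↥(pullback f ι)) : ((d : ℕ) : WithBot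 ℕ∞) ≤ topologicalKrullDim ↥T + c := by
  haveI : QuasiCompact (f ≫ gY) := hf ▸ inferInstance
  haveI : QuasiCompact f := QuasiCompact.of_comp f gY
  haveI : IsImmersion f := hreg.1
  haveI : IsImmersion (pullback.snd f ι) := inferInstance
  let j := pullback.snd f ι
  let gZ := ι ≫ gY
  let gP := j ≫ gZ
  haveI : LocallyOfFiniteType gZ := inferInstance
  haveI : LocallyOfFiniteType gP := inferInstance
  haveI : IsLocallyNoetherian Z := LocallyOfFiniteType.isLocallyNoetherian gZ
  obtain ⟨t, ht⟩ := QuasiSober.sober hT.1 (isClosed_of_mem_irreducibleComponents T hT)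
  have hmaxt : ∀ t' : ↥(pullback f ι), t' ⤳ t → t' = t := by
    intro t' h
    have h1 : T ⊆ closure {t'} := ht.def ▸ specializes_iff_closure_subset.mp h
    have h2 : closure {t'} ⊆ T := hT.2 isIrreducible_singleton.closure h1
    exact (h.antisymm (ht.specializes (h2 (subset_closure (Set.mem_singleton _))))).eq
  have hTd : topologicalKrullDim ↥T = Groth.Agent.H8Props.FieldDim.cdim t := by
    rw [Groth.Agent.H8Props.FieldDim.cdim, ht.def]
  have hcd : Groth.Agent.H8Props.FieldDim.cdim (j t) = Groth.Agent.H8Props.FieldDim.cdim t := by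
    let e := (pullback f ι).fromSpecResidueField t
    let φ := Spec.preimage (e ≫ gP)
    letI := φ.hom.toAlgebra
    obtain ⟨a, ha, ha'⟩ := Groth.Agent.H8Props.FieldDim.exists_trdeg gP (L := (pullback f ι).residueField t) e
      (Spec.map_preimage _).symm (IsLocalRing.closedPoint _)
    obtain ⟨b, hb, hb'⟩ := Groth.Agent.H8Props.FieldDim.exists_trdeg gZ (L := (pullback f ι).residueField t) (e ≫ j)
      (by rw [Category.assoc]; exact (Spec.map_preimage _).symm) (IsLocalRing.closedPoint _)
    have hab : a = b := by exact_mod_cast ha'.symm.trans hb'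
    erw [Scheme.fromSpecResidueField_apply] at ha
    erw [Scheme.Hom.comp_apply] at hb
    erw [Scheme.fromSpecResidueField_apply] at hb
    rw [ha, hb, hab]
  obtain ⟨U, hxU, hcl, rs, hlen, -, hker⟩ := hreg.2 (pullback.fst f ι t)
  have hcond : f (pullback.fst f ι t) = ι (j t) := by
    rw [← Scheme.Hom.comp_apply, ← Scheme.Hom.comp_apply, pullback.condition]
  have hW : IsAffineOpen (ι ⁻¹ᵁ U.1) := U.2.preimage ι
  have hzW : j t ∈ ι ⁻¹ᵁ U.1 := by
    have h := hxU
    rw [hcond] at h
    exact h
  have hfr : ∀ y ∈ U.1, y ∈ Set.range f ↔ y ∈ Y.zeroLocus (U := U.1) ({a | a ∈ rs} : Set Γ(Y, U.1)) := by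
    intro y hy
    rw [← Y.zeroLocus_span (U := U.1) ({a | a ∈ rs} : Set Γ(Y, U.1))]
    show _ ↔ y ∈ Y.zeroLocus (U := U.1) (Ideal.ofList rs : Set Γ(Y, U.1))
    rw [← hker, ← Scheme.Hom.ker_apply f U,
      ← Scheme.IdealSheafData.mem_support_iff_of_mem (U := U) hy]
    constructor
    · exact fun h => f.range_subset_ker_support h
    · intro h
      have h' : y ∈ closure (Set.range f) := by
        rw [← SetLike.mem_coe, Scheme.Hom.support_ker] at h
        exact h
      haveI := hcl
      have hc := (f ∣_ U.1).isClosedEmbedding.isClosed_range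
      obtain ⟨w, hw⟩ : (⟨y, hy⟩ : U.1) ∈ Set.range (f ∣_ U.1) := by
        refine hc.closure_subset ((closure_mono ?_) ((U.1.isOpenEmbedding'.isOpenMap.preimage_closure_eq_closure_preimage
          U.1.isOpenEmbedding'.continuous _).subset (show (⟨y, hy⟩ : U.1) ∈ Subtype.val ⁻¹' closure (Set.range f) from h')))
        rintro ⟨v, hv⟩ ⟨x, hx⟩
        refine ⟨⟨x, show f x ∈ U.1 from hx ▸ hv⟩, Subtype.ext ?_⟩
        exact (morphismRestrict_base_coe f U.1 ⟨x, show f x ∈ U.1 from hx ▸ hv⟩).trans hx
      refine ⟨w.1, ?_⟩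
      have h2 := congrArg Subtype.val hw
      rwa [morphismRestrict_base_coe] at h2
  let S : Set Γ(Z, ι ⁻¹ᵁ U.1) := (ι.app U.1).hom '' ({a | a ∈ rs} : Set Γ(Y, U.1))
  have hrange : ∀ z ∈ ι ⁻¹ᵁ U.1, z ∈ Set.range j ↔ z ∈ Z.zeroLocus S := by
    intro z hz
    rw [Scheme.Pullback.range_snd, Set.mem_preimage, hfr _ hz, ← Set.mem_preimage, Scheme.preimage_zeroLocus]
  let p := hW.primeIdealOf ⟨j t, hzW⟩
  have hspec : hW.fromSpec p = j t := hW.fromSpec_primeIdealOf _
  have hiff : ∀ q : PrimeSpectrum Γ(Z, ι ⁻¹ᵁ U.1), hW.fromSpec q ∈ Set.range j ↔ S ⊆ q.asIdeal := by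
    intro q
    have hq : hW.fromSpec q ∈ ι ⁻¹ᵁ U.1 := by
      have h : hW.fromSpec q ∈ Set.range hW.fromSpec := ⟨q, rfl⟩
      rw [hW.range_fromSpec] at h
      exact h
    rw [hrange _ hq]
    show q ∈ hW.fromSpec ⁻¹' Z.zeroLocus S ↔ _
    rw [hW.fromSpec_preimage_zeroLocus]
    rfl
  have hp : p.asIdeal ∈ (Ideal.span S).minimalPrimes := by
    refine ⟨⟨p.2, Ideal.span_le.mpr ((hiff p).mp ⟨t, hspec.symm⟩)⟩, fun q hq hqp => ?_⟩
    obtain ⟨t', ht'⟩ := (hiff ⟨q, hq.1⟩).mpr (Ideal.span_le.mp hq.2)
    have hs : hW.fromSpec ⟨q, hq.1⟩ ⤳ hW.fromSpec p :=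
      ((PrimeSpectrum.le_iff_specializes ⟨q, hq.1⟩ p).mp hqp).map hW.fromSpec.continuous
    rw [← ht', hspec] at hs
    have := hmaxt t' ((Scheme.Hom.isEmbedding j).isInducing.specializes_iff.mp hs)
    subst this
    have hqp' := hW.fromSpec.isOpenEmbedding.injective (ht'.symm.trans hspec.symm)
    exact le_of_eq (congrArg PrimeSpectrum.asIdeal hqp'.symm)
  haveI : IsNoetherianRing Γ(Z, ι ⁻¹ᵁ U.1) := IsLocallyNoetherian.component_noetherian ⟨_, hW⟩
  have hh : p.asIdeal.height ≤ (c : ℕ∞) := by
    classical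
    refine le_trans (Ideal.height_le_card_of_mem_minimalPrimes_span
      ((List.finite_toSet rs).image _) hp) ?_
    rw [← hlen]
    refine Nat.cast_le.mpr ((Set.ncard_image_le (List.finite_toSet rs)).trans ?_)
    rw [← List.coe_toFinset rs, Set.ncard_coe_finset]
    exact List.toFinset_card_le rs
  obtain ⟨a, ha⟩ := Groth.Agent.H8Props.FieldDim.exists_nat_cdim gZ (j t)
  obtain ⟨e, he, hea⟩ := Groth.Agent.H3CAlg.IntLocal.ringKrullDim_stalk gZ hd (j t) ha
  have hst : ringKrullDim (Z.presheaf.stalk (j t)) = (p.asIdeal.height : WithBot ℕ∞) := by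
    rw [← hspec]
    exact Groth.Agent.H8Props.FieldDim.ringKrullDim_stalk_chart hW.fromSpec p
  rw [he] at hst
  have hec : e ≤ c := by
    have h1 : (e : ℕ∞) = p.asIdeal.height := WithBot.coe_injective (by rw [← hst]; rfl)
    exact_mod_cast h1.le.trans hh
  rw [hTd, ← hcd, ha]
  exact_mod_cast (by omega : d ≤ a + c)


end Groth.Agent.S6473
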