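import Groth.Statements.S6474
import Groth.Agent.H3Cyc.VBComp
import Groth.Agent.H3Cyc.OpenSupp
import Groth.Agent.H3Cyc.SplitTools
-- import your own Groth.Agent.* helpers here

set_option autoImplicit false
universe u
open CategoryTheory AlgebraicGeometry
set_option backward.isDefEq.respectTransparency.types false
open Cyc
open Groth.Agent.H3Cyc
open CategoryTheory.Limits

namespace Groth.Agent.S6474

/-- Injectivity; surjectivity is the affine-fibres result: suppose ℰ is an O_X-module that is locally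
free of finite rank r, and let p : E = Spec(Sym^* ℰ) → X denote the associated vector bundle. Then
p^* : CH_k(X) → CH_{k+r}(E) is injective: a k-cycle α on X with p^*α ∼_rat 0 on E is itself ∼_rat 0.
The vector bundle is given through the relative-spectrum layer: A a quasi-coherent O_X-algebra with
j : ℰ → A making A the symmetric algebra of ℰ (RelSpec.IsSymAlg, ℰ quasi-coherent), E = A.spec with
structure morphism A.π and the induced dimension function. Here a pair (X, δ) with Cyc.IsSetup plays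
the role of a scheme locally of finite type over the base (S, δ) (X locally Noetherian with
universally catenary local rings, δ a dimension function), and Cyc.DeltaCompat records that the
dimension function upstairs is the induced one. -/
theorem result (X : Scheme.{u}) (δ : X → ℤ) (hX : Cyc.IsSetup X δ) (ℰ : X.Modules) (hq : Coh.IsQCoh ℰ) (r : ℕ) (hr : FlatMod.IsFinLocFreeOfRank r ℰ) (A : RelSpec.QCAlg X) (j : ℰ ⟶ A.toModule) (hA : RelSpec.IsSymAlg ℰ A j) (δE : ↥A.spec → ℤ) (hE : Cyc.IsSetup A.spec δE) (hδ : Cyc.DeltaCompat A.π δE δ) (k : ℤ) (α : AlgebraicCycle X ℤ) (hα : α ∈ Cyc.Zk X δ k) (γ : AlgebraicCycle A.spec ℤ) (hγ : ⇑γ = Cyc.pullFun A.π δE δ r ⇑α) (h0 : Cyc.RatEquivZero δE (k + r) γ) : Cyc.RatEquivZero δ k α := by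
  classical
  haveI := hX.1
  obtain ⟨Q, q, O1, i, φ, hB, hi, hiq, hz⟩ := VBComp.exists_completion hq hr A j hA
  haveI := hi
  haveI := hB.isProper
  haveI := hB.flat
  obtain ⟨δQ, hδQ⟩ := SpFun.exists_deltaCompat q δ
  have hQ := isSetup_of_locallyOfFiniteType q hX hδQ
  obtain rfl : δE = fun w => δQ (i w) := by
    refine OpenSupp.deltaCompat_unique A.π hδ ?_
    rw [← hiq]
    exact BCPush.deltaCompat_comp i q (Reduction.deltaCompat_immersion i δQ) hδQ
  have hdq : FlatRat.MaxDim q δQ δ (r : ℤ) := PBPush.maxDim hB hδQ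
  have hdc : FlatRat.MaxDim (i ≫ q) (fun w => δQ (i w)) δ (0 + (r : ℤ)) :=
    add_comm (r : ℤ) 0 ▸ FlatRat.maxDim_comp i q (OpenSupp.maxDim_immersion i δQ) hdq
  haveI := hE.1
  haveI := hQ.1
  let a : Tot.T X δ := Pi.single k (ChowOps.cl α hα)
  have h0' : Tot.Pull i hE hQ (OpenSupp.maxDim_immersion i δQ) (Tot.Pull q hQ hX hdq a) = 0 := by
    rw [Tot.Pull_Pull i hE hQ (OpenSupp.maxDim_immersion i δQ) q hX hdq hdc]
    have key : ∀ (φ : A.spec ⟶ X) (_ : Flat φ) (c : ℤ) (hc : FlatRat.MaxDim φ (fun w => δQ (i w)) δ c),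
        φ = A.π → c = r → Tot.Pull φ hE hX hc a = 0 := by
      rintro φ _ c hc rfl rfl
      funext l
      obtain ⟨m, rfl⟩ : ∃ m, l = m + (r : ℤ) := ⟨l - r, by ring⟩
      rw [Tot.Pull_apply A.π hE hX hc a rfl]
      by_cases hm : m = k
      · subst hm
        obtain ⟨β, hβf, hβ⟩ := C1Api.exists_pullFun_cycle A.π hE hX hc m α hα
        rw [show a m = ChowOps.cl α hα from Tot.single_apply _ _, Chow.pull_cl A.π hE hX hc rfl α hα β hβ hβf]
        refine (Chow.cl_eq_zero_iff hβ).mpr ?_
        rw [show β = γ from DFunLike.coe_injective (hβf.trans hγ.symm)]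
        exact h0
      · rw [show a m = 0 from Pi.single_eq_of_ne hm _, map_zero]
        rfl
    exact key _ inferInstance _ hdc hiq (zero_add _)
  have hS : ∀ l, Filt.Supp (Set.range i)ᶜ (Tot.Pull q hQ hX hdq a l) :=
    fun l => OpenSupp.supp_of_pull_eq_zero hQ i hE _ h0' l
  obtain ⟨Y, π, δY, hY, hπ, hprop, hflat, d, hrel, hd, hinj, hsp⟩ :=
    SplitChern.exists_setting hX 1 (fun _ => ℰ) (fun _ => r) fun _ => hr
  obtain ⟨ls, hls, hlen⟩ := hsp 0
  let g := pullback.fst q π
  let q' := pullback.snd q π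
  have hsq : IsPullback g q' q π := IsPullback.of_hasPullback q π
  have hB' := hB.baseChange hsq
  haveI : Flat g := MorphismProperty.pullback_fst _ _ inferInstance
  haveI := hB'.isProper
  haveI := hB'.flat
  obtain ⟨δQ', hq'⟩ := SpFun.exists_deltaCompat q' δY
  have hQ' := isSetup_of_locallyOfFiniteType q' hY hq'
  haveI : IsProper g := MorphismProperty.pullback_fst _ _ inferInstance
  have hg : Cyc.DeltaCompat g δQ' δQ := BCPush.deltaCompat_cancel _ q hδQ (by
    rw [hsq.w]; exact BCPush.deltaCompat_comp _ π hq' hπ)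
  have hdg : FlatRat.MaxDim g δQ' δQ (d : ℤ) :=
    FlatRat.maxDim_of_hasRelDim _ (hasRelDim_of_isPullback hsq.flip hrel) hg
  let b := Tot.Pull π hY hX hd a
  have hswap : Tot.Pull g hQ' hQ hdg (Tot.Pull q hQ hX hdq a) = ChernTot.pl hB' hY hQ' hq' b := by
    have h1 : FlatRat.MaxDim (g ≫ q) δQ' δ ((d : ℤ) + r) := add_comm (r : ℤ) (d : ℤ) ▸ FlatRat.maxDim_comp g q hdg hdq
    have h2 : FlatRat.MaxDim (q' ≫ π) δQ' δ ((r : ℤ) + d) := add_comm (d : ℤ) (r : ℤ) ▸ FlatRat.maxDim_comp q' π (PBPush.maxDim hB' hq') hd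
    show _ = Tot.Pull q' hQ' hY (PBPush.maxDim hB' hq') (Tot.Pull π hY hX hd a)
    rw [Tot.Pull_Pull g hQ' hQ hdg q hX hdq h1, Tot.Pull_Pull q' hQ' hY _ π hX hd h2]
    have key : ∀ (φ ψ : pullback q π ⟶ X) (_ : Flat φ) (_ : Flat ψ) (c e : ℤ) (hc : FlatRat.MaxDim φ δQ' δ c)
        (he : FlatRat.MaxDim ψ δQ' δ e), φ = ψ → c = e → Tot.Pull φ hQ' hX hc a = Tot.Pull ψ hQ' hX he a := by
      rintro φ ψ _ _ c e hc he rfl rfl
      rfl
    exact key _ _ inferInstance inferInstance _ _ h1 h2 hsq.w (add_comm _ _)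
  have hF : Filt.Filt ((Scheme.Modules.pullback g).obj ((Scheme.Modules.pullback q).obj ℰ))
      (ls.map (Scheme.Modules.pullback q').obj) :=
    (hls.toFilt.pullback q').of_iso ((Scheme.Modules.pullbackComp q' π).app ℰ ≪≫
      (Scheme.Modules.pullbackCongr hsq.w.symm).app ℰ ≪≫ ((Scheme.Modules.pullbackComp g q).app ℰ).symm)
  let S' : Set ↥(pullback q π) := g ⁻¹' (Set.range i)ᶜ
  have hS' : ∀ {ξ x : ↥(pullback q π)}, ξ ⤳ x → ξ ∈ S' → x ∈ S' := fun h hξ =>
    h.mem_closed (i.isOpenEmbedding.isOpen_range.isClosed_compl.preimage g.continuous) hξ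
  have hfin := OpenSupp.supp_prod hQ' hF hB'.invertible ((Scheme.Modules.pullback g).map φ) (S := S') hS'
    (Tot.Pull g hQ' hQ hdg (Tot.Pull q hQ hX hdq a)) fun l => OpenSupp.supp_pull g hQ hQ' hdg hS l
  have hempty : S' ∩ Filt.zeroSet ((Scheme.Modules.pullback g).map φ) = ∅ := by
    refine Set.eq_empty_of_forall_notMem fun y hy => ?_
    obtain ⟨W, v, hyW, hgen⟩ := Filt.exists_gen_section φ hB.invertible (x := g y) fun h => hy.1 (hz h)
    have h1 := hy.2 (((Scheme.Modules.pullback g).obj ((Scheme.Modules.pullback q).obj ℰ)).presheaf.germ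
      (g ⁻¹ᵁ W) y hyW (OmegaSh.pullSect g _ W v))
    rw [Filt.fmap_germ, ← H17.PullSect.pullSect_natural g φ] at h1
    exact Filt.fib_ne_zero (H11Tilde.IsGen.pullSect g hgen) hyW h1
  have hvan : ((ls.map (Scheme.Modules.pullback q').obj).map fun L =>
      Filt.cc hQ' ((Scheme.Modules.pullback g).obj O1) - Filt.cc hQ' L).prod (ChernTot.pl hB' hY hQ' hq' b) = 0 := by
    rw [← hswap]
    exact funext fun l => Filt.supp_empty (hempty ▸ hfin l)
  have main : ∀ (l : List Y.Modules) (_ : ∀ L ∈ l, PicF.IsInvertible L) (s : ℕ),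
      (s + l.length < r → Tot.Push q' hQ' hY hq' ((ChernTot.zeta hB' hQ' ^ s)
        (((l.map (Scheme.Modules.pullback q').obj).map fun L =>
          Filt.cc hQ' ((Scheme.Modules.pullback g).obj O1) - Filt.cc hQ' L).prod
          (ChernTot.pl hB' hY hQ' hq' b))) = 0) ∧
      (s + l.length = r → Tot.Push q' hQ' hY hq' ((ChernTot.zeta hB' hQ' ^ s)
        (((l.map (Scheme.Modules.pullback q').obj).map fun L =>
          Filt.cc hQ' ((Scheme.Modules.pullback g).obj O1) - Filt.cc hQ' L).prod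
          (ChernTot.pl hB' hY hQ' hq' b))) = b) := by
    intro l hl
    induction l with
    | nil =>
      intro s
      refine ⟨fun h => ?_, fun h => ?_⟩
      · exact ChernTot.push_zeta_lt hB' hY hQ' hq' (by simpa using h) b
      · obtain rfl : s = r := by simpa using h
        exact ChernTot.push_zeta_eq hB' hY hQ' hq' b
    | cons L l ih =>
      intro s
      have hL := hl L List.mem_cons_self
      have ih' := ih fun N hN => hl N (List.mem_cons_of_mem _ hN)
      set c := (((l.map (Scheme.Modules.pullback q').obj).map fun L =>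
        Filt.cc hQ' ((Scheme.Modules.pullback g).obj O1) - Filt.cc hQ' L).prod) (ChernTot.pl hB' hY hQ' hq' b) with hc
      have e : Tot.Push q' hQ' hY hq' ((ChernTot.zeta hB' hQ' ^ s)
          ((((L :: l).map (Scheme.Modules.pullback q').obj).map fun L =>
            Filt.cc hQ' ((Scheme.Modules.pullback g).obj O1) - Filt.cc hQ' L).prod
            (ChernTot.pl hB' hY hQ' hq' b))) =
          Tot.Push q' hQ' hY hq' ((ChernTot.zeta hB' hQ' ^ (s + 1)) c) -
            Tot.C1 hY hL (Tot.Push q' hQ' hY hq' ((ChernTot.zeta hB' hQ' ^ s) c)) := by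
        have hLq := H11Ample.isInvertible_pullback q' hL
        rw [List.map_cons, List.map_cons, List.prod_cons]
        show Tot.Push q' hQ' hY hq' ((ChernTot.zeta hB' hQ' ^ s)
          (Filt.cc hQ' ((Scheme.Modules.pullback g).obj O1) c - Filt.cc hQ' ((Scheme.Modules.pullback q').obj L) c)) = _
        rw [map_sub, map_sub, ← Tot.Push_C1 q' hQ' hY hq' hL hLq, pow_succ, Filt.cc_eq hQ' hB'.invertible,
          Filt.cc_eq hQ' hLq]
        have hcomm : Commute (ChernTot.zeta hB' hQ' ^ s) (Tot.C1 hQ' hLq) :=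
          Commute.pow_left (Tot.C1_comm hQ' hB'.invertible hLq) s
        exact congrArg₂ (fun x y => Tot.Push q' hQ' hY hq' x - Tot.Push q' hQ' hY hq' y) rfl
          (DFunLike.congr_fun hcomm.eq c)
      rw [e]
      refine ⟨fun h => ?_, fun h => ?_⟩
      · rw [(ih' (s + 1)).1 (by simp at h; omega), (ih' s).1 (by simp at h; omega), map_zero, sub_zero]
      · rw [(ih' (s + 1)).2 (by simp at h; omega), (ih' s).1 (by simp at h; omega), map_zero, sub_zero]
  have hb : b = 0 := by
    rw [← (main ls hls.toFilt.invertible 0).2 (by simp [hlen]), hvan, map_zero, map_zero]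
  have ha : a = 0 := hinj (hb.trans (map_zero _).symm)
  exact (Chow.cl_eq_zero_iff hα).mp ((Tot.single_apply k _).symm.trans (congrFun ha k))

end Groth.Agent.S6474
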