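import Groth.Statements.S6476
import Groth.Agent.H22Alg.Herbrand
import Groth.Agent.H22Alg.FiniteLength

set_option autoImplicit false
universe u v
open CycAlg

namespace Groth.Agent.S6476

/-- Let A be a Noetherian local ring, M a finite A-module of dimension 1, and φ, ψ : M → M injective
with φ(ψ(M)) = ψ(φ(M)) (e.g. φ, ψ commute). Then length_A(M/φψM) is finite and (M/φψM, φ, ψ) is an
exact (2, 1)-periodic complex; here φ', ψ' denote the endomorphisms of M/φψM induced by φ and ψ, and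
exactness says both cohomology modules (CycAlg.perH) are trivial. -/
theorem result {A : Type u} [CommRing A] [IsNoetherianRing A] [IsLocalRing A] {M : Type v} [AddCommGroup M] [Module A M] [Module.Finite A M] (hdim : Module.supportDim A M = 1) (φ ψ : M →ₗ[A] M) (hφ : Function.Injective φ) (hψ : Function.Injective ψ) (hcomm : Submodule.map φ (LinearMap.range ψ) = Submodule.map ψ (LinearMap.range φ)) (φ' ψ' : (M ⧸ LinearMap.range (φ ∘ₗ ψ)) →ₗ[A] (M ⧸ LinearMap.range (φ ∘ₗ ψ))) (hφ' : φ' ∘ₗ (LinearMap.range (φ ∘ₗ ψ)).mkQ = (LinearMap.range (φ ∘ₗ ψ)).mkQ ∘ₗ φ) (hψ' : ψ' ∘ₗ (LinearMap.range (φ ∘ₗ ψ)).mkQ = (LinearMap.range (φ ∘ₗ ψ)).mkQ ∘ₗ ψ) : Module.length A (M ⧸ LinearMap.range (φ ∘ₗ ψ)) < ⊤ ∧ CycAlg.IsPeriodic φ' ψ' ∧ Subsingleton (CycAlg.perH φ' ψ') ∧ Subsingleton (CycAlg.perH ψ' φ') := by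
  have hle : Module.supportDim A M ≤ 1 := hdim.le
  have hcomp : ∀ x, φ' (Submodule.Quotient.mk x) = Submodule.Quotient.mk (φ x) := fun x => LinearMap.congr_fun hφ' x
  have hcomp' : ∀ x, ψ' (Submodule.Quotient.mk x) = Submodule.Quotient.mk (ψ x) := fun x => LinearMap.congr_fun hψ' x
  refine ⟨lt_top_iff_ne_top.mpr (Groth.Agent.H22Alg.length_quotient_range_ne_top hle _ (hφ.comp hψ)), ⟨?_, ?_⟩, ?_, ?_⟩
  · refine Submodule.linearMap_qext _ (LinearMap.ext fun x => ?_)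
    show φ' (ψ' (Submodule.Quotient.mk x)) = 0
    rw [hcomp', hcomp, Submodule.Quotient.mk_eq_zero]
    exact ⟨x, rfl⟩
  · refine Submodule.linearMap_qext _ (LinearMap.ext fun x => ?_)
    show ψ' (φ' (Submodule.Quotient.mk x)) = 0
    rw [hcomp, hcomp', Submodule.Quotient.mk_eq_zero]
    have : ψ (φ x) ∈ Submodule.map ψ (LinearMap.range φ) := ⟨φ x, ⟨x, rfl⟩, rfl⟩
    rw [← hcomm] at this
    obtain ⟨_, ⟨y, rfl⟩, hy⟩ := this
    exact ⟨y, hy⟩
  · rw [Submodule.Quotient.subsingleton_iff, eq_top_iff]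
    rintro ⟨x, hx⟩ -
    obtain ⟨x, rfl⟩ := Submodule.Quotient.mk_surjective _ x
    rw [LinearMap.mem_ker, hcomp, Submodule.Quotient.mk_eq_zero] at hx
    obtain ⟨y, hy⟩ := hx
    exact ⟨Submodule.Quotient.mk y, (hcomp' y).trans (congrArg Submodule.Quotient.mk (hφ hy))⟩
  · rw [Submodule.Quotient.subsingleton_iff, eq_top_iff]
    rintro ⟨x, hx⟩ -
    obtain ⟨x, rfl⟩ := Submodule.Quotient.mk_surjective _ x
    rw [LinearMap.mem_ker, hcomp', Submodule.Quotient.mk_eq_zero] at hx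
    obtain ⟨y, hy⟩ := hx
    have : φ (ψ y) ∈ Submodule.map φ (LinearMap.range ψ) := ⟨ψ y, ⟨y, rfl⟩, rfl⟩
    rw [hcomm] at this
    obtain ⟨_, ⟨z, rfl⟩, hz⟩ := this
    exact ⟨Submodule.Quotient.mk z, (hcomp z).trans (congrArg Submodule.Quotient.mk (hψ (hz.trans hy)))⟩

end Groth.Agent.S6476
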