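import Groth.Statements.S6478
import Groth.Agent.H3Cyc.RelDimBC
import Groth.Agent.H3Cyc.FlatComp
import Groth.Agent.H3Cyc.SetupLft
-- import your own Groth.Agent.* helpers here

set_option autoImplicit false
universe u
open CategoryTheory AlgebraicGeometry
open CategoryTheory.Limits
open Cyc

namespace Groth.Agent.S6478

/-- Let f : Y → X be flat, locally of finite type, of relative dimension r, Y' = Y ×_X X' with f' : Y' →
X' and q : Y' → Y, δY, δY' the induced dimension functions (q again has shift c at generic points of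
its fibres). Then f' is flat of relative dimension r and (f')^* ∘ g^* = g^* ∘ f^* on k-cycles,
coefficientwise. Setting: p : X' → X is flat (not necessarily of finite type), (X, δ) and (X', δ')
satisfy Cyc.IsSetup, and δ'(x') = δ(p x') + c whenever x' is maximal under generalization inside its
fibre p⁻¹(p x'); g^* : Z_k(X) → Z_{k+c}(X') is the coefficientwise flat pullback Cyc.pullFun p δ' δ
c. (The published statement takes X′ = X ×_S S′ and Y′ = Y ×_S S′ for a flat S′ → S, with X and Y
locally of finite type over S, and also records the same square on Chow groups, which follows; this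
row allows any flat p : X′ → X with the shift condition and states the cycle-level square.) -/
theorem result (X X' Y : Scheme.{u}) (f : Y ⟶ X) (p : X' ⟶ X) [Flat f] [LocallyOfFiniteType f] [Flat p] (r : ℕ) (hr : Cyc.HasRelDim f r) (δ : X → ℤ) (δ' : X' → ℤ) (δY : Y → ℤ) (δY' : ↥(pullback f p) → ℤ) (hX : Cyc.IsSetup X δ) (hX' : Cyc.IsSetup X' δ') (hY : Cyc.IsSetup Y δY) (hf : Cyc.DeltaCompat f δY δ) (hf' : Cyc.DeltaCompat (pullback.snd f p) δY' δ') (c : ℤ) (hc : ∀ x' : X', (∀ y, p y = p x' → y ⤳ x' → y = x') → δ' x' = δ (p x') + c) (hcY : ∀ y' : ↥(pullback f p), (∀ y, pullback.fst f p y = pullback.fst f p y' → y ⤳ y' → y = y') → δY' y' = δY (pullback.fst f p y') + c) (k : ℤ) (α : AlgebraicCycle X ℤ) (hα : α ∈ Cyc.Zk X δ k) : Cyc.HasRelDim (pullback.snd f p) r ∧ Cyc.pullFun (pullback.snd f p) δY' δ' r (Cyc.pullFun p δ' δ c ⇑α) = Cyc.pullFun (pullback.fst f p) δY' δY c (Cyc.pullFun f δY δ r ⇑α) := by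
  have hr' : Cyc.HasRelDim (pullback.snd f p) r :=
    Groth.Agent.H3Cyc.hasRelDim_of_isPullback (IsPullback.of_hasPullback f p) hr
  refine ⟨hr', ?_⟩
  have hY' : Cyc.IsSetup (pullback f p) δY' :=
    Groth.Agent.H3Cyc.isSetup_of_locallyOfFiniteType (pullback.snd f p) hX' hf'
  rw [Groth.Agent.H3Cyc.FlatRat.pullFun_comp (pullback.snd f p) p hY' hX'
      (Groth.Agent.H3Cyc.FlatRat.maxDim_of_hasRelDim _ hr' hf') hc,
    Groth.Agent.H3Cyc.FlatRat.pullFun_comp (pullback.fst f p) f hY' hY hcY
      (Groth.Agent.H3Cyc.FlatRat.maxDim_of_hasRelDim _ hr hf), pullback.condition, add_comm c (r : ℤ)]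

end Groth.Agent.S6478
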