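import Groth.Statements.S6480
import Groth.Agent.H22Alg.LengthFormula
import Groth.Agent.H22Alg.OrdFrac
import Mathlib.Data.ENat.BigOperators

set_option autoImplicit false
universe u
open CycAlg

namespace Groth.Agent.S6480

open scoped Pointwise

/-- Let A be a Noetherian local ring of dimension 1, a, b ∈ A nonzerodivisors, A without embedded
primes, M a finite A-module without embedded associated primes and with Supp(M) = Spec(A). Put I =
{x ∈ A | x·(a/b) ∈ A}, and write 𝔮_1, …, 𝔮_t for the minimal prime ideals of A. The conclusion is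
that M contains (a/b)IM, and that the difference length_A(M/(a/b)IM) minus length_A(M/IM) equals the
sum over i of length_{A_{𝔮_i}}(M_{𝔮_i}) multiplied by ord_{A/𝔮_i}(a/b). Encoding: I is the ideal
quotient (bA : aA); '(a/b)IM ⊂ M' is aIM ⊆ bM; (a/b)IM is the submodule of m with bm ∈ aIM (b acts
injectively on M); ord_{A/𝔮}(a/b) is CycAlg.ordFrac on κ(𝔮) = Frac(A/𝔮); lengths are truncated to ℕ
(they are finite here). -/
theorem result {A : Type u} [CommRing A] [IsNoetherianRing A] [IsLocalRing A] (hA : ringKrullDim A = 1) {M : Type u} [AddCommGroup M] [Module A M] [Module.Finite A M] (a b : A) (ha : a ∈ nonZeroDivisors A) (hb : b ∈ nonZeroDivisors A) (hAemb : ∀ p ∈ associatedPrimes A A, p ∈ minimalPrimes A) (hMemb : ∀ p ∈ associatedPrimes A M, p ∈ minimalPrimes A) (hsupp : Module.support A M = Set.univ) (I : Ideal A) (hI : I = (Ideal.span {b}).colon (Ideal.span {a})) (P : Submodule A M) (hP : P = Submodule.comap (LinearMap.lsmul A M b) ((Ideal.span {a} * I) • (⊤ : Submodule A M))) : (Ideal.span {a}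 * I) • (⊤ : Submodule A M) ≤ LinearMap.range (LinearMap.lsmul A M b) ∧ ((Module.length A (M ⧸ P)).toNat : ℤ) - ((Module.length A (M ⧸ I • (⊤ : Submodule A M))).toNat : ℤ) = ∑ᶠ (q : PrimeSpectrum A) (_ : q.asIdeal ∈ minimalPrimes A), ((Module.length (Localization.AtPrime q.asIdeal) (LocalizedModule q.asIdeal.primeCompl M)).toNat : ℤ) * CycAlg.ordFrac (A ⧸ q.asIdeal) q.asIdeal.ResidueField (algebraMap A q.asIdeal.ResidueField a / algebraMap A q.asIdeal.ResidueField b) := by
  have h1 : Module.supportDim A M ≤ 1 := hA ▸ Module.supportDim_le_ringKrullDim A M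
  have : Ring.KrullDimLE 1 A := (Ring.krullDimLE_iff (n := 1)).mpr (by rw [hA]; rfl)
  have hnmin : ∀ c ∈ nonZeroDivisors A, ∀ p ∈ minimalPrimes A, c ∉ p := by
    intro c hc p hp hcp
    have hd : Disjoint (p : Set A) (nonZeroDivisors A : Set A) :=
      Ideal.disjoint_nonZeroDivisors_of_mem_minimalPrimes hp
    exact Set.disjoint_left.mp hd hcp hc
  have hinj : ∀ c ∈ nonZeroDivisors A, ∀ m : M, c • m = 0 → m = 0 := by
    intro c hc m hm
    by_contra hne
    have : c ∈ ⋃ p ∈ associatedPrimes A M, (p : Set A) := by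
      rw [biUnion_associatedPrimes_eq_zero_divisors]; exact ⟨m, hne, hm⟩
    simp only [Set.mem_iUnion] at this
    obtain ⟨p, hp, hcp⟩ := this
    exact hnmin c hc p (hMemb p hp) hcp
  have hmem : ∀ p : PrimeSpectrum A, p.asIdeal ∉ minimalPrimes A → p.asIdeal = IsLocalRing.maximalIdeal A := by
    intro p hp
    by_contra hne
    obtain ⟨q, hq, hqp⟩ := Ideal.exists_minimalPrimes_le (bot_le : (⊥ : Ideal A) ≤ p.asIdeal)
    have hlt : q < p.asIdeal := lt_of_le_of_ne hqp fun e => hp (e ▸ hq)
    have hlt' : p.asIdeal < IsLocalRing.maximalIdeal A :=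
      lt_of_le_of_ne (IsLocalRing.le_maximalIdeal p.isPrime.ne_top) hne
    have : (2 : WithBot ℕ∞) ≤ ringKrullDim A := by
      refine le_trans ?_ (Order.LTSeries.length_le_krullDim
        (RelSeries.fromListIsChain [(⟨q, hq.1.1⟩ : PrimeSpectrum A), p,
          ⟨IsLocalRing.maximalIdeal A, inferInstance⟩] (by simp)
          (.cons_cons (show (⟨q, hq.1.1⟩ : PrimeSpectrum A) < p from hlt) (List.isChain_pair.mpr hlt'))))
      simp
    rw [hA] at this
    exact absurd this (by simp)
  have h0 : ∀ c ∈ nonZeroDivisors A, Module.supportDim A (M ⧸ c • (⊤ : Submodule A M)) ≤ 0 := by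
    intro c hc
    refine Order.krullDim_nonpos_iff_forall_isMax.mpr fun p q hpq => ?_
    have hp := ((Groth.Agent.H22Alg.support_quotient_smul c p.1).mp p.2).2
    have e1 : p.1.asIdeal = IsLocalRing.maximalIdeal A := hmem _ fun h => hnmin c hc _ h hp
    show q.1.asIdeal ≤ p.1.asIdeal
    rw [e1]
    exact IsLocalRing.le_maximalIdeal q.1.isPrime.ne_top
  have : ∀ q : PrimeSpectrum A, Ring.KrullDimLE 1 (A ⧸ q.asIdeal) := fun q =>
    (Ring.krullDimLE_iff (n := 1)).mpr ((ringKrullDim_quotient_le q.asIdeal).trans (by rw [hA]; rfl))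
  set N : Submodule A M := I • (⊤ : Submodule A M)
  have haI : (Ideal.span {a} * I) • (⊤ : Submodule A M) = a • N := by
    rw [← smul_eq_mul, Submodule.smul_assoc, Submodule.ideal_span_singleton_smul]
  have hIab : ∀ i ∈ I, ∃ c, a * i = b * c := by
    intro i hi
    rw [hI, Submodule.mem_colon] at hi
    have := hi a (Ideal.mem_span_singleton_self a)
    obtain ⟨c, hc⟩ := Ideal.mem_span_singleton'.mp this
    exact ⟨c, by rw [mul_comm b, hc, smul_eq_mul, mul_comm]⟩
  have hle : (Ideal.span {a} * I) • (⊤ : Submodule A M) ≤ LinearMap.range (LinearMap.lsmul A M b) := by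
    rw [haI]
    rintro _ ⟨n, hn, rfl⟩
    refine Submodule.smul_induction_on hn (fun i hi m _ => ?_) (fun u v hu hv => ?_)
    · obtain ⟨c, hc⟩ := hIab i hi
      refine ⟨c • m, ?_⟩
      show b • c • m = a • i • m
      rw [smul_smul, smul_smul, hc]
    · show a • (u + v) ∈ _
      rw [smul_add]; exact Submodule.add_mem _ hu hv
  refine ⟨hle, ?_⟩
  -- multiplication by a nonzerodivisor
  have hmul : ∀ c ∈ nonZeroDivisors A, ∀ K : Submodule A M,
      Module.length A (M ⧸ K.map (LinearMap.lsmul A M c)) =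
        Module.length A (M ⧸ K) + Module.length A (M ⧸ c • (⊤ : Submodule A M)) := by
    intro c hc K
    have hsub : K.map (LinearMap.lsmul A M c) ≤ c • (⊤ : Submodule A M) :=
      Submodule.map_mono (le_top (a := K))
    let u : (M ⧸ K) →ₗ[A] (M ⧸ K.map (LinearMap.lsmul A M c)) :=
      Submodule.mapQ _ _ (LinearMap.lsmul A M c) (Submodule.le_comap_map _ _)
    refine Module.length_eq_add_of_exact u (Submodule.factor hsub) ?_ (Submodule.factor_surjective hsub) ?_
    · rw [injective_iff_map_eq_zero]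
      intro z hz
      obtain ⟨m, rfl⟩ := Submodule.Quotient.mk_surjective _ z
      rw [Submodule.mapQ_apply, Submodule.Quotient.mk_eq_zero] at hz
      obtain ⟨k, hk, hkm⟩ := hz
      have : c • (k - m) = 0 := by rw [smul_sub]; exact sub_eq_zero.mpr hkm
      rw [Submodule.Quotient.mk_eq_zero, ← sub_eq_zero.mp (hinj c hc _ this)]
      exact hk
    · intro z
      obtain ⟨m, rfl⟩ := Submodule.Quotient.mk_surjective _ z
      show Submodule.Quotient.mk m = 0 ↔ _
      rw [Submodule.Quotient.mk_eq_zero]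
      constructor
      · rintro ⟨n, -, rfl⟩
        exact ⟨Submodule.Quotient.mk n, rfl⟩
      · rintro ⟨w, hw⟩
        obtain ⟨n, rfl⟩ := Submodule.Quotient.mk_surjective _ w
        rw [Submodule.mapQ_apply, Submodule.Quotient.eq] at hw
        have h' : c • n - m ∈ c • (⊤ : Submodule A M) := hsub hw
        have := Submodule.sub_mem _ (Submodule.smul_mem_pointwise_smul n c ⊤ Submodule.mem_top) h'
        rwa [sub_sub_cancel] at this
  have hfin : ∀ c ∈ nonZeroDivisors A, Module.length A (M ⧸ c • (⊤ : Submodule A M)) ≠ ⊤ := fun c hc =>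
    Groth.Agent.H22Alg.length_ne_top_of_supportDim_le_zero (h0 c hc)
  have hP' : P.map (LinearMap.lsmul A M b) = N.map (LinearMap.lsmul A M a) := by
    rw [hP, Submodule.map_comap_eq, inf_eq_right.mpr hle, haI]
    rfl
  have key : Module.length A (M ⧸ N) + Module.length A (M ⧸ a • (⊤ : Submodule A M)) =
      Module.length A (M ⧸ P) + Module.length A (M ⧸ b • (⊤ : Submodule A M)) := by
    rw [← hmul a ha N, ← hmul b hb P, hP']
  have hN : Module.length A (M ⧸ N) ≠ ⊤ := by
    have hbI : Ideal.span {b} ≤ I := by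
      rw [hI]
      intro x hx
      exact Submodule.mem_colon.mpr fun y _ => Ideal.mul_mem_right y _ hx
    have hbN : b • (⊤ : Submodule A M) ≤ N := by
      rw [← Submodule.ideal_span_singleton_smul]; exact Submodule.smul_mono_left hbI
    exact ne_top_of_le_ne_top (hfin b hb)
      (Module.length_le_of_surjective (Submodule.factor hbN) (Submodule.factor_surjective hbN))
  have hPfin : Module.length A (M ⧸ P) ≠ ⊤ := by
    have : Module.length A (M ⧸ N) + Module.length A (M ⧸ a • (⊤ : Submodule A M)) ≠ ⊤ :=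
      (ENat.add_lt_top.mpr ⟨hN.lt_top, (hfin a ha).lt_top⟩).ne
    rw [key] at this
    exact (ENat.add_lt_top.mp this.lt_top).1.ne
  have key' := congrArg ENat.toNat key
  rw [ENat.toNat_add hN (hfin a ha), ENat.toNat_add hPfin (hfin b hb)] at key'
  -- the sums
  set S := Set.Finite.toFinset (Groth.Agent.H22Alg.lowPrimes_finite (M := M) h1)
  have hS : ∀ q, q ∈ S ↔ q.asIdeal ∈ minimalPrimes A := by
    intro q
    rw [Set.Finite.mem_toFinset]
    constructor
    · intro hq
      by_contra h
      exact hq.2 (hmem q h)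
    · intro hq
      refine ⟨by rw [hsupp]; trivial, fun e => ?_⟩
      have : (⊥ : WithBot ℕ∞) < ringKrullDim A := by rw [hA]; exact WithBot.bot_lt_coe _
      have hk : Ring.KrullDimLE 0 A := Ring.krullDimLE_zero_iff.mpr fun P hP => by
        have hle := IsLocalRing.le_maximalIdeal hP.ne_top
        rw [le_antisymm hle (e ▸ hq.2 ⟨hP, bot_le⟩ (e ▸ hle))]
        infer_instance
      have h' : ringKrullDim A ≤ 0 := by exact_mod_cast hk.krullDim_le
      rw [hA] at h'
      exact absurd h' (by simp)
  have hform : ∀ c ∈ nonZeroDivisors A, ((Module.length A (M ⧸ c • (⊤ : Submodule A M))).toNat : ℤ) =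
      ∑ q ∈ S, ((Ring.ord (A ⧸ q.asIdeal) (Ideal.Quotient.mk q.asIdeal c)).toNat : ℤ) *
        ((Groth.Agent.H22Alg.locLen A M q).toNat : ℤ) := by
    intro c hc
    rw [Groth.Agent.H22Alg.length_quot_smul_eq_finsum h1 (h0 c hc)]
    have hk : Module.length A (LinearMap.ker (LinearMap.lsmul A M c)) = 0 := by
      rw [Module.length_eq_zero_iff, Submodule.subsingleton_iff_eq_bot, eq_bot_iff]
      exact fun m hm => hinj c hc m hm
    rw [hk, zero_add, finsum_mem_eq_finite_toFinset_sum _ (Groth.Agent.H22Alg.lowPrimes_finite h1)]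
    rw [ENat.toNat_sum, Nat.cast_sum]
    · simp only [ENat.toNat_mul, Nat.cast_mul]
      rfl
    · intro q hq
      refine WithTop.mul_ne_top (Ring.ord_ne_top ?_) ?_
      · rw [mem_nonZeroDivisors_iff_ne_zero, Ne, Ideal.Quotient.eq_zero_iff_mem]
        exact hnmin c hc _ ((hS q).mp hq)
      · exact Groth.Agent.H22Alg.length_localized_ne_top q fun r hr hrq =>
          Groth.Agent.H22Alg.lowPrimes_minimal h1 ((Set.Finite.mem_toFinset _).mp hq) hr hrq
  refine Eq.trans ?_ (finsum_cond_eq_sum_of_cond_iff _ (fun {q} _ => (hS q).symm)).symm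
  have ea := hform a ha
  have eb := hform b hb
  calc ((Module.length A (M ⧸ P)).toNat : ℤ) - ((Module.length A (M ⧸ N)).toNat : ℤ)
      = ((Module.length A (M ⧸ a • (⊤ : Submodule A M))).toNat : ℤ) -
          ((Module.length A (M ⧸ b • (⊤ : Submodule A M))).toNat : ℤ) := by omega
    _ = _ := by
      rw [ea, eb, ← Finset.sum_sub_distrib]
      refine Finset.sum_congr rfl fun q hq => ?_
      have hne : ∀ c ∈ nonZeroDivisors A, Ideal.Quotient.mk q.asIdeal c ∈ nonZeroDivisors (A ⧸ q.asIdeal) := by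
        intro c hc
        rw [mem_nonZeroDivisors_iff_ne_zero, Ne, Ideal.Quotient.eq_zero_iff_mem]
        exact hnmin c hc _ ((hS q).mp hq)
      have hdiv := Groth.Agent.H22Alg.cycOrdFrac_div q.asIdeal.ResidueField (hne a ha) (hne b hb)
      rw [IsScalarTower.algebraMap_apply A (A ⧸ q.asIdeal) q.asIdeal.ResidueField a,
        IsScalarTower.algebraMap_apply A (A ⧸ q.asIdeal) q.asIdeal.ResidueField b,
        Ideal.Quotient.algebraMap_eq, hdiv]
      unfold Groth.Agent.H22Alg.locLen
      ring

end Groth.Agent.S6480
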