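import Groth.Statements.S6485
import Mathlib.LinearAlgebra.Matrix.MvPolynomial
import Mathlib.LinearAlgebra.Matrix.Permutation
import Mathlib.Algebra.Polynomial.Degree.Domain
import Mathlib.Algebra.MvPolynomial.CommRing
import Mathlib.RingTheory.MvPolynomial.Basic
import Mathlib.Algebra.MvPolynomial.NoZeroDivisors

set_option autoImplicit false
universe u
open IntMult

namespace Groth.Agent.S6485

/-- Let k be a field and n ≥ 1. Then the determinant of the generic matrix (x_{ij})_{1 ≤ i, j ≤ n} is an
irreducible element of the polynomial ring k[x_{ij}] (Mathlib's Matrix.mvPolynomialX is the generic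
matrix over MvPolynomial (Fin n × Fin n) k). -/
theorem result (k : Type u) [Field k] (n : ℕ) (hn : 1 ≤ n) : Irreducible (Matrix.mvPolynomialX (Fin n) (Fin n) k).det := by
  classical
  let Z : Set (Fin n × Fin n) → ((MvPolynomial (Fin n × Fin n) k) →ₐ[k] (MvPolynomial (Fin n × Fin n) k)) := fun S =>
    MvPolynomial.aeval fun v => if v ∈ S then 0 else MvPolynomial.X v
  let ψ : Set (Fin n × Fin n) → ((MvPolynomial (Fin n × Fin n) k) →ₐ[k] Polynomial (MvPolynomial (Fin n × Fin n) k)) := fun S =>
    MvPolynomial.aeval fun v =>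
      if v ∈ S then Polynomial.X * Polynomial.C (MvPolynomial.X v) else Polynomial.C (MvPolynomial.X v)
  have hψ0 : ∀ S p, Polynomial.eval 0 (ψ S p) = Z S p := by
    intro S p
    induction p using MvPolynomial.induction_on with
    | C a => simp [ψ, Z, IsScalarTower.algebraMap_apply k (MvPolynomial (Fin n × Fin n) k) (Polynomial (MvPolynomial (Fin n × Fin n) k))]
    | add p q hp hq => simp [hp, hq]
    | mul_X p v hp =>
      rw [map_mul, map_mul, Polynomial.eval_mul, hp]
      simp only [ψ, Z, MvPolynomial.aeval_X]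
      split_ifs <;> simp
  have hψ1 : ∀ S p, Polynomial.eval 1 (ψ S p) = p := by
    intro S p
    induction p using MvPolynomial.induction_on with
    | C a => simp [ψ, IsScalarTower.algebraMap_apply k (MvPolynomial (Fin n × Fin n) k) (Polynomial (MvPolynomial (Fin n × Fin n) k))]
    | add p q hp hq => simp [hp, hq]
    | mul_X p v hp =>
      rw [map_mul, Polynomial.eval_mul, hp]
      simp only [ψ, MvPolynomial.aeval_X]
      split_ifs <;> simp
  have hinv0 : ∀ S p, (ψ S p).natDegree = 0 → Z S p = p := by
    intro S p h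
    obtain ⟨c, hc⟩ := Polynomial.natDegree_eq_zero.mp h
    rw [← hψ0]; conv_rhs => rw [← hψ1 S p]
    rw [← hc]; simp
  have hZZ : ∀ S T p, Z S (Z T p) = Z (S ∪ T) p := by
    intro S T p
    induction p using MvPolynomial.induction_on with
    | C a => simp [Z]
    | add p q hp hq => simp [hp, hq]
    | mul_X p v hp =>
      simp only [map_mul, hp]
      congr 1
      simp only [Z, MvPolynomial.aeval_X]
      by_cases hT : v ∈ T
      · simp [hT]
      · by_cases hS : v ∈ S <;> simp [hT, hS]
  set D := (Matrix.mvPolynomialX (Fin n) (Fin n) k).det with hD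
  set row : Fin n → Set (Fin n × Fin n) := fun i => {v | v.1 = i}
  set col : Fin n → Set (Fin n × Fin n) := fun j => {v | v.2 = j}
  have hD0 : D ≠ 0 := Matrix.det_mvPolynomialX_ne_zero (Fin n) k
  have hrow : ∀ i, ψ (row i) D = Polynomial.X * Polynomial.C D := by
    intro i
    rw [hD, AlgHom.map_det, show Polynomial.C (Matrix.mvPolynomialX (Fin n) (Fin n) k).det =
      ((Matrix.mvPolynomialX (Fin n) (Fin n) k).map Polynomial.C).det from Polynomial.C.map_det _]
    have e : (ψ (row i)).mapMatrix (Matrix.mvPolynomialX (Fin n) (Fin n) k) =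
        Matrix.of fun a b => (if a = i then Polynomial.X else 1) *
          ((Matrix.mvPolynomialX (Fin n) (Fin n) k).map Polynomial.C) a b := by
      ext1 a b
      simp only [AlgHom.mapMatrix_apply, Matrix.map_apply, Matrix.mvPolynomialX_apply, Matrix.of_apply, ψ,
        MvPolynomial.aeval_X, row, Set.mem_setOf_eq]
      split_ifs <;> simp
    rw [e, Matrix.det_mul_column]
    simp
  have hcol : ∀ j, ψ (col j) D = Polynomial.X * Polynomial.C D := by
    intro j
    rw [hD, AlgHom.map_det, show Polynomial.C (Matrix.mvPolynomialX (Fin n) (Fin n) k).det =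
      ((Matrix.mvPolynomialX (Fin n) (Fin n) k).map Polynomial.C).det from Polynomial.C.map_det _]
    have e : (ψ (col j)).mapMatrix (Matrix.mvPolynomialX (Fin n) (Fin n) k) =
        Matrix.of fun a b => (if b = j then Polynomial.X else 1) *
          ((Matrix.mvPolynomialX (Fin n) (Fin n) k).map Polynomial.C) a b := by
      ext1 a b
      simp only [AlgHom.mapMatrix_apply, Matrix.map_apply, Matrix.mvPolynomialX_apply, Matrix.of_apply, ψ,
        MvPolynomial.aeval_X, col, Set.mem_setOf_eq]
      split_ifs <;> simp
    rw [e, Matrix.det_mul_row]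
    simp
  refine ⟨fun hu => ?_, fun f g hfg => ?_⟩
  · have : (MvPolynomial.constantCoeff (σ := Fin n × Fin n) (R := k)) D = 0 := by
      rw [hD, RingHom.map_det]
      have : (MvPolynomial.constantCoeff (σ := Fin n × Fin n) (R := k)).mapMatrix
          (Matrix.mvPolynomialX (Fin n) (Fin n) k) = 0 := by
        ext a b; simp
      rw [this]
      have : Nonempty (Fin n) := ⟨⟨0, hn⟩⟩
      exact Matrix.det_zero
    exact not_isUnit_zero (this ▸ hu.map MvPolynomial.constantCoeff)
  have hf0 : f ≠ 0 := fun h => hD0 (by rw [hfg, h, zero_mul])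
  have hg0 : g ≠ 0 := fun h => hD0 (by rw [hfg, h, mul_zero])
  have hcases : ∀ S, ψ S D = Polynomial.X * Polynomial.C D → Z S f = f ∨ Z S g = g := by
    intro S hS
    have hne : ∀ p : (MvPolynomial (Fin n × Fin n) k), p ≠ 0 → ψ S p ≠ 0 := fun p hp h => hp (by rw [← hψ1 S p, h, Polynomial.eval_zero])
    have h2 : (ψ S f).natDegree + (ψ S g).natDegree = 1 := by
      rw [← Polynomial.natDegree_mul (hne f hf0) (hne g hg0), ← map_mul, ← hfg, hS,
        Polynomial.natDegree_X_mul (by simpa using hD0), Polynomial.natDegree_C]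
    rcases Nat.eq_zero_or_pos (ψ S f).natDegree with h | h
    · exact .inl (hinv0 S f h)
    · exact .inr (hinv0 S g (by omega))
  have hij : ∀ i j, Z {(i, j)} D ≠ D := by
    intro i j h
    have := congrArg (MvPolynomial.eval fun v : Fin n × Fin n => if Equiv.swap i j v.1 = v.2 then (1 : k) else 0) h
    rw [hD] at this
    rw [RingHom.map_det, AlgHom.map_det, RingHom.map_det] at this
    have e1 : ((MvPolynomial.eval fun v : Fin n × Fin n => if Equiv.swap i j v.1 = v.2 then (1 : k) else 0).mapMatrix
        (Matrix.mvPolynomialX (Fin n) (Fin n) k)) = (Equiv.swap i j).permMatrix k := by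
      ext a b; simp [Equiv.Perm.permMatrix, PEquiv.toMatrix_apply, Equiv.toPEquiv_apply]
    have e2 : ((MvPolynomial.eval fun v : Fin n × Fin n => if Equiv.swap i j v.1 = v.2 then (1 : k) else 0).mapMatrix
        ((Z {(i, j)}).mapMatrix (Matrix.mvPolynomialX (Fin n) (Fin n) k))).det = 0 := by
      refine Matrix.det_eq_zero_of_row_eq_zero i fun b => ?_
      simp only [RingHom.mapMatrix_apply, AlgHom.mapMatrix_apply, Matrix.map_apply,
        Matrix.mvPolynomialX_apply, Z, MvPolynomial.aeval_X]
      by_cases hb : b = j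
      · simp [hb]
      · simp [Prod.ext_iff, hb, Ne.symm hb]
    rw [e2, e1, Matrix.det_permutation] at this
    rcases Int.units_eq_one_or (Equiv.Perm.sign (Equiv.swap i j)) with h1 | h1 <;> simp [h1] at this
  have hmix : ∀ (u w : (MvPolynomial (Fin n × Fin n) k)) i j, u * w = D → Z (row i) u = u → Z (col j) w = w → False := by
    intro u w i j huw hu hw
    apply hij i j
    rw [← huw, map_mul]
    congr 1
    · conv_lhs => rw [← hu, hZZ, Set.union_eq_right.mpr (by simp [row])]
      exact hu
    · conv_lhs => rw [← hw, hZZ, Set.union_eq_right.mpr (by simp [col])]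
      exact hw
  have hconst : ∀ u : (MvPolynomial (Fin n × Fin n) k), u ≠ 0 → (∀ i, Z (row i) u = u) → IsUnit u := by
    intro u hu hall
    have : ∀ s : Finset (Fin n), Z {v | v.1 ∈ s} u = u := by
      intro s
      induction s using Finset.induction_on with
      | empty =>
        have : Z {v : Fin n × Fin n | v.1 ∈ (∅ : Finset (Fin n))} = AlgHom.id k (MvPolynomial (Fin n × Fin n) k) := by
          ext v; simp [Z]
        rw [this]; rfl
      | insert a s _ ih =>
        conv_rhs => rw [← hall a, ← ih, hZZ]
        congr 2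
        ext v; simp [row]
    have h1 := this Finset.univ
    simp only [Finset.mem_univ, Set.setOf_true] at h1
    have h2 : Z Set.univ u = MvPolynomial.C (MvPolynomial.constantCoeff u) := by
      simp [Z, ← MvPolynomial.algebraMap_eq, MvPolynomial.aeval_zero']
    rw [h2] at h1
    have hc : MvPolynomial.constantCoeff u ≠ 0 := fun h => hu (by rw [← h1, h, map_zero])
    rw [← h1]
    exact (isUnit_iff_ne_zero.mpr hc).map MvPolynomial.C
  have i₀ : Fin n := ⟨0, hn⟩
  rcases hcases _ (hrow i₀) with h | h
  · refine .inl (hconst f hf0 fun i => ?_)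
    have hcolf : Z (col i₀) f = f := (hcases _ (hcol i₀)).resolve_right fun hg => hmix f g i₀ i₀ hfg.symm h hg
    exact (hcases _ (hrow i)).resolve_right fun hg => hmix g f i i₀ (by rw [mul_comm, hfg]) hg hcolf
  · refine .inr (hconst g hg0 fun i => ?_)
    have hcolg : Z (col i₀) g = g := (hcases _ (hcol i₀)).resolve_left fun hf =>
      hmix g f i₀ i₀ (by rw [mul_comm, hfg]) h hf
    exact (hcases _ (hrow i)).resolve_left fun hf => hmix f g i i₀ hfg.symm hf hcolg

end Groth.Agent.S6485
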