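import Groth.Statements.S6489
import Groth.Agent.H3Cyc.PBRel
-- import your own Groth.Agent.* helpers here

set_option autoImplicit false
universe u
open CategoryTheory CategoryTheory.Limits AlgebraicGeometry TopologicalSpace Opposite
open scoped HomogeneousIdeal
set_option backward.isDefEq.respectTransparency.types false
open Cyc
open Groth.Agent.H3Cyc

namespace Groth.Agent.S6489

/-- Let ℰ be finite locally free of rank r on X and (π : P → X, O_P(1)) the associated projective
bundle. For α ∈ CH_k(X), the class π_*(c_1(O_P(1))^s ∩ π^*α) ∈ CH_{k+r−1−s}(X) is 0 for s < r − 1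
and equals α for s = r − 1. Projective bundle data: ℰ quasi-coherent, finite locally free of rank r
≥ 1; 𝒮 = Sym(ℰ) as a graded quasi-coherent algebra (RelProj.IsGrSymAlg); (P, p, chart) its relative
Proj (RelProj.IsRelProj); (O1, lam) its O_P(1) (RelProj.IsRelTwist with n = 1); O_P(1) invertible
and p proper, which hold for projective bundles, are carried as hypotheses; δP is the induced
dimension function (Cyc.IsSetup, Cyc.DeltaCompat). π^* is Cyc.pullFun with relative dimension r − 1,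
π_* is Mathlib's pushforward of cycles, and c_1(O_P(1))^s ∩ − is the s-fold iterate of Cyc.c1CapFun
with any nonzero rational sections. Here a pair (X, δ) with Cyc.IsSetup plays the role of a scheme
locally of finite type over the base (S, δ) (X locally Noetherian with universally catenary local
rings, δ a dimension function), and Cyc.DeltaCompat records that the dimension function upstairs is
the induced one. -/
theorem result (X : Scheme.{u}) (δ : X → ℤ) (hX : Cyc.IsSetup X δ) (E : X.Modules) (hq : Coh.IsQCoh E) (r : ℕ) (hr : 1 ≤ r) (hE : FlatMod.IsFinLocFreeOfRank r E) (𝒮 : RelProj.QCGrAlg X) (j : E ⟶ 𝒮.toModule) (hS : RelProj.IsGrSymAlg E 𝒮 j) (P : Scheme.{u}) (p : P ⟶ X) (chart : ∀ (U : X.Opens) (hU : IsAffineOpen U), (((p ⁻¹ᵁ U : P.Opens) : Scheme.{u}) ≅ Proj (𝒮.deg U hU))) (hP : RelProj.IsRelProj 𝒮 p chart) (O1 : P.Modules) (lam : ∀ (U : X.Opens) (hU : IsAffineOpen U), O1 ⟶ (Scheme.Modules.pushforward (RelProj.emb p chart U hU)).obj (GrTwist.twist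 (𝒮.deg U hU) 1)) (hO1 : RelProj.IsRelTwist 𝒮 p chart 1 O1 lam) (hinv : PicF.IsInvertible O1) [IsProper p] (δP : P → ℤ) (hPs : Cyc.IsSetup P δP) (hδ : Cyc.DeltaCompat p δP δ) (k : ℤ) (α : AlgebraicCycle X ℤ) (hα : α ∈ Cyc.Zk X δ k) (t : ℕ → (ξ : P) → Cyc.secFibre O1 ξ) (ht : ∀ i ξ, t i ξ ≠ 0) (γ : ℕ → P → ℤ) (hγ0 : γ 0 = Cyc.pullFun p δP δ ((r : ℤ) - 1) ⇑α) (hγs : ∀ i : ℕ, γ (i + 1) = Cyc.c1CapFun δP O1 (γ i) (t i)) (s : ℕ) (β : AlgebraicCycle P ℤ) (hβ : ⇑β = γ s) : (s + 1 < r → Cyc.RatEquivZero δ (k + r - 1 - s) (AlgebraicCycle.map p δP δ β)) ∧ (s + 1 = r → Cyc.RatEquiv δ k (AlgebraicCycle.map p δP δ β) α) := by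
  obtain ⟨n, rfl⟩ : ∃ n, r = n + 1 := ⟨r - 1, by omega⟩
  have hB : PBundle.Bundle n p O1 := PBundle.of_isGrSymAlg hq hE hS hP hO1
  rw [show (((n + 1 : ℕ) : ℤ) - 1) = (n : ℤ) by push_cast; ring] at hγ0
  have hγ : ∀ m, γ m = Cyc.c1PowFun δP O1 t m (Cyc.pullFun p δP δ n ⇑α) := by
    intro m
    induction m with
    | zero => exact hγ0
    | succ m ih => rw [hγs, ih]; rfl
  obtain ⟨β', hβ', hβk⟩ := PBPush.exists_pow_pull hB hX hPs hδ α hα t ht s
  obtain rfl : β = β' := DFunLike.coe_injective (by rw [hβ, hγ, hβ'])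
  refine ⟨fun hs => ?_, fun hs => ?_⟩
  · rw [PBPush.map_eq_zero hX α hα t (by omega : s < n) β hβ' hβk]
    exact RatRel.zero
  · obtain rfl : s = n := by omega
    rw [PBPush.map_eq hB hX hPs hδ α hα t ht β hβ' (by simpa using hβk)]
    exact RatRel.refl α

end Groth.Agent.S6489
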