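import Groth.Statements.S6493
import Mathlib

set_option autoImplicit false
universe u
open CategoryTheory AlgebraicGeometry
open Cyc

namespace Groth.Agent.S6493

/-- Suppose Z ⊂ X is a closed subscheme whose δ-dimension is at most k, and pick a point ξ of Z
satisfying δ(ξ) = k. In that case Z has an irreducible component whose generic point is ξ; and at
every generic point ξ' of an irreducible component of Z (every point of Z maximal under
generalization) the length of O_{Z,ξ'} over O_{X,ξ'} (= its length over itself) is finite. Here a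
pair (X, δ) with Cyc.IsSetup plays the role of a scheme locally of finite type over the base (S, δ)
(X locally Noetherian with universally catenary local rings, δ a dimension function). -/
theorem result (X Z : Scheme.{u}) (δ : X → ℤ) (hX : Cyc.IsSetup X δ) (i : Z ⟶ X) [IsClosedImmersion i] (k : ℤ) (hZ : ∀ z : Z, δ (i z) ≤ k) (ξ : Z) (hξ : δ (i ξ) = k) : (∀ z : Z, z ⤳ ξ → z = ξ) ∧ ∀ ξ' : Z, (∀ z : Z, z ⤳ ξ' → z = ξ') → Module.length ↑(Z.presheaf.stalk ξ') ↑(Z.presheaf.stalk ξ') < ⊤ := by
  haveI := hX.1
  haveI : IsLocallyNoetherian Z := LocallyOfFiniteType.isLocallyNoetherian i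
  refine ⟨fun z hz => ?_, fun ξ' h => ?_⟩
  · by_contra hne
    have := (hX.2.2 (i z) (i ξ) (hz.map i.continuous) fun e => hne (i.isClosedEmbedding.injective e)).1
    have := hZ z
    omega
  · haveI : Ring.KrullDimLE 0 (Z.presheaf.stalk ξ') := by
      refine Ring.krullDimLE_zero_iff.mpr fun I hI => ?_
      have h1 := h (Z.fromSpecStalk ξ' (⟨I, hI⟩ : PrimeSpectrum (Z.presheaf.stalk ξ'))) (by
        have : Z.fromSpecStalk ξ' (⟨I, hI⟩ : PrimeSpectrum (Z.presheaf.stalk ξ')) ∈ Set.range (Z.fromSpecStalk ξ') := ⟨_, rfl⟩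
        rwa [Scheme.range_fromSpecStalk] at this)
      have h2 : (⟨I, hI⟩ : PrimeSpectrum (Z.presheaf.stalk ξ')) = IsLocalRing.closedPoint (Z.presheaf.stalk ξ') :=
        (Z.fromSpecStalk ξ').isEmbedding.injective (h1.trans (Scheme.fromSpecStalk_closedPoint).symm)
      have h3 : I = IsLocalRing.maximalIdeal _ := congrArg PrimeSpectrum.asIdeal h2
      exact h3 ▸ IsLocalRing.maximalIdeal.isMaximal _
    haveI : IsArtinianRing (Z.presheaf.stalk ξ') := isArtinianRing_iff_isNoetherianRing_krullDimLE_zero.mpr ⟨inferInstance, inferInstance⟩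
    exact lt_top_iff_ne_top.mpr Module.length_ne_top

end Groth.Agent.S6493
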