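import Groth.Statements.S6494
import Groth.Agent.H3Cyc.P1Fam
import Groth.Agent.H3Cyc.SetupLft
import Groth.Agent.H3Cyc.BCPush

set_option autoImplicit false
set_option linter.style.haveILetI false
set_option backward.isDefEq.respectTransparency.types false
universe u
open CategoryTheory CategoryTheory.Limits AlgebraicGeometry
attribute [local instance] HasDerivedCategory.standard
open IntMult

namespace Groth.Agent.S6494

open Groth.Agent Groth.Agent.H3Cyc

/-- Let X → P be a closed immersion of nonsingular varieties and C' ⊂ P × P^1 a closed subvariety of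
dimension r + 1 with (1) the fibre C = C'_0 of dimension r (C' → P^1 dominant), (2) C' and X × P^1
intersecting properly, (3) [C]_r and X intersecting properly. Then, with α = [C]_r · X and β = C' ·
(X × P^1), one has α = pr_{X,*}(β · (X × 0)). Stated on P × P^1: α = pr_*((C' · (X × P^1)) · (P ×
0)) as cycles on P. (The published statement takes the product of β with X × 0 on X × P^1 and pushes
it forward along X × P^1 → X; this row takes the product of C′ · (X × P^1) with P × 0 on P × P^1 and
pushes it forward along P × P^1 → P, which is the same cycle on P.) Encoding: P × P^1 =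
CohB1.ProjSpaceOver 1 P with projection pr and zero section P1.sect P 0; dimension functions δP, δ'
(transcendence degree); C'_0 is the pullback of C' along the zero section and [C]_r its r-cycle
(Cyc.subschemeFun); X × P^1 and P × 0 enter as the prime cycles of their generic points; products
are IntMult.interProd on P (dim N_P) and on P × P^1 (dim N_P + 1). Here P and X are nonsingular
varieties over the algebraically closed field K (smooth, separated, quasi-compact, integral), δP is
the dimension function on P (transcendence degree over K, recorded by Cyc.DeltaCompat to Spec K with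
value 0, together with Cyc.IsSetup), N_P = δP of the generic point of P and n = δP of the generic
point of X; proper intersection is IntMult.IntersectProperly / IntMult.ProperInt and products are
IntMult.interProd. -/
theorem result (K : Type u) [Field K] [IsAlgClosed K] (P : Scheme.{u}) (fP : P ⟶ Spec (CommRingCat.of K)) [Smooth fP] [IsSeparated fP] [QuasiCompact fP] [IsIntegral P] (δP : P → ℤ) (hP : Cyc.IsSetup P δP) (hδP : Cyc.DeltaCompat fP δP (fun _ => 0)) (NP : ℕ) (hNP : δP (genericPoint P) = NP) (δ' : ↥(CohB1.ProjSpaceOver 1 P) → ℤ) (hP' : Cyc.IsSetup (CohB1.ProjSpaceOver 1 P) δ') (hδ' : Cyc.DeltaCompat (CohB1.ProjSpaceOver.toBase 1 P) δ' δP) [QuasiCompact (CohB1.ProjSpaceOver.toBase 1 P)] (X : Scheme.{u}) (fX : X ⟶ Spec (CommRingCat.of K)) [Smooth fX] [IsSeparated fX] [QuasiCompact fX] [IsIntegral X] (ι : X ⟶ P) [IsClosedImmersion ι] (hι : ι ≫ fP = fX) (n : ℕ) (hn : δP (ι (genericPoint X)) = n) (ζX : ↥(CohB1.ProjSpaceOver 1 P)) (hζ1 : CohB1.ProjSpaceOver.toBase 1 P ζX = ι (genericPoint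 X)) (hζ2 : δ' ζX = n + 1) (C' : Scheme.{u}) [IsIntegral C'] (ι' : C' ⟶ CohB1.ProjSpaceOver 1 P) [IsClosedImmersion ι'] (r : ℕ) (hr : δ' (ι' (genericPoint C')) = r + 1) (hC0 : ∀ w : ↥(pullback ι' (P1.sect P 0)), δP (pullback.snd ι' (P1.sect P 0) w) ≤ r) (hC0ne : Nonempty ↥(pullback ι' (P1.sect P 0))) (h2 : IntMult.ProperInt (closure {ι' (genericPoint C')}) (⇑(CohB1.ProjSpaceOver.toBase 1 P) ⁻¹' Set.range ⇑ι) (NP + 1) (r + 1) (n + 1)) (h3 : IntMult.IntersectProperly δP NP (Cyc.subschemeFun δP r (pullback.snd ι' (P1.sect P 0))) (Set.indicator {ι (genericPoint X)} 1)) (B : AlgebraicCycle (CohB1.ProjSpaceOver 1 P) ℤ) (hB : ⇑B = IntMult.interProd δ' (NP + 1) (IntMult.interProd δ' (NP + 1) (Set.indicator {ι' (genericPoint C')} 1) (Set.indicator {ζX} 1)) (Set.indicator {P1.sect P 0 (genericPoint P)} 1)) : ⇑(AlgebraicCycle.map (CohB1.ProjSpaceOver.toBase 1 P) δ' δP B) = IntMult.interProd δP NP (Cyc.subschemeFun δP r (pullback.snd ι' (P1.sect P 0))) (Set.indicator {ι (genericPoint X)} 1) := by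
  classical
  haveI := hP.1
  haveI := hP'.1
  haveI : CompactSpace P := (quasiCompact_iff_compactSpace fP).mp inferInstance
  haveI : CompactSpace (CohB1.ProjSpaceOver 1 P) :=
    (quasiCompact_iff_compactSpace (CohB1.ProjSpaceOver.toBase 1 P ≫ fP)).mp inferInstance
  haveI : IsNoetherian (CohB1.ProjSpaceOver 1 P) := {}
  haveI : IsNoetherian P := {}
  haveI := P1Prod.isIntegral_proj (X := P) fP
  have hPK : Cyc.DeltaCompat (CohB1.ProjSpaceOver.toBase 1 P ≫ fP) δ' (fun _ => 0) := BCPush.deltaCompat_comp _ fP hδ' hδP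
  have hst : KFam.Strict δP := KFam.strict_of_isSetup hP
  set π := CohB1.ProjSpaceOver.toBase 1 P with hπ
  set v := ι (genericPoint X) with hv
  set w := ι' (genericPoint C') with hw
  set z := P1.sect P 0 (genericPoint P) with hz
  obtain ⟨k, hk⟩ : ∃ k : ℤ, k = (r : ℤ) + n - NP := ⟨_, rfl⟩
  have hvζ : ζX = H3CAlg.ProdPt.sig π v := by
    refine ((H3CAlg.ChiMain.eq_of_specializes (π ≫ fP) δ' hPK (H3CAlg.ProdPt.sig_specializes π hζ1)).2 ?_).symm
    rw [P1Prod.delta_sig hδ', hn, hζ2]
  subst hvζ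
  haveI : IsClosedImmersion (P1.sect P 0) := P1C.isClosedImmersion_sect 0
  have hwi : w ∉ Set.range (P1.sect P 0) := by
    rintro ⟨y, hy⟩
    obtain ⟨q, -, hq⟩ := Scheme.Pullback.exists_preimage_pullback (f := ι') (g := P1.sect P 0) (genericPoint C') y hy.symm
    have h4 := hC0 q
    rw [hq] at h4
    rw [← hy, P1C.delta_sect hδ'] at hr
    omega
  set G := (Scheme.Modules.pullback (P1.sect P 0)).obj (H3CAlg.PrimeMod.primeMod w) with hG
  have hGfun : Cyc.subschemeFun δP r (pullback.snd ι' (P1.sect P 0)) = Cyc.sheafFun δP r G :=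
    funext fun x => (P1Fam.sheafFun_pushO ι' r 0 x).symm
  have hC : ∀ y : P, v ⤳ y → w ⤳ P1.sect P 0 y → δP y ≤ k := by
    intro y hvy hwy
    obtain ⟨q, hqy, hpos⟩ := P1Fam.exists_top fP hP hPK hδ' (r : ℤ) w hr 0 hwi y hwy
    have h4 := h3 q v y (by rw [hGfun]; exact hpos.ne') (by simp) hqy hvy
    have h5 : δP q = r := (H3CAlg.ChiMain.nontrivial_of_sheafFun_ne_zero _ _ _ hpos.ne').1
    rw [h5, hn] at h4
    omega
  have hB' : ⇑B = IntMult.interProd δ' (NP + 1) (Set.indicator {z} 1)
      (IntMult.interProd δ' (NP + 1) (Set.indicator {H3CAlg.ProdPt.sig π v} 1) (Set.indicator {w} 1)) := by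
    rw [hB, H3CAlg.ChiTriple.interProd_comm δ' _ _ (Set.indicator {z} 1),
      H3CAlg.ChiTriple.interProd_comm δ' _ (Set.indicator {w} 1)]
  have hzr : ∀ p, z ⤳ p → p ∈ Set.range (P1.sect P 0) := fun p h =>
    h.mem_closed (P1.sect P 0).isClosedEmbedding.isClosed_range ⟨_, rfl⟩
  have hδz : δ' z = NP := (P1C.delta_sect hδ' 0 _).trans hNP
  have hsupp : ∀ p, B p ≠ 0 → p ∈ Set.range (P1.sect P 0) ∧ δ' p = k := fun p hp => by
    rw [hB'] at hp
    by_contra hcon
    refine hp (H3CAlg.ChiTriple.interProd_single_left_eq_zero δ' _ z _ p fun η hzp hη he => ?_)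
    by_contra hne
    obtain ⟨-, -, he'⟩ := H3CAlg.ChiTriple.interProd_single_single_ne_zero δ' _ _ w η hne
    rw [P1Prod.delta_sig hδ', hn, hr] at he'
    rw [hδz] at he
    exact hcon ⟨hzr p hzp, by omega⟩
  funext x
  rw [hGfun, H3CAlg.ChiTriple.interProd_comm δP _ _ (Set.indicator {v} 1)]
  show ∑ᶠ p ∈ π ⁻¹' {x}, B p * ((AlgebraicCycle.mapCoeff π δ' δP p : ℕ) : ℤ) = _
  by_cases hx : δP x = k
  · have hS : ((AlgebraicCycle.mapCoeff π δ' δP (P1.sect P 0 x) : ℕ) : ℤ) = 1 := by
      rw [AlgebraicCycle.mapCoeff, if_pos (by rw [P1C.toBase_sect, P1C.delta_sect hδ']),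
        ← Gysin.residueDegree_immersion_comp (P1.sect P 0) π x, P1C.sect_toBase, Gysin.residueDegree_immersion]
      simp
    rw [finsum_mem_eq_sum_of_subset _ (t := {P1.sect P 0 x}) ?_ ?_, Finset.sum_singleton, hS, mul_one, hB',
      P1Fam.interProd_fibre fP hδP hP hPK hδ' NP hNP n r k (by omega) v hn w hr 0 hwi hC x hx]
    · rintro p ⟨hpx, hp⟩
      obtain ⟨⟨y, rfl⟩, -⟩ := hsupp p (left_ne_zero_of_mul hp)
      rw [Set.mem_preimage, P1C.toBase_sect, Set.mem_singleton_iff] at hpx
      simp [hpx]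
    · intro p hp
      simp only [Finset.coe_singleton, Set.mem_singleton_iff] at hp
      subst hp
      exact P1C.toBase_sect _ x
  · rw [finsum_mem_eq_zero_of_forall_eq_zero fun p hp => ?_]
    · refine (H3CAlg.ChiTriple.interProd_single_left_eq_zero δP _ v _ x fun η _ _ he => ?_).symm
      by_contra hne
      rw [hn, (H3CAlg.ChiMain.nontrivial_of_sheafFun_ne_zero _ _ _ hne).1] at he
      exact hx (by omega)
    · by_cases hp0 : B p = 0
      · rw [hp0, zero_mul]
      · obtain ⟨⟨y, rfl⟩, hd⟩ := hsupp p hp0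
        rw [Set.mem_preimage, P1C.toBase_sect, Set.mem_singleton_iff] at hp
        rw [P1C.delta_sect hδ', hp] at hd
        exact absurd hd hx

end Groth.Agent.S6494
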