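import Groth.Statements.S6495
import Groth.Agent.H3Cyc.Limit
-- import your own Groth.Agent.* helpers here

set_option autoImplicit false
universe u
open CategoryTheory AlgebraicGeometry
set_option backward.isDefEq.respectTransparency.types false
open Cyc
open Groth.Agent.H3Cyc

namespace Groth.Agent.S6495

/-- Surjectivity of colim Z_k(X_i) → Z_k(X'): every k-cycle α' on the limit X' is g_i^*α for some i and
some k-cycle α on X_i, where g_i : X' → X_i is the projection and g_i^* the shift-0 base-change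
pullback on coefficient functions. Setting: a directed inverse system (X_i) of quasi-compact schemes
with affine flat transition morphisms and limit X' (a limit cone), each X_i and X' carrying a
dimension function with Cyc.IsSetup, and every transition map and every projection X' → X_i shifting
the dimension functions by c = 0 at generic points of fibres, so that the base-change pullbacks g^*
are Cyc.pullFun with shift 0. (The published statement takes X_i and X′ to be the base changes of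
one quasi-compact scheme of finite type over a base S along S_i → S and lim S_i → S; this row allows
any such inverse system.) -/
theorem result (I : Type u) [Preorder I] [IsDirected I (fun a b => a ≤ b)] [Nonempty I] (D : Iᵒᵖ ⥤ Scheme.{u}) (c : Limits.Cone D) (hc : Limits.IsLimit c) (haff : ∀ (i j : Iᵒᵖ) (f : i ⟶ j), IsAffineHom (D.map f)) (hflat : ∀ (i j : Iᵒᵖ) (f : i ⟶ j), Flat (D.map f)) (hqc : ∀ i, CompactSpace ↥(D.obj i)) (δ : (i : Iᵒᵖ) → ↥(D.obj i) → ℤ) (δ' : ↥c.pt → ℤ) (hset : ∀ i, Cyc.IsSetup (D.obj i) (δ i)) (hset' : Cyc.IsSetup c.pt δ') (hshift : ∀ (i j : Iᵒᵖ) (f : i ⟶ j) (x : ↥(D.obj i)), (∀ y, D.map f y = D.map f x → y ⤳ x → y = x) → δ i x = δ j (D.map f x)) (hflat' : ∀ i, Flat (c.π.app i)) (hshift' : ∀ (i : Iᵒᵖ) (x : ↥c.pt), (∀ y, c.π.app i y = c.π.app i x → y ⤳ x → y = x) → δ' x = δ i (c.π.app i x)) (k : ℤ) (α' : AlgebraicCycle c.pt ℤ) (hα' : α' ∈ Cyc.Zk c.pt δ' k) : ∃ (i : Iᵒᵖ) (α : AlgebraicCycle (D.obj i) ℤ), α ∈ Cyc.Zk (D.obj i) (δ i) k ∧ Cyc.pullFun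 (c.π.app i) δ' (δ i) 0 ⇑α = ⇑α' := by
  haveI : ∀ (i j : Iᵒᵖ) (f : i ⟶ j), IsAffineHom (D.map f) := haff
  haveI : ∀ (i j : Iᵒᵖ) (f : i ⟶ j), Flat (D.map f) := hflat
  haveI : ∀ i, CompactSpace ↥(D.obj i) := hqc
  haveI : ∀ i, Flat (Limit.pr c i) := hflat'
  haveI := hset'.1
  haveI : CompactSpace c.pt := Scheme.compactSpace_of_isLimit D c hc
  have hD : ∀ (i j : Iᵒᵖ) (f : i ⟶ j), FlatRat.MaxDim (D.map f) (δ i) (δ j) 0 := fun i j f x hx => by rw [hshift i j f x hx, add_zero]
  have hπ : ∀ i, FlatRat.MaxDim (Limit.pr c i) δ' (δ i) 0 := fun i x hx => (hshift' i x hx).trans (add_zero _).symm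
  obtain ⟨i₀⟩ := (inferInstance : Nonempty Iᵒᵖ)
  obtain ⟨j, -, α, hα, h⟩ := Limit.exists_pullFun_eq hc hset hset' hπ i₀ k α' hα'
  exact ⟨j, α, hα, h⟩

end Groth.Agent.S6495
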