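import Groth.Statements.S6499
import Mathlib
import Groth.Agent.H22Alg.CycBasic
import Groth.Agent.H10Coh.Support
import Groth.Agent.H10Coh.SerreVanishing2

set_option autoImplicit false
universe u
open CategoryTheory AlgebraicGeometry
open Cyc

namespace Groth.Agent.S6499

/-- Suppose X and Y are schemes locally of finite type over the base, and π : X → Y is a morphism
between them that is finite. Then π_* sends Coh_{≤k}(X) into Coh_{≤k}(Y): for F coherent on X with
dim_δ Supp(F) ≤ k, the direct image π_*F is coherent with dim_δ Supp(π_*F) ≤ k (Cyc.CohLe).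
(Exactness of π_* and the commutative diagram with the cycle maps are not restated; the latter is
the existing compatibility of [−]_k with π_*.) Here a pair (X, δ) with Cyc.IsSetup plays the role of
a scheme locally of finite type over the base (S, δ) (X locally Noetherian with universally catenary
local rings, δ a dimension function), and Cyc.DeltaCompat records that the dimension function
upstairs is the induced one. -/
theorem result (X Y : Scheme.{u}) (δX : X → ℤ) (δY : Y → ℤ) (hX : Cyc.IsSetup X δX) (hY : Cyc.IsSetup Y δY) (π : X ⟶ Y) [IsFinite π] (hδ : Cyc.DeltaCompat π δX δY) (k : ℤ) (F : X.Modules) (hF : Cyc.CohLe δX k F) : Cyc.CohLe δY k ((Coh.push π).obj F) := by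
  haveI := hX.1
  haveI := hY.1
  refine ⟨H10Coh.isCoh_push_of_isFinite π F hF.1, fun y hy => ?_⟩
  by_cases hmem : y ∈ π.base '' CohB1.support F
  · obtain ⟨x, hx, rfl⟩ := hmem
    exact (H22Alg.CycBasic.delta_le π hδ x).trans (hF.2 x (not_subsingleton_iff_nontrivial.1 hx))
  · exfalso
    refine not_subsingleton_iff_nontrivial.2 hy (subsingleton_of_forall_eq 0 fun a => ?_)
    obtain ⟨U, hyU, t, rfl⟩ := TopCat.Presheaf.exists_germ_eq _ a
    let V : Y.Opens := U ⊓ ⟨(π.base '' CohB1.support F)ᶜ,
      (π.isClosedMap _ (H10Coh.isClosed_support F hF.1.2)).isOpen_compl⟩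
    rw [← TopCat.Presheaf.germ_res_apply _ (homOfLE (inf_le_left : V ≤ U)) y ⟨hyU, hmem⟩]
    have h0 : ((Coh.push π).obj F).presheaf.map (homOfLE (inf_le_left : V ≤ U)).op t = 0 := by
      refine TopCat.Presheaf.section_ext ⟨F.presheaf, F.isSheaf⟩ (π ⁻¹ᵁ V) _ _ fun x hx => ?_
      haveI : Subsingleton (F.presheaf.stalk x) := by
        by_contra hn
        exact hx.2 ⟨x, hn, rfl⟩
      exact Subsingleton.elim _ _
    rw [h0, map_zero]

end Groth.Agent.S6499
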