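import Groth.Statements.S6502
import Groth.Agent.S2168

set_option autoImplicit false
set_option linter.style.haveILetI false
set_option linter.deprecated false
universe u
open LCI

namespace Groth.Agent.S6502

theorem ci_generalize {A : Type u} [CommRing A] [IsNoetherianRing A] {m : Ideal A} [m.IsPrime]
    (h : Pi1.IsCompleteIntersection (Localization.AtPrime m)) (p : Ideal A) [p.IsPrime] (hpm : p ≤ m) :
    Pi1.IsCompleteIntersection (Localization.AtPrime p) := by
  haveI : IsNoetherianRing (Localization.AtPrime m) := IsLocalization.isNoetherianRing m.primeCompl _ inferInstance
  have hdisj : Disjoint (m.primeCompl : Set A) (p : Set A) :=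
    Set.disjoint_left.mpr fun x hx hxp => hx (hpm hxp)
  let q : Ideal (Localization.AtPrime m) := p.map (algebraMap A (Localization.AtPrime m))
  haveI : q.IsPrime := IsLocalization.isPrime_of_isPrime_disjoint m.primeCompl _ p inferInstance hdisj
  have hq : q.comap (algebraMap A (Localization.AtPrime m)) = p :=
    IsLocalization.comap_map_of_isPrime_disjoint m.primeCompl (Localization.AtPrime m) (I := p) inferInstance hdisj
  have h1 := Groth.Agent.S2168.result h q
  have key : ∀ (p' : Ideal A) [p'.IsPrime], q.comap (algebraMap A (Localization.AtPrime m)) = p' →
      IsLocalization.AtPrime (Localization.AtPrime q) p' := by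
    intro p' _ he
    subst he
    exact IsLocalization.isLocalization_isLocalization_atPrime_isLocalization (M := m.primeCompl) (Localization.AtPrime q) q
  haveI : IsLocalization.AtPrime (Localization.AtPrime q) p := key p hq
  haveI : IsNoetherianRing (Localization.AtPrime q) := IsLocalization.isNoetherianRing q.primeCompl _ inferInstance
  exact (H13CI.isCI_congr (IsLocalization.algEquiv p.primeCompl (Localization.AtPrime q)
    (Localization.AtPrime p)).toRingEquiv).mp h1

/-- A Noetherian ring A is a local complete intersection (every localization A_p at a prime is a
complete intersection, that is, its completion is a regular complete local ring modulo a regular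
sequence) exactly when, for each maximal ideal m of A, the localization A_m is itself a complete
intersection. -/
theorem result {A : Type u} [CommRing A] [IsNoetherianRing A] :
    (∀ (p : Ideal A) [p.IsPrime], Pi1.IsCompleteIntersection (Localization.AtPrime p)) ↔
    (∀ (m : Ideal A) [m.IsMaximal], Pi1.IsCompleteIntersection (Localization.AtPrime m)) := by
  refine ⟨fun h m _ => h m, fun h p hp => ?_⟩
  obtain ⟨m, hm, hpm⟩ := p.exists_le_maximal hp.ne_top
  exact ci_generalize (h m) p hpm

end Groth.Agent.S6502
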