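import Groth.Statements.S6515
import Groth.Agent.H16Derived.Dual.RestrictR

set_option autoImplicit false
universe u
open CategoryTheory
attribute [local instance] HasDerivedCategory.standard
open DCoh

namespace Groth.Agent.S6515

open AlgebraicGeometry in
/-- For a scheme X, internal hom in D(O_X) commutes with restriction to an open U: RHom(K, M)|_U ≅
RHom(K|_U, M|_U). Here RHom(K, −) and RHom(K|_U, −) are the right adjoints of − ⊗^L K and − ⊗^L
K|_U, taken under existence binders, and the assertion is the existence of an isomorphism in D(O_U).
(The published statement is for ringed spaces; this row is for schemes.) -/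
theorem result {X : Scheme.{u}} (U : X.Opens) (K : CochainComplex X.Modules ℤ)
    [DCoh.HasLTensorCx K] [DCoh.HasRSheafHom K]
    [DCoh.HasLTensorCx ((DCoh.restrictCx U).obj K)] [DCoh.HasRSheafHom ((DCoh.restrictCx U).obj K)]
    [CategoryTheory.Limits.PreservesFiniteLimits (Scheme.Modules.restrictFunctor U.ι)] (M : DCoh.D X) :
    Nonempty ((DCoh.restrictD U.ι).obj ((DCoh.RSheafHom K).obj M) ≅
      (DCoh.RSheafHom ((DCoh.restrictCx U).obj K)).obj ((DCoh.restrictD U.ι).obj M)) := by
  exact Groth.Agent.H16Derived.Dual.nonempty_restrictD_RSheafHom_iso U K M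

end Groth.Agent.S6515
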