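import Groth.Statements.S6516
import Groth.Agent.H16Derived.KFlat.StrictPerfCone

set_option autoImplicit false
universe u
open CategoryTheory
open DCoh

namespace Groth.Agent.S6516

open AlgebraicGeometry in
/-- Schemes; with the bounded finite-locally-free reading of strictly perfect used throughout this
problem's derived-category definitions: the mapping cone of a morphism between strictly perfect
complexes of O_X-modules is strictly perfect. -/
theorem result {X : Scheme.{u}} {E F : CochainComplex X.Modules ℤ} (φ : E ⟶ F)
    (hE : DCoh.IsStrictlyPerfect E) (hF : DCoh.IsStrictlyPerfect F) :
    DCoh.IsStrictlyPerfect (CochainComplex.mappingCone φ) := by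
  exact Groth.Agent.H16Derived.KFlat.Stalk.isStrictlyPerfect_mappingCone φ hE hF

end Groth.Agent.S6516
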