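import Groth.Statements.S6521
import Groth.Agent.H15Site.RlimTruncApps

set_option autoImplicit false
universe u
open CategoryTheory
open CohTop

namespace Groth.Agent.S6521

open TopologicalSpace CategoryTheory.Limits in
/-- Let E be an object of the derived category of abelian sheaves on a topological space X. Assume there
are a function p : ℤ → ℤ and a basis B of opens of X such that H^k(U, H^{m-k}(E)) = 0 for every U in
B, every m and every k > p(m). Then E is a derived limit of the tower of its truncations τ_{≥ -n} E
through the canonical maps. The countable product of the truncations is assumed to exist. (The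
published statement is for D(O_X) of a ringed space; this row is for abelian sheaves on a
topological space.) -/
theorem result {X : TopCat.{u}}
    [HasDerivedCategory.{u} (CohTop.Ab X)] (E : DerivedCategory (CohTop.Ab X))
    [HasProduct (CohCx.truncTower E)] (B : Set (Opens X)) (hB : Opens.IsBasis B) (p : ℤ → ℤ)
    (h : ∀ U ∈ B, ∀ (m : ℤ) (k : ℕ), p m < k → Subsingleton (CohTop.HU (CohCx.HD E (m - k)) k U)) :
    CohCx.IsRlimVia (CohCx.truncTower E) (CohCx.truncTowerMap E) E (CohCx.toTruncTower E) := by
  refine H15Site.RlimTruncApps.isRlimVia_truncTower_opens E fun x => ⟨p, fun V hV => ?_⟩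
  obtain ⟨U, hU, h1, h2⟩ := TopologicalSpace.Opens.isBasis_iff_nbhd.1 hB hV
  exact ⟨U, h1, h2, fun m k hk => h U hU m k hk⟩

end Groth.Agent.S6521
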