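import Groth.Statements.S6524
import Groth.Agent.H15Site.GenFamily
import Groth.Agent.H15Site.SiteInst
import Groth.Prelude.Def_FreeSh

open Groth.Agent.H15Site
open scoped ZeroObject

set_option linter.style.haveILetI false
open CategoryTheory CategoryTheory.Limits Opposite

set_option autoImplicit false
universe u
open CategoryTheory
open CohSite

namespace Groth.Agent.S6524

section

attribute [local instance 10000] SiteInst.hasSheafifySite SiteInst.hasWeakSheafifySite

open CategoryTheory.Limits Opposite in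
theorem detects_freeSheaf {C : Type u} [SmallCategory C] (J : GrothendieckTopology C) :
    GenFamily.Detects (fun X : C => CohCx.freeSheaf J X) := by
  intro A B p _ hp
  by_contra hcon
  push Not at hcon
  refine hp ?_
  haveI : ∀ U : Cᵒᵖ, IsIso (p.hom.app U) := fun U => by
    haveI : Mono ((sheafToPresheaf J AddCommGrpCat.{u}).map p) := inferInstance
    rw [ConcreteCategory.isIso_iff_bijective]
    refine ⟨(AddCommGrpCat.mono_iff_injective _).1
      (inferInstanceAs (Mono ((sheafToPresheaf J AddCommGrpCat.{u} ⋙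
        (evaluation Cᵒᵖ AddCommGrpCat.{u}).obj U).map p))), fun s => ?_⟩
    obtain ⟨a, ha⟩ := hcon U.unop (CohFree.ofSect J U.unop B s)
    exact ⟨CohFree.evalGen J U.unop A a, (congrArg (CohFree.evalGen J U.unop B) ha).trans
      (CohFree.evalGen_ofSect J U.unop B s)⟩
  haveI : IsIso p.hom := NatIso.isIso_of_isIso_app _
  haveI : IsIso ((sheafToPresheaf J AddCommGrpCat.{u}).map p) := ‹IsIso p.hom›
  exact isIso_of_reflects_iso p (sheafToPresheaf J AddCommGrpCat.{u})
end

/-- Let (C, J) be a small site and I an abelian sheaf. Suppose that for every object X of C, every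
abelian subsheaf S of the free abelian sheaf Z_X^# on X (given as a monomorphism S → Z_X^#) and
every morphism S → I, the morphism extends to Z_X^# → I. Then I is an injective abelian sheaf. -/
theorem result {C : Type u} [SmallCategory C]
    (J : GrothendieckTopology C) (I : Sheaf J AddCommGrpCat.{u})
    (h : ∀ (X : C) (S : Sheaf J AddCommGrpCat.{u}) (i : S ⟶ CohCx.freeSheaf J X) [Mono i] (φ : S ⟶ I),
      ∃ ψ : CohCx.freeSheaf J X ⟶ I, i ≫ ψ = φ) :
    Injective I := by
  refine ⟨fun {A B} g i hi => ?_⟩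
  rcases isEmpty_or_nonempty C with hC | hC
  · refine ⟨0, ?_⟩
    ext U
    exact (hC.false U.unop).elim
  · have hp : (GenFamily.generatingMonomorphisms (fun X : C => CohCx.freeSheaf J X)).rlp
        (0 : I ⟶ (0 : Sheaf J AddCommGrpCat.{u})) := by
      rintro _ _ _ ⟨⟨X, S⟩⟩
      refine ⟨fun {f g} sq => ?_⟩
      obtain ⟨ψ, hψ⟩ := h X _ S.arrow f
      exact ⟨⟨⟨ψ, hψ, Limits.comp_zero.trans ((Limits.isZero_zero _).eq_of_tgt _ _)⟩⟩⟩
    rw [GenFamily.generatingMonomorphisms_rlp.{u} (detects_freeSheaf J)] at hp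
    haveI := hp i hi
    obtain ⟨l⟩ := (HasLiftingProperty.sq_hasLift (i := i)
      (p := (0 : I ⟶ (0 : Sheaf J AddCommGrpCat.{u})))
      (show CommSq g i (0 : I ⟶ (0 : Sheaf J AddCommGrpCat.{u})) 0 from ⟨(Limits.isZero_zero _).eq_of_tgt _ _⟩)).exists_lift
    exact ⟨l.l, l.fac_left⟩

end Groth.Agent.S6524
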