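import Groth.Statements.S6532
import Groth.Agent.H11Tor.Nilpotent

set_option autoImplicit false
universe u
open LCI

namespace Groth.Agent.S6532

/-- Let R' → R be a surjection of Noetherian rings whose kernel is generated by a single element f and
has square zero; let I ⊆ R be the image of the annihilator of f. Let S = R[x_1, …, x_n]/(f_1, …,
f_m) and let ∑ r_j f_j = 0 be a relation in R[x_1, …, x_n] such that (1) every coefficient of every
r_j lies in I, and (2) there are lifts r'_j, f'_j in R'[x_1, …, x_n] and an element g with ∑ r'_j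
f'_j = f g, where g maps to a non-nilpotent element of S/IS. Under these hypotheses, the
Tor-dimension of S over R is infinite (so S fails to be a perfect R-algebra). -/
theorem result {R' R : Type u} [CommRing R'] [CommRing R]
    [IsNoetherianRing R'] [IsNoetherianRing R] (π : R' →+* R) (hπ : Function.Surjective π)
    (f : R') (hker : RingHom.ker π = Ideal.span {f}) (hf : f * f = 0)
    {n m : ℕ} (fs r : Fin m → MvPolynomial (Fin n) R) (hrel : ∑ j, r j * fs j = 0)
    (h1 : ∀ (j : Fin m) (d : Fin n →₀ ℕ),
      MvPolynomial.coeff d (r j) ∈ ((Ideal.span {f}).annihilator).map π)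
    (r' f' : Fin m → MvPolynomial (Fin n) R') (g : MvPolynomial (Fin n) R')
    (hr' : ∀ j, MvPolynomial.map π (r' j) = r j) (hf' : ∀ j, MvPolynomial.map π (f' j) = fs j)
    (hsum : ∑ j, r' j * f' j = MvPolynomial.C f * g)
    (hg : ¬ IsNilpotent (Ideal.Quotient.mk
      (Ideal.span (Set.range fs) ⊔ (((Ideal.span {f}).annihilator).map π).map MvPolynomial.C)
      (MvPolynomial.map π g))) :
    ¬ DRing.HasFiniteTorDim R (MvPolynomial (Fin n) R ⧸ Ideal.span (Set.range fs)) := by
  classical
  intro htor
  let ρ : MvPolynomial (Fin n) R' →+* MvPolynomial (Fin n) R := MvPolynomial.map π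
  have hkρ : ∀ a, ρ a = 0 ↔ ∃ c, a = MvPolynomial.C f * c := by
    intro a
    rw [← RingHom.mem_ker, show RingHom.ker ρ = (RingHom.ker π).map MvPolynomial.C from MvPolynomial.ker_map π, hker,
      Ideal.map_span, Set.image_singleton, Ideal.mem_span_singleton]
    exact Iff.rfl
  have hJ : ∀ a : MvPolynomial (Fin n) R', MvPolynomial.C f * a = 0 ↔
      a ∈ ((Ideal.span {f}).annihilator).map MvPolynomial.C := by
    intro a
    rw [MvPolynomial.mem_map_C_iff, MvPolynomial.ext_iff]
    refine forall_congr' fun e => ?_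
    rw [MvPolynomial.coeff_C_mul, MvPolynomial.coeff_zero, Submodule.mem_annihilator_span_singleton, smul_eq_mul, mul_comm]
  have hI : (((Ideal.span {f}).annihilator).map MvPolynomial.C).map ρ =
      (((Ideal.span {f}).annihilator).map π).map (algebraMap R (MvPolynomial (Fin n) R)) := by
    rw [MvPolynomial.algebraMap_eq, Ideal.map_map, Ideal.map_map]
    congr 1
    ext a
    simp [ρ]
  have hfJ := (hJ (MvPolynomial.C f)).mp (by rw [← map_mul, hf, map_zero])
  have hrJ : ∀ j, r' j ∈ ((Ideal.span {f}).annihilator).map MvPolynomial.C := by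
    intro j
    have h2 : ρ (r' j) ∈ (((Ideal.span {f}).annihilator).map MvPolynomial.C).map ρ := by
      rw [show ρ (r' j) = r j from hr' j, hI, MvPolynomial.algebraMap_eq, MvPolynomial.mem_map_C_iff]
      exact h1 j
    obtain ⟨a', ha', he⟩ := (Ideal.mem_map_iff_of_surjective ρ (MvPolynomial.map_surjective π hπ)).mp h2
    obtain ⟨c, hc⟩ := (hkρ (r' j - a')).mp (by rw [map_sub, he, sub_self])
    rw [sub_eq_iff_eq_add.mp hc]
    exact add_mem (Ideal.mul_mem_right _ _ hfJ) ha'
  have hfs : (fun j => ρ (f' j)) = fs := funext hf'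
  obtain ⟨i, hi⟩ := H11Tor.nilpotent_of_torDim ρ (MvPolynomial.map_surjective π hπ) (MvPolynomial.C f) g hkρ
    (((Ideal.span {f}).annihilator).map MvPolynomial.C) hJ hfJ ((Ideal.span {f}).annihilator.map π) hI f' r' hsum hrJ (hfs.symm ▸ htor)
  refine hg ⟨i, ?_⟩
  rw [← map_pow, Ideal.Quotient.eq_zero_iff_mem]
  rw [hfs, MvPolynomial.algebraMap_eq] at hi
  exact hi

end Groth.Agent.S6532
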