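import Groth.Statements.S6538
import Groth.Agent.H4RSH.LineSection
import Groth.Agent.H11Ample.Twist
import Groth.Agent.H10Coh.FibreLift.NearFibre

set_option autoImplicit false
set_option synthInstance.maxHeartbeats 400000
set_option maxHeartbeats 1000000
set_option linter.style.haveILetI false
universe u
open CategoryTheory CategoryTheory.Limits AlgebraicGeometry
attribute [local instance] HasDerivedCategory.standard
open Curves

namespace Groth.Agent.S6538

/-- Let X be proper over the field k, of dimension one, with H^0(X, O_X) = k, and let ω_X be its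
dualizing module (the degree -1 cohomology sheaf of f^! O for the structure morphism f, assuming
Rf_* on D_QCoh and its right adjoint exist). If L is an invertible O_X-module generated by its
global sections and L is not isomorphic to O_X, then ω_X ⊗ L has no first cohomology: H^1(X, ω_X ⊗
L) = 0. -/
theorem result (k : Type u) [Field k] (X : Scheme.{u}) [X.Over (Spec (CommRingCat.of k))] [IsProper (X ↘ (Spec (CommRingCat.of k)))] (hdim : topologicalKrullDim X = 1)
    (h0 : Module.finrank k (Coh.HH X (Coh.structureModule X) 0) = 1)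
    [DCoh.HasRpush (X ↘ (Spec (CommRingCat.of k)))] (h : DCoh.RpushPreservesQCoh (X ↘ (Spec (CommRingCat.of k)))) [DCoh.HasShriek (X ↘ (Spec (CommRingCat.of k))) h]
    (OY : DCoh.DQCoh (Spec (CommRingCat.of k))) (hOY : Nonempty (OY.obj ≅ DCoh.inD (Spec (CommRingCat.of k)) (Coh.structureModule (Spec (CommRingCat.of k)))))
    (L : X.Modules) (hL : PicF.IsInvertible L) (hgg : Curv2.IsGloballyGenerated L) (hnt : IsEmpty (L ≅ Coh.structureModule X)) :
    Subsingleton (Coh.HH X (CohB1.tensorMod (DCoh.dualizingMod (X ↘ (Spec (CommRingCat.of k))) h OY 1) L) 1) := by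
  classical
  haveI := H4RepDual.hasExtModules X
  let fX := X ↘ Spec (CommRingCat.of k)
  let ω := DCoh.dualizingMod fX h OY 1
  have adj := DCoh.shriekAdj fX h
  obtain ⟨hc, hN, hE, hcoh, -⟩ := H4RSH.ProperLocal.exists_setup_field fX adj OY hOY
  haveI := hc
  haveI := hN
  haveI : AlgebraicGeometry.IsNoetherian X := {}
  haveI := H4RSH.LineSection.connectedSpace_of_finrank h0
  have hX : topologicalKrullDim X ≤ ((1 : ℕ) : WithBot ℕ∞) := le_of_eq hdim
  have hω : Coh.IsCoh ω := hcoh _
  have hne : ∀ x : X, IsClosed ({x} : Set X) → Nontrivial (ω.presheaf.stalk x) := by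
    intro x hx
    obtain ⟨Z, hZ, hdZ, hxZ⟩ := H4RSH.LineSection.exists_component_dim_one hdim hx
    have h1 := H4RSH.ProperLocal.support_top_eq hE hX
    exact (Set.ext_iff.1 h1 x).2 (Set.mem_iUnion₂.2 ⟨Z, ⟨hZ, hdZ⟩, hxZ⟩)
  have hfin : ∀ x : X, Module.Finite (X.presheaf.stalk x) (ω.presheaf.stalk x) :=
    fun x => H06Mod.finite_stalk ω hω.2 x
  let T := CohB1.tensorMod ω L
  haveI : Module.Projective k (Coh.HH X T 1) := Module.Projective.of_basis (Module.Basis.ofVectorSpace k _)
  let μ : (Coh.structureModule X ⟶ L) → (ω ⟶ T) := fun s => H22Alg.SectionCut.mul s ω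
  have heq : ∀ x : X, Nonempty (ω.presheaf.stalk x ≃ₗ[X.presheaf.stalk x] T.presheaf.stalk x) := fun x => by
    obtain ⟨s, hs⟩ := H4RSH.LineSection.exists_gen_section hL hgg x
    exact ⟨LinearEquiv.ofBijective _ (H4RSH.LineSection.bijective_mul s ω hs)⟩
  by_contra hT
  haveI : Nontrivial (Coh.HH X T 1) := not_subsingleton_iff_nontrivial.1 hT
  obtain ⟨t, ht⟩ := H4RSH.SerreDual.exists_trace adj OY hOY hX
  obtain ⟨v, hv⟩ := exists_ne (0 : Coh.HH X T 1)
  obtain ⟨ψ, hψ⟩ : ∃ ψ : Module.Dual k (Coh.HH X T 1), ψ v ≠ 0 := not_forall.1 (mt (Module.forall_dual_apply_eq_zero_iff k v).1 hv)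
  obtain ⟨φ, hφ, -⟩ := ht T (H11Ample.isQCoh_tensor hω.1 hL) ψ
  obtain ⟨J, hJ⟩ := H4RSH.SerreDual.exists_injective_top adj OY hOY hX
  have hD : Module.finrank k (Module.Dual k (Coh.HH X (Coh.structureModule X) 0)) = 1 := by
    rw [Subspace.dual_finrank_eq, h0]
  haveI : Module.Finite k (Module.Dual k (Coh.HH X (Coh.structureModule X) 0)) :=
    Module.finite_of_finrank_eq_succ hD
  haveI : Module.Finite k (Coh.HH X ω 1) := Module.Finite.of_injective J hJ
  have hle : Module.finrank k (Coh.HH X ω 1) ≤ 1 :=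
    (LinearMap.finrank_le_finrank_of_injective (f := J) hJ).trans hD.le
  have hid : t ∘ₗ Canon.HHlin k (𝟙 ω) 1 = t := LinearMap.ext fun x =>
    congrArg t (H4RSH.LineSection.HHlin_id 1 x)
  have hend : ∀ e : ω ⟶ ω, e ≠ 0 → IsIso e := by
    intro e he
    obtain ⟨e0, -, huniq0⟩ := ht ω hω.1 0
    have h0map : t ∘ₗ Canon.HHlin k (0 : ω ⟶ ω) 1 = 0 := LinearMap.ext fun x =>
      (congrArg t (H4RSH.LineSection.HHlin_zero 1 x)).trans (map_zero t)
    have hne' : t ∘ₗ Canon.HHlin k e 1 ≠ 0 := fun h' => he ((huniq0 e h').trans (huniq0 0 h0map).symm)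
    have hne0 : t ≠ 0 := fun h' => hne' (by rw [h', LinearMap.zero_comp])
    have hspan : Module.finrank k (Module.Dual k (Coh.HH X ω 1)) = 1 :=
      le_antisymm (by rw [Subspace.dual_finrank_eq]; exact hle)
        (haveI : Nontrivial (Module.Dual k (Coh.HH X ω 1)) := nontrivial_of_ne t 0 hne0
         Module.finrank_pos)
    obtain ⟨c, hc⟩ := (finrank_eq_one_iff_of_nonzero' t hne0).1 hspan (t ∘ₗ Canon.HHlin k e 1)
    have hc0 : c ≠ 0 := fun h' => hne' (by rw [← hc, h', zero_smul])
    obtain ⟨e', he', -⟩ := ht ω hω.1 (c⁻¹ • t)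
    refine ⟨e', (ht ω hω.1 t).unique ?_ hid, (ht ω hω.1 t).unique ?_ hid⟩ <;>
      refine LinearMap.ext fun x => ?_
    · rw [LinearMap.comp_apply, H4RSH.LineSection.HHlin_comp]
      refine (LinearMap.congr_fun he' _).trans ?_
      show c⁻¹ • t (Canon.HHlin k e 1 x) = t x
      rw [← LinearMap.comp_apply, ← hc, LinearMap.smul_apply, smul_smul, inv_mul_cancel₀ hc0, one_smul]
    · rw [LinearMap.comp_apply, H4RSH.LineSection.HHlin_comp]
      refine (LinearMap.congr_fun hc.symm _).trans ?_
      show c • t (Canon.HHlin k e' 1 x) = t x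
      rw [← LinearMap.comp_apply, he', LinearMap.smul_apply, smul_smul, mul_inv_cancel₀ hc0, one_smul]
  by_cases hall : ∀ s, μ s ≫ φ = 0
  · refine hψ ?_
    have hφ0 : φ = 0 := H4RSH.LineSection.eq_zero_of_stalkLin φ fun x w => by
      obtain ⟨s, hs⟩ := H4RSH.LineSection.exists_gen_section hL hgg x
      obtain ⟨u, rfl⟩ := (H4RSH.LineSection.bijective_mul s ω hs).2 w
      show H06Mod.stalkLin φ x (H06Mod.stalkLin (μ s) x u) = 0
      rw [← H29Omega.stalkLin_comp, hall s]
      exact H4RSH.LineSection.stalkLin_zero_apply x u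
    rw [← hφ, hφ0]
    exact (congrArg t (H4RSH.LineSection.HHlin_zero 1 v)).trans (map_zero t)
  push Not at hall
  obtain ⟨s, hs⟩ := hall
  have hiso := hend _ hs
  have hgen : ∀ x : X, IsClosed ({x} : Set X) → x ∈ CohB1.genLocus L s := by
    intro x hx
    haveI := hne x hx
    haveI := hfin x
    obtain ⟨e⟩ := heq x
    have hb : Function.Bijective (H06Mod.stalkLin φ x ∘ₗ H06Mod.stalkLin (μ s) x) := by
      have h' := H10Coh.FibreLift.bijective_stalkLin_of_isIso (μ s ≫ φ) x
      refine (congrArg Function.Bijective (funext fun w => ?_)).mp h'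
      exact H29Omega.stalkLin_comp _ _ _ _
    exact H4RSH.LineSection.mem_genLocus_of_surjective hL s ω x
      (H4RSH.LineSection.bijective_of_retraction e _ _ hb).1.2 e
  have htop : ∀ x : X, x ∈ CohB1.genLocus L s := fun x => by
    obtain ⟨y, hy, hyc⟩ := (isClosed_closure (s := {x})).exists_closed_singleton ⟨x, subset_closure rfl⟩
    exact (specializes_iff_mem_closure.2 hy).mem_open (CohB1.genLocus L s).isOpen (hgen y hyc)
  haveI := H4RSH.LineSection.genLocus_eq_top_iso s htop
  exact hnt.false (asIso s).symm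

end Groth.Agent.S6538
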