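import Groth.Statements.S6541
import Groth.Agent.H28Curve.DegOneIso

set_option autoImplicit false
universe u
open CategoryTheory CategoryTheory.Limits AlgebraicGeometry
open Curves

namespace Groth.Agent.S6541

/-- Let X be a proper curve over the field k (proper, integral, of dimension one). If the first
cohomology of O_X vanishes and some invertible O_X-module has degree 1, then X is isomorphic to
P^1_k over k. -/
theorem result (k : Type u) [Field k] (X : Scheme.{u}) [X.Over (Spec (CommRingCat.of k))]
    [IsIntegral X] [IsProper (X ↘ (Spec (CommRingCat.of k)))] (hdim : topologicalKrullDim X = 1)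
    (h1 : Subsingleton (Coh.HH X (Coh.structureModule X) 1))
    (L : X.Modules) (hL : PicF.IsInvertible L) (hdeg : Curv2.deg k X L 1 = 1) :
    ∃ e : X ≅ CohB1.ProjSpace 1 k, e.hom ≫ CohB1.ProjSpace.toSpec 1 k = X ↘ (Spec (CommRingCat.of k)) := by
  obtain ⟨e, he, -⟩ := H28Curve.exists_iso_projLine (k := k) hdim.le
    (by rw [Curv2.genus]; exact Module.finrank_zero_of_subsingleton) hL hdeg
  exact ⟨e, he⟩

end Groth.Agent.S6541
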