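import Groth.Statements.S6542
import Groth.Agent.H29GenusZero.Basic
import Groth.Agent.H1CAlg.Serre

set_option autoImplicit false
universe u
open CategoryTheory CategoryTheory.Limits AlgebraicGeometry
attribute [local instance] Curv2.resAlgebra
open Curves

namespace Groth.Agent.S6542

/-- Let X be a proper curve over the field k (proper, integral, of dimension one). If H^1(X, O_X) = 0
and there are closed points x_1, ..., x_n of X whose local rings are normal and whose residue-field
degrees over k have greatest common divisor 1, then X is isomorphic to P^1_k over k. -/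
theorem result (k : Type u) [Field k] (X : Scheme.{u}) [X.Over (Spec (CommRingCat.of k))]
    [IsIntegral X] [IsProper (X ↘ (Spec (CommRingCat.of k)))] (hdim : topologicalKrullDim X = 1)
    (h1 : Subsingleton (Coh.HH X (Coh.structureModule X) 1))
    (s : Finset X) (hcl : ∀ x ∈ s, IsClosed ({x} : Set X)) (hn : ∀ x ∈ s, IsIntegrallyClosed (X.presheaf.stalk x))
    (hgcd : s.gcd (fun x => Module.finrank k (X.residueField x)) = 1) :
    ∃ e : X ≅ CohB1.ProjSpace 1 k, e.hom ≫ CohB1.ProjSpace.toSpec 1 k = X ↘ (Spec (CommRingCat.of k)) := by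
  classical
  haveI := H29RR.isNoetherian_of_proper (k := k) (X := X)
  have hg : Curv2.genus k X = 0 := by rw [Curv2.genus]; exact Module.finrank_zero_of_subsingleton
  have hmem : ((s.gcd fun x => Module.finrank k (X.residueField x) : ℕ) : ℤ) ∈ H29GenusZero.degrees (k := k) hdim.le := by
    clear hgcd
    induction s using Finset.induction_on with
    | empty => simpa using (H29GenusZero.degrees (k := k) hdim.le).zero_mem
    | @insert a t hat ih =>
      have h2 := ih (fun x hx => hcl x (Finset.mem_insert_of_mem hx)) fun x hx => hn x (Finset.mem_insert_of_mem hx)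
      haveI := hn a (Finset.mem_insert_self a t)
      haveI : IsRegularLocalRing (X.presheaf.stalk a) := H1CAlg.isRegularLocalRing_of_isIntegrallyClosed
        ((H8Props.FlatDimOneBase.ringKrullDim_stalk_le X a).trans hdim.le)
      obtain ⟨L, hL, hdeg⟩ := H29GenusZero.exists_deg_residue (k := k) hdim (hcl a (Finset.mem_insert_self a t))
      rw [Finset.gcd_insert, gcd_eq_nat_gcd, Nat.gcd_eq_gcd_ab]
      refine add_mem ?_ ?_
      · rw [mul_comm, ← smul_eq_mul]
        exact zsmul_mem (show (Module.finrank k (X.residueField a) : ℤ) ∈ H29GenusZero.degrees (k := k) hdim.le from ⟨L, hL, hdeg⟩) _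
      · rw [mul_comm, ← smul_eq_mul]
        exact zsmul_mem h2 _
  rw [hgcd, Nat.cast_one] at hmem
  obtain ⟨L, hL, hdeg⟩ := hmem
  obtain ⟨e, he, -⟩ := H28Curve.exists_iso_projLine (k := k) hdim.le hg hL hdeg
  exact ⟨e, he⟩

end Groth.Agent.S6542
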