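import Groth.Statements.S6543
import Groth.Agent.H23Gor.DualizingLine
import Groth.Agent.H29GenusZero.Basic
import Groth.Agent.H28Curve.DegOneIso

set_option autoImplicit false
universe u
open CategoryTheory CategoryTheory.Limits AlgebraicGeometry
open Curves

namespace Groth.Agent.S6543

/-- Let X be a proper curve over the field k (proper, integral, of dimension one) with H^0(X, O_X) = k,
genus 0 and Gorenstein local rings. If X has an invertible O_X-module of odd degree, then X is
isomorphic to P^1_k over k. -/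
theorem result (k : Type u) [Field k] (X : Scheme.{u}) [X.Over (Spec (CommRingCat.of k))]
    [IsIntegral X] [IsProper (X ↘ (Spec (CommRingCat.of k)))] (hdim : topologicalKrullDim X = 1)
    (h0 : Module.finrank k (Coh.HH X (Coh.structureModule X) 0) = 1) (hg : Curv2.genus k X = 0) (hgor : ∀ x : X, LocCoh.IsGorensteinLocalRing (X.presheaf.stalk x))
    (L : X.Modules) (hL : PicF.IsInvertible L) (hodd : Odd (Curv2.deg k X L 1)) :
    ∃ e : X ≅ CohB1.ProjSpace 1 k, e.hom ≫ CohB1.ProjSpace.toSpec 1 k = X ↘ (Spec (CommRingCat.of k)) := by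
  obtain ⟨ω, hω, hdeg⟩ := H23Gor.exists_invertible_deg k X hdim hgor
  have hχ : Curv2.euler k X (Coh.structureModule X) = 1 := by
    have hg' : Module.finrank k (Coh.HH X (Coh.structureModule X) 1) = 0 := hg
    rw [H29RR.euler_eq_sub (k := k) hdim.le, h0, hg']
    norm_num
  rw [hχ] at hdeg
  obtain ⟨m, hm⟩ := hodd
  have hmem : (1 : ℤ) ∈ H29GenusZero.degrees (k := k) (X := X) hdim.le := by
    have h1 : Curv2.deg k X L 1 ∈ H29GenusZero.degrees (k := k) (X := X) hdim.le := ⟨L, hL, rfl⟩
    have h2 : (-2 : ℤ) ∈ H29GenusZero.degrees (k := k) (X := X) hdim.le := ⟨ω, hω, by rw [hdeg]; norm_num⟩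
    have h3 := add_mem h1 (zsmul_mem h2 m)
    rwa [hm, smul_eq_mul, show (2 * m + 1 + m * -2 : ℤ) = 1 by ring] at h3
  obtain ⟨L', hL', hdeg'⟩ := hmem
  obtain ⟨e, he, -⟩ := H28Curve.exists_iso_projLine (k := k) hdim.le hg hL' hdeg'
  exact ⟨e, he⟩

end Groth.Agent.S6543
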