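import Groth.Statements.S6544
import Groth.Agent.H29GenusZero.Basic
import Groth.Agent.H29CurveDual.Canonical
import Groth.Agent.H29CurveDual.CanonAux

set_option autoImplicit false
universe u
open CategoryTheory CategoryTheory.Limits AlgebraicGeometry
open Curves

namespace Groth.Agent.S6544

/-- Let X be a proper curve over the field k (proper, integral, of dimension one) which is smooth and
geometrically irreducible over k, of genus 0. If X has an invertible O_X-module of odd degree, then
X is isomorphic to P^1_k over k. -/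
theorem result (k : Type u) [Field k] (X : Scheme.{u}) [X.Over (Spec (CommRingCat.of k))]
    [IsIntegral X] [IsProper (X ↘ (Spec (CommRingCat.of k)))] (hdim : topologicalKrullDim X = 1)
    [Smooth (X ↘ (Spec (CommRingCat.of k)))] [GeometricallyIrreducible (X ↘ (Spec (CommRingCat.of k)))] (hg : Curv2.genus k X = 0)
    (L : X.Modules) (hL : PicF.IsInvertible L) (hodd : Odd (Curv2.deg k X L 1)) :
    ∃ e : X ≅ CohB1.ProjSpace 1 k, e.hom ≫ CohB1.ProjSpace.toSpec 1 k = X ↘ (Spec (CommRingCat.of k)) := by
  let p := X ↘ Spec (CommRingCat.of k)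
  haveI : GeometricallyConnected p := H29GenusZero.geometricallyConnected_of_irreducible p
  have h0 := H29CurveDual.finrank_h0_structure_smooth (k := k) (X := X)
  have hΩ := H29CurveDual.deg_omega_of_h0 (k := k) hdim h0
  rw [hg] at hΩ
  have hΩi := H29CurveDual.isInvertible_omega_curve (k := k) hdim
  obtain ⟨m, hm⟩ := hodd
  have hmem : (1 : ℤ) ∈ H29GenusZero.degrees (k := k) hdim.le := by
    have h1 : Curv2.deg k X L 1 ∈ H29GenusZero.degrees (k := k) hdim.le := ⟨L, hL, rfl⟩
    have h2 : (-2 : ℤ) ∈ H29GenusZero.degrees (k := k) hdim.le := ⟨_, hΩi, by rw [hΩ]; rfl⟩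
    have h3 := add_mem h1 (zsmul_mem h2 m)
    rwa [hm, smul_eq_mul, show (2 * m + 1 + m * -2 : ℤ) = 1 by ring] at h3
  obtain ⟨L', hL', hdeg⟩ := hmem
  obtain ⟨e, he, -⟩ := H28Curve.exists_iso_projLine (k := k) hdim.le hg hL' hdeg
  exact ⟨e, he⟩

end Groth.Agent.S6544
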