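import Groth.Statements.S6548
import Groth.Agent.H29Jac.Descent

set_option autoImplicit false
universe u
open CategoryTheory CategoryTheory.Limits AlgebraicGeometry
open Curves

namespace Groth.Agent.S6548

/-- Let k be a field, n a natural number invertible in k, and X a smooth proper curve over k (proper,
smooth, integral, of dimension one) with H^0(X, O_X) = k and genus 1. Then over some finite
separable field extension k′ of k the base change X_{k′} acquires a point rational over k′ (a
section of X_{k′} → Spec k′) and has exactly n^2 isomorphism classes of invertible modules M with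
M^{⊗n} ≅ O. (The published statement gives Pic(X_{k′})[n] ≅ (Z/nZ)^2; this row states the number of
classes, which is equivalent because pullback embeds Pic(X_{k′}) into the Picard group over an
algebraic closure.) -/
theorem result (k : Type u) [Field k] (X : Scheme.{u}) [X.Over (Spec (CommRingCat.of k))]
    [IsIntegral X] [IsProper (X ↘ (Spec (CommRingCat.of k)))] [Smooth (X ↘ (Spec (CommRingCat.of k)))] (hdim : topologicalKrullDim X = 1)
    (h0 : Module.finrank k (Coh.HH X (Coh.structureModule X) 0) = 1) (hg : Curv2.genus k X = 1)
    (n : ℕ) (hn : IsUnit (n : k)) :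
    ∃ (k' : Type u) (_ : Field k') (_ : Algebra k k'), FiniteDimensional k k' ∧ Algebra.IsSeparable k k' ∧
      (∃ x : Spec (CommRingCat.of k') ⟶ Curv2.bc k X k', x ≫ Curv2.bcSnd k X k' = 𝟙 _) ∧
      Nat.card {c : PicF.Cl (Curv2.bc k X k') | ∃ M : Scheme.Modules (Curv2.bc k X k'), PicF.cl M = c ∧ PicF.IsInvertible M ∧ Nonempty (CohB1.tensorPow M (n) ≅ Coh.structureModule (Curv2.bc k X k'))} = n ^ 2 := by
  classical
  obtain ⟨x, -, hfin, hsep⟩ := (Groth.Agent.S1550.result k X).nonempty
  letI := Curv2.resAlgebra k X x
  haveI : FiniteDimensional k (X.residueField x) := hfin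
  haveI : Algebra.IsSeparable k (X.residueField x) := hsep
  let ι : X.residueField x →ₐ[k] SeparableClosure k := IsSepClosed.lift
  let b := Module.finBasis k (X.residueField x)
  let s₀ : Finset (SeparableClosure k) := Finset.univ.image fun i => ι (b i)
  obtain ⟨L, hL, -, hs, hcard⟩ := Groth.Agent.H29Jac.exists_galois_full_torsion n hdim h0 hn s₀
  have hmem : ∀ y, ι y ∈ L := fun y => by
    rw [← b.sum_repr y, map_sum]
    refine sum_mem fun i _ => ?_
    rw [map_smul]
    exact L.smul_mem (hs (Finset.mem_coe.2 (Finset.mem_image_of_mem _ (Finset.mem_univ i))))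
  refine ⟨L, inferInstance, inferInstance, hL, inferInstance, ?_, ?_⟩
  · exact Groth.Agent.H29Jac.exists_point_of_algHom x L (ι.codRestrict L.toSubalgebra hmem)
  · rw [hg] at hcard
    exact hcard

end Groth.Agent.S6548
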