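import Groth.Statements.S6551
import Groth.Agent.H14NodalLim.Descends

set_option autoImplicit false
universe u
open CategoryTheory AlgebraicGeometry
open Curves

namespace Groth.Agent.S6551

/-- Let S = lim S_i be the limit of a cofiltered system of schemes with affine transition morphisms, i₀
an index with S_{i₀} quasi-compact and quasi-separated, and f₀ : X₀ → Y₀ a morphism of quasi-compact
quasi-separated schemes over S_{i₀} which is locally of finite presentation. Write f : X → Y for the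
pullback of f₀ along S → S_{i₀}. Assuming f to be at-worst-nodal, with relative dimension 1, there
exists an index i mapping to i₀ for which the pullback f_i : X_i → Y_i of f₀ to S_i is likewise
at-worst-nodal of relative dimension 1. -/
theorem result {I : Type u} [SmallCategory I] [IsCofiltered I]
    (D : I ⥤ Scheme.{u}) (c : Limits.Cone D) (hc : Limits.IsLimit c)
    [∀ (i j : I) (f : i ⟶ j), IsAffineHom (D.map f)] (i₀ : I) [CompactSpace (D.obj i₀)]
    [QuasiSeparatedSpace (D.obj i₀)] {X₀ Y₀ : Scheme.{u}} (f₀ : X₀ ⟶ Y₀) (g₀ : Y₀ ⟶ D.obj i₀)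
    [CompactSpace X₀] [QuasiSeparatedSpace X₀] [CompactSpace Y₀] [QuasiSeparatedSpace Y₀]
    {X Y : Scheme.{u}} (f : X ⟶ Y) (g : Y ⟶ c.pt) (qY : Y ⟶ Y₀) (qX : X ⟶ X₀)
    (hY : IsPullback qY g g₀ (c.π.app i₀)) (hX : IsPullback qX f f₀ qY) [LocallyOfFinitePresentation f₀]
    (hf : Curv2.IsNodalFamily f) :
    ∃ (i : I) (φ : i ⟶ i₀) (Xi Yi : Scheme.{u}) (fi : Xi ⟶ Yi) (gi : Yi ⟶ D.obj i) (pY : Yi ⟶ Y₀)
      (pX : Xi ⟶ X₀), IsPullback pY gi g₀ (D.map φ) ∧ IsPullback pX fi f₀ pY ∧ Curv2.IsNodalFamily fi := by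
  haveI := Groth.Agent.H14NodalLim.isStableUnderBaseChange_nodalFam.{u}
  exact Groth.Agent.H7Lim.exists_descend_square hc (P := (CurvSt.nodalFam : MorphismProperty Scheme.{u}))
    (Q := @LocallyOfFinitePresentation) i₀ f₀ g₀
    Groth.Agent.H14NodalLim.descends_nodalFam hY hX ‹_› hf

end Groth.Agent.S6551
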