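import Groth.Statements.S6552
import Groth.Agent.H29Node.Etale
import Groth.Agent.H29Disc.Charts
import Groth.Agent.H29Curve.Morphism
import Groth.Agent.H13AlgSp.LocP

set_option autoImplicit false
universe u
open CategoryTheory CategoryTheory.Limits AlgebraicGeometry
open Curves

namespace Groth.Agent.S6552

/-- Let k be a field, X a scheme locally of finite type over k of dimension 1, π : Y → X an étale
morphism, and y ∈ Y a point with image x. Then x is a closed point of X which is a node if and only
if y is a closed point of Y which is a node (Y being a k-scheme through π). -/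
theorem result (k : Type u) [Field k] (X : Scheme.{u}) [X.Over (Spec (CommRingCat.of k))] [LocallyOfFiniteType (X ↘ (Spec (CommRingCat.of k)))] (hdim : topologicalKrullDim X = 1)
    {Y : Scheme.{u}} (π : Y ⟶ X) [Etale π] (y : Y) :
    Curv2.IsNode k X (π y) ↔ @Curv2.IsNode k _ Y ⟨π ≫ (X ↘ (Spec (CommRingCat.of k)))⟩ y := by
  letI : Y.Over (Spec (CommRingCat.of k)) := ⟨π ≫ (X ↘ (Spec (CommRingCat.of k)))⟩
  haveI : LocallyOfFiniteType (Y ↘ Spec (CommRingCat.of k)) :=
    inferInstanceAs (LocallyOfFiniteType (π ≫ (X ↘ (Spec (CommRingCat.of k)))))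
  haveI : JacobsonSpace X := LocallyOfFiniteType.jacobsonSpace (X ↘ Spec (CommRingCat.of k))
  haveI := H13AlgSp.locallyQuasiFinite_of_etale π
  refine ⟨fun h => ?_, fun h => ?_⟩
  · exact (H29Node.isNode_iff_of_etale π rfl (H29Disc.isClosed_of_map π h.1) h.1).2 h
  · have hx : IsClosed ({π y} : Set X) :=
      H29Curve.isClosed_image_of_isClosed (Y ↘ Spec (CommRingCat.of k)) (X ↘ Spec (CommRingCat.of k)) π rfl h.1
    exact (H29Node.isNode_iff_of_etale π rfl h.1 hx).1 h

end Groth.Agent.S6552
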