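import Groth.Statements.S6555
import Groth.Agent.H29Curve.SmoothStalk

set_option autoImplicit false
universe u
open CategoryTheory CategoryTheory.Limits AlgebraicGeometry
attribute [local instance] Curv2.resAlgebra Curv2.stalkAlgebra
open Curves

namespace Groth.Agent.S6555

/-- Let X be a scheme over the field k and x ∈ X a closed point near which X → Spec k is smooth of
relative dimension 1 (on some open neighbourhood of x), with κ(x)/k separable. If s is an
irreducible element of the local ring O_{X,x} (a discrete valuation ring, so s generates its maximal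
ideal), then Ω_{O_{X,x}/k}, which is the stalk of Ω_{X/k} at x, is free of rank one with basis d s:
the map a ↦ a · d s from O_{X,x} to Ω_{O_{X,x}/k} is bijective. -/
theorem result (k : Type u) [Field k] (X : Scheme.{u}) [X.Over (Spec (CommRingCat.of k))]
    (x : X) (hx : IsClosed ({x} : Set X))
    (hsm : ∃ U : X.Opens, x ∈ U ∧ SmoothOfRelativeDimension 1 (U.ι ≫ (X ↘ (Spec (CommRingCat.of k)))))
    (hsep : Algebra.IsSeparable k (X.residueField x))
    (s : X.presheaf.stalk x) (hs : Irreducible s) :
    Function.Bijective (fun a : X.presheaf.stalk x => a • KaehlerDifferential.D k (X.presheaf.stalk x) s) := by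
  obtain ⟨U, hxU, hsm⟩ := hsm
  obtain ⟨h1, h2, h3, h4⟩ := Groth.Agent.H29Curve.stalk_of_smooth k X x 1 U hxU hsm
  haveI : IsNoetherianRing (X.presheaf.stalk x) := Algebra.EssFiniteType.isNoetherianRing k _
  haveI : Module.Finite (X.presheaf.stalk x) (KaehlerDifferential k (X.presheaf.stalk x)) :=
    Module.finite_of_finrank_eq_succ h4
  haveI : Algebra.IsSeparable k (IsLocalRing.ResidueField (X.presheaf.stalk x)) := hsep
  exact (Groth.Agent.H29Curve.bijective_smul_D_of_rank_one k _ h4 hs).2

end Groth.Agent.S6555
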