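import Groth.Statements.S6557
import Groth.Agent.H8Props.FlatDimOneBase
import Groth.Agent.H1CAlg.Serre
import Groth.Agent.H13Flat.SmoothDescent

set_option autoImplicit false
universe u
open CategoryTheory CategoryTheory.Limits AlgebraicGeometry
open Curves

namespace Groth.Agent.S6557

/-- Let k be a field and f : X → Y a surjective morphism over k of curves over k (integral, separated,
of finite type over k, of dimension one). If X is smooth over k and every local ring of Y is an
integrally closed domain, then Y is also smooth over k. -/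
theorem result (k : Type u) [Field k]
    (X Y : Scheme.{u}) [X.Over (Spec (CommRingCat.of k))] [Y.Over (Spec (CommRingCat.of k))]
    [IsIntegral X] [IsSeparated (X ↘ (Spec (CommRingCat.of k)))] [LocallyOfFiniteType (X ↘ (Spec (CommRingCat.of k)))] [QuasiCompact (X ↘ (Spec (CommRingCat.of k)))] (hdX : topologicalKrullDim X = 1) [IsIntegral Y] [IsSeparated (Y ↘ (Spec (CommRingCat.of k)))] [LocallyOfFiniteType (Y ↘ (Spec (CommRingCat.of k)))] [QuasiCompact (Y ↘ (Spec (CommRingCat.of k)))] (hdY : topologicalKrullDim Y = 1)
    (f : X ⟶ Y) (hf : f ≫ (Y ↘ (Spec (CommRingCat.of k))) = X ↘ (Spec (CommRingCat.of k))) [Surjective f]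
    [Smooth (X ↘ (Spec (CommRingCat.of k)))] (hY : Pi1.IsNormalScheme Y) :
    Smooth (Y ↘ (Spec (CommRingCat.of k))) := by
  have : IsLocallyNoetherian Y := LocallyOfFiniteType.isLocallyNoetherian (Y ↘ Spec (CommRingCat.of k))
  have hdim : ∀ y : Y, ringKrullDim (Y.presheaf.stalk y) ≤ 1 := fun y =>
    (H8Props.FlatDimOneBase.ringKrullDim_stalk_le Y y).trans hdY.le
  have hreg : ∀ y : Y, IsRegularLocalRing (Y.presheaf.stalk y) := fun y => by
    have := (hY y).1
    have := (hY y).2
    exact H1CAlg.isRegularLocalRing_of_isIntegrallyClosed (hdim y)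
  have hfl : Flat f := by
    refine (H8Props.FlatDimOneBase.flat_iff_weakAssPoint f hreg hdim).2 fun x hx => ?_
    have hxg : x = genericPoint X := by
      by_contra hne
      obtain ⟨a, ha, ha0⟩ := Submodule.exists_mem_ne_zero_of_ne_bot
        (H8Props.FlatDimOneBase.maximalIdeal_stalk_ne_bot x hne)
      exact H8Props.FlatDimOneBase.not_isSMulRegular_of_isAssociatedPrime
        ((H29Blow.isWeakAssPoint_structureModule_iff x).mp hx) ha fun b c e => mul_left_cancel₀ ha0 e
    subst hxg
    exact ((genericPoint_spec X).image f.continuous).eq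
      (by rw [Set.image_univ, f.surjective.range_eq, closure_univ]; exact genericPoint_spec Y)
  have : LocallyOfFinitePresentation f := by
    have : LocallyOfFiniteType (f ≫ (Y ↘ Spec (CommRingCat.of k))) := hf ▸ inferInstance
    have : LocallyOfFiniteType f := locallyOfFiniteType_of_comp f (Y ↘ Spec (CommRingCat.of k))
    infer_instance
  refine H13Flat.smooth_of_fppf_covering _ fun y => ⟨X, f, hfl, inferInstance, f.surjective y, ?_⟩
  rw [hf]; infer_instance

end Groth.Agent.S6557
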