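import Groth.Statements.S6558
import Groth.Agent.H29Frob.Twist.Scheme
import Groth.Agent.H29DoubleCover.Unique
import Groth.Agent.H29RR.Degree

set_option autoImplicit false
universe u
open CategoryTheory CategoryTheory.Limits AlgebraicGeometry
open Curves
attribute [local instance 10000] Groth.Agent.H10Coh.hasSheafifyAb Groth.Agent.H10Coh.hasWeakSheafifyAb Groth.Agent.H10Coh.hasExtAb Groth.Agent.H10Coh.enoughInjAb

namespace Groth.Agent.S6558

/-- Let p be a prime number, k a field of characteristic p, and f : X → Y a nonconstant morphism over k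
of proper nonsingular curves over k (proper, integral, of dimension one, all local rings regular),
nonconstant meaning f(ξ_X) = ξ_Y for the generic points (hypothesis e), so that k(Y) maps into k(X).
Assume X is smooth over k with H^0(X, O_X) = k and k(X)/k(Y) purely inseparable. Then Y is smooth
over k, its global functions are the constants k, and Y and X have the same genus. -/
theorem result (k : Type u) [Field k] (p : ℕ) [Fact p.Prime] [CharP k p]
    (X Y : Scheme.{u}) [X.Over (Spec (CommRingCat.of k))] [Y.Over (Spec (CommRingCat.of k))]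
    [IsIntegral X] [IsProper (X ↘ (Spec (CommRingCat.of k)))] (hdX : topologicalKrullDim X = 1) (hregX : ∀ x : X, IsRegularLocalRing (X.presheaf.stalk x))
    [IsIntegral Y] [IsProper (Y ↘ (Spec (CommRingCat.of k)))] (hdY : topologicalKrullDim Y = 1) (hregY : ∀ y : Y, IsRegularLocalRing (Y.presheaf.stalk y))
    (f : X ⟶ Y) (hf : f ≫ (Y ↘ (Spec (CommRingCat.of k))) = X ↘ (Spec (CommRingCat.of k))) (e : f (genericPoint X) = genericPoint Y)
    [Smooth (X ↘ (Spec (CommRingCat.of k)))] (h0 : Module.finrank k (Coh.HH X (Coh.structureModule X) 0) = 1)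
    (hpi : letI := ((Y.presheaf.stalkSpecializes (specializes_of_eq e) ≫ f.stalkMap (genericPoint X)).hom).toAlgebra
      IsPurelyInseparable Y.functionField X.functionField) :
    Smooth (Y ↘ (Spec (CommRingCat.of k))) ∧ Module.finrank k (Coh.HH Y (Coh.structureModule Y) 0) = 1 ∧
      Curv2.genus k Y = Curv2.genus k X := by
  haveI := H29RR.isNoetherian_of_proper (k := k) (X := X)
  haveI : ExpChar k p := ExpChar.prime Fact.out
  haveI : IsProper f := by
    haveI : IsProper (f ≫ (Y ↘ Spec (CommRingCat.of k))) := by rw [hf]; infer_instance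
    exact IsProper.of_comp f (Y ↘ Spec (CommRingCat.of k))
  haveI : IsFinite f := by
    haveI : JacobsonSpace X := LocallyOfFiniteType.jacobsonSpace (X ↘ Spec (CommRingCat.of k))
    obtain ⟨x, -, hx⟩ := nonempty_inter_closedPoints (Z := (Set.univ : Set X)) ⟨genericPoint X, trivial⟩
      isOpen_univ.isLocallyClosed
    rw [mem_closedPoints_iff] at hx
    refine H29DoubleCover.isFinite_of_dominant hdX.le f ⟨genericPoint X, x, fun hxy => ?_⟩
    have hc := f.isClosedMap _ hx
    rw [Set.image_singleton, ← hxy, e] at hc
    haveI : Subsingleton Y := ⟨fun a b => by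
      have key : ∀ c : Y, c = genericPoint Y := fun c => by
        have h := (genericPoint_specializes c).mem_closure
        rwa [hc.closure_eq] at h
      rw [key a, key b]⟩
    have := topologicalKrullDim_zero_of_discreteTopology Y
    rw [hdY] at this
    exact not_le.2 zero_lt_one this
  have hnY : ∀ y : Y, IsIntegrallyClosed (Y.presheaf.stalk y) := fun y => by
    haveI := hregY y
    exact H05EGA4.isIntegrallyClosed_of_isRegularLocalRing _
  obtain ⟨r, i, hi⟩ := H29Frob.Twist.exists_iso_twist (p := p) (Y ↘ Spec (CommRingCat.of k)) hdX hnY f hf e hpi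
  have hsq : IsPullback (i.hom ≫ pullback.fst (X ↘ Spec (CommRingCat.of k))
      (Spec.map (CommRingCat.ofHom (iterateFrobenius k p r)))) (Y ↘ Spec (CommRingCat.of k))
      (X ↘ Spec (CommRingCat.of k)) (Spec.map (CommRingCat.ofHom (iterateFrobenius k p r))) :=
    IsPullback.of_iso_pullback ⟨by rw [Category.assoc, pullback.condition, reassoc_of% hi]⟩ i rfl hi
  refine ⟨MorphismProperty.of_isPullback hsq inferInstance, ?_, ?_⟩
  · exact (((H29RR.hhIso (k := k) (H16Derived.KFlat.Stalk.structurePullbackIso (i.hom ≫ pullback.fst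
        (X ↘ Spec (CommRingCat.of k)) (Spec.map (CommRingCat.ofHom (iterateFrobenius k p r))))) 0).finrank_eq).symm.trans
      (@H28Int.FieldExt.finrank_HH_bc k _ X _ _ k _ (iterateFrobenius k p r).toAlgebra Y _ _ hsq _
        (H10Coh.isCoh_structureModule' X) 0)).trans h0
  · exact @H29DoubleCover.genus_bc k k _ _ (iterateFrobenius k p r).toAlgebra X Y (X ↘ Spec (CommRingCat.of k)) _
      (Y ↘ Spec (CommRingCat.of k)) _ hsq

end Groth.Agent.S6558
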