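import Groth.Statements.S6559
import Mathlib

set_option autoImplicit false
universe u
set_option maxHeartbeats 400000
open CategoryTheory CategoryTheory.Limits AlgebraicGeometry
open Curves

namespace Groth.Agent.S6559

/-- Let k be a field, X a curve over k (integral, separated and of finite type over k, of dimension
one), Y a proper variety over k (integral, proper over k), U ⊆ X a nonempty open and f : U → Y a
morphism over k. If the local ring of X at a closed point x is a discrete valuation ring, then f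
extends to a k-morphism U' → Y on some open U' ⊇ U of X containing x. -/
theorem result (k : Type u) [Field k]
    (X Y : Scheme.{u}) [X.Over (Spec (CommRingCat.of k))] [Y.Over (Spec (CommRingCat.of k))]
    [IsIntegral X] [IsSeparated (X ↘ (Spec (CommRingCat.of k)))] [LocallyOfFiniteType (X ↘ (Spec (CommRingCat.of k)))] [QuasiCompact (X ↘ (Spec (CommRingCat.of k)))] (hdX : topologicalKrullDim X = 1)
    [IsIntegral Y] [IsProper (Y ↘ (Spec (CommRingCat.of k)))]
    (U : X.Opens) (hU : (U : Set X).Nonempty) (f : (U : Scheme.{u}) ⟶ Y) (hf : f ≫ (Y ↘ (Spec (CommRingCat.of k))) = U.ι ≫ (X ↘ (Spec (CommRingCat.of k))))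
    (x : X) (hx : IsClosed ({x} : Set X)) (hdvr : IsDiscreteValuationRing (X.presheaf.stalk x)) :
    ∃ (U' : X.Opens) (hUU' : U ≤ U') (f' : (U' : Scheme.{u}) ⟶ Y), x ∈ U' ∧
      f' ≫ (Y ↘ (Spec (CommRingCat.of k))) = U'.ι ≫ (X ↘ (Spec (CommRingCat.of k))) ∧ X.homOfLE hUU' ≫ f' = f := by
  let S := Spec (CommRingCat.of k)
  let πX : X ⟶ S := X ↘ S
  let πY : Y ⟶ S := Y ↘ S
  let η := genericPoint X
  have hηU : η ∈ U := ((genericPoint_spec X).mem_open_set_iff U.isOpen).mpr (by simpa using hU)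
  let i₁ : Spec X.functionField ⟶ Y := U.fromSpecStalkOfMem η hηU ≫ f
  have hi₁ : i₁ ≫ πY = X.fromSpecStalk η ≫ πX := by
    show (U.fromSpecStalkOfMem η hηU ≫ f) ≫ πY = _
    rw [Category.assoc, hf, Scheme.Opens.fromSpecStalkOfMem_ι_assoc]
  haveI : IsFractionRing (X.presheaf.stalk x) X.functionField := inferInstance
  haveI : IsDomain (X.presheaf.stalk x) :=
    (IsFractionRing.injective (X.presheaf.stalk x) X.functionField).isDomain
  haveI := hdvr
  let R : CommRingCat.{u} := X.presheaf.stalk x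
  haveI : ValuationRing (X.presheaf.stalk x) := inferInstance
  let sq : ValuativeCommSq πY :=
    { R := R
      commRing := R.commRing
      domain := ‹IsDomain (X.presheaf.stalk x)›
      valuationRing := ‹ValuationRing (X.presheaf.stalk x)›
      K := X.functionField
      algebra := stalkFunctionFieldAlgebra X x
      isFractionRing := ‹IsFractionRing (X.presheaf.stalk x) X.functionField›
      i₁ := i₁
      i₂ := X.fromSpecStalk x ≫ πX
      commSq := ⟨by
        rw [hi₁, ← Category.assoc]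
        congr 1
        exact (Scheme.SpecMap_stalkSpecializes_fromSpecStalk ((genericPoint_spec X).specializes trivial : η ⤳ x)).symm⟩ }
  have hex : ValuativeCriterion.Existence πY := by
    have h : (@UniversallyClosed : MorphismProperty Scheme.{u}) πY := inferInstance
    rw [UniversallyClosed.eq_valuativeCriterion] at h
    exact h.1
  obtain ⟨⟨⟨φ, hφ1, hφ2⟩⟩⟩ := hex sq
  obtain ⟨V, hxV, g, hg1, hg2⟩ := spread_out_of_isGermInjective' (sX := πX) (sY := πY) (x := x) φ hφ2
  -- agreement on the overlap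
  let W : X.Opens := U ⊓ V
  have hηV : η ∈ V := ((genericPoint_spec X).mem_open_set_iff V.isOpen).mpr ⟨x, trivial, hxV⟩
  haveI : Nonempty W := ⟨⟨η, hηU, hηV⟩⟩
  have hdom : IsDominant (W.fromSpecStalkOfMem η ⟨hηU, hηV⟩) := by
    refine ⟨?_⟩
    refine (Dense.mono (s₁ := {(⟨η, hηU, hηV⟩ : W)}) ?_ ?_)
    · rintro _ rfl
      refine ⟨IsLocalRing.closedPoint _, ?_⟩
      apply W.ι.isOpenEmbedding.injective
      rw [← Scheme.Hom.comp_apply, Scheme.Opens.fromSpecStalkOfMem_ι, Scheme.fromSpecStalk_closedPoint]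
      rfl
    · refine dense_iff_closure_eq.2 (eq_top_iff.2 fun w _ => specializes_iff_mem_closure.1 ?_)
      exact W.ι.isOpenEmbedding.isInducing.specializes_iff.1 ((genericPoint_spec X).specializes trivial)
  have hspec : ∀ (O : X.Opens) (h : η ∈ O) (hle : W ≤ O),
      W.fromSpecStalkOfMem η ⟨hηU, hηV⟩ ≫ X.homOfLE hle = O.fromSpecStalkOfMem η h := fun O h hle => by
    rw [← cancel_mono O.ι, Category.assoc, Scheme.homOfLE_ι, Scheme.Opens.fromSpecStalkOfMem_ι,
      Scheme.Opens.fromSpecStalkOfMem_ι]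
  have hgη : V.fromSpecStalkOfMem η hηV ≫ g = i₁ := by
    refine Eq.trans ?_ (hφ1 : Spec.map (X.presheaf.stalkSpecializes
      ((genericPoint_spec X).specializes trivial : η ⤳ x)) ≫ φ = i₁)
    rw [show φ = V.fromSpecStalkOfMem x hxV ≫ g from hg1, ← Category.assoc]
    congr 1
    rw [← cancel_mono V.ι, Category.assoc, Scheme.Opens.fromSpecStalkOfMem_ι,
      Scheme.Opens.fromSpecStalkOfMem_ι]
    exact (Scheme.SpecMap_stalkSpecializes_fromSpecStalk ((genericPoint_spec X).specializes trivial : η ⤳ x)).symm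
  have hagree : X.homOfLE (inf_le_left : W ≤ U) ≫ f = X.homOfLE (inf_le_right : W ≤ V) ≫ g := by
    refine ext_of_isDominant_of_isSeparated πY ?_ (W.fromSpecStalkOfMem η ⟨hηU, hηV⟩) ?_
    · simp only [Category.assoc]
      rw [hf, hg2, Scheme.homOfLE_ι_assoc, Scheme.homOfLE_ι_assoc]
    · rw [← Category.assoc, ← Category.assoc, hspec U hηU, hspec V hηV, hgη]
  -- glue
  let O : Bool → X.Opens := fun b => bif b then V else U
  let ff : ∀ b, (O b).toScheme ⟶ Y := fun b => match b with | true => g | false => f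
  have hle : ∀ b, O b ≤ U ⊔ V := fun b => by cases b <;> simp [O]
  let 𝒰 : (U ⊔ V).toScheme.OpenCover := Scheme.openCoverOfIsOpenCover _
    (fun b => (U ⊔ V).ι ⁻¹ᵁ O b) (by
      rw [TopologicalSpace.IsOpenCover, eq_top_iff]
      rintro ⟨z, hz⟩ -
      rcases hz with hz | hz
      · exact TopologicalSpace.Opens.mem_iSup.2 ⟨false, hz⟩
      · exact TopologicalSpace.Opens.mem_iSup.2 ⟨true, hz⟩)
  let m : ∀ b, ((U ⊔ V).ι ⁻¹ᵁ O b).toScheme ⟶ (O b).toScheme := fun b =>
    IsOpenImmersion.lift (O b).ι (((U ⊔ V).ι ⁻¹ᵁ O b).ι ≫ (U ⊔ V).ι) (by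
      rintro _ ⟨p, rfl⟩
      simp only [Scheme.Opens.range_ι]
      exact p.2)
  have hm : ∀ b, m b ≫ (O b).ι = ((U ⊔ V).ι ⁻¹ᵁ O b).ι ≫ (U ⊔ V).ι := fun b =>
    IsOpenImmersion.lift_fac _ _ _
  have hcompat : ∀ b c, pullback.fst (𝒰.f b) (𝒰.f c) ≫ m b ≫ ff b =
      pullback.snd (𝒰.f b) (𝒰.f c) ≫ m c ≫ ff c := by
    have key : ∀ (P : Scheme.{u}) (p : P ⟶ U.toScheme) (q : P ⟶ V.toScheme), p ≫ U.ι = q ≫ V.ι →
        p ≫ f = q ≫ g := by
      intro P p q hpq
      have hr : Set.range (p ≫ U.ι).base ⊆ Set.range W.ι.base := by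
        rintro _ ⟨z, rfl⟩
        simp only [Scheme.Opens.range_ι]
        refine ⟨(p z).2, ?_⟩
        rw [hpq]
        exact (q z).2
      let r := IsOpenImmersion.lift W.ι (p ≫ U.ι) hr
      have h1 : r ≫ X.homOfLE inf_le_left = p := by
        rw [← cancel_mono U.ι, Category.assoc, Scheme.homOfLE_ι, IsOpenImmersion.lift_fac]
      have h2 : r ≫ X.homOfLE inf_le_right = q := by
        rw [← cancel_mono V.ι, Category.assoc, Scheme.homOfLE_ι, IsOpenImmersion.lift_fac, hpq]
      rw [← h1, ← h2, Category.assoc, Category.assoc, hagree]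
    intro b c
    have hcond : (pullback.fst (𝒰.f b) (𝒰.f c) ≫ m b) ≫ (O b).ι =
        (pullback.snd (𝒰.f b) (𝒰.f c) ≫ m c) ≫ (O c).ι := by
      rw [Category.assoc, Category.assoc]
      erw [hm b, hm c]
      exact pullback.condition_assoc (f := 𝒰.f b) (g := 𝒰.f c) (U ⊔ V).ι
    rw [← Category.assoc, ← Category.assoc]
    cases b <;> cases c
    · rw [(cancel_mono U.ι).1 hcond]
    · exact key _ _ _ hcond
    · exact (key _ _ _ hcond.symm).symm
    · rw [(cancel_mono V.ι).1 hcond]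
  let F : (U ⊔ V).toScheme ⟶ Y := 𝒰.glueMorphisms (fun b => m b ≫ ff b) hcompat
  have hF : ∀ b, X.homOfLE (hle b) ≫ F = ff b := by
    intro b
    let s : (O b).toScheme ⟶ ((U ⊔ V).ι ⁻¹ᵁ O b).toScheme :=
      IsOpenImmersion.lift ((U ⊔ V).ι ⁻¹ᵁ O b).ι (X.homOfLE (hle b)) (by
        rintro _ ⟨p, rfl⟩
        simp only [Scheme.Opens.range_ι]
        show (U ⊔ V).ι (X.homOfLE (hle b) p) ∈ O b
        rw [← Scheme.Hom.comp_apply, Scheme.homOfLE_ι]
        exact p.2)
    have hs : s ≫ 𝒰.f b = X.homOfLE (hle b) := IsOpenImmersion.lift_fac _ _ _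
    have hsm : s ≫ m b = 𝟙 _ := by
      rw [← cancel_mono (O b).ι, Category.assoc, hm, ← Category.assoc, IsOpenImmersion.lift_fac,
        Scheme.homOfLE_ι, Category.id_comp]
    rw [← hs, Category.assoc]
    show s ≫ 𝒰.f b ≫ 𝒰.glueMorphisms _ hcompat = ff b
    refine (congrArg (s ≫ ·) (Scheme.Cover.ι_glueMorphisms 𝒰 _ hcompat b)).trans ?_
    show s ≫ m b ≫ ff b = ff b
    rw [← Category.assoc]
    erw [hsm, Category.id_comp]
  refine ⟨U ⊔ V, le_sup_left, F, Or.inr hxV, ?_, hF false⟩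
  refine Scheme.Cover.hom_ext 𝒰 _ _ fun b => ?_
  show 𝒰.f b ≫ 𝒰.glueMorphisms _ hcompat ≫ πY = _
  have : ff b ≫ πY = (O b).ι ≫ πX := by cases b <;> assumption
  refine (Scheme.Cover.ι_glueMorphisms_assoc 𝒰 _ hcompat b πY).trans ?_
  show (m b ≫ ff b) ≫ πY = ((U ⊔ V).ι ⁻¹ᵁ O b).ι ≫ (U ⊔ V).ι ≫ πX
  rw [Category.assoc, this, ← Category.assoc, hm, Category.assoc]

end Groth.Agent.S6559
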