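import Groth.Statements.S6563
import Groth.Agent.H22Alg.CurveCompact
import Groth.Agent.H22Alg.CurveProj
import Groth.Agent.H22Alg.CurveQProj
import Groth.Agent.H22Alg.VarDim
import Groth.Agent.S2266

set_option autoImplicit false
universe u
open CategoryTheory CategoryTheory.Limits AlgebraicGeometry
open Curves

namespace Groth.Agent.S6563

/-- Let k be a field and f : X → Y a morphism over k of varieties over k, with X a curve (integral,
separated and of finite type over k, of dimension one) and Y proper over k (and integral). Then f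
extends over a projective completion of X: there are a projective curve X̄ over k (integral, of
dimension one, admitting a closed immersion over k into some P^n_k), an open immersion j : X → X̄
over k and a k-morphism g : X̄ → Y with g ∘ j = f. -/
theorem result (k : Type u) [Field k]
    (X Y : Scheme.{u}) [X.Over (Spec (CommRingCat.of k))] [Y.Over (Spec (CommRingCat.of k))]
    [IsIntegral X] [IsSeparated (X ↘ (Spec (CommRingCat.of k)))] [LocallyOfFiniteType (X ↘ (Spec (CommRingCat.of k)))] [QuasiCompact (X ↘ (Spec (CommRingCat.of k)))] (hdX : topologicalKrullDim X = 1)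
    [IsIntegral Y] [IsProper (Y ↘ (Spec (CommRingCat.of k)))]
    (f : X ⟶ Y) (hf : f ≫ (Y ↘ (Spec (CommRingCat.of k))) = X ↘ (Spec (CommRingCat.of k))) :
    ∃ (Xb : Scheme.{u}) (_ : Xb.Over (Spec (CommRingCat.of k))) (j : X ⟶ Xb) (g : Xb ⟶ Y),
      IsOpenImmersion j ∧ j ≫ g = f ∧ j ≫ (Xb ↘ (Spec (CommRingCat.of k))) = X ↘ (Spec (CommRingCat.of k)) ∧ g ≫ (Y ↘ (Spec (CommRingCat.of k))) = Xb ↘ (Spec (CommRingCat.of k)) ∧
      IsIntegral Xb ∧ topologicalKrullDim Xb = 1 ∧
      ∃ (n : ℕ) (i : Xb ⟶ CohB1.ProjSpace n k), IsClosedImmersion i ∧ i ≫ CohB1.ProjSpace.toSpec n k = Xb ↘ (Spec (CommRingCat.of k)) := by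
  let pX := X ↘ Spec (CommRingCat.of k)
  haveI := H22Alg.CurveQProj.isNoetherian_of_finType k (X := X)
  obtain ⟨d, Z, c, j, hc, hj, hjc, -, -, -, -⟩ := H22Alg.CurveCompact.exists_compactification k (X := X) hdX.le
  haveI := hc
  haveI := hj
  let pZ : Z ⟶ Spec (CommRingCat.of k) := c ≫ CohB1.ProjSpace.toSpec d k
  haveI : IsProper pZ := inferInstanceAs (IsProper (c ≫ CohB1.ProjSpace.toSpec d k))
  let pY := Y ↘ Spec (CommRingCat.of k)
  let F : X ⟶ pullback pZ pY := pullback.lift j f (hjc.trans hf.symm)
  have hF1 : F ≫ pullback.fst pZ pY = j := pullback.lift_fst _ _ _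
  have hF2 : F ≫ pullback.snd pZ pY = f := pullback.lift_snd _ _ _
  haveI : IsImmersion (F ≫ pullback.fst pZ pY) := by rw [hF1]; infer_instance
  haveI : IsImmersion F := IsImmersion.of_comp F (pullback.fst pZ pY)
  haveI : QuasiCompact F := inferInstance
  let G := F.image
  letI : G.Over (Spec (CommRingCat.of k)) := ⟨F.imageι ≫ pullback.fst pZ pY ≫ pZ⟩
  haveI : IsProper (G ↘ Spec (CommRingCat.of k)) :=
    inferInstanceAs (IsProper (F.imageι ≫ pullback.fst pZ pY ≫ pZ))
  haveI : IsReduced G := (S2266.result F).1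
  haveI : IrreducibleSpace G := by
    have h1 : IsIrreducible (Set.univ : Set G) := by
      have := ((IrreducibleSpace.isIrreducible_univ X).image F.toImage.base
        F.toImage.continuous.continuousOn).closure
      rwa [Set.image_univ, F.toImage.denseRange.closure_eq] at this
    exact (irreducibleSpace_def _).mpr h1
  haveI : IsIntegral G := isIntegral_of_irreducibleSpace_of_isReduced G
  have hjk : F.toImage ≫ (G ↘ Spec (CommRingCat.of k)) = pX := by
    show F.toImage ≫ F.imageι ≫ pullback.fst pZ pY ≫ pZ = pX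
    rw [← Category.assoc, Scheme.Hom.toImage_imageι, ← Category.assoc, hF1]
    exact hjc
  have hG : topologicalKrullDim G = 1 := by
    have h := H22Alg.CurveCompact.cdim_map k pX (G ↘ Spec (CommRingCat.of k)) F.toImage hjk (genericPoint X)
    rwa [genericPoint_eq_of_isOpenImmersion F.toImage, H22Alg.VarDim.cdim_genericPoint G,
      H22Alg.VarDim.cdim_genericPoint X, hdX] at h
  obtain ⟨L, hL⟩ := H22Alg.CurveQProj.exists_ample k (X := G) hG.le
  obtain ⟨n, i, hi, hiq⟩ := H22Alg.CurveProj.exists_closedImmersion k G hL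
  refine ⟨G, inferInstance, F.toImage, F.imageι ≫ pullback.snd pZ pY, inferInstance, ?_, hjk, ?_,
    inferInstance, hG, n, i, hi, hiq⟩
  · rw [← Category.assoc, Scheme.Hom.toImage_imageι, hF2]
  · show _ = F.imageι ≫ pullback.fst pZ pY ≫ pZ
    rw [Category.assoc, pullback.condition]

end Groth.Agent.S6563
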