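import Groth.Statements.S6564
import Mathlib

set_option autoImplicit false
universe u
open CategoryTheory CategoryTheory.Limits AlgebraicGeometry
open Curves

namespace Groth.Agent.S6564

/-- Let X be proper over the field k of dimension at most 1. If X has a g^r_d (an invertible module L of
degree d with an ordered family of r + 1 global sections linearly independent over k), then X has a
g^s_d for every 0 ≤ s ≤ r. -/
theorem result (k : Type u) [Field k] (X : Scheme.{u}) [X.Over (Spec (CommRingCat.of k))] [IsProper (X ↘ (Spec (CommRingCat.of k)))] (hdim : topologicalKrullDim X ≤ 1)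
    (d r : ℕ) (L : X.Modules) (σ : Fin (r + 1) → LinSer.Sect X L) (hL : LinSer.IsLinSer k X L d r σ)
    (s : ℕ) (hs : s ≤ r) :
    ∃ (L' : X.Modules) (τ : Fin (s + 1) → LinSer.Sect X L'), LinSer.IsLinSer k X L' d s τ := by
  classical
  obtain ⟨h1, h2, h3⟩ := hL
  let e : Fin (s + 1) → Fin (r + 1) := Fin.castLE (by omega)
  have he : Function.Injective e := Fin.castLE_injective _
  refine ⟨L, σ ∘ e, h1, h2, fun c hc => ?_⟩
  have h := h3 (Function.extend e c 0) (by
    rw [← hc]
    rw [← Finset.sum_subset (Finset.subset_univ (Finset.univ.image e)) (fun x _ hx => ?_),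
      Finset.sum_image fun a _ b _ hab => he hab]
    · exact Finset.sum_congr rfl fun i _ => by rw [he.extend_apply]; rfl
    · rw [Function.extend_apply' _ _ _ (by simpa using hx)]
      simp)
  funext i
  simpa [he.extend_apply] using congrFun h (e i)

end Groth.Agent.S6564
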