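import Groth.Statements.S6566
import Groth.Agent.H4RSH.SerreCurve
import Groth.Agent.LeadVan.Vanishing

set_option autoImplicit false
universe u
open CategoryTheory CategoryTheory.Limits AlgebraicGeometry
attribute [local instance] HasDerivedCategory.standard
open Curves

namespace Groth.Agent.S6566

attribute [local instance 10000] H10Coh.hasSheafifyAb H10Coh.hasWeakSheafifyAb H10Coh.hasExtAb H10Coh.enoughInjAb

/-- Let X be proper over the field k, of dimension one, with H^0(X, O_X) = k, and ω_X its dualizing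
module (the degree -1 cohomology sheaf of f^! O for the structure morphism f, assuming Rf_* on
D_QCoh and its right adjoint exist). For coherent O_X-modules F and Q and an exact sequence ω_X → F
→ Q → 0 in which Q has no first cohomology, F has no first cohomology unless the map ω_X → F admits
a retraction (so that F splits as ω_X ⊕ Q): that is, H^1(X, F) = 0 or ω_X → F has a left inverse. -/
theorem result (k : Type u) [Field k] (X : Scheme.{u}) [X.Over (Spec (CommRingCat.of k))] [IsProper (X ↘ (Spec (CommRingCat.of k)))] (hdim : topologicalKrullDim X = 1)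
    (h0 : Module.finrank k (Coh.HH X (Coh.structureModule X) 0) = 1)
    [DCoh.HasRpush (X ↘ (Spec (CommRingCat.of k)))] (h : DCoh.RpushPreservesQCoh (X ↘ (Spec (CommRingCat.of k)))) [DCoh.HasShriek (X ↘ (Spec (CommRingCat.of k))) h]
    (OY : DCoh.DQCoh (Spec (CommRingCat.of k))) (hOY : Nonempty (OY.obj ≅ DCoh.inD (Spec (CommRingCat.of k)) (Coh.structureModule (Spec (CommRingCat.of k)))))
    (F Q : X.Modules) (hF : Coh.IsCoh F) (hQ : Coh.IsCoh Q)
    (f : DCoh.dualizingMod (X ↘ (Spec (CommRingCat.of k))) h OY 1 ⟶ F) (g : F ⟶ Q) [Epi g] (w : f ≫ g = 0) (hex : (ShortComplex.mk f g w).Exact)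
    (hQ1 : Subsingleton (Coh.HH X Q 1)) :
    Subsingleton (Coh.HH X F 1) ∨ ∃ r : F ⟶ DCoh.dualizingMod (X ↘ (Spec (CommRingCat.of k))) h OY 1, f ≫ r = 𝟙 (DCoh.dualizingMod (X ↘ (Spec (CommRingCat.of k))) h OY 1) := by
  classical
  haveI := H4RepDual.hasExtModules X
  let fX := X ↘ Spec (CommRingCat.of k)
  let ω := DCoh.dualizingMod fX h OY 1
  haveI : CompactSpace X := QuasiCompact.compactSpace_of_compactSpace fX
  haveI : IsLocallyNoetherian X := LocallyOfFiniteType.isLocallyNoetherian fX
  haveI : AlgebraicGeometry.IsNoetherian X := {}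
  have hX : topologicalKrullDim X ≤ ((1 : ℕ) : WithBot ℕ∞) := le_of_eq hdim
  have hsurj : Function.Surjective (Canon.HHlin k f 1) := by
    have hS : (ShortComplex.mk (Abelian.image.ι f) g
        (by rw [← cancel_epi (Abelian.factorThruImage f), ← Category.assoc, Abelian.image.fac, w, comp_zero])).ShortExact := by
      haveI : Mono (Abelian.image.ι f) := inferInstance
      refine { exact := ?_ }
      let S₁ := ShortComplex.mk f g w
      let S₂ := ShortComplex.mk (Abelian.image.ι f) g
        (by rw [← cancel_epi (Abelian.factorThruImage f), ← Category.assoc, Abelian.image.fac, w, comp_zero])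
      let φ : S₁ ⟶ S₂ :=
        { τ₁ := Abelian.factorThruImage f, τ₂ := 𝟙 _, τ₃ := 𝟙 _,
          comm₁₂ := (Abelian.image.fac f).trans (Category.comp_id _).symm,
          comm₂₃ := (Category.id_comp _).trans (Category.comp_id _).symm }
      haveI : Epi φ.τ₁ := inferInstanceAs (Epi (Abelian.factorThruImage f))
      haveI : IsIso φ.τ₂ := inferInstanceAs (IsIso (𝟙 _))
      haveI : Mono φ.τ₃ := inferInstanceAs (Mono (𝟙 _))
      exact (ShortComplex.exact_iff_of_epi_of_isIso_of_mono φ).1 hex
    intro y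
    obtain ⟨z, hz⟩ := Abelian.Ext.covariant_sequence_exact₂ _ (H10Coh.shortExact_sh hS) y
      (by exact Subsingleton.elim (α := Coh.HH X Q 1) _ _)
    let φ := Abelian.factorThruImage f
    haveI : Subsingleton (Coh.HH X (kernel φ) 2) :=
      LeadVan.subsingleton_H_of_dim_le 1 (by exact_mod_cast hX) _ 2 one_lt_two
    have hK : (ShortComplex.mk (kernel.ι φ) φ (kernel.condition φ)).ShortExact :=
      { exact := ShortComplex.exact_kernel _ }
    obtain ⟨x, hx⟩ : ∃ x, Canon.HHlin k φ 1 x = (show Coh.HH X (Abelian.image f) 1 from z) :=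
      Abelian.Ext.covariant_sequence_exact₃ _ (H10Coh.shortExact_sh hK) z (n₁ := 2) rfl
        (Subsingleton.elim (α := Coh.HH X (kernel φ) 2) _ _)
    refine ⟨x, ?_⟩
    have h1 : Canon.HHlin k (Abelian.image.ι f) 1 (Canon.HHlin k (Abelian.factorThruImage f) 1 x) = y := by
      rw [hx]
      exact hz
    refine Eq.trans ?_ h1
    conv_lhs => rw [← Abelian.image.fac f]
    exact (Formal.HHmap_comp _ _ 1 x).symm
  rcases subsingleton_or_nontrivial (Coh.HH X F 1) with h1 | h1
  · exact Or.inl h1
  right
  obtain ⟨T, hT⟩ := H4RSH.SerreDual.exists_injective_top (DCoh.shriekAdj fX h) OY hOY hX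
  have hD : Module.finrank k (Module.Dual k (Coh.HH X (Coh.structureModule X) 0)) = 1 := by
    rw [Subspace.dual_finrank_eq, h0]
  haveI : Module.Finite k (Module.Dual k (Coh.HH X (Coh.structureModule X) 0)) :=
    Module.finite_of_finrank_eq_succ hD
  haveI : Module.Finite k (Coh.HH X ω 1) := Module.Finite.of_injective T hT
  have hle : Module.finrank k (Coh.HH X ω 1) ≤ 1 := (LinearMap.finrank_le_finrank_of_injective (f := T) hT).trans hD.le
  haveI : Module.Finite k (Coh.HH X F 1) := Module.Finite.of_surjective (Canon.HHlin k f 1) hsurj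
  have hge : 1 ≤ Module.finrank k (Coh.HH X F 1) := Module.finrank_pos
  have hle' : Module.finrank k (Coh.HH X F 1) ≤ Module.finrank k (Coh.HH X ω 1) :=
    LinearMap.finrank_le_finrank_of_surjective hsurj
  have hinj : Function.Injective (Canon.HHlin k f 1) :=
    (LinearMap.injective_iff_surjective_of_finrank_eq_finrank (show Module.finrank k (Coh.HH X ω 1) = Module.finrank k (Coh.HH X F 1) by omega)).2 hsurj
  obtain ⟨t, ht⟩ := H4RSH.SerreDual.exists_trace (DCoh.shriekAdj fX h) OY hOY hX
  let eF := LinearEquiv.ofBijective (Canon.HHlin k f 1) ⟨hinj, hsurj⟩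
  obtain ⟨r, hr, -⟩ := ht F hF.1 (t ∘ₗ eF.symm.toLinearMap)
  refine ⟨r, (ht ω ((DCoh.shriek fX h).obj OY |>.property _) t).unique ?_ ?_⟩
  · refine LinearMap.ext fun x => ?_
    show t (Canon.HHlin k (f ≫ r) 1 x) = t x
    rw [show Canon.HHlin k (f ≫ r) 1 x = Canon.HHlin k r 1 (Canon.HHlin k f 1 x) from (Formal.HHmap_comp _ _ 1 x).symm]
    refine (LinearMap.congr_fun hr (eF x)).trans ?_
    show t (eF.symm (eF x)) = t x
    rw [LinearEquiv.symm_apply_apply]
  · refine LinearMap.ext fun x => ?_
    show t (Canon.HHlin k (𝟙 ω) 1 x) = t x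
    congr 1
    show Sheaf.H.map ((SheafOfModules.toSheaf _).map (𝟙 ω)) 1 x = x
    exact (congrArg (fun v => Sheaf.H.map v 1 x) ((SheafOfModules.toSheaf X.ringCatSheaf).map_id ω)).trans
      (Sheaf.H.map_id_apply _)

end Groth.Agent.S6566
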