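import Groth.Statements.S6567
import Groth.Agent.H4RSH.CurveGen
import Groth.Agent.H4RSH.LineSection
import Groth.Agent.S6566

set_option autoImplicit false
set_option synthInstance.maxHeartbeats 400000
set_option maxHeartbeats 1000000
set_option linter.style.haveILetI false
universe u
open CategoryTheory CategoryTheory.Limits AlgebraicGeometry
attribute [local instance] HasDerivedCategory.standard
open Curves

namespace Groth.Agent.S6567

/-- Let X be proper over the field k, of dimension one, with H^0(X, O_X) = k, and ω_X its dualizing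
module (the degree -1 cohomology sheaf of f^! O for the structure morphism f, assuming Rf_* on
D_QCoh and its right adjoint exist). Suppose ω_X → F → Q → 0 is exact, with F and Q coherent
O_X-modules, where Q has zero-dimensional support and dim_k H^0(X, Q) ≥ 2, and suppose no nonzero
submodule Q' ⊆ F maps injectively into Q. Then the global sections of F together map onto Q: for
some index type ι and some map p from the free module O_X^{(ι)} to F, the composite O_X^{(ι)} → F →
Q is an epimorphism. -/
theorem result (k : Type u) [Field k] (X : Scheme.{u}) [X.Over (Spec (CommRingCat.of k))] [IsProper (X ↘ (Spec (CommRingCat.of k)))] (hdim : topologicalKrullDim X = 1)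
    (h0 : Module.finrank k (Coh.HH X (Coh.structureModule X) 0) = 1)
    [DCoh.HasRpush (X ↘ (Spec (CommRingCat.of k)))] (h : DCoh.RpushPreservesQCoh (X ↘ (Spec (CommRingCat.of k)))) [DCoh.HasShriek (X ↘ (Spec (CommRingCat.of k))) h]
    (OY : DCoh.DQCoh (Spec (CommRingCat.of k))) (hOY : Nonempty (OY.obj ≅ DCoh.inD (Spec (CommRingCat.of k)) (Coh.structureModule (Spec (CommRingCat.of k)))))
    (F Q : X.Modules) (hF : Coh.IsCoh F) (hQ : Coh.IsCoh Q)
    (f : DCoh.dualizingMod (X ↘ (Spec (CommRingCat.of k))) h OY 1 ⟶ F) (g : F ⟶ Q) [Epi g] (w : f ≫ g = 0) (hex : (ShortComplex.mk f g w).Exact)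
    (hQ0 : topologicalKrullDim (CohB1.support Q) ≤ 0) (hQ2 : 2 ≤ Module.finrank k (Coh.HH X Q 0))
    (hno : ∀ (Q' : X.Modules) (i : Q' ⟶ F), Mono i → Mono (i ≫ g) → IsZero Q') :
    ∃ (ι : Type u) (p : (SheafOfModules.free ι : X.Modules) ⟶ F), Epi (p ≫ g) := by
  classical
  haveI := H4RepDual.hasExtModules X
  let fX := X ↘ Spec (CommRingCat.of k)
  let ω := DCoh.dualizingMod fX h OY 1
  have adj := DCoh.shriekAdj fX h
  obtain ⟨hc, hN, -, hcoh, -⟩ := H4RSH.ProperLocal.exists_setup_field fX adj OY hOY
  haveI := hc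
  haveI := hN
  haveI : AlgebraicGeometry.IsNoetherian X := {}
  have hX : topologicalKrullDim X ≤ ((1 : ℕ) : WithBot ℕ∞) := le_of_eq hdim
  have hω : Coh.IsCoh ω := hcoh _
  have hQf := H4RSH.CurveGen.finSupp_of_dim hQ hQ0
  have hQ1 : Subsingleton (Coh.HH X Q 1) := hQf.subsingleton_HH one_pos
  have hQnz : ¬ IsZero Q := fun hz => by
    haveI : Subsingleton Γ(Q, ⊤) := subsingleton_of_forall_eq 0 fun m => by
      exact congr($(congrArg (fun v => Scheme.Modules.Hom.app v ⊤) (hz.eq_of_src (𝟙 Q) 0)) m)
    haveI : Subsingleton (Coh.HH X Q 0) := (H10Coh.HH0Equiv Q).toEquiv.injective.subsingleton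
    rw [Module.finrank_zero_of_subsingleton] at hQ2
    omega
  have key : ∀ (F' : X.Modules) (ι' : F' ⟶ F) (f' : ω ⟶ F'), Mono ι' → f' ≫ ι' = f →
      ∀ r' : F' ⟶ ω, f' ≫ r' = 𝟙 ω → ι' ≫ g = 0 := by
    intro F' ι' f' hm hf' r' hr'
    haveI := hm
    haveI : Mono f' := (SplitMono.mk r' hr').mono
    haveI : Mono f := by rw [← hf']; infer_instance
    let i := kernel.ι r' ≫ ι'
    have hi : Mono (i ≫ g) := Preadditive.mono_of_cancel_zero _ fun z hz => by
      let u := hex.lift (z ≫ i) (by rw [Category.assoc]; exact hz)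
      have hu : u ≫ f = z ≫ i := hex.lift_f _ _
      have h1 : u ≫ f' = z ≫ kernel.ι r' := by
        rw [← cancel_mono ι', Category.assoc, hf', hu, Category.assoc]
      have h2 : u = 0 := by
        have := congrArg (· ≫ r') h1
        simpa [Category.assoc, hr'] using this
      rw [h2, zero_comp] at h1
      exact (cancel_mono (kernel.ι r')).1 (by rw [← h1, zero_comp])
    have hz := hno _ i inferInstance hi
    haveI : Mono r' := Preadditive.mono_of_kernel_zero (hz.eq_of_src _ _)
    have hr2 : r' ≫ f' = 𝟙 F' := by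
      rw [← cancel_mono r', Category.assoc, hr', Category.comp_id, Category.id_comp]
    rw [← Category.id_comp (ι' ≫ g), ← hr2, Category.assoc, ← Category.assoc f', hf', w, comp_zero]
  have hF1 : Subsingleton (Coh.HH X F 1) := by
    rcases S6566.result k X hdim h0 h OY hOY F Q hF hQ f g w hex hQ1 with h1 | ⟨r, hr⟩
    · exact h1
    · refine absurd ?_ hQnz
      have hg0 : g = 0 := by simpa using key F (𝟙 F) f inferInstance (Category.comp_id f) r hr
      exact IsZero.of_epi_eq_zero g hg0
  obtain ⟨a, ha⟩ := H4RSH.CurveGen.exists_eval F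
  refine ⟨Γ(F, ⊤), a, ?_⟩
  let q := cokernel.π (a ≫ g)
  let F' := kernel (g ≫ q)
  let ι' : F' ⟶ F := kernel.ι (g ≫ q)
  let f' : ω ⟶ F' := kernel.lift (g ≫ q) f (by rw [← Category.assoc, w, zero_comp])
  let b : H10Coh.freeMod X Γ(F, ⊤) ⟶ F' := kernel.lift (g ≫ q) a ((Category.assoc _ _ _).symm.trans (cokernel.condition (a ≫ g)))
  have hs : Function.Surjective (ι'.app ⊤) :=
    H4RSH.CurveGen.surjective_app_top_of_factors ha ι' b (kernel.lift_ι _ _ _)
  have hcokq : Coh.IsQCoh (cokernel (a ≫ g)) :=
    (H10Coh.isCoh_cokernel (F := H10Coh.freeMod X Γ(F, ⊤)) (a ≫ g) (H10Coh.isQuasicoherent_coproduct' _) hQ).1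
  have hF' : Coh.IsCoh F' := H10Coh.isCoh_kernel (g ≫ q) hF hcokq
  -- exactness on stalks
  have hker : ∀ (x : X) (v : F.presheaf.stalk x), H06Mod.stalkLin g x v = 0 →
      ∃ u, H06Mod.stalkLin f x u = v := fun x v hv =>
    (ShortComplex.moduleCat_exact_iff _).1 (hex.map (DerSch.stalkFunctor X x)) v hv
  have hsurjstalk : ∀ x, x ∉ CohB1.support Q → Function.Surjective (H06Mod.stalkLin f x) := fun x hx v =>
    hker x v (@Subsingleton.elim _ (not_not.1 hx) _ _)
  have hQ'f : H4RSH.CurveGen.FinSupp (cokernel f') := by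
    refine hQf.of_subset fun x hx => ?_
    by_contra hxQ
    refine hx (subsingleton_of_forall_eq 0 fun c => ?_)
    obtain ⟨v, rfl⟩ := H06Mod.surjective_stalk_of_epi (cokernel.π f') x c
    obtain ⟨u, hu⟩ := hsurjstalk x hxQ (H06Mod.stalkLin ι' x v)
    have hv : H06Mod.stalkLin f' x u = v := by
      refine H10Coh.FibreLift.injective_stalkLin_of_mono ι' x ?_
      rw [← H29Omega.stalkLin_comp, kernel.lift_ι, hu]
    show H06Mod.stalkLin (cokernel.π f') x v = 0
    rw [← hv, ← H29Omega.stalkLin_comp, cokernel.condition]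
    exact H4RSH.LineSection.stalkLin_zero_apply x u
  have hcokf' : Coh.IsCoh (cokernel f') := H10Coh.isCoh_cokernel f' hω.1 hF'
  have hF'1 : Subsingleton (Coh.HH X F' 1) := by
    rcases S6566.result k X hdim h0 h OY hOY F' (cokernel f') hF' hcokf' f' (cokernel.π f') (cokernel.condition f')
      (ShortComplex.exact_cokernel f') (hQ'f.subsingleton_HH one_pos) with h1 | ⟨r, hr⟩
    · exact h1
    · exfalso
      have hzero := key F' ι' f' inferInstance (kernel.lift_ι _ _ _) r hr
      have hS : (ShortComplex.mk (kernel.ι g) g (kernel.condition g)).ShortExact :=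
        { exact := ShortComplex.exact_kernel _ }
      have hK : Coh.IsCoh (kernel g) := H10Coh.isCoh_kernel g hF hQ.1
      let f₀ : ω ⟶ kernel g := kernel.lift g f w
      haveI : Epi f₀ := hex.epi_kernelLift
      obtain ⟨T, hT⟩ := H4RSH.SerreDual.exists_injective_top adj OY hOY hX
      have hD : Module.finrank k (Module.Dual k (Coh.HH X (Coh.structureModule X) 0)) = 1 := by
        rw [Subspace.dual_finrank_eq, h0]
      haveI : Module.Finite k (Module.Dual k (Coh.HH X (Coh.structureModule X) 0)) :=
        Module.finite_of_finrank_eq_succ hD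
      haveI : Module.Finite k (Coh.HH X ω 1) := Module.Finite.of_injective T hT
      have hle : Module.finrank k (Coh.HH X ω 1) ≤ 1 := (LinearMap.finrank_le_finrank_of_injective (f := T) hT).trans hD.le
      have hle' := LinearMap.finrank_le_finrank_of_surjective (H4RSH.CurveGen.surjective_H1_of_epi (k := k) hX f₀)
      have hineq := H4RSH.CurveGen.finrank_le_range_add (k := k) (le_of_eq hdim) hS hK hF hQ hQ1
      have hg0 : Canon.HHlin k g 0 = 0 := LinearMap.ext fun x => by
        obtain ⟨m, hm⟩ := hs (H10Coh.HH0Equiv F x)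
        refine (H10Coh.HH0Equiv Q).injective ?_
        refine (H28NT.HH0Equiv_map g x).trans ?_
        rw [← hm, LinearMap.zero_apply, map_zero]
        exact congr($(congrArg (fun k => Scheme.Modules.Hom.app k ⊤) hzero) m)
      change Module.finrank k (Coh.HH X Q 0) ≤ Module.finrank k (LinearMap.range (Canon.HHlin k g 0)) +
        Module.finrank k (Coh.HH X (kernel g) 1) at hineq
      rw [hg0, LinearMap.range_zero, finrank_bot] at hineq
      omega
  have hR : H4RSH.CurveGen.FinSupp (cokernel ι') := by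
    refine hQf.of_subset (H4RSH.CurveGen.epi_desc_of_epi g (cokernel.π ι') fun x hx v => ?_)
    obtain ⟨u, rfl⟩ := hsurjstalk x hx v
    rw [← kernel.lift_ι (g ≫ q) f (by rw [← Category.assoc, w, zero_comp]), H29Omega.stalkLin_comp,
      ← H29Omega.stalkLin_comp ι' (cokernel.π ι'), cokernel.condition]
    exact H4RSH.LineSection.stalkLin_zero_apply x _
  haveI := H4RSH.CurveGen.isIso_of_sections ι' hs hF'1 hR
  have h2 : g ≫ q = 0 := by
    rw [← cancel_epi ι', comp_zero]
    exact kernel.condition _
  haveI : Epi (a ≫ g) := Abelian.epi_of_cokernel_π_eq_zero _ (Limits.zero_of_epi_comp g h2)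
  exact (inferInstance : Epi (a ≫ g))

end Groth.Agent.S6567
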