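import Groth.Statements.S6568
import Groth.Agent.H4RSH.Generated
import Groth.Agent.S6566

set_option autoImplicit false
set_option synthInstance.maxHeartbeats 400000
set_option maxHeartbeats 1000000
set_option linter.style.haveILetI false
universe u
open CategoryTheory CategoryTheory.Limits AlgebraicGeometry
attribute [local instance] HasDerivedCategory.standard
open Curves

namespace Groth.Agent.S6568

/-- Let X be proper and integral over the field k, of dimension one, with H^0(X, O_X) = k, and ω_X its
dualizing module (the degree -1 cohomology sheaf of f^! O for the structure morphism f, assuming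
Rf_* on D_QCoh and its right adjoint exist). Suppose F is a torsion-free coherent O_X-module
(stalkwise: a · m = 0 forces a = 0 or m = 0) containing ω_X as a submodule, with coherent quotient Q
= F/ω_X supported in dimension zero and with dim_k H^0(X, Q) ≥ 2 (so 0 → ω_X → F → Q → 0 is short
exact). Then F is generated by its global sections. -/
theorem result (k : Type u) [Field k] (X : Scheme.{u}) [X.Over (Spec (CommRingCat.of k))] [IsIntegral X] [IsProper (X ↘ (Spec (CommRingCat.of k)))] (hdim : topologicalKrullDim X = 1)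
    (h0 : Module.finrank k (Coh.HH X (Coh.structureModule X) 0) = 1)
    [DCoh.HasRpush (X ↘ (Spec (CommRingCat.of k)))] (h : DCoh.RpushPreservesQCoh (X ↘ (Spec (CommRingCat.of k)))) [DCoh.HasShriek (X ↘ (Spec (CommRingCat.of k))) h]
    (OY : DCoh.DQCoh (Spec (CommRingCat.of k))) (hOY : Nonempty (OY.obj ≅ DCoh.inD (Spec (CommRingCat.of k)) (Coh.structureModule (Spec (CommRingCat.of k)))))
    (F Q : X.Modules) (hF : Coh.IsCoh F) (hQ : Coh.IsCoh Q)
    (f : DCoh.dualizingMod (X ↘ (Spec (CommRingCat.of k))) h OY 1 ⟶ F) (g : F ⟶ Q) (w : f ≫ g = 0) (hex : (ShortComplex.mk f g w).ShortExact)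
    (htf : ∀ (x : X) (a : X.presheaf.stalk x) (m : F.presheaf.stalk x), a • m = 0 → a = 0 ∨ m = 0)
    (hQ0 : topologicalKrullDim (CohB1.support Q) ≤ 0) (hQ2 : 2 ≤ Module.finrank k (Coh.HH X Q 0)) :
    Curv2.IsGloballyGenerated F := by
  classical
  haveI := H4RepDual.hasExtModules X
  let fX := X ↘ Spec (CommRingCat.of k)
  let ω := DCoh.dualizingMod fX h OY 1
  have adj := DCoh.shriekAdj fX h
  obtain ⟨hc, hN, hE, hcoh, -⟩ := H4RSH.ProperLocal.exists_setup_field fX adj OY hOY
  haveI := hc
  haveI := hN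
  haveI : AlgebraicGeometry.IsNoetherian X := {}
  have hX : topologicalKrullDim X ≤ ((1 : ℕ) : WithBot ℕ∞) := le_of_eq hdim
  have hω : Coh.IsCoh ω := hcoh _
  haveI : Mono f := hex.mono_f
  haveI : Epi g := hex.epi_g
  have hFg := H4RSH.CurveGen.genInj_of_torsionFree hF.1 htf
  have hωg : H4RSH.CurveGen.GenInj ω := hFg.of_mono f
  have hQf := H4RSH.CurveGen.finSupp_of_dim hQ hQ0
  have hQη := hQf.notMem_generic hdim
  have hQ1 : Subsingleton (Coh.HH X Q 1) := hQf.subsingleton_HH one_pos
  have hF1 : Subsingleton (Coh.HH X F 1) := by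
    rcases S6566.result k X hdim h0 h OY hOY F Q hF hQ f g w hex.exact hQ1 with h1 | ⟨r, hr⟩
    · exact h1
    · exfalso
      haveI : IsIso f := H4RSH.CurveGen.isIso_of_retraction hex.exact hQη hFg r hr
      have hz : IsZero Q := IsZero.of_epi_eq_zero g (by rw [← cancel_epi f, w, comp_zero])
      haveI : Subsingleton Γ(Q, ⊤) := subsingleton_of_forall_eq 0 fun m => by
        exact congr($(congrArg (fun v => Scheme.Modules.Hom.app v ⊤) (hz.eq_of_src (𝟙 Q) 0)) m)
      haveI : Subsingleton (Coh.HH X Q 0) := (H10Coh.HH0Equiv Q).toEquiv.injective.subsingleton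
      rw [Module.finrank_zero_of_subsingleton] at hQ2
      omega
  obtain ⟨T, hT⟩ := H4RSH.SerreDual.exists_injective_top adj OY hOY hX
  have hD : Module.finrank k (Module.Dual k (Coh.HH X (Coh.structureModule X) 0)) = 1 := by
    rw [Subspace.dual_finrank_eq, h0]
  haveI : Module.Finite k (Module.Dual k (Coh.HH X (Coh.structureModule X) 0)) :=
    Module.finite_of_finrank_eq_succ hD
  haveI : Module.Finite k (Coh.HH X ω 1) := Module.Finite.of_injective T hT
  have hle : Module.finrank k (Coh.HH X ω 1) ≤ 1 := (LinearMap.finrank_le_finrank_of_injective (f := T) hT).trans hD.le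
  have hbig : Module.finrank k (Coh.HH X ω 0) < Module.finrank k (Coh.HH X F 0) :=
    H4RSH.CurveGen.finrank_lt (k := k) (le_of_eq hdim) hex hω hF hQ hQ1 (by omega)
  obtain ⟨t, ht⟩ := H4RSH.SerreDual.exists_trace adj OY hOY hX
  have hspan := fun γ hγ => H4RSH.CurveGen.exists_smul_eq (γ := γ) hex.exact hQη
    (H4RSH.ProperLocal.cyclic_stalk_generic hE _) hγ
  obtain ⟨a, ha⟩ := H4RSH.CurveGen.exists_eval F
  have hfree : Coh.IsQCoh (H10Coh.freeMod X Γ(F, ⊤)) := H10Coh.isQuasicoherent_coproduct' _
  have hI : Coh.IsCoh (Abelian.image a) :=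
    H10Coh.isCoh_kernel (cokernel.π a) hF (H10Coh.isCoh_cokernel a hfree hF).1
  haveI := H4RSH.CurveGen.isIso_image (k := k) hdim hF hFg hω hωg t ht hspan hbig hI (Abelian.image.ι a)
    (H4RSH.CurveGen.surjective_app_top_of_factors ha _ (Abelian.factorThruImage a) (Abelian.image.fac a))
  have he : Epi (Abelian.factorThruImage a ≫ Abelian.image.ι a) := inferInstance
  rw [Abelian.image.fac] at he
  exact ⟨Γ(F, ⊤), a, he⟩

end Groth.Agent.S6568
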