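import Groth.Statements.S6569
import Groth.Agent.H29Node.SyntomicFamily

set_option autoImplicit false
universe u
open CategoryTheory CategoryTheory.Limits AlgebraicGeometry
attribute [local instance] HasDerivedCategory.standard
open Curves

namespace Groth.Agent.S6569

/-- Let k be a field and X a scheme locally of finite type over k, equidimensional of dimension 1; the
structure morphism is also assumed quasi-separated (automatic here, X being locally Noetherian), so
that the sheaf of differentials Ω_{X/k} can be taken as the conormal sheaf of the diagonal. Two
conditions on X are then equivalent: (1) X has at worst nodal singularities; (2) X → Spec k is a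
local complete intersection morphism, and Z → Spec k is unramified, where Z ⊆ X denotes the closed
subscheme whose ideal sheaf is the first Fitting ideal of Ω_{X/k}. -/
theorem result (k : Type u) [Field k] (X : Scheme.{u}) [X.Over (Spec (CommRingCat.of k))] [LocallyOfFiniteType (X ↘ (Spec (CommRingCat.of k)))] [QuasiSeparated (X ↘ (Spec (CommRingCat.of k)))]
    (hequi : ∀ Z ∈ irreducibleComponents (X : Type u), topologicalKrullDim Z = 1) :
    Curv2.AtWorstNodal k X ↔
      (Dual3.IsLCIMor (X ↘ (Spec (CommRingCat.of k))) ∧
        FormallyUnramified ((Fitt.sheafIdeal (Omega.sheaf (X ↘ (Spec (CommRingCat.of k)))) 1).subschemeι ≫ (X ↘ (Spec (CommRingCat.of k))))) := by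
  rw [← H29Node.isNodalFamily_over_field_iff k X hequi, H29Node.isNodalFamily_iff_syntomic]
  haveI : Flat (X ↘ Spec (CommRingCat.of k)) := H28Def.flat_of_field _
  rw [H29Node.isSyntomicMor_iff_isLCIMor]
  refine and_congr_right fun _ => ⟨fun h => h.2, fun h => ⟨fun x => ?_, h⟩⟩
  rw [H29Node.localFibreDim_eq]
  exact H29Node.fibreDimAt_over_field k X hequi x

end Groth.Agent.S6569
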