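import Groth.Statements.S6575
import Mathlib

set_option autoImplicit false
universe u
open Curves

namespace Groth.Agent.S6575

theorem key (k : Type u) [Field k] (n m l r : ℕ)
    (f : Fin m → MvPowerSeries (Fin n) k) (g : Fin l → MvPowerSeries (Fin n) k)
    (hfg : Ideal.span (Set.range f) ≤ Ideal.span (Set.range g)) :
    Ideal.span {d : MvPowerSeries (Fin n) k | ∃ (ρ : Fin r → Fin m) (γ : Fin r → Fin n), Function.Injective ρ ∧ Function.Injective γ ∧
          d = ((Matrix.of fun (j : Fin m) (i : Fin n) => MvPowerSeries.pderiv k i (f j)).submatrix ρ γ).det} ⊔ Ideal.span (Set.range f) ≤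
      Ideal.span {d : MvPowerSeries (Fin n) k | ∃ (ρ : Fin r → Fin l) (γ : Fin r → Fin n), Function.Injective ρ ∧ Function.Injective γ ∧
          d = ((Matrix.of fun (j : Fin l) (i : Fin n) => MvPowerSeries.pderiv k i (g j)).submatrix ρ γ).det} ⊔ Ideal.span (Set.range g) := by
  classical
  refine sup_le ?_ (hfg.trans le_sup_right)
  rw [Ideal.span_le]
  rintro d ⟨ρ, γ, hρ, hγ, rfl⟩
  choose c hc using fun j => (Ideal.mem_span_range_iff_exists_fun).mp (hfg (Ideal.subset_span ⟨j, rfl⟩) : f j ∈ _)
  set J := Ideal.span (Set.range g)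
  set D := Ideal.span {d : MvPowerSeries (Fin n) k | ∃ (ρ : Fin r → Fin l) (γ : Fin r → Fin n), Function.Injective ρ ∧ Function.Injective γ ∧
          d = ((Matrix.of fun (j : Fin l) (i : Fin n) => MvPowerSeries.pderiv k i (g j)).submatrix ρ γ).det}
  let q := Ideal.Quotient.mk J
  suffices h : q (((Matrix.of fun (j : Fin m) (i : Fin n) => MvPowerSeries.pderiv k i (f j)).submatrix ρ γ).det) ∈ D.map q by
    have := Ideal.comap_map_of_surjective q Ideal.Quotient.mk_surjective D
    rw [← RingHom.ker, Ideal.mk_ker] at this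
    rw [SetLike.mem_coe, ← this]
    exact h
  rw [RingHom.map_det]
  let G : Fin l → Fin r → _ := fun a i => q (MvPowerSeries.pderiv k (γ i) (g a))
  have hrow : q.mapMatrix ((Matrix.of fun (j : Fin m) (i : Fin n) => MvPowerSeries.pderiv k i (f j)).submatrix ρ γ) =
      fun j => ∑ a, q (c (ρ j) a) • G a := by
    ext j i
    rw [RingHom.mapMatrix_apply]
    simp only [Matrix.map_apply, Matrix.submatrix_apply, Matrix.of_apply, Finset.sum_apply, Pi.smul_apply, smul_eq_mul, G]
    rw [← hc (ρ j), map_sum, map_sum]
    refine Finset.sum_congr rfl fun a _ => ?_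
    rw [Derivation.leibniz, map_add, smul_eq_mul, smul_eq_mul, map_mul, map_mul,
      show q (g a) = 0 from Ideal.Quotient.eq_zero_iff_mem.mpr (Ideal.subset_span ⟨a, rfl⟩), zero_mul, add_zero]
  rw [hrow]
  change Matrix.detRowAlternating.toMultilinearMap (fun j => ∑ a, q (c (ρ j) a) • G a) ∈ _
  rw [MultilinearMap.map_sum]
  refine Ideal.sum_mem _ fun σ _ => ?_
  rw [MultilinearMap.map_smul_univ, smul_eq_mul]
  refine Ideal.mul_mem_left _ _ ?_
  by_cases hσ : Function.Injective σ
  · have h2 := Ideal.mem_map_of_mem q (Ideal.subset_span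
      (show ((Matrix.of fun (j : Fin l) (i : Fin n) => MvPowerSeries.pderiv k i (g j)).submatrix σ γ).det ∈ _ from
        ⟨σ, γ, hσ, hγ, rfl⟩) : _ ∈ D)
    rw [RingHom.map_det] at h2
    exact h2
  · rw [Function.not_injective_iff] at hσ
    obtain ⟨i, j, hij, hne⟩ := hσ
    have : Matrix.detRowAlternating (fun j => G (σ j)) = 0 :=
      AlternatingMap.map_eq_zero_of_eq _ _ (by simp [hij]) hne
    exact this ▸ Ideal.zero_mem _


/-- Let k be a field, A = k[[x_1, …, x_n]] and I ⊆ A an ideal generated by f_1, …, f_m and also by g_1,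
…, g_l. Then for every r ≥ 0 the ideal of A/I generated by the r × r minors of (∂f_j/∂x_i) equals
the one generated by the r × r minors of (∂g_s/∂x_i); stated in A as equality of the ideals
generated by the minors together with I. (The published result also asserts independence of the
regular system of parameters x_1, …, x_n, which is not stated here.) -/
theorem result (k : Type u) [Field k] (n m l r : ℕ)
    (f : Fin m → MvPowerSeries (Fin n) k) (g : Fin l → MvPowerSeries (Fin n) k)
    (hfg : Ideal.span (Set.range f) = Ideal.span (Set.range g)) :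
    Ideal.span {d : MvPowerSeries (Fin n) k | ∃ (ρ : Fin r → Fin m) (γ : Fin r → Fin n), Function.Injective ρ ∧ Function.Injective γ ∧
          d = ((Matrix.of fun (j : Fin m) (i : Fin n) => MvPowerSeries.pderiv k i (f j)).submatrix ρ γ).det} ⊔ Ideal.span (Set.range f) =
      Ideal.span {d : MvPowerSeries (Fin n) k | ∃ (ρ : Fin r → Fin l) (γ : Fin r → Fin n), Function.Injective ρ ∧ Function.Injective γ ∧
          d = ((Matrix.of fun (j : Fin l) (i : Fin n) => MvPowerSeries.pderiv k i (g j)).submatrix ρ γ).det} ⊔ Ideal.span (Set.range g) := by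
  refine le_antisymm (key k n m l r f g hfg.le) (key k n l m r g f hfg.ge)

end Groth.Agent.S6575
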