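import Groth.Statements.S6576
import Groth.Agent.H4RSH.DualMod
import Groth.Agent.H8Props.FieldDimScheme

set_option autoImplicit false
set_option synthInstance.maxHeartbeats 400000
set_option maxHeartbeats 1000000
set_option linter.style.haveILetI false
universe u
open CategoryTheory CategoryTheory.Limits AlgebraicGeometry
attribute [local instance] HasDerivedCategory.standard
open Curves

namespace Groth.Agent.S6576

/-- Let X be proper over the field k of dimension ≤ 1, ω_X its dualizing module (degree -1 cohomology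
sheaf of f^! O for the structure morphism f, assuming Rf_* on D_QCoh and its right adjoint exist),
and K/k a field extension. Then the pullback of ω_X along X_K → X is a dualizing module for X_K →
Spec K: it is isomorphic to the degree -1 cohomology sheaf of the corresponding object for X_K over
K. (Existence of an isomorphism only; the statement for the dualizing complex is not included.) -/
theorem result (k : Type u) [Field k] (X : Scheme.{u}) [X.Over (Spec (CommRingCat.of k))] [IsProper (X ↘ (Spec (CommRingCat.of k)))] (hdim : topologicalKrullDim X ≤ 1)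
    [DCoh.HasRpush (X ↘ (Spec (CommRingCat.of k)))] (h : DCoh.RpushPreservesQCoh (X ↘ (Spec (CommRingCat.of k)))) [DCoh.HasShriek (X ↘ (Spec (CommRingCat.of k))) h]
    (OY : DCoh.DQCoh (Spec (CommRingCat.of k))) (hOY : Nonempty (OY.obj ≅ DCoh.inD (Spec (CommRingCat.of k)) (Coh.structureModule (Spec (CommRingCat.of k)))))
    (K : Type u) [Field K] [Algebra k K]
    [DCoh.HasRpush (Curv2.bcSnd k X K)] (hK : DCoh.RpushPreservesQCoh (Curv2.bcSnd k X K)) [DCoh.HasShriek (Curv2.bcSnd k X K) hK]
    (OK : DCoh.DQCoh (Spec (CommRingCat.of K))) (hOK : Nonempty (OK.obj ≅ DCoh.inD (Spec (CommRingCat.of K)) (Coh.structureModule (Spec (CommRingCat.of K))))) :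
    Nonempty ((Scheme.Modules.pullback (Curv2.bcFst k X K)).obj (DCoh.dualizingMod (X ↘ (Spec (CommRingCat.of k))) h OY 1) ≅ DCoh.dualizingMod (Curv2.bcSnd k X K) hK OK 1) := by
  letI : (Curv2.bc k X K).Over (Spec (CommRingCat.of K)) := ⟨Curv2.bcSnd k X K⟩
  have hsq : IsPullback (Curv2.bcFst k X K) (Curv2.bc k X K ↘ Spec (CommRingCat.of K))
      (X ↘ Spec (CommRingCat.of k)) (Spec.map (CommRingCat.ofHom (algebraMap k K))) :=
    IsPullback.of_hasPullback _ _
  haveI : IsProper (Curv2.bc k X K ↘ Spec (CommRingCat.of K)) :=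
    MorphismProperty.of_isPullback (P := @IsProper) hsq inferInstance
  haveI : DCoh.HasRpush (Curv2.bc k X K ↘ Spec (CommRingCat.of K)) := ‹DCoh.HasRpush (Curv2.bcSnd k X K)›
  haveI : DCoh.HasShriek (Curv2.bc k X K ↘ Spec (CommRingCat.of K)) hK := ‹DCoh.HasShriek (Curv2.bcSnd k X K) hK›
  have hX : topologicalKrullDim X ≤ ((1 : ℕ) : WithBot ℕ∞) := hdim
  have hω := H4RSH.DualMod.isDualizingSheaf_dualizingMod k X h OY hOY 1 hX
  haveI : (DCoh.dualizingMod (X ↘ Spec (CommRingCat.of k)) h OY 1).IsQuasicoherent := by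
    obtain ⟨t, ht, -⟩ := hω
    exact ht
  refine H4RSH.DualMod.nonempty_iso_of_isDualizingSheaf K
    (H4RSH.DualBC.isDualizingSheaf_pullback hsq (fun y => ?_) hω)
    (H4RSH.DualMod.isDualizingSheaf_dualizingMod K (Curv2.bc k X K) hK OK hOK 1 ?_)
  · exact ((X ↘ Spec (CommRingCat.of k)).fiberι y).isEmbedding.isInducing.topologicalKrullDim_le.trans hX
  · exact (H8Props.FieldDim.dim_baseChange (hc := hsq)).trans_le hX

end Groth.Agent.S6576
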