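import Groth.Statements.S6577
import Groth.Agent.H4RSH.ClosedDual
import Groth.Agent.H4RSH.ProperField

set_option autoImplicit false
set_option synthInstance.maxHeartbeats 400000
set_option maxHeartbeats 1000000
set_option linter.style.haveILetI false
universe u
open CategoryTheory CategoryTheory.Limits AlgebraicGeometry
attribute [local instance] HasDerivedCategory.standard
open Curves

namespace Groth.Agent.S6577

/-- Let X be proper over the field k of dimension ≤ 1, i : Y → X a closed immersion, and ω_X, ω_Y the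
dualizing modules of X and of Y over k (degree -1 cohomology sheaves of the shriek of O for the
structure morphisms, assuming the derived pushforwards on D_QCoh and their right adjoints exist).
Then i_*ω_Y ≅ Hom_{O_X}(i_*O_Y, ω_X), where the sheaf Hom is taken as the right adjoint of i_*O_Y ⊗
− (assumed to exist). (Existence of an isomorphism only.) -/
theorem result (k : Type u) [Field k] (X : Scheme.{u}) [X.Over (Spec (CommRingCat.of k))] [IsProper (X ↘ (Spec (CommRingCat.of k)))] (hdim : topologicalKrullDim X ≤ 1)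
    [DCoh.HasRpush (X ↘ (Spec (CommRingCat.of k)))] (h : DCoh.RpushPreservesQCoh (X ↘ (Spec (CommRingCat.of k)))) [DCoh.HasShriek (X ↘ (Spec (CommRingCat.of k))) h]
    (OY : DCoh.DQCoh (Spec (CommRingCat.of k))) (hOY : Nonempty (OY.obj ≅ DCoh.inD (Spec (CommRingCat.of k)) (Coh.structureModule (Spec (CommRingCat.of k)))))
    {Y : Scheme.{u}} (i : Y ⟶ X) [IsClosedImmersion i]
    [DCoh.HasRpush (i ≫ (X ↘ (Spec (CommRingCat.of k))))] (hY : DCoh.RpushPreservesQCoh (i ≫ (X ↘ (Spec (CommRingCat.of k))))) [DCoh.HasShriek (i ≫ (X ↘ (Spec (CommRingCat.of k)))) hY]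
    [DCoh.HasSheafHom ((Coh.push i).obj (Coh.structureModule Y))] :
    Nonempty ((Coh.push i).obj (DCoh.dualizingMod (i ≫ (X ↘ (Spec (CommRingCat.of k)))) hY OY 1) ≅
      (DCoh.sheafHom ((Coh.push i).obj (Coh.structureModule Y))).obj (DCoh.dualizingMod (X ↘ (Spec (CommRingCat.of k))) h OY 1)) := by
  classical
  letI : Y.Over (Spec (CommRingCat.of k)) := ⟨i ≫ (X ↘ Spec (CommRingCat.of k))⟩
  haveI : IsProper (Y ↘ Spec (CommRingCat.of k)) :=
    (inferInstance : IsProper (i ≫ (X ↘ Spec (CommRingCat.of k))))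
  haveI : DCoh.HasRpush (Y ↘ Spec (CommRingCat.of k)) :=
    ‹DCoh.HasRpush (i ≫ (X ↘ Spec (CommRingCat.of k)))›
  haveI := H4RepDual.hasExtModules X
  haveI := H4RepDual.hasExtModules Y
  let fX := X ↘ Spec (CommRingCat.of k)
  have adjX := DCoh.shriekAdj fX h
  obtain ⟨hc, hN, hE, hcoh, -⟩ := H4RSH.ProperLocal.exists_setup_field fX adjX OY hOY
  haveI := hN
  have hY1 : topologicalKrullDim Y ≤ ((1 : ℕ) : WithBot ℕ∞) :=
    i.isClosedEmbedding.isInducing.topologicalKrullDim_le.trans hdim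
  let fY := i ≫ fX
  obtain ⟨-, -, -, hcohY, -⟩ := H4RSH.ProperLocal.exists_setup_field fY (DCoh.shriekAdj fY hY) OY hOY
  obtain ⟨tX, hX⟩ := H4RSH.SerreDual.exists_trace adjX OY hOY (d := 1) hdim
  obtain ⟨tY, htY⟩ := H4RSH.SerreDual.exists_trace (X := Y) (hf := hY) (DCoh.shriekAdj fY hY) OY hOY (d := 1) hY1
  have swap : ∀ {Z : Scheme.{u}} [Z.Over (Spec (CommRingCat.of k))] {W : Z.Modules}
      (t : Coh.HH Z W 1 →ₗ[k] k), (∀ F : Z.Modules, Coh.IsQCoh F → ∀ ψ : Coh.HH Z F 1 →ₗ[k] k,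
        ∃! φ : F ⟶ W, t ∘ₗ Canon.HHlin k φ 1 = ψ) → ∀ F : Z.Modules, Coh.IsQCoh F → H29Serre.RepDual t F :=
    fun t ht F hF ψ => by simpa only [eq_comm] using ht F hF ψ
  obtain ⟨e⟩ := H4RSH.ClosedDual.nonempty_push_iso i rfl (hcoh _) tX (swap tX hX) (hcohY _).1 tY (swap tY htY)
  exact ⟨e ≪≫ (H10Coh.SheafHom.homShIso _ _).symm⟩

end Groth.Agent.S6577
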