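import Groth.Statements.S6578
import Groth.Agent.S3572
import Groth.Agent.S17280
import Groth.Agent.H06NegFilt.Basic
-- import your own Groth.Agent.* helpers here

set_option autoImplicit false
universe u
open CategoryTheory CategoryTheory.Limits AlgebraicGeometry
open Curves

namespace Groth.Agent.S6578

/-- Let k be a field and X a proper curve over k all of whose local rings are regular (X integral,
proper, of dimension one), and let (L, V) be a g^r_d on X, given by an invertible module L of degree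
d and an ordered basis s_0, …, s_r of V ⊆ Γ(X, L) (k-linearly independent global sections). Then
there exist a morphism φ : X → P^r_k = Proj k[T_0, …, T_r] over k and a map α : φ^*O(1) → L sending
φ^*T_i to s_i for each i (so φ^*T_0, …, φ^*T_r go to a basis of V). -/
theorem result (k : Type u) [Field k] (X : Scheme.{u}) [X.Over (Spec (CommRingCat.of k))]
    [IsIntegral X] [IsProper (X ↘ (Spec (CommRingCat.of k)))] (hdim : topologicalKrullDim X = 1) (hreg : ∀ x : X, IsRegularLocalRing (X.presheaf.stalk x))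
    (d r : ℕ) (L : X.Modules) (s : Fin (r + 1) → LinSer.Sect X L) (hL : LinSer.IsLinSer k X L d r s) :
    ∃ (φ : X ⟶ CohB1.ProjSpace r k) (α : (Scheme.Modules.pullback φ).obj (Twist.twistProjSpace r k 1) ⟶ L),
      φ ≫ CohB1.ProjSpace.toSpec r k = X ↘ (Spec (CommRingCat.of k)) ∧
        ∀ i : Fin (r + 1), (α.val.app (Opposite.op ⊤)).hom (OmegaSh.pullSect φ (Twist.twistProjSpace r k 1) ⊤ (Twist.globalOf (CohB1.polyGrading r k) (⟨MvPolynomial.X i, MvPolynomial.isHomogeneous_X k i⟩ : (CohB1.polyGrading r k) 1))) = s i := by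
  haveI := Groth.Agent.H29RR.isNoetherian_of_proper (k := k) (X := X)
  obtain ⟨hLinv, -, hind⟩ := hL
  let p : FlatMod.freeMod X (r + 1) ⟶ L :=
    Sigma.desc fun i => Groth.Agent.H11Tilde.homOfGlobal L (s i : Γ(L, ⊤))
  have hp : ∀ i, (Sigma.ι (fun _ : Fin (r + 1) => Coh.structureModule X) i ≫ p).app ⊤ (Groth.Agent.H11Ample.one ⊤) =
      (s i : Γ(L, ⊤)) := fun i => by
    rw [Sigma.ι_desc]
    refine (Groth.Agent.H11Tilde.homOfGlobal_app L _ ⊤ _).trans ?_
    exact (one_smul _ _).trans (ConcreteCategory.congr_hom (L.presheaf.map_id (Opposite.op ⊤)) _)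
  let M := Abelian.image p
  let ιM : M ⟶ L := Abelian.image.ι p
  have hLc : Coh.IsCoh L := Groth.Agent.H16Derived.KFlat.Stalk.isCoh_of_isFinLocFree
    (Groth.Agent.H28Pinch.isFinLocFree_of_isInvertible hLinv)
  have hFc : Coh.IsCoh (FlatMod.freeMod X (r + 1)) :=
    Groth.Agent.H29RR.isCoh_of_rank (Groth.Agent.H26Gr.isFinLocFreeOfRank_freeMod X (r + 1))
  have hMc : Coh.IsCoh M := by
    haveI : (cokernel p).IsQuasicoherent :=
      (Groth.Agent.H10Coh.isCoh_cokernel p hFc.1 hLc).1
    exact Groth.Agent.H10Coh.isCoh_kernel (cokernel.π p) hLc inferInstance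
  let s' : Fin (r + 1) → Γ(M, ⊤) := fun i =>
    (Sigma.ι (fun _ : Fin (r + 1) => Coh.structureModule X) i ≫ Abelian.factorThruImage p).app ⊤
      (Groth.Agent.H11Ample.one ⊤)
  have hs' : ∀ i, ιM.app ⊤ (s' i) = (s i : Γ(L, ⊤)) := fun i => by
    show ((Sigma.ι (fun _ : Fin (r + 1) => Coh.structureModule X) i ≫ Abelian.factorThruImage p) ≫ ιM).app ⊤ _ = _
    rw [Category.assoc, Abelian.image.fac, hp]
  have hne : ιM ≠ 0 := fun h0 => by
    have h1 : (s 0 : Γ(L, ⊤)) = 0 := by rw [← hs' 0, h0]; rfl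
    have h2 := hind (Pi.single 0 1) (by
      rw [Finset.sum_eq_single (0 : Fin (r + 1)) (fun b _ hb => by rw [Pi.single_eq_of_ne hb, map_zero, zero_smul])
        (by simp)]
      rw [show s 0 = 0 from h1, smul_zero])
    exact one_ne_zero (α := k) (by simpa using congrFun h2 0)
  have hMinv : PicF.IsInvertible M :=
    Groth.Agent.S17280.isInvertible_of_mono hdim.le hreg hMc hLinv ιM hne
  have hgen : ProjUP.GeneratedBy M s' := fun x => by
    rw [eq_top_iff]
    rintro v -
    obtain ⟨w, hw⟩ := Groth.Agent.H06Mod.surjective_stalk_of_epi (Abelian.factorThruImage p) x v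
    have hw' : Groth.Agent.H06Mod.stalkLin (Abelian.factorThruImage p) x w = v := hw
    rw [← hw', show Abelian.factorThruImage p = ∑ i, Groth.Agent.H06NegFilt.proj i ≫
        Sigma.ι (fun _ : Fin (r + 1) => Coh.structureModule X) i ≫ Abelian.factorThruImage p by
      simp only [← Category.assoc]
      rw [← Preadditive.sum_comp, Groth.Agent.H06NegFilt.total, Category.id_comp],
      Groth.Agent.H06NegFilt.stalkLin_sum]
    refine Submodule.sum_mem _ fun i _ => ?_
    rw [Groth.Agent.H29RR.stalkLin_comp]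
    obtain ⟨a, ha⟩ := ((Groth.Agent.H11Ample.isGen_one (X := X) ⊤) x trivial).2
      (Groth.Agent.H06Mod.stalkLin (Groth.Agent.H06NegFilt.proj i) x w)
    erw [← ha, LinearMap.map_smul]
    refine Submodule.smul_mem _ _ (Submodule.subset_span ⟨i, ?_⟩)
    exact (Groth.Agent.H29RR.germ_app _ x (Groth.Agent.H11Ample.one ⊤)).symm
  obtain ⟨φ, hφ, τ, hτ⟩ := Groth.Agent.S3572.result r (X ↘ (Spec (CommRingCat.of k))) M hMinv s' hgen
  refine ⟨φ, τ.hom ≫ ιM, hφ, fun i => ?_⟩
  refine Eq.trans ?_ (hs' i)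
  exact congrArg (ιM.app ⊤) (hτ i)

end Groth.Agent.S6578
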