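import Groth.Statements.S6580

import Mathlib.Tactic.NoncommRing

set_option autoImplicit false
universe v u
open CategoryTheory CategoryTheory.Limits
open CohDer

namespace Groth.Agent.S6580

open scoped ZeroObject
open CategoryTheory.Pretriangulated CategoryTheory.Limits

open CategoryTheory.Pretriangulated in
/-- Let (X, Y, Z, f, g, h) be a distinguished triangle of a pretriangulated category, and let a : X ⟶ X
and c : Z ⟶ Z be idempotents with h ≫ a⟦1⟧ = c ≫ h. Then there is an idempotent b : Y ⟶ Y such that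
(a, b, c) is an endomorphism of the triangle. -/
theorem result {D : Type u} [Category.{v} D] [Preadditive D] [HasZeroObject D] [HasShift D ℤ]
    [∀ n : ℤ, (shiftFunctor D n).Additive] [Pretriangulated D]
    (T : Triangle D) (hT : T ∈ distinguishedTriangles) (a : T.obj₁ ⟶ T.obj₁) (c : T.obj₃ ⟶ T.obj₃)
    (ha : a ≫ a = a) (hc : c ≫ c = c) (comm : T.mor₃ ≫ (shiftFunctor D (1 : ℤ)).map a = c ≫ T.mor₃) :
    ∃ b : T.obj₂ ⟶ T.obj₂, b ≫ b = b ∧ T.mor₁ ≫ b = a ≫ T.mor₁ ∧ T.mor₂ ≫ c = b ≫ T.mor₂ := by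
  obtain ⟨b₀, hb₁, hb₂⟩ := complete_distinguished_triangle_morphism₂ T T hT hT a c comm
  have hr₁ : T.mor₁ ≫ (b₀ ≫ b₀ - b₀) = 0 := by
    rw [Preadditive.comp_sub, reassoc_of% hb₁, hb₁, reassoc_of% ha, sub_self]
  have hr₂ : (b₀ ≫ b₀ - b₀) ≫ T.mor₂ = 0 := by
    rw [Preadditive.sub_comp, Category.assoc, ← hb₂, ← reassoc_of% hb₂, hc, sub_self]
  obtain ⟨x, hx⟩ := Triangle.coyoneda_exact₂ T hT _ hr₂
  obtain ⟨y, hy⟩ := Triangle.yoneda_exact₂ T hT _ hr₁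
  have hsq : (b₀ ≫ b₀ - b₀) ≫ (b₀ ≫ b₀ - b₀) = 0 := by
    conv_lhs => arg 1; rw [hx]
    conv_lhs => arg 2; rw [hy]
    rw [Category.assoc, reassoc_of% (comp_distTriang_mor_zero₁₂ T hT), zero_comp, comp_zero]
  have hcomm : (b₀ ≫ b₀ - b₀) ≫ b₀ = b₀ ≫ (b₀ ≫ b₀ - b₀) := by simp
  let e : End T.obj₂ := b₀
  have he : (e * e - e) * (e * e - e) = 0 := hsq
  refine ⟨(3 • (e * e) - 2 • (e * e * e) : End T.obj₂), ?_, ?_, ?_⟩
  · change (3 • (e * e) - 2 • (e * e * e)) * (3 • (e * e) - 2 • (e * e * e)) = _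
    rw [← sub_eq_zero]
    have : (3 • (e * e) - 2 • (e * e * e)) * (3 • (e * e) - 2 • (e * e * e))
        - (3 • (e * e) - 2 • (e * e * e)) =
        (e * e - e) * (e * e - e) * (4 • (e * e - e) - 3 • (1 : End T.obj₂)) := by noncomm_ring
    rw [this, he, zero_mul]
  · have h₂ : T.mor₁ ≫ b₀ ≫ b₀ = a ≫ T.mor₁ := by rw [reassoc_of% hb₁, hb₁, reassoc_of% ha]
    have h₃ : T.mor₁ ≫ b₀ ≫ b₀ ≫ b₀ = a ≫ T.mor₁ := by rw [reassoc_of% hb₁, h₂, reassoc_of% ha]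
    change T.mor₁ ≫ (3 • (b₀ ≫ b₀) - 2 • (b₀ ≫ b₀ ≫ b₀)) = _
    rw [Preadditive.comp_sub, Preadditive.comp_nsmul, Preadditive.comp_nsmul, h₂, h₃]
    abel
  · have h₂ : (b₀ ≫ b₀) ≫ T.mor₂ = T.mor₂ ≫ c := by
      rw [Category.assoc, ← hb₂, ← reassoc_of% hb₂, hc]
    have h₃ : (b₀ ≫ b₀ ≫ b₀) ≫ T.mor₂ = T.mor₂ ≫ c := by
      rw [Category.assoc, h₂, ← reassoc_of% hb₂, hc]
    change _ = (3 • (b₀ ≫ b₀) - 2 • (b₀ ≫ b₀ ≫ b₀)) ≫ T.mor₂
    rw [Preadditive.sub_comp, Preadditive.nsmul_comp, Preadditive.nsmul_comp, h₂, h₃]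
    abel

end Groth.Agent.S6580
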