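import Groth.Statements.S6581
import Groth.Agent.H16Derived.TriangleCriterion

set_option autoImplicit false
universe v u
open CategoryTheory CategoryTheory.Limits
open CohDer

namespace Groth.Agent.S6581

open CategoryTheory CategoryTheory.Limits CategoryTheory.Pretriangulated

section
variable {D : Type u} [Category.{v} D] [Preadditive D] [HasZeroObject D] [HasShift D ℤ]
    [∀ n : ℤ, (shiftFunctor D n).Additive] [Pretriangulated D]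

lemma shift_biprod_decomp {X X' A : D} (G : (X ⊞ X')⟦(1 : ℤ)⟧ ⟶ A) :
    G = (biprod.fst : X ⊞ X' ⟶ X)⟦(1 : ℤ)⟧' ≫ ((biprod.inl : X ⟶ X ⊞ X')⟦(1 : ℤ)⟧' ≫ G) +
      (biprod.snd : X ⊞ X' ⟶ X')⟦(1 : ℤ)⟧' ≫ ((biprod.inr : X' ⟶ X ⊞ X')⟦(1 : ℤ)⟧' ≫ G) := by
  rw [← Category.assoc, ← Category.assoc, ← Preadditive.add_comp, ← Functor.map_comp,
    ← Functor.map_comp, ← Functor.map_add, biprod.total, CategoryTheory.Functor.map_id,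
    Category.id_comp]

lemma of_summands {X Y W X' Y' W' : D} (f : X ⟶ Y) (g : Y ⟶ W) (k : W ⟶ X⟦(1 : ℤ)⟧)
    (f' : X' ⟶ Y') (g' : Y' ⟶ W') (k' : W' ⟶ X'⟦(1 : ℤ)⟧)
    (hT : Triangle.mk f g k ∈ distinguishedTriangles)
    (hT' : Triangle.mk f' g' k' ∈ distinguishedTriangles) :
    Triangle.mk (biprod.map f f') (biprod.map g g')
      (biprod.desc (k ≫ (biprod.inl : X ⟶ X ⊞ X')⟦(1 : ℤ)⟧')
        (k' ≫ (biprod.inr : X' ⟶ X ⊞ X')⟦(1 : ℤ)⟧')) ∈ distinguishedTriangles := by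
  obtain ⟨Z, g₀, h₀, hT₀⟩ := distinguished_cocone_triangle (biprod.map f f')
  obtain ⟨(c₁ : W ⟶ Z), hc₂, hc₃⟩ := complete_distinguished_triangle_morphism _ _ hT hT₀
    (biprod.inl : X ⟶ X ⊞ X') (biprod.inl : Y ⟶ Y ⊞ Y') (biprod.inl_map _ _).symm
  obtain ⟨(c₂ : W' ⟶ Z), hc₂', hc₃'⟩ := complete_distinguished_triangle_morphism _ _ hT' hT₀
    (biprod.inr : X' ⟶ X ⊞ X') (biprod.inr : Y' ⟶ Y ⊞ Y') (biprod.inr_map _ _).symm
  have a₂ : g ≫ c₁ = biprod.inl ≫ g₀ := hc₂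
  have a₃ : k ≫ (biprod.inl : X ⟶ X ⊞ X')⟦(1 : ℤ)⟧' = c₁ ≫ h₀ := hc₃
  have b₂ : g' ≫ c₂ = biprod.inr ≫ g₀ := hc₂'
  have b₃ : k' ≫ (biprod.inr : X' ⟶ X ⊞ X')⟦(1 : ℤ)⟧' = c₂ ≫ h₀ := hc₃'
  have z : f ≫ g = 0 := comp_distTriang_mor_zero₁₂ _ hT
  have z' : f' ≫ g' = 0 := comp_distTriang_mor_zero₁₂ _ hT'
  refine Groth.Agent.H16Derived.distinguished_of_yoneda_exact _ _ _ ?_ ?_ ?_ hT₀
    (biprod.desc c₁ c₂) ?_ ?_
  · apply biprod.hom_ext'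
    · rw [biprod.inl_map_assoc, biprod.inl_map, reassoc_of% z, zero_comp, comp_zero]
    · rw [biprod.inr_map_assoc, biprod.inr_map, reassoc_of% z', zero_comp, comp_zero]
  · intro A φ hφ
    obtain ⟨(p : X⟦(1 : ℤ)⟧ ⟶ A), hp⟩ := Triangle.yoneda_exact₃ _ hT (biprod.inl ≫ φ)
      (show g ≫ biprod.inl ≫ φ = 0 by
        rw [← biprod.inl_map_assoc g g', hφ, comp_zero])
    obtain ⟨(q : X'⟦(1 : ℤ)⟧ ⟶ A), hq⟩ := Triangle.yoneda_exact₃ _ hT' (biprod.inr ≫ φ)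
      (show g' ≫ biprod.inr ≫ φ = 0 by
        rw [← biprod.inr_map_assoc g g', hφ, comp_zero])
    have hp' : biprod.inl ≫ φ = k ≫ p := hp
    have hq' : biprod.inr ≫ φ = k' ≫ q := hq
    refine ⟨(biprod.fst : X ⊞ X' ⟶ X)⟦(1 : ℤ)⟧' ≫ p + (biprod.snd : X ⊞ X' ⟶ X')⟦(1 : ℤ)⟧' ≫ q, ?_⟩
    apply biprod.hom_ext'
    · rw [biprod.inl_desc_assoc, hp', Category.assoc, Preadditive.comp_add,
        ← Functor.map_comp_assoc, ← Functor.map_comp_assoc, biprod.inl_fst, biprod.inl_snd,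
        CategoryTheory.Functor.map_id, Functor.map_zero, Category.id_comp, zero_comp, add_zero]
    · rw [biprod.inr_desc_assoc, hq', Category.assoc, Preadditive.comp_add,
        ← Functor.map_comp_assoc, ← Functor.map_comp_assoc, biprod.inr_fst, biprod.inr_snd,
        CategoryTheory.Functor.map_id, Functor.map_zero, Category.id_comp, zero_comp, zero_add]
  · intro A ψ hψ
    obtain ⟨(p : Y⟦(1 : ℤ)⟧ ⟶ A), hp⟩ := Triangle.yoneda_exact₃ _ (rot_of_distTriang _ hT)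
      ((biprod.inl : X ⟶ X ⊞ X')⟦(1 : ℤ)⟧' ≫ ψ)
      (show k ≫ (biprod.inl : X ⟶ X ⊞ X')⟦(1 : ℤ)⟧' ≫ ψ = 0 by
        rw [← Category.assoc, ← biprod.inl_desc (k ≫ (biprod.inl : X ⟶ X ⊞ X')⟦(1 : ℤ)⟧')
          (k' ≫ (biprod.inr : X' ⟶ X ⊞ X')⟦(1 : ℤ)⟧'), Category.assoc, hψ, comp_zero])
    obtain ⟨(q : Y'⟦(1 : ℤ)⟧ ⟶ A), hq⟩ := Triangle.yoneda_exact₃ _ (rot_of_distTriang _ hT')
      ((biprod.inr : X' ⟶ X ⊞ X')⟦(1 : ℤ)⟧' ≫ ψ)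
      (show k' ≫ (biprod.inr : X' ⟶ X ⊞ X')⟦(1 : ℤ)⟧' ≫ ψ = 0 by
        rw [← Category.assoc, ← biprod.inr_desc (k ≫ (biprod.inl : X ⟶ X ⊞ X')⟦(1 : ℤ)⟧')
          (k' ≫ (biprod.inr : X' ⟶ X ⊞ X')⟦(1 : ℤ)⟧'), Category.assoc, hψ, comp_zero])
    have hp' : (biprod.inl : X ⟶ X ⊞ X')⟦(1 : ℤ)⟧' ≫ ψ = f⟦(1 : ℤ)⟧' ≫ (-p) :=
      hp.trans ((Preadditive.neg_comp _ _).trans (Preadditive.comp_neg _ _).symm)
    have hq' : (biprod.inr : X' ⟶ X ⊞ X')⟦(1 : ℤ)⟧' ≫ ψ = f'⟦(1 : ℤ)⟧' ≫ (-q) :=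
      hq.trans ((Preadditive.neg_comp _ _).trans (Preadditive.comp_neg _ _).symm)
    refine ⟨(biprod.fst : Y ⊞ Y' ⟶ Y)⟦(1 : ℤ)⟧' ≫ (-p) + (biprod.snd : Y ⊞ Y' ⟶ Y')⟦(1 : ℤ)⟧' ≫ (-q), ?_⟩
    rw [shift_biprod_decomp ψ, hp', hq', Preadditive.comp_add, ← Functor.map_comp_assoc,
      ← Functor.map_comp_assoc, ← Functor.map_comp_assoc, ← Functor.map_comp_assoc,
      biprod.map_fst, biprod.map_snd]
  · apply biprod.hom_ext'
    · rw [biprod.inl_map_assoc, biprod.inl_desc, a₂]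
    · rw [biprod.inr_map_assoc, biprod.inr_desc, b₂]
  · apply biprod.hom_ext'
    · rw [biprod.inl_desc_assoc, biprod.inl_desc, a₃]
    · rw [biprod.inr_desc_assoc, biprod.inr_desc, b₃]

lemma left_summand {X Y W X' Y' W' : D} (f : X ⟶ Y) (g : Y ⟶ W) (k : W ⟶ X⟦(1 : ℤ)⟧)
    (f' : X' ⟶ Y') (g' : Y' ⟶ W') (k' : W' ⟶ X'⟦(1 : ℤ)⟧)
    (h : Triangle.mk (biprod.map f f') (biprod.map g g')
      (biprod.desc (k ≫ (biprod.inl : X ⟶ X ⊞ X')⟦(1 : ℤ)⟧')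
        (k' ≫ (biprod.inr : X' ⟶ X ⊞ X')⟦(1 : ℤ)⟧')) ∈ distinguishedTriangles) :
    Triangle.mk f g k ∈ distinguishedTriangles := by
  obtain ⟨Z, g₀, h₀, hT₀⟩ := distinguished_cocone_triangle f
  obtain ⟨(c : W ⊞ W' ⟶ Z), hc₂, hc₃⟩ := complete_distinguished_triangle_morphism _ _ h hT₀
    (biprod.fst : X ⊞ X' ⟶ X) (biprod.fst : Y ⊞ Y' ⟶ Y) (biprod.map_fst _ _)
  have a₂ : biprod.map g g' ≫ c = biprod.fst ≫ g₀ := hc₂
  have a₃ : biprod.desc (k ≫ (biprod.inl : X ⟶ X ⊞ X')⟦(1 : ℤ)⟧')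
        (k' ≫ (biprod.inr : X' ⟶ X ⊞ X')⟦(1 : ℤ)⟧') ≫ (biprod.fst : X ⊞ X' ⟶ X)⟦(1 : ℤ)⟧' =
      c ≫ h₀ := hc₃
  refine Groth.Agent.H16Derived.distinguished_of_yoneda_exact f g k ?_ ?_ ?_ hT₀
    (biprod.inl ≫ c) ?_ ?_
  · have z : biprod.map f f' ≫ biprod.map g g' = 0 := comp_distTriang_mor_zero₁₂ _ h
    have := biprod.inl ≫= (z =≫ (biprod.fst : W ⊞ W' ⟶ W))
    simpa using this
  · intro A φ hφ
    obtain ⟨(p : (X ⊞ X')⟦(1 : ℤ)⟧ ⟶ A), hp⟩ := Triangle.yoneda_exact₃ _ h (biprod.fst ≫ φ)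
      (show biprod.map g g' ≫ biprod.fst ≫ φ = 0 by
        rw [biprod.map_fst_assoc, hφ, comp_zero])
    have hp' : biprod.fst ≫ φ = biprod.desc (k ≫ (biprod.inl : X ⟶ X ⊞ X')⟦(1 : ℤ)⟧')
        (k' ≫ (biprod.inr : X' ⟶ X ⊞ X')⟦(1 : ℤ)⟧') ≫ p := hp
    refine ⟨(biprod.inl : X ⟶ X ⊞ X')⟦(1 : ℤ)⟧' ≫ p, ?_⟩
    have := biprod.inl ≫= hp'
    rwa [biprod.inl_fst_assoc, biprod.inl_desc_assoc, Category.assoc] at this
  · intro A ψ hψ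
    obtain ⟨(p : (Y ⊞ Y')⟦(1 : ℤ)⟧ ⟶ A), hp⟩ := Triangle.yoneda_exact₃ _ (rot_of_distTriang _ h)
      ((biprod.fst : X ⊞ X' ⟶ X)⟦(1 : ℤ)⟧' ≫ ψ)
      (show biprod.desc (k ≫ (biprod.inl : X ⟶ X ⊞ X')⟦(1 : ℤ)⟧')
        (k' ≫ (biprod.inr : X' ⟶ X ⊞ X')⟦(1 : ℤ)⟧') ≫ (biprod.fst : X ⊞ X' ⟶ X)⟦(1 : ℤ)⟧' ≫ ψ = 0 by
        apply biprod.hom_ext'
        · rw [biprod.inl_desc_assoc, Category.assoc, ← Functor.map_comp_assoc, biprod.inl_fst,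
            CategoryTheory.Functor.map_id, Category.id_comp, hψ, comp_zero]
        · rw [biprod.inr_desc_assoc, Category.assoc, ← Functor.map_comp_assoc, biprod.inr_fst,
            Functor.map_zero, zero_comp, comp_zero, comp_zero])
    have hp' : (biprod.fst : X ⊞ X' ⟶ X)⟦(1 : ℤ)⟧' ≫ ψ = (biprod.map f f')⟦(1 : ℤ)⟧' ≫ (-p) :=
      hp.trans ((Preadditive.neg_comp _ _).trans (Preadditive.comp_neg _ _).symm)
    refine ⟨(biprod.inl : Y ⟶ Y ⊞ Y')⟦(1 : ℤ)⟧' ≫ (-p), ?_⟩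
    have := (biprod.inl : X ⟶ X ⊞ X')⟦(1 : ℤ)⟧' ≫= hp'
    rw [← Functor.map_comp_assoc, ← Functor.map_comp_assoc, biprod.inl_fst, biprod.inl_map,
      CategoryTheory.Functor.map_id, Category.id_comp, Functor.map_comp, Category.assoc] at this
    exact this
  · have := biprod.inl ≫= a₂
    rwa [biprod.inl_map_assoc, biprod.inl_fst_assoc] at this
  · have := biprod.inl ≫= a₃
    rw [biprod.inl_desc_assoc, Category.assoc, ← Functor.map_comp, biprod.inl_fst,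
      CategoryTheory.Functor.map_id, Category.comp_id] at this
    rw [Category.assoc, ← this]

lemma swap_summands {X Y W X' Y' W' : D} (f : X ⟶ Y) (g : Y ⟶ W) (k : W ⟶ X⟦(1 : ℤ)⟧)
    (f' : X' ⟶ Y') (g' : Y' ⟶ W') (k' : W' ⟶ X'⟦(1 : ℤ)⟧)
    (h : Triangle.mk (biprod.map f f') (biprod.map g g')
      (biprod.desc (k ≫ (biprod.inl : X ⟶ X ⊞ X')⟦(1 : ℤ)⟧')
        (k' ≫ (biprod.inr : X' ⟶ X ⊞ X')⟦(1 : ℤ)⟧')) ∈ distinguishedTriangles) :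
    Triangle.mk (biprod.map f' f) (biprod.map g' g)
      (biprod.desc (k' ≫ (biprod.inl : X' ⟶ X' ⊞ X)⟦(1 : ℤ)⟧')
        (k ≫ (biprod.inr : X ⟶ X' ⊞ X)⟦(1 : ℤ)⟧')) ∈ distinguishedTriangles := by
  refine isomorphic_distinguished _ h _
    (Triangle.isoMk _ _ (biprod.braiding _ _) (biprod.braiding _ _) (biprod.braiding _ _) ?_ ?_ ?_)
  · change biprod.map f' f ≫ (biprod.braiding _ _).hom = (biprod.braiding _ _).hom ≫ biprod.map f f'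
    apply biprod.hom_ext' <;> apply biprod.hom_ext <;> simp
  · change biprod.map g' g ≫ (biprod.braiding _ _).hom = (biprod.braiding _ _).hom ≫ biprod.map g g'
    apply biprod.hom_ext' <;> apply biprod.hom_ext <;> simp
  · change biprod.desc (k' ≫ (biprod.inl : X' ⟶ X' ⊞ X)⟦(1 : ℤ)⟧')
        (k ≫ (biprod.inr : X ⟶ X' ⊞ X)⟦(1 : ℤ)⟧') ≫ (biprod.braiding X' X).hom⟦(1 : ℤ)⟧' =
      (biprod.braiding W' W).hom ≫ biprod.desc (k ≫ (biprod.inl : X ⟶ X ⊞ X')⟦(1 : ℤ)⟧')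
        (k' ≫ (biprod.inr : X' ⟶ X ⊞ X')⟦(1 : ℤ)⟧')
    have e₁ : (biprod.inl : X' ⟶ X' ⊞ X) ≫ (biprod.braiding X' X).hom = biprod.inr := by
      apply biprod.hom_ext <;> simp
    have e₂ : (biprod.inr : X ⟶ X' ⊞ X) ≫ (biprod.braiding X' X).hom = biprod.inl := by
      apply biprod.hom_ext <;> simp
    have e₃ : (biprod.inl : W' ⟶ W' ⊞ W) ≫ (biprod.braiding W' W).hom = biprod.inr := by
      apply biprod.hom_ext <;> simp
    have e₄ : (biprod.inr : W ⟶ W' ⊞ W) ≫ (biprod.braiding W' W).hom = biprod.inl := by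
      apply biprod.hom_ext <;> simp
    apply biprod.hom_ext'
    · rw [biprod.inl_desc_assoc, reassoc_of% e₃, biprod.inr_desc, Category.assoc,
        ← Functor.map_comp, e₁]
    · rw [biprod.inr_desc_assoc, reassoc_of% e₄, biprod.inl_desc, Category.assoc,
        ← Functor.map_comp, e₂]

end

open CategoryTheory.Pretriangulated in
/-- Let T = (X, Y, Z, f, g, h) and T' = (X', Y', Z', f', g', h') be triangles in a pretriangulated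
category. The direct sum triangle (X ⊞ X', Y ⊞ Y', Z ⊞ Z', f ⊕ f', g ⊕ g', h ⊕ h') (whose third map
Z ⊞ Z' ⟶ (X ⊞ X')⟦1⟧ has components h ≫ inl⟦1⟧ and h' ≫ inr⟦1⟧) is distinguished if and only if T
and T' are both distinguished. -/
theorem result {D : Type u} [Category.{v} D] [Preadditive D] [HasZeroObject D] [HasShift D ℤ]
    [∀ n : ℤ, (shiftFunctor D n).Additive] [Pretriangulated D]
    (T T' : Triangle D) :
    Triangle.mk (biprod.map T.mor₁ T'.mor₁) (biprod.map T.mor₂ T'.mor₂)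
        (biprod.desc (T.mor₃ ≫ (shiftFunctor D (1 : ℤ)).map biprod.inl) (T'.mor₃ ≫ (shiftFunctor D (1 : ℤ)).map biprod.inr)) ∈ distinguishedTriangles ↔
      (T ∈ distinguishedTriangles ∧ T' ∈ distinguishedTriangles) := by
  exact ⟨fun h => ⟨left_summand _ _ _ _ _ _ h, left_summand _ _ _ _ _ _ (swap_summands _ _ _ _ _ _ h)⟩,
    fun h => of_summands _ _ _ _ _ _ h.1 h.2⟩

end Groth.Agent.S6581
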