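import Groth.Statements.S6583

set_option autoImplicit false
universe v u v' u'
open CategoryTheory CategoryTheory.Limits
open CohDer

namespace Groth.Agent.S6583

open CategoryTheory.Pretriangulated CategoryTheory.Limits
open scoped ZeroObject

open CategoryTheory.Pretriangulated in
/-- Let H : D ⥤ A be a homological functor from a pretriangulated category to an abelian category. The
full subcategory of D on the objects X with H(X⟦n⟧) = 0 for all n ≪ 0 is a strictly full
pretriangulated subcategory (zero object, stable under shifts and isomorphisms, closed under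
extensions) and is saturated: if X ⊞ Y belongs to it then so do X and Y. -/
theorem result {D : Type u} [Category.{v} D] [Preadditive D] [HasZeroObject D] [HasShift D ℤ]
    [∀ n : ℤ, (shiftFunctor D n).Additive] [Pretriangulated D]
    {A : Type u'} [Category.{v'} A] [Abelian A] (H : D ⥤ A) [H.IsHomological] :
    (ObjectProperty.IsTriangulated (fun X : D => ∃ N : ℤ, ∀ n : ℤ, n ≤ N → IsZero (H.obj ((shiftFunctor D n).obj X)))) ∧
    (ObjectProperty.IsClosedUnderIsomorphisms (fun X : D => ∃ N : ℤ, ∀ n : ℤ, n ≤ N → IsZero (H.obj ((shiftFunctor D n).obj X)))) ∧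
    (∀ X Y : D, (∃ N : ℤ, ∀ n : ℤ, n ≤ N → IsZero (H.obj ((shiftFunctor D n).obj (X ⊞ Y)))) →
      (∃ N : ℤ, ∀ n : ℤ, n ≤ N → IsZero (H.obj ((shiftFunctor D n).obj X))) ∧
      (∃ N : ℤ, ∀ n : ℤ, n ≤ N → IsZero (H.obj ((shiftFunctor D n).obj Y)))) := by
  have hiso : ObjectProperty.IsClosedUnderIsomorphisms (fun X : D => ∃ N : ℤ, ∀ n : ℤ, n ≤ N → IsZero (H.obj ((shiftFunctor D n).obj X))) :=
    ⟨fun {X Y} e ⟨N, hN⟩ => ⟨N, fun n hn => (hN n hn).of_iso (H.mapIso ((shiftFunctor D n).mapIso e.symm))⟩⟩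
  refine ⟨?_, hiso, fun X Y ⟨N, hN⟩ => ⟨⟨N, fun n hn => ?_⟩, ⟨N, fun n hn => ?_⟩⟩⟩
  · refine { exists_zero := ⟨0, isZero_zero D, 0, fun n _ => (shiftFunctor D n ⋙ H).map_isZero (isZero_zero D)⟩
             isStableUnderShiftBy := fun a => ⟨fun X ⟨N, hN⟩ => ⟨N - a, fun n hn =>
               (hN (a + n) (by lia)).of_iso (H.mapIso ((shiftFunctorAdd D a n).app X).symm)⟩⟩
             toIsTriangulatedClosed₂ := ?_ }
    exact ObjectProperty.IsTriangulatedClosed₂.mk' (fun T hT ⟨N₁, h₁⟩ ⟨N₃, h₃⟩ =>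
      ⟨min N₁ N₃, fun n hn => (H.map_distinguished_exact _
        (Triangle.shift_distinguished T hT n)).isZero_of_both_zeros
          ((h₁ n (by lia)).eq_of_src _ _) ((h₃ n (by lia)).eq_of_tgt _ _)⟩)
  · have : IsZero ((shiftFunctor D n ⋙ H).obj (X ⊞ Y)) := hN n hn
    change IsZero ((shiftFunctor D n ⋙ H).obj X)
    rw [IsZero.iff_id_eq_zero, ← CategoryTheory.Functor.map_id, ← biprod.inl_fst (X := X) (Y := Y),
      Functor.map_comp, this.eq_of_tgt ((shiftFunctor D n ⋙ H).map biprod.inl) 0, zero_comp]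
  · have : IsZero ((shiftFunctor D n ⋙ H).obj (X ⊞ Y)) := hN n hn
    change IsZero ((shiftFunctor D n ⋙ H).obj Y)
    rw [IsZero.iff_id_eq_zero, ← CategoryTheory.Functor.map_id, ← biprod.inr_snd (X := X) (Y := Y),
      Functor.map_comp, this.eq_of_tgt ((shiftFunctor D n ⋙ H).map biprod.inr) 0, zero_comp]

end Groth.Agent.S6583
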