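import Groth.Statements.S6585
import Groth.Agent.H16Derived.ShiftHom

set_option autoImplicit false
universe v u
open CategoryTheory CategoryTheory.Limits
open CohDer

namespace Groth.Agent.S6585

open scoped ZeroObject
open CategoryTheory.Pretriangulated CategoryTheory.Limits

open CategoryTheory.Pretriangulated in
/-- Let D be a triangulated category and E, K objects of D. Then Hom(E, K⟦i⟧) = 0 for all integers i if
and only if Hom(E', K) = 0 for every E' in ⟨E⟩, the smallest strictly full saturated triangulated
subcategory of D containing E (the objects obtained from E by shifts, finite direct sums, direct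
summands and extensions). -/
theorem result {D : Type u} [Category.{v} D] [Preadditive D] [HasZeroObject D] [HasShift D ℤ]
    [∀ n : ℤ, (shiftFunctor D n).Additive] [Pretriangulated D] [IsTriangulated D]
    (E K : D) :
    (∀ (i : ℤ) (f : E ⟶ (shiftFunctor D i).obj K), f = 0) ↔
      ∀ (E' : D), (ObjectProperty.singleton E).triangEnvelope E' → ∀ f : E' ⟶ K, f = 0 := by
  constructor
  · intro h E' hE' f
    let Q : ObjectProperty D := fun X => ∀ (i : ℤ) (g : X ⟶ K⟦i⟧), g = 0
    have : Q.IsStableUnderRetracts := ⟨fun {X Y} r hY i g => by
      rw [← Category.id_comp g, ← r.retract, Category.assoc, hY i (r.r ≫ g), comp_zero]⟩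
    have : Q.IsClosedUnderIsomorphisms := inferInstance
    have : Q.IsTriangulated :=
      { exists_zero := ⟨0, isZero_zero D, fun i g => (isZero_zero D).eq_of_src _ _⟩
        isStableUnderShiftBy := fun n => ⟨fun X hX i g =>
          Groth.Agent.H16Derived.shift_hom_eq_zero n (-n) (by lia) (fun g' => by
            rw [← cancel_mono ((shiftFunctorAdd' D i (-n) (i - n) (by lia)).inv.app K), zero_comp]
            exact hX _ _) g⟩
        toIsTriangulatedClosed₂ := ObjectProperty.IsTriangulatedClosed₂.mk' (fun T hT h₁ h₃ i g => by
          obtain ⟨y, rfl⟩ := Triangle.yoneda_exact₂ T hT g (h₁ i _)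
          rw [h₃ i y, comp_zero]) }
    have hle : (ObjectProperty.singleton E).triangEnvelope ≤ Q :=
      (ObjectProperty.singleton E).triangEnvelope_le_iff.2 (by rintro _ ⟨⟩; exact h)
    rw [← cancel_mono ((shiftFunctorZero D ℤ).inv.app K), zero_comp]
    exact hle _ hE' 0 _
  · intro h i f
    refine Groth.Agent.H16Derived.hom_shift_eq_zero (-i) i (by lia) (fun g => ?_) f
    exact h _ ((ObjectProperty.singleton E).triangEnvelope.le_shift (-i) _
      ((ObjectProperty.singleton E).le_triangEnvelope _ ⟨()⟩)) g

end Groth.Agent.S6585
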