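import Groth.Statements.S6586
import Groth.Agent.H16Derived.ShiftHom
import Mathlib.CategoryTheory.Triangulated.Orthogonal
import Mathlib.CategoryTheory.Triangulated.Generators

set_option autoImplicit false
universe v u
open CategoryTheory CategoryTheory.Limits
open CohDer

namespace Groth.Agent.S6586

open CategoryTheory CategoryTheory.Limits CategoryTheory.Pretriangulated
open scoped ZeroObject

/-- Fix a triangulated category D together with an object E in it. Suppose E classically generates D,
i.e. ⟨E⟩ = D; then E is a generator of D: an object K with Hom(E, K⟦n⟧) = 0 for all n is zero. -/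
theorem result {D : Type u} [Category.{v} D] [Preadditive D] [HasZeroObject D] [HasShift D ℤ]
    [∀ n : ℤ, (shiftFunctor D n).Additive] [Pretriangulated D] [IsTriangulated D]
    (E : D) (hE : (ObjectProperty.singleton E).IsClassicalTriangulatedGenerator) :
    CohDer.Generates (fun _ : PUnit.{1} => E) := by
  intro K hK
  let S : ObjectProperty D := fun X => ∃ n : ℤ, X = (shiftFunctor D n).obj K
  let Q : ObjectProperty D := S.shiftClosure ℤ |>.leftOrthogonal
  have : Q.IsStableUnderRetracts := ⟨fun {X Y} r hY Z f hZ => by
    rw [← r.retract_assoc f, hY (r.r ≫ f) hZ, comp_zero]⟩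
  have hle : ObjectProperty.singleton E ≤ Q := by
    intro X hX Z f hZ
    rw [ObjectProperty.singleton_iff] at hX
    subst hX
    rw [ObjectProperty.prop_shiftClosure_iff] at hZ
    obtain ⟨Y, a, e, n, rfl⟩ := hZ
    rw [← cancel_mono (e.hom ≫ (shiftFunctorAdd D n a).inv.app K), zero_comp]
    exact hK PUnit.unit _ _
  have htop : ObjectProperty.triangEnvelope (ObjectProperty.singleton E) ≤ Q :=
    (ObjectProperty.triangEnvelope_le_iff _).2 hle
  rw [hE] at htop
  rw [IsZero.iff_id_eq_zero]
  refine htop K trivial (𝟙 K) ?_
  rw [ObjectProperty.prop_shiftClosure_iff]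
  exact ⟨(shiftFunctor D (0 : ℤ)).obj K, 0, ((shiftFunctorZero D ℤ).app K).symm ≪≫
    ((shiftFunctorZero D ℤ).app _).symm, 0, rfl⟩

end Groth.Agent.S6586
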