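import Groth.Statements.S6587
import Mathlib.CategoryTheory.Triangulated.Triangulated

set_option autoImplicit false
universe v u
open CategoryTheory CategoryTheory.Limits Opposite
open CohDer

namespace Groth.Agent.S6587

open CategoryTheory.Pretriangulated in

open CategoryTheory.Pretriangulated in
/-- Let D be a triangulated category and let X_n → Y_n → Z_n → X_n⟦1⟧ be an inverse system of
distinguished triangles of D indexed by ℕ (levelwise maps f, g, h of inverse systems, each level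
distinguished). If the inverse system (Z_n) is pro-zero, then the levelwise map f : (X_n) → (Y_n) is
a pro-isomorphism. -/
theorem result {D : Type u} [Category.{v} D] [Preadditive D] [HasZeroObject D] [HasShift D ℤ]
    [∀ n : ℤ, (shiftFunctor D n).Additive] [Pretriangulated D] [IsTriangulated D]
    (X Y Z : ARSys.PS D) (f : X ⟶ Y) (g : Y ⟶ Z) (h : Z ⟶ X ⋙ shiftFunctor D (1 : ℤ))
    (hT : ∀ n : ℕ, Triangle.mk (f.app (op n)) (g.app (op n)) (h.app (op n)) ∈ distinguishedTriangles)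
    (hZ : DerCA.IsProZero Z) :
    DerCA.IsProIso f := by
  intro n
  obtain ⟨k, hnk, hk⟩ := hZ n
  obtain ⟨m, hkm, hm⟩ := hZ k
  have hgm : ARSys.tr Y hkm ≫ g.app (op k) = 0 := by
    show Y.map (homOfLE hkm).op ≫ _ = 0
    rw [g.naturality]
    show g.app (op m) ≫ ARSys.tr Z hkm = 0
    rw [hm, comp_zero]
  obtain ⟨b, hb⟩ : ∃ b : Y.obj (op m) ⟶ X.obj (op k), ARSys.tr Y hkm = b ≫ f.app (op k) :=
    Triangle.coyoneda_exact₂ _ (hT k) (ARSys.tr Y hkm) hgm
  refine ⟨m, hnk.trans hkm, b ≫ ARSys.tr X hnk, ?_, ?_⟩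
  · let d := f.app (op m) ≫ b - ARSys.tr X hkm
    have hd : d ≫ f.app (op k) = 0 := by
      show (f.app (op m) ≫ b - ARSys.tr X hkm) ≫ _ = 0
      rw [Preadditive.sub_comp, Category.assoc, ← hb, sub_eq_zero]
      exact (f.naturality _).symm
    have hd' : d⟦(1 : ℤ)⟧' ≫ (Triangle.mk (f.app (op k)) (g.app (op k)) (h.app (op k))).mor₁⟦(1 : ℤ)⟧' = 0 := by
      show d⟦(1 : ℤ)⟧' ≫ (f.app (op k))⟦(1 : ℤ)⟧' = 0
      rw [← Functor.map_comp, hd, Functor.map_zero]
    obtain ⟨v, hv⟩ : ∃ v : (X.obj (op m))⟦(1 : ℤ)⟧ ⟶ Z.obj (op k), d⟦(1 : ℤ)⟧' = v ≫ h.app (op k) :=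
      Triangle.coyoneda_exact₁ _ (hT k) _ hd'
    have h0 : d ≫ ARSys.tr X hnk = 0 := by
      apply (shiftFunctor D (1 : ℤ)).map_injective
      rw [Functor.map_comp, hv, Category.assoc, Functor.map_zero]
      have hn := h.naturality (homOfLE hnk).op
      dsimp at hn
      rw [show (ARSys.tr X hnk)⟦(1 : ℤ)⟧' = (X.map (homOfLE hnk).op)⟦(1 : ℤ)⟧' from rfl, ← hn,
        show Z.map (homOfLE hnk).op = 0 from hk, zero_comp, comp_zero]
    have htr : ARSys.tr X hkm ≫ ARSys.tr X hnk = ARSys.tr X (hnk.trans hkm) := by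
      show X.map _ ≫ X.map _ = X.map _
      rw [← Functor.map_comp]
      rfl
    rw [← htr, ← sub_eq_zero, ← Category.assoc, ← Preadditive.sub_comp]
    exact h0
  · rw [Category.assoc]
    have hf := f.naturality (homOfLE hnk).op
    show b ≫ X.map (homOfLE hnk).op ≫ f.app (op n) = _
    rw [hf, ← Category.assoc, ← hb]
    show Y.map _ ≫ Y.map _ = Y.map _
    rw [← Functor.map_comp]
    rfl

end Groth.Agent.S6587
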