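import Groth.Statements.S6592
import Mathlib.CategoryTheory.Triangulated.Yoneda
import Mathlib.Order.Interval.Finset.Nat
import Mathlib.Algebra.BigOperators.Intervals
import Mathlib.Tactic.Abel

set_option autoImplicit false
universe v u
open CategoryTheory CategoryTheory.Limits
open DerLim

namespace Groth.Agent.S6592

open CategoryTheory.Pretriangulated

set_option linter.style.haveILetI false
set_option linter.unusedSectionVars false

section
variable {D : Type u} [Category.{v} D] [Preadditive D] (F : ℕ ⥤ D) [HasCoproduct fun m : ℕ => F.obj m]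

open Classical in
/-- `tr(a,b) ≫ ι_b`. -/
noncomputable def tl (a b : ℕ) : F.obj a ⟶ ∐ fun m : ℕ => F.obj m :=
  if h : a ≤ b then F.map (homOfLE h) ≫ Sigma.ι (fun m : ℕ => F.obj m) b else 0

lemma tl_self (a : ℕ) : tl F a a = Sigma.ι (fun m : ℕ => F.obj m) a := by
  simp [tl]

lemma map_tl {a b c : ℕ} (h : a ≤ b) (h' : b ≤ c) : F.map (homOfLE h) ≫ tl F b c = tl F a c := by
  simp only [tl, dif_pos h', dif_pos (h.trans h'), ← Category.assoc, ← F.map_comp]
  rfl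

/-- Sums along an interval. -/
noncomputable def sl (a b : ℕ) : F.obj a ⟶ ∐ fun m : ℕ => F.obj m :=
  ∑ l ∈ Finset.Ico a b, tl F a l

lemma sl_eq {a b : ℕ} (h : a < b) :
    sl F a b = Sigma.ι (fun m : ℕ => F.obj m) a + F.map (homOfLE a.le_succ) ≫ sl F (a + 1) b := by
  rw [sl, Finset.sum_eq_sum_Ico_succ_bot h, tl_self, sl, Preadditive.comp_sum]
  refine congrArg (_ + ·) (Finset.sum_congr rfl fun l hl => ?_)
  exact (map_tl F _ (Finset.mem_Ico.1 hl).1).symm

lemma tl_shift {a b : ℕ} (h : a ≤ b) :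
    tl F a b ≫ DerLim.shiftMap (fun m : ℕ => F.obj m) (fun m => F.map (homOfLE (Nat.le_succ m))) =
      tl F a (b + 1) := by
  simp only [tl, dif_pos h, dif_pos (h.trans b.le_succ), Category.assoc, DerLim.shiftMap, Sigma.ι_desc]
  rw [← Category.assoc, ← F.map_comp]
  rfl

lemma sl_δ (a : ℕ) : ∀ {b : ℕ}, a ≤ b → sl F a b ≫
    (𝟙 _ - DerLim.shiftMap (fun m : ℕ => F.obj m) (fun m => F.map (homOfLE (Nat.le_succ m)))) =
      tl F a a - tl F a b := by
  intro b h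
  induction b, h using Nat.le_induction with
  | base => simp [sl]
  | succ b h ih =>
    rw [sl, Finset.sum_Ico_succ_top h, Preadditive.add_comp, ← sl, ih, Preadditive.comp_sub,
      Category.comp_id, tl_shift F h]
    abel

lemma sl_comp_zero {T : D} (g : (∐ fun m : ℕ => F.obj m) ⟶ T) {a b : ℕ}
    (h : ∀ l, a ≤ l → l < b → Sigma.ι (fun m : ℕ => F.obj m) l ≫ g = 0) : sl F a b ≫ g = 0 := by
  rw [sl, Preadditive.sum_comp]
  refine Finset.sum_eq_zero fun l hl => ?_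
  obtain ⟨h₁, h₂⟩ := Finset.mem_Ico.1 hl
  rw [tl, dif_pos h₁, Category.assoc, h l h₁ h₂, comp_zero]

variable (n : ℕ → ℕ) (hn : StrictMono n)

/-- The first index beyond `m`. -/
def jx (m : ℕ) : ℕ := Nat.find (⟨m, hn.id_le m⟩ : ∃ i, m ≤ n i)

lemma le_jx (m : ℕ) : m ≤ n (jx n hn m) := Nat.find_spec (⟨m, hn.id_le m⟩ : ∃ i, m ≤ n i)

lemma jx_apply (i : ℕ) : jx n hn (n i) = i :=
  (Nat.find_eq_iff _).2 ⟨le_rfl, fun k hk => not_le.2 (hn hk)⟩

lemma jx_succ_of_lt {m : ℕ} (h : m < n (jx n hn m)) : jx n hn (m + 1) = jx n hn m :=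
  (Nat.find_eq_iff _).2 ⟨h, fun k hk h' =>
    Nat.find_min (⟨m, hn.id_le m⟩ : ∃ i, m ≤ n i) hk (by omega)⟩

lemma jx_succ_apply (i : ℕ) : jx n hn (n i + 1) = i + 1 :=
  (Nat.find_eq_iff _).2 ⟨hn i.lt_succ_self, fun _ hk h' => by
    have := hn.monotone (Nat.lt_succ_iff.1 hk); omega⟩

variable [HasCoproduct fun i : ℕ => F.obj (n i)]

/-- `K_m → K'_{j(m)}`. -/
noncomputable def cm (m : ℕ) : F.obj m ⟶ ∐ fun i : ℕ => F.obj (n i) :=
  F.map (homOfLE (le_jx n hn m)) ≫ Sigma.ι (fun i : ℕ => F.obj (n i)) (jx n hn m)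

lemma cm_eq (m i : ℕ) (h : jx n hn m = i) (h' : m ≤ n i) :
    cm F n hn m = F.map (homOfLE h') ≫ Sigma.ι (fun i : ℕ => F.obj (n i)) i := by
  subst h; rfl

lemma cm_apply (i : ℕ) : cm F n hn (n i) = Sigma.ι (fun i : ℕ => F.obj (n i)) i := by
  rw [cm_eq F n hn _ i (jx_apply n hn i) le_rfl]
  simp

lemma step_cm {m : ℕ} (h : m < n (jx n hn m)) :
    F.map (homOfLE m.le_succ) ≫ cm F n hn (m + 1) = cm F n hn m := by
  rw [cm_eq F n hn (m + 1) _ (jx_succ_of_lt n hn h) h, ← Category.assoc, ← F.map_comp]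
  rfl

lemma step_cm_apply (i : ℕ) : F.map (homOfLE (n i).le_succ) ≫ cm F n hn (n i + 1) =
    F.map (homOfLE (hn.monotone (Nat.le_succ i))) ≫ Sigma.ι (fun i : ℕ => F.obj (n i)) (i + 1) := by
  rw [cm_eq F n hn (n i + 1) _ (jx_succ_apply n hn i) (hn i.lt_succ_self), ← Category.assoc,
    ← F.map_comp]
  rfl

end

theorem isIso_of_sub_sq {D : Type u} [Category.{v} D] [Preadditive D] {L : D} (g : L ⟶ L)
    (h : (g - 𝟙 L) ≫ (g - 𝟙 L) = 0) : IsIso g := by
  refine ⟨⟨𝟙 L - (g - 𝟙 L), ?_, ?_⟩⟩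
  · have e : g ≫ (𝟙 L - (g - 𝟙 L)) - 𝟙 L = -((g - 𝟙 L) ≫ (g - 𝟙 L)) := by
      simp only [Preadditive.comp_sub, Preadditive.sub_comp, Category.id_comp, Category.comp_id]
      abel
    rw [h, neg_zero, sub_eq_zero] at e
    exact e
  · have e : (𝟙 L - (g - 𝟙 L)) ≫ g - 𝟙 L = -((g - 𝟙 L) ≫ (g - 𝟙 L)) := by
      simp only [Preadditive.comp_sub, Preadditive.sub_comp, Category.id_comp, Category.comp_id]
      abel
    rw [h, neg_zero, sub_eq_zero] at e
    exact e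

theorem isIso_endo {D : Type u} [Category.{v} D] [Preadditive D] [HasZeroObject D] [HasShift D ℤ]
    [∀ n : ℤ, (shiftFunctor D n).Additive] [Pretriangulated D] {T : Triangle D}
    (hT : T ∈ distTriang D) (g : T.obj₃ ⟶ T.obj₃) (u : T.obj₁ ⟶ T.obj₁) (h : T.obj₂ ⟶ T.obj₁)
    (hu : u - 𝟙 _ = T.mor₁ ≫ h)
    (h₂ : T.mor₂ ≫ g = T.mor₂) (h₃ : g ≫ T.mor₃ = T.mor₃ ≫ u⟦(1 : ℤ)⟧') : IsIso g := by
  refine isIso_of_sub_sq g ?_
  have e₃ : (g - 𝟙 _) ≫ T.mor₃ = 0 := by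
    rw [Preadditive.sub_comp, Category.id_comp, h₃]
    have : u⟦(1 : ℤ)⟧' = T.mor₁⟦(1 : ℤ)⟧' ≫ h⟦(1 : ℤ)⟧' + 𝟙 _ := by
      rw [← Functor.map_comp, ← hu, Functor.map_sub, CategoryTheory.Functor.map_id, sub_add_cancel]
    rw [this, Preadditive.comp_add, Category.comp_id, ← Category.assoc]
    erw [comp_distTriang_mor_zero₃₁ _ hT]
    simp
  obtain ⟨k, hk⟩ := Triangle.yoneda_exact₃ T hT (g - 𝟙 _) (by
    rw [Preadditive.comp_sub, h₂, Category.comp_id, sub_self])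
  conv_lhs => arg 2; rw [hk]
  rw [← Category.assoc, e₃, zero_comp]

/-- Let D be a triangulated category, (K_m, f_m) a system of objects of D indexed by ℕ (given as a
functor F : ℕ ⥤ D) and n₁ < n₂ < … a strictly increasing sequence. Assume ⨁ K_m and ⨁ K_{n_i} exist.
If L is a homotopy colimit of (K_m) and L' a homotopy colimit of the subsequence (K_{n_i}) (with the
composite transition maps), then there is an isomorphism L' ≅ L under which the structure map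
K_{n_i} ⟶ L' corresponds to K_{n_i} ⟶ L for every i. -/
theorem result {D : Type u} [Category.{v} D] [Preadditive D] [HasZeroObject D] [HasShift D ℤ]
    [∀ n : ℤ, (shiftFunctor D n).Additive] [Pretriangulated D] [IsTriangulated D]
    (F : ℕ ⥤ D) (n : ℕ → ℕ) (hn : StrictMono n)
    [HasCoproduct (fun m : ℕ => F.obj m)] [HasCoproduct (fun i : ℕ => F.obj (n i))]
    (L : D) (ι : ∀ m : ℕ, F.obj m ⟶ L)
    (hL : DerLim.IsHocolim (fun m : ℕ => F.obj m) (fun m : ℕ => F.map (homOfLE (Nat.le_succ m))) L ι)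
    (L' : D) (ι' : ∀ i : ℕ, F.obj (n i) ⟶ L')
    (hL' : DerLim.IsHocolim (fun i : ℕ => F.obj (n i)) (fun i : ℕ => F.map (homOfLE (hn.monotone (Nat.le_succ i)))) L' ι') :
    ∃ e : L' ≅ L, ∀ i : ℕ, ι' i ≫ e.hom = ι (n i) := by
  classical
  obtain ⟨w, hT⟩ := hL
  obtain ⟨w', hT'⟩ := hL'
  let K := fun m : ℕ => F.obj m
  let K' := fun i : ℕ => F.obj (n i)
  let f' := fun i : ℕ => F.map (homOfLE (hn.monotone (Nat.le_succ i)))
  let δ := 𝟙 (∐ K) - DerLim.shiftMap K (fun m => F.map (homOfLE (Nat.le_succ m)))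
  let δ' := 𝟙 (∐ K') - DerLim.shiftMap K' f'
  let a : (∐ K') ⟶ ∐ K := Sigma.desc fun i => Sigma.ι K (n i)
  let b : (∐ K') ⟶ ∐ K := Sigma.desc fun i => sl F (n i) (n (i + 1))
  let c : (∐ K) ⟶ ∐ K' := Sigma.desc fun m => cm F n hn m
  let d : (∐ K) ⟶ ∐ K' := Sigma.desc fun m => if n (jx n hn m) = m then cm F n hn m else 0
  let h : (∐ K) ⟶ ∐ K := Sigma.desc fun m => -sl F m (n (jx n hn m))
  have hba : δ' ≫ a = b ≫ δ := by
    refine Sigma.hom_ext _ _ fun i => ?_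
    have e := sl_δ F (n i) (hn.monotone (Nat.le_succ i))
    rw [tl_self, tl, dif_pos (hn.monotone (Nat.le_succ i))] at e
    simp only [δ', a, b, δ, f', DerLim.shiftMap, Preadditive.sub_comp, Preadditive.comp_sub,
      Category.id_comp, Sigma.ι_desc_assoc, Category.assoc, Sigma.ι_desc] at e ⊢
    exact e.symm
  have hdc : δ ≫ c = d ≫ δ' := by
    refine Sigma.hom_ext _ _ fun m => ?_
    simp only [δ, c, d, Preadditive.sub_comp, Preadditive.comp_sub, DerLim.shiftMap,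
      Category.id_comp, Sigma.ι_desc_assoc, Category.assoc, Sigma.ι_desc]
    by_cases hm : n (jx n hn m) = m
    · obtain ⟨i, rfl⟩ : ∃ i, m = n i := ⟨_, hm.symm⟩
      rw [if_pos hm, cm_apply, step_cm_apply]
      simp [δ', K', f', DerLim.shiftMap]
    · rw [if_neg hm, step_cm F n hn (lt_of_le_of_ne (le_jx n hn m) (Ne.symm hm))]
      simp
  have hac : a ≫ c = 𝟙 _ := Sigma.hom_ext _ _ fun i => by simp [a, c, cm_apply, K']
  have hbd : b ≫ d = 𝟙 _ := Sigma.hom_ext _ _ fun i => by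
    rw [Category.comp_id, ← Category.assoc, Sigma.ι_desc, sl_eq F (hn i.lt_succ_self),
      Preadditive.add_comp, Category.assoc, sl_comp_zero F d fun l hl hl' => ?_]
    · simp only [d, Sigma.ι_desc, comp_zero, add_zero, jx_apply, if_true, cm_apply]
      rfl
    · rw [Sigma.ι_desc, if_neg]
      intro e
      have h₁ : i < jx n hn l := hn.lt_iff_lt.1 (by omega)
      have h₂ : jx n hn l < i + 1 := hn.lt_iff_lt.1 (by show _ < n i.succ; omega)
      omega
  have hh₂ : c ≫ a - 𝟙 _ = h ≫ δ := by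
    refine Sigma.hom_ext _ _ fun m => ?_
    have e := sl_δ F m (le_jx n hn m)
    rw [tl_self, tl, dif_pos (le_jx n hn m)] at e
    rw [Preadditive.comp_sub, Category.comp_id, ← Category.assoc (Sigma.ι K m) h]
    simp only [h, Sigma.ι_desc]
    rw [Preadditive.neg_comp]
    refine Eq.trans ?_ ((congrArg (- ·) e).symm)
    rw [neg_sub]
    simp [c, a, cm, K]
    exact congrArg (_ ≫ ·) (Sigma.ι_desc (fun i => Sigma.ι (fun m : ℕ => F.obj m) (n i)) (jx n hn m))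
  have hh₁ : d ≫ b - 𝟙 _ = δ ≫ h := by
    refine Sigma.hom_ext _ _ fun m => ?_
    simp only [h, δ, d, Preadditive.sub_comp, Preadditive.comp_sub, DerLim.shiftMap, Category.comp_id,
      Category.id_comp, Sigma.ι_desc_assoc, Category.assoc, Sigma.ι_desc]
    by_cases hm : n (jx n hn m) = m
    · obtain ⟨i, rfl⟩ : ∃ i, m = n i := ⟨_, hm.symm⟩
      rw [if_pos hm, cm_apply, jx_succ_apply, jx_apply, Preadditive.comp_neg]
      simp only [b, Sigma.ι_desc]
      rw [sl_eq F (hn i.lt_succ_self)]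
      simp [sl, K]
    · have hlt := lt_of_le_of_ne (le_jx n hn m) (Ne.symm hm)
      rw [if_neg hm, zero_comp, jx_succ_of_lt n hn hlt, Preadditive.comp_neg, sl_eq F hlt]
      simp [K]
  let T := Triangle.mk δ (Sigma.desc ι) w
  let T' := Triangle.mk δ' (Sigma.desc ι') w'
  obtain ⟨e, he₂, he₃⟩ : ∃ e : L' ⟶ L, Sigma.desc ι' ≫ e = a ≫ Sigma.desc ι ∧
      w' ≫ b⟦(1 : ℤ)⟧' = e ≫ w := complete_distinguished_triangle_morphism T' T hT' hT b a hba
  obtain ⟨e', he'₂, he'₃⟩ : ∃ e' : L ⟶ L', Sigma.desc ι ≫ e' = c ≫ Sigma.desc ι' ∧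
      w ≫ d⟦(1 : ℤ)⟧' = e' ≫ w' := complete_distinguished_triangle_morphism T T' hT hT' d c hdc
  haveI : IsIso (e ≫ e') := isIso_endo (T := T') hT' (e ≫ e') (b ≫ d) 0
    (by
      show b ≫ d - 𝟙 (∐ K') = δ' ≫ 0
      rw [hbd, sub_self, comp_zero])
    (by
      show Sigma.desc ι' ≫ e ≫ e' = Sigma.desc ι'
      rw [reassoc_of% he₂, he'₂, reassoc_of% hac])
    (by
      show (e ≫ e') ≫ w' = w' ≫ (b ≫ d)⟦(1 : ℤ)⟧'
      rw [Category.assoc, ← he'₃, ← Category.assoc, ← he₃, Category.assoc, ← Functor.map_comp])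
  haveI : IsIso (e' ≫ e) := isIso_endo (T := T) hT (e' ≫ e) (d ≫ b) h hh₁
    (by
      show Sigma.desc ι ≫ e' ≫ e = Sigma.desc ι
      rw [reassoc_of% he'₂, he₂, ← Category.assoc]
      rw [← sub_eq_zero]
      conv_lhs => arg 2; rw [← Category.id_comp (Sigma.desc ι)]
      have z : δ ≫ Sigma.desc ι = 0 := comp_distTriang_mor_zero₁₂ _ hT
      rw [← Preadditive.sub_comp, hh₂, Category.assoc, z, comp_zero])
    (by
      show (e' ≫ e) ≫ w = w ≫ (d ≫ b)⟦(1 : ℤ)⟧'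
      rw [Category.assoc, ← he₃, ← Category.assoc, ← he'₃, Category.assoc, ← Functor.map_comp])
  haveI : IsIso e := ⟨⟨e' ≫ inv (e ≫ e'), by rw [← Category.assoc, IsIso.hom_inv_id], by
    have h1 : inv (e' ≫ e) ≫ e' = e' ≫ inv (e ≫ e') := by
      rw [IsIso.inv_comp_eq, Category.assoc, ← Category.assoc e e', ← Category.assoc e' (e ≫ e')]
      simp only [Category.assoc]
      rw [← Category.assoc e e' (inv _), IsIso.hom_inv_id, Category.comp_id]
    rw [← h1, Category.assoc, IsIso.inv_hom_id]⟩⟩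
  refine ⟨asIso e, fun i => ?_⟩
  have := congrArg (Sigma.ι K' i ≫ ·) he₂
  simpa [a, K, K'] using this

end Groth.Agent.S6592
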