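import Groth.Statements.S6593
import Groth.Agent.H16Derived.TriangleCriterion

set_option autoImplicit false
universe w v u
open CategoryTheory CategoryTheory.Limits
open CohDer

namespace Groth.Agent.S6593

open CategoryTheory.Pretriangulated in
/-- Let D be a pretriangulated category and (X_i → Y_i → Z_i → X_i⟦1⟧)_{i ∈ I} a family of distinguished
triangles. If the direct sums ⨁ X_i, ⨁ Y_i, ⨁ Z_i exist, then ⨁ X_i → ⨁ Y_i → ⨁ Z_i → (⨁ X_i)⟦1⟧ is
a distinguished triangle (the last map is induced by the composites Z_i → X_i⟦1⟧ → (⨁ X_i)⟦1⟧). -/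
theorem result {D : Type u} [Category.{v} D] [Preadditive D] [HasZeroObject D] [HasShift D ℤ]
    [∀ n : ℤ, (shiftFunctor D n).Additive] [Pretriangulated D]
    {J : Type w} (T : J → Triangle D) (hT : ∀ j, T j ∈ distinguishedTriangles)
    [HasCoproduct (fun j => (T j).obj₁)] [HasCoproduct (fun j => (T j).obj₂)] [HasCoproduct (fun j => (T j).obj₃)] :
    Triangle.mk (Limits.Sigma.map (fun j => (T j).mor₁)) (Limits.Sigma.map (fun j => (T j).mor₂))
      (Sigma.desc (fun j => (T j).mor₃ ≫ (shiftFunctor D (1 : ℤ)).map (Sigma.ι (fun j => (T j).obj₁) j))) ∈ distinguishedTriangles := by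
  exact Groth.Agent.H16Derived.coproductTriangle_distinguished T hT

end Groth.Agent.S6593
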