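import Groth.Statements.S6594

set_option autoImplicit false
universe v u
open CategoryTheory CategoryTheory.Limits
open CohDer

namespace Groth.Agent.S6594

open CategoryTheory.Pretriangulated CategoryTheory.Limits
open scoped ZeroObject

open CategoryTheory.Pretriangulated in
/-- (1) ⇔ (3): let D be a pretriangulated category and f : X ⟶ Y a morphism. Then f has a kernel if and
only if f is isomorphic to a composite K ⊞ Z → Z → Z ⊞ Q of a projection and a coprojection for some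
objects K, Z, Q. -/
theorem result {D : Type u} [Category.{v} D] [Preadditive D] [HasZeroObject D] [HasShift D ℤ]
    [∀ n : ℤ, (shiftFunctor D n).Additive] [Pretriangulated D]
    {X Y : D} (f : X ⟶ Y) :
    HasKernel f ↔ ∃ (K Z Q : D) (e₁ : X ≅ K ⊞ Z) (e₂ : Y ≅ Z ⊞ Q),
      f = e₁.hom ≫ biprod.snd ≫ biprod.inl ≫ e₂.inv := by
  constructor
  · intro _
    obtain ⟨Z, p, h, H⟩ := distinguished_cocone_triangle (kernel.ι f)
    have h0 : h = 0 := Triangle.mor₃_eq_zero_of_mono₁ _ H (inferInstanceAs (Mono (kernel.ι f)))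
    obtain ⟨(e₁ : X ≅ kernel f ⊞ Z), -, he₁⟩ := exists_iso_binaryBiproduct_of_distTriang _ H h0
    obtain ⟨(m : Z ⟶ Y), hm⟩ := Triangle.yoneda_exact₂ _ H f (kernel.condition f)
    have hm' : f = p ≫ m := hm
    have he₁' : p = e₁.hom ≫ biprod.snd := he₁
    have hmono : Mono m := by
      refine Preadditive.mono_of_cancel_zero _ fun {W} u hu => ?_
      let w : W ⟶ X := u ≫ (biprod.inr : Z ⟶ kernel f ⊞ Z) ≫ e₁.inv
      have hw : w ≫ p = u := by
        rw [he₁']
        simp [w]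
      have hwf : w ≫ f = 0 := by rw [hm', ← Category.assoc, hw, hu]
      rw [← hw, ← kernel.lift_ι f w hwf, Category.assoc,
        show kernel.ι f ≫ p = 0 from comp_distTriang_mor_zero₁₂ _ H, comp_zero]
    obtain ⟨Q, q, k, H'⟩ := distinguished_cocone_triangle m
    have k0 : k = 0 := Triangle.mor₃_eq_zero_of_mono₁ _ H' (inferInstanceAs (Mono m))
    obtain ⟨(e₂ : Y ≅ Z ⊞ Q), he₂, -⟩ := exists_iso_binaryBiproduct_of_distTriang _ H' k0
    refine ⟨kernel f, Z, Q, e₁, e₂, ?_⟩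
    have he₂' : m = biprod.inl ≫ e₂.inv := (Iso.comp_inv_eq e₂).2 he₂.symm |>.symm
    calc f = p ≫ m := hm'
      _ = (e₁.hom ≫ biprod.snd) ≫ biprod.inl ≫ e₂.inv :=
        (congrArg (· ≫ m) he₁').trans (congrArg ((e₁.hom ≫ biprod.snd) ≫ ·) he₂')
      _ = _ := Category.assoc _ _ _
  · rintro ⟨K, Z, Q, e₁, e₂, rfl⟩
    have : Mono (biprod.inl ≫ e₂.inv : Z ⟶ Y) := inferInstance
    have : HasKernel (biprod.snd : K ⊞ Z ⟶ Z) :=
      ⟨⟨⟨KernelFork.ofι biprod.inl biprod.inl_snd, biprod.isKernelSndKernelFork K Z⟩⟩⟩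
    infer_instance

end Groth.Agent.S6594
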