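import Groth.Statements.S6596
import Groth.Agent.H16Derived.Postnikov

set_option autoImplicit false
universe v u
open CategoryTheory CategoryTheory.Limits
open CohDer

namespace Groth.Agent.S6596

open CategoryTheory.Pretriangulated
open Groth.Agent.H16Derived

open CategoryTheory.Pretriangulated in
/-- Let D be a triangulated category and φ : X ⟶ X' a morphism of chain complexes in D considered in
degrees ≤ n, where a Postnikov system for the complex X_n → … → X_0 consists of objects Y_k, an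
isomorphism Y_0 ⟶ X_0, and for 0 ≤ k < n distinguished triangles Y_{k+1} ⟶ X_{k+1} ⟶ Y_k ⟶
Y_{k+1}⟦1⟧ with X_{k+1} ⟶ Y_k ⟶ X_k the differential. Suppose X and X' carry Postnikov systems (Y,
a, b, c) and (Y', a', b', c'). If Hom(X_i⟦i - j - 1⟧, X'_j) = 0 for all j + 1 < i ≤ n, then φ
extends to a morphism of Postnikov systems: morphisms y_k : Y_k ⟶ Y'_k for k ≤ n forming, with the
φ_k, morphisms of the distinguished triangles and compatible with Y_0 ⟶ X_0 and Y'_0 ⟶ X'_0. -/
theorem result {D : Type u} [Category.{v} D] [Preadditive D] [HasZeroObject D] [HasShift D ℤ]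
    [∀ n : ℤ, (shiftFunctor D n).Additive] [Pretriangulated D] [IsTriangulated D]
    (X X' : ChainComplex D ℕ) (φ : X ⟶ X') (n : ℕ)
    (Y : ℕ → D) (a : ∀ k, Y k ⟶ X.X k) (b : ∀ k, X.X (k + 1) ⟶ Y k)
    (c : ∀ k, Y k ⟶ (shiftFunctor D (1 : ℤ)).obj (Y (k + 1)))
    (h0 : IsIso (a 0))
    (hP : ∀ k, k < n → Triangle.mk (a (k + 1)) (b k) (c k) ∈ distinguishedTriangles ∧ b k ≫ a k = X.d (k + 1) k)
    (qY : ℕ → D) (qa : ∀ k, qY k ⟶ X'.X k) (qb : ∀ k, X'.X (k + 1) ⟶ qY k)
    (qc : ∀ k, qY k ⟶ (shiftFunctor D (1 : ℤ)).obj (qY (k + 1)))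
    (qh0 : IsIso (qa 0))
    (qhP : ∀ k, k < n → Triangle.mk (qa (k + 1)) (qb k) (qc k) ∈ distinguishedTriangles ∧ qb k ≫ qa k = X'.d (k + 1) k)
    (hX : ∀ i j : ℕ, j + 1 < i → i ≤ n → ∀ ψ : (shiftFunctor D ((i : ℤ) - j - 1)).obj (X.X i) ⟶ X'.X j, ψ = 0) :
    ∃ y : ∀ k, Y k ⟶ qY k,
      (∀ k, k ≤ n → y k ≫ qa k = a k ≫ φ.f k) ∧
      (∀ k, k < n → b k ≫ y k = φ.f (k + 1) ≫ qb k ∧ c k ≫ (shiftFunctor D (1 : ℤ)).map (y (k + 1)) = y k ≫ qc k) := by
  have key : ∀ m : ℕ, m ≤ n → ∃ y : ∀ k, Y k ⟶ qY k,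
      (∀ k, k ≤ m → y k ≫ qa k = a k ≫ φ.f k) ∧
      (∀ k, k < m → b k ≫ y k = φ.f (k + 1) ≫ qb k ∧
        c k ≫ (shiftFunctor D (1 : ℤ)).map (y (k + 1)) = y k ≫ qc k) := by
    intro m
    induction m with
    | zero =>
      intro _
      refine ⟨Function.update (fun _ => 0) 0 (a 0 ≫ φ.f 0 ≫ inv (qa 0)), fun k hk => ?_,
        fun k hk => absurd hk (Nat.not_lt_zero k)⟩
      obtain rfl : k = 0 := by lia
      simp
    | succ m ih =>
      intro hm
      obtain ⟨y, hy₁, hy₂⟩ := ih (by lia)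
      obtain ⟨hT, hd⟩ := hP m (by lia)
      obtain ⟨hT', hd'⟩ := qhP m (by lia)
      let e : X.X (m + 1) ⟶ qY m := b m ≫ y m - φ.f (m + 1) ≫ qb m
      have he : e ≫ qa m = 0 := by
        simp only [e, Preadditive.sub_comp, Category.assoc, hy₁ m le_rfl, hd']
        rw [reassoc_of% hd, φ.comm, sub_self]
      have he0 : e = 0 := by
        cases m with
        | zero => rw [← cancel_mono (qa 0), he, zero_comp]
        | succ p =>
          obtain ⟨(r : X.X (p + 1 + 1) ⟶ (qY p)⟦(-1 : ℤ)⟧), hr⟩ :=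
            Triangle.coyoneda_exact₂ _ (inv_rot_of_distTriang _ (qhP p (by lia)).1) e he
          have hr0 : r = 0 := Postnikov.hom_to_eq_zero n qa qb qc qh0 (fun k hk => (qhP k hk).1)
            (X.X (p + 1 + 1)) p (by lia) (-1) (fun l hl f => by
              refine hom_eq_zero_of_iso ((shiftFunctorZero D ℤ).app _) (Iso.refl _)
                (fun g => shift_hom_eq_zero_of_diff ((p + 1 + 1 : ℕ) - (l : ℤ) - 1) 0 _ _ (by
                  push_cast; lia) (fun g' => hom_eq_zero_of_iso (Iso.refl _)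
                    ((shiftFunctorZero D ℤ).app _).symm (hX (p + 1 + 1) l (by lia) (by lia)) g') g) f) r
          rw [hr, hr0]
          exact zero_comp
      obtain ⟨(y' : Y (m + 1) ⟶ qY (m + 1)), (h₁ : a (m + 1) ≫ φ.f (m + 1) = y' ≫ qa (m + 1)),
          (h₂ : c m ≫ y'⟦(1 : ℤ)⟧' = y m ≫ qc m)⟩ :=
        complete_distinguished_triangle_morphism₁ _ _ hT hT' (φ.f (m + 1)) (y m)
          (show b m ≫ y m = φ.f (m + 1) ≫ qb m from sub_eq_zero.1 he0)
      refine ⟨Function.update y (m + 1) y', fun k hk => ?_, fun k hk => ?_⟩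
      · rcases eq_or_lt_of_le hk with rfl | hk'
        · simpa using h₁.symm
        · rw [Function.update_of_ne (by lia)]
          exact hy₁ k (by lia)
      · rcases eq_or_lt_of_le (Nat.lt_succ_iff.1 hk) with rfl | hk'
        · rw [Function.update_of_ne (by lia), Function.update_self]
          exact ⟨sub_eq_zero.1 he0, h₂⟩
        · rw [Function.update_of_ne (by lia), Function.update_of_ne (by lia)]
          exact hy₂ k hk'
  exact key n le_rfl

end Groth.Agent.S6596
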