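import Groth.Statements.S6600
import Groth.Agent.H16Derived.ShiftHom

import Mathlib.CategoryTheory.Triangulated.Orthogonal

set_option autoImplicit false
universe v u
open CategoryTheory CategoryTheory.Limits
open CohDer

namespace Groth.Agent.S6600

open scoped ZeroObject
open CategoryTheory.Pretriangulated CategoryTheory.Limits

open CategoryTheory.Pretriangulated in
/-- Let D be a triangulated category, A ⊂ D a full subcategory invariant under all shifts, and X → Y → Z
→ X⟦1⟧ a distinguished triangle. Then Z lies in the right orthogonal A^⊥ if and only if Hom(A, X) →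
Hom(A, Y) is bijective for every object A of A. -/
theorem result {D : Type u} [Category.{v} D] [Preadditive D] [HasZeroObject D] [HasShift D ℤ]
    [∀ n : ℤ, (shiftFunctor D n).Additive] [Pretriangulated D] [IsTriangulated D]
    (P : ObjectProperty D) [P.IsStableUnderShift ℤ] (T : Triangle D) (hT : T ∈ distinguishedTriangles) :
    P.rightOrthogonal T.obj₃ ↔ ∀ A : D, P A → Function.Bijective (fun u : A ⟶ T.obj₁ => u ≫ T.mor₁) := by
  constructor
  · intro h A hA
    refine ⟨fun u u' huu' => sub_eq_zero.1 ?_, fun v => ?_⟩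
    · obtain ⟨w, hw⟩ := Triangle.coyoneda_exact₂ _ (inv_rot_of_distTriang _ hT) (u - u')
        (show (u - u') ≫ T.mor₁ = 0 by rw [Preadditive.sub_comp, sub_eq_zero]; exact huu')
      rw [hw]
      have : w = 0 := (P.rightOrthogonal.le_shift (-1 : ℤ) _ h) w hA
      rw [this]
      exact zero_comp
    · obtain ⟨w, hw⟩ := Triangle.coyoneda_exact₂ T hT v (h (v ≫ T.mor₂) hA)
      exact ⟨w, hw.symm⟩
  · intro h A u hA
    obtain ⟨a, ha⟩ : ∃ a : A⟦(-1 : ℤ)⟧ ⟶ T.obj₁, a⟦(1 : ℤ)⟧' =
        (shiftFunctorCompIsoId D (-1 : ℤ) 1 (by lia)).hom.app A ≫ u ≫ T.mor₃ :=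
      ⟨_, (shiftFunctor D (1 : ℤ)).map_preimage _⟩
    have ha1 : a ≫ T.mor₁ = 0 := (shiftFunctor D (1 : ℤ)).map_injective (by
      rw [Functor.map_comp, ha, Functor.map_zero, Category.assoc, Category.assoc,
        comp_distTriang_mor_zero₃₁ _ hT, comp_zero, comp_zero])
    have ha0 : a = 0 := (h _ (P.le_shift (-1 : ℤ) _ hA)).1 (by simpa using ha1)
    have hu : u ≫ T.mor₃ = 0 := by
      rw [← cancel_epi ((shiftFunctorCompIsoId D (-1 : ℤ) 1 (by lia)).hom.app A), ← ha, ha0,
        Functor.map_zero, comp_zero]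
    obtain ⟨v, rfl⟩ := Triangle.coyoneda_exact₃ T hT u hu
    obtain ⟨w, hw⟩ := (h A hA).2 v
    simp only [← hw, Category.assoc, comp_distTriang_mor_zero₁₂ _ hT, comp_zero]

end Groth.Agent.S6600
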