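import Groth.Statements.S6601
import Groth.Agent.H16Derived.ShiftHom

import Mathlib.CategoryTheory.Triangulated.Orthogonal

set_option autoImplicit false
universe v u
open CategoryTheory CategoryTheory.Limits
open CohDer

namespace Groth.Agent.S6601

open scoped ZeroObject
open CategoryTheory.Pretriangulated CategoryTheory.Limits

open CategoryTheory.Pretriangulated in
/-- Let D be a triangulated category, B ⊂ D a full subcategory invariant under all shifts, and X → Y → Z
→ X⟦1⟧ a distinguished triangle. Then X lies in the left orthogonal ^⊥B if and only if Hom(Z, B) →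
Hom(Y, B) is bijective for every object B of B. -/
theorem result {D : Type u} [Category.{v} D] [Preadditive D] [HasZeroObject D] [HasShift D ℤ]
    [∀ n : ℤ, (shiftFunctor D n).Additive] [Pretriangulated D] [IsTriangulated D]
    (P : ObjectProperty D) [P.IsStableUnderShift ℤ] (T : Triangle D) (hT : T ∈ distinguishedTriangles) :
    P.leftOrthogonal T.obj₁ ↔ ∀ B : D, P B → Function.Bijective (fun u : T.obj₃ ⟶ B => T.mor₂ ≫ u) := by
  constructor
  · intro h B hB
    refine ⟨fun u u' huu' => sub_eq_zero.1 ?_, fun v => ?_⟩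
    · obtain ⟨w, hw⟩ := Triangle.yoneda_exact₃ _ hT (u - u')
        (by rw [Preadditive.comp_sub, sub_eq_zero]; exact huu')
      rw [hw]
      have : w = 0 := (P.leftOrthogonal.le_shift (1 : ℤ) _ h) w hB
      rw [this, comp_zero]
    · obtain ⟨w, hw⟩ := Triangle.yoneda_exact₂ T hT v (h (T.mor₁ ≫ v) hB)
      exact ⟨w, hw.symm⟩
  · intro h B u hB
    have hu : T.mor₃ ≫ u⟦(1 : ℤ)⟧' = 0 := (h _ (P.le_shift (1 : ℤ) _ hB)).1 (by
      simp [reassoc_of% (comp_distTriang_mor_zero₂₃ T hT)])
    obtain ⟨v, hv⟩ := Triangle.yoneda_exact₃ _ (rot_of_distTriang _ hT) _ hu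
    obtain ⟨(v' : T.obj₂ ⟶ B), rfl⟩ := (shiftFunctor D (1 : ℤ)).map_surjective v
    have hv' : u = -(T.mor₁ ≫ v') := (shiftFunctor D (1 : ℤ)).map_injective (by
      have h' : (-T.mor₁⟦(1 : ℤ)⟧') ≫ v'⟦(1 : ℤ)⟧' = u⟦(1 : ℤ)⟧' := hv.symm
      rw [Functor.map_neg, Functor.map_comp, ← h', Preadditive.neg_comp])
    obtain ⟨w, hw⟩ := (h B hB).2 v'
    simp only [hv', ← hw, comp_distTriang_mor_zero₁₂_assoc _ hT, zero_comp, neg_zero]

end Groth.Agent.S6601
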