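import Groth.Statements.S6602
import Mathlib.CategoryTheory.Triangulated.Orthogonal
import Mathlib.CategoryTheory.Adjunction.PartialAdjoint

set_option autoImplicit false
universe v u
open CategoryTheory CategoryTheory.Limits
open CohDer

namespace Groth.Agent.S6602

open CategoryTheory.Pretriangulated CategoryTheory.Limits
open scoped ZeroObject

open CategoryTheory.Pretriangulated in
/-- (1) ⇔ (2): let D be a triangulated category and B a full triangulated subcategory. The inclusion
functor B → D has a left adjoint if and only if for every X in D there is a distinguished triangle A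
→ X → B → A⟦1⟧ with B in B and A in the left orthogonal ^⊥B. (The published statement further
asserts that B is then saturated and, when strictly full, equals the right orthogonal of its left
orthogonal; this row asserts only the equivalence.) -/
theorem result {D : Type u} [Category.{v} D] [Preadditive D] [HasZeroObject D] [HasShift D ℤ]
    [∀ n : ℤ, (shiftFunctor D n).Additive] [Pretriangulated D] [IsTriangulated D]
    (P : ObjectProperty D) [P.IsTriangulated] :
    P.ι.IsRightAdjoint ↔ ∀ X : D, ∃ (A B : D) (f : A ⟶ X) (g : X ⟶ B) (h : B ⟶ (shiftFunctor D (1 : ℤ)).obj A),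
      Triangle.mk f g h ∈ distinguishedTriangles ∧ P B ∧ P.leftOrthogonal A := by
  constructor
  · intro _ X
    let adj := Adjunction.ofIsRightAdjoint P.ι
    let η : X ⟶ (P.ι.leftAdjoint.obj X).obj := adj.unit.app X
    obtain ⟨A, f, h, H⟩ := distinguished_cocone_triangle₁ η
    refine ⟨A, _, f, η, h, H, (P.ι.leftAdjoint.obj X).property, fun W u hW => ?_⟩
    have hbij : ∀ V : D, P V → Function.Bijective
        (fun v : (P.ι.leftAdjoint.obj X).obj ⟶ V => η ≫ v) := fun V hV => by
      let e := adj.homEquiv X ⟨V, hV⟩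
      refine ⟨fun v₁ v₂ hv => ?_, fun w => ⟨(e.symm w).hom, ?_⟩⟩
      · have := e.injective (a₁ := ObjectProperty.homMk v₁) (a₂ := ObjectProperty.homMk v₂)
          (by simp only [e, Adjunction.homEquiv_unit]; exact hv)
        exact congrArg (fun φ => φ.hom) this
      · have := e.apply_symm_apply w
        rw [Adjunction.homEquiv_unit] at this
        exact this
    have hz : h ≫ u⟦(1 : ℤ)⟧' = 0 := (hbij _ (P.le_shift (1 : ℤ) _ hW)).1 (by
      have z : η ≫ h = 0 := comp_distTriang_mor_zero₂₃ _ H
      simp [reassoc_of% z])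
    obtain ⟨v, hv⟩ := Triangle.yoneda_exact₃ _ (rot_of_distTriang _ H) _ hz
    obtain ⟨(v' : X ⟶ W), rfl⟩ := (shiftFunctor D (1 : ℤ)).map_surjective v
    obtain ⟨w, hw⟩ := (hbij _ hW).2 v'
    apply (shiftFunctor D (1 : ℤ)).map_injective
    have hv' : u⟦(1 : ℤ)⟧' = (-f⟦(1 : ℤ)⟧') ≫ v'⟦(1 : ℤ)⟧' := hv
    have z : f ≫ η = 0 := comp_distTriang_mor_zero₁₂ _ H
    rw [hv', ← hw, Preadditive.neg_comp, ← Functor.map_comp, reassoc_of% z, zero_comp,
      Functor.map_zero]
    exact neg_zero
  · intro hdec
    refine Functor.isRightAdjoint_of_leftAdjointObjIsDefined_eq_top ?_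
    ext X
    simp only [Pi.top_apply, Prop.top_eq_true, iff_true]
    obtain ⟨A, B, f, g, h, H, hB, hA⟩ := hdec X
    have hbij : ∀ V : D, P V → Function.Bijective (fun v : B ⟶ V => g ≫ v) := fun V hV => by
      refine ⟨fun v₁ v₂ hv => sub_eq_zero.1 ?_, fun w => ?_⟩
      · obtain ⟨w, hw⟩ := Triangle.yoneda_exact₃ _ H (v₁ - v₂)
          (show g ≫ (v₁ - v₂) = 0 by rw [Preadditive.comp_sub, sub_eq_zero]; exact hv)
        have : w = 0 := (P.leftOrthogonal.le_shift (1 : ℤ) _ hA) w hV
        rw [this, comp_zero] at hw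
        exact hw
      · obtain ⟨v, hv⟩ := Triangle.yoneda_exact₂ _ H w (hA (f ≫ w) hV)
        exact ⟨v, hv.symm⟩
    refine Functor.CorepresentableBy.isCorepresentable (X := (⟨B, hB⟩ : P.FullSubcategory)) ?_
    exact
      { homEquiv := fun {Y} =>
          ⟨fun v => g ≫ v.hom, fun w => ObjectProperty.homMk ((Equiv.ofBijective _ (hbij _ Y.property)).symm w),
            fun v => P.ι.map_injective ((Equiv.ofBijective _ (hbij _ Y.property)).symm_apply_apply v.hom),
            fun w => (Equiv.ofBijective _ (hbij _ Y.property)).apply_symm_apply w⟩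
        homEquiv_comp := fun v w => (Category.assoc _ _ _).symm }

end Groth.Agent.S6602
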