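import Groth.Statements.S6603

set_option autoImplicit false
universe v u v' u'
open CategoryTheory CategoryTheory.Limits
open CohDer

namespace Groth.Agent.S6603

open scoped ZeroObject
open CategoryTheory.Pretriangulated CategoryTheory.Limits

open CategoryTheory.Pretriangulated in
/-- (1) ⇔ (2) ⇔ (3) ⇔ (4): let D be a pretriangulated category, S a multiplicative system compatible
with the triangulated structure, and Q : D → S⁻¹D the localization functor. For an object Z of D the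
following are equivalent: (1) Q(Z) = 0; (2) 0 : Z ⟶ Z' is in S for some Z'; (3) 0 : Z' ⟶ Z is in S
for some Z'; (4) there are an object Z' and a distinguished triangle (X, Y, Z ⊞ Z', f, g, h) with f
∈ S. (The further equivalences (5)–(7) for saturated S are not asserted.) -/
theorem result {D : Type u} [Category.{v} D] [Preadditive D] [HasZeroObject D] [HasShift D ℤ]
    [∀ n : ℤ, (shiftFunctor D n).Additive] [Pretriangulated D]
    (S : MorphismProperty D) [S.HasLeftCalculusOfFractions] [S.HasRightCalculusOfFractions]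
    [S.IsCompatibleWithTriangulation]
    {E : Type u'} [Category.{v'} E] (Q : D ⥤ E) [Q.IsLocalization S] (Z : D) :
    (IsZero (Q.obj Z) ↔ ∃ Z' : D, S (0 : Z ⟶ Z')) ∧
    (IsZero (Q.obj Z) ↔ ∃ Z' : D, S (0 : Z' ⟶ Z)) ∧
    (IsZero (Q.obj Z) ↔ ∃ (Z' X Y : D) (f : X ⟶ Y) (g : Y ⟶ Z ⊞ Z') (h : Z ⊞ Z' ⟶ (shiftFunctor D (1 : ℤ)).obj X),
      Triangle.mk f g h ∈ distinguishedTriangles ∧ S f) := by
  let : Preadditive E := Localization.preadditive Q S
  have : Q.Additive := Localization.functor_additive Q S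
  have h₁ : IsZero (Q.obj Z) ↔ ∃ Z' : D, S (0 : Z ⟶ Z') := by
    rw [IsZero.iff_id_eq_zero, ← Q.map_id, ← Q.map_zero Z Z, S.map_eq_iff_postcomp Q]
    constructor
    · rintro ⟨Z', s, hs, h⟩
      have : s = 0 := by simpa using h
      exact ⟨Z', this ▸ hs⟩
    · rintro ⟨Z', hs⟩
      exact ⟨Z', 0, hs, by simp⟩
  have h₂ : IsZero (Q.obj Z) ↔ ∃ Z' : D, S (0 : Z' ⟶ Z) := by
    rw [IsZero.iff_id_eq_zero, ← Q.map_id, ← Q.map_zero Z Z, S.map_eq_iff_precomp Q]
    constructor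
    · rintro ⟨Z', s, hs, h⟩
      have : s = 0 := by simpa using h
      exact ⟨Z', this ▸ hs⟩
    · rintro ⟨Z', hs⟩
      exact ⟨Z', 0, hs, by simp⟩
  refine ⟨h₁, h₂, fun hZ => ?_, ?_⟩
  · obtain ⟨Z₁, hs⟩ := h₂.1 hZ
    obtain ⟨Y, g, h, H⟩ := distinguished_cocone_triangle (0 : Z₁ ⟶ Z)
    obtain ⟨e, -, -⟩ := exists_iso_binaryBiproduct_of_distTriang _ (rot_of_distTriang _ H)
      (neg_eq_zero.2 ((shiftFunctor D (1 : ℤ)).map_zero _ _))
    exact ⟨Z₁⟦(1 : ℤ)⟧, Z₁, Z, 0, g ≫ e.hom, e.inv ≫ h,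
      isomorphic_distinguished _ H _ (Triangle.isoMk _ _ (Iso.refl _) (Iso.refl _) e.symm
        ((Category.comp_id _).trans (Category.id_comp _).symm)
        ((Category.assoc _ _ _).trans (((congrArg (g ≫ ·) e.hom_inv_id).trans (Category.comp_id _)).trans (Category.id_comp _).symm))
        ((by simp : (e.inv ≫ h) ≫ (𝟙 Z₁)⟦(1 : ℤ)⟧' = e.inv ≫ h))), hs⟩
  · rintro ⟨Z', X, Y, f, g, h, H, hf⟩
    let eq : S.Localization ≌ E := Localization.uniq S.Q Q S
    let iso : S.Q ⋙ eq.functor ≅ Q := Localization.compUniqFunctor S.Q Q S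
    have h0 : IsZero (S.Q.obj (Z ⊞ Z')) :=
      (Triangle.isZero₃_iff_isIso₁ _ (S.Q.map_distinguished _ H)).2
        (Localization.inverts S.Q S _ hf)
    have h' : IsZero (Q.obj (Z ⊞ Z')) := (eq.functor.map_isZero h0).of_iso (iso.app _).symm
    rw [IsZero.iff_id_eq_zero, ← Q.map_id, ← biprod.inl_fst (X := Z) (Y := Z'), Q.map_comp,
      h'.eq_of_tgt (Q.map biprod.inl) 0, zero_comp]

end Groth.Agent.S6603
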