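import Groth.Statements.S6607
import Mathlib.CategoryTheory.Triangulated.Orthogonal

set_option autoImplicit false
universe v u
open CategoryTheory CategoryTheory.Limits
open CohDer

namespace Groth.Agent.S6607

open CategoryTheory.Pretriangulated CategoryTheory.Limits
open scoped ZeroObject

open CategoryTheory.Pretriangulated in
/-- Let D be a triangulated category and B a full triangulated subcategory. Let P(X) be the property:
there is a distinguished triangle A → X → B → A⟦1⟧ with B in B and A in ^⊥B. Then P satisfies
two-out-of-three in distinguished triangles, i.e. it is stable under all shifts and closed under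
extensions (a triangulated object property). -/
theorem result {D : Type u} [Category.{v} D] [Preadditive D] [HasZeroObject D] [HasShift D ℤ]
    [∀ n : ℤ, (shiftFunctor D n).Additive] [Pretriangulated D] [IsTriangulated D]
    (B : ObjectProperty D) [B.IsTriangulated] :
    ObjectProperty.IsTriangulated (fun X : D => ∃ (A Y : D) (f : A ⟶ X) (g : X ⟶ Y) (h : Y ⟶ (shiftFunctor D (1 : ℤ)).obj A),
      Triangle.mk f g h ∈ distinguishedTriangles ∧ B Y ∧ B.leftOrthogonal A) := by
  suffices (B.leftOrthogonal.extensionProduct B).IsTriangulated by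
    have e : B.leftOrthogonal.extensionProduct B = (fun X : D => ∃ (A Y : D) (f : A ⟶ X) (g : X ⟶ Y) (h : Y ⟶ (shiftFunctor D (1 : ℤ)).obj A),
      Triangle.mk f g h ∈ distinguishedTriangles ∧ B Y ∧ B.leftOrthogonal A) := by
      ext X
      exact ⟨fun ⟨A, Y, f, g, h, hT, hA, hY⟩ => ⟨A, Y, f, g, h, hT, hY, hA⟩,
        fun ⟨A, Y, f, g, h, hT, hY, hA⟩ => ⟨A, Y, f, g, h, hT, hA, hY⟩⟩
    exact e ▸ this
  have hswap : B.extensionProduct B.leftOrthogonal ≤ B.leftOrthogonal.extensionProduct B := by
    rintro X ⟨Y, A, f, g, h, hT, hY, hA⟩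
    have h0 : h = 0 := hA h (B.le_shift 1 _ hY)
    obtain ⟨e, -, -⟩ := exists_iso_binaryBiproduct_of_distTriang _ hT h0
    exact (B.leftOrthogonal.extensionProduct B).prop_of_iso (biprod.braiding A Y ≪≫ e.symm)
      ⟨A, Y, _, _, _, binaryBiproductTriangle_distinguished A Y, hA, hY⟩
  have hB : B.extensionProduct B ≤ B.isoClosure := by
    rintro X ⟨Y, Z, f, g, h, hT, hY, hZ⟩
    exact B.ext_of_isTriangulatedClosed₂' _ hT hY hZ
  have hL : B.leftOrthogonal.extensionProduct B.leftOrthogonal ≤ B.leftOrthogonal := by
    rintro X ⟨Y, Z, f, g, h, hT, hY, hZ⟩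
    intro W u hW
    obtain ⟨v, rfl⟩ := Triangle.yoneda_exact₂ _ hT u (hY _ hW)
    rw [hZ v hW]
    exact comp_zero
  have hclosed : (B.leftOrthogonal.extensionProduct B).extensionProduct
      (B.leftOrthogonal.extensionProduct B) ≤ B.leftOrthogonal.extensionProduct B := by
    rw [ObjectProperty.extensionProduct_assoc,
      ← B.extensionProduct_assoc B.leftOrthogonal B]
    refine le_trans (ObjectProperty.monotone_extensionProduct_right _
      (ObjectProperty.monotone_extensionProduct_left _ hswap)) ?_
    rw [B.leftOrthogonal.extensionProduct_assoc B B, ← B.leftOrthogonal.extensionProduct_assoc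
      B.leftOrthogonal (B.extensionProduct B)]
    refine le_trans (ObjectProperty.monotone_extensionProduct_left _ hL) ?_
    refine le_trans (ObjectProperty.monotone_extensionProduct_right _ hB) ?_
    rw [ObjectProperty.extensionProduct_isoClosure_right]
  exact
    { exists_zero := ⟨0, isZero_zero D, 0, (B.exists_prop_of_containsZero).choose, 0, 0, 0,
        isomorphic_distinguished _ (contractible_distinguished (0 : D)) _
          (Triangle.isoMk _ _ (Iso.refl _) (Iso.refl _)
            (IsZero.iso (B.exists_prop_of_containsZero).choose_spec.1 (isZero_zero D))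
            ((isZero_zero D).eq_of_src _ _) ((isZero_zero D).eq_of_src _ _)
            ((B.exists_prop_of_containsZero).choose_spec.1.eq_of_src _ _)),
        fun _ u _ => (isZero_zero D).eq_of_src _ _,
        (B.exists_prop_of_containsZero).choose_spec.2⟩
      toIsStableUnderShift := inferInstance
      toIsTriangulatedClosed₂ := ObjectProperty.IsTriangulatedClosed₂.mk'
        fun T hT h₁ h₃ => hclosed _ ⟨T.obj₁, T.obj₃, T.mor₁, T.mor₂, T.mor₃, hT, h₁, h₃⟩ }

end Groth.Agent.S6607
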