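import Groth.Statements.S6608

set_option autoImplicit false
universe v u
open CategoryTheory CategoryTheory.Limits
open CohDer

namespace Groth.Agent.S6608

open scoped ZeroObject
open CategoryTheory.Pretriangulated CategoryTheory.Limits

open CategoryTheory.Pretriangulated in
/-- Let D be a pretriangulated category and S a set of arrows of D containing the identities and
satisfying MS6 (compatibility with the triangulated structure; here together with stability under
shifts, MS5). Then every isomorphism of D lies in S. -/
theorem result {D : Type u} [Category.{v} D] [Preadditive D] [HasZeroObject D] [HasShift D ℤ]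
    [∀ n : ℤ, (shiftFunctor D n).Additive] [Pretriangulated D]
    (S : MorphismProperty D) [S.ContainsIdentities] [S.IsCompatibleWithTriangulation]
    {X Y : D} (f : X ⟶ Y) [IsIso f] : S f := by
  obtain ⟨c, hc, h₁, -⟩ := MorphismProperty.IsCompatibleWithTriangulation.compatible_with_triangulation
    (W := S) (Triangle.mk (0 : (0 : D) ⟶ X) (𝟙 X) 0) (Triangle.mk (0 : (0 : D) ⟶ X) f 0)
    (contractible_distinguished₁ X)
    (isomorphic_distinguished _ (contractible_distinguished₁ X) _
      (Triangle.isoMk _ _ (Iso.refl _) (Iso.refl _) (asIso f).symm (zero_comp.trans comp_zero.symm) ((IsIso.hom_inv_id f).trans (Category.id_comp _).symm) (zero_comp.trans comp_zero.symm)))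
    (𝟙 _) (𝟙 _) (S.id_mem _) (S.id_mem _) ((Category.comp_id _).trans (Category.id_comp _).symm)
  have : c = f := by
    have h₁' : 𝟙 X ≫ c = 𝟙 X ≫ f := h₁
    exact (Category.id_comp c).symm.trans (h₁'.trans (Category.id_comp f))
  exact this ▸ hc

end Groth.Agent.S6608
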