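import Groth.Statements.S6612
import Mathlib.Tactic.Abel

set_option autoImplicit false
universe v u
open CategoryTheory CategoryTheory.Limits
open CohDer

namespace Groth.Agent.S6612

/-- Let A be an additive category and 0 → A₂ → B₂ → C₂ → 0 a termwise split exact sequence of complexes.
Given a chain map b from a complex B₁ into B₂ and a chain map b' from B₂ into a complex B₃, suppose
that both composites b ≫ (B₂ → C₂) and (A₂ → B₂) ≫ b' are null-homotopic. Then b ≫ b' is homotopic
to zero. (The published statement has three termwise split sequences Aᵢ → Bᵢ → Cᵢ and asks both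
squares of each diagram to commute up to homotopy; this row keeps only the middle sequence and the
two conditions at B₂ that the argument uses, so it is more general.) -/
theorem result {V : Type u} [Category.{v} V] [Preadditive V] [HasBinaryBiproducts V]
    (S : ShortComplex (CochainComplex V ℤ))
    (σ : ∀ n : ℤ, (S.map (HomologicalComplex.eval V (ComplexShape.up ℤ) n)).Splitting)
    {B₁ B₃ : CochainComplex V ℤ} (b : B₁ ⟶ S.X₂) (b' : S.X₂ ⟶ B₃)
    (hb : Nonempty (Homotopy (b ≫ S.g) 0)) (hb' : Nonempty (Homotopy (S.f ≫ b') 0)) :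
    Nonempty (Homotopy (b ≫ b') 0) := by
  obtain ⟨H⟩ := hb
  obtain ⟨H'⟩ := hb'
  obtain ⟨(r : ∀ n, S.X₂.X n ⟶ S.X₁.X n), hr₀⟩ : ∃ r, r = fun n => (σ n).r := ⟨_, rfl⟩
  obtain ⟨(s : ∀ n, S.X₃.X n ⟶ S.X₂.X n), hs₀⟩ : ∃ s, s = fun n => (σ n).s := ⟨_, rfl⟩
  have fr : ∀ n, S.f.f n ≫ r n = 𝟙 _ := fun n => by subst hr₀; exact (σ n).f_r
  have sg : ∀ n, s n ≫ S.g.f n = 𝟙 _ := fun n => by subst hs₀; exact (σ n).s_g
  have hid : ∀ n, r n ≫ S.f.f n + S.g.f n ≫ s n = 𝟙 _ := fun n => by
    subst hr₀ hs₀; exact (σ n).id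
  have hm : ∀ n, Mono (S.f.f n) := fun n => mono_of_mono_fac (fr n)
  let h : ∀ i j : ℤ, B₁.X i ⟶ S.X₂.X j := fun i j => H.hom i j ≫ s j
  have hh : ∀ i j, ¬ (ComplexShape.up ℤ).Rel j i → h i j = 0 := fun i j hij => by
    simp [h, H.zero i j hij]
  let N : B₁ ⟶ S.X₂ := Homotopy.nullHomotopicMap h
  have hN : N ≫ S.g = b ≫ S.g := by
    rw [Homotopy.nullHomotopicMap_comp]
    ext n
    have e := H.comm n
    rw [HomologicalComplex.zero_f, add_zero] at e
    rw [e]
    simp [Homotopy.nullHomotopicMap, h, sg]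
  have hz : ∀ n, (b - N).f n ≫ S.g.f n = 0 := fun n => by
    rw [← HomologicalComplex.comp_f, Preadditive.sub_comp, hN, sub_self, HomologicalComplex.zero_f]
  have hfac : ∀ n, ((b - N).f n ≫ r n) ≫ S.f.f n = (b - N).f n := fun n => by
    have e := (b - N).f n ≫= hid n
    rw [Preadditive.comp_add, reassoc_of% (hz n), zero_comp, add_zero, Category.comp_id] at e
    rw [Category.assoc, e]
  let c : B₁ ⟶ S.X₁ :=
    { f := fun n => (b - N).f n ≫ r n
      comm' := fun i j _ => by
        rw [← cancel_mono (S.f.f j)]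
        simp only [Category.assoc] at hfac ⊢
        rw [hfac j, ← HomologicalComplex.Hom.comm S.f, reassoc_of% (hfac i)]
        exact HomologicalComplex.Hom.comm _ _ _ }
  have hb₂ : b = c ≫ S.f + N := by
    ext n
    rw [HomologicalComplex.add_f_apply, HomologicalComplex.comp_f, hfac n,
      HomologicalComplex.sub_f_apply, sub_add_cancel]
  refine ⟨(Homotopy.ofEq ?_).trans (((H'.compLeft c).add
    ((Homotopy.nullHomotopy h hh).compRight b')).trans (Homotopy.ofEq ?_))⟩
  · rw [hb₂, Preadditive.add_comp, Category.assoc]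
  · simp

end Groth.Agent.S6612
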