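import Groth.Statements.S6613
import Mathlib.CategoryTheory.Localization.Equivalence

set_option autoImplicit false
universe v u v' u'
open CategoryTheory CategoryTheory.Limits
open CohDer

namespace Groth.Agent.S6613

open CategoryTheory CategoryTheory.Limits CategoryTheory.Pretriangulated

/-- Let D be a pretriangulated category, D' ⊂ D a full pretriangulated subcategory, S a saturated
multiplicative system of D compatible with the triangulated structure and Q : D → S⁻¹D the
localization. Assume every X in D admits some s : X' ⟶ X in S with X' in D'. Then, with S' = S ∩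
Arrows(D'), the functor (S')⁻¹D' → S⁻¹D is an equivalence; equivalently the composite D' → D → S⁻¹D
is a localization of D' at S'. (The published result additionally claims that the intersection S' =
S ∩ Arrows(D') forms a multiplicative system on D' which is saturated and respects the triangulated
structure of D'; this row asserts only the localization property.) -/
theorem result {D : Type u} [Category.{v} D] [Preadditive D] [HasZeroObject D] [HasShift D ℤ]
    [∀ n : ℤ, (shiftFunctor D n).Additive] [Pretriangulated D]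
    (P : ObjectProperty D) [P.IsTriangulated]
    (S : MorphismProperty D) [S.HasLeftCalculusOfFractions] [S.HasRightCalculusOfFractions] [S.IsCompatibleWithTriangulation]
    {E : Type u'} [Category.{v'} E] (Q : D ⥤ E) [Q.IsLocalization S]
    (hsat : ∀ {X Y : D} (f : X ⟶ Y), IsIso (Q.map f) → S f)
    (hP : ∀ X : D, ∃ (X' : D) (s : X' ⟶ X), P X' ∧ S s) :
    (P.ι ⋙ Q).IsLocalization (S.inverseImage P.ι) := by
  let W := S.inverseImage P.ι
  have : W.IsMultiplicative :=
    { id_mem := fun X => by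
        change S (P.ι.map (𝟙 X))
        rw [CategoryTheory.Functor.map_id]
        exact S.id_mem _
      comp_mem := fun f g hf hg => by
        change S (P.ι.map (f ≫ g))
        rw [Functor.map_comp]
        exact S.comp_mem _ _ hf hg }
  have : W.HasRightCalculusOfFractions :=
    { exists_rightFraction := fun {X Y} φ => by
        obtain ⟨@⟨X', s, hs, g⟩, hψ⟩ :=
          (MorphismProperty.LeftFraction.mk (P.ι.map φ.f) (P.ι.map φ.s) φ.hs).exists_rightFraction
        obtain ⟨X'', r, hX'', hr⟩ := hP X'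
        refine ⟨⟨ObjectProperty.homMk (X := (⟨X'', hX''⟩ : P.FullSubcategory)) (r ≫ s),
          S.comp_mem _ _ hr hs, ObjectProperty.homMk (X := (⟨X'', hX''⟩ : P.FullSubcategory)) (r ≫ g)⟩, ?_⟩
        apply P.ι.map_injective
        change (r ≫ s) ≫ P.ι.map φ.f = (r ≫ g) ≫ P.ι.map φ.s
        dsimp at hψ
        simp only [Category.assoc]
        exact congrArg (r ≫ ·) hψ
      ext := fun {X Y Y'} f₁ f₂ s hs h => by
        obtain ⟨X', t, ht, ht'⟩ := MorphismProperty.HasRightCalculusOfFractions.ext (P.ι.map f₁)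
          (P.ι.map f₂) (P.ι.map s) hs (by rw [← Functor.map_comp, ← Functor.map_comp, h])
        obtain ⟨X'', r, hX'', hr⟩ := hP X'
        refine ⟨⟨X'', hX''⟩, ObjectProperty.homMk (r ≫ t), S.comp_mem _ _ hr ht, ?_⟩
        apply P.ι.map_injective
        change (r ≫ t) ≫ P.ι.map f₁ = (r ≫ t) ≫ P.ι.map f₂
        rw [Category.assoc, Category.assoc, ht'] }
  have hinv : W.IsInvertedBy (P.ι ⋙ Q) := fun _ _ f hf => Localization.inverts Q S _ hf
  let G := Localization.lift (P.ι ⋙ Q) hinv W.Q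
  let e : W.Q ⋙ G ≅ P.ι ⋙ Q := Localization.fac _ hinv W.Q
  have := Localization.essSurj Q S
  have := Localization.essSurj W.Q W
  have : G.EssSurj := ⟨fun Y => by
    obtain ⟨X', s, hX', hs⟩ := hP (Q.objPreimage Y)
    exact ⟨W.Q.obj ⟨X', hX'⟩, ⟨e.app _ ≪≫ Localization.isoOfHom Q S s hs ≪≫ Q.objObjPreimageIso Y⟩⟩⟩
  have hzig : ∀ {X Y : P.FullSubcategory} (f g : X ⟶ Y),
      Q.map f.hom = Q.map g.hom → W.Q.map f = W.Q.map g := fun {X Y} f g h => by
    obtain ⟨Z, t, ht, ht'⟩ := (S.map_eq_iff_precomp Q f.hom g.hom).1 h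
    obtain ⟨Z', r, hZ', hr⟩ := hP Z
    refine (W.map_eq_iff_precomp W.Q f g).2
      ⟨⟨Z', hZ'⟩, ObjectProperty.homMk (r ≫ t), S.comp_mem _ _ hr ht, P.ι.map_injective ?_⟩
    change (r ≫ t) ≫ f.hom = (r ≫ t) ≫ g.hom
    rw [Category.assoc, Category.assoc, ht']
  have : G.Full := by
    refine ⟨fun {X' Y'} φ => ?_⟩
    obtain ⟨eX⟩ : Nonempty (W.Q.obj (W.Q.objPreimage X') ≅ X') := ⟨W.Q.objObjPreimageIso X'⟩
    obtain ⟨eY⟩ : Nonempty (W.Q.obj (W.Q.objPreimage Y') ≅ Y') := ⟨W.Q.objObjPreimageIso Y'⟩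
    let X := W.Q.objPreimage X'
    let Y := W.Q.objPreimage Y'
    let ψ : Q.obj X.obj ⟶ Q.obj Y.obj :=
      e.inv.app X ≫ G.map eX.hom ≫ φ ≫ G.map eY.inv ≫ e.hom.app Y
    obtain ⟨@⟨Z, s, hs, f⟩, hψ⟩ := Localization.exists_rightFraction Q S ψ
    obtain ⟨Z', r, hZ', hr⟩ := hP Z
    let Z₀ : P.FullSubcategory := ⟨Z', hZ'⟩
    let s' : Z₀ ⟶ X := ObjectProperty.homMk (r ≫ s)
    have hs' : W s' := S.comp_mem _ _ hr hs
    let f' : Z₀ ⟶ Y := ObjectProperty.homMk (r ≫ f)
    have hψ' : Q.map s'.hom ≫ ψ = Q.map f'.hom := by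
      change Q.map (r ≫ s) ≫ ψ = Q.map (r ≫ f)
      rw [Functor.map_comp, Functor.map_comp, Category.assoc, hψ]
      congr 1
      exact MorphismProperty.RightFraction.map_s_comp_map (MorphismProperty.RightFraction.mk s hs f)
        Q (Localization.inverts Q S)
    have := Localization.inverts W.Q W s' hs'
    have hnat : G.map (W.Q.map f') = e.hom.app Z₀ ≫ Q.map f'.hom ≫ e.inv.app Y := by
      have := e.hom.naturality f'
      dsimp at this
      rw [← reassoc_of% this, e.hom_inv_id_app]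
      exact (Category.comp_id _).symm
    have hnat' : G.map (W.Q.map s') = e.hom.app Z₀ ≫ Q.map s'.hom ≫ e.inv.app X := by
      have := e.hom.naturality s'
      dsimp at this
      rw [← reassoc_of% this, e.hom_inv_id_app]
      exact (Category.comp_id _).symm
    refine ⟨eX.inv ≫ inv (W.Q.map s') ≫ W.Q.map f' ≫ eY.hom, ?_⟩
    simp only [Functor.map_comp, Functor.map_inv]
    rw [← cancel_epi (G.map eX.hom), ← cancel_epi (G.map (W.Q.map s'))]
    simp only [← G.map_comp_assoc, eX.hom_inv_id, CategoryTheory.Functor.map_id, Category.id_comp]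
    simp only [Category.assoc, IsIso.hom_inv_id_assoc, Functor.map_comp]
    rw [hnat, hnat', ← hψ']
    simp [ψ]
    erw [Category.id_comp]
    simp
  have : G.Faithful := by
    refine ⟨fun {X' Y'} φ₁ φ₂ hφ => ?_⟩
    let X := W.Q.objPreimage X'
    let Y := W.Q.objPreimage Y'
    let eX := W.Q.objObjPreimageIso X'
    let eY := W.Q.objObjPreimageIso Y'
    rw [← cancel_epi eX.hom, ← cancel_mono eY.inv]
    obtain ⟨@⟨Z₁, s₁, hs₁, f₁⟩, h₁⟩ := Localization.exists_rightFraction W.Q W ((eX.hom ≫ φ₁) ≫ eY.inv)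
    have hs₁' := Localization.inverts W.Q W s₁ hs₁
    let α : W.Q.obj Z₁ ⟶ W.Q.obj Y := W.Q.map s₁ ≫ (eX.hom ≫ φ₂) ≫ eY.inv
    obtain ⟨@⟨Z₂, s₂, hs₂, f₂⟩, h₂⟩ := Localization.exists_rightFraction W.Q W α
    have hs₂' := Localization.inverts W.Q W s₂ hs₂
    have h₂' : W.Q.map s₂ ≫ α = W.Q.map f₂ := by
      rw [h₂]
      exact MorphismProperty.RightFraction.map_s_comp_map (MorphismProperty.RightFraction.mk s₂ hs₂ f₂)
        W.Q (Localization.inverts W.Q W)
    have h₁' : W.Q.map s₂ ≫ W.Q.map s₁ ≫ (eX.hom ≫ φ₁) ≫ eY.inv = W.Q.map (s₂ ≫ f₁) := by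
      rw [h₁, W.Q.map_comp]
      congr 1
      exact MorphismProperty.RightFraction.map_s_comp_map (MorphismProperty.RightFraction.mk s₁ hs₁ f₁)
        W.Q (Localization.inverts W.Q W)
    rw [← cancel_epi (W.Q.map s₁), ← cancel_epi (W.Q.map s₂), h₁']
    change _ = W.Q.map s₂ ≫ α
    rw [h₂']
    refine hzig _ _ ?_
    have hG : G.map (W.Q.map (s₂ ≫ f₁)) = G.map (W.Q.map f₂) := by
      rw [← h₁', ← h₂']
      simp only [α, Functor.map_comp, hφ]
    have n₁ := e.hom.naturality (s₂ ≫ f₁)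
    have n₂ := e.hom.naturality f₂
    have : e.hom.app Z₂ ≫ (P.ι ⋙ Q).map (s₂ ≫ f₁) = e.hom.app Z₂ ≫ (P.ι ⋙ Q).map f₂ := by
      rw [← n₁, ← n₂]
      exact congrArg (· ≫ e.hom.app Y) hG
    exact (cancel_epi (e.hom.app Z₂)).1 this
  have : G.IsEquivalence := { }
  exact Functor.IsLocalization.of_equivalence_target W.Q W (P.ι ⋙ Q) G.asEquivalence e

end Groth.Agent.S6613
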