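import Groth.Statements.S6615
import Groth.Agent.H16Derived.EssConst

set_option autoImplicit false
universe v u
open CategoryTheory CategoryTheory.Limits Opposite
open CohDer

namespace Groth.Agent.S6615

open Groth.Agent.H16Derived.EssConst

open CategoryTheory.Pretriangulated in
/-- Essential constancy of the middle system: in a triangulated category D, take an ℕ-indexed inverse
system of distinguished triangles with vertices A_n, B_n, C_n. When (A_n) and (C_n) are both
essentially constant, the middle system (B_n) is too. (The published statement also says the values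
fit in a distinguished triangle receiving a map of triangles from some level; this row asserts only
the essential constancy of the middle system.) -/
theorem result {D : Type u} [Category.{v} D] [Preadditive D] [HasZeroObject D] [HasShift D ℤ]
    [∀ n : ℤ, (shiftFunctor D n).Additive] [Pretriangulated D] [IsTriangulated D]
    (X Y Z : ARSys.PS D) (f : X ⟶ Y) (g : Y ⟶ Z) (h : Z ⟶ X ⋙ shiftFunctor D (1 : ℤ))
    (hT : ∀ n : ℕ, Triangle.mk (f.app (op n)) (g.app (op n)) (h.app (op n)) ∈ distinguishedTriangles)
    (hX : ∃ (A : D) (cA : (Functor.const ℕᵒᵖ).obj A ⟶ X), DerCA.IsEssConstant X A cA)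
    (hZ : ∃ (C : D) (cC : (Functor.const ℕᵒᵖ).obj C ⟶ Z), DerCA.IsEssConstant Z C cC) :
    ∃ (B : D) (cB : (Functor.const ℕᵒᵖ).obj B ⟶ Y), DerCA.IsEssConstant Y B cB := by
  obtain ⟨A, cA, hA⟩ := hX
  obtain ⟨C, cC, hC⟩ := hZ
  obtain ⟨VA, -⟩ := exists_val hA
  obtain ⟨VC, -⟩ := exists_val hC
  exact middle f g h hT VA VC

end Groth.Agent.S6615
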