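import Groth.Statements.S6616
import Groth.Agent.H16Derived.Res.TruncSystem

set_option autoImplicit false
universe v u
open CategoryTheory CategoryTheory.Limits
open CohDer

set_option linter.style.haveILetI false
namespace Groth.Agent.S6616

open Groth.Agent.H16Derived.Res ZeroObject

private theorem exists_system {A : Type u} [Category.{v} A] [Abelian A] (I : ObjectProperty A)
    [I.IsClosedUnderIsomorphisms] (hI0 : ∃ Z : A, IsZero Z ∧ I Z)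
    (hIprod : ∀ X Y : A, I X → I Y → I (X ⊞ Y))
    (hI : ∀ X : A, ∃ (Y : A) (ι : X ⟶ Y), I Y ∧ Mono ι) (T : ℕ → CochainComplex A ℤ)
    (hT : ∀ n, ∃ a : ℤ, (T n).IsStrictlyGE a) (q : ∀ n, T (n + 1) ⟶ T n) :
    ∃ (Q : ℕ → CochainComplex A ℤ) (p : ∀ n, Q (n + 1) ⟶ Q n) (π : ∀ n : ℕ, T n ⟶ Q n),
      (∀ n, QuasiIso (π n) ∧ ∀ i, Mono ((π n).f i)) ∧
      (∀ n, ∃ a : ℤ, (Q n).IsStrictlyGE a) ∧ (∀ n i, I ((Q n).X i)) ∧
      (∀ n i, (∃ s : (Q n).X i ⟶ (Q (n + 1)).X i, s ≫ (p n).f i = 𝟙 _) ∧ I (kernel ((p n).f i))) ∧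
      (∀ n, π (n + 1) ≫ p n = q n ≫ π n) := by
  let R : ℕ → Type (max u v) := fun n =>
    {x : (Q : CochainComplex A ℤ) × (T n ⟶ Q) //
      QuasiIso x.2 ∧ (∀ i, Mono (x.2.f i)) ∧ (∃ a : ℤ, x.1.IsStrictlyGE a) ∧ ∀ i, I (x.1.X i)}
  have fac : ∀ (S Q₀ : CochainComplex A ℤ), (∃ a : ℤ, S.IsStrictlyGE a) →
      (∃ a : ℤ, Q₀.IsStrictlyGE a) → (∀ i, I (Q₀.X i)) → ∀ φ : S ⟶ Q₀,
      ∃ (M : CochainComplex A ℤ) (π : S ⟶ M) (p : M ⟶ Q₀), π ≫ p = φ ∧ QuasiIso π ∧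
      (∀ i, Mono (π.f i)) ∧ (∃ b : ℤ, M.IsStrictlyGE b) ∧ (∀ i, I (M.X i)) ∧
      ∀ i, (∃ s : Q₀.X i ⟶ M.X i, s ≫ p.f i = 𝟙 _) ∧ I (kernel (p.f i)) := by
    intro S Q₀ ⟨a, ha⟩ ⟨b, hb⟩ hQ φ
    haveI : S.IsStrictlyGE (min a b) := S.isStrictlyGE_of_ge (min a b) a (min_le_left _ _)
    haveI : Q₀.IsStrictlyGE (min a b) := Q₀.isStrictlyGE_of_ge (min a b) b (min_le_right _ _)
    exact exists_factor I hI0 hIprod hI (min a b) S Q₀ hQ φ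
  obtain ⟨Z, hZ, hIZ⟩ := hI0
  have h0 : ∀ i, IsZero ((0 : CochainComplex A ℤ).X i) := fun i =>
    (HomologicalComplex.eval A (ComplexShape.up ℤ) i).map_isZero (isZero_zero _)
  have base : Nonempty (R 0) := by
    obtain ⟨M, π, p, -, h₁, h₂, h₃, h₄, -⟩ := fac (T 0) 0 (hT 0)
      ⟨0, (CochainComplex.isStrictlyGE_iff _ 0).2 fun i _ => h0 i⟩
      (fun i => I.prop_of_iso (hZ.iso (h0 i)) hIZ) 0
    exact ⟨⟨⟨M, π⟩, h₁, h₂, h₃, h₄⟩⟩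
  have step : ∀ n (x : R n), ∃ (y : R (n + 1)) (p : y.1.1 ⟶ x.1.1), y.1.2 ≫ p = q n ≫ x.1.2 ∧
      ∀ i, (∃ s : x.1.1.X i ⟶ y.1.1.X i, s ≫ p.f i = 𝟙 _) ∧ I (kernel (p.f i)) := by
    intro n x
    obtain ⟨M, π, p, h₀, h₁, h₂, h₃, h₄, h₅⟩ := fac (T (n + 1)) x.1.1 (hT _) x.2.2.2.1 x.2.2.2.2
      (q n ≫ x.1.2)
    exact ⟨⟨⟨M, π⟩, h₁, h₂, h₃, h₄⟩, p, h₀, h₅⟩
  choose next p hp hs using step
  let x : ∀ n, R n := fun n => Nat.rec base.some next n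
  exact ⟨fun n => (x n).1.1, fun n => p n (x n), fun n => (x n).1.2,
    fun n => ⟨(x n).2.1, (x n).2.2.1⟩, fun n => (x n).2.2.2.1, fun n => (x n).2.2.2.2,
    fun n => hs n (x n), fun n => hp n (x n)⟩

/-- Let I be a class of objects of an abelian category, closed under isomorphisms, containing 0, closed
under binary products, and such that every object is a subobject of an object of I. For any cochain
complex K there are bounded below complexes Iₙ (n ≥ 0) with terms in I, termwise injective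
quasi-isomorphisms πₙ : τ_{≥ -n}K ⟶ Iₙ and termwise split surjections pₙ : Iₙ₊₁ ⟶ Iₙ with termwise
kernels in I, such that K ⟶ τ_{≥ -(n+1)}K ⟶ Iₙ₊₁ ⟶ Iₙ equals K ⟶ τ_{≥ -n}K ⟶ Iₙ. (The published
system starts at τ_{≥ -1}K; this row starts at n = 0 with τ_{≥ 0}K. Closure of I under isomorphisms
is assumed so that closure under binary products has a meaning for a class of objects.) -/
theorem result {A : Type u} [Category.{v} A] [Abelian A] (I : ObjectProperty A) [I.IsClosedUnderIsomorphisms]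
    (hI0 : ∃ Z : A, IsZero Z ∧ I Z) (hIprod : ∀ X Y : A, I X → I Y → I (X ⊞ Y))
    (hI : ∀ X : A, ∃ (Y : A) (ι : X ⟶ Y), I Y ∧ Mono ι) (K : CochainComplex A ℤ) :
    ∃ (Q : ℕ → CochainComplex A ℤ) (p : ∀ n, Q (n + 1) ⟶ Q n) (π : ∀ n : ℕ, K.truncGE (-(n : ℤ)) ⟶ Q n),
      (∀ n, QuasiIso (π n) ∧ ∀ i, Mono ((π n).f i)) ∧
      (∀ n, ∃ a : ℤ, (Q n).IsStrictlyGE a) ∧ (∀ n i, I ((Q n).X i)) ∧
      (∀ n i, (∃ s : (Q n).X i ⟶ (Q (n + 1)).X i, s ≫ (p n).f i = 𝟙 _) ∧ I (kernel ((p n).f i))) ∧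
      (∀ n : ℕ, K.πTruncGE (-((n + 1 : ℕ) : ℤ)) ≫ π (n + 1) ≫ p n = K.πTruncGE (-(n : ℤ)) ≫ π n) := by
  choose q hq using fun n : ℕ =>
    exists_truncGE_desc K (-((n + 1 : ℕ) : ℤ)) (-(n : ℤ)) (by omega)
  obtain ⟨Q, p, π, h₁, h₂, h₃, h₄, h₅⟩ := exists_system I hI0 hIprod hI
    (fun n : ℕ => K.truncGE (-(n : ℤ))) (fun n => ⟨-(n : ℤ), inferInstance⟩) q
  exact ⟨Q, p, π, h₁, h₂, h₃, h₄, fun n => by rw [h₅ n, reassoc_of% (hq n)]⟩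

end Groth.Agent.S6616
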