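import Groth.Statements.S6617
import Groth.Agent.H16Derived.TermwiseSplit

set_option autoImplicit false
universe v u
open CategoryTheory CategoryTheory.Limits
open CohDer

namespace Groth.Agent.S6617

/-- Let A be an additive category and A₀ → A₁ → A₂ → … a sequence of composable morphisms of complexes.
There are complexes Bᵢ, homotopy equivalences Bᵢ ⟶ Aᵢ and termwise split injections Bᵢ ⟶ Bᵢ₊₁
forming a commutative ladder over the given sequence. Moreover if all Aᵢ are bounded below, resp.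
bounded above, then the Bᵢ may be chosen bounded below, resp. bounded above. (The published
statement is for finite sequences A₁ → … → A_n; this row takes a sequence indexed by ℕ, built by the
same step-by-step construction.) -/
theorem result {V : Type u} [Category.{v} V] [Preadditive V] [HasBinaryBiproducts V] [HasZeroObject V]
    (X : ℕ → CochainComplex V ℤ) (a : ∀ i, X i ⟶ X (i + 1)) :
    ∃ (B : ℕ → CochainComplex V ℤ) (b : ∀ i, B i ⟶ B (i + 1)) (e : ∀ i, HomotopyEquiv (B i) (X i)),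
      (∀ i, b i ≫ (e (i + 1)).hom = (e i).hom ≫ a i) ∧
      (∀ (i : ℕ) (n : ℤ), ∃ (C : V) (ε : (B (i + 1)).X n ≅ (B i).X n ⊞ C), (b i).f n ≫ ε.hom = biprod.inl) ∧
      ((∀ i, ∃ m : ℤ, (X i).IsStrictlyGE m) → ∀ i, ∃ m : ℤ, (B i).IsStrictlyGE m) ∧
      ((∀ i, ∃ m : ℤ, (X i).IsStrictlyLE m) → ∀ i, ∃ m : ℤ, (B i).IsStrictlyLE m) := by
  have step : ∀ (i : ℕ) (B : CochainComplex V ℤ) (e : HomotopyEquiv B (X i)),
      ∃ (B' : CochainComplex V ℤ) (b : B ⟶ B') (e' : HomotopyEquiv B' (X (i + 1))),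
        b ≫ e'.hom = e.hom ≫ a i ∧
        (∀ n : ℤ, ∃ (C : V) (ε : B'.X n ≅ B.X n ⊞ C), b.f n ≫ ε.hom = biprod.inl) ∧
        ((∃ m : ℤ, B.IsStrictlyGE m) → (∃ m : ℤ, (X (i + 1)).IsStrictlyGE m) →
          ∃ m : ℤ, B'.IsStrictlyGE m) ∧
        ((∃ m : ℤ, B.IsStrictlyLE m) → (∃ m : ℤ, (X (i + 1)).IsStrictlyLE m) →
          ∃ m : ℤ, B'.IsStrictlyLE m) := by
    intro i B e
    obtain ⟨L', α', π, s, h₁, h₂, ⟨h₃⟩, h₄, h₅, h₆⟩ :=
      Groth.Agent.H16Derived.TermwiseSplit.exists_injective_factorization B _ (e.hom ≫ a i)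
    refine ⟨L', α', ⟨π, s, h₃, Homotopy.ofEq h₂⟩, h₁, h₄, ?_, ?_⟩
    · rintro ⟨m, hm⟩ ⟨m', hm'⟩
      exact ⟨_, h₅ (min m m')
        (CochainComplex.isStrictlyGE_of_ge B _ m (min_le_left _ _))
        (CochainComplex.isStrictlyGE_of_ge (X (i + 1)) _ m' (min_le_right _ _))⟩
    · rintro ⟨m, hm⟩ ⟨m', hm'⟩
      exact ⟨_, h₆ (max m m')
        (CochainComplex.isStrictlyLE_of_le B m _ (le_max_left _ _))
        (CochainComplex.isStrictlyLE_of_le (X (i + 1)) m' _ (le_max_right _ _))⟩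
  choose B' b' e' h₁ h₂ h₃ h₄ using step
  let T : ∀ i, Σ' B : CochainComplex V ℤ, HomotopyEquiv B (X i) := fun i =>
    Nat.rec (motive := fun i => Σ' B : CochainComplex V ℤ, HomotopyEquiv B (X i))
      ⟨X 0, HomotopyEquiv.refl _⟩ (fun i p => ⟨B' i p.1 p.2, e' i p.1 p.2⟩) i
  refine ⟨fun i => (T i).1, fun i => b' i _ (T i).2, fun i => (T i).2, fun i => h₁ i _ _,
    fun i n => h₂ i _ _ n, fun hX i => ?_, fun hX i => ?_⟩
  · induction i with
    | zero => exact hX 0
    | succ i ih => exact h₃ i _ _ ih (hX _)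
  · induction i with
    | zero => exact hX 0
    | succ i ih => exact h₄ i _ _ ih (hX _)

end Groth.Agent.S6617
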