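import Groth.Statements.S6618
import Mathlib.Algebra.Homology.ShortComplex.ExactFunctor
import Mathlib.Tactic.Abel
import Mathlib.CategoryTheory.Abelian.Refinements

set_option autoImplicit false
universe v v' u u'
open CategoryTheory CategoryTheory.Limits
open CohDer

namespace Groth.Agent.S6618

section
variable {A : Type u} [Category.{v} A] [Abelian A] [EnoughInjectives A]
  {B : Type u'} [Category.{v'} B] [Abelian B] (F : A ⥤ B) [F.Additive]

instance additive_rightDerived_zero : (F.rightDerived 0).Additive where
  map_add {X Y} {f g} := by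
    let I := injectiveResolution X
    let J := injectiveResolution Y
    rw [← cancel_mono (J.isoRightDerivedObj F 0).hom, Preadditive.add_comp,
      InjectiveResolution.isoRightDerivedObj_hom_naturality f I J (InjectiveResolution.desc f J I)
        (InjectiveResolution.desc_commutes_zero _ _ _) F 0,
      InjectiveResolution.isoRightDerivedObj_hom_naturality g I J (InjectiveResolution.desc g J I)
        (InjectiveResolution.desc_commutes_zero _ _ _) F 0,
      InjectiveResolution.isoRightDerivedObj_hom_naturality (f + g) I J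
        (InjectiveResolution.desc f J I + InjectiveResolution.desc g J I)
        ((Preadditive.comp_add _ _ _ _ _ _).trans ((congrArg₂ (· + ·)
          (InjectiveResolution.desc_commutes_zero f J I)
          (InjectiveResolution.desc_commutes_zero g J I)).trans
            (Preadditive.add_comp _ _ _ _ _ _).symm)) F 0,
      ← Preadditive.comp_add, ← Functor.map_add]

/-- The zeroth derived functor sees a resolution as a kernel. -/
lemma resolution_lift {X : A} (I : InjectiveResolution X) :
    Mono ((F.rightDerived 0).map (I.ι.f 0)) ∧ ∀ ⦃W : B⦄ (y : W ⟶ (F.rightDerived 0).obj (I.cocomplex.X 0)),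
      y ≫ (F.rightDerived 0).map (I.cocomplex.d 0 1) = 0 →
        ∃ z, z ≫ (F.rightDerived 0).map (I.ι.f 0) = y := by
  have hI0 : Injective (I.cocomplex.X 0) := I.injective 0
  have hI1 : Injective (I.cocomplex.X 1) := I.injective 1
  let J := InjectiveResolution.self (I.cocomplex.X 0)
  let φ : I.cocomplex ⟶ J.cocomplex :=
    (CochainComplex.toSingle₀Equiv I.cocomplex (I.cocomplex.X 0)).symm (𝟙 _)
  have hφ0 : φ.f 0 = 𝟙 _ := CochainComplex.toSingle₀Equiv_symm_apply_f_zero _
  have comm : I.ι.f 0 ≫ φ.f 0 = I.ι.f 0 ≫ J.ι.f 0 := by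
    rw [hφ0]; rfl
  let Fφ := (F.mapHomologicalComplex (ComplexShape.up ℕ)).map φ
  have hcyc : Mono (HomologicalComplex.cyclesMap Fφ 0) := by
    have h : Mono (HomologicalComplex.cyclesMap Fφ 0 ≫ HomologicalComplex.iCycles _ 0) := by
      rw [HomologicalComplex.cyclesMap_i]
      have : Fφ.f 0 = 𝟙 _ := by
        change F.map (φ.f 0) = _
        rw [hφ0]; exact F.map_id _
      rw [this]
      exact mono_comp (HomologicalComplex.iCycles _ 0) (𝟙 _)
    exact mono_of_mono _ (HomologicalComplex.iCycles _ 0)
  have hnat := InjectiveResolution.isoRightDerivedObj_inv_naturality (I.ι.f 0) I J φ comm F 0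
  constructor
  · have hH : Mono (HomologicalComplex.homologyMap Fφ 0) := by
      have h : HomologicalComplex.homologyMap Fφ 0 = (CochainComplex.isoHomologyπ₀ _).inv ≫
          HomologicalComplex.cyclesMap Fφ 0 ≫ (CochainComplex.isoHomologyπ₀ _).hom := by
        rw [← reassoc_of% CochainComplex.isoHomologyπ₀_inv_naturality Fφ, Iso.inv_hom_id,
          Category.comp_id]
      rw [h]
      infer_instance
    have h : Mono ((I.isoRightDerivedObj F 0).inv ≫ (F.rightDerived 0).map (I.ι.f 0)) := by
      erw [hnat]
      exact mono_comp (HomologicalComplex.homologyMap Fφ 0) _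
    have := mono_comp (I.isoRightDerivedObj F 0).hom
      ((I.isoRightDerivedObj F 0).inv ≫ (F.rightDerived 0).map (I.ι.f 0))
    rwa [Iso.hom_inv_id_assoc] at this
  · intro W y hy
    let y' := y ≫ inv (F.toRightDerivedZero.app (I.cocomplex.X 0))
    have hy' : y' ≫ F.map (I.cocomplex.d 0 1) = 0 := by
      rw [← cancel_mono (F.toRightDerivedZero.app (I.cocomplex.X 1)), Category.assoc,
        F.toRightDerivedZero.naturality, zero_comp]
      simpa [y'] using hy
    let w := ((F.mapHomologicalComplex (ComplexShape.up ℕ)).obj I.cocomplex).liftCycles y' 1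
      (by simp) hy'
    have hw : w ≫ HomologicalComplex.cyclesMap Fφ 0 = y' ≫ J.toRightDerivedZero' F := by
      rw [← cancel_mono (HomologicalComplex.iCycles _ 0), Category.assoc,
        HomologicalComplex.cyclesMap_i, Category.assoc,
        InjectiveResolution.toRightDerivedZero'_comp_iCycles, HomologicalComplex.liftCycles_i_assoc]
      change y' ≫ F.map (φ.f 0) = y' ≫ F.map (J.ι.f 0)
      rw [hφ0]
      rfl
    refine ⟨w ≫ HomologicalComplex.homologyπ _ 0 ≫ (I.isoRightDerivedObj F 0).inv, ?_⟩
    calc (w ≫ HomologicalComplex.homologyπ _ 0 ≫ (I.isoRightDerivedObj F 0).inv) ≫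
          (F.rightDerived 0).map (I.ι.f 0)
        = w ≫ HomologicalComplex.homologyπ _ 0 ≫ HomologicalComplex.homologyMap Fφ 0 ≫
            (J.isoRightDerivedObj F 0).inv := by
          rw [Category.assoc, Category.assoc]
          exact congrArg (fun q => w ≫ HomologicalComplex.homologyπ _ 0 ≫ q) hnat
      _ = y' ≫ J.toRightDerivedZero' F ≫ HomologicalComplex.homologyπ _ 0 ≫
            (J.isoRightDerivedObj F 0).inv := by
          rw [HomologicalComplex.homologyπ_naturality_assoc, reassoc_of% hw]
      _ = y' ≫ F.toRightDerivedZero.app (I.cocomplex.X 0) := by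
          rw [J.toRightDerivedZero_eq F]; rfl
      _ = y := by simp [y']

lemma mono_rightDerived_zero {X Y : A} (f : X ⟶ Y) [Mono f] : Mono ((F.rightDerived 0).map f) := by
  let I := injectiveResolution X
  have := (resolution_lift F I).1
  have : Injective (I.cocomplex.X 0) := I.injective 0
  let e : X ⟶ I.cocomplex.X 0 := I.ι.f 0
  let t : Y ⟶ I.cocomplex.X 0 := Injective.factorThru e f
  have h : Mono ((F.rightDerived 0).map f ≫ (F.rightDerived 0).map t) := by
    rw [← Functor.map_comp, Injective.comp_factorThru]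
    exact (resolution_lift F I).1
  exact mono_of_mono _ ((F.rightDerived 0).map t)

lemma copresentation_lift (S : ShortComplex A) (hS : S.Exact) [Mono S.f] [Injective S.X₂]
    [Injective S.X₃] {W : B} (y : W ⟶ (F.rightDerived 0).obj S.X₂)
    (hy : y ≫ (F.rightDerived 0).map S.g = 0) :
    ∃ z, z ≫ (F.rightDerived 0).map S.f = y := by
  let I := injectiveResolution S.X₁
  have hI0 : Injective (I.cocomplex.X 0) := I.injective 0
  have hI1 : Injective (I.cocomplex.X 1) := I.injective 1
  let e : S.X₁ ⟶ I.cocomplex.X 0 := I.ι.f 0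
  have : Mono e := inferInstanceAs (Mono (I.ι.f 0))
  let t : S.X₂ ⟶ I.cocomplex.X 0 := Injective.factorThru e S.f
  let t' : I.cocomplex.X 0 ⟶ S.X₂ := Injective.factorThru S.f e
  have ht : S.f ≫ t = e := Injective.comp_factorThru _ _
  have ht' : e ≫ t' = S.f := Injective.comp_factorThru _ _
  have hd : S.f ≫ t ≫ I.cocomplex.d 0 1 = 0 := by
    rw [reassoc_of% ht]; exact I.ι_f_zero_comp_complex_d
  have key : ∀ {Z : A} (r : S.X₂ ⟶ Z) [Injective Z], S.f ≫ r = 0 →
      y ≫ (F.rightDerived 0).map r = 0 := by
    intro Z r _ hr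
    rw [← hS.comp_descToInjective r hr, Functor.map_comp, reassoc_of% hy, zero_comp]
  obtain ⟨z, hz⟩ := (resolution_lift F I).2 (y ≫ (F.rightDerived 0).map t) (by
    rw [Category.assoc, ← Functor.map_comp]
    exact key _ hd)
  refine ⟨z, ?_⟩
  have h₁ := key (t ≫ t' - 𝟙 _) (by
    rw [Preadditive.comp_sub, reassoc_of% ht, ht', Category.comp_id, sub_self])
  rw [Functor.map_sub, CategoryTheory.Functor.map_id, Preadditive.comp_sub, Category.comp_id, sub_eq_zero,
    Functor.map_comp, reassoc_of% hz.symm, ← Functor.map_comp] at h₁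
  rw [← h₁]
  exact congrArg (z ≫ (F.rightDerived 0).map ·) ht'.symm

lemma preservesFiniteLimits_rightDerived_zero : PreservesFiniteLimits (F.rightDerived 0) := by
  refine ((Functor.preservesFiniteLimits_tfae (F.rightDerived 0)).out 0 3).1 fun S hS => ?_
  have := hS.mono_f
  have := hS.epi_g
  have hmono := mono_rightDerived_zero F S.f
  refine ⟨?_, hmono⟩
  rw [ShortComplex.exact_iff_exact_up_to_refinements]
  intro W (y : W ⟶ (F.rightDerived 0).obj S.X₂) (hy : y ≫ (F.rightDerived 0).map S.g = 0)
  let q : S.X₂ ⟶ Injective.under S.X₂ := Injective.ι S.X₂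
  let u : Injective.under S.X₂ ⟶ Injective.under (cokernel (S.f ≫ q)) :=
    cokernel.π (S.f ≫ q) ≫ Injective.ι _
  have hfu : (S.f ≫ q) ≫ u = 0 := by simp [u]
  have hT : (ShortComplex.mk (S.f ≫ q) u hfu).Exact := by
    rw [ShortComplex.exact_iff_exact_up_to_refinements]
    intro V x hx
    have h : (x ≫ cokernel.π (S.f ≫ q)) ≫ Injective.ι (cokernel (S.f ≫ q)) = 0 ≫ Injective.ι _ := by
      simpa [u] using hx
    rw [cancel_mono] at h
    exact (ShortComplex.exact_cokernel (S.f ≫ q)).exact_up_to_refinements x h
  obtain ⟨w, hw⟩ : ∃ w, S.g ≫ w = q ≫ u :=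
    ⟨hS.exact.desc (q ≫ u) ((Category.assoc _ _ _).symm.trans hfu), hS.exact.g_desc _ _⟩
  obtain ⟨(z : W ⟶ (F.rightDerived 0).obj S.X₁), (hz : z ≫ (F.rightDerived 0).map (S.f ≫ q) = y ≫ (F.rightDerived 0).map q)⟩ :=
    copresentation_lift F (ShortComplex.mk (S.f ≫ q) u hfu) hT (y ≫ (F.rightDerived 0).map q) (by
      change (y ≫ (F.rightDerived 0).map q) ≫ (F.rightDerived 0).map u = 0
      rw [Category.assoc, ← Functor.map_comp, ← hw, Functor.map_comp]
      rw [reassoc_of% hy, zero_comp])
  have := mono_rightDerived_zero F q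
  refine ⟨W, 𝟙 W, inferInstance, z, ?_⟩
  change 𝟙 W ≫ y = z ≫ (F.rightDerived 0).map S.f
  rw [← cancel_mono ((F.rightDerived 0).map q), Category.id_comp, ← hz, Functor.map_comp,
    Category.assoc]

end

/-- Part (2): (3), in the case where A has enough injectives: let F : A ⥤ B be an additive functor
between abelian categories, A with enough injectives. Then R⁰F is left exact; moreover, F itself is
left exact exactly when the canonical comparison morphism from F to R⁰F is invertible. -/
theorem result {A : Type u} [Category.{v} A] [Abelian A] [EnoughInjectives A]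
    {B : Type u'} [Category.{v'} B] [Abelian B] (F : A ⥤ B) [F.Additive] :
    PreservesFiniteLimits (F.rightDerived 0) ∧ (IsIso F.toRightDerivedZero ↔ PreservesFiniteLimits F) := by
  refine ⟨preservesFiniteLimits_rightDerived_zero F, fun h => ?_, fun h => inferInstance⟩
  have := preservesFiniteLimits_rightDerived_zero F
  exact preservesFiniteLimits_of_natIso (asIso F.toRightDerivedZero).symm

end Groth.Agent.S6618
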