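import Groth.Statements.S6620

set_option autoImplicit false
universe w w' v v' u u'
open CategoryTheory CategoryTheory.Limits
open CohDer

namespace Groth.Agent.S6620

open CategoryTheory.Triangulated

/-- Part (1): in the case where A has enough injectives (so that RF is defined on all of D⁺(A)): let F :
A ⥤ B be an additive functor between abelian categories, A with enough injectives, and K ∈ D⁺(A)
with Hⁱ(K) = 0 for i < a. Then Hⁱ(RF(K)) = 0 for i < a. -/
theorem result {A : Type u} [Category.{v} A] [Abelian A] [HasDerivedCategory.{w} A] [EnoughInjectives A]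
    {B : Type u'} [Category.{v'} B] [Abelian B] [HasDerivedCategory.{w'} B]
    (F : A ⥤ B) [F.Additive] (K : DerivedCategory.Plus A) (a : ℤ) [K.IsGE a] :
    (F.rightDerivedFunctorPlus.obj K).IsGE a := by
  obtain ⟨M, hM, ⟨e⟩⟩ := DerivedCategory.Plus.exists_injective_nonempty_iso K a
  let M' : CochainComplex.Plus A := (InjectiveObject.ι A).mapCochainComplexPlus.obj M
  have hM' : M'.obj.IsStrictlyGE a := by
    change CochainComplex.IsStrictlyGE (((InjectiveObject.ι A).mapHomologicalComplex (.up ℤ)).obj M.obj) a
    rw [CochainComplex.isStrictlyGE_mapHomologicalComplex_obj_iff]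
    exact hM
  let X := (HomotopyCategory.Plus.quotient A).obj M'
  have hinj : ∀ n, Injective (X.obj.as.X n) := fun n => (M.obj.X n).property
  let e₁ : (F.mapHomotopyCategoryPlus ⋙ DerivedCategory.Plus.Qh).obj X ≅
      F.rightDerivedFunctorPlus.obj K :=
    asIso (F.rightDerivedFunctorPlusUnit.app X) ≪≫ F.rightDerivedFunctorPlus.mapIso e
  rw [← DerivedCategory.Plus.isGE_ι_obj_iff]
  let C : CochainComplex B ℤ := (F.mapHomologicalComplex (ComplexShape.up ℤ)).obj M'.obj
  have hC : C.IsStrictlyGE a := by
    rw [CochainComplex.isStrictlyGE_iff]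
    exact fun i hi => F.map_isZero (CochainComplex.isZero_of_isStrictlyGE M'.obj a i hi)
  have h : (DerivedCategory.Q.obj C).IsGE a := inferInstance
  have h' : (DerivedCategory.Plus.ι.obj
      ((F.mapHomotopyCategoryPlus ⋙ DerivedCategory.Plus.Qh).obj X)).IsGE a :=
    DerivedCategory.TStructure.t.isGE_of_iso (DerivedCategory.quotientCompQhIso B |>.app C).symm a
  exact DerivedCategory.TStructure.t.isGE_of_iso (DerivedCategory.Plus.ι.mapIso e₁) a

end Groth.Agent.S6620
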