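import Groth.Statements.S6621

set_option autoImplicit false
universe v u v' u'
open CategoryTheory CategoryTheory.Limits
open CohDer

namespace Groth.Agent.S6621

open scoped ZeroObject
open CategoryTheory.Pretriangulated CategoryTheory.Limits

/-- Let D be a triangulated category, S a multiplicative system compatible with the triangulated
structure, Q : D → S⁻¹D the localization and B(S) = Ker(Q) the full subcategory of objects Z with
Q(Z) = 0. Then the multiplicative system S(B(S)) attached to B(S) (morphisms whose cone lies in B(S)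
up to isomorphism) consists exactly of the morphisms f such that Q(f) is an isomorphism, i.e. it is
the saturation of S. -/
theorem result {D : Type u} [Category.{v} D] [Preadditive D] [HasZeroObject D] [HasShift D ℤ]
    [∀ n : ℤ, (shiftFunctor D n).Additive] [Pretriangulated D] [IsTriangulated D]
    (S : MorphismProperty D) [S.HasLeftCalculusOfFractions] [S.HasRightCalculusOfFractions] [S.IsCompatibleWithTriangulation]
    {E : Type u'} [Category.{v'} E] (Q : D ⥤ E) [Q.IsLocalization S] {X Y : D} (f : X ⟶ Y) :
    ObjectProperty.trW (fun Z : D => IsZero (Q.obj Z)) f ↔ IsIso (Q.map f) := by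
  obtain ⟨Z, g, h, H⟩ := distinguished_cocone_triangle f
  let : Preadditive E := Localization.preadditive Q S
  let P : ObjectProperty D := fun Z => IsZero (Q.obj Z)
  have : P.IsClosedUnderIsomorphisms := ⟨fun {X Y} e hX => hX.of_iso (Q.mapIso e.symm)⟩
  let eq : S.Localization ≌ E := Localization.uniq S.Q Q S
  let iso : S.Q ⋙ eq.functor ≅ Q := Localization.compUniqFunctor S.Q Q S
  have hzero : ∀ A : D, IsZero (Q.obj A) ↔ IsZero (S.Q.obj A) := fun A => by
    refine Iff.trans ⟨fun h => h.of_iso (iso.app A), fun h => h.of_iso (iso.app A).symm⟩ ?_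
    refine ⟨fun h => ?_, fun h => eq.functor.map_isZero h⟩
    exact (eq.inverse.map_isZero h).of_iso (eq.unitIso.app _)
  have hiso : IsIso (Q.map f) ↔ IsIso (S.Q.map f) := by
    refine Iff.trans ((MorphismProperty.isomorphisms E).arrow_mk_iso_iff (Arrow.isoMk (iso.symm.app X) (iso.symm.app Y) (by exact (iso.inv.naturality f).symm) : Arrow.mk (Q.map f) ≅ Arrow.mk (eq.functor.map (S.Q.map f)))) ?_
    exact isIso_iff_of_reflects_iso (S.Q.map f) eq.functor
  have hT := S.Q.map_distinguished _ H
  refine Iff.trans ?_ ((Triangle.isZero₃_iff_isIso₁ _ hT).trans hiso.symm)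
  refine Iff.trans ?_ (hzero Z)
  constructor
  · rintro ⟨Z', g', h', H', hZ'⟩
    exact P.prop_of_iso (Triangle.π₃.mapIso (isoTriangleOfIso₁₂ _ _ H' H (Iso.refl _) (Iso.refl _)
      ((Category.comp_id _).trans (Category.id_comp _).symm))) hZ'
  · exact fun hZ => ⟨Z, g, h, H, hZ⟩

end Groth.Agent.S6621
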