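import Groth.Statements.S6622
import Mathlib.Algebra.Homology.HomotopyCategory.Plus

set_option autoImplicit false
universe v u
open CategoryTheory CategoryTheory.Limits
open CohDer

namespace Groth.Agent.S6622

open CategoryTheory.Pretriangulated
open scoped ZeroObject

section
variable {V : Type u} [Category.{v} V] [Preadditive V]

/-- A bound on complexes, viewed on the homotopy category. -/
abbrev bnd (P : CochainComplex V ℤ → Prop) : ObjectProperty (HomotopyCategory V (ComplexShape.up ℤ)) :=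
  fun K => P K.as

lemma isTriangulated_bnd [HasZeroObject V] [HasBinaryBiproducts V] (P : CochainComplex V ℤ → Prop)
    (hz : P 0)
    (hs : ∀ K, P K → ∀ a : ℤ, P (K⟦a⟧)) (hc : ∀ {K L} (f : K ⟶ L), P K → P L → P (CochainComplex.mappingCone f)) :
    (bnd P).IsTriangulated := by
  have h₀ : (bnd P).ContainsZero :=
    ⟨(HomotopyCategory.quotient _ _).obj 0, Functor.map_isZero _ (isZero_zero _), hz⟩
  have h₁ : (bnd P).IsStableUnderShift ℤ :=
    ⟨fun n => ⟨fun K hK => by
      obtain ⟨K : CochainComplex _ _, rfl⟩ := K.quotient_obj_surjective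
      rw [ObjectProperty.prop_shift_iff, HomotopyCategory.shift_quotient_obj]
      exact hs K hK n⟩⟩
  have h₃ : (bnd P).IsTriangulatedClosed₃ := ⟨fun T hT hT₁ hT₂ => by
    obtain ⟨f : T.obj₁.as ⟶ T.obj₂.as, hf⟩ := (HomotopyCategory.quotient _ _).map_surjective T.mor₁
    refine ⟨(HomotopyCategory.quotient _ _).obj (CochainComplex.mappingCone f), hc f hT₁ hT₂,
      ⟨Triangle.π₃.mapIso (isoTriangleOfIso₁₂ T _ hT
        (HomotopyCategory.mappingCone_triangleh_distinguished f) (Iso.refl _) (Iso.refl _) ?_)⟩⟩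
    exact (Category.comp_id _).trans (hf.symm.trans (Category.id_comp _).symm)⟩
  exact { toIsTriangulatedClosed₂ := .of_isTriangulatedClosed₃ }

lemma le_cone [HasBinaryBiproducts V] {K L : CochainComplex V ℤ} (f : K ⟶ L) (a b : ℤ) [K.IsStrictlyLE a] [L.IsStrictlyLE b] :
    (CochainComplex.mappingCone f).IsStrictlyLE (max a b) := by
  rw [CochainComplex.isStrictlyLE_iff]
  intro i hi
  rw [CochainComplex.mappingCone.isZero_X_iff]
  exact ⟨CochainComplex.isZero_of_isStrictlyLE _ a _ (by lia),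
    CochainComplex.isZero_of_isStrictlyLE _ b _ (by lia)⟩

end

/-- Let A be an additive category. The full subcategories K⁻(A) (complexes K with Kⁿ = 0 for n ≫ 0) and
Kᵇ(A) (Kⁿ = 0 for |n| ≫ 0) of the homotopy category K(A) are full triangulated subcategories. -/
theorem result {V : Type u} [Category.{v} V] [Preadditive V] [HasZeroObject V] [HasBinaryBiproducts V] :
    (ObjectProperty.IsTriangulated (fun K : HomotopyCategory V (ComplexShape.up ℤ) => ∃ n : ℤ, CochainComplex.IsStrictlyLE K.as n)) ∧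
    (ObjectProperty.IsTriangulated (fun K : HomotopyCategory V (ComplexShape.up ℤ) =>
      ∃ a b : ℤ, CochainComplex.IsStrictlyGE K.as a ∧ CochainComplex.IsStrictlyLE K.as b)) := by
  have z1 : CochainComplex.IsStrictlyLE (0 : CochainComplex V ℤ) 0 := by
    rw [CochainComplex.isStrictlyLE_iff]
    exact fun i _ => Functor.map_isZero (HomologicalComplex.eval V _ i) (isZero_zero _)
  have z2 : CochainComplex.IsStrictlyGE (0 : CochainComplex V ℤ) 0 := by
    rw [CochainComplex.isStrictlyGE_iff]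
    exact fun i _ => Functor.map_isZero (HomologicalComplex.eval V _ i) (isZero_zero _)
  refine ⟨isTriangulated_bnd (fun K => ∃ n : ℤ, K.IsStrictlyLE n) ⟨0, z1⟩ ?_ ?_,
    isTriangulated_bnd (fun K => ∃ a b : ℤ, K.IsStrictlyGE a ∧ K.IsStrictlyLE b) ⟨0, 0, z2, z1⟩ ?_ ?_⟩
  · rintro K ⟨n, hn⟩ a
    exact ⟨n - a, K.isStrictlyLE_shift n a _ (by lia)⟩
  · rintro K L f ⟨a, ha⟩ ⟨b, hb⟩
    exact ⟨_, le_cone f a b⟩
  · rintro K ⟨p, q, hp, hq⟩ a
    exact ⟨p - a, q - a, K.isStrictlyGE_shift p a _ (by lia), K.isStrictlyLE_shift q a _ (by lia)⟩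
  · rintro K L f ⟨a, b, ha, hb⟩ ⟨a', b', ha', hb'⟩
    exact ⟨min (a - 1) a', _, CochainComplex.isStrictlyGE_mappingCone f a a' _ (by simp) (by simp),
      le_cone f b b'⟩

end Groth.Agent.S6622
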