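import Groth.Statements.S6625
import Groth.Agent.H16Derived.UnitPlus

set_option autoImplicit false
universe w w' v v' u u'
open CategoryTheory CategoryTheory.Limits
open CohDer

namespace Groth.Agent.S6625

open Groth.Agent.H16Derived

section
variable {A : Type u} [Category.{v} A] [Abelian A]
    {B : Type u'} [Category.{v'} B] [Abelian B]
    (F : A ⥤ B) [F.Additive] (I : ObjectProperty A)
    (h2 : ∀ S : ShortComplex A, S.ShortExact → I S.X₁ → I S.X₂ → I S.X₃ ∧ (S.map F).ShortExact)

include h2

lemma mem_of_isZero {X Z : A} (hX : I X) (hZ : IsZero Z) : I Z := by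
  let S := ShortComplex.mk (𝟙 X) (0 : X ⟶ Z) comp_zero
  have hS : S.ShortExact :=
    (show S.Splitting from
      { r := 𝟙 X, s := 0, s_g := hZ.eq_of_src _ _, id := by simp [S] }).shortExact
  exact (h2 S hS hX hX).1

lemma mem_of_iso {X Y : A} (e : X ≅ Y) (hX : I X) : I Y := by
  obtain ⟨Z, hZ⟩ := HasZeroObject.zero (C := A)
  let S := ShortComplex.mk (0 : Z ⟶ X) e.hom zero_comp
  have hS : S.ShortExact :=
    (show S.Splitting from
      { r := 0, s := e.inv, f_r := hZ.eq_of_src _ _, id := by simp [S] }).shortExact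
  exact (h2 S hS (mem_of_isZero F I h2 hX hZ) hX).1

lemma exactAt_map (M : CochainComplex A ℤ) (a : ℤ) [M.IsStrictlyGE a]
    (hM : M.Acyclic) (hX : ∀ i, I (M.X i)) (i : ℤ) :
    ((F.mapHomologicalComplex (ComplexShape.up ℤ)).obj M).ExactAt i := by
  let S (i : ℤ) : ShortComplex A := ShortComplex.mk (M.iCycles i) (M.toCycles i (i + 1)) (by
    rw [← cancel_mono (M.iCycles (i + 1)), Category.assoc, HomologicalComplex.toCycles_i,
      HomologicalComplex.iCycles_d, zero_comp])
  have epi : ∀ i j : ℤ, i + 1 = j → Epi (M.toCycles i j) := by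
    intro i j hij
    subst hij
    exact ((ShortComplex.exact_iff_epi_toCycles ((M.sc' i (i + 1) (i + 1 + 1)))).1
      ((HomologicalComplex.exactAt_iff' M i (i + 1) (i + 1 + 1) (by simp) (by simp)).1 (hM _))) |>
      fun h => by
        have e : M.toCycles i (i + 1) =
            (M.sc' i (i + 1) (i + 1 + 1)).toCycles ≫
              (M.cyclesIsoSc' i (i + 1) (i + 1 + 1) (by simp) (by simp)).inv := by
          rw [← cancel_mono (M.iCycles (i + 1)), HomologicalComplex.toCycles_i]
          erw [Category.assoc, HomologicalComplex.cyclesIsoSc'_inv_iCycles, ShortComplex.toCycles_i]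
          rfl
        rw [e]
        exact epi_comp' h inferInstance
  have hS : ∀ i, (S i).ShortExact := fun i => by
    have : Epi (S i).g := epi i (i + 1) rfl
    have : Mono (S i).f := inferInstanceAs (Mono (M.iCycles i))
    refine { exact := ?_ }
    refine ShortComplex.exact_of_f_is_kernel _ (KernelFork.IsLimit.ofι' _ _ (fun {W} k hk =>
      ⟨M.liftCycles k (i + 1) (by simp) ?_, M.liftCycles_i _ _ _ _⟩))
    rw [← M.toCycles_i i (i + 1), reassoc_of% (show k ≫ M.toCycles i (i + 1) = 0 from hk), zero_comp]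
  have hZ : ∀ i : ℤ, I (M.cycles i) := by
    have low : ∀ i, i < a → I (M.cycles i) := fun i hi =>
      mem_of_isZero F I h2 (hX i)
        ((CochainComplex.isZero_of_isStrictlyGE M a i hi).of_mono (M.iCycles i))
    suffices h : ∀ (k : ℕ), I (M.cycles (a - 1 + k)) by
      intro i
      rcases lt_or_ge i a with hi | hi
      · exact low i hi
      · have := h (i - (a - 1)).toNat
        rwa [Int.toNat_of_nonneg (by lia), show a - 1 + (i - (a - 1)) = i by lia] at this
    intro k
    induction k with
    | zero => exact low _ (by lia)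
    | succ k ih =>
      rw [show a - 1 + ((k + 1 : ℕ) : ℤ) = a - 1 + (k : ℤ) + 1 by lia]
      exact (h2 _ (hS _) ih (hX _)).1
  have hS' : ∀ i, ((S i).map F).ShortExact := fun i => (h2 _ (hS i) (hZ i) (hX i)).2
  have : Epi (F.map (M.toCycles (i - 1) i)) := by
    obtain ⟨j, rfl⟩ : ∃ j, i = j + 1 := ⟨i - 1, by lia⟩
    rw [show j + 1 - 1 = j by lia]
    exact (hS' j).epi_g
  have : Mono (F.map (M.iCycles (i + 1))) := (hS' (i + 1)).mono_f
  have z₁ : F.map (M.d (i - 1) i) ≫ F.map (M.toCycles i (i + 1)) = 0 := by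
    rw [← cancel_mono (F.map (M.iCycles (i + 1))), Category.assoc, ← F.map_comp (M.toCycles i (i+1)),
      HomologicalComplex.toCycles_i, ← F.map_comp, HomologicalComplex.d_comp_d, F.map_zero,
      zero_comp]
  let S₂ := ShortComplex.mk (F.map (M.d (i - 1) i)) (F.map (M.toCycles i (i + 1))) z₁
  let φ : S₂ ⟶ (S i).map F :=
    { τ₁ := F.map (M.toCycles (i - 1) i), τ₂ := 𝟙 _, τ₃ := 𝟙 _
      comm₁₂ := (F.map_comp _ _).symm.trans ((congrArg F.map (M.toCycles_i (i - 1) i)).trans (Category.comp_id _).symm)
      comm₂₃ := (Category.id_comp _).trans (Category.comp_id _).symm }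
  have : Epi φ.τ₁ := ‹Epi (F.map (M.toCycles (i - 1) i))›
  have : IsIso φ.τ₂ := inferInstanceAs (IsIso (𝟙 _))
  have : Mono φ.τ₃ := inferInstanceAs (Mono (𝟙 _))
  have h₂ : S₂.Exact := (ShortComplex.exact_iff_of_epi_of_isIso_of_mono φ).2 (hS' i).exact
  rw [HomologicalComplex.exactAt_iff' _ (i - 1) i (i + 1) (by simp) (by simp)]
  let S₃ := ((F.mapHomologicalComplex (ComplexShape.up ℤ)).obj M).sc' (i - 1) i (i + 1)
  let ψ : S₂ ⟶ S₃ :=
    { τ₁ := 𝟙 _, τ₂ := 𝟙 _, τ₃ := F.map (M.iCycles (i + 1))
      comm₁₂ := (Category.id_comp _).trans (Category.comp_id _).symm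
      comm₂₃ := (Category.id_comp _).trans
        ((congrArg F.map (M.toCycles_i i (i + 1)).symm).trans (F.map_comp _ _)) }
  have : Epi ψ.τ₁ := inferInstanceAs (Epi (𝟙 _))
  have : IsIso ψ.τ₂ := inferInstanceAs (IsIso (𝟙 _))
  have : Mono ψ.τ₃ := ‹Mono (F.map (M.iCycles (i + 1)))›
  exact (ShortComplex.exact_iff_of_epi_of_isIso_of_mono ψ).1 h₂

/-- A monomorphic quasi-isomorphism between bounded below complexes in the class. -/
lemma quasiIso_map_of_mono {K L : CochainComplex A ℤ} (t : K ⟶ L) [Mono t] [QuasiIso t] (a : ℤ)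
    [L.IsStrictlyGE a] (hK : ∀ i, I (K.X i)) (hL : ∀ i, I (L.X i)) :
    QuasiIso ((F.mapHomologicalComplex (ComplexShape.up ℤ)).map t) := by
  let T := ShortComplex.mk t (cokernel.π t) (cokernel.condition t)
  have hT : T.ShortExact := { exact := ShortComplex.exact_cokernel t }
  have he := fun i => h2 _ (Horseshoe.shortExact_eval hT i) (hK i) (hL i)
  have hFT : (T.map (F.mapHomologicalComplex (ComplexShape.up ℤ))).ShortExact :=
    HomologicalComplex.shortExact_of_degreewise_shortExact _ (fun i => (he i).2)
  have : (cokernel t).IsStrictlyGE a := by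
    rw [CochainComplex.isStrictlyGE_iff]
    intro j hj
    have : Epi ((cokernel.π t).f j) := (Horseshoe.shortExact_eval hT j).epi_g
    exact (CochainComplex.isZero_of_isStrictlyGE L a j hj).of_epi ((cokernel.π t).f j)
  exact Horseshoe.quasiIso_of_acyclic_cokernel hFT (fun i =>
    exactAt_map F I h2 (cokernel t) a (Lifting.acyclic_cokernel_of_mono t) (fun j => (he j).1) i)

end

/-- In the case where A has enough injectives: let F : A ⥤ B be an additive functor between abelian
categories, A with enough injectives, and I a class of objects of A such that (1) each object of A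
embeds by a monomorphism into some object of I, and (2) whenever 0 → P → Q → R → 0 is a short exact
sequence whose terms P and Q lie in I, the third term R also lies in I, and applying F to the
sequence yields a short exact sequence in B. Under these assumptions, each X belonging to I is right
acyclic for F, meaning the map F(X)[0] ⟶ RF(X[0]) is an isomorphism. -/
theorem result {A : Type u} [Category.{v} A] [Abelian A] [HasDerivedCategory.{w} A] [EnoughInjectives A]
    {B : Type u'} [Category.{v'} B] [Abelian B] [HasDerivedCategory.{w'} B]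
    (F : A ⥤ B) [F.Additive] (I : ObjectProperty A)
    (h1 : ∀ X : A, ∃ (Y : A) (ι : X ⟶ Y), I Y ∧ Mono ι)
    (h2 : ∀ S : ShortComplex A, S.ShortExact → I S.X₁ → I S.X₂ → I S.X₃ ∧ (S.map F).ShortExact)
    (X : A) (hX : I X) :
    IsIso (F.rightDerivedFunctorPlusUnit.app ((HomotopyCategory.Plus.singleFunctor A 0).obj X)) := by
  open Groth.Agent.H16Derived in
  have hsI : ∀ i : ℤ, I (((CochainComplex.singleFunctor A 0).obj X).X i) := by
    intro i
    by_cases hi : i = 0
    · subst hi
      exact mem_of_iso F I h2 (HomologicalComplex.singleObjXSelf (ComplexShape.up ℤ) 0 X).symm hX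
    · exact mem_of_isZero F I h2 hX (HomologicalComplex.isZero_single_obj_X _ 0 X i hi)
  have hinj : ∀ Y : A, ∃ (Z : A) (ι : Y ⟶ Z), Injective Z ∧ Mono ι := fun Y =>
    ⟨_, Injective.ι Y, inferInstance, inferInstance⟩
  obtain ⟨Z, hZ⟩ := HasZeroObject.zero (C := A)
  let K : CochainComplex.Plus A := ⟨(CochainComplex.singleFunctor A 0).obj X, 0, inferInstance⟩
  obtain ⟨J, α, hJ, hJi, hαm, hαq⟩ := Resolution.exists_right_resolution
    (fun Y : A => Injective Y) ⟨Z, hZ, hZ.injective⟩ hinj K.obj 0
  let L' : CochainComplex (InjectiveObject A) ℤ :=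
    HomologicalComplex.liftObjectProperty _ J hJi
  have hL' : L'.IsStrictlyGE 0 := by
    rw [← CochainComplex.isStrictlyGE_mapHomologicalComplex_obj_iff _ (InjectiveObject.ι _)]
    exact hJ
  let L : CochainComplex.Plus (InjectiveObject A) := ⟨L', 0, hL'⟩
  let i : K ⟶ (InjectiveObject.ι A).mapCochainComplexPlus.obj L := ObjectProperty.homMk α
  refine (UnitPlus.isIso_unit_iff F K L i (inferInstanceAs (QuasiIso α))).2 ?_
  change QuasiIso ((F.mapHomologicalComplex (ComplexShape.up ℤ)).map α)
  obtain ⟨J', s, hJ', hJ'I, hsm, hsq⟩ := Resolution.exists_right_resolution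
    (fun Y : A => I Y) ⟨Z, hZ, mem_of_isZero F I h2 hX hZ⟩ h1 J 0
  have : Mono α := HomologicalComplex.mono_of_mono_f _ hαm
  have : Mono s := HomologicalComplex.mono_of_mono_f _ hsm
  have hJK := CochainComplex.isKInjective_of_injective J 0
  obtain ⟨p, hp⟩ := Lifting.exists_extension J hJi
    (ShortComplex.mk s (cokernel.π s) (cokernel.condition s))
    { exact := ShortComplex.exact_cokernel s } (Lifting.acyclic_cokernel_of_mono s) (𝟙 J)
  let Fs := (F.mapHomologicalComplex (ComplexShape.up ℤ)).map s
  let Fp := (F.mapHomologicalComplex (ComplexShape.up ℤ)).map p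
  have hpp : Fs ≫ Fp = 𝟙 _ := by
    rw [← Functor.map_comp, hp, CategoryTheory.Functor.map_id]
  have hq := quasiIso_map_of_mono F I h2 (α ≫ s) 0 hsI hJ'I
  have hqs : QuasiIso Fs := by
    refine ⟨fun n => ?_⟩
    rw [quasiIsoAt_iff_isIso_homologyMap]
    have hm : Mono (HomologicalComplex.homologyMap Fs n) := by
      have : Mono (HomologicalComplex.homologyMap Fs n ≫ HomologicalComplex.homologyMap Fp n) := by
        rw [← HomologicalComplex.homologyMap_comp, hpp, HomologicalComplex.homologyMap_id]
        infer_instance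
      exact mono_of_mono _ (HomologicalComplex.homologyMap Fp n)
    have he : Epi (HomologicalComplex.homologyMap Fs n) := by
      have : IsIso (HomologicalComplex.homologyMap
          ((F.mapHomologicalComplex (ComplexShape.up ℤ)).map (α ≫ s)) n) := inferInstance
      rw [Functor.map_comp, HomologicalComplex.homologyMap_comp] at this
      exact epi_of_epi (HomologicalComplex.homologyMap
        ((F.mapHomologicalComplex (ComplexShape.up ℤ)).map α) n) _
    exact isIso_of_mono_of_epi _
  rw [Functor.map_comp] at hq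
  exact quasiIso_of_comp_right _ Fs

end Groth.Agent.S6625
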