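import Groth.Statements.S6627
import Groth.Agent.H18Et.PropAB
import Groth.Agent.H7Flat.EtaleLocQF
-- import your own Groth.Agent.* helpers here

set_option autoImplicit false
open CategoryTheory CategoryTheory.Limits AlgebraicGeometry Opposite
universe u
open EtCore

namespace Groth.Agent.S6627

/-- A separated morphism of schemes that is locally quasi-finite (locally of finite type with discrete
fibres) satisfies condition (A): for every etale U ⟶ X and every point u of U there are an etale V ⟶
Y, an open and closed subscheme W of X ×_Y V and an X-morphism W ⟶ U whose image contains u.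
(Locally of finite type is part of the meaning of locally quasi-finite here and is carried as a
separate hypothesis.) -/
theorem result {X Y : Scheme.{u}} (f : X ⟶ Y) [IsSeparated f]
    [LocallyQuasiFinite f] [LocallyOfFiniteType f] : BigSite.PropA f := by
  intro U g _ u
  obtain ⟨V, v, vu, hv, O, o, hoO, hfin, -, -, hox⟩ :=
    Groth.Agent.H7Flat.exists_etaleNbhd_finite_part f (g.base u) (f.quasiFiniteAt (g.base u))
  haveI := hv.etale
  haveI := hfin
  haveI : IsSeparated (pullback.snd f v) := inferInstance
  haveI : IsProper O.ι := IsProper.of_comp O.ι (pullback.snd f v)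
  have hOc : IsClosed (O : Set ↥(pullback f v)) := by
    rw [← Scheme.Opens.range_ι]
    exact O.ι.isClosedMap.isClosed_range
  -- the finite part
  let fO : O.toScheme ⟶ V := O.ι ≫ pullback.snd f v
  let pX : O.toScheme ⟶ X := O.ι ≫ pullback.fst f v
  obtain ⟨u', hu', -⟩ := Scheme.Pullback.exists_preimage_pullback (f := g) (g := pX) u ⟨o, hoO⟩
    ((Scheme.Hom.comp_apply O.ι (pullback.fst f v) ⟨o, hoO⟩).trans hox).symm
  obtain ⟨V', q, hq, W', hW', h, hh, p, hp⟩ :=
    Groth.Agent.H18Et.propA_of_isIntegralHom fO _ (pullback.snd g pX) u'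
  haveI := hq
  let j : pullback fO q ⟶ pullback f (q ≫ v) := pullback.map fO q f (q ≫ v) pX (𝟙 _) v
    (by simp [fO, pX, pullback.condition]) (by simp)
  let l : pullback f (q ≫ v) ⟶ pullback f v := pullback.map f (q ≫ v) f v (𝟙 _) q (𝟙 _) (by simp) (by simp)
  have hjf : j ≫ pullback.fst f (q ≫ v) = pullback.fst fO q ≫ pX := pullback.lift_fst _ _ _
  have hjs : j ≫ pullback.snd f (q ≫ v) = pullback.snd fO q := (pullback.lift_snd _ _ _).trans (Category.comp_id _)
  have hlf : l ≫ pullback.fst f v = pullback.fst f (q ≫ v) := (pullback.lift_fst _ _ _).trans (Category.comp_id _)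
  have hls : l ≫ pullback.snd f v = pullback.snd f (q ≫ v) ≫ q := pullback.lift_snd _ _ _
  have hsq : IsPullback j (pullback.fst fO q) l O.ι := by
    have hl : IsPullback l (pullback.snd f (q ≫ v)) (pullback.snd f v) q := by
      refine IsPullback.of_right (h₁₂ := pullback.fst f v) (v₁₃ := f) (h₂₂ := v) ?_ hls
        (IsPullback.of_hasPullback f v)
      rw [hlf]
      exact IsPullback.of_hasPullback f (q ≫ v)
    refine IsPullback.flip (IsPullback.of_bot (h₂₁ := l) (v₂₁ := pullback.snd f (q ≫ v))
      (v₂₂ := pullback.snd f v) (h₃₁ := q) ?_ ?_ hl)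
    · rw [hjs]
      exact (IsPullback.of_hasPullback fO q).flip.flip
    · refine pullback.hom_ext ?_ ?_
      · rw [Category.assoc, Category.assoc, hlf, hjf]
      · rw [Category.assoc, Category.assoc, hls, ← Category.assoc j, hjs]
        exact pullback.condition
  haveI : IsOpenImmersion j := MorphismProperty.of_isPullback (P := @IsOpenImmersion) hsq.flip inferInstance
  haveI : IsClosedImmersion O.ι := IsClosedImmersion.of_isPreimmersion _ (by rw [Scheme.Opens.range_ι]; exact hOc)
  haveI : IsClosedImmersion j := MorphismProperty.of_isPullback (P := @IsClosedImmersion) hsq.flip inferInstance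
  let W : (pullback f (q ≫ v)).Opens := j ''ᵁ W'
  refine ⟨V', q ≫ v, inferInstance, W, j.isClosedEmbedding.isClosedMap _ hW',
    (Scheme.Hom.isoImage j W').inv ≫ h ≫ pullback.fst g pX, ?_, (Scheme.Hom.isoImage j W').hom.base p, ?_⟩
  · rw [Category.assoc, Category.assoc, pullback.condition, reassoc_of% hh, ← hjf,
      ← Scheme.Hom.isoImage_hom_ι_assoc j W', Iso.inv_hom_id_assoc]
  · refine Eq.trans ?_ hu'
    rw [← hp, ← Scheme.Hom.comp_apply, Iso.hom_inv_id_assoc, Scheme.Hom.comp_apply]

end Groth.Agent.S6627
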