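import Groth.Statements.S6632
import Groth.Agent.H18Et.PropAB
-- import your own Groth.Agent.* helpers here

set_option autoImplicit false
set_option linter.style.haveILetI false
set_option backward.isDefEq.respectTransparency false
set_option backward.isDefEq.respectTransparency.types false
open CategoryTheory CategoryTheory.Limits AlgebraicGeometry Opposite
universe u
open EtCore

namespace Groth.Agent.S6632

/-- Let f : X ⟶ Y be a morphism of schemes such that, for every etale V ⟶ Y, the base change X ×_Y V ⟶ V
satisfies condition (C) (for every etale U ⟶ X ×_Y V there are an etale V' ⟶ V and a surjective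
morphism from the base change of V' to U over X ×_Y V) and is closed as a map of topological spaces.
Then the base change functor V ↦ X ×_Y V from the small etale site of Y to that of X is almost
cocontinuous: every covering sieve of X ×_Y V contains the images of the members of some covering
sieve of V, except for members V' for which X ×_Y V' is covered by the empty sieve. -/
theorem result {X Y : Scheme.{u}} (f : X ⟶ Y)
    (hC : ∀ (V : Scheme.{u}) (v : V ⟶ Y) [Etale v], BigSite.PropC (pullback.snd f v))
    (hcl : ∀ (V : Scheme.{u}) (v : V ⟶ Y) [Etale v], IsClosedMap (pullback.snd f v).base) :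
    BigSite.IsAlmostCocontinuous (EtCoh.bc f) Y.smallEtaleTopology X.smallEtaleTopology := by
  intro W R hR
  let pr : pullback W.hom f ⟶ W.left := pullback.fst W.hom f
  refine ⟨⟨fun V g => (⊥ : Sieve ((EtCoh.bc f).obj V)) ∈ X.smallEtaleTopology _ ∨ R ((EtCoh.bc f).map g),
    fun {V V'} g hg k => ?_⟩, Groth.Agent.H18Et.mem_topology_of_forall_point _ fun w => ?_, fun V g hg => hg⟩
  · rcases hg with hg | hg
    · exact Or.inl (by simpa using X.smallEtaleTopology.pullback_stable ((EtCoh.bc f).map k) hg)
    · exact Or.inr (by rw [Functor.map_comp]; exact R.downward_closed hg _)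
  haveI : Etale W.hom := W.prop
  by_cases hw : w ∈ Set.range pr.base
  · obtain ⟨q, hq⟩ := hw
    obtain ⟨U', b, u', hb, hu'⟩ := Groth.Agent.H18Et.exists_of_mem_topology hR q
    let g₀ : U'.left ⟶ pullback f W.hom := b.left ≫ (pullbackSymmetry W.hom f).hom
    haveI : Etale b.left := inferInstance
    haveI : Etale g₀ := MorphismProperty.comp_mem (W := @Etale) _ _ ‹_› inferInstance
    obtain ⟨V, v, hv, h, hh, hsurj⟩ := hC W.left W.hom U'.left g₀
    haveI := hv
    haveI := hsurj
    let W' : Y.Etale := Scheme.Etale.mk (v ≫ W.hom)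
    let a : W' ⟶ W := MorphismProperty.Over.homMk v rfl
    let m : pullback (v ≫ W.hom) f ⟶ pullback (pullback.snd f W.hom) v :=
      pullback.lift (pullback.lift (pullback.snd _ _) (pullback.fst _ _ ≫ v)
        (by rw [Category.assoc]; exact pullback.condition.symm)) (pullback.fst _ _) (by rw [pullback.lift_snd])
    have hm : (m ≫ h) ≫ b.left = ((EtCoh.bc f).map a).left := by
      have hs : b.left = g₀ ≫ (pullbackSymmetry W.hom f).inv := by simp [g₀]
      rw [hs, Category.assoc, reassoc_of% hh]
      refine Eq.trans (pullback.lift_fst_assoc _ _ _ _) ?_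
      apply pullback.hom_ext
      · rw [Category.assoc]
        erw [pullbackSymmetry_inv_comp_fst, pullback.lift_snd, pullback.lift_fst]
        rfl
      · rw [Category.assoc]
        erw [pullbackSymmetry_inv_comp_snd, pullback.lift_fst, pullback.lift_snd]
        exact (Category.comp_id _).symm
    have hbU : b.left ≫ pullback.snd W.hom f = U'.hom := Over.w b.hom
    let k : (EtCoh.bc f).obj W' ⟶ U' := MorphismProperty.Over.homMk (m ≫ h) (by
      rw [← hbU, ← Category.assoc, hm]
      exact Over.w ((EtCoh.bc f).map a).hom)
    have hk : k ≫ b = (EtCoh.bc f).map a := MorphismProperty.Over.Hom.ext hm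
    obtain ⟨p, hp⟩ := h.surjective u'
    refine ⟨W', a, (pullback.snd (pullback.snd f W.hom) v).base p, Or.inr (hk ▸ R.downward_closed hb k), ?_⟩
    have e : pullback.snd (pullback.snd f W.hom) v ≫ v = h ≫ b.left ≫ pr := by
      rw [← pullback.condition, ← hh, Category.assoc]
      simp [g₀, pr]
    refine (Scheme.Hom.comp_apply _ _ _).symm.trans ((congrArg (fun t => t.base p) e).trans ?_)
    rw [Scheme.Hom.comp_apply, Scheme.Hom.comp_apply, hp, hu']
    exact hq
  · let O : W.left.Opens := ⟨(Set.range pr.base)ᶜ, by
      have hc : IsClosedMap pr.base := by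
        rw [show pr = (pullbackSymmetry W.hom f).hom ≫ pullback.snd f W.hom by simp [pr], Scheme.Hom.comp_base,
          TopCat.coe_comp]
        exact (hcl W.left W.hom).comp (pullbackSymmetry W.hom f).hom.homeomorph.isClosedMap
      exact hc.isClosed_range.isOpen_compl⟩
    let W' : Y.Etale := Scheme.Etale.mk (O.ι ≫ W.hom)
    let a : W' ⟶ W := MorphismProperty.Over.homMk O.ι rfl
    refine ⟨W', a, ⟨w, hw⟩, Or.inl (Groth.Agent.H18Et.mem_topology_of_forall_point _ fun x => ?_), rfl⟩
    exfalso
    have e : ((EtCoh.bc f).map a).left ≫ pr = pullback.fst (O.ι ≫ W.hom) f ≫ O.ι := pullback.lift_fst _ _ _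
    exact ((pullback.fst (O.ι ≫ W.hom) f).base x).2 ⟨((EtCoh.bc f).map a).left.base x,
      (Scheme.Hom.comp_apply _ _ _).symm.trans ((congrArg (fun t => t.base x) e).trans (Scheme.Hom.comp_apply _ _ _))⟩

end Groth.Agent.S6632
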