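import Groth.Statements.S6634
import Groth.Agent.H18Et.PropAB

set_option autoImplicit false
open CategoryTheory CategoryTheory.Limits AlgebraicGeometry Opposite
universe u
open EtCore

open scoped Groth.Agent.H18Et

namespace Groth.Agent.S6634

/-- For an integral morphism of schemes f : X ⟶ Y the direct image along f of abelian sheaves on the
small etale sites sends epimorphisms to epimorphisms. (The published statement also covers sheaves
of sets; this row treats abelian sheaves only.) -/
theorem result {X Y : Scheme.{u}} (f : X ⟶ Y) [IsIntegralHom f] :
    (EtCoh.push f).PreservesEpimorphisms := by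
  refine ⟨fun {F G} φ _ => ?_⟩
  have : CategoryTheory.Sheaf.IsLocallySurjective φ :=
    (CategoryTheory.Sheaf.isLocallySurjective_iff_epi' AddCommGrpCat.{u + 1} φ).2 inferInstance
  have := Groth.Agent.H18Et.isLocallySurjective_push f
    (Groth.Agent.H18Et.propB_of_isIntegralHom f) φ
  exact CategoryTheory.Sheaf.epi_of_isLocallySurjective _

end Groth.Agent.S6634
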