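import Groth.Statements.S6637

set_option autoImplicit false
open CategoryTheory CategoryTheory.Limits AlgebraicGeometry Opposite
universe u
open BigSite

namespace Groth.Agent.S6637


theorem isIso_mapPullbackAdj_unit {X Y : Scheme.{u}} (f : X ⟶ Y) [Mono f] (V : Over X) :
    IsIso ((Over.mapPullbackAdj f).unit.app V) := by
  have : IsIso ((Over.mapPullbackAdj f).unit.app V).left := by
    refine ⟨⟨pullback.fst (V.hom ≫ f) f, ?_, ?_⟩⟩
    · exact pullback.lift_fst _ _ _
    · apply pullback.hom_ext
      · erw [Category.assoc, pullback.lift_fst]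
        simp
      · have h : pullback.fst (V.hom ≫ f) f ≫ V.hom = pullback.snd (V.hom ≫ f) f := by
          rw [← cancel_mono f, Category.assoc, pullback.condition]
        erw [Category.assoc, pullback.lift_snd, Category.id_comp]
        exact h
  haveI : IsIso ((Over.forget X).map ((Over.mapPullbackAdj f).unit.app V)) := this
  exact isIso_of_reflects_iso _ (Over.forget X)

universe v' u'
theorem isIso_counit {X Y : Scheme.{u}} (f : X ⟶ Y) [Mono f] (K : Precoverage Scheme.{u})
    (A : Type u') [Category.{v'} A] (F : Sheaf (QuotSh.J K X) A) :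
    IsIso ((BigSite.bigAdj K f A).counit.app F) := by
  haveI : ∀ V, IsIso (((BigSite.bigAdj K f A).counit.app F).hom.app V) := by
    intro V
    haveI := isIso_mapPullbackAdj_unit f V.unop
    simp [BigSite.bigAdj]
    exact Functor.map_isIso F.obj ((Over.mapPullbackAdj f).unit.app V.unop).op
  haveI : IsIso ((BigSite.bigAdj K f A).counit.app F).hom := NatIso.isIso_of_isIso_app _
  haveI : IsIso ((sheafToPresheaf _ _).map ((BigSite.bigAdj K f A).counit.app F)) := this
  exact isIso_of_reflects_iso _ (sheafToPresheaf _ _)


/-- For the Zariski, etale, smooth and fppf topologies: for a monomorphism of schemes f : X ⟶ Y the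
counit f_big⁻¹ f_big,* F ⟶ F is an isomorphism for every sheaf of sets F on the big site of X, and
for every abelian sheaf. (The published statement also covers the syntomic topology; this row treats
the Zariski, etale, smooth and fppf topologies only.) -/
theorem result {X Y : Scheme.{u}} (f : X ⟶ Y) [Mono f]
    (K : Precoverage Scheme.{u}) (hK : K = Scheme.zariskiPrecoverage ∨ K = Scheme.etalePrecoverage ∨
      K = Scheme.precoverage @Smooth ∨ K = Scheme.fppfPrecoverage) :
    (∀ F : QuotSh.Sh K X, IsIso ((BigSite.bigAdj K f (Type (u + 1))).counit.app F)) ∧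
      (∀ F : BigSite.Ab K X, IsIso ((BigSite.bigAdj K f AddCommGrpCat.{u + 1}).counit.app F)) := by
  exact ⟨fun F => isIso_counit f K _ F, fun F => isIso_counit f K _ F⟩

end Groth.Agent.S6637
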