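import Groth.Statements.S6639
import Groth.Agent.S0078
import Mathlib.RingTheory.Jacobson.Ring
import Mathlib.RingTheory.FiniteType
import Mathlib.LinearAlgebra.TensorProduct.Basis
import Mathlib.FieldTheory.IsAlgClosed.Basic

set_option autoImplicit false
universe u
open scoped TensorProduct
open EtBase

namespace Groth.Agent.S6639

/-- Let k ⟶ k' be a homomorphism of algebraically closed fields of characteristic p > 0 (an extension of
algebraically closed fields), V a finite-dimensional k-vector space, F : V ⟶ V additive with F(c •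
v) = c^p • F(v), and F' the additive endomorphism of V' = k' ⊗_k V satisfying F'(c ⊗ v) = c^p ⊗
F(v). Then v ↦ 1 ⊗ v maps the fixed vectors of F bijectively onto the fixed vectors of F'. -/
theorem result {k k' V : Type u} [Field k] [IsAlgClosed k] [Field k']
    [IsAlgClosed k'] [Algebra k k'] (p : ℕ) [Fact p.Prime] [CharP k p]
    [AddCommGroup V] [Module k V] [FiniteDimensional k V] (F : V →+ V)
    (hF : ∀ (c : k) (v : V), F (c • v) = c ^ p • F v)
    (F' : k' ⊗[k] V →+ k' ⊗[k] V) (hF' : ∀ (c : k') (v : V), F' (c ⊗ₜ[k] v) = (c ^ p) ⊗ₜ[k] F v) :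
    Set.BijOn (fun v : V => (1 : k') ⊗ₜ[k] v) {v : V | F v = v} {w : k' ⊗[k] V | F' w = w} := by
  classical
  let b := Module.finBasis k V
  let n := Module.finrank k V
  haveI : CharP k' p := charP_of_injective_algebraMap (algebraMap k k').injective p
  let b' : Module.Basis (Fin n) k' (k' ⊗[k] V) := b.baseChange k'
  have hb' : ∀ i, b' i = (1 : k') ⊗ₜ b i := fun i => Module.Basis.baseChange_apply k' b i
  have hF'sum : ∀ c : Fin n → k', F' (∑ i, c i • b' i) =
      ∑ j, (∑ i, c i ^ p * algebraMap k k' (b.repr (F (b i)) j)) • b' j := by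
    intro c
    rw [map_sum]
    simp only [hb', TensorProduct.smul_tmul', smul_eq_mul, mul_one, hF']
    simp only [TensorProduct.sum_tmul]
    rw [Finset.sum_comm]
    refine Finset.sum_congr rfl fun i _ => ?_
    conv_lhs => rw [← b.sum_repr (F (b i))]
    rw [TensorProduct.tmul_sum]
    refine Finset.sum_congr rfl fun j _ => ?_
    rw [TensorProduct.tmul_smul, TensorProduct.smul_tmul', Algebra.smul_def, mul_comm]
  have hFsum : ∀ x : Fin n → k, F (∑ i, x i • b i) =
      ∑ j, (∑ i, x i ^ p * b.repr (F (b i)) j) • b j := by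
    intro x
    rw [map_sum]
    simp only [hF, Finset.sum_smul]
    rw [Finset.sum_comm]
    refine Finset.sum_congr rfl fun i _ => ?_
    simp only [mul_smul, ← Finset.smul_sum]
    rw [b.sum_repr]
  refine ⟨fun v hv => ?_, fun v _ v' _ h => ?_, fun w hw => ?_⟩
  · show F' ((1 : k') ⊗ₜ[k] v) = _
    rw [hF', one_pow, show F v = v from hv]
  · refine b.ext_elem fun i => (algebraMap k k').injective ?_
    have := congrArg (fun z => b'.repr z i) h
    simpa only [b', Module.Basis.baseChange_repr_tmul, Algebra.smul_def, mul_one] using this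
  · let c : Fin n → k' := fun i => b'.repr w i
    have hwc : ∑ i, c i • b' i = w := b'.sum_repr w
    have hc : ∀ j, ∑ i, c i ^ p * algebraMap k k' (b.repr (F (b i)) j) = c j := fun j => by
      have h := congrArg (fun z => b'.repr z j) ((hF'sum c).symm.trans ((congrArg F' hwc).trans (show F' w = w from hw)))
      exact (congrFun (b'.repr_sum_self _) j).symm.trans (h.trans (rfl))
    let S := Algebra.adjoin k (Set.range c)
    let cS : Fin n → S := fun i => ⟨c i, Algebra.subset_adjoin ⟨i, rfl⟩⟩
    haveI : Algebra.FiniteType k S := (Subalgebra.fg_iff_finiteType S).1 ⟨(Finset.univ.image c), by simp [S]⟩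
    haveI : IsJacobsonRing S := isJacobsonRing_of_finiteType (A := k)
    have hpt : ∀ m : MaximalSpectrum S, ∃ χ : S →ₐ[k] k, RingHom.ker χ.toRingHom = m.asIdeal := by
      intro m
      haveI := m.isMaximal
      letI := Ideal.Quotient.field m.asIdeal
      haveI : Module.Finite k (S ⧸ m.asIdeal) := finite_of_finite_type_of_isJacobsonRing k _
      let e : (S ⧸ m.asIdeal) ≃ₐ[k] k := (AlgEquiv.ofBijective (Algebra.ofId k (S ⧸ m.asIdeal))
        (IsAlgClosed.algebraMap_bijective_of_isIntegral)).symm
      refine ⟨e.toAlgHom.comp (Ideal.Quotient.mkₐ k m.asIdeal), ?_⟩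
      ext x
      show e (Ideal.Quotient.mk m.asIdeal x) = 0 ↔ _
      rw [map_eq_zero_iff e e.injective, Ideal.Quotient.eq_zero_iff_mem]
    choose χ hχ using hpt
    have hfix : ∀ χ : S →ₐ[k] k, F (∑ i, χ (cS i) • b i) = ∑ i, χ (cS i) • b i := by
      intro χ
      rw [hFsum]
      refine Finset.sum_congr rfl fun j _ => ?_
      have e : ∑ i, cS i ^ p * algebraMap k S (b.repr (F (b i)) j) = cS j := Subtype.ext (by
        simpa [cS] using hc j)
      have := congrArg χ e
      rw [map_sum] at this
      simp only [map_mul, map_pow, AlgHom.commutes, Algebra.algebraMap_self_apply] at this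
      rw [this]
    let Ψ : MaximalSpectrum S → {v : V | F v = v} := fun m => ⟨∑ i, χ m (cS i) • b i, hfix (χ m)⟩
    have hΨ : Function.Injective Ψ := fun m m' h => by
      have hh : χ m = χ m' := by
        refine AlgHom.adjoin_ext ?_
        rintro _ ⟨i, rfl⟩
        have := congrArg (fun z => b.repr z i) (congrArg Subtype.val h)
        exact (congrFun (b.repr_sum_self _) i).symm.trans (this.trans (congrFun (b.repr_sum_self _) i))
      exact MaximalSpectrum.ext (by rw [← hχ m, ← hχ m', hh])
    haveI : Finite {v : V | F v = v} := (Groth.Agent.S0078.result p F hF).1.to_subtype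
    haveI : Finite (MaximalSpectrum S) := Finite.of_injective Ψ hΨ
    haveI := Fintype.ofFinite (MaximalSpectrum S)
    have hbot : ∏ m : MaximalSpectrum S, m.asIdeal ≤ (⊥ : Ideal S) := by
      refine Ideal.prod_le_inf.trans ?_
      have hj : (⊥ : Ideal S).jacobson = ⊥ := IsJacobsonRing.out inferInstance (Ideal.IsPrime.isRadical inferInstance)
      rw [← hj, Ideal.jacobson]
      refine le_sInf fun J hJ => ?_
      exact (Finset.inf_le (Finset.mem_univ (⟨J, hJ.2⟩ : MaximalSpectrum S)))
    obtain ⟨m, -, hm⟩ := (Ideal.IsPrime.prod_le (hp := (inferInstance : (⊥ : Ideal S).IsPrime))).1 hbot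
    have hinj : Function.Injective (χ m) := (RingHom.injective_iff_ker_eq_bot (χ m).toRingHom).2
      ((hχ m).trans (le_bot_iff.1 hm))
    refine ⟨∑ i, χ m (cS i) • b i, hfix (χ m), ?_⟩
    show (1 : k') ⊗ₜ[k] (∑ i, χ m (cS i) • b i) = w
    rw [← hwc, TensorProduct.tmul_sum]
    refine Finset.sum_congr rfl fun i _ => ?_
    have hi : algebraMap k k' (χ m (cS i)) = c i := by
      have : algebraMap k S (χ m (cS i)) = cS i := hinj (by rw [AlgHom.commutes]; rfl)
      exact congrArg Subtype.val this
    rw [hb', ← hi, TensorProduct.tmul_smul, TensorProduct.smul_tmul', Algebra.smul_def, TensorProduct.smul_tmul', smul_eq_mul]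

end Groth.Agent.S6639
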