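import Groth.Statements.S6640
import Groth.Agent.H18Et.ConstSubsheaf

set_option autoImplicit false
set_option backward.isDefEq.respectTransparency.types false
set_option backward.isDefEq.respectTransparency false
open scoped Groth.Agent.H18Et
open CategoryTheory CategoryTheory.Limits AlgebraicGeometry Opposite
universe u
open EtCore

namespace Groth.Agent.S6640

/-- Let X be an irreducible scheme, ξ a geometric point over its generic point, A' an additive subgroup
of an abelian group A, and G an abelian sheaf on the small etale site of X with monomorphisms a :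
const A' ⟶ G and b : G ⟶ const A whose composite is the map of constant sheaves induced by the
inclusion. If the stalk of a at ξ is an isomorphism, then a is an isomorphism. -/
theorem result {X : Scheme.{u}} [IrreducibleSpace ↥X]
    {Ω : Type u} [Field Ω] [IsSepClosed Ω] (ξ : Spec (CommRingCat.of Ω) ⟶ X)
    (hξ : ξ.base default = genericPoint ↥X)
    (A : Type) [AddCommGroup A] (A' : AddSubgroup A) (G : EtCoh.Ab X)
    (a : EtCoh.const X ↥A' ⟶ G) (b : G ⟶ EtCoh.const X A) [Mono a] [Mono b]
    (hab : a ≫ b = (constantSheaf X.smallEtaleTopology AddCommGrpCat.{u + 1}).map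
      (AddCommGrpCat.ofHom (AddEquiv.ulift.symm.toAddMonoidHom.comp (A'.subtype.comp AddEquiv.ulift.toAddMonoidHom))))
    (hst : IsIso ((EtCoh.stalk ξ).map a)) : IsIso a := by
  have hb : ∀ U : X.Etale, Function.Injective (b.hom.app (op U)) := fun U =>
    haveI : Mono b.hom := inferInstanceAs (Mono ((sheafToPresheaf _ _).map b))
    (AddCommGrpCat.mono_iff_injective _).1 inferInstance
  have := hst
  have := Groth.Agent.H18Et.ConstSheaf.isLocallySurjective_constMono ξ hξ _ G a b hb hab
    ((AddCommGrpCat.epi_iff_surjective _).1 inferInstance)
  have : Epi a := Sheaf.epi_of_isLocallySurjective a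
  exact isIso_of_mono_of_epi a

end Groth.Agent.S6640
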