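import Groth.Statements.S6647
import Groth.Agent.H18Et.LC.Apply

set_option autoImplicit false
open CategoryTheory CategoryTheory.Limits AlgebraicGeometry Opposite
universe u
open EtCore

namespace Groth.Agent.S6647

/-- Let φ : F ⟶ G be a map of locally constant abelian sheaves on the small etale site of a scheme X,
with F finite locally constant. Then on the members of some etale covering of X the restriction of φ
is, up to isomorphisms with constant sheaves on both sides, the map of constant sheaves induced by a
homomorphism of abelian groups. -/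
theorem result {X : Scheme.{u}} (F G : EtCoh.Ab X) (φ : F ⟶ G)
    (hF : EtCoh.IsFiniteLocallyConstant F) (hG : EtRest.IsLocallyConstant G) :
    ∃ (ι : Type u) (U : ι → X.Etale), EtCoh.Covers U ∧ ∀ i, ∃ (M N : Type (u + 1)) (_ : AddCommGroup M) (_ : AddCommGroup N)
      (h : M →+ N)
      (α : EtCoh.restr F (U i) ≅ (constantSheaf (X.smallEtaleTopology.over (U i)) AddCommGrpCat.{u + 1}).obj (AddCommGrpCat.of M))
      (β : EtCoh.restr G (U i) ≅ (constantSheaf (X.smallEtaleTopology.over (U i)) AddCommGrpCat.{u + 1}).obj (AddCommGrpCat.of N)),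
      (X.smallEtaleTopology.overPullback AddCommGrpCat.{u + 1} (U i)).map φ ≫ β.hom = α.hom ≫ (constantSheaf (X.smallEtaleTopology.over (U i)) AddCommGrpCat.{u + 1}).map (AddCommGrpCat.ofHom h) := by
  open scoped Groth.Agent.H18Et in
  choose V z M N hM c d h hc hd e using Groth.Agent.H18Et.LC.exists_hom_ab φ hF hG
  open scoped Groth.Agent.H18Et in
  refine ⟨_, V, Groth.Agent.H18Et.LC.covers_of_forall fun x => Groth.Agent.H18Et.LC.fiber_base (z x),
    fun x => ⟨M x, N x, inferInstance, inferInstance, (h x).hom,
      (Groth.Agent.H18Et.LC.constIso (hc x)).symm, (Groth.Agent.H18Et.LC.constIso (hd x)).symm, ?_⟩⟩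
  open scoped Groth.Agent.H18Et in
  rw [Iso.symm_hom, Iso.symm_hom, Iso.comp_inv_eq, Category.assoc, Iso.eq_inv_comp]
  open scoped Groth.Agent.H18Et in
  exact Groth.Agent.H18Et.LC.constTo_naturality (d x) φ (h x) (e x)

end Groth.Agent.S6647
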