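import Groth.Statements.S6648
import Groth.Agent.H18Et.Stalk
import Mathlib.AlgebraicGeometry.Morphisms.UniversallyOpen
import Mathlib.AlgebraicGeometry.Morphisms.FlatDescent

set_option autoImplicit false
open CategoryTheory CategoryTheory.Limits AlgebraicGeometry Opposite
universe u
open EtCore

namespace Groth.Agent.S6648

/-- For a sheaf of (commutative) rings O on the small etale site of a scheme S, the set of points s of S
over which some geometric stalk of O is a nonzero ring is closed in S. (Rings are taken in the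
universe of the schemes, as for the structure presheaf of the prelude.) -/
theorem result {S : Scheme.{u}} (O : Sheaf S.smallEtaleTopology CommRingCat.{u}) :
    IsClosed {s : ↥S | ∃ (Ω : Type u) (_ : Field Ω) (_ : IsSepClosed Ω) (ξ : Spec (CommRingCat.of Ω) ⟶ S),
      ξ.base default = s ∧ Nontrivial ↑((Scheme.pointSmallEtale ξ).presheafFiber.obj O.obj)} := by
  rw [← isOpen_compl_iff, isOpen_iff_forall_mem_open]
  intro s hs
  let Ω := SeparableClosure (S.residueField s)
  haveI : IsSepClosed Ω := SeparableClosure.isSepClosed _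
  let ξ : Spec (CommRingCat.of Ω) ⟶ S := Groth.Agent.H18Et.geomPt s
  haveI hsub : Subsingleton ↑((Scheme.pointSmallEtale ξ).presheafFiber.obj O.obj) :=
    not_nontrivial_iff_subsingleton.1 fun h =>
      hs ⟨Ω, inferInstance, inferInstance, ξ, Groth.Agent.H18Et.geomPt_base s, h⟩
  let T : S.Etale := Scheme.Etale.mk (𝟙 S)
  let x : (Scheme.pointSmallEtale ξ).fiber.obj T := Over.homMk ξ (Category.comp_id ξ)
  obtain ⟨V, g, y, -, he⟩ := ((Scheme.pointSmallEtale ξ).toPresheafFiber_eq_iff' (P := O.obj) T x 1 0).1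
    (Subsingleton.elim (α := ↑((Scheme.pointSmallEtale ξ).presheafFiber.obj O.obj)) _ _)
  rw [map_one, map_zero] at he
  haveI : Etale V.hom := V.prop
  refine ⟨Set.range V.hom, ?_, V.hom.isOpenMap.isOpen_range, ⟨Groth.Agent.H18Et.ptOf y, ?_⟩⟩
  · rintro _ ⟨v, rfl⟩ ⟨Ω', _, _, ξ', hξ', hn⟩
    obtain ⟨z, -⟩ := Groth.Agent.H18Et.exists_fiber_over v ξ' hξ'
    refine (not_subsingleton_iff_nontrivial.2 hn) (subsingleton_of_zero_eq_one ?_)
    rw [← map_one ((Scheme.pointSmallEtale ξ').toPresheafFiber V z O.obj).hom,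
      ← map_zero ((Scheme.pointSmallEtale ξ').toPresheafFiber V z O.obj).hom, he]
  · exact (Scheme.Hom.comp_apply _ _ _).symm.trans
      ((congrArg (fun (k : Spec (CommRingCat.of Ω) ⟶ S) => k default) (Over.w y)).trans (Groth.Agent.H18Et.geomPt_base s))

end Groth.Agent.S6648
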