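import Groth.Statements.S6649
import Groth.Agent.H29Ci.Ext
import Groth.Agent.H29CSA.RedNorm
import Groth.Agent.H29Curve.Trdeg
import Mathlib.AlgebraicGeometry.FunctionField
import Mathlib.AlgebraicGeometry.Morphisms.FiniteType
import Mathlib.AlgebraicGeometry.AffineScheme

set_option autoImplicit false
open CategoryTheory CategoryTheory.Limits AlgebraicGeometry Opposite
universe u
open Curves

namespace Groth.Agent.S6649

/-- For a curve C over an algebraically closed field k (C integral of dimension one, separated and of
finite type over k) the Brauer group of the function field of C is zero: every finite-dimensional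
central division algebra over the function field has dimension one. -/
theorem result (k : Type u) [Field k] [IsAlgClosed k] (C : Scheme.{u})
    (f : C ⟶ Spec (CommRingCat.of k)) [IsSeparated f] [LocallyOfFiniteType f] [QuasiCompact f] [IsIntegral C]
    (hdim : topologicalKrullDim ↥C = 1)
    (D : Type u) [DivisionRing D] [Algebra ↑C.functionField D] [Algebra.IsCentral ↑C.functionField D]
    [FiniteDimensional ↑C.functionField D] : Module.finrank ↑C.functionField D = 1 := by
  apply H29CSA.finrank_eq_one_of_isCr_one
  apply H29Ci.isCr_of_isCi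
  obtain ⟨U, hU, hgU, -⟩ := exists_isAffineOpen_mem_and_subset
    (TopologicalSpace.Opens.mem_top (genericPoint C))
  haveI : Nonempty U := ⟨⟨_, hgU⟩⟩
  let φ : k →+* Γ(C, U) := (f.appLE ⊤ U le_top).hom.comp (Scheme.ΓSpecIso (CommRingCat.of k)).inv.hom
  letI := φ.toAlgebra
  have hft : φ.FiniteType :=
    (f.finiteType_appLE (isAffineOpen_top _) hU le_top).comp
      (RingHom.FiniteType.of_surjective _ ((Scheme.ΓSpecIso (CommRingCat.of k)).commRingCatIsoToRingEquiv.symm.surjective))
  haveI : Algebra.FiniteType k Γ(C, U) := hft
  letI : Algebra k C.functionField := ((C.germToFunctionField U).hom.comp φ).toAlgebra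
  haveI : IsFractionRing Γ(C, U) C.functionField := functionField_isFractionRing_of_isAffineOpen C U hU
  haveI : IsScalarTower k Γ(C, U) C.functionField := IsScalarTower.of_algebraMap_eq fun _ => rfl
  have hd : ringKrullDim Γ(C, U) ≤ (1 : ℕ) := by
    rw [← PrimeSpectrum.topologicalKrullDim_eq_ringKrullDim]
    change topologicalKrullDim (Spec Γ(C, U)) ≤ _
    rw [← IsHomeomorph.topologicalKrullDim_eq _ hU.isoSpec.hom.homeomorph.isHomeomorph]
    exact (topologicalKrullDim_subspace_le C (U : Set C)).trans (by rw [hdim]; rfl)
  obtain ⟨S, hS, halg⟩ := H29Curve.exists_finset_isAlgebraic k Γ(C, U) C.functionField 1 hd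
  haveI := halg
  have h := H29Ci.isCi_adjoin_finset (H29Ci.isCi_of_isAlgClosed k) S
  rw [zero_add] at h
  exact H29Ci.isCi_of_algebraic _ (H29Ci.isCi_mono hS h)

end Groth.Agent.S6649
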