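import Groth.Statements.S6653
import Groth.Agent.H05EGA4.EtCl.Integral
import Groth.Agent.H17.DualSh.Equidim
import Groth.Agent.H22Alg.NormCoker
import Groth.Agent.H19Grp.RegularSmooth

set_option autoImplicit false
set_option backward.isDefEq.respectTransparency.types false
open CategoryTheory CategoryTheory.Limits AlgebraicGeometry Opposite
universe u
open Curves

namespace Groth.Agent.S6653

/-- The fundamental exact sequence: with the divisor map left unnamed: let X be a smooth curve over an
algebraically closed field k (here: X integral of dimension one, smooth, separated and of finite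
type over k), let j : Spec O_{X,η} ⟶ X be the canonical morphism from the spectrum of the local ring
at the generic point, and for a closed point x let i_x : Spec κ(x) ⟶ X be its inclusion. Then the
canonical map G_{m,X} ⟶ j_* G_{m,η} is a monomorphism, and its cokernel is isomorphic to the direct
sum over all closed points of the sheaves (i_x)_* Z (existence of an isomorphism only; the direct
sum is given as any colimit cofan of that family). -/
theorem result (k : Type u) [Field k] [IsAlgClosed k] (X : Scheme.{u})
    (f : X ⟶ Spec (CommRingCat.of k)) [Smooth f] [IsSeparated f] [LocallyOfFiniteType f] [QuasiCompact f] [IsIntegral X]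
    (hdim : topologicalKrullDim ↥X = 1)
    (c : Cofan fun x : {x : ↥X // IsClosed ({x} : Set ↥X)} =>
      (EtCoh.push (X.fromSpecResidueField x.1)).obj (EtCoh.const (Spec (X.residueField x.1)) ℤ))
    (hc : IsColimit c) :
    Mono (EtLim.GmPush (X.fromSpecStalk (genericPoint ↥X))) ∧
      Nonempty (cokernel (EtLim.GmPush (X.fromSpecStalk (genericPoint ↥X))) ≅ c.pt) := by
  haveI : IsLocallyNoetherian X := LocallyOfFiniteType.isLocallyNoetherian f
  have heq : ∀ Z : Set ↥X, Z ∈ irreducibleComponents ↥X → topologicalKrullDim ↥Z = ((1 : ℕ) : WithBot ℕ∞) := by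
    intro Z hZ
    rw [irreducibleComponents_eq_singleton, Set.mem_singleton_iff] at hZ
    subst hZ
    rw [(Homeomorph.Set.univ ↥X).isHomeomorph.topologicalKrullDim_eq]
    exact_mod_cast hdim
  have hiff : ∀ x : ↥X, IsClosed ({x} : Set ↥X) ↔ ringKrullDim (X.presheaf.stalk x) = 1 := by
    intro x
    refine ⟨fun hx => ?_, fun hx => ?_⟩
    · exact_mod_cast Groth.Agent.H17.DualSh.ringKrullDim_closed f 1 heq x hx
    · by_contra hc'
      obtain rfl := Groth.Agent.H22Alg.NormCoker.eq_genericPoint_of_not_closed X hdim hc'
      rw [ringKrullDim_eq_zero_of_field (X.functionField)] at hx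
      exact absurd hx (by norm_num)
  let e : {x : ↥X // ringKrullDim (X.presheaf.stalk x) = 1} ≃ {x : ↥X // IsClosed ({x} : Set ↥X)} :=
    Equiv.subtypeEquivRight fun x => (hiff x).symm
  have hc' : IsColimit (Cofan.mk c.pt fun x : {x : ↥X // ringKrullDim (X.presheaf.stalk x) = 1} =>
      c.inj (e x)) := by
    refine (IsColimit.equivOfNatIsoOfIso (Discrete.natIso fun i => Iso.refl _) _ _ ?_).1
      (hc.whiskerEquivalence (Discrete.equivalence e))
    exact Cocone.ext (Iso.refl _) (fun i => by simp [Cofan.inj]; rfl)
  exact Groth.Agent.H05EGA4.EtCl.main_integral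
    (fun x => Groth.Agent.H19Grp.isRegularLocalRing_stalk_of_smooth f x) _ hc'

end Groth.Agent.S6653
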