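import Groth.Statements.S6654
import Groth.Agent.H18Et.ConstSubsheaf

set_option autoImplicit false
set_option backward.isDefEq.respectTransparency.types false
set_option backward.isDefEq.respectTransparency false
open scoped Groth.Agent.H18Et
open CategoryTheory CategoryTheory.Limits AlgebraicGeometry Opposite
universe u
open EtModW

namespace Groth.Agent.S6654

/-- Let X be an irreducible scheme, ξ a geometric point over its generic point, Λ a commutative ring, M'
a submodule of a Λ-module M, and G a sheaf of Λ-modules on the small etale site of X with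
monomorphisms a : const M' ⟶ G and b : G ⟶ const M whose composite is the map of constant sheaves
induced by the inclusion. If the stalk of a at ξ is an isomorphism, then a is an isomorphism. -/
theorem result (Λ : Type (u + 1)) [CommRing Λ] {X : Scheme.{u}} [IrreducibleSpace ↥X]
    {Ω : Type u} [Field Ω] [IsSepClosed Ω] (ξ : Spec (CommRingCat.of Ω) ⟶ X)
    (hξ : ξ.base default = genericPoint ↥X)
    (M : Type (u + 1)) [AddCommGroup M] [Module Λ M] (M' : Submodule Λ M) (G : EtModW.Mod Λ X)
    (a : EtModW.constMod Λ X ↥M' ⟶ G) (b : G ⟶ EtModW.constMod Λ X M) [Mono a] [Mono b]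
    (hab : a ≫ b = (constantSheaf X.smallEtaleTopology (ModuleCat.{u + 1} Λ)).map (ModuleCat.ofHom M'.subtype))
    (hst : IsIso ((EtModW.stalk Λ ξ).map a)) : IsIso a := by
  have hb : ∀ U : X.Etale, Function.Injective (b.hom.app (op U)) := fun U =>
    haveI : Mono b.hom := inferInstanceAs (Mono ((sheafToPresheaf _ _).map b))
    (ModuleCat.mono_iff_injective _).1 inferInstance
  have := hst
  haveI : HasProducts.{u} (ModuleCat.{u + 1} Λ) := fun J => (hasLimitsOfSizeShrink.{u, u, u + 1, u + 1} (ModuleCat.{u + 1} Λ)).has_limits_of_shape _
  haveI : PreservesFilteredColimitsOfSize.{u, u} (forget (ModuleCat.{u + 1} Λ)) :=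
    preservesFilteredColimitsOfSize_shrink.{u, u + 1, u, u + 1} _
  have := Groth.Agent.H18Et.ConstSheaf.isLocallySurjective_constMono ξ hξ _ G a b hb hab
    ((ModuleCat.epi_iff_surjective _).1 inferInstance)
  have : Epi a := Sheaf.epi_of_isLocallySurjective a
  exact isIso_of_mono_of_epi a

end Groth.Agent.S6654
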