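import Groth.Statements.S6656
import Groth.Agent.H15Site.CechDisjoint
import Groth.Agent.H18Et.PushClosed

set_option autoImplicit false
set_option backward.isDefEq.respectTransparency false
set_option backward.isDefEq.respectTransparency.types false
open CategoryTheory CategoryTheory.Limits AlgebraicGeometry Opposite
universe u
open EtCore

namespace Groth.Agent.S6656

/-- Let F be an abelian sheaf on the small etale site of a scheme X, U an etale X-scheme, {U_i ⟶ U} a
finite family of etale X-schemes over U, and V ⟶ U an etale X-scheme over U with U-morphisms U_i ⟶ V
making the underlying scheme of V the coproduct (disjoint union) of the U_i. Then the Čech complex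
of F for the family {U_i ⟶ U} and the Čech complex of F for the single morphism {V ⟶ U} are
isomorphic cochain complexes (existence of an isomorphism; fibre products over U in the small etale
site are carried as the finite-products binder of the Čech complex). (The published statement is for
a standard covering, whose members are affine; this row allows any finite family with V their
disjoint union, which the same argument covers.) -/
theorem result {X : Scheme.{u}} (F : EtCoh.Ab X) (U : X.Etale)
    [HasFiniteProducts (Over U)] {ι : Type (u + 1)} [Finite ι] (Uf : ι → Over U)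
    (V : Over U) (incl : ∀ i, Uf i ⟶ V)
    (hV : IsColimit (Cofan.mk V.left.left fun i => (incl i).left.left)) :
    Nonempty (EtCech.cechComplex Uf F.obj ≅ EtCech.cechComplex (fun _ : PUnit.{u + 2} => V) F.obj) := by
  let g : ι → Scheme.{u} := fun i => (Uf i).left.left
  let f : ∀ i, g i ⟶ V.left.left := fun i => (incl i).left.left
  haveI : Small.{u} ι := inferInstance
  let e : (∐ g) ≅ V.left.left := (coproductIsCoproduct g).coconePointUniqueUpToIso hV
  have he : ∀ i, Sigma.ι g i ≫ e.hom = f i := fun i =>
    IsColimit.comp_coconePointUniqueUpToIso_hom (coproductIsCoproduct g) hV ⟨i⟩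
  have hopen : ∀ i, Mono (f i) := fun i => by
    rw [← he i]
    infer_instance
  refine H15Site.CechDisjoint.nonempty_iso (J := X.smallEtaleTopology) F.obj Uf incl ?_ ?_ ?_ ?_
  · exact (isSheaf_iff_isSheaf_of_type _ _).1
      ((sheafCompose X.smallEtaleTopology (forget AddCommGrpCat.{u + 1})).obj F).property
  · intro i T a b h
    haveI := hopen i
    apply MorphismProperty.Over.Hom.ext
    rw [← cancel_mono (f i)]
    exact congrArg (fun k : T ⟶ V.left => k.left) h
  · rw [Scheme.ofArrows_mem_smallEtaleTopology_iff]
    refine Set.eq_univ_of_forall fun y => ?_
    obtain ⟨i, z, hz⟩ := (sigmaOpenCover g).exists_eq (e.inv y)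
    refine Set.mem_iUnion.2 ⟨i, z, ?_⟩
    show f i z = y
    rw [← he i]
    refine (congrArg e.hom hz).trans ?_
    exact congrArg (fun k : V.left.left ⟶ V.left.left => k y) e.inv_hom_id
  · intro i j hij T a b h
    refine H18Et.bot_mem_of_isEmpty T ?_
    refine isEmpty_of_commSq_sigmaι_of_ne (g := g) (a := a.left) (b := b.left) ⟨?_⟩ hij
    rw [← cancel_mono e.hom, Category.assoc, Category.assoc, he, he]
    exact congrArg (fun k : T ⟶ V.left => k.left) h

end Groth.Agent.S6656
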