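import Groth.Statements.S6659
import Groth.Agent.H26DerPush.Basic
import Groth.Agent.H18Et.PushClosed
import Groth.Agent.H18Et.PushImmersion
import Groth.Agent.H18Et.StalkSets

set_option autoImplicit false
universe u
open CategoryTheory CategoryTheory.Limits AlgebraicGeometry Opposite
attribute [local instance] HasDerivedCategory.standard
open EtDual

namespace Groth.Agent.S6659

/-- Let i : Z → X be a closed immersion of schemes with open complement j : U → X. The direct image i_*
of abelian etale sheaves is exact (its right exactness is carried as an instance hypothesis), and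
the induced functor D(Z_et) → D(X_et) is fully faithful; an object K of D(X_et) lies in its
essential image if and only if every cohomology sheaf of K has zero restriction to U, i.e. K has
cohomology sheaves supported on Z. (The identification of the quasi-inverse with the derived functor
of sections supported on Z is not part of this row.) -/
theorem result {Z X U : Scheme.{u}} (i : Z ⟶ X)
    [IsClosedImmersion i] (j : U ⟶ X) [IsOpenImmersion j] (hZU : Set.range j = (Set.range i)ᶜ)
    [PreservesFiniteColimits (EtCoh.push i)] :
    ((EtCoh.push i).mapDerivedCategory.Full ∧ (EtCoh.push i).mapDerivedCategory.Faithful) ∧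
      ∀ K : DCoh.DEt X,
        (EtCoh.push i).mapDerivedCategory.essImage K ↔
          ∀ n : ℤ, IsZero ((EtCoh.pull j).obj (DCoh.HDEt K n)) := by
  have hcl : IsClosed (Set.range i.base) := i.isClosedEmbedding.isClosed_range
  have hl : H18Et.LiftsEtaleUniv i := H18Et.liftsEtaleUniv_of_isClosedImmersion i
  haveI := fun G => H18Et.isIso_counit_of_liftsEtaleUniv hl G
  haveI : IsIso (EtCoh.pullPushAdj i).counit := NatIso.isIso_of_isIso_app _
  haveI : PreservesFiniteLimits (EtCoh.pull i) := H18Et.pull_preservesFiniteLimits i
  refine ⟨H26DerPush.full_faithful (EtCoh.pullPushAdj i), fun K => ?_⟩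
  rw [H26DerPush.essImage_iff (EtCoh.pullPushAdj i) K]
  refine forall_congr' fun n => ?_
  rw [H18Et.push_essImage_iff hl hcl]
  constructor
  · intro hs
    refine (H18Et.isZero_iff_stalk _).2 fun Ω _ _ ξ => ?_
    refine IsZero.of_iso ?_ ((H18Et.stalkPullIso j ξ).app _)
    by_contra hne
    have hx : (ξ ≫ j).base default ∈ Set.range j := ⟨ξ default, (Scheme.Hom.comp_apply _ _ _).symm⟩
    rw [hZU] at hx
    exact hx (hs ⟨Ω, inferInstance, inferInstance, ξ ≫ j, Set.range_eq_singleton_iff.2
      fun y => congrArg _ (Subsingleton.elim y default), hne⟩)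
  · rintro h x ⟨Ω, _, _, ξ, hξ, hne⟩
    by_contra hx
    refine hne ?_
    have hxj : x ∈ Set.range j := by rw [hZU]; exact hx
    have hr : Set.range ξ ⊆ Set.range j := by rw [hξ]; exact Set.singleton_subset_iff.2 hxj
    rw [← IsOpenImmersion.lift_fac j ξ hr]
    exact (((H18Et.isZero_iff_stalk _).1 h Ω (IsOpenImmersion.lift j ξ hr))).of_iso
      ((H18Et.stalkPullIso j (IsOpenImmersion.lift j ξ hr)).app _).symm

end Groth.Agent.S6659
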