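import Groth.Statements.S6660
import Groth.Agent.H1DFun.BCInjCoker

set_option autoImplicit false
universe u
open CategoryTheory CategoryTheory.Limits AlgebraicGeometry Opposite
open EtBC

namespace Groth.Agent.S6660

/-- Let f : X → S be a morphism of schemes and n, q integers with q ≥ 1, and assume BC(f, n, q − 1).
Here BC(f, n, q − 1) means: for every base change f₁ : X₁ → S₁ of f along a morphism S₁ → S, every
cartesian square Y₁ = X₁ ×_{S₁} T₁ over a quasi-compact quasi-separated g₁ : T₁ → S₁ (with h₁ : Y₁ →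
X₁, e₁ : Y₁ → T₁), and every abelian sheaf G on the small etale site of T₁ killed by n, the base
change map f₁⁻¹ R^a g₁,_* G → R^a h₁,_* e₁⁻¹ G is an isomorphism for all a ≤ q − 1. Then for every
base change f' : X' → S' of f, every cartesian square Y = X' ×_{S'} T over a quasi-compact
quasi-separated g : T → S' (h : Y → X', e : Y → T) and every abelian sheaf F on the small etale site
of T killed by n: (1) the degree-q base change map f'⁻¹ R^q g_* F → R^q h_* e⁻¹ F is a monomorphism;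
(2) for every monomorphism F → G with G killed by n, the map from the cokernel of the degree-q base
change map for F to the cokernel of the one for G induced by F → G is a monomorphism. -/
theorem result {X S : Scheme.{u}} (f : X ⟶ S) (n q : ℕ) (hq : 1 ≤ q)
    (hBC : (∀ ⦃S₁ X₁ T₁ Y₁ : Scheme.{u}⦄ (p₁ : S₁ ⟶ S) (f₁ : X₁ ⟶ S₁) (r₁ : X₁ ⟶ X),
        IsPullback r₁ f₁ f p₁ →
        ∀ (g₁ : T₁ ⟶ S₁) (h₁ : Y₁ ⟶ X₁) (e₁ : Y₁ ⟶ T₁) (c₁ : IsPullback e₁ h₁ g₁ f₁)
          [QuasiCompact g₁] [QuasiSeparated g₁] [PreservesFiniteLimits (EtCoh.pull e₁)]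
          (G₁ : EtCoh.Ab T₁), EtCoh.KilledBy n G₁ →
          ∀ q₁ : ℕ, q₁ ≤ q - 1 → IsIso (EtBC.bcQ g₁ f₁ h₁ e₁ c₁.w q₁ G₁)))
    {S' X' T Y : Scheme.{u}} (p : S' ⟶ S) (f' : X' ⟶ S') (r : X' ⟶ X) (hX : IsPullback r f' f p)
    (g : T ⟶ S') (h : Y ⟶ X') (e : Y ⟶ T) (c : IsPullback e h g f') [QuasiCompact g] [QuasiSeparated g]
    [PreservesFiniteLimits (EtCoh.pull e)] (F : EtCoh.Ab T) (hF : EtCoh.KilledBy n F) :
    Mono (EtBC.bcQ g f' h e c.w q F) ∧
      ∀ (G : EtCoh.Ab T) (ι : F ⟶ G) [Mono ι], EtCoh.KilledBy n G →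
        ∃ φ : cokernel (EtBC.bcQ g f' h e c.w q F) ⟶ cokernel (EtBC.bcQ g f' h e c.w q G), Mono φ ∧
          cokernel.π (EtBC.bcQ g f' h e c.w q F) ≫ φ =
            (EtCoh.Rpush h q).map ((EtCoh.pull e).map ι) ≫ cokernel.π (EtBC.bcQ g f' h e c.w q G) := by
  obtain ⟨i, rfl⟩ : ∃ i, q = i + 1 := ⟨q - 1, by omega⟩
  have hb : ∀ G : EtCoh.Ab T, EtCoh.KilledBy n G → IsIso (EtBC.bcQ g f' h e c.w i G) :=
    fun G hG => hBC p f' r hX g h e c G hG i (by omega)
  exact ⟨Groth.Agent.H1DFun.mono_bcQ_succ f' g h e c.w hb F hF,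
    fun G ι _ hG => Groth.Agent.H1DFun.exists_mono_cokernel_bcQ_succ f' g h e c.w hb F G ι hG⟩

end Groth.Agent.S6660
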