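import Groth.Statements.S6662
import Groth.Agent.H1DFun.BCBase

set_option autoImplicit false
universe u
open CategoryTheory CategoryTheory.Limits AlgebraicGeometry Opposite
open EtBC

set_option backward.isDefEq.respectTransparency false
set_option backward.isDefEq.respectTransparency.types false

namespace Groth.Agent.S6662

/-- Let f : X → S be a morphism of schemes, n and q ≥ 1 integers, and assume BC(f, n, q − 1). Here BC(f,
n, q − 1) means: for every base change f₁ : X₁ → S₁ of f along a morphism S₁ → S, every cartesian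
square Y₁ = X₁ ×_{S₁} T₁ over a quasi-compact quasi-separated g₁ : T₁ → S₁ (with h₁ : Y₁ → X₁, e₁ :
Y₁ → T₁), and every abelian sheaf G on the small etale site of T₁ killed by n, the base change map
f₁⁻¹ R^a g₁,_* G → R^a h₁,_* e₁⁻¹ G is an isomorphism for all a ≤ q − 1. Let f' : X' → S' be a base
change of f, π : S'' → S' an integral morphism with base change f'' : X'' = X' ×_{S'} S'' → S'' (π'
: X'' → X'), g' : T → S'' quasi-compact and quasi-separated, Y = X'' ×_{S''} T (h' : Y → X'', e : Y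
→ T), so that the outer square Y → X' over T → S' (with maps h' ≫ π' and g' ≫ π) is cartesian too,
and F an abelian sheaf on the small etale site of T killed by n. If the degree-q base change map for
the outer square is an isomorphism, then the degree-q base change map f''⁻¹ R^q g'_* F → R^q h'_*
e⁻¹ F is an isomorphism. -/
theorem result {X S : Scheme.{u}} (f : X ⟶ S) (n q : ℕ) (hq : 1 ≤ q)
    (hBC : (∀ ⦃S₁ X₁ T₁ Y₁ : Scheme.{u}⦄ (p₁ : S₁ ⟶ S) (f₁ : X₁ ⟶ S₁) (r₁ : X₁ ⟶ X),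
        IsPullback r₁ f₁ f p₁ →
        ∀ (g₁ : T₁ ⟶ S₁) (h₁ : Y₁ ⟶ X₁) (e₁ : Y₁ ⟶ T₁) (c₁ : IsPullback e₁ h₁ g₁ f₁)
          [QuasiCompact g₁] [QuasiSeparated g₁] [PreservesFiniteLimits (EtCoh.pull e₁)]
          (G₁ : EtCoh.Ab T₁), EtCoh.KilledBy n G₁ →
          ∀ q₁ : ℕ, q₁ ≤ q - 1 → IsIso (EtBC.bcQ g₁ f₁ h₁ e₁ c₁.w q₁ G₁)))
    {S' X' S'' X'' T Y : Scheme.{u}} (p : S' ⟶ S) (f' : X' ⟶ S') (r : X' ⟶ X) (hX : IsPullback r f' f p)
    (π : S'' ⟶ S') [IsIntegralHom π] (f'' : X'' ⟶ S'') (π' : X'' ⟶ X') (hX'' : IsPullback π' f'' f' π)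
    (g' : T ⟶ S'') [QuasiCompact g'] [QuasiSeparated g'] (h' : Y ⟶ X'') (e : Y ⟶ T)
    (c : IsPullback e h' g' f'') (c' : IsPullback e (h' ≫ π') (g' ≫ π) f')
    [PreservesFiniteLimits (EtCoh.pull e)] (F : EtCoh.Ab T) (hF : EtCoh.KilledBy n F)
    (hiso : IsIso (EtBC.bcQ (g' ≫ π) f' (h' ≫ π') e c'.w q F)) :
    IsIso (EtBC.bcQ g' f'' h' e c.w q F) := by
  refine Groth.Agent.H18Et.isIso_of_stalk _ fun x => ?_
  let η : Spec (CommRingCat.of (AlgebraicClosure (X''.residueField x))) ⟶ X'' :=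
    (Scheme.SpecToEquivOfField (AlgebraicClosure (X''.residueField x)) X'').symm
      ⟨x, CommRingCat.ofHom (algebraMap (X''.residueField x) _)⟩
  have hx : η.base default = x := by simp [η]
  refine ⟨_, inferInstance, inferInstance, η, hx,
    (Groth.Agent.H1DFun.bcBij_iff_bijective f'' g' h' e c.w F q η).1 ?_⟩
  have H := (Groth.Agent.H1DFun.isIso_bcQ_iff f' (g' ≫ π) (h' ≫ π') e c'.w F q).1 hiso _ (η ≫ π')
  exact ⟨Groth.Agent.H1DFun.cInj_base g' h' e F q c.w c'.w hX'' η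
      (Groth.Agent.H1DFun.cInj_of_bcBij f' (g' ≫ π) (h' ≫ π') e c'.w H),
    Groth.Agent.H1DFun.cSurj_base g' h' e F q c.w c'.w hX'' η
      (Groth.Agent.H1DFun.cSurj_of_bcBij f' (g' ≫ π) (h' ≫ π') e c'.w H)⟩


end Groth.Agent.S6662
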