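import Groth.Statements.S6668
import Groth.Agent.H1DFun.BCLocalEt

set_option autoImplicit false
universe u
open CategoryTheory CategoryTheory.Limits AlgebraicGeometry Opposite
open EtBC

namespace Groth.Agent.S6668

set_option backward.isDefEq.respectTransparency false
set_option backward.isDefEq.respectTransparency.types false

open Groth.Agent.H1DFun

/-- Let Y = X ×_S T be a cartesian square of schemes with f : X → S, g : T → S, h : Y → X, e : Y → T,
let F be an abelian sheaf on the small etale site of T and q ≥ 0. Let (U_i → X) be a jointly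
surjective family of etale X-schemes such that every U_i → S factors as a_i : U_i → V_i followed by
an etale V_i → S, and let T_i = V_i ×_S T (projections g_i : T_i → V_i, t_i : T_i → T) and Y_i = U_i
×_{V_i} T_i (projections h_i : Y_i → U_i, e_i : Y_i → T_i). If for every i the degree-q base change
map a_i⁻¹ R^q g_i,_* (t_i⁻¹ F) → R^q h_i,_* e_i⁻¹ (t_i⁻¹ F) is an isomorphism, then the degree-q
base change map f⁻¹ R^q g_* F → R^q h_* e⁻¹ F is an isomorphism. -/
theorem result {X S Y T : Scheme.{u}} (f : X ⟶ S) (g : T ⟶ S) (h : Y ⟶ X) (e : Y ⟶ T)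
    (c : IsPullback e h g f) [PreservesFiniteLimits (EtCoh.pull e)] (F : EtCoh.Ab T) (q : ℕ)
    {ι : Type u} (U : ι → X.Etale) (hU : EtCoh.Covers U) (V : ι → S.Etale)
    (a : ∀ i, (U i).left ⟶ (V i).left) (ha : ∀ i, a i ≫ (V i).hom = (U i).hom ≫ f)
    (Ti Yi : ι → Scheme.{u}) (gi : ∀ i, Ti i ⟶ (V i).left) (ti : ∀ i, Ti i ⟶ T)
    (cT : ∀ i, IsPullback (ti i) (gi i) g (V i).hom)
    (hi : ∀ i, Yi i ⟶ (U i).left) (ei : ∀ i, Yi i ⟶ Ti i) (cY : ∀ i, IsPullback (ei i) (hi i) (gi i) (a i))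
    [∀ i, PreservesFiniteLimits (EtCoh.pull (ei i))]
    (hloc : ∀ i, IsIso (EtBC.bcQ (gi i) (a i) (hi i) (ei i) (cY i).w q ((EtCoh.pull (ti i)).obj F))) :
    IsIso (EtBC.bcQ g f h e c.w q F) := by
  refine (isIso_bcQ_iff f g h e c.w F q).2 fun Ω _ _ η => ?_
  obtain ⟨i, u, hu⟩ := hU (η.base default)
  obtain ⟨t, -⟩ := Groth.Agent.H18Et.exists_fiber_over u η hu.symm
  obtain ⟨η', hη'⟩ : ∃ η' : Spec (CommRingCat.of Ω) ⟶ (U i).left, η' ≫ (U i).hom = η := ⟨t.left, Over.w t⟩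
  clear hu t
  subst hη'
  haveI : Etale (U i).hom := (U i).prop
  haveI : Etale (V i).hom := (V i).prop
  have cYT : IsPullback (ei i ≫ ti i) (hi i) g ((U i).hom ≫ f) := by
    rw [← ha i]
    exact (cY i).paste_horiz (cT i)
  obtain ⟨k, hke, hkh⟩ : ∃ k : Yi i ⟶ Y, k ≫ e = ei i ≫ ti i ∧ k ≫ h = hi i ≫ (U i).hom :=
    ⟨c.lift (ei i ≫ ti i) (hi i ≫ (U i).hom) (cYT.w.trans (Category.assoc _ _ _).symm), c.lift_fst _ _ _,
      c.lift_snd _ _ _⟩
  have cK : IsPullback k (hi i) h (U i).hom := IsPullback.of_right (hke.symm ▸ cYT) hkh c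
  exact BCBij.of_etale f g h e c.w (U i).hom (V i).hom (a i) (ha i) (gi i) (ti i) (cT i) (hi i) (ei i)
    (cY i).w k cK hke F q η'
    ((isIso_bcQ_iff (a i) (gi i) (hi i) (ei i) (cY i).w ((EtCoh.pull (ti i)).obj F) q).1 (hloc i) Ω η')

end Groth.Agent.S6668
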