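import Groth.Statements.S6688
import Groth.Agent.H13Desc.BigExact
import Groth.Agent.H13Desc.DerivedComm

set_option autoImplicit false
universe u
open CategoryTheory CategoryTheory.Limits AlgebraicGeometry Opposite
open BigSite

namespace Groth.Agent.S6688

/-- For a single abelian sheaf, i.e. a complex in degree 0; the vanishing part: let S be a scheme and F
an abelian sheaf on the small etale site of S; write π_S⁻¹ F for its pullback to the big etale site
and π_{S,*} for restriction back to S_et. Then R^q π_{S,*} (π_S⁻¹ F) = 0 for every q > 0. (The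
published statement is that F → Rπ_{S,*} π_S⁻¹ F is an isomorphism; for a single sheaf this amounts
to the unit F → π_{S,*} π_S⁻¹ F being an isomorphism, which is stated separately, together with the
vanishing asserted here.) -/
theorem result (S : Scheme.{u}) (F : EtCoh.Ab S) (q : ℕ) (hq : 0 < q) :
    IsZero ((BigSite.RresEt Scheme.etalePrecoverage S q).obj ((BigSite.piEtPull Scheme.etalePrecoverage S).obj F)) := by
  obtain ⟨m, rfl⟩ := Nat.exists_eq_add_one_of_ne_zero (Nat.pos_iff_ne_zero.mp hq)
  obtain ⟨h1, h2⟩ := Groth.Agent.H13Desc.BigExact.resEt_exact S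
  obtain ⟨I⟩ : Nonempty (InjectiveResolution ((BigSite.piEtPull Scheme.etalePrecoverage S).obj F)) :=
    HasInjectiveResolution.out
  refine IsZero.of_iso ?_ (I.isoRightDerivedObj _ (m + 1))
  refine IsZero.of_iso ?_ ((I.cocomplex.sc (m + 1)).mapHomologyIso (BigSite.resEt Scheme.etalePrecoverage S))
  exact Functor.map_isZero _ ((ShortComplex.exact_iff_isZero_homology _).1 ((HomologicalComplex.exactAt_iff _ _).1 (I.cocomplex_exactAt_succ m)))

end Groth.Agent.S6688
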