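import Groth.Statements.S6691
import Groth.Agent.H11SetBC.EtaleLocal

set_option autoImplicit false
universe u
open CategoryTheory CategoryTheory.Limits AlgebraicGeometry Opposite
open EtBC

namespace Groth.Agent.S6691
open scoped Groth.Agent.H18Et

/-- Let Y = X ×_S T be a cartesian square of schemes with f : X → S, g : T → S, h : Y → X, e : Y → T,
and F a sheaf of sets on the small etale site of T. Let (U_i → X) be a jointly surjective family of
etale X-schemes such that every U_i → S factors as a_i : U_i → V_i followed by an etale V_i → S, and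
let T_i = V_i ×_S T (projections g_i, t_i) and Y_i = U_i ×_{V_i} T_i (projections h_i, e_i). If for
every i the base change map a_i⁻¹ g_i,_* (t_i⁻¹ F) → h_i,_* e_i⁻¹ (t_i⁻¹ F) is an isomorphism, then
the base change map f⁻¹ g_* F → h_* e⁻¹ F is an isomorphism. -/
theorem result {X S Y T : Scheme.{u}} (f : X ⟶ S) (g : T ⟶ S) (h : Y ⟶ X) (e : Y ⟶ T)
    (c : IsPullback e h g f) (F : EtDesc.Sh T)
    {ι : Type u} (U : ι → X.Etale) (hU : EtCoh.Covers U) (V : ι → S.Etale)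
    (a : ∀ i, (U i).left ⟶ (V i).left) (ha : ∀ i, a i ≫ (V i).hom = (U i).hom ≫ f)
    (Ti Yi : ι → Scheme.{u}) (gi : ∀ i, Ti i ⟶ (V i).left) (ti : ∀ i, Ti i ⟶ T)
    (cT : ∀ i, IsPullback (ti i) (gi i) g (V i).hom)
    (hi : ∀ i, Yi i ⟶ (U i).left) (ei : ∀ i, Yi i ⟶ Ti i) (cY : ∀ i, IsPullback (ei i) (hi i) (gi i) (a i))
    (hloc : ∀ i, IsIso (EtBC.baseChange0Sh (gi i) (a i) (hi i) (ei i) (cY i).w ((EtDesc.pullSh (ti i)).obj F))) :
    IsIso (EtBC.baseChange0Sh g f h e c.w F) := by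
  refine H18Et.isIso_of_stalkSh _ fun x => ?_
  obtain ⟨i, u, hux⟩ := hU x
  haveI : IsSepClosed (SeparableClosure ((U i).left.residueField u)) := SeparableClosure.isSepClosed _
  let η' := H18Et.geomPt u
  let η := η' ≫ (U i).hom
  refine ⟨_, _, SeparableClosure.isSepClosed _, η, ?_, ?_⟩
  · exact (congrArg ((U i).hom : (U i).left ⟶ X) (H18Et.geomPt_base u)).trans hux
  haveI := (U i).prop
  haveI := (V i).prop
  let eY : Yi i ⟶ Y := c.lift (ei i ≫ ti i) (hi i ≫ (U i).hom) (by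
    rw [Category.assoc, (cT i).w, ← Category.assoc, (cY i).w, Category.assoc, Category.assoc, ha i])
  have he : eY ≫ e = ei i ≫ ti i := c.lift_fst _ _ _
  have hbig : IsPullback (eY ≫ e) (hi i) g ((U i).hom ≫ f) := by
    rw [he, ← ha i]
    exact (cY i).paste_horiz (cT i)
  have cU : IsPullback eY (hi i) h (U i).hom := IsPullback.of_right hbig (c.lift_snd _ _ _) c
  let ξ := η ≫ f
  have hξb : η' ≫ (U i).hom ≫ f = ξ := (Category.assoc _ _ _).symm
  have hξ' : (η' ≫ a i) ≫ (V i).hom = ξ := by rw [Category.assoc, ha i, hξb]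
  haveI := H11SetBC.isIso_baseChange0Sh_etale (U i).hom h (hi i) eY cU ((EtDesc.pullSh e).obj F)
  haveI := H11SetBC.isIso_baseChange0Sh_etale (V i).hom g (gi i) (ti i) (cT i) F
  haveI := hloc i
  have p1 := H11SetBC.stalkBC_paste f g h e c.w (U i).hom (hi i) eY cU.w ((U i).hom ≫ f) (eY ≫ e) rfl rfl hbig.w F
    η' η rfl ξ rfl hξb
  have p2 := H11SetBC.stalkBC_paste (V i).hom g (gi i) (ti i) (cT i).w (a i) (hi i) (ei i) (cY i).w ((U i).hom ≫ f)
    (eY ≫ e) (ha i) he.symm hbig.w F η' (η' ≫ a i) rfl ξ hξ' hξb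
  have hvia : ∀ {Z : Scheme.{u}} (e₁ : Z ⟶ T) (e₂ : Yi i ⟶ Z) (h₂ : e₂ ≫ e₁ = eY ≫ e),
      Function.Bijective (H11SetBC.stalkVia e₁ (hi i) e₂ (eY ≫ e) h₂ F η') := fun e₁ e₂ h₂ =>
    (isIso_iff_bijective _).1 inferInstance
  have hbigBij : Function.Bijective (H11SetBC.stalkBC ((U i).hom ≫ f) g (hi i) (eY ≫ e) hbig.w F η' ξ hξb) := by
    refine (Function.Bijective.of_comp_iff' (hvia (ti i) (ei i) he.symm) _).1 ?_
    rw [← p2]
    exact (H11SetBC.bijective_stalkBC (a i) (gi i) (hi i) (ei i) (cY i).w _ η' _ rfl).comp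
      (H11SetBC.bijective_stalkBC (V i).hom g (gi i) (ti i) (cT i).w F _ ξ hξ')
  refine (H11SetBC.bijective_stalkBC_iff f g h e c.w F η ξ rfl).1 ?_
  refine (Function.Bijective.of_comp_iff'
    (H11SetBC.bijective_stalkBC (U i).hom h (hi i) eY cU.w ((EtDesc.pullSh e).obj F) η' η rfl) _).1 ?_
  rw [p1]
  exact (hvia e eY rfl).comp hbigBij

end Groth.Agent.S6691
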