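import Groth.Statements.S6696
import Groth.Agent.H13Desc.BigExact
import Groth.Agent.H13Desc.DerivedComm
import Groth.Agent.S12464

set_option autoImplicit false
universe u
open CategoryTheory CategoryTheory.Limits AlgebraicGeometry Opposite
open BigSite

namespace Groth.Agent.S6696

/-- Part (5): for an abelian sheaf and degree by degree: let f : T → S be a morphism of schemes, g : S'
→ S a scheme over S and T' = S' ×_S T with projections g' : T' → T and f' : T' → S'. For an abelian
sheaf F on the big etale site of T and every q ≥ 0, the restriction g_big⁻¹ (R^q f_{big,*} F) of the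
big-site higher direct image to the big etale site of S' is isomorphic to R^q f'_{big,*} (g'_big⁻¹
F). (Existence of an isomorphism only.) -/
theorem result {T S T' S' : Scheme.{u}} (f : T ⟶ S) (g : S' ⟶ S)
    (g' : T' ⟶ T) (f' : T' ⟶ S') (c : IsPullback g' f' f g) (F : BigSite.Ab Scheme.etalePrecoverage T) (q : ℕ) :
    Nonempty ((BigSite.pullBig Scheme.etalePrecoverage g AddCommGrpCat.{u + 1}).obj
        ((BigSite.RpushBig Scheme.etalePrecoverage f q).obj F) ≅
      (BigSite.RpushBig Scheme.etalePrecoverage f' q).obj
        ((BigSite.pullBig Scheme.etalePrecoverage g' AddCommGrpCat.{u + 1}).obj F)) := by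
  obtain ⟨h1, h2⟩ := Groth.Agent.H13Desc.BigExact.pullBig_exact Scheme.etalePrecoverage g
  obtain ⟨h3, h4⟩ := Groth.Agent.H13Desc.BigExact.pullBig_exact Scheme.etalePrecoverage g'
  obtain ⟨e⟩ := (Groth.Agent.S12464.result f g g' f' c AddCommGrpCat.{u + 1}).2
  exact Groth.Agent.H13Desc.DerivedComm.nonempty_iso _ _ _ _
    (fun I _ => Groth.Agent.H13Desc.BigExact.injective_pullBig _ g' I) e q F

end Groth.Agent.S6696
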