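import Groth.Statements.S6699
import Groth.Agent.H15Site.ModShriek.Main

set_option autoImplicit false
set_option linter.style.haveILetI false
set_option backward.isDefEq.respectTransparency false
set_option backward.isDefEq.respectTransparency.types false
universe u
open CategoryTheory CategoryTheory.Limits AlgebraicGeometry Opposite
attribute [local instance] HasDerivedCategory.standard
open EtModD

namespace Groth.Agent.S6699

/-- Let X be a quasi-compact and quasi-separated scheme, Λ a Noetherian ring, K an object of D(X_et, Λ)
and b an integer such that the b-th cohomology sheaf of K is a constructible sheaf of Λ-modules.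
Then there exist finitely many affine schemes U_k with etale morphisms j_k : U_k → X and a morphism
φ : F[-b] → K in D(X_et, Λ), where F is the direct sum of the sheaves j_{k!} Λ (extension by zero of
the constant sheaf Λ on U_k) placed in degree b, such that the map induced by φ on b-th cohomology
sheaves is an epimorphism F → H^b(K). (Continuity of the functors V ↦ (V → U_k → X) between small
etale sites, true for every etale morphism, appears as an instance binder in front of the
extension-by-zero terms.) -/
theorem result (Λ : Type (u + 1)) [CommRing Λ] [IsNoetherianRing Λ] (X : Scheme.{u})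
    [CompactSpace X] [QuasiSeparatedSpace X] (K : EtModD.D Λ X) (b : ℤ)
    (hK : EtModW.IsConstructible Λ (EtModD.HD K b)) :
    ∃ (m : ℕ) (U : Fin m → Scheme.{u}) (j : ∀ k, U k ⟶ X) (_ : ∀ k, Etale (j k)) (_ : ∀ k, IsAffine (U k)),
      ∀ [∀ k, EtShriek.JCont (j k)],
        ∃ φ : (DerivedCategory.singleFunctor (EtModW.Mod Λ X) b).obj
              (∐ fun k => (EtSix.extZeroMod Λ (j k)).obj (EtSix.constΛ Λ (U k))) ⟶ K,
          Epi ((DerivedCategory.homologyFunctor (EtModW.Mod Λ X) b).map φ) := by
  let L := DerivedCategory.Q.objPreimage K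
  let e : DerivedCategory.Q.obj L ≅ K := DerivedCategory.Q.objObjPreimageIso K
  let eH : (DerivedCategory.homologyFunctor (EtModW.Mod Λ X) b).obj K ≅ L.homology b :=
    (DerivedCategory.homologyFunctor _ b).mapIso e.symm ≪≫ (DerivedCategory.homologyFunctorFactors _ b).app L
  obtain ⟨m, U, j, hj, hU, h⟩ := Groth.Agent.H15Site.ModShriek.exists_epi_gen (L.homologyπ b)
    (Groth.Agent.H18Et.Cons.isConstructible_mod_of_isoClass Λ eH hK)
  refine ⟨m, U, j, hj, hU, ?_⟩
  intro hJ
  obtain ⟨ψ, hψ⟩ := h
  let G := ∐ fun k => (EtSix.extZeroMod Λ (j k)).obj (EtSix.constΛ Λ (U k))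
  let f : (HomologicalComplex.single (EtModW.Mod Λ X) (ComplexShape.up ℤ) b).obj G ⟶ L :=
    HomologicalComplex.mkHomFromSingle (ψ ≫ L.iCycles b) (fun k _ => by
      rw [Category.assoc, HomologicalComplex.iCycles_d, comp_zero])
  refine ⟨(DerivedCategory.singleFunctorIsoCompQ (EtModW.Mod Λ X) b).hom.app G ≫ DerivedCategory.Q.map f ≫ e.hom, ?_⟩
  haveI : Epi (HomologicalComplex.homologyMap f b) := by
    have hc : (HomologicalComplex.singleObjCyclesSelfIso (ComplexShape.up ℤ) b G).inv ≫
        HomologicalComplex.cyclesMap f b = ψ := by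
      rw [← cancel_mono (L.iCycles b), Category.assoc, HomologicalComplex.cyclesMap_i, ← Category.assoc,
        HomologicalComplex.mkHomFromSingle_f]
      simp
    haveI : Epi (ψ ≫ L.homologyπ b) := hψ
    refine epi_of_epi_fac (f := (HomologicalComplex.singleObjCyclesSelfIso (ComplexShape.up ℤ) b G).inv ≫
      ((HomologicalComplex.single (EtModW.Mod Λ X) (ComplexShape.up ℤ) b).obj G).homologyπ b) (h := ψ ≫ L.homologyπ b) ?_
    rw [Category.assoc, HomologicalComplex.homologyπ_naturality, ← Category.assoc, hc]
  haveI : Epi ((DerivedCategory.homologyFunctor (EtModW.Mod Λ X) b).map (DerivedCategory.Q.map f)) :=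
    ((MorphismProperty.epimorphisms (EtModW.Mod Λ X)).arrow_mk_iso_iff
      ((Arrow.isoMk ((DerivedCategory.homologyFunctorFactors _ b).app _) ((DerivedCategory.homologyFunctorFactors _ b).app _)
        ((DerivedCategory.homologyFunctorFactors (EtModW.Mod Λ X) b).hom.naturality f).symm))).2 ‹_›
  rw [Functor.map_comp, Functor.map_comp]
  infer_instance

end Groth.Agent.S6699
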