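import Groth.Statements.S6700
import Groth.Agent.H15Site.ModShriek.Main

set_option autoImplicit false
set_option linter.style.haveILetI false
set_option backward.isDefEq.respectTransparency false
set_option backward.isDefEq.respectTransparency.types false
universe u
open CategoryTheory CategoryTheory.Limits AlgebraicGeometry Opposite
attribute [local instance] HasDerivedCategory.standard
open EtModD

namespace Groth.Agent.S6700

/-- (1) ⇔ (2): let X be a quasi-compact and quasi-separated scheme, Λ a Noetherian ring and K an object
of D(X_et, Λ) which is bounded above. Then every cohomology sheaf of K is a constructible sheaf of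
Λ-modules if and only if K is isomorphic, in D(X_et, Λ), to the image of a bounded above complex of
sheaves of Λ-modules each of whose terms is isomorphic to a finite direct sum of sheaves j_! Λ,
extensions by zero of the constant sheaf Λ along etale morphisms j : U → X with U affine. (A third
equivalent condition, representability by a bounded above complex of flat constructible sheaves of
Λ-modules, is not included. Continuity of the functors V ↦ (V → U → X) between small etale sites,
true for every etale morphism, appears as an instance binder in front of the extension-by-zero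
terms.) -/
theorem result (Λ : Type (u + 1)) [CommRing Λ]
    [IsNoetherianRing Λ] (X : Scheme.{u}) [CompactSpace X] [QuasiSeparatedSpace X] (K : EtModD.D Λ X) (n : ℤ)
    [K.IsLE n] :
    (∀ i : ℤ, EtModW.IsConstructible Λ (EtModD.HD K i)) ↔
      ∃ (C : CochainComplex (EtModW.Mod Λ X) ℤ) (c : ℤ),
        (∀ i : ℤ, c < i → IsZero (C.X i)) ∧
        (∀ i : ℤ, ∃ (m : ℕ) (U : Fin m → Scheme.{u}) (j : ∀ k, U k ⟶ X) (_ : ∀ k, Etale (j k))
            (_ : ∀ k, IsAffine (U k)),
            ∀ [∀ k, EtShriek.JCont (j k)],
              Nonempty (C.X i ≅ ∐ fun k => (EtSix.extZeroMod Λ (j k)).obj (EtSix.constΛ Λ (U k)))) ∧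
        Nonempty (DerivedCategory.Q.obj C ≅ K) := by
  open scoped Groth.Agent.H18Et in
  constructor
  · intro hK
    obtain ⟨L, hL, ⟨e⟩⟩ := DerivedCategory.exists_iso_Q_obj_of_isLE K n
    let eH : ∀ i, (DerivedCategory.homologyFunctor (EtModW.Mod Λ X) i).obj K ≅ L.homology i := fun i =>
      (DerivedCategory.homologyFunctor _ i).mapIso e ≪≫ (DerivedCategory.homologyFunctorFactors _ i).app L
    obtain ⟨C, f, hf, hC, hC0⟩ := Groth.Agent.H15Site.LeftRes.exists_quasiIso Groth.Agent.H15Site.ModShriek.hyp_leftRes
      (fun i => Groth.Agent.H18Et.Cons.isConstructible_mod_of_isoClass Λ (eH i) (hK i)) n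
      (fun i hi => ((L.exactAt_of_isLE n i hi).isZero_homology))
    haveI : IsIso (DerivedCategory.Q.map f) := (DerivedCategory.isIso_Q_map_iff_quasiIso _ f).2 hf
    exact ⟨C, n, hC0, hC, ⟨asIso (DerivedCategory.Q.map f) ≪≫ e.symm⟩⟩
  · rintro ⟨C, c, -, hC, ⟨e⟩⟩ i
    exact Groth.Agent.H18Et.Cons.isConstructible_mod_of_isoClass Λ
      (((DerivedCategory.homologyFunctor _ i).mapIso e).symm ≪≫ (DerivedCategory.homologyFunctorFactors _ i).app C).symm
      (Groth.Agent.H15Site.ModShriek.isConstructible_homology C
        (fun k => Groth.Agent.H15Site.ModShriek.IsGen.isConstructible (hC k)) i)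

end Groth.Agent.S6700
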