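import Groth.Statements.S6703
import Groth.Agent.H16Derived.ShiftHom
import Mathlib.CategoryTheory.Adjunction.FullyFaithful
import Mathlib.CategoryTheory.HomCongr

set_option autoImplicit false
universe v v' u u'
open CategoryTheory
open DEquiv

namespace Groth.Agent.S6703

open CategoryTheory CategoryTheory.Limits CategoryTheory.Pretriangulated
open scoped ZeroObject

lemma map_bijective_of_iso {D : Type u} [Category.{v} D] {D' : Type u'} [Category.{v'} D']
    (F : D ⥤ D') {X X' Y Y' : D} (a : X ≅ X') (b : Y ≅ Y')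
    (h : Function.Bijective (fun f : X ⟶ Y => F.map f)) :
    Function.Bijective (fun f : X' ⟶ Y' => F.map f) := by
  have e : (fun f : X' ⟶ Y' => F.map f) =
      ((F.mapIso a).homCongr (F.mapIso b)) ∘ (fun f : X ⟶ Y => F.map f) ∘ (a.homCongr b).symm := by
    funext f
    simp [Iso.homCongr]
  rw [e]
  exact (Equiv.bijective _).comp (h.comp (Equiv.bijective _))

lemma map_bijective_shift {D : Type u} [Category.{v} D] {D' : Type u'} [Category.{v'} D']
    [HasShift D ℤ] [HasShift D' ℤ] (F : D ⥤ D') [F.CommShift ℤ] {X Y : D} (n : ℤ)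
    (h : Function.Bijective (fun f : X ⟶ Y => F.map f)) :
    Function.Bijective (fun f : X⟦n⟧ ⟶ Y⟦n⟧ => F.map f) := by
  let s : (X ⟶ Y) → (X⟦n⟧ ⟶ Y⟦n⟧) := fun f => f⟦n⟧'
  have hs : Function.Bijective s :=
    ⟨(shiftFunctor D n).map_injective, (shiftFunctor D n).map_surjective⟩
  rw [← Function.Bijective.of_comp_iff _ hs]
  have e : (fun f : X⟦n⟧ ⟶ Y⟦n⟧ => F.map f) ∘ s =
      (((F.commShiftIso n).app X).homCongr ((F.commShiftIso n).app Y)).symm ∘
        (fun f : F.obj X ⟶ F.obj Y => f⟦n⟧') ∘ (fun f : X ⟶ Y => F.map f) := by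
    funext f
    simp [s, Iso.homCongr]
  rw [e]
  have hs' : Function.Bijective (fun f : F.obj X ⟶ F.obj Y => f⟦n⟧') :=
    ⟨(shiftFunctor D' n).map_injective, (shiftFunctor D' n).map_surjective⟩
  exact (Equiv.bijective _).comp (hs'.comp h)

section
variable {D : Type u} [Category.{v} D] [Preadditive D] [HasZeroObject D] [HasShift D ℤ]
    [∀ n : ℤ, (shiftFunctor D n).Additive] [Pretriangulated D]

lemma cone_hom_eq_zero {X Y Z : D} (φ : X ⟶ Y) (g : Y ⟶ Z) (h : Z ⟶ X⟦(1 : ℤ)⟧)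
    (hT : Triangle.mk φ g h ∈ distinguishedTriangles) (E : D)
    (hb : ∀ j : ℤ, Function.Bijective (fun v : E⟦j⟧ ⟶ X => v ≫ φ)) (j : ℤ) (w : E⟦j⟧ ⟶ Z) :
    w = 0 := by
  let e : E⟦j - 1⟧⟦(1 : ℤ)⟧ ≅ E⟦j⟧ := ((shiftFunctorAdd' D (j - 1) 1 j (by lia)).app E).symm
  obtain ⟨v, hv⟩ := (shiftFunctor D (1 : ℤ)).map_surjective (e.hom ≫ w ≫ h)
  have hz : h ≫ φ⟦(1 : ℤ)⟧' = 0 := comp_distTriang_mor_zero₃₁ _ hT
  have hv0 : v = 0 := (hb (j - 1)).1 ((shiftFunctor D (1 : ℤ)).map_injective (by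
    simp only [zero_comp, Functor.map_comp, hv, Category.assoc, hz, comp_zero, Functor.map_zero]))
  have hwh : w ≫ h = 0 := by
    rw [← cancel_epi e.hom, ← hv, hv0, Functor.map_zero, comp_zero]
  obtain ⟨(v₁ : E⟦j⟧ ⟶ Y), hv₁⟩ := Triangle.coyoneda_exact₃ _ hT w hwh
  obtain ⟨v₂, hv₂⟩ := (hb j).2 v₁
  have hv₁' : w = v₁ ≫ g := hv₁
  have z : φ ≫ g = 0 := comp_distTriang_mor_zero₁₂ _ hT
  rw [hv₁', ← hv₂, Category.assoc, z, comp_zero]

lemma cone_hom_eq_zero' {X Y Z : D} (φ : X ⟶ Y) (g : Y ⟶ Z) (h : Z ⟶ X⟦(1 : ℤ)⟧)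
    (hT : Triangle.mk φ g h ∈ distinguishedTriangles) (E : D)
    (hb : ∀ j : ℤ, Function.Bijective (fun v : Y ⟶ E⟦j⟧ => φ ≫ v)) (j : ℤ) (w : Z ⟶ E⟦j⟧) :
    w = 0 := by
  have hgw : g ≫ w = 0 := (hb j).1 (by
    have z : φ ≫ g = 0 := comp_distTriang_mor_zero₁₂ _ hT
    simp [reassoc_of% z])
  obtain ⟨(y : X⟦(1 : ℤ)⟧ ⟶ E⟦j⟧), hy⟩ := Triangle.yoneda_exact₃ _ hT w hgw
  let e : E⟦j - 1⟧⟦(1 : ℤ)⟧ ≅ E⟦j⟧ := ((shiftFunctorAdd' D (j - 1) 1 j (by lia)).app E).symm
  obtain ⟨y', hy'⟩ := (shiftFunctor D (1 : ℤ)).map_surjective (y ≫ e.inv)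
  obtain ⟨z', hz'⟩ := (hb (j - 1)).2 y'
  have hy'' : y = φ⟦(1 : ℤ)⟧' ≫ z'⟦(1 : ℤ)⟧' ≫ e.hom := by
    simp only at hz'
    rw [← Functor.map_comp_assoc, hz', hy', Category.assoc, e.inv_hom_id, Category.comp_id]
  have hw : w = h ≫ y := hy
  have z : h ≫ φ⟦(1 : ℤ)⟧' = 0 := comp_distTriang_mor_zero₃₁ _ hT
  rw [hw, hy'', reassoc_of% z, zero_comp]

end

open CategoryTheory.Limits CategoryTheory.Pretriangulated in
/-- Let F : D ⥤ D' be an exact functor of triangulated categories admitting both a left and a right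
adjoint, and let S be a set of objects of D such that an object K of D is zero as soon as Hom(E,
K⟦i⟧) = 0 for all E ∈ S and i ∈ ℤ, and also as soon as Hom(K, E⟦i⟧) = 0 for all E ∈ S and i ∈ ℤ. If
for all E, E' ∈ S and i ∈ ℤ the map Hom(E, E'⟦i⟧) → Hom(F E, F (E'⟦i⟧)) given by F is bijective,
then F is full and faithful. -/
theorem result
    {D : Type u} [Category.{v} D] [Preadditive D] [HasZeroObject D] [HasShift D ℤ]
    [∀ n : ℤ, (shiftFunctor D n).Additive] [Pretriangulated D] [IsTriangulated D]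
    {D' : Type u'} [Category.{v'} D'] [Preadditive D'] [HasZeroObject D'] [HasShift D' ℤ]
    [∀ n : ℤ, (shiftFunctor D' n).Additive] [Pretriangulated D'] [IsTriangulated D']
    (F : D ⥤ D') [F.CommShift ℤ] [F.IsTriangulated] [F.IsLeftAdjoint] [F.IsRightAdjoint]
    (S : Set D)
    (h2 : ∀ K : D, (∀ E ∈ S, ∀ (i : ℤ) (f : E ⟶ (shiftFunctor D i).obj K), f = 0) → IsZero K)
    (h3 : ∀ K : D, (∀ E ∈ S, ∀ (i : ℤ) (f : K ⟶ (shiftFunctor D i).obj E), f = 0) → IsZero K)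
    (h4 : ∀ E ∈ S, ∀ E' ∈ S, ∀ i : ℤ,
      Function.Bijective (fun f : E ⟶ (shiftFunctor D i).obj E' => F.map f)) :
    F.Full ∧ F.Faithful := by
  let adjR := Adjunction.ofIsLeftAdjoint F
  let adjL := Adjunction.ofIsRightAdjoint F
  have hunit : ∀ E ∈ S, IsIso (adjR.unit.app E) := fun E hE => by
    obtain ⟨Z, g, h, hT⟩ := distinguished_cocone_triangle (adjR.unit.app E)
    refine (Triangle.isZero₃_iff_isIso₁ _ hT).1 (h2 Z fun E'' hE'' i f => ?_)
    refine Groth.Agent.H16Derived.hom_shift_eq_zero (-i) i (by lia) (fun w => ?_) f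
    refine cone_hom_eq_zero _ g h hT E'' (fun j => ?_) _ w
    have hF : Function.Bijective (fun v : E''⟦j⟧ ⟶ E => F.map v) :=
      map_bijective_of_iso F (Iso.refl _) ((shiftFunctorCompIsoId D (-j) j (by lia)).app E)
        (map_bijective_shift F j (h4 E'' hE'' E hE (-j)))
    have e : (fun v : E''⟦j⟧ ⟶ E => v ≫ adjR.unit.app E) =
        (adjR.homEquiv _ _) ∘ (fun v : E''⟦j⟧ ⟶ E => F.map v) := by
      funext v
      simp [Adjunction.homEquiv_unit]
    exact e ▸ (Equiv.bijective _).comp hF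
  have hbij : ∀ (K : D) (E : D), E ∈ S → Function.Bijective (fun v : K ⟶ E => F.map v) := by
    intro K E hE
    have := hunit E hE
    have e : (fun v : K ⟶ E => F.map v) =
        (adjR.homEquiv _ _).symm ∘ (fun v : K ⟶ E => v ≫ adjR.unit.app E) := by
      funext v
      simp only [Function.comp_apply, Adjunction.homEquiv_counit, Functor.map_comp, Category.assoc,
        Adjunction.left_triangle_components]
      exact (Category.comp_id _).symm
    rw [e]
    exact (Equiv.bijective _).comp ⟨fun _ _ h => (cancel_mono _).1 h,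
      fun w => ⟨w ≫ inv (adjR.unit.app E), by simp⟩⟩
  have hcounit : ∀ K : D, IsIso (adjL.counit.app K) := fun K => by
    obtain ⟨Z, g, h, hT⟩ := distinguished_cocone_triangle (adjL.counit.app K)
    refine (Triangle.isZero₃_iff_isIso₁ _ hT).1 (h3 Z fun E hE i f => ?_)
    refine cone_hom_eq_zero' _ g h hT E (fun j => ?_) _ f
    have hF : Function.Bijective (fun v : K ⟶ E⟦j⟧ => F.map v) :=
      map_bijective_of_iso F ((shiftFunctorCompIsoId D (-j) j (by lia)).app K) (Iso.refl _)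
        (map_bijective_shift F j (hbij (K⟦(-j)⟧) E hE))
    have e : (fun v : K ⟶ E⟦j⟧ => adjL.counit.app K ≫ v) =
        (adjL.homEquiv _ _).symm ∘ (fun v : K ⟶ E⟦j⟧ => F.map v) := by
      funext v
      exact ((adjL.homEquiv_counit _ _ (F.map v)).trans (adjL.counit.naturality v)).symm
    exact e ▸ (Equiv.bijective _).comp hF
  have : IsIso adjL.counit := NatIso.isIso_of_isIso_app _
  let ff := adjL.fullyFaithfulROfIsIsoCounit
  exact ⟨ff.full, ff.faithful⟩

end Groth.Agent.S6703
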