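import Groth.Statements.S6706
import Groth.Agent.H02CA.Sib.Uniq

set_option autoImplicit false
universe w v u v' u'
open CategoryTheory
open DEquiv

namespace Groth.Agent.S6706

open CategoryTheory.Limits CategoryTheory.Pretriangulated in
/-- Let A be an abelian category with enough negative objects, meaning that every object X admits an
epimorphism N ⟶ X from an object N with Hom(X, N) = 0. Let D be a triangulated category and F, F' :
D^b(A) ⥤ D exact functors of triangulated categories which are siblings (their restrictions to A in
degree 0 are isomorphic functors, and F K ≅ F' K for every K). If F is fully faithful, then F and F'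
are isomorphic functors. -/
theorem result
    {A : Type u} [Category.{v} A] [Abelian A] [HasDerivedCategory.{w} A]
    (hneg : ∀ X : A, ∃ (N : A) (p : N ⟶ X), Epi p ∧ ∀ f : X ⟶ N, f = 0)
    {D : Type u'} [Category.{v'} D] [Preadditive D] [HasZeroObject D] [HasShift D ℤ]
    [∀ n : ℤ, (shiftFunctor D n).Additive] [Pretriangulated D] [IsTriangulated D]
    (F F' : DerivedCategory.Bounded A ⥤ D) [F.CommShift ℤ] [F.IsTriangulated]
    [F'.CommShift ℤ] [F'.IsTriangulated]
    (h1 : Nonempty (DEquiv.singleB A ⋙ F ≅ DEquiv.singleB A ⋙ F'))
    (h2 : ∀ K : DerivedCategory.Bounded A, Nonempty (F.obj K ≅ F'.obj K))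
    [F.Full] [F.Faithful] : Nonempty (F ≅ F') := by
  exact Groth.Agent.H02CA.Sib.nonempty_iso_of_negative hneg h1

end Groth.Agent.S6706
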