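import Groth.Statements.S6708

set_option autoImplicit false
universe v u
open CategoryTheory
open DEquiv

namespace Groth.Agent.S6708

open scoped ZeroObject
open CategoryTheory.Limits CategoryTheory.Pretriangulated

open CategoryTheory.Limits CategoryTheory.Pretriangulated in
/-- Let D be a pretriangulated category, D' ⊆ D a full triangulated subcategory (given as a property of
objects that is triangulated in Mathlib's sense) and X an object of D. Then the category of arrows E
⟶ X with E in D' is filtered. -/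
theorem result
    {D : Type u} [Category.{v} D] [Preadditive D] [HasZeroObject D] [HasShift D ℤ]
    [∀ n : ℤ, (shiftFunctor D n).Additive] [Pretriangulated D]
    (P : ObjectProperty D) [P.IsTriangulated] (X : D) :
    IsFiltered (CostructuredArrow P.ι X) := by
  have : Nonempty (CostructuredArrow P.ι X) := by
    obtain ⟨Z, hZ, hPZ⟩ := ‹P.IsTriangulated›.toContainsZero.exists_zero
    exact ⟨CostructuredArrow.mk (S := P.ι) (Y := ⟨Z, hPZ⟩) 0⟩
  refine { toIsFilteredOrEmpty := ⟨fun Y Y' => ?_, fun Y Y' f g => ?_⟩, nonempty := this }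
  · obtain ⟨Z, hZ, ⟨i⟩⟩ := P.ext_of_isTriangulatedClosed₂' (binaryBiproductTriangle Y.left.obj Y'.left.obj)
      (binaryBiproductTriangle_distinguished _ _) Y.left.property Y'.left.property
    obtain ⟨(i : (Y.left.obj ⊞ Y'.left.obj : D) ≅ Z), -⟩ :
        ∃ j : (binaryBiproductTriangle Y.left.obj Y'.left.obj).obj₂ ≅ Z, j = i := ⟨i, rfl⟩
    refine ⟨CostructuredArrow.mk (S := P.ι) (Y := ⟨Z, hZ⟩) (i.inv ≫ biprod.desc Y.hom Y'.hom),
      CostructuredArrow.homMk (ObjectProperty.homMk (biprod.inl ≫ i.hom)) ?_,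
      CostructuredArrow.homMk (ObjectProperty.homMk (biprod.inr ≫ i.hom)) ?_, trivial⟩
    · change (biprod.inl ≫ i.hom) ≫ i.inv ≫ biprod.desc Y.hom Y'.hom = Y.hom
      simp
    · change (biprod.inr ≫ i.hom) ≫ i.inv ≫ biprod.desc Y.hom Y'.hom = Y'.hom
      simp
  · let h : Y.left.obj ⟶ Y'.left.obj := f.left.hom - g.left.hom
    obtain ⟨Z, p, r, hT⟩ := distinguished_cocone_triangle h
    obtain ⟨Z', hZ', ⟨i⟩⟩ := P.ext_of_isTriangulatedClosed₃' _ hT Y.left.property Y'.left.property
    obtain ⟨(i : Z ≅ Z'), -⟩ : ∃ j : (Triangle.mk h p r).obj₃ ≅ Z', j = i := ⟨i, rfl⟩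
    have hf : f.left.hom ≫ Y'.hom = Y.hom := CostructuredArrow.w f
    have hg : g.left.hom ≫ Y'.hom = Y.hom := CostructuredArrow.w g
    have hh : h ≫ Y'.hom = 0 := by
      dsimp only [h]
      erw [Preadditive.sub_comp, hf, hg]
      exact sub_self _
    obtain ⟨(y : Z ⟶ X), (hy : Y'.hom = p ≫ y)⟩ := Triangle.yoneda_exact₂ _ hT Y'.hom hh
    refine ⟨CostructuredArrow.mk (S := P.ι) (Y := (⟨Z', hZ'⟩ : P.FullSubcategory)) (show Z' ⟶ X from i.inv ≫ y),
      CostructuredArrow.homMk (ObjectProperty.homMk (Y := (⟨Z', hZ'⟩ : P.FullSubcategory)) (p ≫ i.hom)) ?_, ?_⟩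
    · change (p ≫ i.hom) ≫ i.inv ≫ y = Y'.hom
      rw [Category.assoc, Iso.hom_inv_id_assoc]
      exact hy.symm
    · apply CostructuredArrow.hom_ext
      apply ObjectProperty.hom_ext
      change f.left.hom ≫ p ≫ i.hom = g.left.hom ≫ p ≫ i.hom
      rw [← sub_eq_zero, ← Preadditive.sub_comp]
      have hz : h ≫ p = 0 := comp_distTriang_mor_zero₁₂ _ hT
      exact (Category.assoc h p i.hom).symm.trans (by rw [hz, zero_comp])

end Groth.Agent.S6708
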