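import Groth.Statements.S6710
import Mathlib
-- import your own Groth.Agent.* helpers here

set_option autoImplicit false
universe u v
open CategoryTheory
open FunMor

namespace Groth.Agent.S6710

/-- The statement for an affine scheme written in terms of modules: let A be a commutative ring, M a
finitely presented A-module and N a nonzero A-module with Supp(N) ⊆ Supp(M). Then Hom_A(M, N) is
nonzero. -/
theorem result
    (A : Type u) [CommRing A] (M : Type v) [AddCommGroup M] [Module A M]
    [Module.FinitePresentation A M] (N : Type v) [AddCommGroup N] [Module A N] [Nontrivial N]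
    (h : Module.support A N ⊆ Module.support A M) : Nontrivial (M →ₗ[A] N) := by
  obtain ⟨n, hn⟩ := exists_ne (0 : N)
  let I : Ideal A := LinearMap.ker (LinearMap.toSpanSingleton A N n)
  have hI : ∀ a : A, a ∈ I ↔ a • n = 0 := fun a => by simp [I]
  obtain ⟨p, hp⟩ := Ideal.nonempty_minimalPrimes (I := I)
    ((Ideal.ne_top_iff_one I).2 fun h1 => hn (by rw [← one_smul A n]; exact (hI 1).1 h1))
  haveI := hp.1.1
  let S := p.primeCompl
  let R := Localization.AtPrime p
  let ι := LocalizedModule.mkLinearMap S N
  let ιM := LocalizedModule.mkLinearMap S M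
  let n' : LocalizedModule S N := ι n
  have hn' : n' ≠ 0 := by
    intro h0
    obtain ⟨s, hs⟩ := (IsLocalizedModule.eq_zero_iff S ι).1 h0
    exact s.2 (hp.1.2 ((hI s.1).2 hs))
  haveI : Nontrivial (LocalizedModule S M) :=
    Module.mem_support_iff.1 (h (show (⟨p, inferInstance⟩ : PrimeSpectrum A) ∈ Module.support A N from
      Module.mem_support_iff'.2 ⟨n, fun r hr h0 => hr (hp.1.2 ((hI r).2 h0))⟩))
  haveI : Module.FinitePresentation R (LocalizedModule S M) :=
    inferInstanceAs (Module.FinitePresentation (Localization S) (LocalizedModule S M))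
  -- a cyclic finitely presented nonzero quotient
  classical
  have hex : ∃ k, ∃ e : Fin k → LocalizedModule S M, Submodule.span R (Set.range e) = ⊤ :=
    Module.Finite.exists_fin
  obtain ⟨e, he⟩ := Nat.find_spec hex
  obtain ⟨k, hk⟩ : ∃ k, Nat.find hex = k + 1 := by
    refine Nat.exists_eq_succ_of_ne_zero fun h0 => ?_
    have : IsEmpty (Fin (Nat.find hex)) := by rw [h0]; infer_instance
    rw [Set.range_eq_empty, Submodule.span_empty] at he
    exact bot_ne_top he
  let e' : Fin (k + 1) → LocalizedModule S M := fun i => e (Fin.cast hk.symm i)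
  have he' : Submodule.span R (Set.range e') = ⊤ := by
    rw [← he, show Set.range e' = Set.range e from (finCongr hk.symm).surjective.range_comp e]
  let P := Submodule.span R (Set.range fun i : Fin k => e' i.succ)
  have hP : e' 0 ∉ P := by
    intro h0
    refine Nat.find_min hex (show k < Nat.find hex by omega) ⟨fun i => e' i.succ, top_le_iff.1 ?_⟩
    rw [← he', Submodule.span_le]
    rintro _ ⟨i, rfl⟩
    exact Fin.cases h0 (fun i => Submodule.subset_span ⟨i, rfl⟩) i
  let q := LinearMap.toSpanSingleton R (LocalizedModule S M ⧸ P) (P.mkQ (e' 0))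
  have hq : Function.Surjective q := by
    rw [← LinearMap.range_eq_top]
    refine top_le_iff.1 ?_
    rw [← P.range_mkQ, LinearMap.range_eq_map, ← he', Submodule.map_span_le]
    rintro _ ⟨i, rfl⟩
    refine Fin.cases ⟨1, by simp [q]⟩ (fun i => ?_) i
    rw [show P.mkQ (e' i.succ) = 0 from (Submodule.Quotient.mk_eq_zero P).2 (Submodule.subset_span ⟨i, rfl⟩)]
    exact zero_mem _
  haveI : Module.FinitePresentation R (LocalizedModule S M ⧸ P) :=
    Module.finitePresentation_of_surjective P.mkQ P.mkQ_surjective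
      (by rw [P.ker_mkQ]; exact Submodule.fg_span (Set.finite_range _))
  have hJfg : (LinearMap.ker q).FG := Module.FinitePresentation.fg_ker q hq
  have hJ : ∀ a ∈ LinearMap.ker q, ∃ m : ℕ, a ^ m • n' = 0 := by
    intro a ha
    let K : Ideal R := LinearMap.ker (LinearMap.toSpanSingleton R (LocalizedModule S N) n')
    suffices a ∈ K.radical by
      obtain ⟨m, hm⟩ := this
      exact ⟨m, by simpa [K] using hm⟩
    rw [Ideal.radical_eq_sInf, Submodule.mem_sInf]
    rintro Q ⟨hKQ, hQ⟩
    have ha' : a ∈ IsLocalRing.maximalIdeal R := by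
      rw [IsLocalRing.mem_maximalIdeal, mem_nonunits_iff]
      intro hu
      refine hP ((Submodule.Quotient.mk_eq_zero P).1 ((hu.smul_eq_zero).1 ?_))
      simpa [q] using ha
    have h1 : I ≤ Ideal.comap (algebraMap A R) Q := fun x hx => hKQ (by
      show algebraMap A R x • n' = 0
      rw [algebraMap_smul, ← map_smul, (hI x).1 hx, map_zero])
    have h2 : Ideal.comap (algebraMap A R) Q ≤ p := by
      intro x hx
      by_contra hxp
      exact hQ.ne_top (Ideal.eq_top_of_isUnit_mem _ hx (IsLocalization.map_units (M := S) R ⟨x, hxp⟩))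
    have h3 : Ideal.comap (algebraMap A R) Q = p :=
      le_antisymm h2 (hp.2 ⟨hQ.comap _, h1⟩ h2)
    have h4 := congrArg (Ideal.map (algebraMap A R)) h3
    rw [IsLocalization.map_comap S R, Localization.AtPrime.map_eq_maximalIdeal] at h4
    rw [h4]; exact ha'
  obtain ⟨m, hm⟩ : ∃ m, ∀ x ∈ (LinearMap.ker q) ^ m, x • n' = 0 := by
    let K : Ideal R := LinearMap.ker (LinearMap.toSpanSingleton R (LocalizedModule S N) n')
    obtain ⟨m, hm⟩ := Ideal.exists_pow_le_of_le_radical_of_fg (J := K) (I := LinearMap.ker q) (fun a ha => by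
      obtain ⟨j, hj⟩ := hJ a ha
      exact ⟨j, by simpa [K] using hj⟩) hJfg
    exact ⟨m, fun x hx => by simpa [K] using hm hx⟩
  have hex2 : ∃ m, ∀ x ∈ (LinearMap.ker q) ^ m, x • n' = 0 := ⟨m, hm⟩
  obtain ⟨j, hj⟩ : ∃ j, Nat.find hex2 = j + 1 := by
    refine Nat.exists_eq_succ_of_ne_zero fun h0 => hn' ?_
    have := Nat.find_spec hex2
    rw [h0, pow_zero] at this
    simpa using this 1 (by simp)
  obtain ⟨r, hr, hr0⟩ : ∃ r ∈ (LinearMap.ker q) ^ j, r • n' ≠ 0 := by
    by_contra hc
    push Not at hc
    exact Nat.find_min hex2 (show j < Nat.find hex2 by omega) hc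
  have hkill : LinearMap.ker q ≤ LinearMap.ker (LinearMap.toSpanSingleton R (LocalizedModule S N) (r • n')) := by
    intro a ha
    have := Nat.find_spec hex2 (a * r) (by rw [hj, pow_succ']; exact Ideal.mul_mem_mul ha hr)
    simpa [mul_smul] using this
  let g : LocalizedModule S M →ₗ[R] LocalizedModule S N :=
    ((LinearMap.ker q).liftQ _ hkill).comp ((LinearMap.quotKerEquivOfSurjective q hq).symm.toLinearMap.comp P.mkQ)
  have hg : g (e' 0) = r • n' := by
    have hone : (LinearMap.quotKerEquivOfSurjective q hq).symm (P.mkQ (e' 0)) = Submodule.Quotient.mk 1 := by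
      rw [LinearEquiv.symm_apply_eq]
      change P.mkQ (e' 0) = q 1
      simp [q]
    simp only [g, LinearMap.comp_apply, LinearEquiv.coe_coe, hone]
    exact one_smul R _
  obtain ⟨f, s, hfs⟩ := Module.FinitePresentation.exists_lift_of_isLocalizedModule S ι
    ((g.restrictScalars A).comp ιM)
  refine ⟨f, 0, fun hf0 => hr0 ?_⟩
  obtain ⟨⟨y, t⟩, hyt⟩ := IsLocalizedModule.surj S ιM (e' 0)
  have h1 := LinearMap.congr_fun hfs y
  rw [hf0] at h1
  simp only [LinearMap.comp_apply, LinearMap.zero_apply, map_zero, LinearMap.smul_apply,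
    LinearMap.restrictScalars_apply] at h1
  have e1 : g (ιM y) = (t : A) • (r • n') := by
    rw [← hyt, ← hg]
    exact (g.restrictScalars A).map_smul (t : A) (e' 0)
  rw [e1] at h1
  exact (IsLocalizedModule.map_units ι t).smul_left_cancel.1
    (((IsLocalizedModule.map_units ι s).smul_left_cancel).1 (h1.symm.trans (smul_zero _).symm) |>.trans (smul_zero _).symm)

end Groth.Agent.S6710
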