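import Groth.Statements.S6711
import Groth.Agent.H17.AcycQF.Core
import Groth.Agent.H7Lim.QuasiFiniteFactor
import Groth.Agent.H10Coh.HigherDirect
import Groth.Agent.H10Coh.HigherDirect2
import Groth.Agent.H10Coh.FinType2
-- import your own Groth.Agent.* helpers here

set_option autoImplicit false
universe u
open CategoryTheory AlgebraicGeometry
open FunMor

namespace Groth.Agent.S6711

open CategoryTheory.Limits in
/-- Suppose V and X are Noetherian schemes and f : V ⟶ X is separated and quasi-finite (quasi-finite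
meaning locally quasi-finite and of finite type). If there is a coherent O_V-module K whose support
is all of V such that f_* K is coherent and R^q f_* K = 0 for every q > 0, then f is finite. -/
theorem result
    {V X : Scheme.{u}} [IsNoetherian V] [IsNoetherian X] (f : V ⟶ X)
    [LocallyQuasiFinite f] [LocallyOfFiniteType f] [QuasiCompact f] [IsSeparated f]
    [HasInjectiveResolutions V.Modules]
    (K : V.Modules) (hK : Coh.IsCoh K) (hsupp : CohB1.support K = Set.univ)
    (hpush : Coh.IsCoh ((Coh.push f).obj K))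
    (hvan : ∀ q : ℕ, 0 < q → IsZero ((Coh.Rpush f q).obj K)) : IsFinite f := by
  classical
  obtain ⟨T, j, π, hj, hjq, hπ, hfac⟩ := Groth.Agent.H7Lim.exists_openImmersion_finite f
  subst hfac
  suffices hcl : IsClosed (Set.range j) by
    haveI : IsClosedImmersion j := IsClosedImmersion.of_isPreimmersion j hcl
    infer_instance
  haveI : IsLocallyNoetherian T := LocallyOfFiniteType.isLocallyNoetherian π
  rw [← isOpen_compl_iff, isOpen_iff_forall_mem_open]
  intro y hy
  obtain ⟨A, hA, hyA, -⟩ := exists_isAffineOpen_mem_and_subset (X := X) (x := π y) (U := ⊤) trivial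
  let W : T.Opens := π ⁻¹ᵁ A
  have hW : IsAffineOpen W := hA.preimage π
  let Uo : V.Opens := j ⁻¹ᵁ W
  let ρ : Γ(T, W) →+* Γ((Uo : Scheme.{u}), ⊤) := Uo.topIso.inv.hom.comp (j.app W).hom
  let I : Ideal Γ(T, W) :=
    { carrier := {c | T.basicOpen c ≤ j.opensRange}
      zero_mem' := by simp
      add_mem' := fun {a b} ha hb => (T.basicOpen_add_le a b).trans (sup_le ha hb)
      smul_mem' := fun a b hb => by
        show T.basicOpen (a * b) ≤ _
        rw [T.basicOpen_mul]
        exact inf_le_right.trans hb }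
  have hpre : ∀ c, (Uo : Scheme.{u}).basicOpen (ρ c) = Uo.ι ⁻¹ᵁ (j ⁻¹ᵁ T.basicOpen c) := fun c => by
    rw [Scheme.preimage_basicOpen j c,
      ← Scheme.Opens.ι_image_basicOpen_topIso_inv (U := Uo) (j.app W c),
      Scheme.Hom.preimage_image_eq]
    rfl
  have hb : Groth.Agent.H17.AcycQF.Basis ρ I := fun O u hu => by
    have hmem : j (Uo.ι u) ∈ j ''ᵁ (Uo.ι ''ᵁ O) := ⟨_, ⟨u, hu, rfl⟩, rfl⟩
    obtain ⟨c, hcO, hc⟩ := hW.exists_basicOpen_le ⟨_, hmem⟩ (show j (Uo.ι u) ∈ W from u.2)
    have hcO' : T.basicOpen c ≤ j ''ᵁ (Uo.ι ''ᵁ O) := hcO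
    refine ⟨c, fun x hx => ?_, ?_, fun v hv => ?_⟩
    · obtain ⟨z, -, rfl⟩ := hcO' hx
      exact ⟨z, rfl⟩
    · rw [hpre]; exact hc
    · rw [hpre] at hv
      obtain ⟨z, ⟨v', hv', rfl⟩, hz⟩ := hcO' hv
      obtain rfl := Uo.ι.isOpenEmbedding.injective (j.isOpenEmbedding.injective hz)
      exact hv'
  haveI : CompactSpace (Uo : Scheme.{u}) := isCompact_iff_compactSpace.mp
    (QuasiCompact.isCompact_preimage (f := j ≫ π) A A.2 hA.isCompact)
  haveI : QuasiSeparatedSpace (Uo : Scheme.{u}) := inferInstance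
  haveI : IsNoetherianRing Γ(T, W) := IsLocallyNoetherian.component_noetherian ⟨W, hW⟩
  haveI : K.IsQuasicoherent := hK.1
  let K' := (Scheme.Modules.restrictFunctor Uo.ι).obj K
  haveI : K'.IsQuasicoherent := Scheme.Modules.isQuasicoherent_restrictFunctor Uo.ι K
  have himg : Uo.ι ''ᵁ ⊤ = Uo := by
    rw [Scheme.Hom.image_top_eq_opensRange, Scheme.Opens.opensRange_ι]
  have hH : ∀ n : ℕ, Subsingleton (Groth.Agent.H10Coh.HnM K' (n + 1) ⊤) := fun n => by
    obtain ⟨es⟩ := Groth.Agent.H10Coh.nonempty_sections_rpushAb (j ≫ π) K hA (n + 1)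
    obtain ⟨et⟩ := Groth.Agent.H10Coh.nonempty_toAb_rpush (j ≫ π) K (n + 1)
    have hz : IsZero ((Coh.RpushAb (j ≫ π) (n + 1)).obj (Coh.toAb K)) :=
      ((Groth.Agent.H10Coh.shF X).map_isZero (hvan (n + 1) n.succ_pos)).of_iso et.symm
    have : Subsingleton (((Coh.RpushAb (j ≫ π) (n + 1)).obj (Coh.toAb K)).obj.obj (Opposite.op A)) :=
      AddCommGrpCat.subsingleton_of_isZero (((sheafToPresheaf _ AddCommGrpCat.{u}).map_isZero hz).obj _)
    have h1 : Subsingleton (Groth.Agent.H10Coh.HnM K (n + 1) (Uo.ι ''ᵁ ⊤)) := by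
      rw [himg]; exact es.toEquiv.subsingleton
    exact (Groth.Agent.H10Coh.restrEquivM Uo.ι K (n + 1) ⊤).toEquiv.symm.subsingleton
  have hfin : letI := Module.compHom Γ(K', ⊤) ρ; Module.Finite Γ(T, W) Γ(K', ⊤) := by
    letI := Module.compHom Γ(K', ⊤) ρ
    haveI := ((Groth.Agent.H10Coh.isCoh_iff_finite_sections _).1 hpush).2 A hA
    obtain ⟨s, hs⟩ := Module.Finite.fg_top (R := Γ(X, A)) (M := Γ((Coh.push (j ≫ π)).obj K, A))
    let e : Γ((Coh.push (j ≫ π)).obj K, A) → Γ(K', ⊤) := fun m =>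
      (show Γ(K', ⊤) from K.presheaf.map (homOfLE himg.le).op m)
    refine ⟨⟨s.image e, Submodule.eq_top_iff'.2 fun m => ?_⟩⟩
    obtain ⟨m₀, rfl⟩ : ∃ m₀, e m₀ = m := ⟨K.presheaf.map (homOfLE himg.ge).op m, by
      show K.presheaf.map (homOfLE himg.le).op (K.presheaf.map (homOfLE himg.ge).op m) = m
      exact (Groth.Agent.H10Coh.rs_rs K _ _ _).trans (Groth.Agent.H10Coh.rs_self K _ _)⟩
    have hm₀ : m₀ ∈ Submodule.span Γ(X, A) (s : Set _) := hs ▸ Submodule.mem_top
    induction hm₀ using Submodule.span_induction with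
    | mem x hx => exact Submodule.subset_span (by simpa using ⟨x, hx, rfl⟩)
    | zero =>
      rw [show e 0 = 0 from map_zero (K.presheaf.map (homOfLE himg.le).op).hom]
      exact zero_mem _
    | add a b _ _ ha hb =>
      rw [show e (a + b) = e a + e b from map_add (K.presheaf.map (homOfLE himg.le).op).hom a b]
      exact add_mem ha hb
    | smul r a _ ha =>
      have : e (r • a) = π.app A r • e a := by
        refine Eq.trans (Scheme.Modules.map_smul K (homOfLE himg.le) _ _) ?_
        have h1 := Groth.Agent.H10Coh.restrict_smul_pow Uo K (j.app W (π.app A r)) ⊤ himg.le 1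
          (e a)
        simp only [pow_one] at h1
        refine Eq.trans h1.symm ?_
        show Groth.Agent.H10Coh.gres (ρ (π.app A r)) ⊤ • (show Γ(K', ⊤) from e a) = ρ (π.app A r) • e a
        congr 1
        exact (congr($(congrArg (Uo : Scheme.{u}).presheaf.map
          (Subsingleton.elim (homOfLE le_top).op (𝟙 _))) (ρ (π.app A r)))).trans
          (by rw [CategoryTheory.Functor.map_id]; rfl)
      rw [this]
      exact Submodule.smul_mem _ _ ha
  obtain ⟨c, hc, hkill⟩ := Groth.Agent.H17.AcycQF.exists_kills K' hb hH hfin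
  refine ⟨T.basicOpen c, fun x hx hxr => ?_, (T.basicOpen c).2, ?_⟩
  · obtain ⟨v, rfl⟩ := hxr
    let u : (Uo : Scheme.{u}) := ⟨v, show j v ∈ W from T.basicOpen_le c hx⟩
    have hu : u ∈ (Uo : Scheme.{u}).basicOpen (ρ c) := by rw [hpre]; exact hx
    have hunit := ((Uo : Scheme.{u}).mem_basicOpen (ρ c) u trivial).1 hu
    have hzero : Subsingleton (K'.presheaf.stalk u) :=
      subsingleton_of_forall_eq 0 fun t => hunit.smul_eq_zero.1 (hkill u t)
    have hne : ¬ Subsingleton (K.presheaf.stalk v) := by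
      have : v ∈ CohB1.support K := hsupp ▸ Set.mem_univ v
      exact this
    exact hne (@Equiv.subsingleton _ _
      ((Scheme.Modules.restrictStalkNatIso Uo.ι u).app K).addCommGroupIsoToAddEquiv.toEquiv.symm hzero)
  · have hyW : y ∈ W := hyA
    have h1 : y ∉ T.basicOpen (c - 1) := fun h => hy (hc h)
    show y ∈ T.basicOpen c
    rw [T.mem_basicOpen c y hyW]
    rw [T.mem_basicOpen (c - 1) y hyW, map_sub, map_one] at h1
    by_contra hcy
    refine h1 ?_
    rcases IsLocalRing.isUnit_or_isUnit_of_add_one (a := T.presheaf.germ W y hyW c)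
      (b := 1 - T.presheaf.germ W y hyW c) (by ring) with h | h
    · exact absurd h hcy
    · simpa using h.neg

end Groth.Agent.S6711
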