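import Groth.Statements.S6713
import Mathlib.Algebra.Homology.DerivedCategory.Fractions
import Mathlib.Algebra.Homology.DerivedCategory.TStructure
import Mathlib.Data.Countable.Basic
import Mathlib.Data.Int.Interval

set_option autoImplicit false
universe w v u
open CategoryTheory
open DEquiv

namespace Groth.Agent.S6713

open DerivedCategory ZeroObject CategoryTheory.Limits

lemma models {A : Type u} [Category.{v} A] [Abelian A]
    (hhom : ∀ X Y : A, Countable (X ⟶ Y))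
    (hiso : ∃ e : ℕ → A, ∀ X : A, ∃ n : ℕ, Nonempty (X ≅ e n)) (a b : ℤ) :
    ∃ S : Set (CochainComplex A ℤ), S.Countable ∧
      (∀ M ∈ S, M.IsStrictlyGE a ∧ M.IsStrictlyLE b) ∧
      ∀ K : CochainComplex A ℤ, K.IsStrictlyGE a → K.IsStrictlyLE b →
        ∃ M ∈ S, Nonempty (K ≅ M) := by
  obtain ⟨e, he⟩ := hiso
  let ι := Finset.Icc a b
  let T := Σ n : ι → ℕ, (∀ i j : ι, e (n i) ⟶ e (n j))
  have : ∀ X Y : A, Countable (X ⟶ Y) := hhom
  have : Countable T := inferInstance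
  let R (K : CochainComplex A ℤ) (p : T) : Prop := K.IsStrictlyGE a ∧ K.IsStrictlyLE b ∧
    ∃ u : ∀ i : ι, K.X i ≅ e (p.1 i), ∀ i j : ι, p.2 i j = (u i).inv ≫ K.d i j ≫ (u j).hom
  let S₀ : Set T := {p | ∃ K, R K p}
  refine ⟨Set.range (fun p : S₀ => p.2.choose), Set.countable_range _, ?_, fun K hK hK' => ?_⟩
  · rintro _ ⟨p, rfl⟩
    exact ⟨p.2.choose_spec.1, p.2.choose_spec.2.1⟩
  choose n hn using he
  let u : ∀ i : ι, K.X i ≅ e (n (K.X i)) := fun i => (hn _).some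
  let p : T := ⟨fun i => n (K.X i), fun i j => (u i).inv ≫ K.d i j ≫ (u j).hom⟩
  have hp : p ∈ S₀ := ⟨K, hK, hK', u, fun i j => rfl⟩
  obtain ⟨hM, hM', w, hw⟩ := hp.choose_spec
  generalize hMdef : hp.choose = M at hM hM' w hw
  have hz : ∀ N : CochainComplex A ℤ, N.IsStrictlyGE a → N.IsStrictlyLE b →
      ∀ i : ℤ, i ∉ ι → IsZero (N.X i) := by
    intro N _ _ i hi
    simp only [ι, Finset.mem_Icc, not_and_or, not_le] at hi
    rcases hi with h | h
    exacts [N.isZero_of_isStrictlyGE a i h, N.isZero_of_isStrictlyLE b i h]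
  refine ⟨M, ⟨⟨p, hp⟩, hMdef⟩, ⟨HomologicalComplex.Hom.isoOfComponents (fun i =>
    if h : i ∈ ι then u ⟨i, h⟩ ≪≫ (w ⟨i, h⟩).symm else
      IsZero.iso (hz K hK hK' i h) (hz M hM hM' i h)) ?_⟩⟩
  · intro i j _
    by_cases hi : i ∈ ι
    · by_cases hj : j ∈ ι
      · rw [dif_pos hi, dif_pos hj, Iso.trans_hom, Iso.trans_hom, Iso.symm_hom, Iso.symm_hom]
        have h₁ := hw ⟨i, hi⟩ ⟨j, hj⟩
        change (u ⟨i, hi⟩).inv ≫ K.d i j ≫ (u ⟨j, hj⟩).hom =
          (w ⟨i, hi⟩).inv ≫ M.d i j ≫ (w ⟨j, hj⟩).hom at h₁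
        rw [← cancel_epi (u ⟨i, hi⟩).inv, ← cancel_mono (w ⟨j, hj⟩).hom]
        simp only [Category.assoc, Iso.inv_hom_id_assoc, Iso.inv_hom_id, Category.comp_id, h₁]
      · exact (hz M hM hM' j hj).eq_of_tgt _ _
    · exact (hz K hK hK' i hi).eq_of_src _ _

lemma countable_complexHom {A : Type u} [Category.{v} A] [Abelian A]
    (hhom : ∀ X Y : A, Countable (X ⟶ Y)) (K L : CochainComplex A ℤ) (a b : ℤ)
    [K.IsStrictlyGE a] [K.IsStrictlyLE b] : Countable (K ⟶ L) := by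
  have : ∀ X Y : A, Countable (X ⟶ Y) := hhom
  refine Function.Injective.countable (f := fun f (i : Finset.Icc a b) => f.f i) fun f g h => ?_
  ext i
  by_cases hi : i ∈ Finset.Icc a b
  · exact congrFun h ⟨i, hi⟩
  · simp only [Finset.mem_Icc, not_and_or, not_le] at hi
    rcases hi with h | h
    exacts [(K.isZero_of_isStrictlyGE a i h).eq_of_src _ _,
      (K.isZero_of_isStrictlyLE b i h).eq_of_src _ _]

lemma countable_derivedHom {A : Type u} [Category.{v} A] [Abelian A] [HasDerivedCategory.{w} A]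
    (hhom : ∀ X Y : A, Countable (X ⟶ Y))
    (hiso : ∃ e : ℕ → A, ∀ X : A, ∃ n : ℕ, Nonempty (X ≅ e n))
    (K L : CochainComplex A ℤ) (a b : ℤ)
    [K.IsStrictlyGE a] [K.IsStrictlyLE b] [L.IsStrictlyGE a] [L.IsStrictlyLE b] :
    Countable (Q.obj K ⟶ Q.obj L) := by
  obtain ⟨S, hS, hSb, hSe⟩ := models hhom hiso a b
  have : Countable S := hS.to_subtype
  let T := Σ M : S, ((K ⟶ M.1) × {s : L ⟶ M.1 // IsIso (Q.map s)})
  have h₁ : ∀ M : S, Countable (K ⟶ M.1) := fun M => countable_complexHom hhom K M.1 a b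
  have h₂ : ∀ M : S, Countable (L ⟶ M.1) := fun M => countable_complexHom hhom L M.1 a b
  have : Countable T := inferInstance
  refine Function.Surjective.countable
    (f := fun x : T => Q.map x.2.1 ≫ @inv _ _ _ _ (Q.map x.2.2.1) x.2.2.2) fun f => ?_
  obtain ⟨Y', hY, hY', g, s, hs, rfl⟩ := left_fac_of_isStrictlyLE_of_isStrictlyGE a b f
  obtain ⟨M, hM, ⟨φ⟩⟩ := hSe Y' hY hY'
  refine ⟨⟨⟨M, hM⟩, g ≫ φ.hom, ⟨s ≫ φ.hom, by rw [Functor.map_comp]; infer_instance⟩⟩, ?_⟩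
  simp

/-- Let A be an abelian category which is countable: Hom(X, Y) is countable for all objects X, Y and
there are countably many isomorphism classes of objects. Then the bounded derived category D^b(A) is
countable in the same sense. -/
theorem result
    {A : Type u} [Category.{v} A] [Abelian A] [HasDerivedCategory.{w} A]
    (hhom : ∀ X Y : A, Countable (X ⟶ Y))
    (hiso : ∃ e : ℕ → A, ∀ X : A, ∃ n : ℕ, Nonempty (X ≅ e n)) :
    (∀ K L : DerivedCategory.Bounded A, Countable (K ⟶ L)) ∧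
      ∃ e : ℕ → DerivedCategory.Bounded A, ∀ K : DerivedCategory.Bounded A,
        ∃ n : ℕ, Nonempty (K ≅ e n) := by
  have bd : ∀ K : DerivedCategory.Bounded A, ∃ a b : ℤ, ∃ (M : CochainComplex A ℤ),
      M.IsStrictlyGE a ∧ M.IsStrictlyLE b ∧ Nonempty (K.obj ≅ DerivedCategory.Q.obj M) := by
    intro K
    obtain ⟨⟨a, ha⟩, ⟨b, hb⟩⟩ := K.property
    have : DerivedCategory.IsGE K.obj a := ha
    have : DerivedCategory.IsLE K.obj b := hb
    obtain ⟨M, h₁, h₂, h₃⟩ := DerivedCategory.exists_iso_Q_obj_of_isGE_of_isLE K.obj a b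
    exact ⟨a, b, M, h₁, h₂, h₃⟩
  refine ⟨fun K L => ?_, ?_⟩
  · obtain ⟨a, b, M, hM, hM', ⟨φ⟩⟩ := bd K
    obtain ⟨a', b', N, hN, hN', ⟨ψ⟩⟩ := bd L
    have := M.isStrictlyGE_of_ge (min a a') a (by lia)
    have := N.isStrictlyGE_of_ge (min a a') a' (by lia)
    have := M.isStrictlyLE_of_le b (max b b') (by lia)
    have := N.isStrictlyLE_of_le b' (max b b') (by lia)
    have := countable_derivedHom hhom hiso M N (min a a') (max b b')
    refine Function.Injective.countable (f := fun f : K ⟶ L => φ.inv ≫ f.hom ≫ ψ.hom)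
      fun f g h => ?_
    ext1
    simpa using h
  · choose S hS hSb hSe using models hhom hiso
    let T := Σ p : ℤ × ℤ, S p.1 p.2
    have : ∀ a b, Countable (S a b) := fun a b => (hS a b).to_subtype
    let obj (x : T) : DerivedCategory.Bounded A := ⟨DerivedCategory.Q.obj x.2.1, by
      obtain ⟨⟨a, b⟩, M, hM⟩ := x
      have := (hSb a b M hM).1
      have := (hSb a b M hM).2
      exact ⟨⟨a, inferInstanceAs (DerivedCategory.IsGE (DerivedCategory.Q.obj M) a)⟩,
        ⟨b, inferInstanceAs (DerivedCategory.IsLE (DerivedCategory.Q.obj M) b)⟩⟩⟩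
    have hcov : ∀ K : DerivedCategory.Bounded A, ∃ x : T, Nonempty (K ≅ obj x) := by
      intro K
      obtain ⟨a, b, M, hM, hM', ⟨φ⟩⟩ := bd K
      obtain ⟨N, hN, ⟨χ⟩⟩ := hSe a b M hM hM'
      exact ⟨⟨(a, b), N, hN⟩, ⟨ObjectProperty.isoMk _ (φ ≪≫ DerivedCategory.Q.mapIso χ)⟩⟩
    rcases isEmpty_or_nonempty T with hT | hT
    · let Z : CochainComplex A ℤ := (HomologicalComplex.single A _ 0).obj (0 : A)
      obtain ⟨N, hN, -⟩ := hSe 0 0 Z inferInstance inferInstance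
      exact hT.elim ⟨(0, 0), N, hN⟩
    · obtain ⟨f, hf⟩ := exists_surjective_nat T
      refine ⟨fun n => obj (f n), fun K => ?_⟩
      obtain ⟨x, hx⟩ := hcov K
      obtain ⟨n, rfl⟩ := hf x
      exact ⟨n, hx⟩

end Groth.Agent.S6713
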