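import Groth.Statements.S6717
import Groth.Agent.H02CA.BoxRes.Main
import Groth.Agent.H11Ample.RelPullback

set_option autoImplicit false
universe u
open CategoryTheory AlgebraicGeometry
open DEquiv

namespace Groth.Agent.S6717

open CategoryTheory.Limits in
/-- Let R be a commutative ring and X, Y quasi-compact and quasi-separated schemes over R which have the
resolution property. Then for every quasi-coherent O-module F of finite type on X ×_R Y there are a
finite locally free O_X-module E, a finite locally free O_Y-module G and an epimorphism pr_1^* E ⊗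
pr_2^* G ⟶ F. -/
theorem result
    (R : Type u) [CommRing R] (X Y : Scheme.{u}) [X.Over (Spec (.of R))] [Y.Over (Spec (.of R))]
    [CompactSpace X] [QuasiSeparatedSpace X] [CompactSpace Y] [QuasiSeparatedSpace Y]
    (hX : PerfAux.HasResolutionProperty X) (hY : PerfAux.HasResolutionProperty Y)
    (F : (pullback (X ↘ Spec (.of R)) (Y ↘ Spec (.of R))).Modules) (hF : Coh.IsQCoh F) (hF' : CohB1.IsFT F) :
    ∃ (E : X.Modules) (G : Y.Modules), FlatMod.IsFinLocFree E ∧ FlatMod.IsFinLocFree G ∧
      ∃ π : CohB1.tensorMod
          ((Scheme.Modules.pullback (pullback.fst (X ↘ Spec (.of R)) (Y ↘ Spec (.of R)))).obj E)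
          ((Scheme.Modules.pullback (pullback.snd (X ↘ Spec (.of R)) (Y ↘ Spec (.of R)))).obj G) ⟶ F,
        Epi π := by
  haveI : QuasiCompact (X ↘ Spec (.of R)) := inferInstance
  haveI : QuasiCompact (Y ↘ Spec (.of R)) := inferInstance
  haveI : QuasiSeparated (X ↘ Spec (.of R)) := quasiSeparated_iff_quasiSeparatedSpace _ |>.2 inferInstance
  haveI : QuasiSeparated (Y ↘ Spec (.of R)) := quasiSeparated_iff_quasiSeparatedSpace _ |>.2 inferInstance
  refine Groth.Agent.H02CA.BoxRes.exists_box_epi hX hY (pullback.fst _ _) (pullback.snd _ _)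
    (fun U V hU hV => Groth.Agent.H11Ample.isAffineOpen_fst_inf_snd _ _ (isAffineOpen_top _) hU (by simp) hV (by simp))
    (fun U hU => ?_) F hF hF'
  haveI : QuasiCompact U.ι := QuasiCompact.mk fun W hW hWc => by
    haveI : CompactSpace U := isCompact_iff_compactSpace.1 hU.isCompact
    rw [U.ι.isOpenEmbedding.isInducing.isCompact_iff, Set.image_preimage_eq_inter_range, Scheme.Opens.range_ι]
    exact QuasiSeparatedSpace.inter_isCompact _ _ hW hWc U.2 hU.isCompact
  exact MorphismProperty.of_isPullback (isPullback_morphismRestrict (pullback.fst _ _) U) ‹QuasiCompact U.ι›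

end Groth.Agent.S6717
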