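import Groth.Statements.S6718
import Groth.Agent.H02CA.Serre.Basic

set_option autoImplicit false
universe w v u
open CategoryTheory
open DEquiv

namespace Groth.Agent.S6718

open CategoryTheory.Limits CategoryTheory.Pretriangulated in
/-- Let k be a field and T a k-linear (pre)triangulated category with dim_k Hom(X, Y) < ∞ for all X, Y.
The following are equivalent: (1) there are a k-linear equivalence S : T ⥤ T and k-linear
isomorphisms c_{X,Y} : Hom(X, Y) ≅ Hom(Y, S X)^∨ natural in X and in Y; (2) for every object X the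
functor Y ↦ Hom(X, Y)^∨ is representable and the functor Y ↦ Hom(Y, X)^∨ is corepresentable, by
k-linear isomorphisms natural in Y. (Here V^∨ is the k-linear dual.) -/
theorem result
    {k : Type w} [Field k]
    {T : Type u} [Category.{v} T] [Preadditive T] [Linear k T] [HasZeroObject T] [HasShift T ℤ]
    [∀ n : ℤ, (shiftFunctor T n).Additive] [∀ n : ℤ, (shiftFunctor T n).Linear k] [Pretriangulated T]
    [∀ X Y : T, Module.Finite k (X ⟶ Y)] :
    (∃ (S : T ≌ T) (_ : S.functor.Additive) (_ : S.functor.Linear k)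
        (c : ∀ X Y : T, (X ⟶ Y) ≃ₗ[k] Module.Dual k (Y ⟶ S.functor.obj X)),
        (∀ (X Y Y' : T) (f : X ⟶ Y) (g : Y ⟶ Y'),
          c X Y' (f ≫ g) = (c X Y f) ∘ₗ Linear.leftComp k (S.functor.obj X) g) ∧
        (∀ (X' X Y : T) (a : X' ⟶ X) (f : X ⟶ Y),
          c X' Y (a ≫ f) = (c X Y f) ∘ₗ Linear.rightComp k Y (S.functor.map a))) ↔
    ((∀ X : T, ∃ (SX : T) (e : ∀ Y : T, (Y ⟶ SX) ≃ₗ[k] Module.Dual k (X ⟶ Y)),
        ∀ (Y Y' : T) (g : Y' ⟶ Y) (f : Y ⟶ SX),
          e Y' (g ≫ f) = (e Y f) ∘ₗ Linear.rightComp k X g) ∧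
      (∀ X : T, ∃ (RX : T) (e : ∀ Y : T, (RX ⟶ Y) ≃ₗ[k] Module.Dual k (Y ⟶ X)),
        ∀ (Y Y' : T) (g : Y ⟶ Y') (f : RX ⟶ Y),
          e Y' (f ≫ g) = (e Y f) ∘ₗ Linear.leftComp k X g)) := by
  open Groth.Agent.H02CA.Serre in
  constructor
  · rintro ⟨S, _, _, c, hc₁, hc₂⟩
    constructor
    · intro X
      refine ⟨S.functor.obj X, fun Y => tp (c X Y), fun Y Y' g f => LinearMap.ext fun x => ?_⟩
      change c X Y' x (g ≫ f) = c X Y (x ≫ g) f
      rw [hc₁]
      rfl
    · intro X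
      refine ⟨S.inverse.obj X, fun Y => (c (S.inverse.obj X) Y).trans
        ((Linear.homCongr k (Iso.refl Y) (S.counitIso.app X)).symm.dualMap), fun Y Y' g f => LinearMap.ext fun h => ?_⟩
      simp [hc₁, Linear.leftComp]
      congr 1
      simp [Linear.homCongr_symm_apply]
  · rintro ⟨hS, hR⟩
    choose SX e he using hS
    exact exists_serre (fun X => ⟨SX X, e X, fun g h f => by rw [he]; rfl⟩) hR

end Groth.Agent.S6718
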