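import Groth.Statements.S6720
import Groth.Agent.H02CA.SkyZero.Scheme

set_option autoImplicit false
universe u
open CategoryTheory AlgebraicGeometry
attribute [local instance] HasDerivedCategory.standard
open DEquiv

namespace Groth.Agent.S6720

/-- Let X be a scheme of finite type over a field k which is regular, x ∈ X a closed point, O_x the
skyscraper sheaf at x with value κ(x), and K a perfect object of D(O_X). If Hom(O_x, K⟦i⟧) = 0 for
all i ∈ ℤ, then K is zero on an open neighbourhood of x; likewise if Hom(K, O_x⟦i⟧) = 0 for all i ∈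
ℤ. (K zero on U is expressed as: no cohomology sheaf of K has a point of U in its support.) -/
theorem result
    (k : Type u) [Field k] (X : Scheme.{u}) [X.Over (Spec (.of k))]
    [LocallyOfFiniteType (X ↘ Spec (.of k))] [CompactSpace X]
    (hreg : Models.IsRegularScheme X) (x : X) (hx : IsClosed ({x} : Set X))
    (K : DCoh.D X) (hK : DCoh.IsPerfect K) :
    ((∀ (i : ℤ) (φ : DCoh.inD X ((Coh.push (X.fromSpecResidueField x)).obj (Coh.structureModule _)) ⟶ (shiftFunctor (DCoh.D X) i).obj K), φ = 0) →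
      ∃ U : X.Opens, x ∈ U ∧ ∀ (i : ℤ) (y : X), y ∈ U → y ∉ CohB1.support (DCoh.HD K i)) ∧
    ((∀ (i : ℤ) (φ : K ⟶ (shiftFunctor (DCoh.D X) i).obj (DCoh.inD X ((Coh.push (X.fromSpecResidueField x)).obj (Coh.structureModule _)))), φ = 0) →
      ∃ U : X.Opens, x ∈ U ∧ ∀ (i : ℤ) (y : X), y ∈ U → y ∉ CohB1.support (DCoh.HD K i)) := by
  haveI : IsLocallyNoetherian X := LocallyOfFiniteType.isLocallyNoetherian (X ↘ Spec (.of k))
  obtain ⟨hKc, a, c, hGE, hLE⟩ := Groth.Agent.H16Derived.KFlat.Stalk.isCohD_and_bounded_of_isPerfect hK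
  haveI := hGE
  haveI := hLE
  have key : (∀ i, x ∉ CohB1.support (DCoh.HD K i)) →
      ∃ U : X.Opens, x ∈ U ∧ ∀ (i : ℤ) (y : X), y ∈ U → y ∉ CohB1.support (DCoh.HD K i) := fun h => by
    classical
    let C : ℤ → X.Opens := fun i =>
      ⟨(CohB1.support (DCoh.HD K i))ᶜ, (Groth.Agent.H10Coh.isClosed_support _ (hKc i).2).isOpen_compl⟩
    refine ⟨(Finset.Icc a c).inf C, Groth.Agent.H10Coh.finset_inf_mem _ C fun i _ => h i, fun i y hy => ?_⟩
    rcases lt_or_ge i a with hia | hia
    · exact Groth.Agent.H02CA.Sky.notMem_support_of_isZero (K.isZero_of_isGE a i hia) y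
    rcases lt_or_ge c i with hci | hci
    · exact Groth.Agent.H02CA.Sky.notMem_support_of_isZero (K.isZero_of_isLE c i hci) y
    exact (Finset.inf_le (f := C) (Finset.mem_Icc.2 ⟨hia, hci⟩)) hy
  refine ⟨fun h => key fun i => ?_, fun h => key fun i => ?_⟩
  · exact Groth.Agent.H02CA.SkyZero.notMem_support_of_hom_sky x hx K hKc a h i
  · exact (Groth.Agent.H02CA.Sky.stalks_vanish_iff x hx K hKc c (i - 1)).2 (fun j _ φ => h (-j) φ) i (by omega)

end Groth.Agent.S6720
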