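import Groth.Statements.S6721
import Groth.Agent.H02CA.GapVanish.Scheme

set_option autoImplicit false
universe u
open CategoryTheory AlgebraicGeometry
attribute [local instance] HasDerivedCategory.standard
open DEquiv

namespace Groth.Agent.S6721

/-- Let X be a Noetherian scheme all of whose local rings are regular and whose underlying space has
Krull dimension d. Let K be a bounded object of D(O_X) with coherent cohomology sheaves and a ∈ ℤ
with H^i(K) = 0 for a < i < a + d. Then the connecting morphism τ_{≥ a+d} K ⟶ (τ_{< a+d} K)⟦1⟧ of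
the truncation triangle vanishes (note τ_{< a+d} K = τ_{≤ a} K here), so K decomposes as τ_{≤ a} K ⊕
τ_{≥ a+d} K. -/
theorem result
    (X : Scheme.{u}) [IsNoetherian X] (hreg : Models.IsRegularScheme X) (d : ℕ)
    (hd : topologicalKrullDim X = d) (K : DCoh.D X) (hK : DCoh.IsCohD K) (lo hi : ℤ)
    [DerivedCategory.IsGE K lo] [DerivedCategory.IsLE K hi] (a : ℤ)
    (hgap : ∀ i : ℤ, a < i → i < a + d → Limits.IsZero (DCoh.HD K i)) :
    (DerivedCategory.TStructure.t.truncGEδLT (a + d)).app K = 0 := by
  let t := (DerivedCategory.TStructure.t : Triangulated.TStructure (DCoh.D X))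
  let M := (t.truncLT (a + d)).obj K
  haveI hG : DerivedCategory.IsGE ((t.truncGE (a + d)).obj K) (a + d) := inferInstanceAs (t.IsGE _ (a + d))
  have hL : DerivedCategory.IsLE M (a + d - 1) := t.isLE_truncLT_obj K (a + d) (a + d - 1) (by omega)
  haveI : DerivedCategory.IsGE M lo := H16Derived.DTrunc.isGE_truncLT K (a + d) lo
  haveI : DerivedCategory.IsLE M a := by
    rw [DerivedCategory.isLE_iff]
    intro i hi
    rcases lt_or_ge i (a + d) with h | h
    · haveI := H16Derived.DTrunc.isIso_homology_truncLTι K (a + d) i h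
      exact (hgap i hi h).of_iso (asIso ((DerivedCategory.homologyFunctor X.Modules i).map ((t.truncLTι (a + d)).app K)))
    · exact DerivedCategory.isZero_of_isLE M (a + d - 1) i (by omega)
  haveI : DerivedCategory.IsGE (((t.truncGE (a + d)).obj K)⟦(-1 : ℤ)⟧) (a + d + 1) :=
    t.isGE_shift _ (a + d) (-1) (a + d + 1) (by omega)
  let φ := (t.truncGEδLT (a + d)).app K
  let c := (shiftFunctorCompIsoId (DCoh.D X) (1 : ℤ) (-1) (by omega)).app M
  have h : φ⟦(-1 : ℤ)⟧' ≫ c.hom = 0 :=
    Groth.Agent.H02CA.GapVanish.hom_eq_zero d (a + d + 1) lo a (fun i =>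
      Groth.Agent.H02CA.GapVanish.injDim_truncLT d K (a + d)
        (fun j => Groth.Agent.H02CA.GapVanish.injDim_of_regular hreg hd _ (hK j).1) i) (by omega) _
  exact (shiftFunctor (DCoh.D X) (-1 : ℤ)).map_injective
    (((cancel_mono c.hom).1 (h.trans Limits.zero_comp.symm)).trans (Functor.map_zero _ _ _).symm)

end Groth.Agent.S6721
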