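import Groth.Statements.S6724
import Groth.Agent.H17.CohInd.Scheme
import Groth.Agent.H17.GabRos.Main
-- import your own Groth.Agent.* helpers here

set_option autoImplicit false
universe u
open CategoryTheory AlgebraicGeometry
open FunMor

namespace Groth.Agent.S6724

/-- Let X and Y be Noetherian schemes and F : Coh(O_X) ⥤ Coh(O_Y) an equivalence of categories. Then
there exist an isomorphism of schemes f : Y ≅ X and an invertible O_Y-module L such that F(G) ≅ f^*
G ⊗ L functorially in the coherent O_X-module G (an isomorphism between F followed by the inclusion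
into O_Y-modules and the composite of the inclusion, f^* and - ⊗ L). -/
theorem result
    (X Y : Scheme.{u}) [IsNoetherian X] [IsNoetherian Y]
    (F : ObjectProperty.FullSubcategory (fun M : X.Modules => Coh.IsCoh M) ≌ ObjectProperty.FullSubcategory (fun M : Y.Modules => Coh.IsCoh M)) :
    ∃ (f : Y ≅ X) (L : Y.Modules), PicF.IsInvertible L ∧
      Nonempty (F.functor ⋙ ObjectProperty.ι (fun M : Y.Modules => Coh.IsCoh M) ≅
        ObjectProperty.ι (fun M : X.Modules => Coh.IsCoh M) ⋙ Scheme.Modules.pullback f.hom ⋙ DCoh.tensorRightMod L) := by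
  obtain ⟨e, ⟨i⟩⟩ := Groth.Agent.H17.CohInd.exists_equivalence_qcoh F
  obtain ⟨f, L, hL, ⟨η⟩⟩ := Groth.Agent.H17.GabRos.gabriel_rosenberg e
  refine ⟨f, L, hL, ⟨?_⟩⟩
  exact Functor.isoWhiskerLeft F.functor (Iso.refl _) ≪≫ (Functor.associator F.functor
      (Groth.Agent.H17.CohInd.toQCoh Y) (QCohCat.isQCoh Y).ι).symm ≪≫
    Functor.isoWhiskerRight i.symm (QCohCat.isQCoh Y).ι ≪≫ Functor.associator _ _ _ ≪≫
    Functor.isoWhiskerLeft (Groth.Agent.H17.CohInd.toQCoh X) η ≪≫
    (Functor.associator _ _ _).symm ≪≫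
    Functor.isoWhiskerRight (Iso.refl _) _

end Groth.Agent.S6724
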