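import Groth.Statements.S6729
import Groth.Agent.S6717
import Groth.Agent.H22Alg.SyzResolution
import Groth.Agent.H10Coh.AffinePush
import Groth.Agent.H10Coh.FinType2
import Groth.Agent.H10Coh.Proper
import Groth.Agent.H22Alg.KAmple
import Groth.Agent.H16Derived.KFlat.FinLocFree

set_option autoImplicit false
universe u
open CategoryTheory AlgebraicGeometry
open DEquiv

namespace Groth.Agent.S6729

open CategoryTheory.Limits in
theorem exists_resolution {P : Scheme.{u}} [IsLocallyNoetherian P] (C : P.Modules → Prop)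
    (hC : ∀ F, Coh.IsCoh F → ∃ (B : P.Modules) (π : B ⟶ F), C B ∧ Coh.IsCoh B ∧ Epi π)
    (F : P.Modules) (hF : Coh.IsCoh F) :
    ∃ (K : ChainComplex P.Modules ℕ) (π : K ⟶ (ChainComplex.single₀ _).obj F),
      QuasiIso π ∧ ∀ n, C (K.X n) := by
  choose B f hB hBc hf using hC
  let next : {M : P.Modules // Coh.IsCoh M} → {M : P.Modules // Coh.IsCoh M} := fun M =>
    ⟨kernel (f M.1 M.2), H10Coh.isCoh_kernel _ (hBc M.1 M.2) M.2.1⟩
  let Z : ℕ → {M : P.Modules // Coh.IsCoh M} := fun n => next^[n] ⟨F, hF⟩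
  have hZ : ∀ n, Z (n + 1) = next (Z n) := fun n => Function.iterate_succ_apply' next n _
  let L : ℕ → P.Modules := fun n => B (Z n).1 (Z n).2
  let π : ∀ n, L n ⟶ (Z n).1 := fun n => f (Z n).1 (Z n).2
  let ι : ∀ n, (Z (n + 1)).1 ⟶ L n := fun n => eqToHom (congrArg Subtype.val (hZ n)) ≫ kernel.ι (π n)
  have w : ∀ n, ι n ≫ π n = 0 := fun n => by rw [Category.assoc, kernel.condition, comp_zero]
  have hS : ∀ n, (ShortComplex.mk (ι n) (π n) (w n)).ShortExact := fun n => by
    haveI := hf (Z n).1 (Z n).2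
    have h0 : (ShortComplex.mk (kernel.ι (π n)) (π n) (kernel.condition _)).ShortExact :=
      { exact := ShortComplex.exact_kernel _
        mono_f := inferInstanceAs (Mono (kernel.ι (π n)))
        epi_g := inferInstanceAs (Epi (π n)) }
    let i : ShortComplex.mk (kernel.ι (π n)) (π n) (kernel.condition _) ≅ ShortComplex.mk (ι n) (π n) (w n) :=
      ShortComplex.isoMk (eqToIso (congrArg Subtype.val (hZ n)).symm) (Iso.refl _) (Iso.refl _)
        (by simp [ι, next]) (by simp)
    exact ShortComplex.shortExact_of_iso i h0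
  exact ⟨Groth.Agent.H22Alg.SyzResolution.cx π ι w, Groth.Agent.H22Alg.SyzResolution.aug π ι w,
    Groth.Agent.H22Alg.SyzResolution.quasiIso_aug π ι w hS, fun n => hB (Z n).1 (Z n).2⟩

open CategoryTheory.Limits in
/-- Let R be a Noetherian ring and X a separated scheme of finite type over R which has the resolution
property. Let O_Δ = Δ_* O_X on X ×_R X, where Δ is the diagonal. Then there is a resolution ⋯ ⟶ E_1
⊠ G_1 ⟶ E_0 ⊠ G_0 ⟶ O_Δ ⟶ 0 with every E_i and G_i a finite locally free O_X-module: an ℕ-indexed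
chain complex with a quasi-isomorphism to O_Δ in degree 0, each of whose terms is isomorphic to
pr_1^* E_i ⊗ pr_2^* G_i. -/
theorem result
    (R : Type u) [CommRing R] [IsNoetherianRing R] (X : Scheme.{u}) [X.Over (Spec (.of R))]
    [IsSeparated (X ↘ Spec (.of R))] [LocallyOfFiniteType (X ↘ Spec (.of R))] [CompactSpace X]
    (hX : PerfAux.HasResolutionProperty X) :
    ∃ (C : ChainComplex (pullback (X ↘ Spec (.of R)) (X ↘ Spec (.of R))).Modules ℕ)
      (π : C ⟶ (ChainComplex.single₀ _).obj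
        ((Coh.push (pullback.diagonal (X ↘ Spec (.of R)))).obj (Coh.structureModule X))),
      QuasiIso π ∧ ∀ n : ℕ, ∃ (E G : X.Modules), FlatMod.IsFinLocFree E ∧ FlatMod.IsFinLocFree G ∧
        Nonempty (C.X n ≅ CohB1.tensorMod
          ((Scheme.Modules.pullback (pullback.fst (X ↘ Spec (.of R)) (X ↘ Spec (.of R)))).obj E)
          ((Scheme.Modules.pullback (pullback.snd (X ↘ Spec (.of R)) (X ↘ Spec (.of R)))).obj G)) := by
  haveI : IsLocallyNoetherian X := LocallyOfFiniteType.isLocallyNoetherian (X ↘ Spec (.of R))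
  haveI : IsLocallyNoetherian (pullback (X ↘ Spec (.of R)) (X ↘ Spec (.of R))) :=
    LocallyOfFiniteType.isLocallyNoetherian (pullback.fst (X ↘ Spec (.of R)) (X ↘ Spec (.of R)))
  refine exists_resolution (fun B => ∃ (E G : X.Modules), FlatMod.IsFinLocFree E ∧ FlatMod.IsFinLocFree G ∧
    Nonempty (B ≅ CohB1.tensorMod
      ((Scheme.Modules.pullback (pullback.fst (X ↘ Spec (.of R)) (X ↘ Spec (.of R)))).obj E)
      ((Scheme.Modules.pullback (pullback.snd (X ↘ Spec (.of R)) (X ↘ Spec (.of R)))).obj G)))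
    (fun F hF => ?_) _ (Groth.Agent.H10Coh.isCoh_push_of_isFinite (f := pullback.diagonal (X ↘ Spec (.of R))) (Coh.structureModule X) (Groth.Agent.H10Coh.isCoh_structureModule' X))
  obtain ⟨E, G, hE, hG, π, hπ⟩ := Groth.Agent.S6717.result R X X hX hX F hF.1 hF.2
  exact ⟨_, π, ⟨E, G, hE, hG, ⟨Iso.refl _⟩⟩, Groth.Agent.H16Derived.KFlat.Stalk.isCoh_of_isFinLocFree
    (Groth.Agent.H22Alg.KModel.finLocFree_tensorMod (Groth.Agent.H16Derived.KFlat.Stalk.isFinLocFree_pullback _ hE)
      (Groth.Agent.H16Derived.KFlat.Stalk.isFinLocFree_pullback _ hG)), hπ⟩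

end Groth.Agent.S6729
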