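import Groth.Statements.S6733
import Groth.Agent.H02CA.FibreVanish.HomSky

set_option autoImplicit false
universe u
open CategoryTheory AlgebraicGeometry
attribute [local instance] HasDerivedCategory.standard
open DEquiv

namespace Groth.Agent.S6733

/-- Let X be a scheme of finite type over a field k which is regular, x ∈ X a closed point, O_x the
skyscraper sheaf at x with value κ(x), d = dim O_{X,x}, and K a perfect object of D(O_X); the
derived functors - ⊗^L O_x and RΓ(X, -) are assumed to exist (instance binders). (5) If H^i(X, K ⊗^L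
O_x) = 0 then H^i(K) vanishes on an open neighbourhood of x. (6) If H^i(X, K ⊗^L O_x) = 0 for all i
then every cohomology sheaf of K vanishes on an open neighbourhood of x. (1) If Hom(O_x, K⟦i⟧) = 0
then H^{i-d}(K) vanishes on an open neighbourhood of x. (Vanishing on U: no point of U lies in the
support.) -/
theorem result
    (k : Type u) [Field k] (X : Scheme.{u}) [X.Over (Spec (.of k))]
    [LocallyOfFiniteType (X ↘ Spec (.of k))] [CompactSpace X]
    (hreg : Models.IsRegularScheme X) (x : X) (hx : IsClosed ({x} : Set X))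
    (d : ℕ) (hd : ringKrullDim (X.presheaf.stalk x) = d)
    (K : DCoh.D X) (hK : DCoh.IsPerfect K)
    [DCoh.HasLTensorMod ((Coh.push (X.fromSpecResidueField x)).obj (Coh.structureModule _))] [DCoh.HasRΓ X] :
    (∀ i : ℤ, Limits.IsZero ((DerivedCategory.homologyFunctor AddCommGrpCat.{u} i).obj
          ((DCoh.RΓ X).obj ((DCoh.LTensorMod ((Coh.push (X.fromSpecResidueField x)).obj (Coh.structureModule _))).obj K))) →
      ∃ U : X.Opens, x ∈ U ∧ ∀ y : X, y ∈ U → y ∉ CohB1.support (DCoh.HD K i)) ∧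
    ((∀ i : ℤ, Limits.IsZero ((DerivedCategory.homologyFunctor AddCommGrpCat.{u} i).obj
          ((DCoh.RΓ X).obj ((DCoh.LTensorMod ((Coh.push (X.fromSpecResidueField x)).obj (Coh.structureModule _))).obj K)))) →
      ∃ U : X.Opens, x ∈ U ∧ ∀ (i : ℤ) (y : X), y ∈ U → y ∉ CohB1.support (DCoh.HD K i)) ∧
    (∀ i : ℤ, (∀ φ : DCoh.inD X ((Coh.push (X.fromSpecResidueField x)).obj (Coh.structureModule _)) ⟶ (shiftFunctor (DCoh.D X) i).obj K, φ = 0) →
      ∃ U : X.Opens, x ∈ U ∧ ∀ y : X, y ∈ U → y ∉ CohB1.support (DCoh.HD K (i - d))) := by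
  haveI : IsLocallyNoetherian X := LocallyOfFiniteType.isLocallyNoetherian (X ↘ Spec (.of k))
  haveI := hreg x
  refine ⟨fun i h => Groth.Agent.H02CA.FibreVanish.exists_open_of_tensor_sky x hx K hK i
      (Groth.Agent.H02CA.FibreVanish.notMem_support_of_tensor_sky x hx K hK i h), fun h => ?_,
    fun i h => Groth.Agent.H02CA.FibreVanish.exists_open_of_tensor_sky x hx K hK (i - d)
      (Groth.Agent.H02CA.FibreVanish.notMem_support_of_hom_sky_deg x hx d hd K hK i h)⟩
  classical
  obtain ⟨hKc, a, c, hGE, hLE⟩ := Groth.Agent.H16Derived.KFlat.Stalk.isCohD_and_bounded_of_isPerfect hK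
  haveI := hGE
  haveI := hLE
  let C : ℤ → X.Opens := fun i =>
    ⟨(CohB1.support (DCoh.HD K i))ᶜ, (Groth.Agent.H10Coh.isClosed_support _ (hKc i).2).isOpen_compl⟩
  refine ⟨(Finset.Icc a c).inf C, Groth.Agent.H10Coh.finset_inf_mem _ C fun i _ =>
    Groth.Agent.H02CA.FibreVanish.notMem_support_of_tensor_sky x hx K hK i (h i), fun i y hy => ?_⟩
  rcases lt_or_ge i a with hia | hia
  · exact Groth.Agent.H02CA.Sky.notMem_support_of_isZero (K.isZero_of_isGE a i hia) y
  rcases lt_or_ge c i with hci | hci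
  · exact Groth.Agent.H02CA.Sky.notMem_support_of_isZero (K.isZero_of_isLE c i hci) y
  exact (Finset.inf_le (f := C) (Finset.mem_Icc.2 ⟨hia, hci⟩)) hy

end Groth.Agent.S6733
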