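import Groth.Statements.S6737
import Groth.Agent.H02CA.KoszLift.Main

set_option autoImplicit false
universe u
open CategoryTheory
attribute [local instance] HasDerivedCategory.standard
open DEquiv

namespace Groth.Agent.S6737

/-- Let (R, m) → (A, n) be a flat local homomorphism between local rings, with A essentially of finite
presentation over R. Let f̄_1, …, f̄_r ∈ n/mA ⊆ A/mA be a regular sequence, and suppose K is a
perfect object of D(A) whose derived reduction K ⊗^L_A A/mA admits, in D(A/mA), an isomorphism with
the Koszul complex of the sequence f̄_1, …, f̄_r (existence of the derived base change functor is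
taken as an instance binder). Under these hypotheses one can choose lifts f_1, …, f_r ∈ A of the
f̄_i that form a regular sequence in A, for which K and the Koszul complex built from these lifts
become isomorphic objects of D(A); in addition, the quotient of A by the ideal (f_1, …, f_r) is
R-flat. -/
theorem result
    (R A : Type u) [CommRing R] [CommRing A] [IsLocalRing R] [IsLocalRing A] [Algebra R A]
    [IsLocalHom (algebraMap R A)] [Module.Flat R A] (hefp : CAlgX.IsEssFinitePresentation R A)
    (fbar : List (A ⧸ ((IsLocalRing.maximalIdeal R).map (algebraMap R A))))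
    (hfbar : ∀ f ∈ fbar, f ∈ (IsLocalRing.maximalIdeal A).map (Ideal.Quotient.mk ((IsLocalRing.maximalIdeal R).map (algebraMap R A))))
    (hreg : RingTheory.Sequence.IsRegular (A ⧸ ((IsLocalRing.maximalIdeal R).map (algebraMap R A))) fbar)
    (K : Dual.D A) (hK : DRing.IsPerfect A K)
    [DRing.HasLBaseChange (Ideal.Quotient.mk ((IsLocalRing.maximalIdeal R).map (algebraMap R A)))]
    (hKf : Nonempty ((DRing.LBaseChange (Ideal.Quotient.mk ((IsLocalRing.maximalIdeal R).map (algebraMap R A)))).obj K ≅
      DerivedCategory.Q.obj (Koszul.koszul (A ⧸ ((IsLocalRing.maximalIdeal R).map (algebraMap R A))) fbar))) :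
    ∃ fs : List A, fs.map (Ideal.Quotient.mk ((IsLocalRing.maximalIdeal R).map (algebraMap R A))) = fbar ∧ RingTheory.Sequence.IsRegular A fs ∧
      Nonempty (K ≅ DerivedCategory.Q.obj (Koszul.koszul A fs)) ∧
      Module.Flat R (A ⧸ Ideal.span {a : A | a ∈ fs}) := by
  haveI := Groth.Agent.H02CA.KoszLift.essFiniteType_of_efp (R := R) (A := A) hefp
  exact Groth.Agent.H02CA.KoszLift.exists_lift fbar hfbar hreg K hK hKf

end Groth.Agent.S6737
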