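import Groth.Statements.S6739
import Groth.Agent.H02CA.SysBounded.Main

set_option autoImplicit false
set_option backward.isDefEq.respectTransparency false
set_option maxHeartbeats 1000000
universe u
open CategoryTheory CategoryTheory.Limits AlgebraicGeometry
attribute [local instance] HasDerivedCategory.standard
open DEquiv

namespace Groth.Agent.S6739

/-- Let k be a field and X, Y schemes of finite type over k. Let K_0 ⟶ K_1 ⟶ K_2 ⟶ ⋯ be a system of
perfect objects of D(O_{X ×_k Y}) and m ≥ 0 an integer such that (1) H^q(K_n) = 0 for q > m and all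
n, and (2) for every coherent O_X-module F whose support is a finite set of closed points, each
object R pr_{2,*}(pr_1^* F ⊗^L K_n) has zero cohomology sheaves except possibly in degrees lying in
[-m, m] ∪ [-m-n, m-n], and whenever n > 2m, the maps induced by the system are isomorphisms on the
i-th cohomology sheaves of these objects for all i with -m ≤ i ≤ m. Then the cohomology sheaves of
each K_n are zero in every degree not in [-m, m] ∪ [-m-n, m-n], and once n > 2m, each map K_n ⟶
K_{n+1} of the system induces an isomorphism on the i-th cohomology sheaf for all i with -m ≤ i ≤ m.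
(The derived functors - ⊗^L pr_1^* F and R pr_{2,*} are assumed to exist, as instance binders; pr_1
is flat, so pr_1^* F is the derived pullback. A further splitting of K_n when X and Y are smooth is
not part of this statement.) -/
theorem result
    (k : Type u) [Field k] (X Y : Scheme.{u}) [X.Over (Spec (.of k))] [Y.Over (Spec (.of k))]
    [LocallyOfFiniteType (X ↘ Spec (.of k))] [CompactSpace X] [LocallyOfFiniteType (Y ↘ Spec (.of k))] [CompactSpace Y]
    [∀ F : X.Modules, DCoh.HasLTensorMod ((Scheme.Modules.pullback (pullback.fst (X ↘ Spec (.of k)) (Y ↘ Spec (.of k)))).obj F)]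
    [DCoh.HasRpush (pullback.snd (X ↘ Spec (.of k)) (Y ↘ Spec (.of k)))]
    (K : ℕ → DCoh.D (pullback (X ↘ Spec (.of k)) (Y ↘ Spec (.of k)))) (t : ∀ n : ℕ, K n ⟶ K (n + 1)) (hK : ∀ n, DCoh.IsPerfect (K n))
    (m : ℕ) (h1 : ∀ (n : ℕ) (q : ℤ), (m : ℤ) < q → IsZero (DCoh.HD (K n) q))
    (h2 : ∀ (F : X.Modules), Coh.IsCoh F → (CohB1.support F).Finite →
      (∀ x ∈ CohB1.support F, IsClosed ({x} : Set X)) →
      (∀ (n : ℕ) (i : ℤ), ¬ (-(m : ℤ) ≤ i ∧ i ≤ m) → ¬ (-(m : ℤ) - n ≤ i ∧ i ≤ (m : ℤ) - n) →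
          IsZero (DCoh.HD ((DCoh.Rpush (pullback.snd (X ↘ Spec (.of k)) (Y ↘ Spec (.of k)))).obj ((DCoh.LTensorMod ((Scheme.Modules.pullback (pullback.fst (X ↘ Spec (.of k)) (Y ↘ Spec (.of k)))).obj F)).obj (K n))) i)) ∧
      (∀ (n : ℕ) (i : ℤ), 2 * m < n → -(m : ℤ) ≤ i → i ≤ m →
          IsIso ((DerivedCategory.homologyFunctor _ i).map ((DCoh.Rpush (pullback.snd (X ↘ Spec (.of k)) (Y ↘ Spec (.of k)))).map ((DCoh.LTensorMod ((Scheme.Modules.pullback (pullback.fst (X ↘ Spec (.of k)) (Y ↘ Spec (.of k)))).obj F)).map (t n)))))) :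
    (∀ (n : ℕ) (i : ℤ), ¬ (-(m : ℤ) ≤ i ∧ i ≤ m) → ¬ (-(m : ℤ) - n ≤ i ∧ i ≤ (m : ℤ) - n) →
        IsZero (DCoh.HD (K n) i)) ∧
    ∀ (n : ℕ) (i : ℤ), 2 * m < n → -(m : ℤ) ≤ i → i ≤ m →
        IsIso ((DerivedCategory.homologyFunctor _ i).map (t n)) := by
  open Groth.Agent.H02CA Groth.Agent.H16Derived Groth.Agent.H16Derived.KFlat.Stalk Pretriangulated in
  haveI : QuasiCompact (X ↘ Spec (CommRingCat.of k)) := (quasiCompact_iff_compactSpace _).2 inferInstance
  haveI : QuasiCompact (Y ↘ Spec (CommRingCat.of k)) := (quasiCompact_iff_compactSpace _).2 inferInstance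
  let a := X ↘ Spec (CommRingCat.of k)
  let b := Y ↘ Spec (CommRingCat.of k)
  have h3 : ∀ (n : ℕ) (i : ℤ), ¬ (-(m : ℤ) ≤ i ∧ i ≤ m) → ¬ (-(m : ℤ) - n ≤ i ∧ i ≤ (m : ℤ) - n) →
      IsZero (DCoh.HD (K n) i) := fun n i hi hi' =>
    SysBounded.isZero_hd_of_points a b (K n) (hK n) i fun F hF hf hc => (h2 F hF hf hc).1 n i hi hi'
  refine ⟨h3, fun n i hn hi hi' => ?_⟩
  obtain ⟨C, p, w, hT⟩ := distinguished_cocone_triangle (t n)
  have hC : DCoh.IsPerfect C := isPerfect_obj₃ hT (hK n) (hK (n + 1))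
  have hz : ∀ j : ℤ, -(m : ℤ) - 1 ≤ j → j ≤ m → IsZero (DCoh.HD C j) := fun j hj hj' => by
    refine SysBounded.isZero_hd_of_points a b C hC j fun F hF hf hc => ?_
    obtain ⟨hz₀, hiso⟩ := h2 F hF hf hc
    let G := (Scheme.Modules.pullback (pullback.fst a b)).obj F
    letI := KFlat.Stalk.ltensorModCommShift G
    haveI := KFlat.Stalk.ltensorMod_isTriangulated G
    letI := rpushCommShift (pullback.snd a b)
    haveI := rpush_isTriangulated (pullback.snd a b)
    let T := (DCoh.Rpush (pullback.snd a b)).mapTriangle.obj ((DCoh.LTensorMod G).mapTriangle.obj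
      (Triangle.mk (t n) p w))
    have hT' : T ∈ distTriang _ :=
      (DCoh.Rpush (pullback.snd a b)).map_distinguished _ ((DCoh.LTensorMod G).map_distinguished _ hT)
    refine (DerivedCategory.HomologySequence.exact₃ T hT' j (j + 1) rfl).isZero_of_both_zeros ?_ ?_
    · rcases le_or_gt (-(m : ℤ)) j with h | h
      · haveI : IsIso ((DerivedCategory.homologyFunctor _ j).map T.mor₁) := hiso n j hn h hj'
        exact (DerivedCategory.HomologySequence.epi_homologyMap_mor₁_iff T hT' j).1 inferInstance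
      · exact (hz₀ (n + 1) j (by omega) (by push_cast; omega)).eq_of_src _ _
    · rcases le_or_gt (j + 1) (m : ℤ) with h | h
      · haveI : IsIso ((DerivedCategory.homologyFunctor _ (j + 1)).map T.mor₁) := hiso n (j + 1) hn (by omega) h
        exact (DerivedCategory.HomologySequence.mono_homologyMap_mor₁_iff T hT' j (j + 1) rfl).1 inferInstance
      · exact (hz₀ n (j + 1) (by omega) (by omega)).eq_of_tgt _ _
  haveI : Mono ((DerivedCategory.homologyFunctor _ i).map (t n)) :=
    (DerivedCategory.HomologySequence.mono_homologyMap_mor₁_iff _ hT (i - 1) i (by omega)).2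
      ((hz (i - 1) (by omega) (by omega)).eq_of_src _ _)
  haveI : Epi ((DerivedCategory.homologyFunctor _ i).map (t n)) :=
    (DerivedCategory.HomologySequence.epi_homologyMap_mor₁_iff _ hT i).2
      ((hz i (by omega) hi').eq_of_tgt _ _)
  exact isIso_of_mono_of_epi _

end Groth.Agent.S6739
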