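import Groth.Statements.S6740
import Groth.Agent.H02CA.PtDual.Point
import Groth.Agent.H02CA.PtDual.Tensor
import Groth.Agent.H02CA.PtDual.Gamma
import Groth.Agent.H02CA.Corep.Generic
import Groth.Agent.LeadBrown.PerfTensor

set_option autoImplicit false
universe u
open CategoryTheory AlgebraicGeometry
attribute [local instance] HasDerivedCategory.standard
open DEquiv

namespace Groth.Agent.S6740

/-- Let X be a scheme of finite type over a field k which is regular, x ∈ X a closed point with d = dim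
O_{X,x}, and F, F' coherent O_X-modules supported at x whose stalks are Matlis dual: F'_x ≅ Hom(F_x,
E) over O_{X,x} for an injective hull E of the residue field κ(x). Then there are bijections
Hom_X(F, M) ≅ H^0(X, M ⊗^L F'⟦-d⟧) = H^{-d}(X, M ⊗^L F'), natural in the perfect object M of D(O_X).
(The derived functors - ⊗^L F' and RΓ(X, -) are assumed to exist, as instance binders; existence of
a natural family of bijections is asserted.) -/
theorem result
    (k : Type u) [Field k] (X : Scheme.{u}) [X.Over (Spec (.of k))]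
    [LocallyOfFiniteType (X ↘ Spec (.of k))] [CompactSpace X]
    (hreg : Models.IsRegularScheme X) (x : X) (hx : IsClosed ({x} : Set X))
    (d : ℕ) (hd : ringKrullDim (X.presheaf.stalk x) = d)
    (E : Type u) [AddCommGroup E] [Module (X.presheaf.stalk x) E]
    (ι : IsLocalRing.ResidueField (X.presheaf.stalk x) →ₗ[(X.presheaf.stalk x)] E) (hι : InjHull.IsInjectiveHull ι)
    (F F' : X.Modules) (hF : Coh.IsCoh F) (hF' : Coh.IsCoh F')
    (hsF : CohB1.support F ⊆ {x}) (hsF' : CohB1.support F' ⊆ {x})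
    (hdual : Nonempty ((F'.presheaf.stalk x) ≃ₗ[(X.presheaf.stalk x)] ((F.presheaf.stalk x) →ₗ[(X.presheaf.stalk x)] E)))
    [DCoh.HasLTensorMod F'] [DCoh.HasRΓ X] :
    ∃ e : ∀ M : DCoh.D X, DCoh.IsPerfect M →
        ((DCoh.inD X F ⟶ M) ≃
          ((DerivedCategory.homologyFunctor AddCommGrpCat.{u} (-(d : ℤ))).obj
            ((DCoh.RΓ X).obj ((DCoh.LTensorMod F').obj M)))),
      ∀ (M M' : DCoh.D X) (hM : DCoh.IsPerfect M) (hM' : DCoh.IsPerfect M') (g : M ⟶ M')
        (φ : DCoh.inD X F ⟶ M),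
        e M' hM' (φ ≫ g) =
          ((DerivedCategory.homologyFunctor AddCommGrpCat.{u} (-(d : ℤ))).map
            ((DCoh.RΓ X).map ((DCoh.LTensorMod F').map g))) (e M hM φ) := by
  haveI : IsLocallyNoetherian X := LocallyOfFiniteType.isLocallyNoetherian (X ↘ Spec (.of k))
  open Groth.Agent in
  open Groth.Agent.H16Derived in
  exact (by
    have hdim : ∀ V : X.Opens, IsAffineOpen V → ringKrullDim Γ(X, V) < ⊤ := fun V hV => by
      letI : Algebra k Γ(X, V) := ((Scheme.ΓSpecIso (.of k)).inv ≫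
        (X ↘ Spec (.of k)).appLE ⊤ V le_top).hom.toAlgebra
      haveI : Algebra.FiniteType k Γ(X, V) := by
        refine (RingHom.FiniteType.comp
          (LocallyOfFiniteType.finiteType_appLE (X ↘ Spec (.of k)) (isAffineOpen_top _) hV le_top)
          (RingHom.FiniteType.of_surjective (Scheme.ΓSpecIso (.of k)).inv.hom ?_) : RingHom.FiniteType _)
        exact (Scheme.ΓSpecIso (.of k)).symm.commRingCatIsoToRingEquiv.surjective
      refine H4DR.Dualizing.ringKrullDim_lt_top_of_finiteType (A := k) ?_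
      rw [ringKrullDim_eq_zero_of_field]
      decide
    obtain ⟨ed⟩ := hdual
    have hk : DCoh.IsPerfect (DCoh.inD X F) := KFlat.Stalk.isPerfect_inD_of_isCoh hreg hF
    obtain ⟨er⟩ := H02CA.PtDual.nonempty_ro_iso hreg hdim hx d hd E ι hι F F' hF hsF hsF' ed
    obtain ⟨eR⟩ := LeadBrown.nonempty_R_iso hk
    obtain ⟨eT⟩ := H02CA.PtDual.nonempty_TFlip_shift F' (-(d : ℤ))
    let eO : ((Dual.T X).flip.obj (DCoh.inD X F)).obj (Dual.one X) ≅ DCoh.inD X F :=
      Dual.σ _ _ ≪≫ (Dual.rightUnit (X := X)).app _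
    let eS : (shiftFunctor (DCoh.D X) (d : ℤ)).obj (Dual.one X) ≅ H02CA.PtDual.SD X (-(d : ℤ)) :=
      (shiftFunctor (DCoh.D X) (d : ℤ)).mapIso (Dual.oneIso.symm ≪≫
        (DerivedCategory.singleFunctor X.Modules 0).mapIso QCohD.freeShTopIso.symm) ≪≫
      ((DerivedCategory.singleFunctors X.Modules).shiftIso (d : ℤ) (-(d : ℤ)) 0 (by omega)).app _ ≪≫
      (DerivedCategory.singleFunctorIsoCompQ X.Modules (-(d : ℤ))).app _
    haveI : (shiftEquiv' (DCoh.D X) (d : ℤ) (-(d : ℤ)) (add_neg_cancel _)).functor.Additive :=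
      inferInstanceAs ((shiftFunctor (DCoh.D X) (d : ℤ)).Additive)
    let ν : preadditiveCoyoneda.obj (Opposite.op (DCoh.inD X F)) ≅
        DCoh.LTensorMod F' ⋙ preadditiveCoyoneda.obj (Opposite.op (H02CA.PtDual.SD X (-(d : ℤ)))) :=
      preadditiveCoyoneda.mapIso eO.op ≪≫ (H02CA.Corep.adjIso (Dual.adjR (DCoh.inD X F)) (Dual.one X)).symm ≪≫
        Functor.isoWhiskerRight (eR.symm ≪≫ (Dual.T X).flip.mapIso er ≪≫ eT) _ ≪≫ Functor.associator _ _ _ ≪≫
        Functor.isoWhiskerLeft (DCoh.LTensorMod F')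
          (H02CA.Corep.adjIso (shiftEquiv' (DCoh.D X) (d : ℤ) (-(d : ℤ)) (add_neg_cancel _)).toAdjunction
              (Dual.one X) ≪≫
            preadditiveCoyoneda.mapIso eS.symm.op)
    refine ⟨fun M _ => (ν.app M).addCommGroupIsoToAddEquiv.toEquiv.trans
      (H02CA.PtDual.homEquivRΓ X (-(d : ℤ)) _), fun M M' hM hM' g φ => ?_⟩
    refine Eq.trans ?_ (H02CA.PtDual.homEquivRΓ_comp X (-(d : ℤ)) _ _)
    exact congrArg (H02CA.PtDual.homEquivRΓ X (-(d : ℤ)) _) (congr($(ν.hom.naturality g) φ)))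

end Groth.Agent.S6740
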