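import Groth.Statements.S6744
import Groth.Agent.H02CA.PerfRep.DetectMain
import Groth.Agent.S6742

set_option autoImplicit false
universe u
open CategoryTheory AlgebraicGeometry
attribute [local instance] HasDerivedCategory.standard
open DEquiv

namespace Groth.Agent.S6744

/-- Let X be a scheme proper over a field k which is regular (all local rings of X are regular local
rings; X is Noetherian, being of finite type over k) and let K be an object of D(O_X) with
quasi-coherent cohomology sheaves. Then K is bounded with coherent cohomology sheaves (equivalently,
as X is regular, K is perfect) if and only if for every perfect object E of D(O_X) the k-vector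
spaces Ext^i_X(E, K) = Hom(E, K⟦i⟧) are finite-dimensional for all i ∈ ℤ and nonzero for only
finitely many i. -/
theorem result
    (k : Type u) [Field k] (X : Scheme.{u}) [X.Over (Spec (.of k))] [IsProper (X ↘ Spec (.of k))]
    (hreg : Models.IsRegularScheme X)
    (K : DCoh.D X) (hK : DCoh.IsQCohD K) :
    SGA6.cohbP X K ↔
      ∀ E : DCoh.D X, DCoh.IsPerfect E →
        (∀ i : ℤ, Module.Finite k (E ⟶ (shiftFunctor (DCoh.D X) i).obj K)) ∧
        Set.Finite {i : ℤ | Nontrivial (E ⟶ (shiftFunctor (DCoh.D X) i).obj K)} := by
  exact ⟨fun hc E hE => S6742.result k X K hc E hE, H02CA.PerfRep.cohbP_of_ext_regular k X hreg K hK⟩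

end Groth.Agent.S6744
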