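import Groth.Statements.S6750
import Groth.Agent.H02CA.SkyExt.FixPoints

set_option autoImplicit false
universe u
open CategoryTheory AlgebraicGeometry
attribute [local instance] HasDerivedCategory.standard
open DEquiv

namespace Groth.Agent.S6750

/-- Let X be a scheme proper over a field k which is regular (all local rings regular), and let F :
D_perf(O_X) ⥤ D_perf(O_X) be a k-linear exact functor on the full subcategory of perfect objects
(the instance hypothesis records that it is a triangulated subcategory). Assume that for every
coherent O_X-module M whose support has dimension 0 (a nonempty finite set of closed points) there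
is an isomorphism M ≅ F(M), where M is viewed in degree 0 (a perfect object since X is regular; the
statement quantifies over a proof of this). Then F is fully faithful. -/
theorem result
    (k : Type u) [Field k] (X : Scheme.{u}) [X.Over (Spec (.of k))] [IsProper (X ↘ Spec (.of k))]
    (hreg : Models.IsRegularScheme X) [(SGA6.perfP X).IsTriangulated]
    (F : (SGA6.perfP X).FullSubcategory ⥤ (SGA6.perfP X).FullSubcategory) [F.Additive] [F.Linear k]
    [F.CommShift ℤ] [F.IsTriangulated]
    (h : ∀ (M : X.Modules), Coh.IsCoh M → (CohB1.support M).Finite → (CohB1.support M).Nonempty →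
        (∀ x ∈ CohB1.support M, IsClosed ({x} : Set X)) →
        ∀ (hM : DCoh.IsPerfect (DCoh.inD X M)),
          Nonempty ((⟨DCoh.inD X M, hM⟩ : (SGA6.perfP X).FullSubcategory) ≅ F.obj ⟨DCoh.inD X M, hM⟩)) :
    F.Full ∧ F.Faithful := by
  exact H02CA.SkyExt.fullyFaithful_of_fix (k := k) F hreg h

end Groth.Agent.S6750
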