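import Groth.Statements.S6758
import Groth.Agent.H02CA.PnDetect.Main
import Groth.Agent.S6742

set_option autoImplicit false
universe u
open CategoryTheory AlgebraicGeometry
attribute [local instance] HasDerivedCategory.standard
open DEquiv

namespace Groth.Agent.S6758

/-- (1) ⇔ (4): let k be a field, n ≥ 0, P = P^n_k, and let K be an object of D(O_P) with quasi-coherent
cohomology sheaves. Then K is bounded with coherent cohomology sheaves if and only if for each d =
0, …, n the k-vector spaces H^i(P, K ⊗^L O_P(d)) = Hom(O_P, (K ⊗^L O_P(d))⟦i⟧) are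
finite-dimensional for all i ∈ ℤ and nonzero for only finitely many i. (The derived functors - ⊗^L
O_P(d) are assumed to exist, as instance binders. The published statement lists two further
equivalent conditions, which are not restated here: that for every perfect object E of D(O_P) the
spaces Hom(E, K⟦i⟧) be finite-dimensional for all i and nonzero for only finitely many i, a
criterion which holds on every H-projective scheme over k, and the same condition on the spaces
H^i(P, E ⊗^L K) for every perfect E.) -/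
theorem result
    (k : Type u) [Field k] (n : ℕ)
    (K : DCoh.D (CohB1.ProjSpaceOver n (Spec (.of k)))) (hK : DCoh.IsQCohD K)
    [∀ d : ℤ, DCoh.HasLTensorMod (Twist.twistOver n (Spec (.of k)) d)] :
    SGA6.cohbP (CohB1.ProjSpaceOver n (Spec (.of k))) K ↔
      ∀ d : ℕ, d ≤ n →
        (∀ i : ℤ, Module.Finite k (DCoh.inD (CohB1.ProjSpaceOver n (Spec (.of k))) (Coh.structureModule (CohB1.ProjSpaceOver n (Spec (.of k)))) ⟶
            (shiftFunctor (DCoh.D (CohB1.ProjSpaceOver n (Spec (.of k)))) i).obj ((DCoh.LTensorMod (Twist.twistOver n (Spec (.of k)) (d : ℤ))).obj K))) ∧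
        Set.Finite {i : ℤ | Nontrivial (DCoh.inD (CohB1.ProjSpaceOver n (Spec (.of k))) (Coh.structureModule (CohB1.ProjSpaceOver n (Spec (.of k)))) ⟶
            (shiftFunctor (DCoh.D (CohB1.ProjSpaceOver n (Spec (.of k)))) i).obj ((DCoh.LTensorMod (Twist.twistOver n (Spec (.of k)) (d : ℤ))).obj K))} := by
  refine ⟨fun hc d _ => ?_, fun h => H02CA.PnDetect.cohbP_iff k n K hK h⟩
  have hπ := H16Derived.PnD.isPn n (Spec (CommRingCat.of k))
  haveI := hπ.isProper
  haveI : IsProper (CohB1.ProjSpaceOver n (Spec (.of k)) ↘ Spec (.of k)) := hπ.isProper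
  haveI : IsLocallyNoetherian (CohB1.ProjSpaceOver n (Spec (.of k))) :=
    LocallyOfFiniteType.isLocallyNoetherian (CohB1.ProjSpaceOver n (Spec (.of k)) ↘ Spec (.of k))
  obtain ⟨h1, h2⟩ := H16Derived.PnD.exact_lw (hπ.tw.inv (d : ℤ))
  haveI := h1
  haveI := h2
  obtain ⟨l⟩ := H16Derived.PnD.nonempty_ltensorMod_lw (Twist.twistOver n (Spec (CommRingCat.of k)) (d : ℤ)) K
  obtain ⟨hc1, a, b, ha, hb⟩ := H02CA.PnDetect.cohbP_lw (L := Twist.twistOver n (Spec (CommRingCat.of k)) (d : ℤ))
    (H16Derived.KFlat.Stalk.isCoh_of_isFinLocFree (H22Alg.PnVan.finLocFree_of_inv (hπ.tw.inv _))) hc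
  haveI := ha
  haveI := hb
  have hP : SGA6.cohbP _ ((DCoh.LTensorMod (Twist.twistOver n (Spec (.of k)) (d : ℤ))).obj K) :=
    ⟨H16Derived.Dual.isCohD_iso l.symm hc1, a, b,
      DerivedCategory.TStructure.t.isGE_of_iso l.symm a, DerivedCategory.TStructure.t.isLE_of_iso l.symm b⟩
  exact S6742.result k _ _ hP _ (H02CA.PnDetect.isPerfect_structure _)

end Groth.Agent.S6758
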