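import Groth.Statements.S6759
import Groth.Agent.H02CA.DiagKer.Main

set_option autoImplicit false
universe u
open CategoryTheory AlgebraicGeometry
attribute [local instance] HasDerivedCategory.standard
open DEquiv

namespace Groth.Agent.S6759

/-- Let X be a scheme smooth and proper over a field k and let K be a complex of O_{X ×_k X}-modules
defining a perfect object of D(O_{X ×_k X}). The derived functors Lpr_1^*, - ⊗^L K and Rpr_{2,*} are
assumed to exist (instance binders). If the Fourier-Mukai functor Φ_K = Rpr_{2,*}(Lpr_1^*(-) ⊗^L K),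
restricted to the full subcategory of perfect objects of D(O_X), is isomorphic to the inclusion of
that subcategory (that is, Φ_K is isomorphic to the identity functor of D_perf(O_X)), then K is
isomorphic in D(O_{X ×_k X}) to Δ_* O_X placed in degree 0, where Δ is the diagonal of X over k
(existence of an isomorphism). -/
theorem result
    (k : Type u) [Field k] (X : Scheme.{u}) [X.Over (Spec (.of k))] [IsProper (X ↘ Spec (.of k))] [Smooth (X ↘ Spec (.of k))]
    (K : CochainComplex (Limits.pullback (X ↘ Spec (.of k)) (X ↘ Spec (.of k))).Modules ℤ) (hK : DCoh.IsPerfect (DCoh.toD _ K))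
    [DCoh.HasLpull (Limits.pullback.fst (X ↘ Spec (.of k)) (X ↘ Spec (.of k)))] [DCoh.HasLTensorCx K] [DCoh.HasRpush (Limits.pullback.snd (X ↘ Spec (.of k)) (X ↘ Spec (.of k)))]
    (h : Nonempty (ObjectProperty.ι (SGA6.perfP X) ⋙ (DCoh.Lpull (Limits.pullback.fst (X ↘ Spec (.of k)) (X ↘ Spec (.of k))) ⋙ DCoh.LTensorCx K ⋙ DCoh.Rpush (Limits.pullback.snd (X ↘ Spec (.of k)) (X ↘ Spec (.of k)))) ≅ ObjectProperty.ι (SGA6.perfP X))) :
    Nonempty (DCoh.toD _ K ≅
      DCoh.inD (Limits.pullback (X ↘ Spec (.of k)) (X ↘ Spec (.of k))) ((Coh.push (Limits.pullback.diagonal (X ↘ Spec (.of k)))).obj (Coh.structureModule X))) := by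
  obtain ⟨h⟩ := h
  exact H02CA.DiagKer.main (X ↘ Spec (.of k)) K hK h

end Groth.Agent.S6759
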