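import Groth.Statements.S6760
import Groth.Agent.H02CA.Sibling.Main

set_option autoImplicit false
set_option backward.isDefEq.respectTransparency false
universe u
open CategoryTheory AlgebraicGeometry
attribute [local instance] HasDerivedCategory.standard
open DEquiv

namespace Groth.Agent.S6760

/-- Let X and Y be schemes proper over a field k with X regular (all local rings regular), and let F, G
: D_perf(O_X) ⥤ D_perf(O_Y) be k-linear exact functors between the full subcategories of perfect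
objects (the instance hypotheses record that these are triangulated subcategories). The derived
functors Lpr_1^*, - ⊗^L K (for every complex K of modules on X ×_k Y) and Rpr_{2,*} are assumed to
exist (instance binders). Assume: F(M) ≅ G(M) for every coherent O_X-module M whose support has
dimension 0 (a nonempty finite set of closed points; M in degree 0, perfect since X is regular, the
statement quantifying over a proof of this); F is fully faithful; and G followed by the inclusion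
into D(O_Y) is isomorphic to the restriction of a Fourier-Mukai functor Φ_{K₀} =
Rpr_{2,*}(Lpr_1^*(-) ⊗^L K₀) with K₀ perfect. Then there is a complex K defining a perfect object of
D(O_{X ×_k Y}) such that F and Φ_K are siblings: F(M) ≅ Φ_K(M) naturally in the coherent O_X-module
M placed in degree 0, and F(L) ≅ Φ_K(L) for every perfect L. -/
theorem result
    (k : Type u) [Field k] (X Y : Scheme.{u}) [X.Over (Spec (.of k))] [Y.Over (Spec (.of k))]
    [IsProper (X ↘ Spec (.of k))] [IsProper (Y ↘ Spec (.of k))] (hreg : Models.IsRegularScheme X)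
    [(SGA6.perfP X).IsTriangulated] [(SGA6.perfP Y).IsTriangulated]
    (F : (SGA6.perfP X).FullSubcategory ⥤ (SGA6.perfP Y).FullSubcategory) [F.Additive] [F.Linear k]
    [F.CommShift ℤ] [F.IsTriangulated]
    (G : (SGA6.perfP X).FullSubcategory ⥤ (SGA6.perfP Y).FullSubcategory) [G.Additive] [G.Linear k]
    [G.CommShift ℤ] [G.IsTriangulated]
    [DCoh.HasLpull (Limits.pullback.fst (X ↘ Spec (.of k)) (Y ↘ Spec (.of k)))] [DCoh.HasRpush (Limits.pullback.snd (X ↘ Spec (.of k)) (Y ↘ Spec (.of k)))]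
    [∀ K : CochainComplex (Limits.pullback (X ↘ Spec (.of k)) (Y ↘ Spec (.of k))).Modules ℤ, DCoh.HasLTensorCx K]
    (h1 : ∀ (M : X.Modules), Coh.IsCoh M → (CohB1.support M).Finite → (CohB1.support M).Nonempty →
        (∀ x ∈ CohB1.support M, IsClosed ({x} : Set X)) →
        ∀ (hM : DCoh.IsPerfect (DCoh.inD X M)),
          Nonempty (F.obj ⟨DCoh.inD X M, hM⟩ ≅ G.obj ⟨DCoh.inD X M, hM⟩))
    [F.Full] [F.Faithful]
    (K₀ : CochainComplex (Limits.pullback (X ↘ Spec (.of k)) (Y ↘ Spec (.of k))).Modules ℤ) (hK₀ : DCoh.IsPerfect (DCoh.toD _ K₀))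
    (h3 : Nonempty (G ⋙ ObjectProperty.ι (SGA6.perfP Y) ≅ ObjectProperty.ι (SGA6.perfP X) ⋙ (DCoh.Lpull (Limits.pullback.fst (X ↘ Spec (.of k)) (Y ↘ Spec (.of k))) ⋙ DCoh.LTensorCx K₀ ⋙ DCoh.Rpush (Limits.pullback.snd (X ↘ Spec (.of k)) (Y ↘ Spec (.of k)))))) :
    ∃ (K : CochainComplex (Limits.pullback (X ↘ Spec (.of k)) (Y ↘ Spec (.of k))).Modules ℤ), DCoh.IsPerfect (DCoh.toD _ K) ∧
      (∃ e : ∀ (M : X.Modules), Coh.IsCoh M → ∀ (hM : SGA6.perfP X (DCoh.inD X M)),
          (F.obj ⟨DCoh.inD X M, hM⟩).obj ≅ (DCoh.Lpull (Limits.pullback.fst (X ↘ Spec (.of k)) (Y ↘ Spec (.of k))) ⋙ DCoh.LTensorCx K ⋙ DCoh.Rpush (Limits.pullback.snd (X ↘ Spec (.of k)) (Y ↘ Spec (.of k)))).obj (DCoh.inD X M),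
        ∀ (M N : X.Modules) (hcM : Coh.IsCoh M) (hcN : Coh.IsCoh N)
          (hM : SGA6.perfP X (DCoh.inD X M)) (hN : SGA6.perfP X (DCoh.inD X N)) (φ : M ⟶ N),
          (F.map (ObjectProperty.homMk ((DerivedCategory.singleFunctor X.Modules 0).map φ) :
              (⟨DCoh.inD X M, hM⟩ : (SGA6.perfP X).FullSubcategory) ⟶ ⟨DCoh.inD X N, hN⟩)).hom ≫ (e N hcN hN).hom =
            (e M hcM hM).hom ≫ (DCoh.Lpull (Limits.pullback.fst (X ↘ Spec (.of k)) (Y ↘ Spec (.of k))) ⋙ DCoh.LTensorCx K ⋙ DCoh.Rpush (Limits.pullback.snd (X ↘ Spec (.of k)) (Y ↘ Spec (.of k)))).map ((DerivedCategory.singleFunctor X.Modules 0).map φ)) ∧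
      (∀ L : (SGA6.perfP X).FullSubcategory, Nonempty ((F.obj L).obj ≅ (DCoh.Lpull (Limits.pullback.fst (X ↘ Spec (.of k)) (Y ↘ Spec (.of k))) ⋙ DCoh.LTensorCx K ⋙ DCoh.Rpush (Limits.pullback.snd (X ↘ Spec (.of k)) (Y ↘ Spec (.of k)))).obj L.obj)) := by
  obtain ⟨h3⟩ := h3
  obtain ⟨K, hp, hK, ⟨ε⟩, hL⟩ := H02CA.Sibling.exists_sibling (k := k) hreg F G h1 K₀ hK₀ h3
  refine ⟨K, hK, ⟨fun M hM _ => ε.app ⟨M, hM⟩, fun M N hcM hcN _ _ φ => ?_⟩, hL⟩
  exact ε.hom.naturality (ObjectProperty.homMk φ :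
    (⟨M, hcM⟩ : ObjectProperty.FullSubcategory fun M : X.Modules => Coh.IsCoh M) ⟶ ⟨N, hcN⟩)

end Groth.Agent.S6760
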