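import Groth.Statements.S6765
import Groth.Agent.H02CA.SerreGor.Functor
import Groth.Agent.S3624
import Groth.Agent.S6742

set_option autoImplicit false
set_option backward.isDefEq.respectTransparency false
set_option maxHeartbeats 1000000
universe u
open CategoryTheory AlgebraicGeometry
attribute [local instance] HasDerivedCategory.standard
open DEquiv

namespace Groth.Agent.S6765

/-- Let X be a scheme proper over a field k which is Gorenstein, with structure morphism f : X → Spec k.
Assume (instance binders and hypotheses, all true theorems not available at this pin) that Rf_*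
exists on D(O_X) and preserves D_QCoh, that its restriction to D_QCoh has a right adjoint a, and let
ω_X^• = a(O_{Spec k}) be the dualizing complex, computed on a chosen object of D_QCoh(Spec k)
identified with O_{Spec k}⟦0⟧ and represented by a chosen complex W of O_X-modules with - ⊗^L W
defined. Then the k-linear category D_perf(O_X) of perfect objects (the instance hypothesis records
that it is a triangulated subcategory; Hom spaces are finite-dimensional as X is proper) admits a
Serre functor — a k-linear auto-equivalence S with k-linear isomorphisms Hom(K, L) ≅ Hom(L, S K)^∨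
natural in both variables — whose functor S, followed by the inclusion into D(O_X), is isomorphic to
K ↦ K ⊗^L ω_X^•. (The Serre duality isomorphisms themselves are asserted to exist, not identified
with a named pairing.) -/
theorem result
    (k : Type u) [Field k] (X : Scheme.{u}) [X.Over (Spec (.of k))] [IsProper (X ↘ Spec (.of k))]
    (hG : Dual3.IsGorenstein X)
    [DCoh.HasRpush (X ↘ Spec (.of k))] (hq : DCoh.RpushPreservesQCoh (X ↘ Spec (.of k))) [DCoh.HasShriek (X ↘ Spec (.of k)) hq]
    (OY : DCoh.DQCoh (Spec (.of k)))
    (hOY : OY.obj ≅ DCoh.inD (Spec (.of k)) (Coh.structureModule (Spec (.of k))))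
    (W : CochainComplex X.Modules ℤ) (hW : DCoh.toD X W ≅ DCoh.dualizingCx (X ↘ Spec (.of k)) hq OY)
    [DCoh.HasLTensorCx W] [(SGA6.perfP X).IsTriangulated] :
    ∃ σ : KLin.SerreFunctor k (SGA6.perfP X).FullSubcategory,
      Nonempty (σ.S.functor ⋙ ObjectProperty.ι (SGA6.perfP X) ≅
        ObjectProperty.ι (SGA6.perfP X) ⋙ DCoh.LTensorCx W) := by
  open Groth.Agent.H02CA Groth.Agent.H16Derived in
  let f := X ↘ Spec (CommRingCat.of k)
  haveI : IsLocallyNoetherian X := LocallyOfFiniteType.isLocallyNoetherian f
  haveI : CompactSpace X := QuasiCompact.compactSpace_of_compactSpace f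
  haveI : Flat f := inferInstance
  haveI : LocallyOfFinitePresentation f := inferInstance
  let adj := Adjunction.ofIsLeftAdjoint (DCoh.RpushQ f hq)
  have hGm : Dual3.IsGorensteinMor f := (Groth.Agent.S3624.result X _ f hG).1
  have hω : DCoh.IsPerfect (DCoh.dualizingCx f hq OY) := FMConv.isPerfect_shriek_gorenstein f hGm adj OY hOY
  obtain ⟨e⟩ := FMConv.nonempty_dualizing_invertible f adj OY hOY hω
  have hpair := fun E (hE : DCoh.IsPerfect E) =>
    SerreGor.exists_tr_ne_zero (k := k) adj OY hOY (Dual.isQCohD_of_isPerfect hE)
  have hfin : ∀ A B : DCoh.D X, DCoh.IsPerfect A → DCoh.IsPerfect B → Module.Finite k (A ⟶ B) := fun A B hA hB => by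
    haveI := (Groth.Agent.S6742.result k X B (PerfRep.cohbP_of_isPerfect hB) A hA).1 0
    exact Module.Finite.equiv (Linear.homCongr k (Iso.refl A) ((shiftFunctorZero (DCoh.D X) ℤ).app B))
  obtain ⟨s, ⟨es⟩⟩ := SerreGor.exists_serreFunctor hω e (SerreGor.tr (k := k) adj OY hOY)
    (fun E hE => (hpair E hE).1) (fun E hE => (hpair E hE).2) hfin
  exact ⟨s, ⟨es ≪≫ Functor.isoWhiskerLeft _ ((Dual.T X).flip.mapIso hW.symm ≪≫ Dual.ltensorCxIsoT W)⟩⟩

end Groth.Agent.S6765
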