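import Groth.Statements.S6769
import Groth.Agent.H17.FPMod.EilenbergWatts
-- import your own Groth.Agent.* helpers here

set_option autoImplicit false
universe u
open CategoryTheory CategoryTheory.Limits TensorProduct
open scoped ModuleCat.Algebra
open FunMor

namespace Groth.Agent.S6769

/-- Let R be a commutative ring and A, B commutative R-algebras; Mod_A and Mod_B are R-linear
categories. Suppose F, F' : Mod_A ⥤ Mod_B are R-linear functors, each of which preserves finite
colimits (so is right exact) and also preserves direct sums indexed by any set. Then: (i) there is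
an A ⊗_R B-module K — a module over A and over B with commuting actions on which the two R-actions
agree — and B-linear isomorphisms K ⊗_A M ≅ F(M) natural in the A-module M; (ii) a natural
transformation F ⟶ F' is determined by its component at A, and a B-linear map φ : F(A) ⟶ F'(A) is
the component at A of some natural transformation F ⟶ F' if and only if it commutes with the
A-actions, i.e. F(a · id_A) ≫ φ = φ ≫ F'(a · id_A) for all a ∈ A. (Together: K ↦ (- ⊗_A K) is an
equivalence from Mod_{A ⊗_R B} onto the category of such functors.) -/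
theorem result
    (R : Type u) [CommRing R] (A B : Type u) [CommRing A] [CommRing B] [Algebra R A] [Algebra R B]
    (F F' : ModuleCat.{u} A ⥤ ModuleCat.{u} B) [F.Additive] [F.Linear R] [F'.Additive] [F'.Linear R]
    [PreservesFiniteColimits F] [∀ J : Type u, PreservesColimitsOfShape (Discrete J) F]
    [PreservesFiniteColimits F'] [∀ J : Type u, PreservesColimitsOfShape (Discrete J) F'] :
    (∃ (K : Type u) (_ : AddCommGroup K) (_ : Module A K) (_ : Module B K) (_ : SMulCommClass A B K),
      (∀ (r : R) (x : K), algebraMap R A r • x = algebraMap R B r • x) ∧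
      ∃ η : ∀ M : ModuleCat.{u} A, (K ⊗[A] M) ≃ₗ[B] F.obj M,
        ∀ (M N : ModuleCat.{u} A) (f : M ⟶ N) (x : K ⊗[A] M),
          η N (LinearMap.lTensor K f.hom x) = F.map f (η M x)) ∧
    (∀ t t' : F ⟶ F', t.app (ModuleCat.of A A) = t'.app (ModuleCat.of A A) → t = t') ∧
    (∀ φ : F.obj (ModuleCat.of A A) ⟶ F'.obj (ModuleCat.of A A),
      (∃ t : F ⟶ F', t.app (ModuleCat.of A A) = φ) ↔
        ∀ a : A, F.map (a • 𝟙 (ModuleCat.of A A)) ≫ φ = φ ≫ F'.map (a • 𝟙 (ModuleCat.of A A))) := by
  refine ⟨⟨H17.EW.Val F, inferInstance, inferInstance, inferInstance, inferInstance, fun r x => ?_, H17.EW.equiv F,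
    fun M N f x => H17.EW.eta_natural F f x⟩, fun t t' h => ?_, fun φ => ⟨?_, fun hφ => ?_⟩⟩
  · refine Eq.trans ?_ ((ConcreteCategory.congr_hom
      (Functor.Linear.map_smul (R := R) (F := F) (𝟙 (ModuleCat.of A A)) r) x).trans ?_)
    · refine congrArg (fun f : ModuleCat.of A A ⟶ ModuleCat.of A A => (F.map f).hom x) ?_
      exact ModuleCat.hom_ext (LinearMap.ext fun y => rfl)
    · rw [F.map_id]
      rfl
  · ext M : 2
    apply ModuleCat.hom_ext
    refine LinearMap.ext fun y => ?_
    obtain ⟨z, rfl⟩ := (H17.EW.bijective_eta F M).2 y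
    induction z using TensorProduct.induction_on with
    | zero => simp
    | add u v hu hv => simp only [map_add, hu, hv]
    | tmul x m =>
      have e : F.map (H17.EW.hat m) ≫ t.app M = F.map (H17.EW.hat m) ≫ t'.app M := by
        rw [t.naturality, t'.naturality, h]
      exact ConcreteCategory.congr_hom e x
  · rintro ⟨t, rfl⟩ a
    exact t.naturality _
  · let φA : H17.EW.Val F →ₗ[A] H17.EW.Val F' :=
      { toFun := φ.hom
        map_add' := φ.hom.map_add
        map_smul' := fun a x => ConcreteCategory.congr_hom (hφ a) x }
    let T : ∀ M : ModuleCat.{u} A, F.obj M ⟶ F'.obj M := fun M => ModuleCat.ofHom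
      { toFun := fun y => H17.EW.eta F' M (LinearMap.rTensor M φA ((H17.EW.equiv F M).symm y))
        map_add' := fun y y' => by rw [map_add, map_add, map_add]
        map_smul' := fun b y => by
          rw [LinearEquiv.map_smul]
          have hb : ∀ z, LinearMap.rTensor M φA (b • z) = b • LinearMap.rTensor M φA z := fun z => by
            induction z using TensorProduct.induction_on with
            | zero => simp
            | add u v hu hv => rw [smul_add, map_add, map_add, hu, hv, smul_add]
            | tmul x m =>
              rw [TensorProduct.smul_tmul', LinearMap.rTensor_tmul, LinearMap.rTensor_tmul, TensorProduct.smul_tmul']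
              exact congrArg (· ⊗ₜ m) (φ.hom.map_smul b x)
          rw [hb, LinearMap.map_smul]
          rfl }
    have hT : ∀ (M : ModuleCat.{u} A) z, (T M).hom (H17.EW.eta F M z) = H17.EW.eta F' M (LinearMap.rTensor M φA z) :=
      fun M z => congrArg (fun w => H17.EW.eta F' M (LinearMap.rTensor M φA w)) ((H17.EW.equiv F M).symm_apply_apply z)
    refine ⟨{ app := T, naturality := fun M N f => ?_ }, ?_⟩
    · apply ModuleCat.hom_ext
      refine LinearMap.ext fun y => ?_
      obtain ⟨z, rfl⟩ := (H17.EW.bijective_eta F M).2 y
      show (T N).hom (F.map f (H17.EW.eta F M z)) = F'.map f ((T M).hom (H17.EW.eta F M z))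
      rw [← H17.EW.eta_natural, hT, hT, ← H17.EW.eta_natural]
      congr 1
      rw [← LinearMap.comp_apply, LinearMap.rTensor_comp_lTensor, ← LinearMap.lTensor_comp_rTensor]
      rfl
    · apply ModuleCat.hom_ext
      refine LinearMap.ext fun (x : H17.EW.Val F) => ?_
      have e : ∀ (G : ModuleCat.{u} A ⥤ ModuleCat.{u} B) [G.Additive] (x : H17.EW.Val G),
          H17.EW.eta G (ModuleCat.of A A) (x ⊗ₜ (1 : A)) = x := fun G _ x => by
        rw [H17.EW.eta_tmul, show H17.EW.hat (M := ModuleCat.of A A) (1 : A) = 𝟙 _ from
          ModuleCat.hom_ext (LinearMap.ext_ring (by simp)), G.map_id]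
        rfl
      conv_lhs => rw [← e F x]
      refine (hT _ _).trans ?_
      rw [LinearMap.rTensor_tmul]
      exact e F' _

end Groth.Agent.S6769
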