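import Groth.Statements.S6770
import Groth.Agent.H02CA.Beil.Algebra

set_option autoImplicit false
universe u
open CategoryTheory
attribute [local instance] HasDerivedCategory.standard
open DEquiv

namespace Groth.Agent.S6770

open CategoryTheory.Limits Opposite in
/-- Let k be a field, n ≥ 0, and R the Beilinson algebra of P^n_k: the k-algebra of upper triangular
(n+1) × (n+1) matrices whose (i, j) entry is a homogeneous polynomial of degree j - i in k[X_0, …,
X_n]. For an object K of the derived category D(R) of R-modules the following are equivalent: K is a
compact object (the functor Hom(K, -) with values in abelian groups commutes with arbitrary direct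
sums indexed by small types), and the cohomology modules H^i(K) are finite-dimensional k-vector
spaces for all i ∈ ℤ, nonzero for only finitely many i. (Left R-modules are used; the published
statement is for right modules, i.e. left modules over the opposite algebra, which is isomorphic to
R by reversing the order of the indices and transposing, and the printed proof applies verbatim to
either side.) -/
theorem result
    (k : Type u) [Field k] (n : ℕ)
    (K : DerivedCategory (ModuleCat.{u} (DEquiv.beilinsonAlg k n))) :
    (∀ J : Type u, PreservesColimitsOfShape (Discrete J) (preadditiveCoyoneda.obj (op K))) ↔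
      ((∀ i : ℤ, Module.Finite k (RestrictScalars k (DEquiv.beilinsonAlg k n) ((DerivedCategory.homologyFunctor (ModuleCat.{u} (DEquiv.beilinsonAlg k n)) i).obj K))) ∧
        Set.Finite {i : ℤ | Nontrivial ((DerivedCategory.homologyFunctor (ModuleCat.{u} (DEquiv.beilinsonAlg k n)) i).obj K)}) := by
  open Groth.Agent.H02CA.Beil Groth.Agent.H16Derived Groth.Agent.H16Derived.QCohD in
  let eH : ∀ i, (DerivedCategory.homologyFunctor _ i).obj K ≅
      (DerivedCategory.Q.objPreimage K).homology i := fun i =>
    (DerivedCategory.homologyFunctor _ i).mapIso (DerivedCategory.Q.objObjPreimageIso K).symm ≪≫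
      (DerivedCategory.homologyFunctorFactors _ i).app _
  constructor
  · intro h
    haveI : Module.Finite k (DEquiv.beilinsonAlg k n) := finite_beilinsonAlg k n
    obtain ⟨h1, h2⟩ := exists_finite_bases.{u + 1} k (DerivedCategory.Q.objPreimage K) fun J => by
      haveI := h J
      exact preservesColimitsOfShape_of_natIso
        (preadditiveCoyoneda.mapIso (DerivedCategory.Q.objObjPreimageIso K).op)
    exact ⟨fun i => (IsFD k).prop_of_iso (eH i).symm (h1 i), h2.subset fun i hi =>
      haveI : Nontrivial _ := hi
      (eH i).toLinearEquiv.symm.toEquiv.nontrivial⟩
  · rintro ⟨h1, h2⟩ J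
    haveI : HasCoproducts.{u} (DerivedCategory (ModuleCat.{u} (DEquiv.beilinsonAlg k n))) :=
      KInjRes.hasCoproducts_derivedCategory
    refine preserves_of_holds.{u + 1} ?_ J
    obtain ⟨a, ha⟩ := h2.bddBelow
    obtain ⟨b, hb⟩ := h2.bddAbove
    have hz : ∀ i, i < a ∨ max a b < i → IsZero ((DerivedCategory.homologyFunctor (ModuleCat.{u} (DEquiv.beilinsonAlg k n)) i).obj K) := by
      intro i hi
      haveI : Subsingleton ((DerivedCategory.homologyFunctor (ModuleCat.{u} (DEquiv.beilinsonAlg k n)) i).obj K) := by
        rw [← not_nontrivial_iff_subsingleton]
        intro hn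
        have := ha hn
        have := hb hn
        omega
      exact ModuleCat.isZero_of_subsingleton _
    refine holds_bounded (IsFD k) (isFD_of_isZero k)
      (fun M q hM => ok_of_supp (idems k n) (n + 1) M hM (fun i hi => absurd i.2 (by omega)) q)
      a (max a b - a).toNat K ((DerivedCategory.isGE_iff K a).2 fun i hi => hz i (Or.inl hi))
      ((DerivedCategory.isLE_iff K _).2 fun i hi => hz i (Or.inr (by omega))) h1

end Groth.Agent.S6770
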