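import Groth.Statements.S6771
import Groth.Agent.H17.FourierMukai.FlatKernel
import Groth.Agent.H17.QCohCat.Groth
import Groth.Agent.H22Alg.ExactVanish
import Groth.Agent.H16Derived.ColimPush.Sheaf
import Groth.Agent.H16Derived.AcyclicSums
import Groth.Agent.H29Fitt.PullbackQCoh
import Groth.Agent.H10Coh.TensorTilde

set_option autoImplicit false
universe u
open CategoryTheory AlgebraicGeometry
attribute [local instance] HasDerivedCategory.standard
open FunMor

set_option linter.style.haveILetI false
set_option backward.isDefEq.respectTransparency.types false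
attribute [local instance] HasDerivedCategory.standard
open Groth.Agent.H16Derived.KFlat.Stalk

namespace Groth.Agent.S6771

theorem preservesFiniteLimits_qcohι (X : Scheme.{u}) :
    Limits.PreservesFiniteLimits (ObjectProperty.ι (QCohCat.isQCoh X)) := by
  haveI : ∀ {M N : QCohCat.QCoh X} (f : M ⟶ N),
      Limits.PreservesLimit (Limits.parallelPair f 0) (ObjectProperty.ι (QCohCat.isQCoh X)) :=
    fun f => (QCohCat.isQCoh X).preservesKernels_ι f
  exact Functor.preservesFiniteLimits_of_preservesKernels _

theorem exact_pullback_tensor {X Y : Scheme.{u}} (p : X ⟶ Y) (K : X.Modules) (hK : FlatMod.IsFlatOver p K) :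
    Limits.PreservesFiniteLimits (Scheme.Modules.pullback p ⋙ DCoh.tensorRightMod K) ∧
      Limits.PreservesFiniteColimits (Scheme.Modules.pullback p ⋙ DCoh.tensorRightMod K) := by
  haveI := H16Derived.KFlat.Stalk.preservesColimits_pullback p
  haveI := H16Derived.KFlat.Stalk.preservesColimits_tensorRightMod K
  haveI : Limits.PreservesFiniteColimits (Scheme.Modules.pullback p ⋙ DCoh.tensorRightMod K) :=
    Limits.PreservesColimitsOfSize.preservesFiniteColimits _
  haveI := Limits.preservesBinaryBiproducts_of_preservesBinaryCoproducts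
    (Scheme.Modules.pullback p ⋙ DCoh.tensorRightMod K)
  haveI : (Scheme.Modules.pullback p ⋙ DCoh.tensorRightMod K).Additive :=
    Functor.additive_of_preservesBinaryBiproducts _
  exact ((Functor.exact_tfae (Scheme.Modules.pullback p ⋙ DCoh.tensorRightMod K)).out 1 3).1 fun S hS =>
    (H16Derived.KFlat.Stalk.exact_iff _).2 fun x =>
      H17.FourierMukai.exact_stalk_pullback_tensor p K x (hK x) S hS

/-- The direction from kernels to functors: let R be a ring and X, Y schemes over R with X quasi-compact
with affine diagonal, and let K be a quasi-coherent O_{X ×_R Y}-module which is flat over X and such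
that R^q pr_{2,*}(pr_1^* M ⊗ K) = 0 for every quasi-coherent O_X-module M and every q > 0 (right
derived functors of pr_{2,*}; injective resolutions carried as a binder). Then the functor F_K : M ↦
pr_{2,*}(pr_1^* M ⊗ K), from quasi-coherent O_X-modules to O_Y-modules, is exact (preserves finite
limits and finite colimits) and commutes with arbitrary direct sums. -/
theorem result
    (R : Type u) [CommRing R] (X Y : Scheme.{u}) [X.Over (Spec (.of R))] [Y.Over (Spec (.of R))] [CompactSpace X] [IsAffineHom (Limits.pullback.diagonal (X ↘ Spec (.of R)))]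
    [HasInjectiveResolutions (Limits.pullback (X ↘ Spec (.of R)) (Y ↘ Spec (.of R))).Modules]
    (K : (Limits.pullback (X ↘ Spec (.of R)) (Y ↘ Spec (.of R))).Modules) (hK : Coh.IsQCoh K) (hKf : FlatMod.IsFlatOver (Limits.pullback.fst (X ↘ Spec (.of R)) (Y ↘ Spec (.of R))) K)
    (hKa : ∀ (M : X.Modules), Coh.IsQCoh M → ∀ q : ℕ, 0 < q →
      Limits.IsZero ((Coh.Rpush (Limits.pullback.snd (X ↘ Spec (.of R)) (Y ↘ Spec (.of R))) q).obj ((DCoh.tensorRightMod K).obj ((Scheme.Modules.pullback (Limits.pullback.fst (X ↘ Spec (.of R)) (Y ↘ Spec (.of R)))).obj M)))) :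
    Limits.PreservesFiniteLimits (ObjectProperty.ι (QCohCat.isQCoh X) ⋙ Scheme.Modules.pullback (Limits.pullback.fst (X ↘ Spec (.of R)) (Y ↘ Spec (.of R))) ⋙ DCoh.tensorRightMod K ⋙ Coh.push (Limits.pullback.snd (X ↘ Spec (.of R)) (Y ↘ Spec (.of R)))) ∧ Limits.PreservesFiniteColimits (ObjectProperty.ι (QCohCat.isQCoh X) ⋙ Scheme.Modules.pullback (Limits.pullback.fst (X ↘ Spec (.of R)) (Y ↘ Spec (.of R))) ⋙ DCoh.tensorRightMod K ⋙ Coh.push (Limits.pullback.snd (X ↘ Spec (.of R)) (Y ↘ Spec (.of R)))) ∧
      ∀ J : Type u, Limits.PreservesColimitsOfShape (Discrete J) (ObjectProperty.ι (QCohCat.isQCoh X) ⋙ Scheme.Modules.pullback (Limits.pullback.fst (X ↘ Spec (.of R)) (Y ↘ Spec (.of R))) ⋙ DCoh.tensorRightMod K ⋙ Coh.push (Limits.pullback.snd (X ↘ Spec (.of R)) (Y ↘ Spec (.of R)))) := by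
  let f := Limits.pullback.snd (X ↘ Spec (.of R)) (Y ↘ Spec (.of R))
  let p := Limits.pullback.fst (X ↘ Spec (.of R)) (Y ↘ Spec (.of R))
  let E := Scheme.Modules.pullback p ⋙ DCoh.tensorRightMod K
  let ι := ObjectProperty.ι (QCohCat.isQCoh X)
  let G := ι ⋙ E
  haveI : QuasiSeparated (X ↘ Spec (CommRingCat.of R)) := ⟨inferInstance⟩
  haveI : QuasiCompact (X ↘ Spec (CommRingCat.of R)) := (quasiCompact_iff_compactSpace (X ↘ Spec (CommRingCat.of R))).2 inferInstance
  haveI : QuasiSeparated f := MorphismProperty.pullback_snd (P := @QuasiSeparated) _ _ inferInstance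
  haveI : QuasiCompact f := MorphismProperty.pullback_snd (P := @QuasiCompact) _ _ inferInstance
  obtain ⟨hEl, hEr⟩ := exact_pullback_tensor p K hKf
  haveI : Limits.PreservesFiniteLimits E := hEl
  haveI : Limits.PreservesFiniteColimits E := hEr
  haveI := preservesFiniteLimits_qcohι X
  haveI : Limits.PreservesFiniteColimits ι := Limits.PreservesColimitsOfSize.preservesFiniteColimits _
  haveI : (Coh.push f).IsRightAdjoint := (Scheme.Modules.pullbackPushforwardAdjunction f).isRightAdjoint
  haveI : Limits.PreservesFiniteLimits (G ⋙ Coh.push f) := Limits.comp_preservesFiniteLimits _ _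
  haveI : (G ⋙ Coh.push f).Additive := Functor.additive_of_preserves_binary_products _
  haveI : Limits.PreservesFiniteColimits (G ⋙ Coh.push f) :=
    ((Functor.preservesFiniteColimits_tfae (G ⋙ Coh.push f)).out 0 3).1 fun S hS => by
      haveI := hS.mono_f
      exact ⟨hS.exact.map_of_mono_of_preservesKernel _ inferInstance inferInstance,
        H22Alg.ExactVanish.epi_map_g (Coh.push f) (hS.map_of_exact G) (hKa S.X₁.1 S.X₁.2 1 Nat.one_pos)⟩
  refine ⟨‹Limits.PreservesFiniteLimits (G ⋙ Coh.push f)›, ‹Limits.PreservesFiniteColimits (G ⋙ Coh.push f)›, fun J => ?_⟩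
  haveI := H16Derived.KFlat.Stalk.preservesColimits_pullback p
  haveI := H16Derived.KFlat.Stalk.preservesColimits_tensorRightMod K
  haveI : Limits.PreservesFilteredColimitsOfSize.{u, u} (Scheme.Modules.pushforward f) :=
    ⟨fun J _ _ => H16Derived.ColimPush.preservesFilteredColimits_pushforward f J⟩
  haveI : Limits.PreservesColimitsOfShape (Discrete J) (Coh.push f) :=
    H16Derived.AcyclicSums.preservesCoproducts_of_filtered (Scheme.Modules.pushforward f) J
  exact (inferInstance : Limits.PreservesColimitsOfShape (Discrete J) (G ⋙ Coh.push f))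

end Groth.Agent.S6771
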