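import Groth.Statements.S6772
import Groth.Agent.H11Aff.DirImgColim
import Groth.Agent.H17.QCohCat.Groth
import Groth.Agent.H16Derived.KFlat.SheafTri
import Groth.Agent.H29Fitt.PullbackQCoh
import Groth.Agent.H10Coh.TensorTilde

set_option autoImplicit false
universe u
open CategoryTheory AlgebraicGeometry
attribute [local instance] HasDerivedCategory.standard
open FunMor

namespace Groth.Agent.S6772

/-- The direction from kernels to functors: let R be a ring and X, Y schemes over R with X affine, and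
let K be a quasi-coherent O_{X ×_R Y}-module. Then the functor F_K : M ↦ pr_{2,*}(pr_1^* M ⊗ K),
from quasi-coherent O_X-modules to O_Y-modules, is right exact (preserves finite colimits) and
commutes with arbitrary direct sums. (pr_2 is affine, so pr_{2,*} is exact on quasi-coherent
modules.) -/
theorem result
    (R : Type u) [CommRing R] (X Y : Scheme.{u}) [X.Over (Spec (.of R))] [Y.Over (Spec (.of R))] [IsAffine X]
    (K : (Limits.pullback (X ↘ Spec (.of R)) (Y ↘ Spec (.of R))).Modules) (hK : Coh.IsQCoh K) :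
    Limits.PreservesFiniteColimits (ObjectProperty.ι (QCohCat.isQCoh X) ⋙ Scheme.Modules.pullback (Limits.pullback.fst (X ↘ Spec (.of R)) (Y ↘ Spec (.of R))) ⋙ DCoh.tensorRightMod K ⋙ Coh.push (Limits.pullback.snd (X ↘ Spec (.of R)) (Y ↘ Spec (.of R)))) ∧
      ∀ J : Type u, Limits.PreservesColimitsOfShape (Discrete J) (ObjectProperty.ι (QCohCat.isQCoh X) ⋙ Scheme.Modules.pullback (Limits.pullback.fst (X ↘ Spec (.of R)) (Y ↘ Spec (.of R))) ⋙ DCoh.tensorRightMod K ⋙ Coh.push (Limits.pullback.snd (X ↘ Spec (.of R)) (Y ↘ Spec (.of R)))) := by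
  haveI : IsAffineHom (Limits.pullback.snd (X ↘ Spec (.of R)) (Y ↘ Spec (.of R))) :=
    MorphismProperty.pullback_snd (P := @IsAffineHom) _ _ inferInstance
  haveI h : Limits.PreservesColimitsOfSize.{u, u} (ObjectProperty.ι (QCohCat.isQCoh X) ⋙
      Scheme.Modules.pullback (Limits.pullback.fst (X ↘ Spec (.of R)) (Y ↘ Spec (.of R))) ⋙
      DCoh.tensorRightMod K ⋙ Coh.push (Limits.pullback.snd (X ↘ Spec (.of R)) (Y ↘ Spec (.of R)))) := by
    haveI := H16Derived.KFlat.Stalk.preservesColimits_pullback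
      (Limits.pullback.fst (X ↘ Spec (.of R)) (Y ↘ Spec (.of R)))
    haveI := H16Derived.KFlat.Stalk.preservesColimits_tensorRightMod K
    refine ⟨fun {J} _ => ⟨fun {D} => ?_⟩⟩
    let G := ObjectProperty.ι (QCohCat.isQCoh X) ⋙
      Scheme.Modules.pullback (Limits.pullback.fst (X ↘ Spec (.of R)) (Y ↘ Spec (.of R))) ⋙ DCoh.tensorRightMod K
    have hG : ∀ j, ((D ⋙ G).obj j).IsQuasicoherent := fun j =>
      @H10Coh.TT.isQCoh_tensorMod _ _ K (H29Fitt.isQCoh_pullback _ _ (D.obj j).2) hK
    haveI h2 : Limits.PreservesColimit (D ⋙ G) (Scheme.Modules.pushforward (Limits.pullback.snd (X ↘ Spec (.of R)) (Y ↘ Spec (.of R)))) :=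
      H11Aff.DirImgColim.preservesColimit_pushforward _ (D ⋙ G) hG
    exact Limits.comp_preservesColimit (K := D) G (Scheme.Modules.pushforward (Limits.pullback.snd (X ↘ Spec (.of R)) (Y ↘ Spec (.of R))))
  exact ⟨Limits.PreservesColimitsOfSize.preservesFiniteColimits _, fun J => inferInstance⟩

end Groth.Agent.S6772
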