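import Groth.Statements.S6773
import Groth.Agent.H16Derived.DeltaUniversal

set_option autoImplicit false
open CategoryTheory
universe v u v' u'
open DeltaF

namespace Groth.Agent.S6773

/-- An effaceable cohomological delta-functor (for every degree `n + 1 ≥ 1` and every object `X` there
is a monomorphism out of `X` killed by the functor in that degree) is universal. Delta-functors here
are indexed by `ℕ` and are not required to be left exact in degree `0`; universality is tested
against all such delta-functors. -/
theorem result {A : Type u} [Category.{v} A] [Abelian A] {B : Type u'} [Category.{v'} B] [Abelian B] (T : DeltaF.CohDeltaFunctor A B ℕ) (hT : T.IsEffaceable) : T.IsUniversal := by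
  exact Groth.Agent.H16Derived.DeltaUniversal.isUniversal T hT

end Groth.Agent.S6773
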