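import Groth.Statements.S6775
import Mathlib.CategoryTheory.Abelian.CommSq
import Mathlib.CategoryTheory.MorphismProperty.Limits

set_option linter.style.haveILetI false

set_option autoImplicit false
open CategoryTheory CategoryTheory.Limits
universe v u
open CategoryTheory CategoryTheory.Abelian

namespace Groth.Agent.S6775

/-- In an abelian category a cartesian square whose bottom arrow `k` is an epimorphism is also
cocartesian, and the arrow `f` opposite to `k` is an epimorphism. -/
theorem result {A : Type u} [Category.{v} A] [Abelian A] {w x y z : A} (f : w ⟶ y) (g : w ⟶ x) (h : y ⟶ z) (k : x ⟶ z) (sq : IsPullback f g h k) [Epi k] : IsPushout f g h k ∧ Epi f := by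
  haveI hf : Epi f := MorphismProperty.of_isPullback (P := MorphismProperty.epimorphisms A) sq.flip ‹Epi k›
  refine ⟨?_, hf⟩
  have key : ∀ {T : A} (a : y ⟶ T) (b : x ⟶ T), f ≫ a = g ≫ b → kernel.ι k ≫ b = 0 := by
    intro T a b hab
    obtain ⟨e, he₁, he₂⟩ := sq.exists_lift (0 : kernel k ⟶ y) (kernel.ι k) (by simp)
    rw [← he₂, Category.assoc, ← hab, ← Category.assoc, he₁, zero_comp]
  refine ⟨⟨sq.w⟩, ⟨PushoutCocone.IsColimit.mk _
    (fun s => Abelian.epiDesc k s.inr (key _ _ s.condition)) (fun s => ?_) (fun s => ?_) (fun s m _ hm => ?_)⟩⟩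
  · rw [← cancel_epi f, ← Category.assoc, sq.w, Category.assoc, Abelian.comp_epiDesc, s.condition]
  · exact Abelian.comp_epiDesc k _ _
  · rw [← cancel_epi k, hm, Abelian.comp_epiDesc]

end Groth.Agent.S6775
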