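import Groth.Statements.S6776
import Mathlib.CategoryTheory.Abelian.CommSq
import Mathlib.CategoryTheory.MorphismProperty.Limits

set_option linter.style.haveILetI false

set_option autoImplicit false
open CategoryTheory CategoryTheory.Limits
universe v u
open CategoryTheory CategoryTheory.Abelian

namespace Groth.Agent.S6776

/-- In an abelian category a cocartesian square whose left arrow `g` is a monomorphism is also
cartesian, and the arrow `h` opposite to `g` is a monomorphism. -/
theorem result {A : Type u} [Category.{v} A] [Abelian A] {w x y z : A} (f : w ⟶ y) (g : w ⟶ x) (h : y ⟶ z) (k : x ⟶ z) (sq : IsPushout f g h k) [Mono g] : IsPullback f g h k ∧ Mono h := by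
  have hh : Mono h := MorphismProperty.of_isPushout (P := MorphismProperty.monomorphisms A) sq ‹Mono g›
  refine ⟨?_, hh⟩
  have key : ∀ {T : A} (a : T ⟶ y) (b : T ⟶ x), a ≫ h = b ≫ k → b ≫ cokernel.π g = 0 := by
    intro T a b hab
    obtain ⟨d, hd₁, hd₂⟩ := sq.exists_desc (0 : y ⟶ cokernel g) (cokernel.π g) (by simp)
    rw [← hd₂, ← Category.assoc, ← hab, Category.assoc, hd₁, comp_zero]
  refine ⟨⟨sq.w⟩, ⟨PullbackCone.IsLimit.mk _
    (fun s => Abelian.monoLift g s.snd (key _ _ s.condition)) (fun s => ?_) (fun s => ?_) (fun s m _ hm => ?_)⟩⟩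
  · rw [← cancel_mono h, Category.assoc, sq.w, ← Category.assoc, Abelian.monoLift_comp, s.condition]
  · exact Abelian.monoLift_comp g _ _
  · rw [← cancel_mono g, hm, Abelian.monoLift_comp]

end Groth.Agent.S6776
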