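import Groth.Statements.S6778
import Mathlib.CategoryTheory.Abelian.Refinements

set_option linter.style.haveILetI false

set_option autoImplicit false
open CategoryTheory CategoryTheory.Limits
universe v u
open CategoryTheory CategoryTheory.Abelian

namespace Groth.Agent.S6778

/-- For a commutative diagram with rows `x ⟶ y ⟶ z` and `u ⟶ v ⟶ w` in an abelian category, if the
second row is exact and the second map `g` of the first row is an epimorphism, then the induced
sequence of cokernels of the vertical maps is exact. -/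
theorem result {A : Type u} [Category.{v} A] [Abelian A] {x y z u' v' w : A} (f : x ⟶ y) (g : y ⟶ z) (k : u' ⟶ v') (l : v' ⟶ w) (α : x ⟶ u') (β : y ⟶ v') (γ : z ⟶ w) (h₁ : α ≫ k = f ≫ β) (h₂ : β ≫ l = g ≫ γ) (hkl : k ≫ l = 0) (hex : (ShortComplex.mk k l hkl).Exact) [Epi g] : ∃ hc : cokernel.map α β f k h₁ ≫ cokernel.map β γ g l h₂ = 0, (ShortComplex.mk _ _ hc).Exact := by
  refine ⟨by rw [← cancel_epi (cokernel.π α)]; simp [reassoc_of% hkl], ?_⟩
  rw [ShortComplex.exact_iff_exact_up_to_refinements]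
  intro T t ht
  obtain ⟨T₁, π₁, hπ₁, a, ha⟩ := surjective_up_to_refinements_of_epi (cokernel.π β) t
  have hγ : (a ≫ l) ≫ cokernel.π γ = 0 := by
    have h := π₁ ≫= ht
    dsimp at h
    rw [← Category.assoc, ha, comp_zero] at h
    simpa using h
  obtain ⟨T₂, π₂, hπ₂, c, hc⟩ := (ShortComplex.exact_of_g_is_cokernel
    (ShortComplex.mk γ (cokernel.π γ) (cokernel.condition γ)) (cokernelIsCokernel γ)).exact_up_to_refinements _ hγ
  dsimp at c hc
  obtain ⟨T₃, π₃, hπ₃, b, hb⟩ := surjective_up_to_refinements_of_epi g c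
  obtain ⟨T₄, π₄, hπ₄, d, hd⟩ := hex.exact_up_to_refinements (π₃ ≫ π₂ ≫ a - b ≫ β) (by
    simp [Preadditive.sub_comp, hc, h₂, ← reassoc_of% hb])
  dsimp at d hd
  refine ⟨T₄, π₄ ≫ π₃ ≫ π₂ ≫ π₁, inferInstance, d ≫ cokernel.π α, ?_⟩
  have := hd =≫ cokernel.π β
  simpa [ha, Preadditive.comp_sub, Preadditive.sub_comp, sub_eq_iff_eq_add] using this

end Groth.Agent.S6778
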