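import Groth.Statements.S6779
import Mathlib
import Groth.Agent.H15Site.MooreFiller

set_option linter.style.haveILetI false
open CategoryTheory CategoryTheory.Limits Opposite Simplicial

set_option autoImplicit false
open CategoryTheory
universe u
open SSet

namespace Groth.Agent.S6779

/-- The underlying simplicial set of a simplicial group is a Kan complex. -/
theorem result (X : SimplicialObject GrpCat.{u}) : SSet.KanComplex (X ⋙ forget GrpCat.{u}) := by
  rw [SSet.KanComplex.iff]
  intro n i f hf
  let T : SimplicialObject GrpCat.{u} := (Functor.const _).obj (GrpCat.of PUnit.{u + 1})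
  let t : X ⟶ T := { app := fun _ => GrpCat.ofHom 1 }
  have := Groth.Agent.H15Site.rlp_J_of_surjective t (fun m y => ⟨1, Subsingleton.elim (α := PUnit.{u + 1}) _ _⟩)
    _ (SSet.modelCategoryQuillen.horn_ι_mem_J (n + 1) i)
  let b : Δ[n + 1] ⟶ T ⋙ forget GrpCat.{u} :=
    { app := fun _ => ↾fun _ => PUnit.unit }
  have sq : CommSq hf.desc Λ[n + 1, i].ι (Functor.whiskerRight t (forget GrpCat.{u})) b := ⟨by ext; rfl⟩
  refine ⟨sq.lift, fun j hj => ?_⟩
  rw [← SSet.horn.ι_ι i j hj, Category.assoc, sq.fac_left, SSet.horn.IsCompatible.ι_desc]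

end Groth.Agent.S6779
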