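import Groth.Statements.S6781
import Mathlib
import Groth.Agent.H15Site.MooreFiller

set_option linter.style.haveILetI false
open CategoryTheory CategoryTheory.Limits Opposite Simplicial

set_option autoImplicit false
open CategoryTheory
universe u
open SSet

namespace Groth.Agent.S6781

section
open AlgebraicTopology AlgebraicTopology.DoldKan

/-- An element as a morphism from `ULift ℤ`. -/
noncomputable def el {G : AddCommGrpCat.{u}} (x : G) : AddCommGrpCat.of (ULift.{u} ℤ) ⟶ G :=
  AddCommGrpCat.ofHom ((zmultiplesHom G x).comp AddEquiv.ulift.toAddMonoidHom)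

lemma el_one {G : AddCommGrpCat.{u}} (x : G) : el x ⟨1⟩ = x := one_zsmul x

lemma el_comp {G H : AddCommGrpCat.{u}} (x : G) (g : G ⟶ H) : el x ≫ g = el (g x) := by
  ext ⟨k⟩
  exact map_zsmul g.hom k x

lemma el_zero {G : AddCommGrpCat.{u}} : el (0 : G) = 0 := by
  ext ⟨k⟩
  exact zsmul_zero k

lemma eq_of_el {G : AddCommGrpCat.{u}} {x y : G} (h : el x = el y) : x = y := by
  rw [← el_one x, ← el_one y, h]

variable {X Y : SimplicialObject AddCommGrpCat.{u}} (f : X ⟶ Y)

lemma el_comp_d_eq_zero {m : ℕ} (z : X _⦋m + 1⦌) (h : ∀ j, X.δ j z = 0) :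
    el z ≫ ((alternatingFaceMapComplex AddCommGrpCat.{u}).obj X).d (m + 1) m = 0 := by
  rw [alternatingFaceMapComplex_obj_d, AlternatingFaceMapComplex.objD, Preadditive.comp_sum]
  refine Finset.sum_eq_zero fun j _ => ?_
  rw [Preadditive.comp_zsmul, el_comp, h j, el_zero, zsmul_zero]

lemma exists_normalized_preimage (hf : ∀ n : SimplexCategoryᵒᵖ, Function.Surjective (f.app n))
    (hq : QuasiIso ((alternatingFaceMapComplex AddCommGrpCat.{u}).map f))
    (n : ℕ) (z : X _⦋n⦌) (hzf : f.app (op ⦋n⦌) z = 0)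
    (hz : ∀ (m : ℕ) (e : m + 1 = n) (j : Fin (m + 2)), X.δ j (e ▸ z : X _⦋m + 1⦌) = 0) :
    ∃ u : X _⦋n + 1⦌, f.app (op ⦋n + 1⦌) u = 0 ∧ X.δ 0 u = z ∧
      ∀ j : Fin (n + 1), X.δ j.succ u = 0 := by
  let K := (alternatingFaceMapComplex AddCommGrpCat.{u}).obj X
  let φ := (alternatingFaceMapComplex AddCommGrpCat.{u}).map f
  have hφ : ∀ m, φ.f m = f.app (op ⦋m⦌) := fun m => AlternatingFaceMapComplex.map_f f m
  have hcyc : el z ≫ K.d n ((ComplexShape.down ℕ).next n) = 0 := by
    cases n with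
    | zero =>
      rw [K.shape _ _ (by simp)]
      exact comp_zero
    | succ m =>
      rw [ChainComplex.next_nat_succ]
      exact el_comp_d_eq_zero z (hz m rfl)
  have hm := (HomologicalComplex.mono_homologyMap_iff_up_to_refinements φ (n + 1) n _
    (ChainComplex.prev ℕ n) rfl).1 (inferInstance) (el z) hcyc 0 (by
      rw [hφ, el_comp, hzf, el_zero, zero_comp])
  obtain ⟨A', π, hπ, x₁, hx₁⟩ := hm
  obtain ⟨a, ha⟩ := (AddCommGrpCat.epi_iff_surjective π).1 hπ ⟨1⟩
  let u₀ : X _⦋n + 1⦌ := x₁ a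
  have hu₀ : K.d (n + 1) n u₀ = z := by
    have h1 := ConcreteCategory.congr_hom hx₁ a
    simp only [CategoryTheory.comp_apply] at h1
    rw [ha, el_one] at h1
    exact h1.symm
  have hy : el (G := ((alternatingFaceMapComplex AddCommGrpCat.{u}).obj Y).X (n + 1)) (f.app (op ⦋n + 1⦌) u₀) ≫
      ((alternatingFaceMapComplex AddCommGrpCat.{u}).obj Y).d (n + 1) n = 0 := by
    rw [el_comp]
    refine (congrArg el ?_).trans el_zero
    have h1 := ConcreteCategory.congr_hom (φ.comm (n + 1) n) u₀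
    simp only [CategoryTheory.comp_apply, hφ] at h1
    refine h1.trans ?_
    exact (congrArg _ hu₀).trans hzf
  obtain ⟨A'', π', hπ', c, hc, v, hv⟩ := (HomologicalComplex.epi_homologyMap_iff_up_to_refinements φ
    (n + 2) (n + 1) n (ChainComplex.prev ℕ (n + 1)) (ChainComplex.next_nat_succ n)).1 inferInstance _ hy
  obtain ⟨a', ha'⟩ := (AddCommGrpCat.epi_iff_surjective π').1 hπ' ⟨1⟩
  obtain ⟨v', hv'⟩ := hf (op ⦋n + 2⦌) (v a')
  let u₁ : X _⦋n + 1⦌ := u₀ - (show X _⦋n + 1⦌ from c a') - (show X _⦋n + 1⦌ from K.d (n + 2) (n + 1) v')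
  have hfu₁ : f.app (op ⦋n + 1⦌) u₁ = 0 := by
    have h1 := ConcreteCategory.congr_hom hv a'
    simp only [AddCommGrpCat.hom_add, AddMonoidHom.add_apply, CategoryTheory.comp_apply, ha', el_one] at h1
    have h2 := ConcreteCategory.congr_hom (φ.comm (n + 2) (n + 1)) v'
    simp only [CategoryTheory.comp_apply, hφ] at h2
    rw [hv'] at h2
    rw [← hφ] at h1 h2 ⊢
    refine (map_sub (φ.f (n + 1)).hom _ _).trans ?_
    rw [map_sub]
    rw [show el (φ.f (n + 1) u₀) ⟨1⟩ = φ.f (n + 1) u₀ from el_one _] at h1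
    refine sub_eq_zero.2 (sub_eq_iff_eq_add.2 (h1.trans ?_))
    exact (add_comm _ _).trans (congrArg (· + _) h2)
  have hdu₁ : K.d (n + 1) n u₁ = z := by
    have h1 := ConcreteCategory.congr_hom hc a'
    have h2 := ConcreteCategory.congr_hom (K.d_comp_d (n + 2) (n + 1) n) v'
    simp only [CategoryTheory.comp_apply] at h1 h2
    simp only [u₁, map_sub, hu₀]
    rw [h1, h2]
    simp
  let P : K ⟶ K := PInfty
  have hvan : ∀ j : Fin (n + 1), X.δ j.succ (P.f (n + 1) u₁) = 0 := fun j => by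
    have h1 := ConcreteCategory.congr_hom (HigherFacesVanish.of_P (X := X) (n + 1) n j (by omega)) u₁
    exact h1
  refine ⟨P.f (n + 1) u₁, ?_, ?_, hvan⟩
  · have h1 := ConcreteCategory.congr_hom (PInfty_f_naturality (n + 1) f) u₁
    simp only [CategoryTheory.comp_apply] at h1
    refine h1.symm.trans ?_
    rw [hfu₁, map_zero]
  · have h1 := ConcreteCategory.congr_hom (P.comm (n + 1) n) u₁
    simp only [CategoryTheory.comp_apply] at h1
    rw [hdu₁] at h1
    have hPz : P.f n z = z := by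
      cases n with
      | zero => rfl
      | succ m =>
        have hv : HigherFacesVanish (m + 1) (el z) := fun j _ => by rw [el_comp, hz m rfl j.succ, el_zero]
        have h2 := hv.comp_P_eq_self
        rw [el_comp] at h2
        exact eq_of_el h2
    rw [hPz] at h1
    refine Eq.trans ?_ h1
    have h3 : el (P.f (n + 1) u₁) ≫ K.d (n + 1) n = el (X.δ 0 (P.f (n + 1) u₁)) := by
      rw [show K.d (n + 1) n = _ from alternatingFaceMapComplex_obj_d X n,
        AlternatingFaceMapComplex.objD, Preadditive.comp_sum, Fin.sum_univ_succ,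
        Finset.sum_eq_zero fun j _ => by rw [Preadditive.comp_zsmul, el_comp, hvan j, el_zero, zsmul_zero]]
      simp [el_comp]
    rw [el_comp] at h3
    exact (eq_of_el h3).symm

theorem main {G H : SimplicialObject AddCommGrpCat.{u}} (f : G ⟶ H) (hf : ∀ n : SimplexCategoryᵒᵖ, Function.Surjective (f.app n)) (hq : QuasiIso ((AlgebraicTopology.alternatingFaceMapComplex AddCommGrpCat.{u}).map f)) : SSet.modelCategoryQuillen.I.rlp (X := G ⋙ forget AddCommGrpCat.{u}) (Y := H ⋙ forget AddCommGrpCat.{u}) (Functor.whiskerRight f (forget AddCommGrpCat.{u})) := by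
  intro A B g hg
  obtain ⟨k⟩ := hg
  refine ⟨fun {a b} sq => ?_⟩
  cases k with
  | zero =>
    obtain ⟨w, hw⟩ := hf (op ⦋0⦌) (SSet.yonedaEquiv b)
    refine ⟨⟨SSet.yonedaEquiv.symm w, SSet.boundary.hom_ext₀, ?_⟩⟩
    apply SSet.yonedaEquiv.injective
    rw [SSet.yonedaEquiv_comp, Equiv.apply_symm_apply]
    exact hw
  | succ n =>
    let y := SSet.yonedaEquiv b
    let x : Fin (n + 2) → ↑(G _⦋n⦌) := fun j => SSet.yonedaEquiv (SSet.boundary.ι j ≫ a)
    have hy : ∀ j, f.app (op ⦋n⦌) (x j) = SimplicialObject.δ (H ⋙ forget AddCommGrpCat.{u}) j y := by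
      intro j
      have h1 : (SSet.boundary.ι j ≫ a) ≫ Functor.whiskerRight f (forget AddCommGrpCat.{u}) =
          SSet.stdSimplex.δ j ≫ b := by
        rw [Category.assoc, sq.w, ← Category.assoc, SSet.boundary.ι_ι]
      exact (congrArg SSet.yonedaEquiv h1).trans (SSet.stdSimplex.yonedaEquiv_δ_comp b j)
    have hcompat : ∀ (m : ℕ) (e : m + 1 = n) (k : Fin (m + 2)),
        G.δ k (e ▸ x 0 : G _⦋m + 1⦌) = G.δ 0 (e ▸ x ((Fin.cast (by omega) k).succ) : G _⦋m + 1⦌) := by
      rintro m rfl k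
      have h1 : SSet.stdSimplex.δ k ≫ SSet.boundary.ι (0 : Fin (m + 3)) =
          SSet.stdSimplex.δ (0 : Fin (m + 2)) ≫ SSet.boundary.ι k.succ := by
        rw [← cancel_mono (SSet.Subcomplex.ι _), Category.assoc, Category.assoc, SSet.boundary.ι_ι,
          SSet.boundary.ι_ι]
        exact (SSet.stdSimplex.δ_comp_δ (Fin.zero_le k)).symm
      have h2 := congrArg (fun q => SSet.yonedaEquiv (q ≫ a)) h1
      simp only [Category.assoc, SSet.stdSimplex.yonedaEquiv_δ_comp] at h2
      exact h2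
    have hle : (Λ[n + 1, (0 : Fin (n + 2))] : Δ[n + 1].Subcomplex) ≤ ∂Δ[n + 1] := by
      intro Δ z hz hs
      exact hz (Set.eq_univ_of_forall fun q => Or.inl (hs q))
    have := Groth.Agent.H15Site.rlp_J_of_surjective
      (Functor.whiskerRight f (AddCommGrpCat.toCommGrp ⋙ forget₂ CommGrpCat GrpCat)) (fun m => hf m)
      _ (SSet.modelCategoryQuillen.horn_ι_mem_J (n + 1) (0 : Fin (n + 2)))
    have sq' : CommSq (SSet.Subcomplex.homOfLE hle ≫ a) Λ[n + 1, (0 : Fin (n + 2))].ι
        (Functor.whiskerRight f (forget AddCommGrpCat.{u})) b := ⟨by rw [Category.assoc, sq.w]; rfl⟩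
    obtain ⟨⟨⟨l, hl₁, hl₂⟩⟩⟩ := (this : HasLiftingProperty Λ[n + 1, (0 : Fin (n + 2))].ι
        (Functor.whiskerRight f (forget AddCommGrpCat.{u}))).sq_hasLift sq'
    let w : G _⦋n + 1⦌ := SSet.yonedaEquiv l
    have hw : ∀ j : Fin (n + 2), j ≠ 0 → G.δ j w = x j := by
      intro j hj
      have h1 := congrArg (fun q => SSet.horn.ι (0 : Fin (n + 2)) j hj ≫ q) hl₁
      simp only [← Category.assoc, SSet.horn.ι_ι] at h1
      have h2 : SSet.horn.ι (0 : Fin (n + 2)) j hj ≫ SSet.Subcomplex.homOfLE hle = SSet.boundary.ι j := by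
        rw [← cancel_mono (SSet.Subcomplex.ι _), Category.assoc, SSet.boundary.ι_ι]
        exact SSet.horn.ι_ι _ _ _
      exact (SSet.stdSimplex.yonedaEquiv_δ_comp l j).symm.trans (congrArg SSet.yonedaEquiv
        (h1.trans ((Category.assoc _ _ _).symm.trans (congrArg (· ≫ a) h2))))
    have hwy : f.app (op ⦋n + 1⦌) w = y := congrArg SSet.yonedaEquiv hl₂
    have hzf : f.app (op ⦋n⦌) (x 0 - G.δ 0 w) = 0 := by
      rw [map_sub, sub_eq_zero, hy]
      refine Eq.trans ?_ (ConcreteCategory.congr_hom (SimplicialObject.δ_naturality f (0 : Fin (n + 2))) w).symm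
      exact congrArg _ hwy.symm
    obtain ⟨u, hu, hu0, huj⟩ := exists_normalized_preimage f hf hq n (x 0 - G.δ 0 w) hzf (by
      rintro m rfl k
      rw [map_sub, sub_eq_zero, hcompat m rfl k]
      refine Eq.trans ?_ (ConcreteCategory.congr_hom (G.δ_comp_δ (Fin.zero_le k)) w)
      exact congrArg _ (hw k.succ (Fin.succ_ne_zero k)).symm)
    have hW : f.app (op ⦋n + 1⦌) (w + u) = y := by rw [map_add, hwy, hu]; exact add_zero _
    have hWj : ∀ j, G.δ j (w + u) = x j := by
      intro j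
      rw [map_add]
      by_cases hj : j = 0
      · subst hj; rw [hu0]; abel
      · obtain ⟨i, rfl⟩ := Fin.exists_succ_eq.2 hj
        rw [huj, hw _ hj, add_zero]
    refine ⟨⟨SSet.yonedaEquiv.symm (w + u), SSet.boundary.hom_ext fun j => ?_, ?_⟩⟩
    · rw [← Category.assoc, SSet.boundary.ι_ι]
      apply SSet.yonedaEquiv.injective
      rw [SSet.stdSimplex.yonedaEquiv_δ_comp, Equiv.apply_symm_apply]
      exact hWj j
    · apply SSet.yonedaEquiv.injective
      rw [SSet.yonedaEquiv_comp, Equiv.apply_symm_apply]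
      exact hW
end

/-- A degreewise surjective homomorphism of simplicial abelian groups inducing a quasi-isomorphism of
the associated chain complexes is a trivial Kan fibration of the underlying simplicial sets. -/
theorem result {X Y : SimplicialObject AddCommGrpCat.{u}} (f : X ⟶ Y) (hf : ∀ n : SimplexCategoryᵒᵖ, Function.Surjective (f.app n)) (hq : QuasiIso ((AlgebraicTopology.alternatingFaceMapComplex AddCommGrpCat.{u}).map f)) : SSet.modelCategoryQuillen.I.rlp (X := X ⋙ forget AddCommGrpCat.{u}) (Y := Y ⋙ forget AddCommGrpCat.{u}) (Functor.whiskerRight f (forget AddCommGrpCat.{u})) := by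
  exact main f hf hq

end Groth.Agent.S6781
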