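import Groth.Statements.S6782
import Mathlib
import Groth.Agent.H15Site.CoskLib
import Groth.Agent.H15Site.CoskHomotopy

open Groth.Agent.H15Site CategoryTheory.MonoidalCategory

set_option linter.style.haveILetI false
open CategoryTheory CategoryTheory.Limits Opposite Simplicial

set_option autoImplicit false
open CategoryTheory Opposite
universe u
open SSet

namespace Groth.Agent.S6782

/-- A map of `n`-coskeletal simplicial sets which is bijective on simplices of dimension `< n` and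
surjective on `n`-simplices is a trivial Kan fibration. -/
theorem result {U V : SSet.{u}} (f : V ⟶ U) (n : ℕ) (h1 : ∀ i : ℕ, i < n → Function.Bijective (f.app (op (SimplexCategory.mk i)))) (h2 : Function.Surjective (f.app (op (SimplexCategory.mk n)))) [SimplicialObject.IsCoskeletal U n] [SimplicialObject.IsCoskeletal V n] : SSet.modelCategoryQuillen.I.rlp f := by
  intro A B i hi
  obtain ⟨k⟩ := hi
  refine ⟨fun {a b} sq => ?_⟩
  have hsq : ∀ (m : ℕ) (z : (∂Δ[k] : SSet) _⦋m⦌), f.app (op ⦋m⦌) (a.app (op ⦋m⦌) z) = b.app (op ⦋m⦌) z.1 :=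
    fun m z => ConcreteCategory.congr_hom (NatTrans.congr_app sq.w (op ⦋m⦌)) z
  rcases le_or_gt k n with hk | hk
  · have hs : Function.Surjective (f.app (op ⦋k⦌)) := by
      rcases hk.eq_or_lt with rfl | h
      · exact h2
      · exact (h1 k h).2
    obtain ⟨v, hv⟩ := hs (SSet.yonedaEquiv b)
    have hr : SSet.yonedaEquiv.symm v ≫ f = b := by
      apply SSet.yonedaEquiv.injective
      rw [SSet.yonedaEquiv_comp, Equiv.apply_symm_apply]
      exact hv
    refine ⟨⟨SSet.yonedaEquiv.symm v, ?_, hr⟩⟩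
    cases k with
    | zero => exact SSet.boundary.hom_ext₀
    | succ k =>
      refine SSet.boundary.hom_ext fun j => ?_
      apply SSet.yonedaEquiv.injective
      apply (h1 k (by omega)).1
      have e1 : f.app (op ⦋k⦌) (SSet.yonedaEquiv (SSet.boundary.ι j ≫ ∂Δ[k + 1].ι ≫ SSet.yonedaEquiv.symm v)) =
          SSet.yonedaEquiv (SSet.boundary.ι j ≫ ∂Δ[k + 1].ι ≫ b) := by
        rw [← hr]
        exact (SSet.yonedaEquiv_comp _ f).symm
      have e2 : f.app (op ⦋k⦌) (SSet.yonedaEquiv (SSet.boundary.ι j ≫ a)) =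
          SSet.yonedaEquiv (SSet.boundary.ι j ≫ ∂Δ[k + 1].ι ≫ b) := by
        rw [← sq.w, ← Category.assoc]
        exact (SSet.yonedaEquiv_comp _ f).symm
      exact e1.trans e2.symm
  · have mem : ∀ (m : ℕ), m ≤ n → ∀ z : Δ[k] _⦋m⦌, z ∈ (∂Δ[k] : Δ[k].Subcomplex).obj (op ⦋m⦌) := by
      intro m hm z
      rw [SSet.boundary_obj_eq_univ m k (by omega)]
      exact Set.mem_univ z
    have mem' : ∀ (Δ : (SimplexCategory.Truncated n)ᵒᵖ) (z : Δ[k].obj (op Δ.unop.1)),
        z ∈ (∂Δ[k] : Δ[k].Subcomplex).obj (op Δ.unop.1) := by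
      rintro ⟨⟨Δ, hΔ⟩⟩ z
      induction Δ using SimplexCategory.rec with | _ m
      exact mem m hΔ z
    let β : (SimplexCategory.Truncated.inclusion n).op ⋙ Δ[k] ⟶
        (SimplexCategory.Truncated.inclusion n).op ⋙ V :=
      { app := fun Δ => ↾fun z => a.app (op Δ.unop.1) ⟨z, mem' Δ z⟩
        naturality := fun Δ Δ' g => by
          ext z
          exact NatTrans.naturality_apply a ((SimplexCategory.Truncated.inclusion n).op.map g) ⟨z, mem' Δ z⟩ }
    let l : Δ[k] ⟶ V := V.liftOfIsRightKanExtension (𝟙 ((SimplexCategory.Truncated.inclusion n).op ⋙ V)) Δ[k] β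
    have hl : ∀ (m : ℕ) (hm : m ≤ n) (z : Δ[k] _⦋m⦌), l.app (op ⦋m⦌) z = a.app (op ⦋m⦌) ⟨z, mem m hm z⟩ := by
      intro m hm z
      exact ConcreteCategory.congr_hom (V.liftOfIsRightKanExtension_fac_app
        (𝟙 ((SimplexCategory.Truncated.inclusion n).op ⋙ V)) Δ[k] β (op ⟨⦋m⦌, hm⟩)) z
    refine ⟨⟨l, coskeletal_hom_ext (n := n) _ _ fun m hm => ?_, coskeletal_hom_ext (n := n) _ _ fun m hm => ?_⟩⟩
    · ext z
      exact hl m hm z.1
    · ext z
      exact (congrArg (f.app (op ⦋m⦌)) (hl m hm z)).trans (hsq m ⟨z, mem m hm z⟩)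

end Groth.Agent.S6782
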