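import Groth.Statements.S6783
import Mathlib

set_option linter.style.haveILetI false
open CategoryTheory CategoryTheory.Limits Opposite Simplicial

set_option autoImplicit false
open CategoryTheory
universe u
open SSet

namespace Groth.Agent.S6783

/-- For a surjective map of sets `f : A → B`, the augmentation from the Čech nerve of `f` (with
`n`-simplices the `(n+1)`-fold fibre product of `A` over `B`) to the constant simplicial set `B` is
a trivial Kan fibration. -/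
theorem result {A B : Type u} (f : A ⟶ B) (hf : Function.Surjective f) : SSet.modelCategoryQuillen.I.rlp (Arrow.mk f).augmentedCechNerve.hom := by
  intro X Y i hi
  obtain ⟨n⟩ := hi
  refine ⟨fun {a b} sq ↦ ?_⟩
  let p := (Arrow.mk f).augmentedCechNerve.hom
  let pr : ∀ (m : ℕ) (k : Fin (m + 1)), (Arrow.mk f).cechNerve _⦋m⦌ ⟶ A :=
    fun m k ↦ WidePullback.π (fun _ : Fin (m + 1) ↦ f) k
  let bs : ∀ (m : ℕ), (Arrow.mk f).cechNerve _⦋m⦌ ⟶ B :=
    fun m ↦ WidePullback.base (fun _ : Fin (m + 1) ↦ f)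
  let idn : Δ[n] _⦋n⦌ := SSet.stdSimplex.objEquiv.symm (𝟙 _)
  let b₀ : B := b.app (op ⦋n⦌) idn
  have hb : ∀ (m : ℕ) (z : Δ[n] _⦋m⦌), b.app (op ⦋m⦌) z = b₀ := by
    intro m z
    have h1 := NatTrans.naturality_apply b (SSet.stdSimplex.objEquiv z).op idn
    have h2 : Δ[n].map (SSet.stdSimplex.objEquiv z).op idn = z := by
      apply SSet.stdSimplex.objEquiv.injective
      exact Category.comp_id (SSet.stdSimplex.objEquiv z)
    rw [h2] at h1
    exact h1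
  have hsq : ∀ (m : ℕ) (z : (∂Δ[n] : SSet) _⦋m⦌), bs m (a.app (op ⦋m⦌) z) = b₀ := by
    intro m z
    exact (ConcreteCategory.congr_hom (NatTrans.congr_app sq.w (op ⦋m⦌)) z).trans (hb m z.1)
  let vtx (j : Fin (n + 1)) : Δ[n] _⦋0⦌ :=
    SSet.stdSimplex.objEquiv.symm (SimplexCategory.const ⦋0⦌ ⦋n⦌ j)
  have hv : ∀ j, ∃ x : A, f x = b₀ ∧ ∀ h : vtx j ∈ (∂Δ[n] : Δ[n].Subcomplex).obj (op ⦋0⦌),
      pr 0 0 (a.app (op ⦋0⦌) ⟨vtx j, h⟩) = x := by
    intro j
    by_cases h : vtx j ∈ (∂Δ[n] : Δ[n].Subcomplex).obj (op ⦋0⦌)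
    · refine ⟨pr 0 0 (a.app (op ⦋0⦌) ⟨vtx j, h⟩), ?_, fun _ ↦ rfl⟩
      refine Eq.trans ?_ (hsq 0 ⟨vtx j, h⟩)
      exact ConcreteCategory.congr_hom (WidePullback.π_arrow (fun _ : Fin 1 ↦ f) 0) _
    · obtain ⟨x, hx⟩ := hf b₀
      exact ⟨x, hx, fun h' ↦ absurd h' h⟩
  choose v hv1 hv2 using hv
  let x₀ : (Arrow.mk f).cechNerve _⦋n⦌ :=
    WidePullback.lift (arrows := fun _ : Fin (n + 1) ↦ f) (X := PUnit.{u + 1}) (↾fun _ ↦ b₀)
      (fun j ↦ ↾fun _ ↦ v j) (fun j ↦ by ext; exact hv1 j) PUnit.unit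
  have hx1 : ∀ k, pr n k x₀ = v k := fun k ↦
    ConcreteCategory.congr_hom (WidePullback.lift_π (fun _ : Fin (n + 1) ↦ f) _ _ _ k) PUnit.unit
  have hx2 : bs n x₀ = b₀ :=
    ConcreteCategory.congr_hom (WidePullback.lift_base (fun _ : Fin (n + 1) ↦ f) _ _ _) PUnit.unit
  have hmap : ∀ (m m' : ℕ) (g : ⦋m'⦌ ⟶ ⦋m⦌) (y : (Arrow.mk f).cechNerve _⦋m⦌) (k : Fin (m' + 1)),
      pr m' k ((Arrow.mk f).cechNerve.map g.op y) = pr m (g.toOrderHom k) y := fun m m' g y k ↦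
    ConcreteCategory.congr_hom (WidePullback.lift_π (fun _ : Fin (m' + 1) ↦ f) _ _ _ k) y
  refine ⟨⟨SSet.yonedaEquiv.symm x₀, ?_, ?_⟩⟩
  · apply SSet.hom_ext
    rintro ⟨Δ⟩
    induction Δ using SimplexCategory.rec with | _ m
    ext z
    obtain ⟨z, hz⟩ := z
    let g := SSet.stdSimplex.objEquiv z
    change (Arrow.mk f).cechNerve.map g.op x₀ = a.app (op ⦋m⦌) ⟨z, hz⟩
    refine Types.limit_ext (WidePullbackShape.wideCospan (Arrow.mk f).right
      (fun _ : Fin (m + 1) ↦ (Arrow.mk f).left) fun _ ↦ (Arrow.mk f).hom) _ _ ?_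
    rintro (_ | k)
    · refine Eq.trans ?_ (hsq m ⟨z, hz⟩).symm
      exact (ConcreteCategory.congr_hom
        (WidePullback.lift_base (fun _ : Fin (m + 1) ↦ f) _ _ _) x₀).trans hx2
    · change pr m k ((Arrow.mk f).cechNerve.map g.op x₀) = pr m k (a.app (op ⦋m⦌) ⟨z, hz⟩)
      rw [hmap, hx1]
      let c : ⦋0⦌ ⟶ ⦋m⦌ := SimplexCategory.const ⦋0⦌ ⦋m⦌ k
      have hmem : vtx (g.toOrderHom k) ∈ (∂Δ[n] : Δ[n].Subcomplex).obj (op ⦋0⦌) := by
        have := (∂Δ[n] : Δ[n].Subcomplex).map c.op hz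
        have e : Δ[n].map c.op z = vtx (g.toOrderHom k) := by
          apply SSet.stdSimplex.objEquiv.injective
          ext q : 3
          rfl
        rw [← e]
        exact this
      rw [← hv2 _ hmem]
      have h3 := NatTrans.naturality_apply a c.op ⟨z, hz⟩
      refine (congrArg (pr 0 0) (Eq.trans (congrArg (a.app (op ⦋0⦌)) ?_) h3)).trans (hmap m 0 c _ 0)
      apply Subtype.ext
      apply SSet.stdSimplex.objEquiv.injective
      ext q : 3
      rfl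
  · apply SSet.yonedaEquiv.injective
    refine Eq.trans ?_ (hx2.trans rfl)
    change bs n ((Arrow.mk f).cechNerve.map (𝟙 _) x₀) = bs n x₀
    rw [CategoryTheory.Functor.map_id]
    rfl

end Groth.Agent.S6783
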