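import Groth.Statements.S6784
import Mathlib
import Groth.Agent.H15Site.CoskLib

open Groth.Agent.H15Site

set_option linter.style.haveILetI false
open CategoryTheory CategoryTheory.Limits Opposite Simplicial

set_option autoImplicit false
open CategoryTheory
universe u
open SSet

namespace Groth.Agent.S6784

/-- The standard simplex `Δ[n]` is `1`-coskeletal, i.e. it is the right Kan extension of its
`1`-truncation. -/
theorem result (n : ℕ) : SimplicialObject.IsCoskeletal (SSet.stdSimplex.{u}.obj (SimplexCategory.mk n)) 1 := by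
  apply isCoskeletal_of_isPointwise
  rintro ⟨Δ⟩
  refine IsLimit.ofExistsUnique fun s ↦ ?_
  induction Δ using SimplexCategory.rec with | _ m
  -- the value of the cone on a vertex
  let val (x : s.pt) {i : ℕ} (f : ⦋i⦌ ⟶ ⦋m⦌) (hi : i ≤ 1) : ⦋i⦌ ⟶ ⦋n⦌ :=
    SSet.stdSimplex.objEquiv (s.π.app (arrowMk f hi) x)
  have hnat : ∀ (x : s.pt) {i j : ℕ} (f : ⦋i⦌ ⟶ ⦋m⦌) (hi : i ≤ 1) (g : ⦋j⦌ ⟶ ⦋i⦌) (hj : j ≤ 1),
      val x (g ≫ f) hj = g ≫ val x f hi := by
    intro x i j f hi g hj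
    change SSet.stdSimplex.objEquiv _ = _
    rw [cone_w s f hi g hj]
    rfl
  let vert (x : s.pt) (a : Fin (m + 1)) : Fin (n + 1) :=
    (val x (SimplexCategory.const ⦋0⦌ ⦋m⦌ a) (Nat.zero_le 1)).toOrderHom 0
  have hvert : ∀ (x : s.pt) {i : ℕ} (f : ⦋i⦌ ⟶ ⦋m⦌) (hi : i ≤ 1) (k : Fin (i + 1)),
      vert x (f.toOrderHom k) = (val x f hi).toOrderHom k := by
    intro x i f hi k
    have : SimplexCategory.const ⦋0⦌ ⦋m⦌ (f.toOrderHom k) =
        SimplexCategory.const ⦋0⦌ ⦋i⦌ k ≫ f := by ext; rfl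
    simp only [vert, this, hnat x f hi]
    rfl
  have hmono : ∀ x, Monotone (vert x) := by
    intro x a b hab
    have h0 := hvert x (SimplexCategory.mkOfLe a b hab) le_rfl 0
    have h1 := hvert x (SimplexCategory.mkOfLe a b hab) le_rfl 1
    exact le_of_eq_of_le h0 (((val x _ _).toOrderHom.monotone (Fin.zero_le _)).trans_eq h1.symm)
  refine ⟨↾fun x ↦ SSet.stdSimplex.objEquiv.symm (SimplexCategory.Hom.mk ⟨vert x, hmono x⟩),
    fun j ↦ ?_, fun l hl ↦ ?_⟩
  · obtain ⟨i, hi, f, rfl⟩ := exists_eq_arrowMk j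
    ext x
    apply SSet.stdSimplex.objEquiv.injective
    ext k : 3
    exact hvert x f hi k
  · ext x
    apply SSet.stdSimplex.objEquiv.injective
    ext a : 3
    have h1 := ConcreteCategory.congr_hom
      (hl (arrowMk (SimplexCategory.const ⦋0⦌ ⦋m⦌ a) (Nat.zero_le 1))) x
    refine Eq.trans ?_ (congrArg (fun z ↦ (SSet.stdSimplex.objEquiv z).toOrderHom 0) h1)
    rfl

end Groth.Agent.S6784
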