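import Groth.Statements.S6785
import Mathlib

open CategoryTheory.MonoidalCategory

set_option linter.style.haveILetI false
open CategoryTheory CategoryTheory.Limits Opposite Simplicial

set_option autoImplicit false
open CategoryTheory
universe u
open SSet

namespace Groth.Agent.S6785

section
lemma exists_homotopy {X Y : SSet.{u}} (f : X ⟶ Y)
    (hf : (MorphismProperty.monomorphisms SSet.{u}).rlp f) (p q : X ⟶ X) (h : p ≫ f = q ≫ f) :
    Nonempty (SSet.Homotopy p q) := by
  classical
  let A : (X ⊗ Δ[1]).Subcomplex :=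
    { obj := fun Δ => {z | z.2 = SSet.stdSimplex.const 1 0 Δ ∨ z.2 = SSet.stdSimplex.const 1 1 Δ}
      map := by
        rintro Δ Δ' g z (hz | hz)
        · exact Or.inl ((congrArg (Δ[1].map g) hz).trans rfl)
        · exact Or.inr ((congrArg (Δ[1].map g) hz).trans rfl) }
  have hne : ∀ Δ : SimplexCategoryᵒᵖ, SSet.stdSimplex.const.{u} 1 0 Δ ≠ SSet.stdSimplex.const 1 1 Δ := by
    intro Δ h01
    have := congrArg (fun z => (SSet.stdSimplex.objEquiv z).toOrderHom 0) h01
    exact absurd this (by simp [SSet.stdSimplex.const, SSet.stdSimplex.objMk])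
  let a : (A : SSet) ⟶ X :=
    { app := fun Δ => ↾fun z =>
        if z.1.2 = SSet.stdSimplex.const 1 0 Δ then p.app Δ z.1.1 else q.app Δ z.1.1
      naturality := fun Δ Δ' g => by
        ext ⟨⟨x, t⟩, hz⟩
        change (if Δ[1].map g t = SSet.stdSimplex.const 1 0 Δ' then p.app Δ' (X.map g x)
          else q.app Δ' (X.map g x)) =
          X.map g (if t = SSet.stdSimplex.const 1 0 Δ then p.app Δ x else q.app Δ x)
        rcases hz with hz | hz <;> obtain rfl := (hz : t = _)
        · exact (if_pos rfl).trans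
            ((NatTrans.naturality_apply p g x).trans (congrArg (X.map g) (if_pos rfl).symm))
        · exact (if_neg (hne Δ').symm).trans
            ((NatTrans.naturality_apply q g x).trans (congrArg (X.map g) (if_neg (hne Δ).symm).symm)) }
  have : Mono A.ι := inferInstance
  have := hf A.ι (MorphismProperty.monomorphisms.infer_property _)
  have sq : CommSq a A.ι f (CartesianMonoidalCategory.fst X Δ[1] ≫ (p ≫ f)) := ⟨by
    ext Δ ⟨⟨x, t⟩, hz⟩
    change f.app Δ (if _ then _ else _) = f.app Δ (p.app Δ x)
    split_ifs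
    · rfl
    · exact (ConcreteCategory.congr_hom (NatTrans.congr_app h Δ) x).symm⟩
  refine ⟨SSet.RelativeMorphism.Homotopy.mk sq.lift ?_ ?_ ?_⟩
  · ext Δ x
    have h1 : ((SSet.ι₀ (X := X)).app Δ x) ∈ A.obj Δ := Or.inl rfl
    refine (ConcreteCategory.congr_hom (NatTrans.congr_app sq.fac_left Δ) ⟨_, h1⟩).trans ?_
    exact if_pos rfl
  · ext Δ x
    have h1 : ((SSet.ι₁ (X := X)).app Δ x) ∈ A.obj Δ := Or.inr rfl
    refine (ConcreteCategory.congr_hom (NatTrans.congr_app sq.fac_left Δ) ⟨_, h1⟩).trans ?_
    exact if_neg (hne Δ).symm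
  · ext Δ ⟨⟨x, hx⟩, t⟩
    exact absurd hx (by simp)
end

/-- A trivial Kan fibration `f : X ⟶ Y` of simplicial sets is a homotopy equivalence; more precisely it
has a section `g`, and `g ∘ f` is homotopic to the identity of `X` by a single homotopy in each
direction. (The published statement only asserts a homotopy equivalence; the section and the
one-step homotopies are what its proof constructs.) -/
theorem result {X Y : SSet.{u}} (f : X ⟶ Y) (hf : SSet.modelCategoryQuillen.I.rlp f) : ∃ g : Y ⟶ X, g ≫ f = 𝟙 Y ∧ Nonempty (SSet.Homotopy (𝟙 X) (f ≫ g)) ∧ Nonempty (SSet.Homotopy (f ≫ g) (𝟙 X)) := by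
  rw [← SSet.rlp_monomorphisms] at hf
  let i := (⊥ : Y.Subcomplex).ι
  have : Mono i := inferInstance
  have := hf i (MorphismProperty.monomorphisms.infer_property _)
  have sq : CommSq (SSet.Subcomplex.isInitialBot.to X : ((⊥ : Y.Subcomplex) : SSet) ⟶ X) i f (𝟙 Y) :=
    ⟨SSet.Subcomplex.isInitialBot.hom_ext _ _⟩
  refine ⟨sq.lift, sq.fac_right, ?_, ?_⟩
  · exact exists_homotopy f hf _ _ (by rw [Category.id_comp, Category.assoc, sq.fac_right, Category.comp_id])
  · exact exists_homotopy f hf _ _ (by rw [Category.id_comp, Category.assoc, sq.fac_right, Category.comp_id])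

end Groth.Agent.S6785
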