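import Groth.Statements.S6786
import Groth.Agent.H16Derived.ML

set_option autoImplicit false
open CategoryTheory CategoryTheory.Limits
universe u
open HomAlg3

namespace Groth.Agent.S6786

open Opposite
open Groth.Agent.H16Derived.ML

/-- For a sequence `(A_i) ⟶ (B_i) ⟶ (C_i) ⟶ (D_i)` of inverse systems of abelian groups over `ℕ` that is
exact levelwise at the two middle places, if `(A_i)` is Mittag-Leffler then `lim B_i ⟶ lim C_i ⟶ lim
D_i` is exact. -/
theorem result {A B C D : ℕᵒᵖ ⥤ AddCommGrpCat.{u}} (a : A ⟶ B) (b : B ⟶ C) (c : C ⟶ D) (hB : ∀ i, (b.app i).hom.ker = (a.app i).hom.range) (hC : ∀ i, (c.app i).hom.ker = (b.app i).hom.range) (hA : (A ⋙ forget AddCommGrpCat).IsMittagLeffler) : (limMap c).hom.ker = (limMap b).hom.range := by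
  apply le_antisymm
  · intro z hz
    rw [AddMonoidHom.mem_ker] at hz
    obtain ⟨y, hy, hy'⟩ := exists_lift a b countable_cofinal_nat hB hA
      (fun i => limit.π C (op i) z) (fun i j h => limit_element_compat C z _) (fun i => by
        have h : limit.π C (op i) z ∈ (c.app (op i)).hom.ker := by
          have h' := congrArg (limit.π D (op i)) hz
          rw [map_zero, ← comp_apply, limMap_π, comp_apply] at h'
          exact h'
        rw [hC] at h
        exact h)
    obtain ⟨x, hx⟩ := exists_limit_element B (fun i => y i.unop)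
      (fun i j f => hy j.unop i.unop (leOfHom f.unop))
    refine ⟨x, limit_element_ext C _ _ fun i => ?_⟩
    rw [← comp_apply, limMap_π, comp_apply, hx]
    exact hy' i.unop
  · rintro _ ⟨x, rfl⟩
    rw [AddMonoidHom.mem_ker]
    refine limit_element_ext D _ _ fun i => ?_
    have h' : limit.π C i (limMap b x) = b.app i (limit.π B i x) := by
      rw [← comp_apply, limMap_π, comp_apply]
    rw [map_zero, ← comp_apply, limMap_π, comp_apply]
    erw [h']
    have h : b.app i (limit.π B i x) ∈ (b.app i).hom.range := ⟨_, rfl⟩
    rw [← hC] at h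
    exact h

end Groth.Agent.S6786
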