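import Groth.Statements.S6787
import Mathlib.CategoryTheory.CofilteredSystem

set_option autoImplicit false
open CategoryTheory CategoryTheory.Limits
universe u
open HomAlg3

namespace Groth.Agent.S6787

/-- Transition map of a system of abelian groups. -/
def T (F : ℕᵒᵖ ⥤ AddCommGrpCat.{u}) {p q : ℕ} (h : p ≤ q) : F.obj (Opposite.op q) →+ F.obj (Opposite.op p) :=
  (F.map (homOfLE h).op).hom

lemma T_T (F : ℕᵒᵖ ⥤ AddCommGrpCat.{u}) {p q r : ℕ} (h : p ≤ q) (h' : q ≤ r) (x : F.obj (Opposite.op r)) :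
    T F h (T F h' x) = T F (h.trans h') x := by
  show (F.map _).hom ((F.map _).hom x) = (F.map _).hom x
  rw [← ConcreteCategory.comp_apply, ← Functor.map_comp]
  rfl

lemma T_nat {F G : ℕᵒᵖ ⥤ AddCommGrpCat.{u}} (φ : F ⟶ G) {p q : ℕ} (h : p ≤ q) (x : F.obj (Opposite.op q)) :
    T G h ((φ.app _).hom x) = (φ.app _).hom (T F h x) :=
  (CategoryTheory.congr_fun (φ.naturality (homOfLE h).op) x).symm

/-- The Mittag-Leffler condition in elements. -/
lemma ml_iff (F : ℕᵒᵖ ⥤ AddCommGrpCat.{u}) :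
    (F ⋙ forget AddCommGrpCat).IsMittagLeffler ↔ ∀ j : ℕ, ∃ (k : ℕ) (hk : j ≤ k),
      ∀ (m : ℕ) (hm : j ≤ m) (x : F.obj (Opposite.op k)), ∃ y : F.obj (Opposite.op m), T F hm y = T F hk x := by
  constructor
  · intro h j
    obtain ⟨⟨k⟩, f, hf⟩ := h (Opposite.op j)
    refine ⟨k, leOfHom f.unop, fun m hm x => ?_⟩
    obtain ⟨y, hy⟩ := hf (homOfLE hm).op ⟨x, rfl⟩
    exact ⟨y, hy⟩
  · rintro h ⟨j⟩
    obtain ⟨k, hk, hf⟩ := h j
    refine ⟨Opposite.op k, (homOfLE hk).op, fun m g => ?_⟩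
    rintro _ ⟨x, rfl⟩
    obtain ⟨y, hy⟩ := hf m.unop (leOfHom g.unop) x
    exact ⟨y, hy⟩

/-- Take inverse systems `(A_i)`, `(B_i)`, `(C_i)` of abelian groups over `ℕ`, with morphisms of systems
`(A_i) ⟶ (B_i) ⟶ (C_i)` that give a short exact sequence at every index, and suppose `(C_i)` is
essentially constant. Then `(A_i)` is Mittag-Leffler if and only if `(B_i)` is. -/
theorem result {A B C : ℕᵒᵖ ⥤ AddCommGrpCat.{u}} (a : A ⟶ B) (b : B ⟶ C) (ha : ∀ i, Function.Injective (a.app i).hom) (hb : ∀ i, Function.Surjective (b.app i).hom) (hex : ∀ i, (b.app i).hom.ker = (a.app i).hom.range) (hC : ∃ (C₀ : AddCommGrpCat.{u}) (c : (Functor.const ℕᵒᵖ).obj C₀ ⟶ C), DerCA.IsEssConstant C C₀ c) : (A ⋙ forget AddCommGrpCat).IsMittagLeffler ↔ (B ⋙ forget AddCommGrpCat).IsMittagLeffler := by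
  obtain ⟨C₀, c, i₀, s, hs, hj⟩ := hC
  let cc : ∀ p, C₀ →+ C.obj (Opposite.op p) := fun p => (c.app (Opposite.op p)).hom
  have hcT : ∀ {p q : ℕ} (h : p ≤ q) (w : C₀), T C h (cc q w) = cc p w := fun {p q} h w =>
    (CategoryTheory.congr_fun (c.naturality (homOfLE h).op) w).symm
  have hsc : ∀ w : C₀, s.hom (cc i₀ w) = w := fun w => CategoryTheory.congr_fun hs w
  -- beyond some index everything factors through `C₀`
  have hfac : ∀ p, ∃ k, p ≤ k ∧ i₀ ≤ k ∧ ∀ (M : ℕ) (_ : k ≤ M) (h₁ : p ≤ M) (h₂ : i₀ ≤ M) (z : C.obj (Opposite.op M)),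
      T C h₁ z = cc p (s.hom (T C h₂ z)) := by
    intro p
    obtain ⟨k, hi, hp, e⟩ := hj p
    refine ⟨k, hp, hi, fun M hM h₁ h₂ z => ?_⟩
    rw [← T_T C hp hM z, ← T_T C hi hM z]
    exact CategoryTheory.congr_fun e (T C hM z)
  have hab : ∀ (i : ℕᵒᵖ) x, (b.app i).hom ((a.app i).hom x) = 0 := fun i x => by
    have : (a.app i).hom x ∈ (b.app i).hom.ker := by rw [hex i]; exact ⟨x, rfl⟩
    exact this
  have hker : ∀ (i : ℕᵒᵖ) y, (b.app i).hom y = 0 → ∃ x, (a.app i).hom x = y := fun i y hy => by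
    have : y ∈ (a.app i).hom.range := by rw [← hex i]; exact hy
    exact this
  rw [ml_iff, ml_iff]
  constructor
  · intro hA j
    obtain ⟨j₁, hjj₁, hA₁⟩ := hA j
    obtain ⟨k₁, hjk₁, hik₁, hk₁⟩ := hfac j₁
    refine ⟨k₁, hjj₁.trans hjk₁, fun m hm y => ?_⟩
    let w : C₀ := s.hom (T C hik₁ ((b.app _).hom y))
    obtain ⟨y₂, hy₂⟩ := hb (Opposite.op (max m j₁)) (cc (max m j₁) w)
    have hd : (b.app _).hom (T B hjk₁ y - T B (le_max_right m j₁) y₂) = 0 := by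
      rw [map_sub, ← T_nat b, ← T_nat b, hy₂, hcT, hk₁ k₁ le_rfl hjk₁ hik₁, sub_self]
    obtain ⟨x, hx⟩ := hker _ _ hd
    obtain ⟨x', hx'⟩ := hA₁ m hm x
    refine ⟨(a.app _).hom x' + T B (le_max_left m j₁) y₂, ?_⟩
    rw [map_add, T_nat a, hx', ← T_nat a, T_T, hx, map_sub, T_T, T_T, sub_add_cancel]
  · intro hB j₀
    let j := max j₀ i₀
    obtain ⟨k, hjk, hB'⟩ := hB j
    refine ⟨k, (le_max_left _ _).trans hjk, fun m₀ hm₀ x => ?_⟩
    let m := max m₀ j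
    obtain ⟨k₂, hmk₂, hik₂, hk₂⟩ := hfac m
    obtain ⟨k₃, hjk₃, hik₃, hk₃⟩ := hfac j
    let M := max k₂ k₃
    have hjM : j ≤ M := hjk₃.trans (le_max_right _ _)
    have hiM : i₀ ≤ M := hik₂.trans (le_max_left _ _)
    have hmM : m ≤ M := hmk₂.trans (le_max_left _ _)
    obtain ⟨y, hy⟩ := hB' M hjM ((a.app _).hom x)
    let w : C₀ := s.hom (T C hiM ((b.app _).hom y))
    have hw : w = 0 := by
      have e : cc j w = 0 := by
        rw [← hk₃ M (le_max_right _ _) hjM hiM, T_nat b, hy, T_nat a, hab]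
      have h1 : s.hom (T C (le_max_right j₀ i₀) (cc (max j₀ i₀) w)) = 0 := by
        rw [show cc (max j₀ i₀) w = 0 from e, map_zero, map_zero]
      rw [← hsc w, ← hcT (le_max_right j₀ i₀) w]
      exact h1
    have hb0 : (b.app _).hom (T B hmM y) = 0 := by
      rw [← T_nat b, hk₂ M (le_max_left _ _) hmM hiM]
      show cc m w = 0
      rw [hw, map_zero]
    obtain ⟨x', hx'⟩ := hker _ _ hb0
    refine ⟨T A (le_max_left m₀ j) x', ?_⟩
    apply ha
    rw [T_T, ← T_nat a, hx', T_T, ← T_nat a, ← T_T B (le_max_left j₀ i₀) hjk, ← hy, T_T]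

end Groth.Agent.S6787
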