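import Groth.Statements.S6788

set_option linter.style.haveILetI false

set_option autoImplicit false
open CategoryTheory CategoryTheory.Limits
universe v u v' u'
open CategoryTheory CategoryTheory.Localization

namespace Groth.Agent.S6788

/-- For a multiplicative system `W` (left and right calculus of fractions) in a preadditive category
with a zero object and its localization functor `L`, an object `X` becomes zero in the localization
iff some zero map out of `X` lies in `W`, iff some zero map into `X` lies in `W`. (The published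
statement assumes the category additive; only the zero object and the preadditive structure are
used.) -/
theorem result {C : Type u} [Category.{v} C] [Preadditive C] [HasZeroObject C] {D : Type u'} [Category.{v'} D] (L : C ⥤ D) (W : MorphismProperty C) [W.HasLeftCalculusOfFractions] [W.HasRightCalculusOfFractions] [L.IsLocalization W] (X : C) : (IsZero (L.obj X) ↔ ∃ Y : C, W (0 : X ⟶ Y)) ∧ (IsZero (L.obj X) ↔ ∃ Z : C, W (0 : Z ⟶ X)) := by
  obtain ⟨O, hO⟩ := HasZeroObject.zero (C := C)
  haveI := Localization.essSurj L W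
  have hsrc : ∀ (T : D) (a b : L.obj O ⟶ T), a = b := by
    intro T a b
    suffices H : ∀ (Y : C) (a b : L.obj O ⟶ L.obj Y), a = b by
      rw [← cancel_mono (L.objObjPreimageIso T).inv]; exact H _ _ _
    intro Y a b
    obtain ⟨φ, rfl⟩ := Localization.exists_leftFraction L W a
    obtain ⟨ψ, rfl⟩ := Localization.exists_leftFraction L W b
    obtain ⟨χ, hχ⟩ := (MorphismProperty.RightFraction.mk φ.s φ.hs ψ.s).exists_leftFraction
    dsimp at hχ
    haveI := Localization.inverts L W φ.s φ.hs
    haveI := Localization.inverts L W ψ.s ψ.hs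
    haveI := Localization.inverts L W χ.s χ.hs
    haveI : IsIso (L.map ψ.s ≫ L.map χ.s) := inferInstance
    rw [← cancel_mono (L.map ψ.s ≫ L.map χ.s), MorphismProperty.LeftFraction.map_comp_map_s_assoc]
    rw [← L.map_comp ψ.s, hχ, L.map_comp, MorphismProperty.LeftFraction.map_comp_map_s_assoc,
      ← L.map_comp, ← L.map_comp]
    exact congrArg L.map (hO.eq_of_src _ _)
  have htgt : ∀ (T : D) (a b : T ⟶ L.obj O), a = b := by
    intro T a b
    suffices H : ∀ (Y : C) (a b : L.obj Y ⟶ L.obj O), a = b by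
      rw [← cancel_epi (L.objObjPreimageIso T).hom]; exact H _ _ _
    intro Y a b
    obtain ⟨φ, rfl⟩ := Localization.exists_rightFraction L W a
    obtain ⟨ψ, rfl⟩ := Localization.exists_rightFraction L W b
    obtain ⟨χ, hχ⟩ := (MorphismProperty.LeftFraction.mk φ.s ψ.s ψ.hs).exists_rightFraction
    dsimp at hχ
    haveI := Localization.inverts L W φ.s φ.hs
    haveI := Localization.inverts L W ψ.s ψ.hs
    haveI := Localization.inverts L W χ.s χ.hs
    haveI : IsIso (L.map χ.s ≫ L.map φ.s) := inferInstance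
    rw [← cancel_epi (L.map χ.s ≫ L.map φ.s), Category.assoc, Category.assoc,
      MorphismProperty.RightFraction.map_s_comp_map]
    rw [← Category.assoc (L.map χ.s) (L.map φ.s), ← L.map_comp χ.s φ.s, hχ, L.map_comp, Category.assoc,
      MorphismProperty.RightFraction.map_s_comp_map, ← L.map_comp, ← L.map_comp]
    exact congrArg L.map (hO.eq_of_tgt _ _)
  have retr : ∀ (p : L.obj X ⟶ L.obj O) (i : L.obj O ⟶ L.obj X), p ≫ i = 𝟙 _ → IsZero (L.obj X) := by
    intro p i h
    refine ⟨fun T => ⟨⟨⟨p ≫ L.map (hO.to_ _) ≫ (L.objObjPreimageIso T).hom⟩, fun a => ?_⟩⟩, fun T => ⟨⟨⟨((L.objObjPreimageIso T).inv ≫ L.map (hO.from_ _)) ≫ i⟩, fun a => ?_⟩⟩⟩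
    · rw [← Category.id_comp a, ← h, Category.assoc]
      exact congrArg (p ≫ ·) (hsrc _ _ _)
    · rw [← Category.comp_id a, ← h, ← Category.assoc]
      exact congrArg (· ≫ i) (htgt _ _ _)
  refine ⟨⟨fun h => ?_, fun ⟨Y, hY⟩ => ?_⟩, ⟨fun h => ?_, fun ⟨Z, hZ⟩ => ?_⟩⟩
  · obtain ⟨Y, s, hs, e⟩ := (MorphismProperty.map_eq_iff_postcomp L W (𝟙 X) 0).1 (h.eq_of_src _ _)
    rw [Category.id_comp, zero_comp] at e
    exact ⟨Y, e ▸ hs⟩
  · haveI := Localization.inverts L W _ hY
    refine retr (L.map (hO.from_ X)) (L.map (hO.to_ Y) ≫ inv (L.map (0 : X ⟶ Y))) ?_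
    rw [← Category.assoc, ← L.map_comp, IsIso.comp_inv_eq, Category.id_comp]
    congr 1
    rw [hO.eq_of_src (hO.to_ Y) 0, comp_zero]
  · obtain ⟨Z, s, hs, e⟩ := (MorphismProperty.map_eq_iff_precomp L W (𝟙 X) 0).1 (h.eq_of_src _ _)
    rw [Category.comp_id, comp_zero] at e
    exact ⟨Z, e ▸ hs⟩
  · haveI := Localization.inverts L W _ hZ
    refine retr (inv (L.map (0 : Z ⟶ X)) ≫ L.map (hO.from_ Z)) (L.map (hO.to_ X)) ?_
    rw [Category.assoc, ← L.map_comp, IsIso.inv_comp_eq, Category.comp_id]
    congr 1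
    rw [hO.eq_of_src (hO.to_ X) 0, comp_zero]

end Groth.Agent.S6788
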