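import Groth.Statements.S6789
import Mathlib

set_option linter.style.haveILetI false
open CategoryTheory CategoryTheory.Limits Opposite Simplicial

set_option autoImplicit false
open CategoryTheory CategoryTheory.Limits
universe v u
open CategoryTheory CategoryTheory.SimplicialObject

namespace Groth.Agent.S6789

section
variable {C : Type u} [Category.{v} C] {F G : Arrow C}
    [∀ n : ℕ, HasWidePullback F.right (fun _ : Fin (n + 1) => F.left) fun _ => F.hom]
    [∀ n : ℕ, HasWidePullback G.right (fun _ : Fin (n + 1) => G.left) fun _ => G.hom]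
    (φ ψ : F ⟶ G) (h : φ.right = ψ.right)

noncomputable abbrev pr (F : Arrow C)
    [∀ n : ℕ, HasWidePullback F.right (fun _ : Fin (n + 1) => F.left) fun _ => F.hom]
    (m : ℕ) (j : Fin (m + 1)) : F.cechNerve _⦋m⦌ ⟶ F.left :=
  WidePullback.π (fun _ : Fin (m + 1) => F.hom) j

noncomputable abbrev bs (F : Arrow C)
    [∀ n : ℕ, HasWidePullback F.right (fun _ : Fin (n + 1) => F.left) fun _ => F.hom]
    (m : ℕ) : F.cechNerve _⦋m⦌ ⟶ F.right :=
  WidePullback.base (fun _ : Fin (m + 1) => F.hom)

omit [∀ n : ℕ, HasWidePullback F.right (fun _ : Fin (n + 1) => F.left) fun _ => F.hom] in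
lemma nerve_hom_ext {m : ℕ} {T : C} (a b : T ⟶ G.cechNerve _⦋m⦌)
    (h₁ : ∀ j, a ≫ pr G m j = b ≫ pr G m j) (h₂ : a ≫ bs G m = b ≫ bs G m) : a = b :=
  WidePullback.hom_ext _ _ _ h₁ h₂

omit [∀ n : ℕ, HasWidePullback F.right (fun _ : Fin (n + 1) => F.left) fun _ => F.hom] in
@[reassoc]
lemma map_pr {m m' : ℕ} (g : ⦋m'⦌ ⟶ ⦋m⦌) (j : Fin (m' + 1)) :
    G.cechNerve.map g.op ≫ pr G m' j = pr G m (g.toOrderHom j) :=
  WidePullback.lift_π ..

omit [∀ n : ℕ, HasWidePullback F.right (fun _ : Fin (n + 1) => F.left) fun _ => F.hom] in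
@[reassoc]
lemma map_bs {m m' : ℕ} (g : ⦋m'⦌ ⟶ ⦋m⦌) :
    G.cechNerve.map g.op ≫ bs G m' = bs G m :=
  WidePullback.lift_base ..

/-- The component of the homotopy. -/
noncomputable def comp {m : ℕ} (i : Fin (m + 1)) : F.cechNerve _⦋m⦌ ⟶ G.cechNerve _⦋m + 1⦌ :=
  WidePullback.lift (bs F m ≫ φ.right)
    (fun j : Fin (m + 2) => pr F m (Fin.predAbove i j) ≫ if j ≤ i.castSucc then φ.left else ψ.left)
    (fun j => by
      split_ifs
      · rw [Category.assoc, Arrow.w φ, ← Category.assoc, WidePullback.π_arrow]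
      · rw [Category.assoc, Arrow.w ψ, ← Category.assoc, WidePullback.π_arrow, h])

@[reassoc (attr := simp)]
lemma comp_pr {m : ℕ} (i : Fin (m + 1)) (j : Fin (m + 2)) :
    comp φ ψ h i ≫ pr G (m + 1) j =
      pr F m (Fin.predAbove i j) ≫ if j ≤ i.castSucc then φ.left else ψ.left :=
  WidePullback.lift_π ..

@[reassoc (attr := simp)]
lemma comp_bs {m : ℕ} (i : Fin (m + 1)) : comp φ ψ h i ≫ bs G (m + 1) = bs F m ≫ φ.right :=
  WidePullback.lift_base ..

lemma congr_term {T : C} {m : ℕ} (p q : Fin (m + 1)) (P : Fin (m + 1) → (T ⟶ F.left))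
    (P' Q' : Prop) [Decidable P'] [Decidable Q'] (h1 : p = q) (h2 : P' ↔ Q') :
    (P p ≫ if P' then φ.left else ψ.left) = P q ≫ if Q' then φ.left else ψ.left := by
  subst h1
  by_cases hP : P'
  · rw [if_pos hP, if_pos (h2.1 hP)]
  · rw [if_neg hP, if_neg (fun hq => hP (h2.2 hq))]

omit [∀ n : ℕ, HasWidePullback F.right (fun _ : Fin (n + 1) => F.left) fun _ => F.hom]
  [∀ n : ℕ, HasWidePullback G.right (fun _ : Fin (n + 1) => G.left) fun _ => G.hom] in
lemma val_succAbove {n : ℕ} (p : Fin (n + 1)) (k : Fin n) :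
    (p.succAbove k).val = if k.val < p.val then k.val else k.val + 1 := by
  rcases lt_or_ge k.castSucc p with h | h
  · have h' : k.val < p.val := h
    rw [Fin.succAbove_of_castSucc_lt _ _ h, if_pos h']
    rfl
  · have h' : ¬ k.val < p.val := fun hh => absurd h (not_le.2 hh)
    rw [Fin.succAbove_of_le_castSucc _ _ h, if_neg h']
    simp

omit [∀ n : ℕ, HasWidePullback F.right (fun _ : Fin (n + 1) => F.left) fun _ => F.hom]
  [∀ n : ℕ, HasWidePullback G.right (fun _ : Fin (n + 1) => G.left) fun _ => G.hom] in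
lemma val_predAbove {n : ℕ} (p : Fin n) (k : Fin (n + 1)) :
    (p.predAbove k).val = if p.val < k.val then k.val - 1 else k.val := by
  rcases lt_or_ge p.castSucc k with h | h
  · have h' : p.val < k.val := h
    rw [Fin.predAbove_of_castSucc_lt _ _ h, if_pos h']
    simp
  · have h' : ¬ p.val < k.val := fun hh => absurd h (not_le.2 hh)
    rw [Fin.predAbove_of_le_castSucc _ _ h, if_neg h']
    simp

syntax "fin_arith" : tactic
macro_rules
  | `(tactic| fin_arith) => `(tactic|
      (simp only [Fin.ext_iff, Fin.le_def, Fin.lt_def, val_succAbove, val_predAbove,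
          Fin.val_castSucc, Fin.val_succ] at *
       split_ifs <;> omega))

/-- The homotopy between the maps of Čech nerves. -/
noncomputable def homotopy :
    SimplicialObject.Homotopy (Arrow.mapCechNerve φ) (Arrow.mapCechNerve ψ) where
  h i := comp φ ψ h i
  h_zero_comp_δ_zero n := by
    refine nerve_hom_ext _ _ (fun j => ?_) ?_
    · rw [Category.assoc, SimplicialObject.δ, map_pr, comp_pr]
      rw [show (Arrow.mapCechNerve ψ).app (op ⦋n⦌) ≫ pr G n j = pr F n j ≫ ψ.left from
        WidePullback.lift_π ..]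
      change pr F n (Fin.predAbove 0 (Fin.succAbove 0 j)) ≫ _ = _
      rw [if_neg (by simp [SimplexCategory.δ])]
      simp
    · rw [Category.assoc, SimplicialObject.δ, map_bs, comp_bs, h]
      exact (WidePullback.lift_base ..).symm
  h_last_comp_δ_last n := by
    refine nerve_hom_ext _ _ (fun j => ?_) ?_
    · rw [Category.assoc, SimplicialObject.δ, map_pr, comp_pr]
      rw [show (Arrow.mapCechNerve φ).app (op ⦋n⦌) ≫ pr G n j = pr F n j ≫ φ.left from
        WidePullback.lift_π ..]
      change pr F n (Fin.predAbove (Fin.last n) (Fin.succAbove (Fin.last (n + 1)) j)) ≫ _ = _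
      rw [if_pos (by simp [SimplexCategory.δ, Fin.le_last, Fin.succAbove_last])]
      congr 2
      simp [Fin.succAbove_last, Fin.predAbove_last_castSucc]
    · rw [Category.assoc, SimplicialObject.δ, map_bs, comp_bs]
      exact (WidePullback.lift_base ..).symm
  h_succ_comp_δ_castSucc_of_lt {n} i j hij := by
    refine nerve_hom_ext _ _ (fun k => ?_) ?_
    · simp only [Category.assoc, SimplicialObject.δ, map_pr, comp_pr, map_pr_assoc]
      refine congr_term φ ψ _ _ (pr F (n + 1)) _ _ ?_ ?_
      · change Fin.predAbove _ (Fin.succAbove _ _) = Fin.succAbove _ (Fin.predAbove _ _)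
        fin_arith
      · change Fin.succAbove _ _ ≤ _ ↔ _
        fin_arith
    · simp only [Category.assoc, SimplicialObject.δ, map_bs, map_bs_assoc, comp_bs, comp_bs_assoc]
  h_succ_comp_δ_castSucc_succ {n} j := by
    refine nerve_hom_ext _ _ (fun k => ?_) ?_
    · simp only [Category.assoc, SimplicialObject.δ, map_pr, comp_pr]
      refine congr_term φ ψ _ _ (pr F (n + 1)) _ _ ?_ ?_
      · change Fin.predAbove _ (Fin.succAbove _ _) = Fin.predAbove _ (Fin.succAbove _ _)
        fin_arith
      · change Fin.succAbove _ _ ≤ _ ↔ Fin.succAbove _ _ ≤ _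
        fin_arith
    · simp only [Category.assoc, SimplicialObject.δ, map_bs, map_bs_assoc, comp_bs, comp_bs_assoc]
  h_castSucc_comp_δ_succ_of_lt {n} i j hij := by
    refine nerve_hom_ext _ _ (fun k => ?_) ?_
    · simp only [Category.assoc, SimplicialObject.δ, map_pr, comp_pr, map_pr_assoc]
      refine congr_term φ ψ _ _ (pr F (n + 1)) _ _ ?_ ?_
      · change Fin.predAbove _ (Fin.succAbove _ _) = Fin.succAbove _ (Fin.predAbove _ _)
        fin_arith
      · change Fin.succAbove _ _ ≤ _ ↔ _
        fin_arith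
    · simp only [Category.assoc, SimplicialObject.δ, map_bs, map_bs_assoc, comp_bs, comp_bs_assoc]
  h_comp_σ_castSucc_of_le {n} i j hij := by
    refine nerve_hom_ext _ _ (fun k => ?_) ?_
    · simp only [Category.assoc, SimplicialObject.σ, map_pr, comp_pr, map_pr_assoc]
      refine congr_term φ ψ _ _ (pr F n) _ _ ?_ ?_
      · change Fin.predAbove _ (Fin.predAbove _ _) = Fin.predAbove _ (Fin.predAbove _ _)
        fin_arith
      · change Fin.predAbove _ _ ≤ _ ↔ _
        fin_arith
    · simp only [Category.assoc, SimplicialObject.σ, map_bs, map_bs_assoc, comp_bs, comp_bs_assoc]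
  h_comp_σ_succ_of_lt {n} i j hij := by
    refine nerve_hom_ext _ _ (fun k => ?_) ?_
    · simp only [Category.assoc, SimplicialObject.σ, map_pr, comp_pr, map_pr_assoc]
      refine congr_term φ ψ _ _ (pr F n) _ _ ?_ ?_
      · change Fin.predAbove _ (Fin.predAbove _ _) = Fin.predAbove _ (Fin.predAbove _ _)
        fin_arith
      · change Fin.predAbove _ _ ≤ _ ↔ _
        fin_arith
    · simp only [Category.assoc, SimplicialObject.σ, map_bs, map_bs_assoc, comp_bs, comp_bs_assoc]
end

/-- For a morphism `f : Y ⟶ X` with a section `s`, the endomorphism of the Čech nerve of `f` (the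
simplicial object of iterated fibre products of `Y` over `X`) that applies `s ∘ f` factorwise admits
simplicial homotopies to and from the identity: the published formula gives one direction and its
mirror image (exchange the roles of the identity and `s ∘ f`) gives the other. -/
theorem result {C : Type u} [Category.{v} C] {Y X : C} (f : Y ⟶ X) (s : X ⟶ Y) (hs : s ≫ f = 𝟙 X) [∀ n : ℕ, HasWidePullback (Arrow.mk f).right (fun _ : Fin (n + 1) => (Arrow.mk f).left) (fun _ => (Arrow.mk f).hom)] (φ : Arrow.mk f ⟶ Arrow.mk f) (hφl : φ.left = f ≫ s) (hφr : φ.right = 𝟙 X) : Nonempty (SimplicialObject.Homotopy (𝟙 (Arrow.mk f).cechNerve) (Arrow.mapCechNerve φ)) ∧ Nonempty (SimplicialObject.Homotopy (Arrow.mapCechNerve φ) (𝟙 (Arrow.mk f).cechNerve)) := by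
  have h1 : Arrow.mapCechNerve (𝟙 (Arrow.mk f)) = 𝟙 _ := by
    ext ⟨Δ⟩
    refine WidePullback.hom_ext _ _ _ (fun j => ?_) ?_
    · refine (WidePullback.lift_π ..).trans ?_
      exact ((Category.comp_id _).trans (Category.id_comp _).symm)
    · refine (WidePullback.lift_base ..).trans ?_
      exact ((Category.comp_id _).trans (Category.id_comp _).symm)
  refine ⟨?_, ?_⟩
  · exact ⟨h1 ▸ homotopy (𝟙 (Arrow.mk f)) φ hφr.symm⟩
  · exact ⟨h1 ▸ homotopy φ (𝟙 (Arrow.mk f)) hφr⟩

end Groth.Agent.S6789
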