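import Groth.Statements.S6790
import Mathlib

open CategoryTheory CategoryTheory.Limits Opposite TopologicalSpace TopCat MonoidalCategory

set_option linter.style.haveILetI false
open CategoryTheory CategoryTheory.Limits Opposite Simplicial

set_option autoImplicit false
open CategoryTheory CategoryTheory.Limits MonoidalCategory
universe v u
open CategoryTheory CategoryTheory.Monoidal

namespace Groth.Agent.S6790

/-- In an idempotent-complete additive monoidal category, a direct summand of an object admitting a dual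
(with coevaluation `𝟙_ A ⟶ X ⊗ Y` and evaluation `Y ⊗ X ⟶ 𝟙_ A`) again admits such a dual. -/
theorem result {A : Type u} [Category.{v} A] [Preadditive A] [HasFiniteBiproducts A] [MonoidalCategory A] [MonoidalPreadditive A] [IsIdempotentComplete A] {X X₁ : A} (i : X₁ ⟶ X) (p : X ⟶ X₁) (hip : i ≫ p = 𝟙 X₁) [HasRightDual X] : Nonempty (HasRightDual X₁) := by
  have he : (p ≫ i) ≫ (p ≫ i) = p ≫ i := by
    rw [Category.assoc, reassoc_of% hip]
  have hf : (p ≫ i)ᘁ ≫ (p ≫ i)ᘁ = (p ≫ i)ᘁ := by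
    rw [← comp_rightAdjointMate, he]
  obtain ⟨Y, j, q, hjq, hqj⟩ :=
    IsIdempotentComplete.idempotents_split (Xᘁ) ((p ≫ i)ᘁ) hf
  have h1 := coevaluation_comp_rightAdjointMate (p ≫ i)
  have h2 := rightAdjointMate_comp_evaluation (p ≫ i)
  have z1 : Y ◁ (η_ X (Xᘁ) ≫ (p ⊗ₘ q)) ≫ (α_ Y X₁ Y).inv ≫ ((j ⊗ₘ i) ≫ ε_ X (Xᘁ)) ▷ Y =
      (ρ_ Y).hom ≫ (λ_ Y).inv := by
    calc _ = (j ⊗ₘ η_ X (Xᘁ)) ≫ (α_ _ _ _).inv ≫ ((Xᘁ ◁ (p ≫ i)) ⊗ₘ q) ≫ ε_ X (Xᘁ) ▷ Y := by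
          rw [MonoidalCategory.comp_whiskerRight, ← tensorHom_id (j ⊗ₘ i),
            ← associator_inv_naturality_assoc, ← id_tensorHom, ← id_tensorHom,
            ← associator_inv_naturality_assoc, tensorHom_comp_tensorHom_assoc,
            tensorHom_comp_tensorHom_assoc, Category.assoc, tensorHom_comp_tensorHom]
          simp
      _ = j ▷ 𝟙_ A ≫ (ρ_ _).hom ≫ (p ≫ i)ᘁ ≫ (λ_ _).inv ≫ 𝟙_ A ◁ q := by
          rw [MonoidalCategory.tensorHom_def j, MonoidalCategory.tensorHom_def (Xᘁ ◁ (p ≫ i))]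
          simp only [Category.assoc]
          rw [whisker_exchange]
          simp [rightAdjointMate]
      _ = _ := by
          rw [← hqj, leftUnitor_inv_naturality_assoc]
          simp [reassoc_of% hjq]
  have z2 : (η_ X (Xᘁ) ≫ (p ⊗ₘ q)) ▷ X₁ ≫ (α_ X₁ Y X₁).hom ≫ X₁ ◁ ((j ⊗ₘ i) ≫ ε_ X (Xᘁ)) =
      (λ_ X₁).hom ≫ (ρ_ X₁).inv := by
    calc _ = (η_ X (Xᘁ) ⊗ₘ i) ≫ (α_ _ _ _).hom ≫ (p ⊗ₘ ((q ≫ j) ▷ X)) ≫ X₁ ◁ ε_ X (Xᘁ) := by
          rw [MonoidalCategory.whiskerLeft_comp, ← id_tensorHom X₁ (j ⊗ₘ i),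
            ← associator_naturality_assoc, ← tensorHom_id, ← tensorHom_id,
            ← associator_naturality_assoc, tensorHom_comp_tensorHom_assoc,
            tensorHom_comp_tensorHom_assoc, Category.assoc, tensorHom_comp_tensorHom]
          simp
      _ = (η_ X (Xᘁ) ⊗ₘ i) ≫ (α_ _ _ _).hom ≫ (p ⊗ₘ (Xᘁ ◁ (p ≫ i))) ≫ X₁ ◁ ε_ X (Xᘁ) := by
          rw [hqj, ← id_tensorHom X₁, tensorHom_comp_tensorHom, tensorHom_comp_tensorHom, h2]
      _ = (η_ X (Xᘁ) ⊗ₘ (i ≫ p ≫ i)) ≫ (α_ _ _ _).hom ≫ X ◁ ε_ X (Xᘁ) ≫ p ▷ 𝟙_ A := by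
          rw [← id_tensorHom, ← associator_naturality_assoc, tensorHom_comp_tensorHom_assoc,
            whisker_exchange]
          simp only [← id_tensorHom, ← tensorHom_id]
          rw [show (p ⊗ₘ 𝟙 (Xᘁ ⊗ X)) = (p ⊗ₘ (𝟙 (Xᘁ) ⊗ₘ 𝟙 X)) by simp, ← associator_naturality_assoc,
            tensorHom_comp_tensorHom_assoc]
          simp
      _ = _ := by
          rw [reassoc_of% hip, MonoidalCategory.tensorHom_def' (η_ X (Xᘁ))]
          simp [reassoc_of% hip, hip]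
  letI : ExactPairing X₁ Y :=
    { coevaluation' := η_ X (Xᘁ) ≫ (p ⊗ₘ q)
      evaluation' := (j ⊗ₘ i) ≫ ε_ X (Xᘁ)
      coevaluation_evaluation' := z1
      evaluation_coevaluation' := z2 }
  exact ⟨{ rightDual := Y }⟩

end Groth.Agent.S6790
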