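import Groth.Statements.S6791
import Mathlib

open CategoryTheory.MonoidalCategory

set_option linter.style.haveILetI false
open CategoryTheory CategoryTheory.Limits Opposite Simplicial

set_option autoImplicit false
open CategoryTheory CategoryTheory.Limits
universe v u v' u' v'' u''
open CategoryTheory CategoryTheory.SerreClass

namespace Groth.Agent.S6791

open CategoryTheory.ObjectProperty in
/-- For an exact functor `F : A ⥤ B` of abelian categories and a Serre class `P` of `A` killed by `F`,
with `L : A ⥤ Q` a model of the quotient `A/P` and `Fbar : Q ⥤ B` the induced functor, `P` is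
exactly the kernel of `F` if and only if `Fbar` is faithful. -/
theorem result {A : Type u} [Category.{v} A] [Abelian A] {B : Type u'} [Category.{v'} B] [Abelian B] (F : A ⥤ B) [F.Additive] [PreservesFiniteLimits F] [PreservesFiniteColimits F] (P : ObjectProperty A) [P.IsSerreClass] (hP : ∀ X : A, P X → IsZero (F.obj X)) {Q : Type u''} [Category.{v''} Q] [Abelian Q] (L : A ⥤ Q) [L.IsLocalization P.isoModSerre] [L.Additive] [PreservesFiniteLimits L] [PreservesFiniteColimits L] (Fbar : Q ⥤ B) (e : L ⋙ Fbar ≅ F) : (∀ X : A, IsZero (F.obj X) → P X) ↔ Fbar.Faithful := by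
  have hmap : ∀ {X Y : A} (f g : X ⟶ Y), Fbar.map (L.map f) = Fbar.map (L.map g) ↔ F.map f = F.map g := by
    intro X Y f g
    have h1 := e.hom.naturality f
    have h2 := e.hom.naturality g
    simp only [Functor.comp_map] at h1 h2
    constructor
    · intro h
      rw [← cancel_epi (e.hom.app X), ← h1, ← h2, h]
    · intro h
      rw [← cancel_mono (e.hom.app Y), h1, h2, h]
  constructor
  · intro hker
    refine ⟨fun {X Y} φ ψ h ↦ ?_⟩
    have : L.EssSurj := Localization.essSurj L P.isoModSerre
    suffices ∀ (X Y : A) (φ ψ : L.obj X ⟶ L.obj Y), Fbar.map φ = Fbar.map ψ → φ = ψ by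
      have := this (L.objPreimage X) (L.objPreimage Y)
        ((L.objObjPreimageIso X).hom ≫ φ ≫ (L.objObjPreimageIso Y).inv)
        ((L.objObjPreimageIso X).hom ≫ ψ ≫ (L.objObjPreimageIso Y).inv) (by simp [h])
      simpa [cancel_mono, cancel_epi] using this
    intro X Y φ ψ h
    obtain ⟨z, hφ, hψ⟩ := Localization.exists_leftFraction₂ L P.isoModSerre φ ψ
    have hs : IsIso (L.map z.s) := Localization.inverts L P.isoModSerre z.s z.hs
    rw [hφ, hψ, MorphismProperty.LeftFraction.map, MorphismProperty.LeftFraction.map] at h ⊢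
    dsimp [MorphismProperty.LeftFraction₂.fst, MorphismProperty.LeftFraction₂.snd] at h ⊢
    rw [Functor.map_comp, Functor.map_comp, cancel_mono] at h
    congr 1
    rw [hmap] at h
    rw [← sub_eq_zero, ← Functor.map_sub, CategoryTheory.ObjectProperty.SerreClassLocalization.map_eq_zero_iff L P]
    apply hker
    have h0 : F.map (z.f - z.f') = 0 := by rw [Functor.map_sub, h, sub_self]
    rw [← Abelian.image.fac (z.f - z.f'), Functor.map_comp] at h0
    rw [IsZero.iff_id_eq_zero, ← cancel_mono (F.map (Abelian.image.ι (z.f - z.f'))),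
      ← cancel_epi (F.map (Abelian.factorThruImage (z.f - z.f')))]
    simp [h0]
  · intro _ X hX
    rw [← CategoryTheory.ObjectProperty.SerreClassLocalization.isZero_obj_iff L P, IsZero.iff_id_eq_zero, ← L.map_id, ← L.map_zero]
    apply Fbar.map_injective
    rw [hmap]
    exact hX.eq_of_src _ _

end Groth.Agent.S6791
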