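import Groth.Statements.S6794
import Groth.Agent.H16Derived.SpFil.ConvergeH

set_option autoImplicit false
open CategoryTheory CategoryTheory.Limits
universe v u
open SpSeq SpSeq.FilCx

namespace Groth.Agent.S6794

/-- If the cohomology of the filtration steps of a filtered complex vanishes in each degree for large
filtration index and maps isomorphically to the cohomology of the whole complex for small filtration
index, then the spectral sequence is bounded from page `1` on, the induced filtrations on cohomology
are finite, and the spectral sequence converges. (The published statement asserts boundedness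
without naming a page, which read from page `0` fails for an acyclic complex with an infinite
filtration by acyclic subcomplexes; this row asserts boundedness from page `1`, which is what the
published proof shows.) -/
theorem result {A : Type u} [Category.{v} A] [Abelian A] (K : SpSeq.FilCx A) (h0 : ∀ n : ℤ, ∃ p₀ : ℤ, ∀ p : ℤ, p₀ ≤ p → IsZero ((K.fil p : CochainComplex A ℤ).homology n)) (h1 : ∀ n : ℤ, ∃ p₁ : ℤ, ∀ p : ℤ, p ≤ p₁ → IsIso (HomologicalComplex.homologyMap (K.fil p).arrow n)) : K.IsBounded 1 ∧ (∀ n : ℤ, (K.HFil n).IsFinite) ∧ K.Converges := by
  exact ⟨Groth.Agent.H16Derived.SpFil.ConvergeH.isBounded_one K h0 h1, Groth.Agent.H16Derived.SpFil.ConvergeH.hfil_finite K h0 h1, Groth.Agent.H16Derived.SpFil.ConvergeH.converges K h0 h1⟩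

end Groth.Agent.S6794
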