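import Groth.Statements.S6795

set_option linter.style.haveILetI false

set_option autoImplicit false
open CategoryTheory CategoryTheory.Limits
universe v u
open CategoryTheory CategoryTheory.Preadditive

namespace Groth.Agent.S6795

/-- A preadditive category with countable products in which split epimorphisms have kernels is
idempotent complete (Karoubian). -/
theorem result {D : Type u} [Category.{v} D] [Preadditive D] [HasCountableProducts D] (hk : ∀ ⦃X Y : D⦄ (f : X ⟶ Y), IsSplitEpi f → HasKernel f) : IsIdempotentComplete D := by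
  refine ⟨fun X e he => ?_⟩
  let Φ : (∏ᶜ fun _ : ℕ => X) ⟶ ∏ᶜ fun _ : ℕ => X :=
    Pi.lift fun n => Pi.π (fun _ : ℕ => X) n ≫ (𝟙 X - e) + Pi.π (fun _ : ℕ => X) (n + 1) ≫ e
  let s : ℕ → ((∏ᶜ fun _ : ℕ => X) ⟶ X) := fun n => match n with
    | 0 => Pi.π (fun _ : ℕ => X) 0 ≫ (𝟙 X - e)
    | k + 1 => Pi.π (fun _ : ℕ => X) (k + 1) ≫ (𝟙 X - e) + Pi.π (fun _ : ℕ => X) k ≫ e
  have e1 : (𝟙 X - e) ≫ (𝟙 X - e) = 𝟙 X - e := by simp [he]
  have e2 : e ≫ (𝟙 X - e) = 0 := by simp [he]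
  have e3 : (𝟙 X - e) ≫ e = 0 := by simp [he]
  have hs : Pi.lift s ≫ Φ = 𝟙 _ := by
    apply Pi.hom_ext
    intro n
    have h1 : s n ≫ (𝟙 X - e) = Pi.π (fun _ : ℕ => X) n ≫ (𝟙 X - e) := by
      cases n <;> simp only [s, Preadditive.add_comp, Category.assoc, e1, e2, comp_zero, add_zero]
    have h2 : s (n + 1) ≫ e = Pi.π (fun _ : ℕ => X) n ≫ e := by
      simp only [s, Preadditive.add_comp, Category.assoc, e3, he, comp_zero, zero_add]
    simp only [Φ, Category.assoc, Pi.lift_π, Category.id_comp, Preadditive.comp_add,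
      Pi.lift_π_assoc, h1, h2]
    rw [← Preadditive.comp_add, sub_add_cancel, Category.comp_id]
  haveI : IsSplitEpi Φ := IsSplitEpi.mk' ⟨_, hs⟩
  haveI := hk Φ inferInstance
  let r : X ⟶ kernel Φ := kernel.lift Φ (Pi.lift fun n => if n = 0 then e else 0) (by
    apply Pi.hom_ext
    intro n
    cases n <;> simp [Φ, Preadditive.comp_add, Preadditive.comp_sub, he])
  have hcomp : ∀ n, kernel.ι Φ ≫ Pi.π (fun _ : ℕ => X) n ≫ (𝟙 X - e) +
      kernel.ι Φ ≫ Pi.π (fun _ : ℕ => X) (n + 1) ≫ e = 0 := fun n => by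
    simpa [Φ, Preadditive.comp_add] using (kernel.condition Φ) =≫ Pi.π (fun _ : ℕ => X) n
  have hA : ∀ n, kernel.ι Φ ≫ Pi.π (fun _ : ℕ => X) n ≫ (𝟙 X - e) = 0 := fun n => by
    have := hcomp n =≫ (𝟙 X - e)
    simpa only [Preadditive.add_comp, Category.assoc, e1, e2, comp_zero, add_zero, zero_comp] using this
  have hB : ∀ n, kernel.ι Φ ≫ Pi.π (fun _ : ℕ => X) (n + 1) ≫ e = 0 := fun n => by
    simpa only [hA n, zero_add] using hcomp n
  have hC : ∀ n, kernel.ι Φ ≫ Pi.π (fun _ : ℕ => X) (n + 1) = 0 := fun n => by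
    have h := congr($(hA (n + 1)) + $(hB n))
    rwa [← Preadditive.comp_add, ← Preadditive.comp_add, sub_add_cancel, Category.comp_id, add_zero] at h
  have hD : kernel.ι Φ ≫ Pi.π (fun _ : ℕ => X) 0 ≫ e = kernel.ι Φ ≫ Pi.π (fun _ : ℕ => X) 0 := by
    have := hA 0
    rw [Preadditive.comp_sub, Category.comp_id, Preadditive.comp_sub, sub_eq_zero] at this
    exact this.symm
  refine ⟨kernel Φ, kernel.ι Φ ≫ Pi.π (fun _ : ℕ => X) 0, r, ?_, by simp [r]⟩
  rw [← cancel_mono (kernel.ι Φ)]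
  apply Pi.hom_ext
  intro n
  cases n with
  | zero => simp [r, hD]
  | succ n => simp [r, hC]

end Groth.Agent.S6795
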