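import Groth.Statements.S6796
import Groth.Agent.S6795
import Mathlib.CategoryTheory.Idempotents.Basic
import Mathlib.CategoryTheory.Limits.Shapes.Opposites.Products
import Mathlib.CategoryTheory.Preadditive.Opposite

set_option linter.style.haveILetI false

set_option autoImplicit false
open CategoryTheory CategoryTheory.Limits
universe v u
open CategoryTheory CategoryTheory.Preadditive

namespace Groth.Agent.S6796

/-- A preadditive category with countable coproducts in which split monomorphisms have cokernels is
idempotent complete (Karoubian). -/
theorem result {D : Type u} [Category.{v} D] [Preadditive D] [HasCountableCoproducts D] (hk : ∀ ⦃X Y : D⦄ (f : X ⟶ Y), IsSplitMono f → HasCokernel f) : IsIdempotentComplete D := by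
  rw [← Idempotents.isIdempotentComplete_iff_opposite]
  haveI : HasCountableProducts Dᵒᵖ := ⟨fun J _ => inferInstance⟩
  refine Groth.Agent.S6795.result (fun X Y f hf => ?_)
  haveI : IsSplitMono f.unop := IsSplitMono.mk' ⟨(section_ f).unop, by rw [← unop_comp, IsSplitEpi.id, unop_id]⟩
  haveI := hk f.unop inferInstance
  exact HasLimit.mk ⟨KernelFork.ofι (cokernel.π f.unop).op (Quiver.Hom.unop_inj (by simp [cokernel.condition])),
    KernelFork.IsLimit.ofι' _ _ (fun g hg => ⟨(cokernel.desc f.unop g.unop (by rw [← unop_comp, hg, unop_zero])).op, by
      rw [← op_comp, cokernel.π_desc, Quiver.Hom.op_unop]⟩)⟩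

end Groth.Agent.S6796
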