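import Groth.Statements.S6799
import Mathlib
import Groth.Agent.H15Site.CoskLib
import Groth.Agent.H15Site.CoskHomotopy

open Groth.Agent.H15Site CategoryTheory.MonoidalCategory

set_option linter.style.haveILetI false
open CategoryTheory CategoryTheory.Limits Opposite Simplicial

set_option autoImplicit false
open CategoryTheory Opposite
universe u
open SSet

namespace Groth.Agent.S6799

/-- Two maps between `n`-coskeletal simplicial sets which agree on simplices of dimension `< n` are
homotopic, by a single homotopy. -/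
theorem result {U V : SSet.{u}} (f₀ f₁ : V ⟶ U) (n : ℕ) (h : ∀ i : ℕ, i < n → f₀.app (op (SimplexCategory.mk i)) = f₁.app (op (SimplexCategory.mk i))) [SimplicialObject.IsCoskeletal U n] [SimplicialObject.IsCoskeletal V n] : Nonempty (SSet.Homotopy f₀ f₁) := by
  obtain ⟨H, hnat, h0, h1⟩ := CoskHomotopy.exists_H (E := Type u) (U := V) (V := U) h
  let hh : V ⊗ Δ[1] ⟶ U :=
    { app := fun Δ => ↾fun z => H Δ.unop.len (SSet.stdSimplex.objEquiv z.2) z.1
      naturality := by
        rintro ⟨Δ⟩ ⟨Δ'⟩ ⟨g⟩
        induction Δ using SimplexCategory.rec with | _ m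
        induction Δ' using SimplexCategory.rec with | _ m'
        ext ⟨x, t⟩
        exact ConcreteCategory.congr_hom (hnat m m' g (SSet.stdSimplex.objEquiv t)) x }
  refine ⟨SSet.RelativeMorphism.Homotopy.mk hh ?_ ?_ ?_⟩
  · apply SSet.hom_ext
    rintro ⟨Δ⟩
    induction Δ using SimplexCategory.rec with | _ m
    ext x
    exact ConcreteCategory.congr_hom (h0 m) x
  · apply SSet.hom_ext
    rintro ⟨Δ⟩
    induction Δ using SimplexCategory.rec with | _ m
    ext x
    exact ConcreteCategory.congr_hom (h1 m) x
  · ext Δ ⟨⟨x, hx⟩, t⟩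
    exact absurd hx (by simp)

end Groth.Agent.S6799
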