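import Groth.Statements.S6804
import Groth.Agent.H16Derived.SpFil.Strict

set_option autoImplicit false
open CategoryTheory CategoryTheory.Limits
universe v u
open SpSeq SpSeq.FilObj

namespace Groth.Agent.S6804

/-- Fibre products exist in the category of filtered objects of an abelian category, and the base change
of a strict morphism is strict. -/
theorem result {A : Type u} [Category.{v} A] [Abelian A] {K L M : SpSeq.FilObj A} (f : L ⟶ K) (g : M ⟶ K) : HasPullback f g ∧ ∀ (P : SpSeq.FilObj A) (g' : P ⟶ L) (f' : P ⟶ M), IsPullback g' f' f g → SpSeq.FilObj.IsStrict f → SpSeq.FilObj.IsStrict f' := by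
  have h₀ := Groth.Agent.H16Derived.SpFil.isPullback_pb f g
  refine ⟨h₀.hasPullback, fun P g' f' h hf => ?_⟩
  rw [Groth.Agent.H16Derived.SpFil.isStrict_iff] at hf ⊢
  let e := h.isoIsPullback _ _ h₀
  haveI := Groth.Agent.H16Derived.SpFil.isIso_hom e
  have he : e.hom ≫ Groth.Agent.H16Derived.SpFil.pbSnd f g = f' := h.isoIsPullback_hom_snd _ _ h₀
  rw [← he]
  exact Groth.Agent.H16Derived.SpFil.strictUp_comp_of_epi
    (Groth.Agent.H16Derived.SpFil.strictUp_of_iso e) (Groth.Agent.H16Derived.SpFil.strictUp_pbSnd f g hf)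

end Groth.Agent.S6804
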