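import Groth.Statements.S6812
set_option linter.style.haveILetI false
open CategoryTheory CategoryTheory.Limits Opposite Simplicial

set_option autoImplicit false
open CategoryTheory
universe u
open SSet

namespace Groth.Agent.S6812

section
variable {X : SSet.{u}} {n : ℕ}

set_option backward.isDefEq.respectTransparency.types false in
lemma mem_skeleton_iff {m : ℕ} (x : X _⦋m⦌) :
    x ∈ (X.skeleton (n + 1)).obj (op ⦋m⦌) ↔
      ∃ (k : ℕ) (_ : k ≤ n) (f : ⦋m⦌ ⟶ ⦋k⦌) (y : X _⦋k⦌), x = X.map f.op y := by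
  constructor
  · intro hx
    simp only [SSet.skeleton, OrderHom.coe_mk, Subfunctor.iSup_obj,
      Set.iUnion_coe_set, Set.mem_iUnion, exists_prop] at hx
    obtain ⟨⟨i, hi⟩, y, hy, ⟨f⟩, rfl⟩ := hx
    exact ⟨i, by omega, f, y, rfl⟩
  · rintro ⟨k, hk, f, y, rfl⟩
    exact (X.skeleton (n + 1)).map f.op (X.mem_skeleton y (Nat.lt_succ_of_le hk))

/-- Two decompositions of the same simplex through truncated simplices give the same value. -/
lemma indep {Y : SSet.{u}} (φ : (SSet.truncation n).obj X ⟶ (SSet.truncation n).obj Y)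
    {m k k' : ℕ} (hk : k ≤ n) (hk' : k' ≤ n) (f : ⦋m⦌ ⟶ ⦋k⦌) (f' : ⦋m⦌ ⟶ ⦋k'⦌)
    (y : X _⦋k⦌) (y' : X _⦋k'⦌) (h : X.map f.op y = X.map f'.op y') :
    Y.map f.op (φ.app (op ⟨⦋k⦌, hk⟩) y) = Y.map f'.op (φ.app (op ⟨⦋k'⦌, hk'⟩) y') := by
  have key : ∀ {k : ℕ} (hk : k ≤ n) (f : ⦋m⦌ ⟶ ⦋k⦌) (y : X _⦋k⦌),
      ∃ (l : ℕ) (hl : l ≤ n) (g : ⦋m⦌ ⟶ ⦋l⦌) (_ : Epi g) (z : X.nonDegenerate l),
        X.map f.op y = X.map g.op z.1 ∧
        Y.map f.op (φ.app (op ⟨⦋k⦌, hk⟩) y) = Y.map g.op (φ.app (op ⟨⦋l⦌, hl⟩) z.1) := by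
    intro k hk f y
    obtain ⟨j, e, i, he, hi, hfac⟩ : ∃ (j : ℕ) (e : ⦋m⦌ ⟶ ⦋j⦌) (i : ⦋j⦌ ⟶ ⦋k⦌),
        Epi e ∧ Mono i ∧ e ≫ i = f :=
      ⟨(image f).len, factorThruImage f, image.ι f, inferInstance, inferInstance, image.fac f⟩
    have hj : j ≤ n := (SimplexCategory.len_le_of_mono i).trans hk
    obtain ⟨l, h, _, z, hz⟩ := X.exists_nonDegenerate (X.map i.op y)
    have hl : l ≤ n := (SimplexCategory.len_le_of_epi h).trans hj
    refine ⟨l, hl, e ≫ h, inferInstance, z, ?_, ?_⟩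
    · rw [← hfac]
      simp [hz]
    · have hn1 := φ.naturality_apply
        (X := op ⟨⦋k⦌, hk⟩) (Y := op ⟨⦋j⦌, hj⟩) (SimplexCategory.Truncated.Hom.tr i).op y
      have hn2 := φ.naturality_apply
        (X := op ⟨⦋l⦌, hl⟩) (Y := op ⟨⦋j⦌, hj⟩) (SimplexCategory.Truncated.Hom.tr h).op z.1
      have h1 : Y.map i.op (φ.app (op ⟨⦋k⦌, hk⟩) y) = φ.app (op ⟨⦋j⦌, hj⟩) (X.map i.op y) :=
        hn1.symm
      have h2 : Y.map h.op (φ.app (op ⟨⦋l⦌, hl⟩) z.1) = φ.app (op ⟨⦋j⦌, hj⟩) (X.map h.op z.1) :=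
        hn2.symm
      subst hfac
      have h3 : Y.map i.op (φ.app (op ⟨⦋k⦌, hk⟩) y) = Y.map h.op (φ.app (op ⟨⦋l⦌, hl⟩) z.1) :=
        h1.trans ((congrArg _ hz).trans h2.symm)
      change (Y.map (i.op ≫ e.op)) _ = (Y.map (h.op ≫ e.op)) _
      rw [Functor.map_comp, Functor.map_comp]
      exact congrArg (Y.map e.op) h3
  obtain ⟨l, hl, g, _, z, hz, hfz⟩ := key hk f y
  obtain ⟨l', hl', g', _, z', hz', hfz'⟩ := key hk' f' y'
  rw [hz, hz'] at h
  obtain rfl := X.unique_nonDegenerate_dim _ g z rfl g' z' h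
  obtain rfl := X.unique_nonDegenerate_map _ g z rfl g' z' h
  obtain rfl := X.unique_nonDegenerate_simplex _ g z rfl g z' h
  rw [hfz, hfz']

lemma exists_lift {Y : SSet.{u}} (φ : (SSet.truncation n).obj X ⟶ (SSet.truncation n).obj Y) :
    ∃ ψ : (X.skeleton (n + 1) : SSet) ⟶ Y, ∀ (m k : ℕ) (hk : k ≤ n) (f : ⦋m⦌ ⟶ ⦋k⦌)
      (y : X _⦋k⦌) (x : (X.skeleton (n + 1)).obj (op ⦋m⦌)), x.1 = X.map f.op y →
      ψ.app (op ⦋m⦌) x = Y.map f.op (φ.app (op ⟨⦋k⦌, hk⟩) y) := by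
  have hdec : ∀ (m : ℕ) (x : (X.skeleton (n + 1)).obj (op ⦋m⦌)),
      ∃ (k : ℕ) (_ : k ≤ n) (f : ⦋m⦌ ⟶ ⦋k⦌) (y : X _⦋k⦌), x.1 = X.map f.op y := by
    exact fun m x ↦ (mem_skeleton_iff x.1).1 x.2
  choose k hk f y hy using hdec
  let a : ∀ Δ, (X.skeleton (n + 1) : SSet).obj Δ ⟶ Y.obj Δ := fun Δ ↦ ↾fun x ↦
    Y.map (f Δ.unop.len x).op (φ.app (op ⟨⦋k Δ.unop.len x⦌, hk Δ.unop.len x⟩) (y Δ.unop.len x))
  refine ⟨⟨a, ?_⟩, ?_⟩
  · have key : ∀ (m m' : ℕ) (g : ⦋m'⦌ ⟶ ⦋m⦌) (x : (X.skeleton (n + 1)).obj (op ⦋m⦌))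
        (x' : (X.skeleton (n + 1)).obj (op ⦋m'⦌)), x'.1 = X.map g.op x.1 →
        Y.map (f m' x').op (φ.app (op ⟨⦋k m' x'⦌, hk m' x'⟩) (y m' x')) =
          Y.map g.op (Y.map (f m x).op (φ.app (op ⟨⦋k m x⦌, hk m x⟩) (y m x))) := by
      intro m m' g x x' hx
      refine (indep φ (hk m' x') (hk m x) (f m' x') (g ≫ f m x) (y m' x') (y m x) ?_).trans ?_
      · rw [← hy m' x', hx, hy m x, op_comp, Functor.map_comp_apply]
      · exact ConcreteCategory.congr_hom (Y.map_comp (f m x).op g.op) _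
    rintro ⟨Δ⟩ ⟨Δ'⟩ ⟨g⟩
    induction Δ using SimplexCategory.rec with | _ m
    induction Δ' using SimplexCategory.rec with | _ m'
    ext x
    exact key m m' g x _ rfl
  · intro m l hl g z x hx
    exact indep φ _ hl _ _ _ _ ((hy m x).symm.trans hx)
end

/-- For a simplicial set `U`, the counit `i_{n!} sk_n U ⟶ U` of the skeleton adjunction is a
monomorphism whose image is the subcomplex of `U` generated by its simplices of dimension `≤ n`. -/
theorem result (U : SSet.{u}) (n : ℕ) : Mono ((SSet.skAdj n).counit.app U) ∧ SSet.Subcomplex.range ((SSet.skAdj n).counit.app U) = U.skeleton (n + 1) := by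
  set L := (SSet.Truncated.sk n).obj ((SSet.truncation n).obj U) with hL
  set c : L ⟶ U := (SSet.skAdj n).counit.app U with hc
  set η := (SSet.skAdj n).unit.app ((SSet.truncation n).obj U) with hη
  obtain ⟨ψ, hψ⟩ := exists_lift (Y := L) η
  -- the truncated inclusion
  let ι₀ : (SSet.truncation n).obj U ⟶ (SSet.truncation n).obj (U.skeleton (n + 1) : SSet) :=
    { app := fun Δ ↦ ↾fun x ↦ ⟨x, by
        obtain ⟨⟨Δ, hΔ⟩⟩ := Δ
        induction Δ using SimplexCategory.rec with | _ m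
        exact U.mem_skeleton x (Nat.lt_succ_of_le hΔ)⟩
      naturality := fun _ _ _ ↦ rfl }
  let c' : L ⟶ (U.skeleton (n + 1) : SSet) := ((SSet.skAdj n).homEquiv _ _).symm ι₀
  have hc' : c' ≫ (U.skeleton (n + 1)).ι = c := by
    apply ((SSet.skAdj n).homEquiv _ _).injective
    rw [Adjunction.homEquiv_naturality_right, Equiv.apply_symm_apply, hc,
      Adjunction.homEquiv_unit]
    exact Eq.trans rfl ((SSet.skAdj n).right_triangle_components U).symm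
  have htri : η ≫ (SSet.truncation n).map c = 𝟙 _ := (SSet.skAdj n).right_triangle_components U
  have h1 : c' ≫ ψ = 𝟙 L := by
    apply ((SSet.skAdj n).homEquiv _ _).injective
    rw [Adjunction.homEquiv_naturality_right, Equiv.apply_symm_apply, Adjunction.homEquiv_unit,
      CategoryTheory.Functor.map_id]
    refine Eq.trans ?_ (Category.comp_id η).symm
    ext ⟨Δ, hΔ⟩ x
    induction Δ using SimplexCategory.rec with | _ m
    change ψ.app (op ⦋m⦌) ⟨x, _⟩ = _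
    rw [hψ m m hΔ (𝟙 _) x _ (by first | (simp; done) | (simp; rfl))]
    simp
    all_goals rfl
  have h2 : ψ ≫ c' = 𝟙 _ := by
    rw [← cancel_mono (U.skeleton (n + 1)).ι, Category.assoc, hc', Category.id_comp]
    apply SSet.hom_ext
    rintro ⟨Δ⟩
    induction Δ using SimplexCategory.rec with | _ m
    ext ⟨x, hx⟩
    obtain ⟨k, hk, g, y, rfl⟩ := (mem_skeleton_iff x).1 hx
    change c.app (op ⦋m⦌) (ψ.app (op ⦋m⦌) _) = U.map g.op y
    rw [hψ m k hk g y _ rfl]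
    refine (NatTrans.naturality_apply c g.op _).trans ?_
    refine congrArg (U.map g.op) ?_
    exact ConcreteCategory.congr_hom (NatTrans.congr_app htri (op ⟨⦋k⦌, hk⟩)) y
  have hiso : IsIso c' := ⟨ψ, h1, h2⟩
  refine ⟨?_, ?_⟩
  · rw [← hc']; infer_instance
  · have : Epi c' := inferInstance
    rw [← hc', SSet.Subcomplex.range_comp]
    rw [SSet.Subcomplex.range_eq_top c']
    simp [SSet.Subcomplex.image_top]

end Groth.Agent.S6812
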