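import Groth.Statements.S6805
import Mathlib
import Groth.Agent.S6812

set_option linter.style.haveILetI false
open CategoryTheory CategoryTheory.Limits Opposite Simplicial

set_option autoImplicit false
open CategoryTheory
universe u
open SSet

namespace Groth.Agent.S6805

/-- The simplicial set freely generated by an `m`-truncated simplicial set (its image under the left
adjoint of `m`-truncation) has only degenerate simplices above dimension `m`. -/
theorem result (m : ℕ) (U : SSet.Truncated.{u} m) : ((SSet.Truncated.sk m).obj U).HasDimensionLT (m + 1) := by
  set X := (SSet.Truncated.sk m).obj U with hX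
  have htri := (SSet.skAdj m).left_triangle_components U
  have hiso : IsIso ((SSet.skAdj m).counit.app X) := by
    have : IsIso ((SSet.Truncated.sk m).map ((SSet.skAdj m).unit.app U) ≫ (SSet.skAdj m).counit.app X) := by
      rw [htri]; exact IsIso.id ((SSet.Truncated.sk m).obj U)
    exact IsIso.of_isIso_comp_left ((SSet.Truncated.sk m).map ((SSet.skAdj m).unit.app U)) _
  have h := (Groth.Agent.S6812.result X m).2
  rw [SSet.Subcomplex.range_eq_top] at h
  refine ⟨fun d hd ↦ ?_⟩
  ext x
  simp only [Set.mem_univ, Set.top_eq_univ, iff_true]
  by_contra hx
  have := (X.mem_skeleton_obj_iff_of_nonDegenerate ⟨x, hx⟩ (m + 1)).1 (by rw [← h]; trivial)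
  omega

end Groth.Agent.S6805
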