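import Groth.Statements.S6806
import Mathlib
import Groth.Agent.H15Site.SkelAbelian

open Groth.Agent.H15Site

set_option linter.style.haveILetI false
open CategoryTheory CategoryTheory.Limits Opposite Simplicial

set_option autoImplicit false
open CategoryTheory CategoryTheory.Limits
universe v u
open CategoryTheory CategoryTheory.Abelian

namespace Groth.Agent.S6806

/-- For an `m`-truncated simplicial object `U` of an abelian category, the normalized Moore complex of
its free extension `i_{m!} U` (left adjoint of truncation) is zero in every degree `n > m`. Here the
normalized complex in degree `n` is the intersection of the kernels of the faces `d_1, …, d_n`; the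
published statement intersects the kernels of `d_0, …, d_{n-1}` instead, and the two versions
correspond under reversal of the ordering of each `[n]`, so both vanish. -/
theorem result {A : Type u} [Category.{v} A] [Abelian A] (m : ℕ) [∀ F : (SimplexCategory.Truncated m)ᵒᵖ ⥤ A, (SimplexCategory.Truncated.inclusion m).op.HasLeftKanExtension F] (U : SimplicialObject.Truncated A m) (n : ℕ) (hn : m < n) : AlgebraicTopology.NormalizedMooreComplex.objX ((SimplicialObject.Truncated.sk m).obj U) n = ⊥ := by
  exact SkelAb.sk_objX_eq_bot U hn

end Groth.Agent.S6806
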