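import Groth.Statements.S6808
set_option linter.style.haveILetI false
open CategoryTheory CategoryTheory.Limits Opposite Simplicial

set_option autoImplicit false
open CategoryTheory Opposite
universe u
open SSet

namespace Groth.Agent.S6808

/-- A map of simplicial sets preserving non-degeneracy of simplices and injective on non-degenerate
simplices is injective in every dimension. -/
theorem result {U V : SSet.{u}} (f : U ⟶ V) (ha : ∀ (n : ℕ) (x : U.obj (op (SimplexCategory.mk n))), x ∈ U.nonDegenerate n → f.app (op (SimplexCategory.mk n)) x ∈ V.nonDegenerate n) (hb : ∀ n : ℕ, Set.InjOn (f.app (op (SimplexCategory.mk n))) (U.nonDegenerate n)) (n : ℕ) : Function.Injective (f.app (op (SimplexCategory.mk n))) := by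
  intro x x' h
  obtain ⟨m, g, _, y, rfl⟩ := U.exists_nonDegenerate x
  obtain ⟨m', g', _, y', rfl⟩ := U.exists_nonDegenerate x'
  rw [NatTrans.naturality_apply, NatTrans.naturality_apply] at h
  obtain rfl := V.unique_nonDegenerate_dim _ g ⟨_, ha m _ y.2⟩ rfl g' ⟨_, ha m' _ y'.2⟩ h
  obtain rfl := V.unique_nonDegenerate_map _ g ⟨_, ha m _ y.2⟩ rfl g' ⟨_, ha m _ y'.2⟩ h
  have := congr_arg Subtype.val (V.unique_nonDegenerate_simplex _ g ⟨_, ha m _ y.2⟩ rfl g ⟨_, ha m _ y'.2⟩ h)
  rw [hb m y.2 y'.2 this]

end Groth.Agent.S6808
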