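import Groth.Statements.S6810
import Mathlib
import Groth.Agent.H15Site.CoskLib

open Groth.Agent.H15Site

set_option linter.style.haveILetI false
open CategoryTheory CategoryTheory.Limits Opposite Simplicial

set_option autoImplicit false
open CategoryTheory CategoryTheory.Limits
universe v u
open CategoryTheory CategoryTheory.SimplicialObject CategoryTheory.SimplicialObject.Truncated

namespace Groth.Agent.S6810

/-- In a category with finite colimits every truncated simplicial object has a pointwise left Kan
extension along the inclusion of the truncated simplex category, i.e. the left adjoints `i_{m!}` of
truncation exist and are given by the colimit formula. -/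
theorem result {C : Type u} [Category.{v} C] [HasFiniteColimits C] (m : ℕ) (U : (SimplexCategory.Truncated m)ᵒᵖ ⥤ C) : (SimplexCategory.Truncated.inclusion m).op.HasPointwiseLeftKanExtension U := by
  exact hasPointwiseLeftKanExtension_inclusion m U

end Groth.Agent.S6810
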