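import Groth.Statements.S6811
import Mathlib
import Groth.Agent.H15Site.CoskLib

open Groth.Agent.H15Site

set_option linter.style.haveILetI false
open CategoryTheory CategoryTheory.Limits Opposite Simplicial

set_option autoImplicit false
open CategoryTheory CategoryTheory.Limits
universe v u
open CategoryTheory CategoryTheory.SimplicialObject

namespace Groth.Agent.S6811

/-- In a category with finite limits, an `n`-coskeletal simplicial object is `m`-coskeletal for every `m
≥ n`. -/
theorem result {C : Type u} [Category.{v} C] [HasFiniteLimits C] (U : SimplicialObject C) {n m : ℕ} (h : n ≤ m) [U.IsCoskeletal n] : U.IsCoskeletal m := by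
  have hP := isPointwiseOfIsCoskeletal U n
  apply isCoskeletal_of_isPointwise
  rintro ⟨Δ⟩
  refine IsLimit.ofExistsUnique fun s ↦ ?_
  have := hP ⟨Δ⟩
  let F := (SimplexCategory.Truncated.inclusion m).op ⋙ U
  let G : StructuredArrow (op Δ) (SimplexCategory.Truncated.inclusion n).op ⥤
      StructuredArrow (op Δ) (SimplexCategory.Truncated.inclusion m).op :=
    { obj := fun j ↦ StructuredArrow.mk (S := op Δ) (T := (SimplexCategory.Truncated.inclusion m).op)
        (Y := op (⟨j.right.unop.1, j.right.unop.2.trans h⟩ : SimplexCategory.Truncated m)) (show op Δ ⟶ op j.right.unop.1 from j.hom)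
      map := fun {j j'} φ ↦ StructuredArrow.homMk
        (SimplexCategory.Truncated.Hom.tr φ.right.unop.hom (j'.right.unop.2.trans h)
          (j.right.unop.2.trans h)).op (StructuredArrow.w φ) }
  let s' : Cone (StructuredArrow.proj (op Δ) (SimplexCategory.Truncated.inclusion n).op ⋙
      ((SimplexCategory.Truncated.inclusion n).op ⋙ U)) :=
    { pt := s.pt
      π := { app := fun j ↦ s.π.app (G.obj j)
             naturality := fun j j' φ ↦ s.π.naturality (G.map φ) } }
  obtain ⟨l, hl, huniq⟩ := (IsLimit.existsUnique this s')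
  refine ⟨l, fun j ↦ ?_, fun l' hl' ↦ huniq l' fun j ↦ hl' (G.obj j)⟩
  obtain ⟨i, hi, f, rfl⟩ := exists_eq_arrowMk j
  refine Eq.trans (congrArg (l ≫ ·) (Category.comp_id (U.map f.op))) ?_
  apply (hP ⟨⦋i⦌⟩).hom_ext
  intro k
  obtain ⟨a, ha, g, rfl⟩ := exists_eq_arrowMk k
  have h1 : l ≫ U.map (g ≫ f).op = s.π.app (arrowMk (g ≫ f) (ha.trans h)) :=
    (congrArg (l ≫ ·) (Category.comp_id (U.map (g ≫ f).op))).symm.trans (hl (arrowMk (g ≫ f) ha))
  have h2 : (l ≫ U.map f.op) ≫ U.map g.op = s.π.app (arrowMk f hi) ≫ U.map g.op :=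
    (Category.assoc _ _ _).trans ((congrArg (l ≫ ·) (U.map_comp f.op g.op).symm).trans
      (h1.trans (cone_w s f hi g (ha.trans h))))
  exact (congrArg ((l ≫ U.map f.op) ≫ ·) (Category.comp_id (U.map g.op))).trans
    (h2.trans (congrArg (s.π.app (arrowMk f hi) ≫ ·) (Category.comp_id (U.map g.op))).symm)

end Groth.Agent.S6811
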