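import Groth.Statements.S6813
import Mathlib
import Groth.Agent.H15Site.CoskLib

open Groth.Agent.H15Site

set_option linter.style.haveILetI false
open CategoryTheory CategoryTheory.Limits Opposite Simplicial

set_option autoImplicit false
open CategoryTheory CategoryTheory.Limits
universe v u
open CategoryTheory CategoryTheory.SimplicialObject

namespace Groth.Agent.S6813

/-- For `k ≥ 1` the forgetful functor from the over category `C/X` to `C` (with `C` having finite
limits) commutes with `cosk_k`; stated as: a `k`-coskeletal simplicial object of `C/X` has
`k`-coskeletal underlying simplicial object in `C`. -/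
theorem result {C : Type u} [Category.{v} C] [HasFiniteLimits C] (X : C) (k : ℕ) (hk : 1 ≤ k) (V : SimplicialObject (Over X)) [V.IsCoskeletal k] : SimplicialObject.IsCoskeletal (V ⋙ Over.forget X) k := by
  have : NeZero k := ⟨by omega⟩
  have hP := isPointwiseOfIsCoskeletal V k
  apply isCoskeletal_of_isPointwise
  intro Δ
  exact IsLimit.ofIsoLimit (isLimitOfPreserves (Over.forget X) (hP Δ))
    (Cone.ext (Iso.refl _) (fun j ↦ by
      dsimp [SimplicialObject.Truncated.rightExtensionInclusion, Functor.RightExtension.mk]
      exact ((Category.id_comp _).trans ((Category.comp_id _).trans (congrArg CommaMorphism.left (Category.comp_id _)).symm)).symm))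

end Groth.Agent.S6813
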