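import Groth.Statements.S6814
import Mathlib

set_option linter.style.haveILetI false
open CategoryTheory CategoryTheory.Limits Opposite Simplicial

set_option autoImplicit false
open CategoryTheory CategoryTheory.Limits Opposite
universe v u
open CategoryTheory CategoryTheory.SimplicialObject CategoryTheory.SimplicialObject.Truncated

namespace Groth.Agent.S6814

section
open SimplexCategory

variable {C : Type u} [Category.{v} C] {n : ℕ}

abbrev tobj (N i : ℕ) (hi : i ≤ N) : SimplexCategory.Truncated N := ⟨⦋i⦌, hi⟩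

abbrev L (n : ℕ) := (SimplexCategory.Truncated.incl (n + 1) (n + 2) (Nat.le_succ _)).op

abbrev top (n : ℕ) : (SimplexCategory.Truncated (n + 2))ᵒᵖ := op (tobj (n + 2) (n + 2) le_rfl)

abbrev mkA {i : ℕ} (hi : i ≤ n + 1) (g : ⦋i⦌ ⟶ ⦋n + 2⦌) : StructuredArrow (top n) (L n) :=
  StructuredArrow.mk (S := top n) (Y := op (tobj (n + 1) i hi))
    (SimplexCategory.Truncated.Hom.tr g (hi.trans (Nat.le_succ _)) le_rfl).op

lemma exists_eq_mkA (j : StructuredArrow (top n) (L n)) :
    ∃ (i : ℕ) (hi : i ≤ n + 1) (g : ⦋i⦌ ⟶ ⦋n + 2⦌), j = mkA hi g := by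
  obtain ⟨⟨⟨a, ha⟩⟩, ⟨⟨f⟩⟩, rfl⟩ := j.mk_surjective
  induction a using SimplexCategory.rec with | _ i
  exact ⟨i, ha, f, rfl⟩

lemma exists_face {i : ℕ} (hi : i ≤ n + 1) (g : ⦋i⦌ ⟶ ⦋n + 2⦌) :
    ∃ (k : Fin (n + 3)) (g' : ⦋i⦌ ⟶ ⦋n + 1⦌), g = g' ≫ SimplexCategory.δ k := by
  refine eq_comp_δ_of_not_surjective g fun hs ↦ ?_
  have := Fintype.card_le_of_surjective _ hs
  simp at this
  omega

variable (U : (SimplexCategory.Truncated (n + 1))ᵒᵖ ⥤ C) {T : C}
  (π : Fin (n + 3) → (T ⟶ U.obj (op (tobj (n + 1) (n + 1) le_rfl))))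

/-- `U` applied to a morphism. -/
abbrev Um {i j : ℕ} (hi : i ≤ n + 1) (hj : j ≤ n + 1) (g : ⦋i⦌ ⟶ ⦋j⦌) :
    U.obj (op (tobj (n + 1) j hj)) ⟶ U.obj (op (tobj (n + 1) i hi)) :=
  U.map (SimplexCategory.Truncated.Hom.tr g hi hj).op

lemma Um_comp {i j k : ℕ} (hi : i ≤ n + 1) (hj : j ≤ n + 1) (hk : k ≤ n + 1)
    (g : ⦋i⦌ ⟶ ⦋j⦌) (h : ⦋j⦌ ⟶ ⦋k⦌) : Um U hi hk (g ≫ h) = Um U hj hk h ≫ Um U hi hj g := by
  rw [Um, Um, Um, ← U.map_comp]
  rfl

variable (hπ : ∀ i j : Fin (n + 2), i ≤ j →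
  π (Fin.castSucc i) ≫ Um U (Nat.le_succ n) le_rfl (SimplexCategory.δ j) =
    π j.succ ≫ Um U (Nat.le_succ n) le_rfl (SimplexCategory.δ i))

include hπ in
lemma indep {i : ℕ} (hi : i ≤ n + 1) (k l : Fin (n + 3)) (h h' : ⦋i⦌ ⟶ ⦋n + 1⦌)
    (e : h ≫ SimplexCategory.δ k = h' ≫ SimplexCategory.δ l) :
    π k ≫ Um U hi le_rfl h = π l ≫ Um U hi le_rfl h' := by
  wlog hkl : k ≤ l generalizing k l h h'
  · exact (this l k h' h e.symm (le_of_lt (not_le.1 hkl))).symm
  rcases hkl.eq_or_lt with rfl | hlt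
  · rw [(cancel_mono _).1 e]
  obtain ⟨i', rfl⟩ : ∃ i' : Fin (n + 2), i'.castSucc = k :=
    Fin.exists_castSucc_eq.2 (ne_of_lt (lt_of_lt_of_le hlt (Fin.le_last l)))
  obtain ⟨j, rfl⟩ : ∃ j : Fin (n + 2), j.succ = l :=
    Fin.exists_succ_eq.2 (ne_of_gt (lt_of_le_of_lt (Fin.zero_le _) hlt))
  have hij : i' ≤ j := Fin.le_castSucc_iff.2 hlt |>.trans_eq rfl |> fun h => by
    rw [Fin.lt_def, Fin.val_castSucc, Fin.val_succ] at hlt
    exact Fin.le_def.2 (by omega)
  have hne : ∀ x, h.toOrderHom x ≠ j := by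
    intro x hx
    have h1 := congrArg (fun φ => (SimplexCategory.Hom.toOrderHom φ) x) e
    simp only [SimplexCategory.comp_toOrderHom, OrderHom.comp_coe, Function.comp_apply] at h1
    rw [hx] at h1
    have h2 : Fin.succAbove i'.castSucc j = j.succ :=
      Fin.succAbove_of_le_castSucc _ _ (Fin.castSucc_le_castSucc_iff.2 hij)
    change Fin.succAbove i'.castSucc j = Fin.succAbove j.succ (h'.toOrderHom x) at h1
    rw [h2] at h1
    exact Fin.succAbove_ne j.succ _ h1.symm
  obtain ⟨r, hr⟩ := eq_comp_δ_of_not_surjective' h j hne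
  subst hr
  have hh' : h' = r ≫ SimplexCategory.δ i' := by
    rw [← cancel_mono (SimplexCategory.δ j.succ), ← e, Category.assoc, Category.assoc,
      SimplexCategory.δ_comp_δ hij]
  subst hh'
  rw [Um_comp U hi (Nat.le_succ n) le_rfl, Um_comp U hi (Nat.le_succ n) le_rfl,
    ← Category.assoc, hπ i' j hij, Category.assoc]

/-- The cone with vertex `T`. -/
noncomputable def coneT : Cone (StructuredArrow.proj (top n) (L n) ⋙ U) where
  pt := T
  π :=
    { app := fun j ↦
        π (exists_face j.right.unop.2 j.hom.unop.hom).choose ≫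
          U.map (SimplexCategory.Truncated.Hom.tr
            (exists_face j.right.unop.2 j.hom.unop.hom).choose_spec.choose
            j.right.unop.2 le_rfl).op
      naturality := by
        intro j j' φ
        obtain ⟨i, hi, g, rfl⟩ := exists_eq_mkA j
        obtain ⟨i', hi', g', rfl⟩ := exists_eq_mkA j'
        set k := (exists_face hi g).choose with hk
        set h := (exists_face hi g).choose_spec.choose with hh
        have e : g = h ≫ SimplexCategory.δ k := (exists_face hi g).choose_spec.choose_spec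
        set k' := (exists_face hi' g').choose with hk'
        set h' := (exists_face hi' g').choose_spec.choose with hh'
        have e' : g' = h' ≫ SimplexCategory.δ k' := (exists_face hi' g').choose_spec.choose_spec
        let r : ⦋i'⦌ ⟶ ⦋i⦌ := φ.right.unop.hom
        have er : r ≫ g = g' :=
          congrArg (fun q => q.unop.hom) (StructuredArrow.w φ)
        refine (Category.id_comp _).trans ?_
        change π k' ≫ Um U hi' le_rfl h' = (π k ≫ Um U hi le_rfl h) ≫ U.map φ.right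
        refine (indep U π hπ hi' k' k h' (r ≫ h) ?_).trans ?_
        · rw [Category.assoc, ← e, ← e', er]
        · rw [Um_comp U hi' hi le_rfl, Category.assoc]
          rfl }

lemma coneT_π {i : ℕ} (hi : i ≤ n + 1) (g : ⦋i⦌ ⟶ ⦋n + 2⦌) (k : Fin (n + 3))
    (h : ⦋i⦌ ⟶ ⦋n + 1⦌) (e : g = h ≫ SimplexCategory.δ k) :
    (coneT U π hπ).π.app (mkA hi g) = π k ≫ Um U hi le_rfl h :=
  indep U π hπ hi _ k _ h ((exists_face hi g).choose_spec.choose_spec.symm.trans e)

variable (huniv : ∀ (S : C) (g : Fin (n + 3) → (S ⟶ U.obj (op (tobj (n + 1) (n + 1) le_rfl)))),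
    (∀ i j : Fin (n + 2), i ≤ j →
      g (Fin.castSucc i) ≫ Um U (Nat.le_succ n) le_rfl (SimplexCategory.δ j) =
        g j.succ ≫ Um U (Nat.le_succ n) le_rfl (SimplexCategory.δ i)) →
    ∃! t : S ⟶ T, ∀ k : Fin (n + 3), t ≫ π k = g k)

include huniv in
lemma isLimit_coneT : Nonempty (IsLimit (coneT U π hπ)) := by
  refine ⟨IsLimit.ofExistsUnique fun s ↦ ?_⟩
  have hw : ∀ {i : ℕ} (hi : i ≤ n + 1) (g : ⦋i⦌ ⟶ ⦋n + 2⦌) (k : Fin (n + 3))
      (h : ⦋i⦌ ⟶ ⦋n + 1⦌), g = h ≫ SimplexCategory.δ k →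
      s.π.app (mkA hi g) = s.π.app (mkA le_rfl (SimplexCategory.δ k)) ≫ Um U hi le_rfl h := by
    rintro i hi g k h rfl
    exact (s.w (StructuredArrow.homMk (SimplexCategory.Truncated.Hom.tr h hi le_rfl).op rfl :
      mkA le_rfl (SimplexCategory.δ k) ⟶ mkA hi (h ≫ SimplexCategory.δ k))).symm
  obtain ⟨t, ht, hu⟩ := huniv s.pt (fun k ↦ s.π.app (mkA le_rfl (SimplexCategory.δ k)))
    (fun i j hij ↦ by
      exact (hw (Nat.le_succ n) (SimplexCategory.δ i ≫ SimplexCategory.δ j.succ) _ _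
          (SimplexCategory.δ_comp_δ hij)).symm.trans
        (hw (Nat.le_succ n) (SimplexCategory.δ i ≫ SimplexCategory.δ j.succ) _ _ rfl))
  refine ⟨t, fun j ↦ ?_, fun t' ht' ↦ hu t' fun k ↦ ?_⟩
  · obtain ⟨i, hi, g, rfl⟩ := exists_eq_mkA j
    obtain ⟨k, h, e⟩ := exists_face hi g
    rw [coneT_π U π hπ hi g k h e, hw hi g k h e, ← ht k]
    exact (Category.assoc _ _ _).symm
  · rw [← ht' (mkA le_rfl (SimplexCategory.δ k)),
      coneT_π U π hπ le_rfl _ k (𝟙 _) (Category.id_comp _).symm, Um]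
    congr 1
    refine Eq.trans ?_ (congrArg (π k ≫ ·) (U.map_id _)).symm
    rw [Category.comp_id]
end

/-- Let `U` be an `(n+1)`-truncated simplicial object of a category `C` (so the truncation level is at
least `1`), and let `T` be an object with morphisms `π_0, …, π_{n+2} : T ⟶ U_{n+1}` satisfying the
face relations `d_j π_i = d_i π_{j+1}` for `i ≤ j` and universal among such families (that is, `T`
represents the functor of `(n+3)`-tuples of morphisms to `U_{n+1}` satisfying the face relations).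
Then `U` extends to an `(n+2)`-truncated simplicial object right adjoint to restriction: the
pointwise right Kan extension of `U` along the inclusion of `(n+1)`-truncated into `(n+2)`-truncated
simplex categories exists, and for any right Kan extension `V` of `U` the morphism `V_{n+2} ⟶ T`
matching the faces of `V` with the `π_k` is an isomorphism (the new top term is the representing
object). -/
theorem result {C : Type u} [Category.{v} C] (n : ℕ) (U : (SimplexCategory.Truncated (n + 1))ᵒᵖ ⥤ C) (T : C) (π : Fin (n + 3) → (T ⟶ U.obj (op ⟨SimplexCategory.mk (n + 1), (SimplexCategory.len_mk (n + 1)).le⟩))) (hπ : ∀ i j : Fin (n + 2), i ≤ j → π (Fin.castSucc i) ≫ U.map (SimplexCategory.Truncated.δ (n + 1) j ((SimplexCategory.len_mk n).trans_le (Nat.le_succ n)) (SimplexCategory.len_mk (n + 1)).le).op = π j.succ ≫ U.map (SimplexCategory.Truncated.δ (n + 1) i ((SimplexCategory.len_mk n).trans_le (Nat.le_succ n)) (SimplexCategory.len_mk (n + 1)).le).op) (huniv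 : ∀ (S : C) (g : Fin (n + 3) → (S ⟶ U.obj (op ⟨SimplexCategory.mk (n + 1), (SimplexCategory.len_mk (n + 1)).le⟩))), (∀ i j : Fin (n + 2), i ≤ j → g (Fin.castSucc i) ≫ U.map (SimplexCategory.Truncated.δ (n + 1) j ((SimplexCategory.len_mk n).trans_le (Nat.le_succ n)) (SimplexCategory.len_mk (n + 1)).le).op = g j.succ ≫ U.map (SimplexCategory.Truncated.δ (n + 1) i ((SimplexCategory.len_mk n).trans_le (Nat.le_succ n)) (SimplexCategory.len_mk (n + 1)).le).op) → ∃! t : S ⟶ T, ∀ k : Fin (n + 3), t ≫ π k = g k) : (SimplexCategory.Truncated.incl (n + 1) (n + 2) (Nat.le_succ _)).op.HasPointwiseRightKanExtension U ∧ ∀ (V : (SimplexCategory.Truncated (n + 2))ᵒᵖ ⥤ C) (α : (SimplexCategory.Truncated.incl (n + 1) (n + 2) (Nat.le_succ _)).op ⋙ V ⟶ U) [V.IsRightKanExtension α] (t : V.obj (op ⟨SimplexCategory.mk (n + 2), (SimplexCategory.len_mk (n + 2)).le⟩) ⟶ T), (∀ k : Fin (n + 3), t ≫ π k = V.map (SimplexCategory.Truncated.δ (n + 2) k ((SimplexCategory.len_mk (n + 1)).trans_le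 (Nat.le_succ (n + 1))) (SimplexCategory.len_mk (n + 2)).le).op ≫ α.app (op ⟨SimplexCategory.mk (n + 1), (SimplexCategory.len_mk (n + 1)).le⟩)) → IsIso t := by
  obtain ⟨hlim⟩ := isLimit_coneT U π hπ huniv
  have hP : (L n).HasPointwiseRightKanExtension U := by
    rintro ⟨⟨a, ha⟩⟩
    induction a using SimplexCategory.rec with | _ i
    rcases (Nat.lt_or_ge (n + 1) i) with hlt | hle
    · obtain rfl : i = n + 2 := le_antisymm ha hlt
      exact HasLimit.mk ⟨_, hlim⟩
    · exact HasLimit.mk ⟨_, limitOfDiagramInitial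
        (StructuredArrow.mkIdInitial (T := L n) (Y := op (tobj (n + 1) i hle))) _⟩
  refine ⟨hP, fun V α _ t ht ↦ ?_⟩
  have hV := Functor.isPointwiseRightKanExtensionOfIsRightKanExtension V α
  have hVtop := hV (top n)
  let e := IsLimit.conePointUniqueUpToIso hVtop hlim
  obtain ⟨t₀, -, hu⟩ := huniv _ (fun k ↦ t ≫ π k) (fun i j hij ↦ by
    rw [Category.assoc, Category.assoc]
    exact congrArg (t ≫ ·) (hπ i j hij))
  have : t = e.hom := by
    refine (hu t fun k => rfl).trans (hu e.hom fun k ↦ ?_).symm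
    have h1 := IsLimit.conePointUniqueUpToIso_hom_comp hVtop hlim
      (mkA le_rfl (SimplexCategory.δ k))
    have h2 : (coneT U π hπ).π.app (mkA le_rfl (SimplexCategory.δ k)) = π k := by
      rw [coneT_π U π hπ le_rfl _ k (𝟙 _) (Category.id_comp _).symm]
      exact (congrArg (π k ≫ ·) (U.map_id _)).trans (Category.comp_id _)
    rw [h2] at h1
    exact h1.trans (ht k).symm
  rw [this]
  exact ⟨e.inv, e.hom_inv_id, e.inv_hom_id⟩

end Groth.Agent.S6814
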