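import Groth.Statements.S6815

set_option linter.style.haveILetI false

set_option autoImplicit false
open CategoryTheory CategoryTheory.Limits
universe w v u
open CategoryTheory CategoryTheory.SimplicialObject

open Opposite

namespace Groth.Agent.S6815

/-- Homotopies between the factors of two product morphisms of simplicial objects assemble to a homotopy
between the products. -/
theorem result {C : Type u} [Category.{v} C] {T : Type w} [HasLimitsOfShape (Discrete T) C] {X Y : T → SimplicialObject C} (a b : ∀ t, X t ⟶ Y t) (h : ∀ t, Nonempty (SimplicialObject.Homotopy (a t) (b t))) : Nonempty (SimplicialObject.Homotopy (Limits.Pi.map a) (Limits.Pi.map b)) := by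
  let H := fun t => (h t).some
  let lim : ∀ m : SimplexCategoryᵒᵖ, IsLimit (((evaluation SimplexCategoryᵒᵖ C).obj m).mapCone (limit.cone (Discrete.functor Y))) :=
    fun m => isLimitOfPreserves _ (limit.isLimit _)
  have ext' : ∀ {Z : C} {m : SimplexCategoryᵒᵖ} (p q : Z ⟶ (∏ᶜ Y).obj m),
      (∀ t, p ≫ (Pi.π Y t).app m = q ≫ (Pi.π Y t).app m) → p = q :=
    fun {Z m} p q hpq => (lim m).hom_ext fun ⟨t⟩ => hpq t
  let hh : ∀ {n : ℕ} (i : Fin (n + 1)), (∏ᶜ X).obj (op (SimplexCategory.mk n)) ⟶ (∏ᶜ Y).obj (op (SimplexCategory.mk (n + 1))) :=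
    fun {n} i => (lim _).lift ⟨_, Discrete.natTrans fun t => (Pi.π X t.as).app _ ≫ (H t.as).h i⟩
  have hπ : ∀ {n : ℕ} (i : Fin (n + 1)) (t : T),
      hh i ≫ (Pi.π Y t).app _ = (Pi.π X t).app _ ≫ (H t).h i := fun i t => (lim _).fac _ ⟨t⟩
  have hY : ∀ {n : ℕ} (i : Fin (n + 2)) (t : T), (∏ᶜ Y).δ i ≫ (Pi.π Y t).app _ = (Pi.π Y t).app _ ≫ (Y t).δ i :=
    fun i t => (Pi.π Y t).naturality _
  have hYσ : ∀ {n : ℕ} (i : Fin (n + 1)) (t : T), (∏ᶜ Y).σ i ≫ (Pi.π Y t).app _ = (Pi.π Y t).app _ ≫ (Y t).σ i :=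
    fun i t => (Pi.π Y t).naturality _
  have hX : ∀ {n : ℕ} (i : Fin (n + 2)) (t : T), (∏ᶜ X).δ i ≫ (Pi.π X t).app _ = (Pi.π X t).app _ ≫ (X t).δ i :=
    fun i t => (Pi.π X t).naturality _
  have hXσ : ∀ {n : ℕ} (i : Fin (n + 1)) (t : T), (∏ᶜ X).σ i ≫ (Pi.π X t).app _ = (Pi.π X t).app _ ≫ (X t).σ i :=
    fun i t => (Pi.π X t).naturality _
  have hm : ∀ (c : ∀ t, X t ⟶ Y t) (m : SimplexCategoryᵒᵖ) (t : T),
      (Limits.Pi.map c).app m ≫ (Pi.π Y t).app m = (Pi.π X t).app m ≫ (c t).app m := fun c m t => by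
    rw [← NatTrans.comp_app, Pi.map_π, NatTrans.comp_app]
  refine ⟨{ h := hh, h_zero_comp_δ_zero := ?_, h_last_comp_δ_last := ?_, h_succ_comp_δ_castSucc_of_lt := ?_,
            h_succ_comp_δ_castSucc_succ := ?_, h_castSucc_comp_δ_succ_of_lt := ?_,
            h_comp_σ_castSucc_of_le := ?_, h_comp_σ_succ_of_lt := ?_ }⟩
  · intro n; refine ext' _ _ fun t => ?_
    rw [Category.assoc, hY, reassoc_of% (hπ (n := n) 0 t), (H t).h_zero_comp_δ_zero, hm]
  · intro n; refine ext' _ _ fun t => ?_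
    rw [Category.assoc, hY, reassoc_of% (hπ (n := n) (Fin.last n) t), (H t).h_last_comp_δ_last, hm]
  · intro n i j hij; refine ext' _ _ fun t => ?_
    rw [Category.assoc, hY, reassoc_of% (hπ j.succ t), (H t).h_succ_comp_δ_castSucc_of_lt i j hij, Category.assoc, hπ, reassoc_of% (hX i t)]
  · intro n j; refine ext' _ _ fun t => ?_
    rw [Category.assoc, hY, reassoc_of% (hπ j.succ t), (H t).h_succ_comp_δ_castSucc_succ, Category.assoc, hY, reassoc_of% (hπ j.castSucc t)]
  · intro n i j hij; refine ext' _ _ fun t => ?_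
    rw [Category.assoc, hY, reassoc_of% (hπ j.castSucc t), (H t).h_castSucc_comp_δ_succ_of_lt i j hij, Category.assoc, hπ, reassoc_of% (hX i t)]
  · intro n i j hij; refine ext' _ _ fun t => ?_
    rw [Category.assoc, hYσ, reassoc_of% (hπ j t), (H t).h_comp_σ_castSucc_of_le i j hij, Category.assoc, hπ, reassoc_of% (hXσ i t)]
  · intro n i j hij; refine ext' _ _ fun t => ?_
    rw [Category.assoc, hYσ, reassoc_of% (hπ j t), (H t).h_comp_σ_succ_of_lt i j hij, Category.assoc, hπ, reassoc_of% (hXσ i t)]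

end Groth.Agent.S6815
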