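import Groth.Statements.S6816
import Mathlib.Tactic.Abel

set_option autoImplicit false
open CategoryTheory CategoryTheory.Limits
universe v u
open CochainComplex

namespace Groth.Agent.S6816

open CochainComplex.HomComplex

/-- The boundary morphisms `C ⟶ A⟦1⟧` attached to two degreewise splittings of a degreewise split
sequence `A ⟶ B ⟶ C` of cochain complexes are homotopic. -/
theorem result {C : Type u} [Category.{v} C] [Preadditive C] [HasBinaryBiproducts C] (S : ShortComplex (CochainComplex C ℤ)) (σ σ' : ∀ n : ℤ, (S.map (HomologicalComplex.eval C (ComplexShape.up ℤ) n)).Splitting) : Nonempty (Homotopy (CochainComplex.homOfDegreewiseSplit S σ) (CochainComplex.homOfDegreewiseSplit S σ')) := by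
  let ψ : Cochain S.X₃ S.X₁ 0 := Cochain.ofHoms (fun n => (σ' n).s ≫ (σ n).r)
  have key : (cocycleOfDegreewiseSplit S σ').1 - (cocycleOfDegreewiseSplit S σ).1 = δ 0 1 ψ := by
    ext p q hpq
    obtain rfl : q = p + 1 := hpq.symm
    obtain ⟨(r : ∀ n, S.X₂.X n ⟶ S.X₁.X n), hr₀⟩ : ∃ r, r = fun n => (σ n).r := ⟨_, rfl⟩
    obtain ⟨(s : ∀ n, S.X₃.X n ⟶ S.X₂.X n), hs₀⟩ : ∃ s, s = fun n => (σ n).s := ⟨_, rfl⟩
    obtain ⟨(r' : ∀ n, S.X₂.X n ⟶ S.X₁.X n), hr₀'⟩ : ∃ r, r = fun n => (σ' n).r := ⟨_, rfl⟩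
    obtain ⟨(s' : ∀ n, S.X₃.X n ⟶ S.X₂.X n), hs₀'⟩ : ∃ s, s = fun n => (σ' n).s := ⟨_, rfl⟩
    have fr : ∀ n, S.f.f n ≫ r n = 𝟙 _ := fun n => by subst hr₀; exact (σ n).f_r
    have fr' : ∀ n, S.f.f n ≫ r' n = 𝟙 _ := fun n => by subst hr₀'; exact (σ' n).f_r
    have sg : ∀ n, s n ≫ S.g.f n = 𝟙 _ := fun n => by subst hs₀; exact (σ n).s_g
    have sg' : ∀ n, s' n ≫ S.g.f n = 𝟙 _ := fun n => by subst hs₀'; exact (σ' n).s_g
    have hid : ∀ n, r n ≫ S.f.f n + S.g.f n ≫ s n = 𝟙 _ := fun n => by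
      subst hr₀ hs₀; exact (σ n).id
    have hid' : ∀ n, r' n ≫ S.f.f n + S.g.f n ≫ s' n = 𝟙 _ := fun n => by
      subst hr₀' hs₀'; exact (σ' n).id
    have hs : s' p = (s' p ≫ r p) ≫ S.f.f p + s p := by
      have h := s' p ≫= hid p
      rw [Preadditive.comp_add, reassoc_of% (sg' p), Category.comp_id] at h
      rw [Category.assoc, h]
    have hr : r (p + 1) = r' (p + 1) + S.g.f (p + 1) ≫ s' (p + 1) ≫ r (p + 1) := by
      have h := hid' (p + 1) =≫ r (p + 1)
      rw [Preadditive.add_comp, Category.assoc, fr, Category.comp_id, Category.id_comp,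
        Category.assoc] at h
      exact h.symm
    have goal' : s' p ≫ S.X₂.d p (p + 1) ≫ r' (p + 1) - s p ≫ S.X₂.d p (p + 1) ≫ r (p + 1) =
        (s' p ≫ r p) ≫ S.X₁.d p (p + 1) - S.X₃.d p (p + 1) ≫ s' (p + 1) ≫ r (p + 1) := by
      conv_lhs =>
        arg 1
        rw [hs]
      conv_lhs =>
        arg 2
        rw [hr]
      simp only [Preadditive.add_comp, Preadditive.comp_add, Category.assoc]
      rw [HomologicalComplex.Hom.comm_assoc S.f, fr', Category.comp_id,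
        ← HomologicalComplex.Hom.comm_assoc S.g, reassoc_of% (sg p)]
      abel
    subst hr₀ hs₀ hr₀' hs₀'
    rw [Cochain.sub_v]
    rw [δ_zero_cochain_v]
    simp only [ψ, Cochain.ofHoms_v, cocycleOfDegreewiseSplit, Cocycle.mk_coe, Cochain.mk_v]
    simp only [Category.assoc] at goal' ⊢
    exact goal'
  refine ⟨(Cochain.equivHomotopy _ _).symm ⟨Cochain.rightShift ψ 1 (-1) (by lia), ?_⟩⟩
  have h₁ : ∀ τ, Cochain.ofHom (CochainComplex.homOfDegreewiseSplit S τ) =
      (cocycleOfDegreewiseSplit S τ).1.rightShift 1 0 (zero_add 1) :=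
    fun τ => congrArg Subtype.val ((Cocycle.equivHom _ _).apply_symm_apply _)
  rw [h₁, h₁, Cochain.δ_rightShift ψ 1 (-1) 0 (by lia) 1 (by lia), ← key]
  ext p
  simp [Cochain.rightShift_v _ 1 0 _ p p _ (p + 1) rfl]
  try erw [Category.comp_id, Category.comp_id, Category.comp_id]
  abel

end Groth.Agent.S6816
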