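import Groth.Statements.S6817
import Mathlib
import Groth.Agent.H15Site.AbComplexElem

set_option linter.style.haveILetI false
open CategoryTheory CategoryTheory.Limits Opposite Simplicial

set_option autoImplicit false
open CategoryTheory
universe u
open SSet

namespace Groth.Agent.S6817

section
open AlgebraicTopology

abbrev U (X : SimplicialObject AddCommGrpCat.{u}) : SSet.{u} := X ⋙ forget AddCommGrpCat.{u}

abbrev K (X : SimplicialObject AddCommGrpCat.{u}) : ChainComplex AddCommGrpCat.{u} ℕ :=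
  AlternatingFaceMapComplex.obj X

variable {X Y : SimplicialObject AddCommGrpCat.{u}}

lemma d_apply (n : ℕ) (z : X _⦋n + 1⦌) :
    (K X).d (n + 1) n z = ∑ i : Fin (n + 2), (-1 : ℤ) ^ (i : ℕ) • X.δ i z := by
  rw [show (K X).d (n + 1) n = _ from alternatingFaceMapComplex_obj_d X n,
    AlternatingFaceMapComplex.objD]
  exact DFunLike.congr_fun (map_sum (AddCommGrpCat.homAddEquiv.toAddMonoidHom)
    (fun i : Fin (n + 2) => (-1 : ℤ) ^ (i : ℕ) • X.δ i) Finset.univ) z |>.trans (by simp)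

/-- A map of underlying simplicial sets corrected so as to send `0` to `0`. -/
def cor (a : U X ⟶ U Y) {n : ℕ} (z : X _⦋n⦌) : Y _⦋n⦌ :=
  (show Y _⦋n⦌ from a.app (op ⦋n⦌) z) - (show Y _⦋n⦌ from a.app (op ⦋n⦌) (0 : X _⦋n⦌))

lemma cor_zero (a : U X ⟶ U Y) {n : ℕ} : cor a (0 : X _⦋n⦌) = 0 := sub_self _

lemma δ_cor (a : U X ⟶ U Y) {n : ℕ} (i : Fin (n + 2)) (z : X _⦋n + 1⦌) :
    Y.δ i (cor a z) = cor a (X.δ i z) := by
  have h : ∀ w : X _⦋n + 1⦌, Y.δ i (show Y _⦋n + 1⦌ from a.app (op ⦋n + 1⦌) w) =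
      (show Y _⦋n⦌ from a.app (op ⦋n⦌) (X.δ i w)) := fun w =>
    (ConcreteCategory.congr_hom (SimplicialObject.δ_naturality a i) w).symm
  simp only [cor, map_sub, h, map_zero]

/-- All faces vanish. -/
def Sph {n : ℕ} (z : X _⦋n⦌) : Prop :=
  ∀ (m : ℕ) (e : m + 1 = n) (j : Fin (m + 2)), X.δ j (e ▸ z : X _⦋m + 1⦌) = 0

lemma sph_cor (a : U X ⟶ U Y) {n : ℕ} (z : X _⦋n⦌) (hz : Sph z) : Sph (cor a z) := by
  rintro m rfl j
  rw [δ_cor, hz m rfl j, cor_zero]

lemma exists_bound {a b : U X ⟶ U Y} (H : SimplicialObject.Homotopy a b) {n : ℕ} (z : X _⦋n⦌)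
    (hz : Sph z) : ∃ c : Y _⦋n + 1⦌, (K Y).d (n + 1) n c = cor b z - cor a z := by
  let H' : Fin (n + 1) → Y _⦋n + 1⦌ := fun j =>
    (show Y _⦋n + 1⦌ from H.h j z) - (show Y _⦋n + 1⦌ from H.h j (0 : X _⦋n⦌))
  refine ⟨∑ j : Fin (n + 1), (-1 : ℤ) ^ (j : ℕ) • H' j, ?_⟩
  have hδ : ∀ (i : Fin (n + 2)) (j : Fin (n + 1)), Y.δ i (H' j) =
      (show Y _⦋n⦌ from SimplicialObject.δ (U Y) i (H.h j z)) -
      (show Y _⦋n⦌ from SimplicialObject.δ (U Y) i (H.h j (0 : X _⦋n⦌))) := fun i j => map_sub _ _ _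
  have hfirst : Y.δ 0 (H' 0) = cor b z := by
    rw [hδ]
    exact congrArg₂ (fun p q => (show Y _⦋n⦌ from p) - (show Y _⦋n⦌ from q))
      (ConcreteCategory.congr_hom (H.h_zero_comp_δ_zero n) z)
      (ConcreteCategory.congr_hom (H.h_zero_comp_δ_zero n) (0 : X _⦋n⦌))
  have hlast : Y.δ (Fin.last (n + 1)) (H' (Fin.last n)) = cor a z := by
    rw [hδ]
    exact congrArg₂ (fun p q => (show Y _⦋n⦌ from p) - (show Y _⦋n⦌ from q))
      (ConcreteCategory.congr_hom (H.h_last_comp_δ_last n) z)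
      (ConcreteCategory.congr_hom (H.h_last_comp_δ_last n) (0 : X _⦋n⦌))
  have hvan : ∀ (i : Fin (n + 2)) (j : Fin (n + 1)), i ≠ j.castSucc → i ≠ j.succ →
      Y.δ i (H' j) = 0 := by
    intro i j h1 h2
    rw [hδ, sub_eq_zero]
    cases n with
    | zero =>
      simp only [ne_eq, Fin.ext_iff, Fin.val_castSucc, Fin.val_succ] at h1 h2
      omega
    | succ m =>
      have hz' := hz m rfl
      rcases lt_or_ge i j.castSucc with hlt | hge
      · obtain ⟨i', rfl⟩ := Fin.exists_castSucc_eq.2 (Fin.ne_last_of_lt hlt)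
        obtain ⟨j', rfl⟩ := Fin.exists_succ_eq.2
          (Fin.ne_zero_of_lt (Fin.castSucc_lt_castSucc_iff.1 hlt))
        have hle : i' ≤ j'.castSucc := Fin.le_castSucc_iff.2 (Fin.castSucc_lt_castSucc_iff.1 hlt)
        have e1 := ConcreteCategory.congr_hom (H.h_succ_comp_δ_castSucc_of_lt i' j' hle) z
        have e2 := ConcreteCategory.congr_hom (H.h_succ_comp_δ_castSucc_of_lt i' j' hle) (0 : X _⦋m + 1⦌)
        refine e1.trans (Eq.trans ?_ e2.symm)
        exact congrArg (H.h j') ((hz' i').trans (map_zero (X.δ i').hom).symm)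
      · have hgt : j.succ < i := by
          rcases lt_trichotomy i j.succ with h | h | h
          · simp only [ne_eq, Fin.ext_iff, Fin.val_castSucc, Fin.val_succ, Fin.lt_def, Fin.le_def] at *
            omega
          · exact absurd h h2
          · exact h
        obtain ⟨i', rfl⟩ := Fin.exists_succ_eq.2 (Fin.ne_zero_of_lt hgt)
        obtain ⟨j', rfl⟩ := Fin.exists_castSucc_eq.2
          (Fin.ne_last_of_lt (Fin.succ_lt_succ_iff.1 hgt))
        have hlt' : j'.castSucc < i' := Fin.succ_lt_succ_iff.1 hgt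
        have e1 := ConcreteCategory.congr_hom (H.h_castSucc_comp_δ_succ_of_lt i' j' hlt') z
        have e2 := ConcreteCategory.congr_hom (H.h_castSucc_comp_δ_succ_of_lt i' j' hlt') (0 : X _⦋m + 1⦌)
        refine e1.trans (Eq.trans ?_ e2.symm)
        exact congrArg (H.h j') ((hz' i').trans (map_zero (X.δ i').hom).symm)
  let u : Fin (n + 2) → Y _⦋n⦌ := Fin.lastCases (Y.δ (Fin.last (n + 1)) (H' (Fin.last n)))
    fun j => Y.δ j.castSucc (H' j)
  have hu1 : ∀ j : Fin (n + 1), u j.castSucc = Y.δ j.castSucc (H' j) := fun j => Fin.lastCases_castSucc j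
  have hu2 : ∀ j : Fin (n + 1), u j.succ = Y.δ j.succ (H' j) := by
    intro j
    induction j using Fin.lastCases with
    | last => simp [u]
    | cast k =>
      rw [Fin.succ_castSucc, hu1]
      cases n with
      | zero => exact Fin.elim0 k
      | succ m =>
        rw [hδ, hδ]
        have e1 := ConcreteCategory.congr_hom (H.h_succ_comp_δ_castSucc_succ k) z
        have e2 := ConcreteCategory.congr_hom (H.h_succ_comp_δ_castSucc_succ k) (0 : X _⦋m + 1⦌)
        exact congrArg₂ (fun p q => (show Y _⦋m + 1⦌ from p) - (show Y _⦋m + 1⦌ from q)) e1 e2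
  have hsum : ∀ j : Fin (n + 1),
      (∑ i : Fin (n + 2), (-1 : ℤ) ^ (i : ℕ) • Y.δ i ((-1 : ℤ) ^ (j : ℕ) • H' j)) =
        u j.castSucc - u j.succ := by
    intro j
    rw [Finset.sum_eq_add (s := Finset.univ) j.castSucc j.succ (Fin.castSucc_lt_succ (i := j)).ne
      (fun i _ hi => by rw [map_zsmul, hvan i j hi.1 hi.2, zsmul_zero, zsmul_zero])
      (fun h => absurd (Finset.mem_univ _) h) (fun h => absurd (Finset.mem_univ _) h),
      map_zsmul, map_zsmul, smul_smul, smul_smul, ← pow_add, ← pow_add, hu1, hu2]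
    simp [Fin.val_succ, ← two_mul, pow_succ, pow_mul, ← add_right_comm]
    abel
  rw [d_apply]
  simp only [map_sum, Finset.smul_sum]
  rw [Finset.sum_comm]
  simp only [hsum, Finset.sum_sub_distrib]
  have h1 := Fin.sum_univ_castSucc u
  rw [Fin.sum_univ_succ u] at h1
  have e0 : u 0 = cor b z := by
    rw [← Fin.castSucc_zero, hu1]
    exact hfirst
  have el : u (Fin.last (n + 1)) = cor a z := by simp [u, hlast]
  rw [e0, el] at h1
  rw [sub_eq_sub_iff_add_eq_add, h1]

lemma P_spec (n : ℕ) (x : X _⦋n⦌) (hx : (K X).d n ((ComplexShape.down ℕ).next n) x = 0) :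
    ∃ x', Sph x' ∧ (DoldKan.PInfty (X := X)).f n x = x' ∧
      ∃ c : X _⦋n + 1⦌, (K X).d (n + 1) n c = x' - x := by
  refine ⟨_, ?_, rfl, ?_⟩
  · rintro m rfl j
    have hv : ∀ k : Fin (m + 1), X.δ k.succ ((DoldKan.PInfty (X := X)).f (m + 1) x) = 0 := fun k =>
      ConcreteCategory.congr_hom (DoldKan.HigherFacesVanish.of_P (X := X) (m + 1) m k (by omega)) x
    induction j using Fin.cases with
    | succ k => exact hv k
    | zero =>
      rw [ChainComplex.next_nat_succ] at hx
      have h1 := ConcreteCategory.congr_hom ((DoldKan.PInfty (X := X)).comm (m + 1) m) x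
      simp only [CategoryTheory.comp_apply] at h1
      rw [hx, map_zero, d_apply, Fin.sum_univ_succ,
        Finset.sum_eq_zero fun k _ => by rw [hv k, zsmul_zero]] at h1
      simpa using h1
  · have h := (DoldKan.homotopyPInftyToId X).comm n
    cases n with
    | zero => exact ⟨0, by simp⟩
    | succ m =>
      rw [dNext_eq _ (show (ComplexShape.down ℕ).Rel (m + 1) m from rfl),
        prevD_eq _ (show (ComplexShape.down ℕ).Rel (m + 2) (m + 1) from rfl)] at h
      refine ⟨(DoldKan.homotopyPInftyToId X).hom (m + 1) (m + 2) x, ?_⟩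
      have h1 := ConcreteCategory.congr_hom h x
      simp only [AddCommGrpCat.hom_add, AddMonoidHom.add_apply, CategoryTheory.comp_apply,
        HomologicalComplex.id_f, CategoryTheory.id_apply] at h1
      rw [ChainComplex.next_nat_succ] at hx
      rw [hx, map_zero, zero_add] at h1
      exact (sub_eq_iff_eq_add.2 h1).symm

lemma exists_bound' {a b : U X ⟶ U Y} (H : Nonempty (SSet.Homotopy a b) ∨ Nonempty (SSet.Homotopy b a))
    {n : ℕ} (z : X _⦋n⦌) (hz : Sph z) : ∃ c : Y _⦋n + 1⦌, (K Y).d (n + 1) n c = cor a z - cor b z := by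
  rcases H with ⟨⟨H⟩⟩ | ⟨⟨H⟩⟩
  · obtain ⟨c, hc⟩ := exists_bound H.toSimplicialObjectHomotopy z hz
    exact ⟨-c, by rw [map_neg, hc, neg_sub]⟩
  · exact exists_bound H.toSimplicialObjectHomotopy z hz

theorem main {X Y : SimplicialObject AddCommGrpCat.{u}} (f : X ⟶ Y) (g : U Y ⟶ U X)
    (hX : Nonempty (SSet.Homotopy (Functor.whiskerRight f (forget AddCommGrpCat.{u}) ≫ g) (𝟙 _)) ∨ Nonempty (SSet.Homotopy (𝟙 _) (Functor.whiskerRight f (forget AddCommGrpCat.{u}) ≫ g)))
    (hY : Nonempty (SSet.Homotopy (g ≫ Functor.whiskerRight f (forget AddCommGrpCat.{u})) (𝟙 _)) ∨ Nonempty (SSet.Homotopy (𝟙 _) (g ≫ Functor.whiskerRight f (forget AddCommGrpCat.{u})))) :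
    QuasiIso ((alternatingFaceMapComplex AddCommGrpCat.{u}).map f) := by
  change QuasiIso (AlternatingFaceMapComplex.map f : K X ⟶ K Y)
  let φ : K X ⟶ K Y := AlternatingFaceMapComplex.map f
  have hφ : ∀ m, φ.f m = f.app (op ⦋m⦌) := fun m => AlternatingFaceMapComplex.map_f f m
  refine Groth.Agent.H15Site.quasiIso_of_elementwise _ (fun n x hx y hy => ?_) (fun n y hy => ?_)
  · revert y
    rw [ChainComplex.prev]
    intro y hy
    obtain ⟨x', hx', hPx, c, hc⟩ := P_spec n x hx
    have hPy : (K Y).d (n + 1) n ((DoldKan.PInfty (X := Y)).f (n + 1) y) = f.app (op ⦋n⦌) x' := by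
      have h1 := ConcreteCategory.congr_hom ((DoldKan.PInfty (X := Y)).comm (n + 1) n) y
      simp only [CategoryTheory.comp_apply] at h1
      rw [h1, ← hy, ← hPx, hφ]
      exact ConcreteCategory.congr_hom (DoldKan.PInfty_f_naturality n f) x
    set y' := (DoldKan.PInfty (X := Y)).f (n + 1) y with hy'
    have hv : ∀ k : Fin (n + 1), Y.δ k.succ y' = 0 := fun k =>
      ConcreteCategory.congr_hom (DoldKan.HigherFacesVanish.of_P (X := Y) (n + 1) n k (by omega)) y
    have hd0 : Y.δ 0 y' = f.app (op ⦋n⦌) x' := by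
      rw [d_apply, Fin.sum_univ_succ, Finset.sum_eq_zero fun k _ => by rw [hv k, zsmul_zero]] at hPy
      simpa using hPy
    have hgy : (K X).d (n + 1) n (cor g y') =
        cor (Functor.whiskerRight f (forget AddCommGrpCat.{u}) ≫ g) x' := by
      rw [d_apply, Fin.sum_univ_succ,
        Finset.sum_eq_zero fun k _ => by rw [δ_cor, hv k, cor_zero, zsmul_zero], δ_cor, hd0]
      have h0 : f.app (op ⦋n⦌) (0 : X _⦋n⦌) = 0 := map_zero _
      simp [cor, h0]
    obtain ⟨e, he⟩ := exists_bound' hX x' hx'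
    have hid : cor (𝟙 (U X)) x' = x' := sub_zero _
    refine ⟨cor g y' - e - c, ?_⟩
    rw [map_sub, map_sub, hgy, he, hc, hid]
    have key : ∀ a b d : X _⦋n⦌, a - (a - b) - (b - d) = d := fun a b d => by abel
    exact key _ _ _
  · obtain ⟨y', hy', -, c, hc⟩ := P_spec n y hy
    have hsg := sph_cor g y' hy'
    obtain ⟨e, he⟩ := exists_bound' hY y' hy'
    have hid : cor (𝟙 (U Y)) y' = y' := sub_zero _
    have hfg : cor (g ≫ Functor.whiskerRight f (forget AddCommGrpCat.{u})) y' =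
        f.app (op ⦋n⦌) (cor g y') := (map_sub (f.app (op ⦋n⦌)).hom _ _).symm
    rw [hid, hfg] at he
    rw [ChainComplex.prev]
    refine ⟨cor g y', -(e + c), ?_, ?_⟩
    · cases n with
      | zero => rw [(K X).shape _ _ (by simp)]; rfl
      | succ m =>
        rw [ChainComplex.next_nat_succ, d_apply]
        exact Finset.sum_eq_zero fun j _ => by rw [hsg m rfl j, zsmul_zero]
    · rw [hφ, map_neg, map_add, he, hc]
      have key : ∀ a b d : Y _⦋n⦌, d = a + -((a - b) + (b - d)) := fun a b d => by abel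
      exact key _ _ _
end

/-- A homomorphism of simplicial abelian groups whose underlying map of simplicial sets is a homotopy
equivalence induces a quasi-isomorphism of associated chain complexes. (The published statement
allows the composites with a homotopy inverse to be joined to the identities by chains of
homotopies; this row assumes single homotopies, in either direction.) -/
theorem result {X Y : SimplicialObject AddCommGrpCat.{u}} (f : X ⟶ Y) (g : (Y ⋙ forget AddCommGrpCat.{u} : SSet.{u}) ⟶ (X ⋙ forget AddCommGrpCat.{u} : SSet.{u})) (hX : Nonempty (SSet.Homotopy (Functor.whiskerRight f (forget AddCommGrpCat.{u}) ≫ g) (𝟙 _)) ∨ Nonempty (SSet.Homotopy (𝟙 _) (Functor.whiskerRight f (forget AddCommGrpCat.{u}) ≫ g))) (hY : Nonempty (SSet.Homotopy (g ≫ Functor.whiskerRight f (forget AddCommGrpCat.{u})) (𝟙 _)) ∨ Nonempty (SSet.Homotopy (𝟙 _) (g ≫ Functor.whiskerRight f (forget AddCommGrpCat.{u})))) : QuasiIso ((AlgebraicTopology.alternatingFaceMapComplex AddCommGrpCat.{u}).map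 f) := by
  exact main f g hX hY

end Groth.Agent.S6817
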