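import Groth.Statements.S6819
import Mathlib
import Groth.Agent.H15Site.SkelAbelian

open Groth.Agent.H15Site

set_option linter.style.haveILetI false
open CategoryTheory CategoryTheory.Limits Opposite Simplicial

set_option autoImplicit false
open CategoryTheory CategoryTheory.Limits Opposite
universe v u
open CategoryTheory CategoryTheory.Abelian

namespace Groth.Agent.S6819

/-- For a simplicial object `U` of an abelian category, the counit `i_{n!} sk_n U ⟶ U` of the skeleton
adjunction is a monomorphism in each degree, with image the subobject generated by the images of the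
maps `U_i ⟶ U_m` induced by `[m] ⟶ [i]`, `i ≤ n`. -/
theorem result {A : Type u} [Category.{v} A] [Abelian A] (U : SimplicialObject A) (n : ℕ) (U' : ∀ m : ℕ, Subobject (U.obj (op (SimplexCategory.mk m)))) (hU' : ∀ m : ℕ, IsLUB (Set.range (fun φ : Σ i : Fin (n + 1), (SimplexCategory.mk m ⟶ SimplexCategory.mk i) => imageSubobject (U.map φ.2.op))) (U' m)) [∀ F : (SimplexCategory.Truncated n)ᵒᵖ ⥤ A, (SimplexCategory.Truncated.inclusion n).op.HasLeftKanExtension F] (m : ℕ) : Mono (((SimplicialObject.skAdj n).counit.app U).app (op (SimplexCategory.mk m))) ∧ imageSubobject (((SimplicialObject.skAdj n).counit.app U).app (op (SimplexCategory.mk m))) = U' m := by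
  refine ⟨SkelAb.mono_counit U n m, le_antisymm ?_ ((hU' m).2 ?_)⟩
  · obtain ⟨t, ht⟩ := SkelAb.exists_factor hU'
    exact Limits.imageSubobject_le _ (show _ ⟶ (U' m : A) from t.app (op ⦋m⦌)) (Eq.trans rfl (NatTrans.congr_app ht (op ⦋m⦌)))
  · rintro _ ⟨⟨i, φ⟩, rfl⟩
    set c := (SimplicialObject.skAdj n).counit.app U with hc
    have h1 := NatTrans.congr_app ((SimplicialObject.skAdj n).right_triangle_components U)
      (op ⟨⦋(i : ℕ)⦌, Nat.le_of_lt_succ i.2⟩)
    let s := ((SimplicialObject.skAdj n).unit.app ((SimplicialObject.truncation n).obj U)).app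
      (op ⟨⦋(i : ℕ)⦌, Nat.le_of_lt_succ i.2⟩)
    let L := (SimplicialObject.Truncated.sk n).obj ((SimplicialObject.truncation n).obj U)
    refine Limits.imageSubobject_le _
      ((show _ ⟶ L.obj (op ⦋(i : ℕ)⦌) from s) ≫ L.map φ.op ≫ factorThruImageSubobject _) ?_
    rw [Category.assoc, Category.assoc, imageSubobject_arrow_comp]
    refine (congrArg (_ ≫ ·) (c.naturality φ.op)).trans ?_
    refine (Category.assoc _ _ _).symm.trans ?_
    exact (congrArg (· ≫ U.map φ.op) h1).trans (Category.id_comp _)

end Groth.Agent.S6819
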