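import Groth.Statements.S6820
import Mathlib.RingTheory.Noetherian.Basic
import Mathlib.RingTheory.Noetherian.Defs
import Mathlib.Algebra.Module.LocalizedModule.Basic
-- import your own Groth.Agent.* helpers here

set_option autoImplicit false
universe u
open Smoothing

namespace Groth.Agent.S6820

/-- Let A be a Noetherian ring, M a finite A-module, S a multiplicative subset of A and π an element of
A such that on the localised module S⁻¹M the kernels of multiplication by π and by π² agree. Then
there is an element s of S such that for every n > 0 the kernels of multiplication by sⁿπ and by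
(sⁿπ)² on M agree. (Kernel equalities are written as implications, the reverse inclusions being
automatic.) -/
theorem result {A : Type u} [CommRing A] [IsNoetherianRing A]
    (M : Type u) [AddCommGroup M] [Module A M] [Module.Finite A M] (S : Submonoid A) (π : A)
    (h : ∀ m : LocalizedModule S M, π ^ 2 • m = 0 → π • m = 0) :
    ∃ s ∈ S, ∀ n : ℕ, 0 < n → ∀ m : M, (s ^ n * π) ^ 2 • m = 0 → (s ^ n * π) • m = 0 := by
  classical
  obtain ⟨T, hT⟩ := (IsNoetherian.noetherian (LinearMap.ker (LinearMap.lsmul A M (π ^ 2))) :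
    (LinearMap.ker (LinearMap.lsmul A M (π ^ 2))).FG)
  have h' : ∀ m ∈ T, ∃ s : S, s • π • m = 0 := fun m hm => by
    have hm2 : π ^ 2 • m = 0 := by
      have : m ∈ LinearMap.ker (LinearMap.lsmul A M (π ^ 2)) := hT ▸ Submodule.subset_span hm
      exact this
    have h0 := h (LocalizedModule.mkLinearMap S M m) (by rw [← map_smul, hm2, map_zero])
    rw [← map_smul] at h0
    exact (IsLocalizedModule.eq_zero_iff S (LocalizedModule.mkLinearMap S M)).mp h0
  choose s hs using h'
  let s₀ : S := ∏ m : T, s m.1 m.2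
  have hs₀ : ∀ m : M, π ^ 2 • m = 0 → (s₀ : A) • π • m = 0 := fun m hm => by
    have hmem : m ∈ Submodule.span A (T : Set M) := hT ▸ hm
    induction hmem using Submodule.span_induction with
    | mem x hx =>
      obtain ⟨c, hc⟩ := Finset.dvd_prod_of_mem (fun m : T => s m.1 m.2) (Finset.mem_univ ⟨x, hx⟩)
      show (s₀ : S) • π • x = 0
      rw [show s₀ = s x hx * c from hc, mul_comm, mul_smul, hs x hx, smul_zero]
    | zero => simp
    | add x y _ _ hx hy =>
      rename_i hxm hym
      have hx' : π ^ 2 • x = 0 := hT.le hxm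
      have hy' : π ^ 2 • y = 0 := hT.le hym
      rw [smul_add, smul_add, hx hx', hy hy', add_zero]
    | smul r x _ hx =>
      rename_i hxm
      rw [smul_comm π r x, smul_comm (s₀ : A) r, hx (hT.le hxm), smul_zero]
  obtain ⟨e, he⟩ := monotone_stabilizes_iff_noetherian.mpr (inferInstance : IsNoetherian A M)
    ⟨fun k => LinearMap.ker (LinearMap.lsmul A M ((s₀ : A) ^ k)), fun a b hab m hm => by
      obtain ⟨c, rfl⟩ := Nat.exists_eq_add_of_le hab
      simp only [LinearMap.mem_ker, LinearMap.lsmul_apply] at hm ⊢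
      rw [pow_add, mul_comm, mul_smul, hm, smul_zero]⟩
  have hstab : ∀ k, e ≤ k → ∀ m : M, (s₀ : A) ^ k • m = 0 → (s₀ : A) ^ e • m = 0 := fun k hk m hm => by
    have : LinearMap.ker (LinearMap.lsmul A M ((s₀ : A) ^ e)) =
      LinearMap.ker (LinearMap.lsmul A M ((s₀ : A) ^ k)) := he k hk
    show m ∈ LinearMap.ker (LinearMap.lsmul A M ((s₀ : A) ^ e))
    rw [this]
    exact hm
  refine ⟨(s₀ : A) ^ e, pow_mem s₀.2 e, fun n hn m hm => ?_⟩
  rw [← pow_mul] at hm ⊢
  rw [mul_pow, mul_comm, mul_smul] at hm
  have h1 := hs₀ _ hm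
  rw [smul_comm (s₀ : A) π, ← mul_smul (s₀ : A), ← pow_mul, ← pow_succ', smul_comm π] at h1
  have h2 := hstab _ (le_trans (Nat.le_mul_of_pos_right e hn) (by nlinarith)) _ h1
  obtain ⟨c, hc⟩ := Nat.exists_eq_add_of_le (Nat.le_mul_of_pos_right e hn)
  rw [mul_smul, hc, pow_add, mul_comm, mul_smul, h2, smul_zero]

end Groth.Agent.S6820
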