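import Groth.Statements.S6824
import Groth.Agent.H9Popescu.Inseparable
import Groth.Agent.H05EGA4.GeomRegular
import Groth.Agent.H06Red.Algebra
-- import your own Groth.Agent.* helpers here

set_option autoImplicit false
universe u
open Smoothing

namespace Groth.Agent.S6824

/-- Let k be a field of characteristic p > 0, A a finitely presented k-algebra, φ : A → Λ a k-algebra
map with Λ Noetherian and geometrically regular over k, and 𝔮 ⊆ Λ a prime minimal over the radical
of H_{A/k}Λ. Then k → A → Λ ⊇ 𝔮 can be resolved. -/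
theorem result {k A Λ : Type u} [Field k] (p : ℕ) [Fact p.Prime]
    [CharP k p] [CommRing A] [Algebra k A] [Algebra.FinitePresentation k A] [CommRing Λ] [Algebra k Λ]
    [IsNoetherianRing Λ] (hreg : CAlg.IsGeometricallyRegular k Λ) (φ : A →ₐ[k] Λ) (𝔮 : Ideal Λ)
    [𝔮.IsPrime] (hmin : 𝔮 ∈ (Smoothing.singRad k φ).minimalPrimes) : Smoothing.Resolvable k φ 𝔮 := by
  haveI : Module.Finite k k := Module.Finite.self k
  haveI : IsRegularRing (TensorProduct k k Λ) := hreg k inferInstance
  haveI : IsRegularRing Λ := IsRegularRing.of_ringEquiv (Algebra.TensorProduct.lid k Λ).toRingEquiv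
  haveI : IsRegularLocalRing (Localization.AtPrime 𝔮) := IsRegularRing.isRegularLocalRing_localization 𝔮
  by_cases hinf : Infinite (Λ ⧸ 𝔮)
  · exact H9Popescu.resolvable_inseparable p φ 𝔮 hmin (L := Localization.AtPrime 𝔮)
      (H05EGA4.exists_derivation_of_isAdicFormallySmooth
        (H05EGA4.isAdicFormallySmooth_localization_of_isGeometricallyRegular hreg 𝔮))
  · haveI : Finite (Λ ⧸ 𝔮) := not_infinite_iff_finite.mp hinf
    haveI : Finite k := Finite.of_injective (algebraMap k (Λ ⧸ 𝔮)) (algebraMap k (Λ ⧸ 𝔮)).injective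
    haveI : PerfectField k := inferInstance
    haveI : Algebra.IsGeometricallyReduced k 𝔮.ResidueField :=
      H06Red.isGeometricallyReduced_of_perfectField k 𝔮.ResidueField
    exact H9Popescu.resolvable_separable φ 𝔮 hmin

end Groth.Agent.S6824
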