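import Groth.Statements.S6825
import Groth.Agent.H9Popescu.EtaleApproximation
import Groth.Agent.S0600
-- import your own Groth.Agent.* helpers here

set_option autoImplicit false
universe u
open Smoothing

namespace Groth.Agent.S6825

/-- Let R be a Noetherian local ring with maximal ideal m which is a G-ring, R^ its m-adic completion,
and F₁, …, F_m polynomials in n variables over R having a solution a = (a₁, …, a_n) in R^. Then for
every N there are an étale R-algebra R', an R-algebra map ψ : R' → R^, a maximal ideal m' of R'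
lying over m with κ(m) = κ(m') and ψ(m') ⊆ mR^, and a solution b = (b₁, …, b_n) of the system in R'
with a_i − ψ(b_i) ∈ m^N R^ for all i. (The source compares a and b inside R^ through the
identification of R^ with the completion of R' at m'; here that comparison map is the R-algebra map
ψ.) -/
theorem result {R : Type u} [CommRing R] [IsLocalRing R] (hG : CAlg.IsGRing R)
    {n m : ℕ} (F : Fin m → MvPolynomial (Fin n) R)
    (a : Fin n → AdicCompletion (IsLocalRing.maximalIdeal R) R) (ha : ∀ j, MvPolynomial.aeval a (F j) = 0)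
    (N : ℕ) :
    ∃ (R' : Type u) (_ : CommRing R') (_ : Algebra R R'), Algebra.Etale R R' ∧
      ∃ (ψ : R' →ₐ[R] AdicCompletion (IsLocalRing.maximalIdeal R) R) (m' : Ideal R'), m'.IsMaximal ∧
        m'.comap (algebraMap R R') = IsLocalRing.maximalIdeal R ∧
        (∀ x : R', ∃ r : R, x - algebraMap R R' r ∈ m') ∧
        (∀ x ∈ m', ψ x ∈ (IsLocalRing.maximalIdeal R).map
          (algebraMap R (AdicCompletion (IsLocalRing.maximalIdeal R) R))) ∧
        ∃ b : Fin n → R', (∀ j, MvPolynomial.aeval b (F j) = 0) ∧
          ∀ i, a i - ψ (b i) ∈ (IsLocalRing.maximalIdeal R ^ N).map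
            (algebraMap R (AdicCompletion (IsLocalRing.maximalIdeal R) R)) := by
  haveI := hG.1
  haveI : IsNoetherianRing (AdicCompletion (IsLocalRing.maximalIdeal R) R) :=
    Groth.Agent.H05EGA4.isNoetherianRing_adicCompletion R _
  haveI := Groth.Agent.H9Popescu.henselianRing_completion_pow R N
  set mh : Ideal (AdicCompletion (IsLocalRing.maximalIdeal R) R) :=
    (IsLocalRing.maximalIdeal R).map (algebraMap R (AdicCompletion (IsLocalRing.maximalIdeal R) R)) with hmh
  have hres := Groth.Agent.H9Popescu.exists_sub_mem_completion_pow R (IsLocalRing.maximalIdeal R)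
    (IsNoetherian.noetherian _) (N + 1)
  obtain ⟨R', _, _, hR', ψ, b, hb, hab⟩ := Groth.Agent.H9Popescu.exists_etale_approximation
    (Groth.Agent.S0600.result R hG _) (mh ^ (N + 1)) (fun q => by
      obtain ⟨x, rfl⟩ := Ideal.Quotient.mk_surjective q
      obtain ⟨r, hr⟩ := hres x
      exact ⟨r, 1, by simp, by rw [map_one, one_mul]; exact Ideal.Quotient.eq.mpr hr⟩) F a ha
  have hle : mh ^ (N + 1) ≤ mh := Ideal.pow_le_self N.succ_ne_zero
  have hmh' : mh = IsLocalRing.maximalIdeal (AdicCompletion (IsLocalRing.maximalIdeal R) R) :=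
    (AdicCompletion.maximalIdeal_eq_map_of_fg (IsNoetherian.noetherian _)).symm
  have hcomap : ∀ r : R, algebraMap R R' r ∈ mh.comap ψ → r ∈ IsLocalRing.maximalIdeal R := fun r hr => by
    rw [Ideal.mem_comap, ψ.commutes, hmh'] at hr
    rw [IsLocalRing.mem_maximalIdeal, mem_nonunits_iff] at hr ⊢
    exact fun h => hr (h.map _)
  have hcomap' : ∀ r ∈ IsLocalRing.maximalIdeal R, algebraMap R R' r ∈ mh.comap ψ := fun r hr => by
    rw [Ideal.mem_comap, ψ.commutes]; exact Ideal.mem_map_of_mem _ hr
  have hx : ∀ x : R', ∃ r : R, x - algebraMap R R' r ∈ mh.comap ψ := fun x => by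
    obtain ⟨r, hr⟩ := hres (ψ x)
    exact ⟨r, by rw [Ideal.mem_comap, map_sub, ψ.commutes]; exact hle hr⟩
  have hm' : (mh.comap ψ).IsMaximal := by
    refine Ideal.isMaximal_iff.mpr ⟨fun h1 => ?_, fun K x hK hx' hxK => ?_⟩
    · rw [← map_one (algebraMap R R')] at h1
      exact (IsLocalRing.maximalIdeal.isMaximal R).ne_top ((Ideal.eq_top_iff_one _).mpr (hcomap 1 h1))
    · obtain ⟨r, hr⟩ := hx x
      have hu : IsUnit r := by
        by_contra h
        exact hx' (by simpa using add_mem hr (hcomap' r ((IsLocalRing.mem_maximalIdeal r).mpr h)))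
      obtain ⟨v, hv⟩ := hu.map (algebraMap R R')
      have h2 : algebraMap R R' r ∈ K := by simpa using sub_mem hxK (hK hr)
      rw [← hv] at h2
      rw [← Units.inv_mul v]
      exact K.mul_mem_left _ h2
  refine ⟨R', inferInstance, inferInstance, hR', ψ, mh.comap ψ, hm',
    le_antisymm (fun r hr => hcomap r hr) (fun r hr => hcomap' r hr), hx, fun x hx => hx, b, hb, fun i => ?_⟩
  rw [Ideal.map_pow]
  exact Ideal.pow_le_pow_right N.le_succ (hab i)

end Groth.Agent.S6825
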