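import Groth.Statements.S6830
import Groth.Agent.H9Popescu.DVRCase
import Groth.Agent.H9Popescu.Popescu
-- import your own Groth.Agent.* helpers here

set_option autoImplicit false
universe u
open Smoothing

namespace Groth.Agent.S6830

/-- Let R ⊆ Λ be an extension of discrete valuation rings (an injective local homomorphism) of
ramification index 1, i.e. m_R Λ = m_Λ, inducing separable (geometrically reduced) extensions of
residue fields and of fraction fields K ⊆ L. Then Λ is a filtered colimit of smooth R-algebras, in
the factorization form: every R-algebra map A → Λ with A finitely presented over R factors through a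
smooth R-algebra. -/
theorem result {R Λ K L : Type u} [CommRing R] [IsDomain R]
    [IsDiscreteValuationRing R] [CommRing Λ] [IsDomain Λ] [IsDiscreteValuationRing Λ] [Algebra R Λ]
    [NoZeroSMulDivisors R Λ] [IsLocalHom (algebraMap R Λ)]
    (he : (IsLocalRing.maximalIdeal R).map (algebraMap R Λ) = IsLocalRing.maximalIdeal Λ)
    [Algebra.IsGeometricallyReduced (IsLocalRing.ResidueField R) (IsLocalRing.ResidueField Λ)]
    [Field K] [Algebra R K] [IsFractionRing R K] [Field L] [Algebra Λ L] [IsFractionRing Λ L]
    [Algebra K L] [Algebra R L] [IsScalarTower R K L] [IsScalarTower R Λ L]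
    [Algebra.IsGeometricallyReduced K L] :
    Smoothing.IndSmooth R Λ := by
  exact Groth.Agent.H9Popescu.popescu (Groth.Agent.H9Popescu.isRegularHom_of_discreteValuationRing (K := K) (L := L)
    (fun a b h => by
      by_contra hne
      have h1 : (a - b) • (1 : Λ) = 0 := by
        rw [Algebra.smul_def, mul_one, map_sub, h, sub_self]
      rcases eq_zero_or_eq_zero_of_smul_eq_zero h1 with h2 | h2
      · exact hne (sub_eq_zero.1 h2)
      · exact one_ne_zero h2) he)

end Groth.Agent.S6830
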