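import Groth.Statements.S6834
import Groth.Agent.H15Site.ColimSect

set_option autoImplicit false
set_option linter.style.haveILetI false
set_option backward.isDefEq.respectTransparency false
universe u
open CategoryTheory CategoryTheory.Limits TopologicalSpace
open ModSite

namespace Groth.Agent.S6834

open Groth.Agent.H15Site Groth.Agent.H15Site.ModTensor Groth.Agent.H15Site.LocPres in
attribute [local instance 10000] SiteInst.hasSheafifySite SiteInst.hasWeakSheafifySite in
theorem exists_epi {X : TopCat.{u}} {O : TopCat.Sheaf CommRingCat.{u} X}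
    [CompactSpace X] {I : Type u} [Preorder I] [Nonempty I] [IsDirected I (· ≤ ·)] {D : I ⥤ ModSite.Mod O}
    {c : Cocone D} (hc : IsColimit c) [SheafOfModules.IsFiniteType (R := ModSite.ringSh O) c.pt] :
    ∃ i : I, Epi (c.ι.app i) := by
  classical
  have hlh : LH (Opens.grothendieckTopology X) (fun W => ∃ i : I, ∀ ⦃V : Opens X⦄ (_ : V ⟶ W)
      (t : ((forg O).obj c.pt).obj (Opposite.op V)), ∀ j, i ≤ j → ∃ S ∈ Opens.grothendieckTopology X V,
        ∀ ⦃V' : Opens X⦄ (h : V' ⟶ V), S h → ∃ z : ((forg O).obj (D.obj j)).obj (Opposite.op V'),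
          ((c.ι.app j).val.app (Opposite.op V')).hom z = rs ((forg O).obj c.pt) h.op t) := by
    refine lh_bind (lh_fg c.pt) ?_
    rintro W ⟨K, hK, s, hs⟩
    choose S hS hS' using fun k => ColimSect.exists_local_rep hc (s k)
    obtain ⟨T, hT, hle⟩ := exists_common S hS
    refine ⟨T, hT, fun W' a ha => ?_⟩
    choose st y hy using fun k => hS' k a (hle k _ ha)
    obtain ⟨i, hi⟩ := Finite.exists_le st
    refine ⟨i, fun V g t j hj => ?_⟩
    obtain ⟨A, hA, hA'⟩ := (hs.restrict a) g t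
    refine ⟨A, hA, fun V' h hh => ?_⟩
    obtain ⟨r, hr⟩ := hA' h hh
    refine ⟨∑ k, r k • rs ((forg O).obj (D.obj j)) (h ≫ g).op
      (((D.map (homOfLE ((hi k).trans hj))).val.app (Opposite.op W')).hom (y k)), ?_⟩
    rw [hr, app_sum_smul]
    refine Finset.sum_congr rfl fun k _ => congrArg (r k • ·) ?_
    refine (app_rs (c.ι.app j) _ _).trans (congrArg _ ?_)
    refine Eq.trans ?_ (hy k)
    exact congrArg (fun ψ : D.obj (st k) ⟶ c.pt => (ψ.val.app (Opposite.op W')).hom (y k))
      (c.w (homOfLE ((hi k).trans hj)))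
  obtain ⟨R, hR, hR'⟩ := hlh ⊤
  choose V f hf hx using fun x : X => hR x trivial
  obtain ⟨F, hF⟩ := isCompact_univ.elim_finite_subcover (fun x => (V x : Set X)) (fun x => (V x).2)
    fun x _ => Set.mem_iUnion.2 ⟨x, hx x⟩
  choose i hi using fun x => hR' (f x) (hf x)
  obtain ⟨j, hj⟩ := Finite.exists_le fun x : F => i x.1
  refine ⟨j, (LocGen.epi_iff_locSurj _).2 fun U t => ⟨⟨fun W g => ∃ z : ((forg O).obj (D.obj j)).obj
    (Opposite.op W), ((c.ι.app j).val.app (Opposite.op W)).hom z = rs ((forg O).obj c.pt) g.op t,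
      fun {W W' g} ⟨z, hz⟩ h => ⟨rs ((forg O).obj (D.obj j)) h.op z,
        (app_rs (c.ι.app j) h.op z).trans ((congrArg _ hz).trans
          ((rs_rs _ _ _ _).trans (by rw [← op_comp]; rfl)))⟩⟩,
    fun x hxU => ?_, fun W g hg => hg⟩⟩
  obtain ⟨p, hp, hxp⟩ := Set.mem_iUnion₂.1 (hF (Set.mem_univ x))
  obtain ⟨S, hS, hS'⟩ := hi p (homOfLE (inf_le_right : U ⊓ V p ≤ V p))
    (rs ((forg O).obj c.pt) (homOfLE (inf_le_left : U ⊓ V p ≤ U)).op t) j (hj ⟨p, hp⟩)
  obtain ⟨W, h, hh, hxW⟩ := hS x ⟨hxU, hxp⟩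
  obtain ⟨z, hz⟩ := hS' h hh
  exact ⟨W, h ≫ homOfLE inf_le_left, ⟨z, hz.trans ((rs_rs _ _ _ _).trans (by rw [← op_comp]))⟩, hxW⟩

/-- Let (X, O) be a ringed space with X quasi-compact, I a directed preordered set (nonempty, with upper
bounds for pairs), (F_i) a system of O-modules over I and F = colim F_i. If F is of finite type then
F_i → F is surjective for some i; if moreover all transition maps are injective then F_i → F is an
isomorphism for some i. -/
theorem result {X : TopCat.{u}} (O : TopCat.Sheaf CommRingCat.{u} X)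
    [CompactSpace X] {I : Type u} [Preorder I] [Nonempty I] [IsDirected I (· ≤ ·)] (D : I ⥤ ModSite.Mod O)
    (c : Cocone D) (hc : IsColimit c) [SheafOfModules.IsFiniteType (R := ModSite.ringSh O) c.pt] :
    (∃ i : I, Epi (c.ι.app i)) ∧
      ((∀ (i j : I) (f : i ⟶ j), Mono (D.map f)) → ∃ i : I, IsIso (c.ι.app i)) := by
  obtain ⟨i, hi⟩ := exists_epi hc
  refine ⟨⟨i, hi⟩, fun hD => ⟨i, ?_⟩⟩
  haveI := hi
  haveI := Groth.Agent.H15Site.ColimSect.mono_ι hc (fun {a b} f => hD a b f) i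
  exact isIso_of_mono_of_epi _

end Groth.Agent.S6834
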