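import Groth.Statements.S6836
import Groth.Agent.H15Site.StalkRank

set_option autoImplicit false
universe u
open CategoryTheory CategoryTheory.Limits TopologicalSpace
open ModSite

open Opposite Groth.Agent.H15Site Groth.Agent.H15Site.StalkFree
set_option linter.style.haveILetI false
set_option backward.isDefEq.respectTransparency false
attribute [local instance 10000] SiteInst.hasSheafifySite SiteInst.hasWeakSheafifySite

namespace Groth.Agent.S6836

/-- On a ringed space (X, O), let r ≥ 0 and let φ : F → G be a map of O-modules which are both finite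
locally free of rank r (every point has an open neighbourhood U with F|_U ≅ O_U^r, the free
O_U-module on r generators, and likewise for G). Then φ is an isomorphism if and only if it is
surjective. -/
theorem result {X : TopCat.{u}} (O : TopCat.Sheaf CommRingCat.{u} X) (r : ℕ)
    {F G : ModSite.Mod O}
    (hF : ∀ x : X, ∃ U : Opens X, x ∈ U ∧
      Nonempty ((ModSite.restr O U).obj F ≅ SheafOfModules.free (ULift.{u} (Fin r))))
    (hG : ∀ x : X, ∃ U : Opens X, x ∈ U ∧
      Nonempty ((ModSite.restr O U).obj G ≅ SheafOfModules.free (ULift.{u} (Fin r))))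
    (φ : F ⟶ G) : IsIso φ ↔ Epi φ := by
  refine ⟨fun _ => inferInstance, fun _ => isIso_of_stalk_bijective φ fun x => ?_⟩
  obtain ⟨U, hxU, hU⟩ := hF x
  obtain ⟨V, hxV, hV⟩ := hG x
  obtain ⟨f, hf1, hf2⟩ := free_iff_fin.1 hU
  obtain ⟨g, hg1, hg2⟩ := free_iff_fin.1 hV
  exact bijective_of_surjective_of_basis
    (stalkBasis (Opens.pointGrothendieckTopology x) (mk hxU) hf1 hf2)
    (stalkBasis (Opens.pointGrothendieckTopology x) (mk hxV) hg1 hg2) _
    (surjective_stalkMap φ _)

end Groth.Agent.S6836
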