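import Groth.Statements.S6840
import Groth.Agent.H15Site.HomGlue
import Mathlib.CategoryTheory.Limits.Types.Filtered

set_option autoImplicit false
set_option linter.style.haveILetI false
set_option backward.isDefEq.respectTransparency false
universe u
open CategoryTheory CategoryTheory.Limits TopologicalSpace
open ModSite

namespace Groth.Agent.S6840

open Groth.Agent.H15Site Groth.Agent.H15Site.ModTensor Groth.Agent.H15Site.LocPres

attribute [local instance 10000] SiteInst.hasSheafifySite SiteInst.hasWeakSheafifySite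

variable {X : TopCat.{u}}

theorem exists_finite_cover
    (hX : ∀ (ι : Type u) (V : ι → Opens X), iSup V = ⊤ →
      ∃ (J : Type u) (_ : Finite J) (U : J → Opens X), iSup U = ⊤ ∧ (∀ j, ∃ i, U j ≤ V i) ∧
        ∀ j j', IsCompact ((U j ⊓ U j' : Opens X) : Set X))
    {R : Sieve (⊤ : Opens X)} (hR : R ∈ Opens.grothendieckTopology X ⊤) :
    ∃ (κ : Type u) (_ : Finite κ) (U : κ → Opens X), (Opens.grothendieckTopology X).CoversTop U ∧
      (∀ k, R.arrows (homOfLE (le_top : U k ≤ ⊤))) ∧
      ∀ k l, IsCompact ((U k ⊓ U l : Opens X) : Set X) := by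
  obtain ⟨κ, hκ, U, hU, hle, hc⟩ := hX (Σ' (V : Opens X) (f : V ⟶ ⊤), R f) (fun z => z.1)
    (eq_top_iff.2 fun x _ => by
      obtain ⟨V, f, hf, hx⟩ := hR x trivial
      exact Opens.mem_iSup.2 ⟨⟨V, f, hf⟩, hx⟩)
  refine ⟨κ, hκ, U, (Opens.coversTop_iff _ _).2 hU, fun k => ?_, hc⟩
  obtain ⟨⟨V, f, hf⟩, hk⟩ := hle k
  exact R.downward_closed hf (homOfLE hk)

theorem preserves {O : TopCat.Sheaf CommRingCat.{u} X}
    (hX : ∀ (ι : Type u) (V : ι → Opens X), iSup V = ⊤ →
      ∃ (J : Type u) (_ : Finite J) (U : J → Opens X), iSup U = ⊤ ∧ (∀ j, ∃ i, U j ≤ V i) ∧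
        ∀ j j', IsCompact ((U j ⊓ U j' : Opens X) : Set X))
    {I : Type u} [Preorder I] [Nonempty I] [IsDirected I (· ≤ ·)] (D : I ⥤ ModSite.Mod O)
    (G : ModSite.Mod O) [SheafOfModules.IsFinitePresentation (R := ModSite.ringSh O) G] :
    PreservesColimit D (coyoneda.obj (Opposite.op G)) := by
  classical
  refine ⟨fun {c} hc => ⟨Types.FilteredColimit.isColimitOf _ _ ?_ ?_⟩⟩
  · intro φ
    change G ⟶ c.pt at φ
    obtain ⟨R, hR, hR'⟩ : ∃ R ∈ Opens.grothendieckTopology X (⊤ : Opens X),
        ∀ ⦃W : Opens X⦄ (a : W ⟶ ⊤), R.arrows a → ∃ (i : I)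
          (ψ : (ModSite.restr O W).obj G ⟶ (ModSite.restr O W).obj (D.obj i)),
          ψ ≫ (ModSite.restr O W).map (c.ι.app i) = SitePerfLift.tr a ((ModSite.restr O ⊤).map φ) :=
      LocHom.exists_local_lift hc ((ModSite.restr O ⊤).map φ)
    obtain ⟨κ, _, U, hU, hUR, hUc⟩ := exists_finite_cover hX hR
    choose st ψ hψ using fun k => hR' _ (hUR k)
    obtain ⟨i, hi⟩ := Finite.exists_le st
    let ψ' : ∀ k, (ModSite.restr O (U k)).obj G ⟶ (ModSite.restr O (U k)).obj (D.obj i) := fun k =>
      ψ k ≫ (ModSite.restr O (U k)).map (D.map (homOfLE (hi k)))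
    have hψ' : ∀ k, ψ' k ≫ (ModSite.restr O (U k)).map (c.ι.app i) =
        (ModSite.restr O (U k)).map φ := fun k => by
      rw [Category.assoc, ← Functor.map_comp, c.w, hψ k, SitePerfLift.tr_map]
    have hpair : ∀ k l, ∃ j, ∀ j', j ≤ j' → ∃ f : i ⟶ j',
        SitePerfLift.tr (homOfLE (inf_le_left : U k ⊓ U l ≤ U k))
          (ψ' k ≫ (ModSite.restr O _).map (D.map f)) =
        SitePerfLift.tr (homOfLE (inf_le_right : U k ⊓ U l ≤ U l))
          (ψ' l ≫ (ModSite.restr O _).map (D.map f)) := by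
      intro k l
      obtain ⟨S, hS, hS'⟩ := LocHom.exists_local_eq hc
        (SitePerfLift.tr (homOfLE (inf_le_left : U k ⊓ U l ≤ U k)) (ψ' k))
        (SitePerfLift.tr (homOfLE (inf_le_right : U k ⊓ U l ≤ U l)) (ψ' l)) (by
          have key : ∀ (n : κ) (p : U k ⊓ U l ⟶ U n),
              SitePerfLift.tr p (ψ' n) ≫ (ModSite.restr O _).map (c.ι.app i) =
                (ModSite.restr O (U k ⊓ U l)).map φ := fun n p =>
            (congrArg (SitePerfLift.tr p (ψ' n) ≫ ·) (SitePerfLift.tr_map p (c.ι.app i)).symm).trans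
              ((SitePerfLift.tr_comp p _ _).symm.trans
                ((congrArg (SitePerfLift.tr p) (hψ' n)).trans (SitePerfLift.tr_map p φ)))
          exact (key k _).trans (key l _).symm)
      choose V a ha hxV using fun x : {x : X // x ∈ U k ⊓ U l} => hS x.1 x.2
      obtain ⟨F, hF⟩ := (hUc k l).elim_finite_subcover (fun x => (V x : Set X)) (fun x => (V x).2)
        fun x hx => Set.mem_iUnion.2 ⟨⟨x, hx⟩, hxV ⟨x, hx⟩⟩
      choose st' f' hf' using fun x => hS' (a x) (ha x)
      obtain ⟨j, hj⟩ := Finite.exists_le (fun x : Option F => x.elim i fun x => st' x.1)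
      refine ⟨j, fun j' hj' => ⟨homOfLE ((hj none).trans hj'), ?_⟩⟩
      refine HomGlue.isSeparated_homP (J := Opens.grothendieckTopology X)
        (S := Sieve.ofArrows (fun x : F => V x.1) (fun x => a x.1)) ?_ _ _ ?_
      · intro x hx
        obtain ⟨y, hy, hxy⟩ := Set.mem_iUnion₂.1 (hF hx)
        exact ⟨V y, a y, Sieve.ofArrows_mk (fun x : F => V x.1) (fun x => a x.1) ⟨y, hy⟩, hxy⟩
      · rintro W _ ⟨_, b, _, ⟨x⟩, rfl⟩
        have e := congrArg (fun χ => SitePerfLift.tr b
          (χ ≫ (ModSite.restr O _).map (D.map (homOfLE ((hj (some x)).trans hj'))))) (hf' x.1)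
        simp only [Category.assoc, ← Functor.map_comp, ← D.map_comp, SitePerfLift.tr_comp,
          SitePerfLift.tr_map] at e ⊢
        rw [Subsingleton.elim (homOfLE ((hj none).trans hj'))
          (f' x.1 ≫ homOfLE ((hj (some x)).trans hj'))]
        exact e
    choose j hj using hpair
    obtain ⟨m, hm⟩ := Finite.exists_le (fun z : Option (κ × κ) => z.elim i fun z => j z.1 z.2)
    obtain ⟨χ, hχ⟩ := HomGlue.exists_hom_coversTop hU
      (fun k => ψ' k ≫ (ModSite.restr O (U k)).map (D.map (homOfLE (hm none)))) fun W k l p q => by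
      obtain ⟨f, hf⟩ := hj k l m (hm (some (k, l)))
      have e := congrArg (fun χ => SitePerfLift.tr (homOfLE (le_inf p.le q.le) : W ⟶ U k ⊓ U l) χ) hf
      rw [Subsingleton.elim f (homOfLE (hm none))] at e
      exact e
    refine ⟨m, χ, HomGlue.hom_ext_coversTop hU fun k => ?_⟩
    change (ModSite.restr O (U k)).map φ = (ModSite.restr O (U k)).map (χ ≫ c.ι.app m)
    rw [Functor.map_comp, hχ, Category.assoc, ← Functor.map_comp, c.w, hψ' k]
  · intro i j φ ψ h
    change G ⟶ D.obj i at φ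
    change G ⟶ D.obj j at ψ
    change φ ≫ c.ι.app i = ψ ≫ c.ι.app j at h
    obtain ⟨i', hi, hj⟩ := directed_of (· ≤ ·) i j
    obtain ⟨R, hR, hR'⟩ := LocHom.exists_local_eq hc
      ((ModSite.restr O ⊤).map (φ ≫ D.map (homOfLE hi)))
      ((ModSite.restr O ⊤).map (ψ ≫ D.map (homOfLE hj))) (by
        rw [← Functor.map_comp, ← Functor.map_comp, Category.assoc, Category.assoc, c.w, c.w, h])
    obtain ⟨κ, _, U, hU, hUR, -⟩ := exists_finite_cover hX hR
    choose st f hf using fun k => hR' _ (hUR k)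
    obtain ⟨m, hm⟩ := Finite.exists_le (fun z : Option κ => z.elim i' st)
    refine ⟨m, homOfLE (hi.trans (hm none)), homOfLE (hj.trans (hm none)),
      HomGlue.hom_ext_coversTop hU fun k => ?_⟩
    change (ModSite.restr O (U k)).map (φ ≫ D.map _) = (ModSite.restr O (U k)).map (ψ ≫ D.map _)
    have e := congrArg (fun χ => χ ≫ (ModSite.restr O _).map (D.map (homOfLE (hm (some k))))) (hf k)
    simp only [SitePerfLift.tr_map, ← Functor.map_comp, Category.assoc, ← D.map_comp] at e
    rw [Subsingleton.elim (homOfLE hi ≫ f k ≫ homOfLE (hm (some k))) (homOfLE (hi.trans (hm none))),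
      Subsingleton.elim (homOfLE hj ≫ f k ≫ homOfLE (hm (some k))) (homOfLE (hj.trans (hm none)))] at e
    exact e

/-- Let (X, O) be a ringed space such that every open covering of X is refined by a finite open covering
X = ⋃ U_j whose pairwise intersections U_j ∩ U_{j'} are quasi-compact. Let I be a directed
preordered set (nonempty, with upper bounds), (F_i) a system of O-modules over I, and G an O-module
of finite presentation. Then colim_i Hom(G, F_i) → Hom(G, colim_i F_i) is bijective, i.e. Hom(G, −)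
preserves the colimit of the system. -/
theorem result {X : TopCat.{u}} (O : TopCat.Sheaf CommRingCat.{u} X)
    (hX : ∀ (ι : Type u) (V : ι → Opens X), iSup V = ⊤ →
      ∃ (J : Type u) (_ : Finite J) (U : J → Opens X), iSup U = ⊤ ∧ (∀ j, ∃ i, U j ≤ V i) ∧
        ∀ j j', IsCompact ((U j ⊓ U j' : Opens X) : Set X))
    {I : Type u} [Preorder I] [Nonempty I] [IsDirected I (· ≤ ·)] (D : I ⥤ ModSite.Mod O)
    (G : ModSite.Mod O) [SheafOfModules.IsFinitePresentation (R := ModSite.ringSh O) G] :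
    PreservesColimit D (coyoneda.obj (Opposite.op G)) := by
  exact preserves hX D G

end Groth.Agent.S6840
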