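import Groth.Statements.S6841
import Groth.Agent.H9Popescu.SmoothPoint
import Groth.Agent.H02CA.SmoothRegular
import Groth.Agent.H4Depth.Regular
-- import your own Groth.Agent.* helpers here

set_option autoImplicit false
universe u
open Smoothing

namespace Groth.Agent.S6841


open MvPolynomial TensorProduct IsLocalRing

/-- Variant of `H9Smooth.exists_minor_of_isSmoothAt` with prescribed rows. -/
theorem exists_mul_mem_of_rows {R A : Type u} [CommRing R] [CommRing A] [Algebra R A] {n m c : ℕ}
    (f : Fin m → MvPolynomial (Fin n) R) (φ : MvPolynomial (Fin n) R →ₐ[R] A) (hφ : Function.Surjective φ)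
    (hker : RingHom.ker φ = Ideal.span (Set.range f)) (q : Ideal A) [q.IsPrime] [Algebra.IsSmoothAt R q]
    (rows : Fin c → Fin m) (μ : MvPolynomial (Fin n) R) (hμ : φ μ ∉ q)
    (lam : Fin m → Fin c → MvPolynomial (Fin n) R)
    (hrel : ∀ l i, φ (μ * pderiv i (f l) - ∑ a, lam l a * pderiv i (f (rows a))) ∈ q) :
    ∃ r : MvPolynomial (Fin n) R, φ r ∉ q ∧ ∀ x ∈ RingHom.ker φ, r * x ∈ Ideal.span (Set.range (f ∘ rows)) := by
  classical
  have hfgK : (RingHom.ker φ).FG := ⟨Finset.univ.image f, by simp [hker]⟩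
  haveI : Algebra.FinitePresentation R A := Algebra.FinitePresentation.of_surjective hφ hfgK
  obtain ⟨g₀, hg₀, hsm⟩ := Algebra.IsSmoothAt.exists_notMem_smooth R q
  obtain ⟨g, rfl⟩ := hφ g₀
  obtain ⟨N, k, hk, hspl⟩ := Groth.Agent.H9Smooth.exists_splitting φ hφ hfgK g
  let P := MvPolynomial (Fin n) R
  let Q : Ideal P := q.comap φ
  have hKQ : RingHom.ker φ ≤ Q := fun x hx => by
    show φ x ∈ q
    rw [show φ x = 0 from hx]; exact zero_mem _
  let J := Ideal.span (Set.range (f ∘ rows))
  have hrows : ∀ a, f (rows a) ∈ J := fun a => Ideal.subset_span ⟨a, rfl⟩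
  have hf : ∀ l, f l ∈ RingHom.ker φ := fun l => hker ▸ Ideal.subset_span ⟨l, rfl⟩
  have hJK : J ≤ RingHom.ker φ := Ideal.span_le.mpr (Set.range_subset_iff.mpr fun a => hf _)
  have hb : μ * g ^ N ∉ Q := fun h => (Ideal.IsPrime.mem_or_mem inferInstance h).elim hμ
    fun h' => hg₀ (show g ∈ Q from Ideal.IsPrime.mem_of_pow_mem inferInstance N h')
  have h0 : ∀ l, μ * g ^ N * f l ∈ J ⊔ Q * RingHom.ker φ := by
    intro l
    let y := μ * f l - ∑ a, lam l a * f (rows a)
    have hy : y ∈ RingHom.ker φ :=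
      sub_mem (Ideal.mul_mem_left _ _ (hf l)) (Ideal.sum_mem _ fun a _ => Ideal.mul_mem_left _ _ (hf _))
    have hyQ : ∀ i, pderiv i y ∈ Q := fun i => by
      have e : pderiv i y = (μ * pderiv i (f l) - ∑ a, lam l a * pderiv i (f (rows a))) +
          (pderiv i μ * f l - ∑ a, pderiv i (lam l a) * f (rows a)) := by
        simp only [y, map_sub, map_sum, Derivation.leibniz, smul_eq_mul, Finset.sum_add_distrib, mul_comm (f (rows _))]; ring
      rw [e]
      exact add_mem (hrel l i) (hKQ (sub_mem (Ideal.mul_mem_left _ _ (hf l))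
        (Ideal.sum_mem _ fun a _ => Ideal.mul_mem_left _ _ (hf _))))
    have hgy : g ^ N * y ∈ Q * RingHom.ker φ := by
      have h3 := hspl y hy
      rw [pow_two] at h3
      rw [← sub_add_cancel (g ^ N * y) (∑ i, pderiv i y * k i)]
      exact add_mem (Ideal.mul_mono_left hKQ h3)
        (Ideal.sum_mem _ fun i _ => Ideal.mul_mem_mul (hyQ i) (hk i))
    rw [show μ * g ^ N * f l = g ^ N * y + g ^ N * ∑ a, lam l a * f (rows a) by simp only [y]; ring]
    exact add_mem (Ideal.mem_sup_right hgy)
      (Ideal.mem_sup_left (Ideal.mul_mem_left _ _ (Ideal.sum_mem _ fun a _ => Ideal.mul_mem_left _ _ (hrows a))))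
  have h1 : ∀ x ∈ RingHom.ker φ, μ * g ^ N * x ∈ J ⊔ Q * RingHom.ker φ := by
    intro x hx
    rw [hker] at hx
    induction hx using Submodule.span_induction with
    | mem y hy => obtain ⟨l, rfl⟩ := hy; exact h0 l
    | zero => simp
    | add x y _ _ hx hy => rw [mul_add]; exact add_mem hx hy
    | smul r x _ hx => rw [smul_eq_mul, mul_left_comm]; exact Ideal.mul_mem_left _ _ hx
  obtain ⟨r, hr, hrK⟩ := Groth.Agent.H9Smooth.exists_notMem_mul_mem (RingHom.ker φ) J Q hfgK _ hb h1
  exact ⟨r, fun h => hr h, hrK⟩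

/-- If `Λ ⊗ Ω` is projective, the relations have a Jacobian with an invertible minor through which all
rows factor. -/
theorem exists_rows_of_projective {R A Λ : Type u} [CommRing R] [CommRing A] [Algebra R A] [CommRing Λ]
    [IsLocalRing Λ] [Algebra A Λ] [Module.Projective Λ (Λ ⊗[A] Ω[A⁄R])] {n m : ℕ}
    (f : Fin m → MvPolynomial (Fin n) R) (φ : MvPolynomial (Fin n) R →ₐ[R] A) (hφ : Function.Surjective φ)
    (hker : RingHom.ker φ = Ideal.span (Set.range f)) :
    ∃ (c : ℕ) (rows : Fin c ↪ Fin m) (cols : Fin c ↪ Fin n),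
      IsUnit (algebraMap A Λ (φ (Smoothing.jacobianMinor f rows cols))) ∧
      ∀ l, (fun i => algebraMap A Λ (φ (pderiv i (f l)))) ∈
        Submodule.span Λ (Set.range fun a i => algebraMap A Λ (φ (pderiv i (f (rows a))))) := by
  classical
  let ψ : MvPolynomial (Fin n) R →+* Λ := (algebraMap A Λ).comp φ.toRingHom
  let v : Fin m → (Fin n → Λ) := fun l i => ψ (pderiv i (f l))
  let N : Submodule Λ (Fin n → Λ) := Submodule.span Λ (Set.range v)
  let D : Derivation R A Ω[A⁄R] := KaehlerDifferential.D R A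
  have hchain : ∀ p, D (φ p) = ∑ i, φ (pderiv i p) • D (φ (X i)) := by
    intro p
    induction p using MvPolynomial.induction_on with
    | C r => simp [AlgHom.commutes, ← MvPolynomial.algebraMap_eq]
    | add p q hp hq => simp only [map_add, hp, hq, add_smul, Finset.sum_add_distrib]
    | mul_X p j hp =>
      rw [map_mul, Derivation.leibniz, hp]
      simp [Finset.smul_sum, smul_smul, pderiv_X, Pi.single_apply, apply_ite φ, ite_smul, add_smul, Finset.sum_add_distrib, add_comm, mul_comm]
  let Φ : (Fin n → Λ) →ₗ[Λ] Λ ⊗[A] Ω[A⁄R] :=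
    Fintype.linearCombination Λ (fun i => (1 : Λ) ⊗ₜ[A] D (φ (X i)))
  have hΦv : ∀ l, Φ (v l) = 0 := by
    intro l
    have h1 := hchain (f l)
    rw [show φ (f l) = 0 from (hker.ge (Ideal.subset_span ⟨l, rfl⟩) : f l ∈ RingHom.ker φ), map_zero] at h1
    simp only [Φ, Fintype.linearCombination_apply, v, ψ, RingHom.comp_apply]
    calc _ = ∑ i, (1 : Λ) ⊗ₜ[A] (φ (pderiv i (f l)) • D (φ (X i))) := Finset.sum_congr rfl fun i _ => by
          rw [TensorProduct.tmul_smul]; exact (algebraMap_smul Λ (φ (pderiv i (f l))) _)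
      _ = 0 := by rw [← TensorProduct.tmul_sum, ← h1, TensorProduct.tmul_zero]
  let grad : MvPolynomial (Fin n) R → (Fin n → Λ) ⧸ N := fun p => N.mkQ (fun i => ψ (pderiv i p))
  have hgadd : ∀ p q, grad (p + q) = grad p + grad q := fun p q => by
    simp only [grad, ← map_add]; congr 1; funext i; simp
  have hψ : ∀ p q : MvPolynomial (Fin n) R, grad (p * q) = ψ p • grad q + ψ q • grad p := fun p q => by
    simp only [grad, ← map_smul, ← map_add]; congr 1; funext i
    simp [mul_comm, add_comm]
  have hkerg : ∀ p, φ p = 0 → grad p = 0 := by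
    intro p hp
    have hp' : p ∈ Ideal.span (Set.range f) := hker.le hp
    clear hp
    induction hp' using Submodule.span_induction with
    | mem y hy => obtain ⟨l, rfl⟩ := hy; exact (Submodule.Quotient.mk_eq_zero N).mpr (Submodule.subset_span ⟨l, rfl⟩)
    | zero => simp only [grad, map_zero]; exact map_zero _
    | add x y _ _ hx hy => rw [hgadd, hx, hy, add_zero]
    | smul r x hxm hx =>
      have : ψ x = 0 := by
        show algebraMap A Λ (φ x) = 0
        rw [show φ x = 0 from hker.ge hxm, map_zero]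
      rw [smul_eq_mul, hψ, hx, this, smul_zero, zero_smul, add_zero]
  choose sec hsec using hφ
  have hgr : ∀ p, grad (sec (φ p)) = grad p := fun p => by
    have h := hkerg (sec (φ p) - p) (by rw [map_sub, hsec, sub_self])
    rw [show sec (φ p) = (sec (φ p) - p) + p by abel, hgadd, h, zero_add]
  letI : Module R ((Fin n → Λ) ⧸ N) := Module.compHom _ (algebraMap R A)
  haveI : IsScalarTower R A ((Fin n → Λ) ⧸ N) := IsScalarTower.of_algebraMap_smul fun r x => rfl
  let lin : A →ₗ[R] (Fin n → Λ) ⧸ N :=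
    { toFun := fun a => grad (sec a)
      map_add' := fun a b => by
        rw [← hgadd, ← hgr (sec a + sec b), map_add, hsec, hsec]
      map_smul' := fun r a => by
        rw [RingHom.id_apply, show r • grad (sec a) = algebraMap R A r • grad (sec a) from rfl, ← algebraMap_smul Λ (algebraMap R A r) (grad (sec a))]
        have e : r • a = φ (MvPolynomial.C r * sec a) := by
          rw [map_mul, hsec, ← MvPolynomial.algebraMap_eq, AlgHom.commutes, Algebra.smul_def]
        rw [e, hgr, hψ]
        simp [grad, ψ, ← MvPolynomial.algebraMap_eq]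
        rw [show (fun _ : Fin n => (0 : Λ)) = 0 from rfl, Submodule.Quotient.mk_zero, smul_zero] }
  let Dn : Derivation R A ((Fin n → Λ) ⧸ N) := Derivation.mk' lin fun a b => by
    show grad (sec (a * b)) = a • grad (sec b) + b • grad (sec a)
    rw [show a * b = φ (sec a * sec b) by rw [map_mul, hsec, hsec], hgr, hψ, ← algebraMap_smul Λ a (grad (sec b)),
      ← algebraMap_smul Λ b (grad (sec a))]
    simp [ψ, hsec]
  let G : Λ ⊗[A] Ω[A⁄R] →ₗ[Λ] (Fin n → Λ) ⧸ N := Dn.liftKaehlerDifferential.liftBaseChange Λ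
  have hGΦ : ∀ x, G (Φ x) = N.mkQ x := by
    intro x
    simp only [Φ, Fintype.linearCombination_apply, map_sum, map_smul, G, LinearMap.liftBaseChange_tmul, one_smul, D,
      Derivation.liftKaehlerDifferential_comp_D]
    conv_rhs => rw [pi_eq_sum_univ' x, map_sum]
    refine Finset.sum_congr rfl fun i _ => ?_
    rw [map_smul]
    congr 1
    show grad (sec (φ (X i))) = _
    rw [hgr]
    show N.mkQ _ = N.mkQ _
    congr 1
    funext j
    by_cases h : j = i
    · subst h; simp [ψ]
    · simp [ψ, pderiv_X_of_ne (Ne.symm h), Pi.single_eq_of_ne h]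
  obtain ⟨s, hs⟩ := Module.projective_lifting_property N.mkQ G (Submodule.mkQ_surjective N)
  let ρ : (Fin n → Λ) →ₗ[Λ] (Fin n → Λ) := LinearMap.id - s ∘ₗ Φ
  have hρN : ∀ x, ρ x ∈ N := fun x => by
    rw [← Submodule.Quotient.mk_eq_zero N, ← Submodule.mkQ_apply]
    have := LinearMap.congr_fun hs (Φ x)
    simp only [LinearMap.comp_apply] at this
    show N.mkQ (x - s (Φ x)) = 0
    rw [map_sub, this, hGΦ, sub_self]
  have hρid : ∀ x ∈ N, ρ x = x := by
    intro x hx
    have : Φ x = 0 := (Submodule.span_le.mpr (Set.range_subset_iff.mpr fun l => hΦv l) :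
      N ≤ LinearMap.ker Φ) hx
    simp [ρ, this]
  obtain ⟨c, rows, cols, hdet, hspan⟩ :=
    Groth.Agent.H9Smooth.exists_minor fun l i => IsLocalRing.residue Λ (v l i)
  refine ⟨c, rows, cols, ?_, ?_⟩
  · refine IsLocalRing.residue_ne_zero_iff_isUnit _ |>.mp ?_
    show ((IsLocalRing.residue Λ).comp ψ) (Matrix.det _) ≠ 0
    rw [RingHom.map_det]
    exact hdet
  · let S : Submodule Λ (Fin n → Λ) := Submodule.span Λ (Set.range fun a => v (rows a))
    have hSN : S ≤ N := Submodule.span_le.mpr (Set.range_subset_iff.mpr fun a => Submodule.subset_span ⟨_, rfl⟩)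
    have key : N ≤ S ⊔ maximalIdeal Λ • N := by
      refine Submodule.span_le.mpr (Set.range_subset_iff.mpr fun l => ?_)
      obtain ⟨μ, hμ⟩ := (Submodule.mem_span_range_iff_exists_fun _).mp (hspan l)
      choose μ' hμ' using fun a => IsLocalRing.residue_surjective (μ a)
      let d := v l - ∑ a, μ' a • v (rows a)
      have hdm : d ∈ maximalIdeal Λ • (⊤ : Submodule Λ (Fin n → Λ)) := by
        have hd : ∀ i, d i ∈ maximalIdeal Λ := fun i => by
          rw [← IsLocalRing.residue_eq_zero_iff]
          have := congrFun hμ i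
          simp only [Finset.sum_apply, Pi.smul_apply, smul_eq_mul] at this
          simp [d, map_sum, hμ', this]
        rw [pi_eq_sum_univ' d]
        exact Submodule.sum_mem _ fun i _ => Submodule.smul_mem_smul (hd i) Submodule.mem_top
      have hdN : d ∈ N := sub_mem (Submodule.subset_span ⟨l, rfl⟩)
        (Submodule.sum_mem _ fun a _ => Submodule.smul_mem _ _ (Submodule.subset_span ⟨_, rfl⟩))
      rw [show v l = ∑ a, μ' a • v (rows a) + d by simp [d]]
      refine Submodule.add_mem_sup (Submodule.sum_mem _ fun a _ =>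
        Submodule.smul_mem _ _ (Submodule.subset_span ⟨a, rfl⟩)) ?_
      rw [← hρid d hdN]
      have := Submodule.mem_map_of_mem (f := ρ) hdm
      rw [Submodule.map_smul''] at this
      exact Submodule.smul_mono le_rfl (show Submodule.map ρ ⊤ ≤ N from Submodule.map_le_iff_le_comap.mpr fun x _ => hρN x) this
    intro l
    exact Submodule.le_of_le_smul_of_le_jacobson_bot (Submodule.fg_span (Set.finite_range v))
      (IsLocalRing.maximalIdeal_le_jacobson ⊥) key (Submodule.subset_span ⟨l, rfl⟩)

/-- At a smooth point over a regular ring the local ring has no zero divisors. -/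
theorem exists_notMem_mul_eq_zero {R B : Type u} [CommRing R] [IsRegularRing R] [CommRing B] [Algebra R B]
    [Algebra.FinitePresentation R B] (p : Ideal B) [p.IsPrime] [Algebra.IsSmoothAt R p]
    {q : Ideal B} [q.IsPrime] (hqp : q ≤ p) {r x : B} (hr : r ∉ q) (hrx : r * x = 0) :
    ∃ s ∉ p, s * x = 0 := by
  obtain ⟨g, hg, hsm⟩ := Algebra.IsSmoothAt.exists_notMem_smooth R p
  haveI : IsRegularRing (Localization.Away g) := Groth.Agent.H02CA.isRegularRing_of_smooth R _
  have hd : Disjoint (Submonoid.powers g : Set B) (p : Set B) :=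
    Ideal.disjoint_powers_iff_notMem _ (Ideal.IsPrime.isRadical inferInstance) |>.mpr hg
  let p' := p.map (algebraMap B (Localization.Away g))
  haveI : p'.IsPrime := IsLocalization.isPrime_of_isPrime_disjoint (Submonoid.powers g) _ p inferInstance hd
  haveI : IsRegularLocalRing (Localization.AtPrime p') := isRegularRing_iff.mp inferInstance p'
  haveI : IsDomain (Localization.AtPrime p') := Groth.Agent.H4Depth.isDomain_of_isRegularLocalRing _
  let ι : B →+* Localization.AtPrime p' := (algebraMap (Localization.Away g) _).comp (algebraMap B _)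
  have hzero : ∀ y : B, ι y = 0 → ∃ s ∉ p, s * y = 0 := by
    intro y hy
    obtain ⟨⟨t, ht⟩, htz⟩ := (IsLocalization.map_eq_zero_iff p'.primeCompl (Localization.AtPrime p') _).mp hy
    obtain ⟨⟨t₀, u₀⟩, htu⟩ := IsLocalization.surj (Submonoid.powers g) t
    have ht₀ : t₀ ∉ p := fun h => by
      have h1 : t * algebraMap B (Localization.Away g) u₀.1 ∈ p' := htu ▸ Ideal.mem_map_of_mem _ h
      exact ht ((Ideal.IsPrime.mem_or_mem inferInstance h1).resolve_right fun h2 =>
        Ideal.IsPrime.ne_top inferInstance (Ideal.eq_top_of_isUnit_mem _ h2 (IsLocalization.map_units _ u₀)))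
    have h0 : algebraMap B (Localization.Away g) (t₀ * y) = 0 := by
      rw [map_mul, ← htu, mul_right_comm]
      have : t * algebraMap B (Localization.Away g) y = 0 := htz
      rw [this, zero_mul]
    obtain ⟨⟨w, hw⟩, hwz⟩ := (IsLocalization.map_eq_zero_iff (Submonoid.powers g) _ _).mp h0
    obtain ⟨k, rfl⟩ := hw
    exact ⟨g ^ k * t₀, fun h => (Ideal.IsPrime.mem_or_mem inferInstance h).elim
      (fun h' => hg (Ideal.IsPrime.mem_of_pow_mem inferInstance _ h')) ht₀, by rw [mul_assoc]; exact hwz⟩
  rcases mul_eq_zero.mp (show ι r * ι x = 0 by rw [← map_mul, hrx, map_zero]) with h | h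
  · obtain ⟨s, hs, hsr⟩ := hzero r h
    exact absurd ((Ideal.IsPrime.mem_or_mem inferInstance (hsr.symm ▸ q.zero_mem : s * r ∈ q))) (by
      rintro (h1 | h1)
      · exact hs (hqp h1)
      · exact hr h1)
  · exact hzero x h

open TensorProduct in
/-- Let R ⊆ Λ be an extension of discrete valuation rings of ramification index 1 (m_R Λ = m_Λ), A a
flat R-algebra of finite type with an R-algebra map A → Λ, 𝔮 its kernel and 𝔭 the inverse image of
the maximal ideal of Λ. Assume R → A is smooth at 𝔮. Provided the Λ-module Ω_{A/R} ⊗_A Λ is free,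
the map R → A is also smooth at the prime 𝔭. (The published statement phrases the freeness
hypothesis through a surjection B → A from an R-algebra smooth at the point, with kernel I, as
freeness of the cokernel of I/I² ⊗_A Λ → Ω_{B/R} ⊗_B Λ; that cokernel is Ω_{A/R} ⊗_A Λ, which is how
its proof begins, so the two forms are equivalent.) -/
theorem result {R Λ A : Type u} [CommRing R] [IsDomain R]
    [IsDiscreteValuationRing R] [CommRing Λ] [IsDomain Λ] [IsDiscreteValuationRing Λ] [Algebra R Λ]
    [NoZeroSMulDivisors R Λ] (he : (IsLocalRing.maximalIdeal R).map (algebraMap R Λ) = IsLocalRing.maximalIdeal Λ)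
    [CommRing A] [Algebra R A] [Module.Flat R A] [Algebra.FiniteType R A] [Algebra A Λ] [IsScalarTower R A Λ]
    [(RingHom.ker (algebraMap A Λ)).IsPrime]
    (hq : Algebra.IsSmoothAt R (RingHom.ker (algebraMap A Λ)))
    (hfree : Module.Free Λ (Λ ⊗[A] Ω[A⁄R])) :
    Algebra.IsSmoothAt R ((IsLocalRing.maximalIdeal Λ).comap (algebraMap A Λ)) := by
  classical
  haveI : IsNoetherianRing R := inferInstance
  haveI : IsRegularRing R := inferInstance
  haveI : Algebra.FinitePresentation R A := Algebra.FinitePresentation.of_finiteType.mp inferInstance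
  obtain ⟨n, φ, hφ, hfg⟩ := Algebra.FinitePresentation.out (R := R) (A := A)
  obtain ⟨m, f, hf⟩ := Submodule.fg_iff_exists_fin_generating_family.mp hfg
  have hker : RingHom.ker φ = Ideal.span (Set.range f) := hf.symm
  haveI : Module.Projective Λ (Λ ⊗[A] Ω[A⁄R]) := Module.Projective.of_free
  obtain ⟨c, rows, cols, hμ, hspan⟩ := exists_rows_of_projective (Λ := Λ) f φ hφ hker
  set μ := Smoothing.jacobianMinor f rows cols with hμdef
  set q := RingHom.ker (algebraMap A Λ) with hqdef
  set p := (IsLocalRing.maximalIdeal Λ).comap (algebraMap A Λ) with hpdef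
  have hqp : q ≤ p := fun x hx => by
    rw [hpdef, Ideal.mem_comap, show algebraMap A Λ x = 0 from hx]; exact zero_mem _
  have hμp : φ μ ∉ p := fun h => (IsLocalRing.mem_maximalIdeal _).mp h hμ
  choose co hco using fun l => (Submodule.mem_span_range_iff_exists_fun _).mp (hspan l)
  let Jm : Matrix (Fin c) (Fin c) (MvPolynomial (Fin n) R) := Matrix.of fun a b => MvPolynomial.pderiv (cols b) (f (rows a))
  let lam : Fin m → Fin c → MvPolynomial (Fin n) R := fun l =>
    Matrix.vecMul (fun b => MvPolynomial.pderiv (cols b) (f l)) Jm.adjugate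
  let ψ : MvPolynomial (Fin n) R →+* Λ := (algebraMap A Λ).comp φ.toRingHom
  have hco' : ∀ l i, ψ (MvPolynomial.pderiv i (f l)) = ∑ a, co l a * ψ (MvPolynomial.pderiv i (f (rows a))) := by
    intro l i
    have := congrFun (hco l) i
    simp only [Finset.sum_apply, Pi.smul_apply, smul_eq_mul] at this
    exact this.symm
  have hlam : ∀ l a, ψ (lam l a) = ψ μ * co l a := by
    intro l a
    have h1 : (fun b => ψ (MvPolynomial.pderiv (cols b) (f l))) = Matrix.vecMul (co l) (Jm.map ψ) := funext fun b => by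
      rw [hco']; simp [Matrix.vecMul, dotProduct, Jm]
    have h2 : (fun a => ψ (lam l a)) = Matrix.vecMul (fun b => ψ (MvPolynomial.pderiv (cols b) (f l))) (Jm.adjugate.map ψ) :=
      funext fun a => RingHom.map_vecMul _ _ _ _
    rw [congrFun h2 a, h1, Matrix.vecMul_vecMul, ← RingHom.mapMatrix_apply, ← RingHom.mapMatrix_apply, ← map_mul,
      Matrix.mul_adjugate]
    simp [Matrix.vecMul, dotProduct, Matrix.map_apply, Matrix.one_apply, apply_ite ψ, mul_comm, Jm, hμdef, Smoothing.jacobianMinor]
  have hrel : ∀ l i, φ (μ * MvPolynomial.pderiv i (f l) - ∑ a, lam l a * MvPolynomial.pderiv i (f (rows a))) ∈ q := by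
    intro l i
    rw [hqdef, RingHom.mem_ker]
    show ψ _ = 0
    simp only [map_sub, map_mul, map_sum, hlam, hco' l i, Finset.mul_sum]
    exact sub_eq_zero.mpr (Finset.sum_congr rfl fun a _ => by ring)
  haveI : Algebra.IsSmoothAt R q := hq
  obtain ⟨r, hr, hrK⟩ := exists_mul_mem_of_rows f φ hφ hker q rows μ (fun h => hμp (hqp h)) lam hrel
  let J := Ideal.span (Set.range (f ∘ rows))
  have hJker : J ≤ RingHom.ker φ := by
    rw [hker]; exact Ideal.span_mono (Set.range_comp_subset_range _ _)
  let φ' : MvPolynomial (Fin n) R →ₐ[R] MvPolynomial (Fin n) R ⧸ J := Ideal.Quotient.mkₐ R J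
  let π : MvPolynomial (Fin n) R ⧸ J →ₐ[R] A := Ideal.Quotient.liftₐ J φ hJker
  haveI : Algebra.FinitePresentation R (MvPolynomial (Fin n) R ⧸ J) :=
    Algebra.FinitePresentation.quotient (Submodule.fg_span (Set.finite_range _))
  haveI : Algebra.IsSmoothAt R (p.comap π) := by
    refine Groth.Agent.H9Popescu.isSmoothAt_of_minor (f ∘ rows) φ' Ideal.Quotient.mk_surjective
      (Ideal.Quotient.mkₐ_ker R J) (Function.Embedding.refl _) cols 1 (fun j => ?_) (p.comap π) ?_ ?_
    · rw [one_mul]; exact Ideal.mem_sup_left (Ideal.subset_span ⟨j, rfl⟩)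
    · rw [map_one, Ideal.mem_comap, map_one]
      exact fun h => (Ideal.IsPrime.ne_top (inferInstance : p.IsPrime)) ((Ideal.eq_top_iff_one _).mpr h)
    · exact hμp
  have hs : ∀ j, ∃ s, φ s ∉ p ∧ s * f j ∈ J := by
    intro j
    obtain ⟨s, hs, hsx⟩ := exists_notMem_mul_eq_zero (R := R) (p.comap π) (q := q.comap π) (Ideal.comap_mono hqp)
      (r := φ' r) (x := φ' (f j)) hr (by
        rw [← map_mul]
        exact Ideal.Quotient.eq_zero_iff_mem.mpr (hrK _ (hker ▸ Ideal.subset_span ⟨j, rfl⟩)))
    obtain ⟨s, rfl⟩ := Ideal.Quotient.mk_surjective s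
    exact ⟨s, hs, Ideal.Quotient.eq_zero_iff_mem.mp (by rw [map_mul]; exact hsx)⟩
  choose s hs hsJ using hs
  refine Groth.Agent.H9Popescu.isSmoothAt_of_minor f φ hφ hker rows cols (∏ j, s j) (fun j => ?_) p ?_ hμp
  · refine Ideal.mem_sup_left ?_
    rw [← Finset.prod_erase_mul _ _ (Finset.mem_univ j), mul_assoc]
    exact Ideal.mul_mem_left _ _ (hsJ j)
  · rw [map_prod]
    intro h
    obtain ⟨j, -, hj⟩ := (Ideal.IsPrime.prod_mem_iff).mp h
    exact hs j hj

end Groth.Agent.S6841
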