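import Groth.Statements.S6843
import Groth.Agent.H9Popescu.EtaleApproximation
import Groth.Agent.S0600
-- import your own Groth.Agent.* helpers here

set_option autoImplicit false
universe u
open Smoothing

namespace Groth.Agent.S6843

/-- Let R be a Noetherian ring, p ⊆ R a prime with R_p a G-ring, (R_p)^ the completion of R_p, and F₁,
…, F_m polynomials in n variables over R with a solution a in (R_p)^. Then for every N there are an
étale R-algebra R', a ring map ψ : R' → (R_p)^ compatible with the maps from R, a prime p' ⊆ R'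
lying over p with κ(p) = κ(p') (every element of R'/p' is a fraction of elements of R/p) and ψ(p') ⊆
p(R_p)^, and a solution b of the system in R' with a_i − ψ(b_i) ∈ p^N (R_p)^. (The source compares a
and b through the identification of (R_p)^ with the completion of R'_{p'}; here the comparison map
is ψ.) -/
theorem result {R : Type u} [CommRing R] [IsNoetherianRing R]
    (p : Ideal R) [p.IsPrime] (hG : CAlg.IsGRing (Localization.AtPrime p)) {n m : ℕ}
    (F : Fin m → MvPolynomial (Fin n) R)
    (a : Fin n → AdicCompletion (IsLocalRing.maximalIdeal (Localization.AtPrime p)) (Localization.AtPrime p))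
    (ha : ∀ j, MvPolynomial.aeval a (MvPolynomial.map (algebraMap R (Localization.AtPrime p)) (F j)) = 0) (N : ℕ) :
    ∃ (R' : Type u) (_ : CommRing R') (_ : Algebra R R'), Algebra.Etale R R' ∧
      ∃ (ψ : R' →+* AdicCompletion (IsLocalRing.maximalIdeal (Localization.AtPrime p)) (Localization.AtPrime p))
        (p' : Ideal R'), p'.IsPrime ∧
        (∀ r : R, ψ (algebraMap R R' r) =
          algebraMap (Localization.AtPrime p) _ (algebraMap R (Localization.AtPrime p) r)) ∧
        p'.comap (algebraMap R R') = p ∧
        (∀ x : R', ∃ r s : R, s ∉ p ∧ algebraMap R R' s * x - algebraMap R R' r ∈ p') ∧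
        (∀ x ∈ p', ψ x ∈ (IsLocalRing.maximalIdeal (Localization.AtPrime p)).map
          (algebraMap (Localization.AtPrime p)
            (AdicCompletion (IsLocalRing.maximalIdeal (Localization.AtPrime p)) (Localization.AtPrime p)))) ∧
        ∃ b : Fin n → R', (∀ j, MvPolynomial.aeval b (F j) = 0) ∧
          ∀ i, a i - ψ (b i) ∈ (IsLocalRing.maximalIdeal (Localization.AtPrime p) ^ N).map
            (algebraMap (Localization.AtPrime p)
              (AdicCompletion (IsLocalRing.maximalIdeal (Localization.AtPrime p)) (Localization.AtPrime p))) := by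
  haveI := hG.1
  let A := Localization.AtPrime p
  let L := AdicCompletion (IsLocalRing.maximalIdeal A) A
  haveI : IsNoetherianRing L := Groth.Agent.H05EGA4.isNoetherianRing_adicCompletion A _
  haveI := Groth.Agent.H9Popescu.henselianRing_completion_pow A N
  have hcomp : ∀ r : R, algebraMap R L r = algebraMap A L (algebraMap R A r) := fun r => IsScalarTower.algebraMap_apply R A L r
  have hregA : CAlg.IsRegularHom A L := Groth.Agent.S0600.result A hG _
  have hreg : CAlg.IsRegularHom R L :=
    Groth.Agent.H02CA.isRegularHom_comp R A L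
      (Groth.Agent.H9Popescu.isRegularHom_of_isLocalization A p.primeCompl) hregA fun q _ => by
      haveI : IsNoetherianRing (TensorProduct R L q.ResidueField) := Algebra.EssFiniteType.isNoetherianRing L _
      exact isNoetherianRing_of_ringEquiv _ (Algebra.TensorProduct.comm R L q.ResidueField).toRingEquiv
  set mh : Ideal L := (IsLocalRing.maximalIdeal A).map (algebraMap A L) with hmh
  have hres := Groth.Agent.H9Popescu.exists_sub_mem_completion_pow A (IsLocalRing.maximalIdeal A)
    (IsNoetherian.noetherian _) (N + 1)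
  have hfrac : ∀ x : L, ∃ r s : R, s ∉ p ∧ algebraMap R L s * x - algebraMap R L r ∈ mh ^ (N + 1) := fun x => by
    obtain ⟨b, hb⟩ := hres x
    obtain ⟨r, ⟨s, hs⟩, rfl⟩ := IsLocalization.exists_mk'_eq p.primeCompl b
    refine ⟨r, s, hs, ?_⟩
    have h1 : algebraMap R L r = algebraMap R L s * algebraMap A L (IsLocalization.mk' A r ⟨s, hs⟩) := by
      rw [hcomp, hcomp, ← map_mul, IsLocalization.mk'_spec' A r ⟨s, hs⟩]
    rw [h1, ← mul_sub]
    exact Ideal.mul_mem_left _ _ hb
  have hunit : ∀ s : R, s ∉ p → IsUnit (algebraMap R L s) := fun s hs => by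
    rw [hcomp]; exact (IsLocalization.map_units A (⟨s, hs⟩ : p.primeCompl)).map _
  obtain ⟨R', _, _, hR', ψ, b, hb, hab⟩ := Groth.Agent.H9Popescu.exists_etale_approximation
    hreg (mh ^ (N + 1)) (fun q => by
      obtain ⟨x, rfl⟩ := Ideal.Quotient.mk_surjective q
      obtain ⟨r, s, hs, hr⟩ := hfrac x
      refine ⟨r, s, (hunit s hs).map (Ideal.Quotient.mk _), ?_⟩
      exact Ideal.Quotient.eq.mpr hr) F a (fun j => by
        rw [← MvPolynomial.aeval_map_algebraMap A]; exact ha j)
  have hle : mh ^ (N + 1) ≤ mh := Ideal.pow_le_self N.succ_ne_zero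
  have hmh' : mh = IsLocalRing.maximalIdeal L :=
    (AdicCompletion.maximalIdeal_eq_map_of_fg (IsNoetherian.noetherian _)).symm
  haveI : mh.IsPrime := hmh' ▸ (IsLocalRing.maximalIdeal.isMaximal L).isPrime
  refine ⟨R', inferInstance, inferInstance, hR', ψ.toRingHom, mh.comap ψ, Ideal.comap_isPrime _ _,
    fun r => (ψ.commutes r).trans (hcomp r), le_antisymm (fun r hr => ?_) (fun r hr => ?_), fun x => ?_,
    fun x hx => hx, b, hb, fun i => ?_⟩
  · by_contra h
    rw [Ideal.mem_comap, Ideal.mem_comap, ψ.commutes, hmh'] at hr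
    exact hr (hunit r h)
  · rw [Ideal.mem_comap, Ideal.mem_comap, ψ.commutes, hcomp]
    exact Ideal.mem_map_of_mem _ ((IsLocalization.AtPrime.to_map_mem_maximal_iff A p r).mpr hr)
  · obtain ⟨r, s, hs, hr⟩ := hfrac (ψ x)
    refine ⟨r, s, hs, ?_⟩
    rw [Ideal.mem_comap, map_sub, map_mul, ψ.commutes, ψ.commutes]
    exact hle hr
  · rw [Ideal.map_pow]
    exact Ideal.pow_le_pow_right N.le_succ (hab i)

end Groth.Agent.S6843
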