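import Groth.Statements.S6849
import Groth.Agent.H15Site.StalkRank

set_option autoImplicit false
universe u
open CategoryTheory CategoryTheory.Limits TopologicalSpace
open ModSite

open Opposite Groth.Agent.H15Site Groth.Agent.H15Site.StalkFree
set_option linter.style.haveILetI false
set_option backward.isDefEq.respectTransparency false
attribute [local instance 10000] SiteInst.hasSheafifySite SiteInst.hasWeakSheafifySite

namespace Groth.Agent.S6849

/-- Let (X, O) be a ringed space all of whose stalks O_{X,x} are local rings, H a finite locally free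
O-module (every point has an open neighbourhood U with H|_U ≅ O_U^n, the free O_U-module on n
generators, for some n) and F a direct summand of H (maps F → H → F composing to the identity). Then
F is finite locally free. -/
theorem result {X : TopCat.{u}}
    (O : TopCat.Sheaf CommRingCat.{u} X) (hO : ∀ x : X, IsLocalRing (O.presheaf.stalk x)) {F H : ModSite.Mod O}
    (hH : ∀ x : X, ∃ (U : Opens X) (n : ℕ), x ∈ U ∧
      Nonempty ((ModSite.restr O U).obj H ≅ SheafOfModules.free (ULift.{u} (Fin n))))
    (i : F ⟶ H) (p : H ⟶ F) (hip : i ≫ p = 𝟙 F) (x : X) :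
    ∃ (U : Opens X) (n : ℕ), x ∈ U ∧
      Nonempty ((ModSite.restr O U).obj F ≅ SheafOfModules.free (ULift.{u} (Fin n))) := by
  classical
  obtain ⟨U, n, hxU, hU⟩ := hH x
  obtain ⟨h, hg, hi⟩ := free_iff_fin.1 hU
  -- near `x`, the idempotent has a matrix
  choose S hS hS' using fun j => hg (𝟙 U) ((i.val.app (op U)).hom ((p.val.app (op U)).hom (h j)))
  obtain ⟨T, hT, hTS⟩ := LocPres.exists_common S hS
  obtain ⟨W, a, ha, w, -⟩ :=
    (Opens.pointGrothendieckTopology x).jointly_surjective T hT (mk hxU)
  choose E hE using fun j => hS' j a (hTS j _ ha)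
  have hE' : ∀ j, (i.val.app (op W)).hom ((p.val.app (op W)).hom
      (ModTensor.rs ((ModTensor.forg O).obj H) a.op (h j))) =
      ∑ k, E j k • ModTensor.rs ((ModTensor.forg O).obj H) a.op (h k) := fun j => by
    rw [LocPres.app_rs, LocPres.app_rs, hE j, Category.comp_id]
  obtain ⟨hG, hR⟩ := rel_of_retract i p hip (hg.restrict a) (hi.restrict a) hE'
  let P := Opens.pointGrothendieckTopology x
  haveI : IsLocalRing (ModSite.stalkRing P O) := isLocalRing_stalkRing (hO x)
  let bH := stalkBasis P w (hg.restrict a) (hi.restrict a)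
  haveI := Module.Finite.of_basis bH
  haveI := Module.Free.of_basis bH
  have hpi : (ModSite.stalkMap P p).hom.comp (ModSite.stalkMap P i).hom = LinearMap.id := by
    refine LinearMap.ext fun m => ?_
    obtain ⟨V, v, t, rfl⟩ := P.toPresheafFiber_jointly_surjective (P := (ModSite.toAb F).obj) m
    refine (congrArg _ (LocGen.stalkMap_germ P i v t)).trans ((LocGen.stalkMap_germ P p v _).trans ?_)
    exact congrArg (fun φ : F ⟶ F => ModSite.germ P F V v ((φ.val.app (op V)).hom t)) hip
  haveI : Module.Finite (ModSite.stalkRing P O) (ModSite.stalkMod P F) :=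
    Module.Finite.of_surjective (ModSite.stalkMap P p).hom
      (fun m => ⟨_, LinearMap.congr_fun hpi m⟩)
  haveI : Module.Projective (ModSite.stalkRing P O) (ModSite.stalkMod P F) :=
    Module.Projective.of_split (ModSite.stalkMap P i).hom (ModSite.stalkMap P p).hom hpi
  haveI : Module.Free (ModSite.stalkRing P O) (ModSite.stalkMod P F) :=
    Module.free_of_flat_of_isLocalRing
  obtain ⟨W', hxW', hW'⟩ := exists_free_opens w.down.down _ _ hG hR
    (Module.finBasis (ModSite.stalkRing P O) (ModSite.stalkMod P F))
  exact ⟨W', _, hxW', hW'⟩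

end Groth.Agent.S6849
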