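import Groth.Statements.S6851
import Groth.Agent.H15Site.InvertibleLocal

set_option autoImplicit false
universe u
open CategoryTheory CategoryTheory.Limits TopologicalSpace
open ModSite

open Opposite Groth.Agent.H15Site Groth.Agent.H15Site.ModTensor
set_option linter.style.haveILetI false
set_option backward.isDefEq.respectTransparency false
attribute [local instance 10000] SiteInst.hasSheafifySite SiteInst.hasWeakSheafifySite

namespace Groth.Agent.S6851

/-- Let (X, O) be a ringed space all of whose stalks O_{X,x} are local rings with maximal ideals m_x, L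
an invertible O-module (F ↦ L ⊗_O F is an equivalence of Mod(O)) and s a section of L over an open
U. Then the set X_s of points x ∈ U whose germ s_x does not lie in m_x L_x is open, and for every x
∈ X_s the map O_{X,x} → L_x, a ↦ a s_x, is bijective; that is, s : O_{X_s} → L|_{X_s} is an
isomorphism, isomorphy being checked on stalks. Stalks and germs are taken at the point of the site
of opens of X given by x. (The published statement also produces the section s' of the inverse of L
with s' s = 1; that consequence is not restated here.) -/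
theorem result {X : TopCat.{u}} (O : TopCat.Sheaf CommRingCat.{u} X)
    (hO : ∀ x : X, IsLocalRing (ModSite.stalkRing (Opens.pointGrothendieckTopology x) O)) (L : ModSite.Mod O)
    (hL : ((ModSite.tensorBi O).obj L).IsEquivalence) (U : Opens X) (s : ModSite.sect L U) :
    IsOpen {x : X | ∃ hx : x ∈ U, ModSite.germ (Opens.pointGrothendieckTopology x) L U ⟨⟨hx⟩⟩ s ∉
        (@IsLocalRing.maximalIdeal (ModSite.stalkRing (Opens.pointGrothendieckTopology x) O) _ (hO x)) •
          (⊤ : Submodule (ModSite.stalkRing (Opens.pointGrothendieckTopology x) O)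
            (ModSite.stalkAb (Opens.pointGrothendieckTopology x) L))} ∧
      ∀ (x : X) (hx : x ∈ U), ModSite.germ (Opens.pointGrothendieckTopology x) L U ⟨⟨hx⟩⟩ s ∉
          (@IsLocalRing.maximalIdeal (ModSite.stalkRing (Opens.pointGrothendieckTopology x) O) _ (hO x)) •
            (⊤ : Submodule (ModSite.stalkRing (Opens.pointGrothendieckTopology x) O)
              (ModSite.stalkAb (Opens.pointGrothendieckTopology x) L)) →
        Function.Bijective (fun a : ModSite.stalkRing (Opens.pointGrothendieckTopology x) O =>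
          a • ModSite.germ (Opens.pointGrothendieckTopology x) L U ⟨⟨hx⟩⟩ s) := by
  classical
  obtain ⟨N, ⟨e⟩⟩ := Invertible.exists_iso_unit hL
  let P := fun x : X => Opens.pointGrothendieckTopology x
  -- near every point of `U`, the section is a multiple of a generator
  have key : ∀ (x : X) (hx : x ∈ U), ∃ (W : Opens X) (_ : W ≤ U) (hxW : x ∈ W)
      (a : O.obj.obj (op W)) (B : ∀ (y : X), y ∈ W → Module.Basis Unit
        (ModSite.stalkRing (P y) O) (ModSite.stalkMod (P y) L)),
      ∀ (y : X) (hy : y ∈ W) (hyU : y ∈ U), ModSite.germ (P y) L U ⟨⟨hyU⟩⟩ s =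
        ModSite.germRing (P y) W ⟨⟨hy⟩⟩ a • B y hy () := by
    intro x hx
    haveI := hO x
    obtain ⟨V, g, v, -, l, hG, hI⟩ :=
      InvertibleLocal.exists_gen_indep e (P x) (U := U) ⟨⟨hx⟩⟩
    obtain ⟨S, hS, hS'⟩ := hG (𝟙 V) (rs ((forg O).obj L) g.op s)
    obtain ⟨W, h, hh, w, -⟩ := (P x).jointly_surjective S hS v
    obtain ⟨r, hr⟩ := hS' h hh
    refine ⟨W, leOfHom (h ≫ g), w.down.down, r (),
      fun y hy => StalkFree.stalkBasis (P y) (U := W) ⟨⟨hy⟩⟩ (hG.restrict h) (hI.restrict h),
      fun y hy hyU => ?_⟩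
    have e1 := congrArg (ModSite.germ (P y) L W ⟨⟨hy⟩⟩) hr
    rw [rs_rs, Fintype.sum_unique, ModSite.germ_smul, Category.comp_id] at e1
    rw [← op_comp, PointGerm.germ_rs] at e1
    refine Eq.trans ?_ (e1.trans ?_)
    · exact congrArg (fun t => ModSite.germ (P y) L U t s) (Subsingleton.elim _ _)
    · simp [StalkFree.stalkBasis]
  have hiff : ∀ (x : X) (hx : x ∈ U) (W : Opens X) (hxW : x ∈ W) (a : O.obj.obj (op W))
      (b : Module.Basis Unit (ModSite.stalkRing (P x) O) (ModSite.stalkMod (P x) L)),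
      ModSite.germ (P x) L U ⟨⟨hx⟩⟩ s = ModSite.germRing (P x) W ⟨⟨hxW⟩⟩ a • b () →
      (ModSite.germ (P x) L U ⟨⟨hx⟩⟩ s ∉
        (@IsLocalRing.maximalIdeal (ModSite.stalkRing (P x) O) _ (hO x)) •
          (⊤ : Submodule (ModSite.stalkRing (P x) O) (ModSite.stalkAb (P x) L)) ↔
        IsUnit (ModSite.germRing (P x) W ⟨⟨hxW⟩⟩ a)) := by
    intro x hx W hxW a b he
    haveI := hO x
    rw [he]
    constructor
    · intro h
      by_contra hu
      exact h (Submodule.smul_mem_smul ((IsLocalRing.mem_maximalIdeal _).2 hu) Submodule.mem_top)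
    · intro hu h
      have h1 : ∀ z ∈ (IsLocalRing.maximalIdeal (ModSite.stalkRing (P x) O)) •
          (⊤ : Submodule (ModSite.stalkRing (P x) O) (ModSite.stalkMod (P x) L)),
          b.repr z () ∈ IsLocalRing.maximalIdeal (ModSite.stalkRing (P x) O) := fun z hz => by
        refine Submodule.smul_induction_on hz (fun r hr m _ => ?_) fun m m' hm hm' => ?_
        · simpa using Ideal.mul_mem_right (b.repr m ()) _ hr
        · simpa using Ideal.add_mem _ hm hm'
      have h2 := h1 _ h
      simp at h2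
      exact h2 hu
  refine ⟨isOpen_iff_forall_mem_open.2 ?_, fun x hx hmem => ?_⟩
  · rintro x ⟨hx, hmem⟩
    obtain ⟨W, hWU, hxW, a, B, hB⟩ := key x hx
    obtain ⟨r, hr⟩ :=
      ((hiff x hx W hxW a (B x hxW) (hB x hxW hx)).1 hmem).exists_left_inv
    obtain ⟨W₁, g₁, w₁, -, r₁, -, hr₁, -⟩ := PointGerm.exists_rep (P x) L (U := W) ⟨⟨hxW⟩⟩
      (fun _ : Unit => r) (fun a : Fin 0 => a.elim0)
    obtain ⟨W₂, g₂, w₂, -, h2⟩ := PointGerm.exists_refine' (P x) O.obj w₁ (ι := Unit)
      (fun _ => r₁ () * ModRel.rr O g₁.op a) (fun _ => 1) (fun _ => by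
        refine (map_mul ((P x).toPresheafFiber W₁ w₁ O.obj).hom _ _).trans
          (Eq.trans ?_ (map_one ((P x).toPresheafFiber W₁ w₁ O.obj).hom).symm)
        show ModSite.germRing (P x) W₁ w₁ _ * ModSite.germRing (P x) W₁ w₁ _ = 1
        rw [hr₁, PointGerm.germRing_rr,
          show (P x).fiber.map g₁ w₁ = ⟨⟨hxW⟩⟩ from Subsingleton.elim _ _, hr])
    have hle : W₂ ≤ W := leOfHom (g₂ ≫ g₁)
    refine ⟨W₂, fun y hy => ⟨hWU (hle hy), ?_⟩, W₂.2, w₂.down.down⟩
    refine (hiff y _ W (hle hy) a (B y (hle hy)) (hB y (hle hy) (hWU (hle hy)))).2 ?_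
    have h3 := congrArg (ModSite.germRing (P y) W₂ ⟨⟨hy⟩⟩) (h2 ())
    have h4 : ModSite.germRing (P y) W₂ ⟨⟨hy⟩⟩
        (ModRel.rr O g₂.op (r₁ ()) * ModRel.rr O (g₂ ≫ g₁).op a) = 1 := by
      simp only [map_mul, map_one, op_comp, ← ModRel.rr_rr] at h3 ⊢
      exact h3
    rw [show ModSite.germRing (P y) W₂ ⟨⟨hy⟩⟩
        (ModRel.rr O g₂.op (r₁ ()) * ModRel.rr O (g₂ ≫ g₁).op a) = _ from
      map_mul ((P y).toPresheafFiber W₂ ⟨⟨hy⟩⟩ O.obj).hom _ _] at h4
    have h5 := IsUnit.of_mul_eq_one_right _ h4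
    change IsUnit (ModSite.germRing (P y) W₂ ⟨⟨hy⟩⟩ (ModRel.rr O (g₂ ≫ g₁).op a)) at h5
    rw [PointGerm.germRing_rr] at h5
    exact h5
  · obtain ⟨W, -, hxW, a, B, hB⟩ := key x hx
    obtain ⟨q, hq⟩ := (hiff x hx W hxW a (B x hxW) (hB x hxW hx)).1 hmem
    have he := hB x hxW hx
    rw [← hq] at he
    have key2 : ∀ r : ModSite.stalkRing (P x) O,
        r • ModSite.germ (P x) L U ⟨⟨hx⟩⟩ s = (r * ↑q) • B x hxW () :=
      fun r => (congrArg (r • ·) he).trans (mul_smul r _ _).symm
    constructor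
    · intro r r' hrr
      have h := (key2 r).symm.trans (hrr.trans (key2 r'))
      have := congrArg (fun z => (B x hxW).repr z ()) h
      simpa using this
    · intro z
      refine ⟨(B x hxW).repr z () * (↑(q⁻¹) : ModSite.stalkRing (P x) O), (key2 _).trans ?_⟩
      rw [mul_assoc, Units.inv_mul, mul_one]
      conv_rhs => rw [← (B x hxW).sum_repr z]
      rw [Fintype.sum_unique]

end Groth.Agent.S6851
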