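import Groth.Statements.S6855
import Mathlib

set_option autoImplicit false
universe u
open CategoryTheory CategoryTheory.Limits TopologicalSpace
open ModSite

set_option linter.style.haveILetI false
open Opposite TopologicalSpace


namespace Groth.Agent.S6855

/-- Let X be a topological space and O a sheaf of rings on X. Then the support of O, the set of points x
with nonzero stalk O_x, is closed in X. -/
theorem result {X : TopCat.{u}} (O : TopCat.Sheaf CommRingCat.{u} X) :
    IsClosed {x : X | Nontrivial (O.presheaf.stalk x)} := by
  rw [← isOpen_compl_iff, isOpen_iff_forall_mem_open]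
  intro x hx
  rw [Set.mem_compl_iff, Set.mem_setOf_eq, not_nontrivial_iff_subsingleton] at hx
  have h : (O.presheaf.germ ⊤ x trivial).hom 1 = (O.presheaf.germ ⊤ x trivial).hom 0 := Subsingleton.elim _ _
  obtain ⟨W, hxW, iU, iV, hW⟩ := O.presheaf.germ_eq (U := (⊤ : Opens X)) (V := (⊤ : Opens X)) x trivial trivial 1 0 h
  refine ⟨W, fun y hy hn => ?_, W.isOpen, hxW⟩
  have e : (O.presheaf.germ W y hy).hom 1 = (O.presheaf.germ W y hy).hom 0 :=
    congrArg _ (by simpa using hW)
  rw [map_one, map_zero] at e
  exact @one_ne_zero _ _ _ (@NeZero.one _ _ hn) e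

end Groth.Agent.S6855
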