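import Groth.Statements.S6856
import Groth.Agent.H15Site.Invertible

set_option autoImplicit false
universe u
open CategoryTheory CategoryTheory.Limits TopologicalSpace
open ModSite

open Groth.Agent.H15Site Opposite
set_option linter.style.haveILetI false
set_option backward.isDefEq.respectTransparency false
attribute [local instance 10000] SiteInst.hasSheafifySite SiteInst.hasWeakSheafifySite

namespace Groth.Agent.S6856

/-- On a ringed space (X, O), (1) if L and N are invertible O-modules (tensoring with each is an
equivalence of Mod(O)) then L ⊗_O N is invertible; (2) if L is invertible then Hom_O(L, O) is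
invertible and the evaluation map Hom_O(L, O) ⊗_O L → O, the counit of the adjunction between − ⊗ L
and Hom_O(L, −) at O, is an isomorphism. -/
theorem result {X : TopCat.{u}} (O : TopCat.Sheaf CommRingCat.{u} X)
    (L N : ModSite.Mod O) (hL : ((ModSite.tensorBi O).obj L).IsEquivalence) [ModSite.HasSheafHom L] :
    (((ModSite.tensorBi O).obj N).IsEquivalence →
        ((ModSite.tensorBi O).obj (((ModSite.tensorBi O).obj L).obj N)).IsEquivalence) ∧
      ((ModSite.tensorBi O).obj ((ModSite.sheafHom L).obj (ModSite.unit O))).IsEquivalence ∧
      IsIso ((ModSite.sheafHomAdj L).counit.app (ModSite.unit O)) := by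
  haveI := Invertible.isEquivalence_tR hL
  haveI : IsIso (ModSite.sheafHomAdj L).counit := inferInstance
  have h : IsIso ((ModSite.sheafHomAdj L).counit.app (ModSite.unit O)) := inferInstance
  exact ⟨Invertible.isEquivalence_tensor hL, Invertible.isEquivalence_of_iso_unit (asIso
    ((ModSite.sheafHomAdj L).counit.app (ModSite.unit O))), h⟩

end Groth.Agent.S6856
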