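import Groth.Statements.S6858
import Groth.Agent.H15Site.StalkRank

set_option autoImplicit false
universe u
open CategoryTheory CategoryTheory.Limits TopologicalSpace
open ModSite

open Opposite Groth.Agent.H15Site Groth.Agent.H15Site.StalkFree
set_option linter.style.haveILetI false
set_option backward.isDefEq.respectTransparency false
attribute [local instance 10000] SiteInst.hasSheafifySite SiteInst.hasWeakSheafifySite

namespace Groth.Agent.S6858

/-- Let (X, O) be a ringed space all of whose stalks O_{X,x} are nonzero rings and F a locally free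
O-module. Then there is a locally constant function rank_F : X → ℕ ∪ {∞} such that for every point
x, every open neighbourhood U of x and every index set I with F|_U ≅ ⊕_{i ∈ I} O_U, the cardinality
of I (a natural number or ∞) is rank_F(x). -/
theorem result {X : TopCat.{u}} (O : TopCat.Sheaf CommRingCat.{u} X)
    (hO : ∀ x : X, Nontrivial (O.presheaf.stalk x)) (F : ModSite.Mod O)
    [SheafOfModules.IsLocallyFree (R := ModSite.ringSh O) F] :
    ∃ rk : X → ℕ∞, IsLocallyConstant rk ∧
      ∀ (x : X) (U : Opens X) (I : Type u), x ∈ U →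
        Nonempty ((ModSite.restr O U).obj F ≅ SheafOfModules.free I) → ENat.card I = rk x := by
  let rk : X → ℕ∞ := fun x => Cardinal.toENat (Module.rank
    (ModSite.stalkRing (Opens.pointGrothendieckTopology x) O)
    (ModSite.stalkMod (Opens.pointGrothendieckTopology x) F))
  have key : ∀ (x : X) (U : Opens X) (I : Type u), x ∈ U →
      Nonempty ((ModSite.restr O U).obj F ≅ SheafOfModules.free I) → ENat.card I = rk x := by
    rintro x U I hx ⟨ψ⟩
    haveI := nontrivial_stalkRing (hO x)
    obtain ⟨s, h1, h2⟩ := exists_sections_of_free ψ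
    show Cardinal.toENat (Cardinal.mk I) = _
    rw [(stalkBasisOfFree (Opens.pointGrothendieckTopology x) (mk hx) s h1 h2).mk_eq_rank'']
  refine ⟨rk, (IsLocallyConstant.iff_exists_open _).2 fun x => ?_, key⟩
  obtain ⟨q, hq⟩ := SheafOfModules.IsLocallyFree.exists_isLocallyFreeData (M := F)
  obtain ⟨i, hxi⟩ := Opens.mem_iSup.1
    (((Opens.coversTop_iff _ _).1 q.coversTop).symm ▸ Opens.mem_top x : x ∈ ⨆ i, q.X i)
  haveI := hq.isIso i
  have hI : ∀ y ∈ q.X i, ENat.card (q.generators i).I = rk y := fun y hy =>
    key y (q.X i) _ hy ⟨(asIso (q.generators i).π).symm⟩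
  exact ⟨q.X i, (q.X i).2, hxi, fun y hy => (hI y hy).symm.trans (hI x hxi)⟩

end Groth.Agent.S6858
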