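import Groth.Statements.S6860
import Mathlib.RingTheory.Smooth.StandardSmooth
-- import your own Groth.Agent.* helpers here

set_option autoImplicit false
universe u
open Smoothing

namespace Groth.Agent.S6860

/-- Let R → A be standard smooth and E ⊆ A a finite subset. Then A admits a standard smooth presentation
A = R[x₁, …, x_N]/(f₁, …, f_c) (a submersive presentation: finitely many generators and relations,
an injection from the relations to the variables picking the distinguished variables, and the
Jacobian of the relations with respect to the distinguished variables invertible in A) in which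
every element of E is the class of a distinguished variable. (The published statement arranges E to
be exactly the classes of the first n = |E| variables, all of them distinguished, with c ≥ n; this
row states that E is contained in the set of classes of the distinguished variables, which is what
that arrangement gives.) -/
theorem result {R A : Type u} [CommRing R] [CommRing A] [Algebra R A]
    [Algebra.IsStandardSmooth R A] (E : Finset A) :
    ∃ (ι σ : Type) (_ : Finite ι) (_ : Finite σ) (P : Algebra.SubmersivePresentation R A ι σ),
      (↑E : Set A) ⊆ Set.range (P.val ∘ P.map) := by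
  classical
  obtain ⟨ι, σ, _, _, ⟨P⟩⟩ := Algebra.IsStandardSmooth.out (R := R) (S := A)
  obtain ⟨k, ⟨en⟩⟩ := Finite.exists_equiv_fin ↥E
  let v : Fin k → MvPolynomial (Fin k) A := fun j => MvPolynomial.X j - MvPolynomial.C (en.symm j).1
  let Q₀ := Algebra.PreSubmersivePresentation.naive (R := A) (v := v) id Function.injective_id
  have hker : ∀ x ∈ Ideal.span (Set.range v),
      (MvPolynomial.aeval (fun j => (en.symm j).1) : MvPolynomial (Fin k) A →ₐ[A] A) x = 0 := by
    suffices Ideal.span (Set.range v) ≤
        RingHom.ker (MvPolynomial.aeval (fun j => (en.symm j).1) : MvPolynomial (Fin k) A →ₐ[A] A).toRingHom from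
      fun x hx => this hx
    rw [Ideal.span_le]
    rintro _ ⟨j, rfl⟩
    simp [v]
  let ev := Ideal.Quotient.liftₐ (Ideal.span (Set.range v))
    (MvPolynomial.aeval (fun j => (en.symm j).1) : MvPolynomial (Fin k) A →ₐ[A] A) hker
  have hev : (Algebra.ofId A (MvPolynomial (Fin k) A ⧸ Ideal.span (Set.range v))).comp ev = AlgHom.id A _ := by
    refine Ideal.Quotient.algHom_ext A (MvPolynomial.algHom_ext fun j => ?_)
    have h0 : Ideal.Quotient.mk (Ideal.span (Set.range v)) (v j) = 0 :=
      Ideal.Quotient.eq_zero_iff_mem.mpr (Ideal.subset_span ⟨j, rfl⟩)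
    simp only [v, map_sub, sub_eq_zero] at h0
    simp [ev, IsScalarTower.algebraMap_apply A (MvPolynomial (Fin k) A) (MvPolynomial (Fin k) A ⧸ _)]
    exact h0.symm
  let e := AlgEquiv.ofAlgHom ev (Algebra.ofId A _) (AlgHom.ext fun a => by simp) hev
  let Q : Algebra.SubmersivePresentation A A (Fin k) (Fin k) :=
    { Q₀.ofAlgEquiv e with
      jacobian_isUnit := by
        rw [Algebra.PreSubmersivePresentation.jacobian_ofAlgEquiv]
        refine IsUnit.map e ?_
        rw [Q₀.jacobian_eq_jacobiMatrix_det, show Q₀.jacobiMatrix = 1 from Matrix.ext fun i j => by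
          simp [Q₀, v, Matrix.one_apply, Pi.single_apply, eq_comm (a := i)],
          Matrix.det_one, map_one]
        exact isUnit_one }
  refine ⟨Fin k ⊕ ι, Fin k ⊕ σ, inferInstance, inferInstance, Q.comp P, fun a ha => ⟨Sum.inl (en ⟨a, ha⟩), ?_⟩⟩
  show Q.val (en ⟨a, ha⟩) = a
  simp [Q, Q₀, e, ev]

end Groth.Agent.S6860
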