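import Groth.Statements.S6861
import Groth.Agent.H8Props.NeronBlowup.Special
import Groth.Agent.H8Props.NeronBlowup.Dilatation

set_option autoImplicit false
universe u
open Smoothing

namespace Groth.Agent.S6861

/-- Let R ⊆ Λ be an extension of discrete valuation rings of ramification index 1 (m_R Λ = m_Λ) whose
residue field extension is separable (geometrically reduced), π a uniformizer of R, A a flat
R-algebra of finite type with an R-algebra map A → Λ, and 𝔭 ⊆ A the inverse image of m_Λ. Assume R →
A is smooth at 𝔭. Let A' = A[𝔭/π] ⊆ A_π be the affine blowup algebra (Néron's blowup) and A' → Λ the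
induced map, i.e. the A-algebra map compatible with A_π → Λ_π (it exists and is unique; it is taken
as a datum here). Then R → A' is smooth at the inverse image 𝔭' of m_Λ in A'. (The source also gives
a short exact sequence relating the differentials of A and A' at 𝔭'; that part is not restated.) -/
theorem result {R Λ A : Type u} [CommRing R] [IsDomain R]
    [IsDiscreteValuationRing R] [CommRing Λ] [IsDomain Λ] [IsDiscreteValuationRing Λ] [Algebra R Λ]
    [NoZeroSMulDivisors R Λ] [IsLocalHom (algebraMap R Λ)]
    (he : (IsLocalRing.maximalIdeal R).map (algebraMap R Λ) = IsLocalRing.maximalIdeal Λ)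
    (hsep : Algebra.IsGeometricallyReduced (IsLocalRing.ResidueField R) (IsLocalRing.ResidueField Λ))
    [CommRing A] [Algebra R A] [Module.Flat R A] [Algebra.FiniteType R A] [Algebra A Λ] [IsScalarTower R A Λ]
    (π : R) (hπ : IsLocalRing.maximalIdeal R = Ideal.span {π})
    (hsm : Algebra.IsSmoothAt R ((IsLocalRing.maximalIdeal Λ).comap (algebraMap A Λ)))
    (φ' : BlowUp.affineAlgebra A ((IsLocalRing.maximalIdeal Λ).comap (algebraMap A Λ)) (algebraMap R A π) →ₐ[A] Λ)
    (hφ' : ∀ a' : BlowUp.affineAlgebra A ((IsLocalRing.maximalIdeal Λ).comap (algebraMap A Λ)) (algebraMap R A π),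
      algebraMap Λ (Localization.Away (algebraMap A Λ (algebraMap R A π))) (φ' a') =
        Localization.awayMap (algebraMap A Λ) (algebraMap R A π) a'.val) :
    Algebra.IsSmoothAt R ((IsLocalRing.maximalIdeal Λ).comap φ'.toRingHom) := by
  classical
  let ι : A →+* IsLocalRing.ResidueField Λ := (IsLocalRing.residue Λ).comp (algebraMap A Λ)
  haveI := hsep
  have hι : RingHom.ker ι = (IsLocalRing.maximalIdeal Λ).comap (algebraMap A Λ) := by
    rw [← RingHom.comap_ker, IsLocalRing.ker_residue]
  have hιR : ∀ r, ι (algebraMap R A r) =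
      algebraMap (IsLocalRing.ResidueField R) (IsLocalRing.ResidueField Λ) (IsLocalRing.residue R r) := fun r => by
    show IsLocalRing.residue Λ (algebraMap A Λ (algebraMap R A r)) = _
    rw [← IsScalarTower.algebraMap_apply R A Λ]
    rfl
  have hp : (IsLocalRing.maximalIdeal R).map (algebraMap R A) ≤
      (IsLocalRing.maximalIdeal Λ).comap (algebraMap A Λ) := by
    rw [Ideal.map_le_iff_le_comap, Ideal.comap_comap, ← IsScalarTower.algebraMap_eq, ← Ideal.map_le_iff_le_comap, he]
  obtain ⟨r, g, hg, hgen, hw⟩ := H8Props.NeronBlowup.exists_params (R := R) _ hp ι hι hιR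
  obtain ⟨s, hs⟩ : ((IsLocalRing.maximalIdeal Λ).comap (algebraMap A Λ)).FG :=
    @IsNoetherian.noetherian A A _ _ _ (Algebra.FiniteType.isNoetherianRing R A) _
  haveI : Algebra.FinitePresentation R A := Algebra.FinitePresentation.of_finiteType.1 inferInstance
  obtain ⟨f₀, hf₀, m, g', het⟩ := H8Props.NeronBlowup.exists_etale_coordinates _ g hw
  choose t ht htm using fun z : s => hgen z (hs ▸ Ideal.subset_span z.2)
  let u : A := ∏ z, t z
  have hu : u ∉ (IsLocalRing.maximalIdeal Λ).comap (algebraMap A Λ) := fun h => by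
    obtain ⟨z, -, hz⟩ := Ideal.IsPrime.prod_mem_iff.1 h
    exact ht z hz
  let f : A := f₀ * u
  have hf : f ∉ (IsLocalRing.maximalIdeal Λ).comap (algebraMap A Λ) := fun h =>
    (Ideal.IsPrime.mem_or_mem inferInstance h).elim hf₀ hu
  -- the coordinates on the smaller open
  let ρ : Localization.Away f₀ →ₐ[A] Localization.Away f :=
    IsLocalization.liftAlgHom (M := Submonoid.powers f₀) (f := Algebra.ofId A (Localization.Away f)) (by
      rintro ⟨_, n, rfl⟩
      show IsUnit (algebraMap A (Localization.Away f) (f₀ ^ n))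
      rw [map_pow]
      exact (isUnit_of_dvd_unit (map_dvd _ (dvd_mul_right f₀ u)) (IsLocalization.Away.algebraMap_isUnit f)).pow n)
  have het' : (MvPolynomial.aeval (Sum.elim (fun i => algebraMap A (Localization.Away f) (g i)) (ρ ∘ g')) :
      MvPolynomial (Fin r ⊕ Fin m) R →ₐ[R] Localization.Away f).toRingHom.Etale := by
    have e : (MvPolynomial.aeval (Sum.elim (fun i => algebraMap A (Localization.Away f) (g i)) (ρ ∘ g')) :
        MvPolynomial (Fin r ⊕ Fin m) R →ₐ[R] Localization.Away f).toRingHom = ρ.toRingHom.comp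
        (MvPolynomial.aeval (Sum.elim (fun i => algebraMap A (Localization.Away f₀) (g i)) g') :
          MvPolynomial (Fin r ⊕ Fin m) R →ₐ[R] Localization.Away f₀).toRingHom := by
      show _ = ((ρ.restrictScalars R).comp (MvPolynomial.aeval _)).toRingHom
      rw [MvPolynomial.comp_aeval]
      congr 2
      ext (i | j)
      · exact (ρ.commutes (g i)).symm
      · rfl
    rw [e]
    refine RingHom.Etale.stableUnderComposition _ _ het ?_
    letI : Algebra (Localization.Away f₀) (Localization.Away f) := ρ.toRingHom.toAlgebra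
    haveI : IsScalarTower A (Localization.Away f₀) (Localization.Away f) :=
      IsScalarTower.of_algebraMap_eq fun x => (ρ.commutes x).symm
    haveI : Algebra.Etale (Localization.Away f₀) (Localization.Away f) :=
      Algebra.Etale.of_restrictScalars (R := A) (A := Localization.Away f₀) (B := Localization.Away f)
    exact RingHom.etale_algebraMap.2 inferInstance
  have hgen' : ∀ z ∈ (IsLocalRing.maximalIdeal Λ).comap (algebraMap A Λ), ∃ e : ℕ,
      f ^ e * z ∈ Ideal.span (Set.range g) ⊔ Ideal.span {algebraMap R A π} := by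
    intro z hz
    refine ⟨1, ?_⟩
    rw [← hs] at hz
    have hM : (IsLocalRing.maximalIdeal R).map (algebraMap R A) = Ideal.span {algebraMap R A π} := by
      rw [hπ, Ideal.map_span, Set.image_singleton]
    rw [← hM]
    induction hz using Submodule.span_induction with
    | mem x hx =>
      obtain ⟨c, hc⟩ := Finset.dvd_prod_of_mem t (Finset.mem_univ (⟨x, hx⟩ : s))
      rw [pow_one, show f * x = f₀ * c * (t ⟨x, hx⟩ * x) by rw [show f = f₀ * u from rfl, show u = _ from hc]; ring]
      exact Ideal.mul_mem_left _ _ (htm ⟨x, hx⟩)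
    | zero => rw [mul_zero]; exact zero_mem _
    | add a b _ _ ha hb => rw [mul_add]; exact add_mem ha hb
    | smul a b _ hb => rw [smul_eq_mul, mul_left_comm]; exact Ideal.mul_mem_left _ _ hb
  have hπ0 : π ≠ 0 := by
    intro h0
    refine IsDiscreteValuationRing.not_a_field R ?_
    rw [hπ, h0, Ideal.span_singleton_eq_bot.2 rfl]
  haveI := H8Props.NeronBlowup.smooth_dilatation π (mem_nonZeroDivisors_of_ne_zero hπ0)
    ((IsLocalRing.maximalIdeal Λ).comap (algebraMap A Λ)) f g hg (ρ ∘ g') het' hgen'
  have hf' : algebraMap A (BlowUp.affineAlgebra A ((IsLocalRing.maximalIdeal Λ).comap (algebraMap A Λ))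
      (algebraMap R A π)) f ∉ (IsLocalRing.maximalIdeal Λ).comap φ'.toRingHom := fun h => hf (by
    rw [Ideal.mem_comap] at h ⊢
    rwa [← φ'.commutes])
  exact H8Props.NeronBlowup.isSmoothAt_of_smooth_away _ _ hf'

end Groth.Agent.S6861
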