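import Groth.Statements.S6863
import Mathlib.Algebra.Module.StablyFree.Basic
import Mathlib.RingTheory.Finiteness.Prod
import Mathlib.RingTheory.Finiteness.Basic
import Mathlib.RingTheory.Nakayama
import Mathlib.LinearAlgebra.FreeModule.Finite.Basic
import Mathlib.LinearAlgebra.TensorProduct.Tower

set_option autoImplicit false
universe u
open TensorProduct
open CAlg

namespace Groth.Agent.S6863

/-- Let `I` be an ideal of a commutative ring `R` contained in the Jacobson radical (equivalently, `1 +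
i` is a unit for each `i ∈ I`). Then each finitely generated stably free module `E` over `R/I`
lifts: there is a finite stably free `R`-module `M` with `M/IM ≅ E` (existence of an isomorphism
only; the published statement names no map). -/
theorem result {R : Type u} [CommRing R] (I : Ideal R)
    (hI : I ≤ Ideal.jacobson (⊥ : Ideal R)) (E : Type u) [AddCommGroup E] [Module (R ⧸ I) E]
    [Module.Finite (R ⧸ I) E] [Module.IsStablyFree (R ⧸ I) E] :
    ∃ (M : Type u) (_ : AddCommGroup M) (_ : Module R M), Module.Finite R M ∧ Module.IsStablyFree R M ∧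
      Nonempty ((R ⧸ I) ⊗[R] M ≃ₗ[R ⧸ I] E) := by
  obtain ⟨F, _, _, _, _, _⟩ := Module.IsStablyFree.exist_free_prod (R ⧸ I) E
  let b := (Module.Free.chooseBasis (R ⧸ I) (E × F)).reindex (Fintype.equivFin _)
  let c := (Module.Free.chooseBasis (R ⧸ I) F).reindex (Fintype.equivFin _)
  set n := Fintype.card (Module.Free.ChooseBasisIndex (R ⧸ I) (E × F))
  set m := Fintype.card (Module.Free.ChooseBasisIndex (R ⧸ I) F)
  let q : (Fin n → R ⧸ I) →ₗ[R ⧸ I] (Fin m → R ⧸ I) :=
    c.equivFun.toLinearMap ∘ₗ LinearMap.snd _ E F ∘ₗ b.equivFun.symm.toLinearMap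
  have hq : Function.Surjective q :=
    c.equivFun.surjective.comp (Prod.snd_surjective.comp b.equivFun.symm.surjective)
  let π : (Fin n → R) →ₗ[R] (Fin n → R ⧸ I) :=
    (Ideal.Quotient.mkₐ R I).toLinearMap.compLeft (Fin n)
  let π' : (Fin m → R) →ₗ[R] (Fin m → R ⧸ I) :=
    (Ideal.Quotient.mkₐ R I).toLinearMap.compLeft (Fin m)
  have hπ : Function.Surjective π := fun v =>
    ⟨fun i => (Ideal.Quotient.mk_surjective (v i)).choose,
      funext fun i => (Ideal.Quotient.mk_surjective (v i)).choose_spec⟩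
  have hπ' : Function.Surjective π' := fun v =>
    ⟨fun i => (Ideal.Quotient.mk_surjective (v i)).choose,
      funext fun i => (Ideal.Quotient.mk_surjective (v i)).choose_spec⟩
  obtain ⟨Q, hQ⟩ := Module.projective_lifting_property π' ((q.restrictScalars R) ∘ₗ π) hπ'
  have hQ' : ∀ y, π' (Q y) = q (π y) := fun y => LinearMap.congr_fun hQ y
  have memI : ∀ {k : ℕ} (z : Fin k → R), (∀ i, z i ∈ I) → z ∈ I • (⊤ : Submodule R (Fin k → R)) := by
    intro k z hz
    rw [pi_eq_sum_univ z]
    exact Submodule.sum_mem _ fun i _ => Submodule.smul_mem_smul (hz i) trivial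
  have hQsurj : Function.Surjective Q := by
    rw [← LinearMap.range_eq_top, eq_top_iff]
    refine Submodule.le_of_le_smul_of_le_jacobson_bot Module.Finite.fg_top hI ?_
    intro y _
    obtain ⟨v, hv⟩ := hq (π' y)
    obtain ⟨x, rfl⟩ := hπ v
    have : y - Q x ∈ I • (⊤ : Submodule R (Fin m → R)) := by
      refine memI _ fun i => ?_
      rw [← Ideal.Quotient.eq_zero_iff_mem]
      have : π' (y - Q x) i = 0 := by rw [map_sub, hQ', hv, sub_self]; rfl
      exact this
    exact Submodule.mem_sup.mpr ⟨Q x, ⟨x, rfl⟩, y - Q x, this, by simp⟩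
  obtain ⟨s, hs⟩ := Module.projective_lifting_property Q LinearMap.id hQsurj
  have hs' : ∀ y, Q (s y) = y := fun y => LinearMap.congr_fun hs y
  let M := LinearMap.ker Q
  let ρ : (Fin n → R) →ₗ[R] M := LinearMap.codRestrict M (LinearMap.id - s ∘ₗ Q)
    (fun y => by simp [M, hs'])
  have hρ : ∀ x : M, ρ x = x := fun x => by
    apply Subtype.ext
    simp [ρ, show Q x.1 = 0 from x.2]
  let e : (Fin n → R) ≃ₗ[R] M × (Fin m → R) :=
    LinearEquiv.ofLinearMap (ρ.prod Q) (M.subtype.coprod s)
      (by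
        apply LinearMap.ext; rintro ⟨x, y⟩
        refine Prod.ext (Subtype.ext ?_) ?_
        · simp [ρ, hs', show Q x.1 = 0 from x.2]
        · simp [hs', show Q x.1 = 0 from x.2])
      (by
        apply LinearMap.ext; intro y
        simp [ρ])
  haveI : Module.Free R (M × (Fin m → R)) := Module.Free.of_equiv e
  haveI : Module.Finite R M := Module.Finite.of_surjective ρ (fun x => ⟨x, hρ x⟩)
  refine ⟨M, inferInstance, inferInstance, inferInstance, .of_free_prod R M (Fin m → R), ⟨?_⟩⟩
  let θ₀ : (R ⧸ I) ⊗[R] M →ₗ[R ⧸ I] (Fin n → R ⧸ I) :=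
    (π ∘ₗ M.subtype).liftBaseChange (R ⧸ I)
  let θ : (R ⧸ I) ⊗[R] M →ₗ[R ⧸ I] E :=
    LinearMap.fst _ E F ∘ₗ b.equivFun.symm.toLinearMap ∘ₗ θ₀
  have hθ₀ : ∀ x : M, θ₀ ((1 : R ⧸ I) ⊗ₜ[R] x) = π x.1 := fun x => by simp [θ₀]
  have hsnd : ∀ y, (b.equivFun.symm (π y)).2 = c.equivFun.symm (π' (Q y)) := fun y => by
    rw [hQ']; simp [q]
  refine LinearEquiv.ofBijective θ ⟨?_, ?_⟩
  · rw [injective_iff_map_eq_zero]
    intro z hz
    obtain ⟨x, rfl⟩ := TensorProduct.mk_surjective R M (R ⧸ I) Ideal.Quotient.mk_surjective z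
    have h0 : b.equivFun.symm (π x.1) = 0 := by
      refine Prod.ext ?_ ?_
      · have := hz
        simp only [θ, TensorProduct.mk_apply, LinearMap.comp_apply, hθ₀] at this
        exact this
      · rw [hsnd, show Q x.1 = 0 from x.2]; simp
    have hxI : ∀ i, x.1 i ∈ I := fun i => by
      rw [← Ideal.Quotient.eq_zero_iff_mem]
      have : π x.1 = 0 := b.equivFun.symm.map_eq_zero_iff.mp h0
      exact congrFun this i
    have hx : x = ρ (∑ i, x.1 i • fun j => if i = j then (1 : R) else 0) := by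
      rw [← pi_eq_sum_univ, hρ]
    rw [TensorProduct.mk_apply, hx, map_sum, TensorProduct.tmul_sum]
    refine Finset.sum_eq_zero fun i _ => ?_
    rw [map_smul, ← TensorProduct.smul_tmul, ← Algebra.algebraMap_eq_smul_one,
      Ideal.Quotient.algebraMap_eq, Ideal.Quotient.eq_zero_iff_mem.mpr (hxI i),
      TensorProduct.zero_tmul]
  · intro u
    obtain ⟨y, hy⟩ := hπ (b.equivFun (u, 0))
    refine ⟨1 ⊗ₜ ρ y, ?_⟩
    have hQy : π' (Q y) = 0 := by
      rw [hQ', hy]; simp [q]
    have hsQy : π (s (Q y)) = 0 := by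
      rw [pi_eq_sum_univ (Q y), map_sum, map_sum]
      refine Finset.sum_eq_zero fun i _ => ?_
      rw [map_smul, map_smul]
      ext j
      have hi : Ideal.Quotient.mk I (Q y i) = 0 := congrFun hQy i
      simp [Algebra.smul_def, hi]
    simp only [θ, LinearMap.comp_apply, hθ₀]
    simp [ρ, map_sub, hsQy, hy]

end Groth.Agent.S6863
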