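import Groth.Statements.S6865
import Mathlib.RingTheory.Nakayama
import Groth.Agent.S6864

set_option autoImplicit false
universe u
open TensorProduct
open CAlg

namespace Groth.Agent.S6865

/-- Let `I` be an ideal of a commutative ring `R` contained in the Jacobson radical and let `P, P'` be
finite projective `R`-modules. If `P/IP` and `P'/IP'` are isomorphic `R/I`-modules, then `P` and
`P'` are isomorphic. -/
theorem result {R : Type u} [CommRing R] (I : Ideal R)
    (hI : I ≤ Ideal.jacobson (⊥ : Ideal R)) (P P' : Type u)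
    [AddCommGroup P] [Module R P] [Module.Finite R P] [Module.Projective R P]
    [AddCommGroup P'] [Module R P'] [Module.Finite R P'] [Module.Projective R P']
    (e : (R ⧸ I) ⊗[R] P ≃ₗ[R ⧸ I] (R ⧸ I) ⊗[R] P') : Nonempty (P ≃ₗ[R] P') := by
  let t : P →ₗ[R] (R ⧸ I) ⊗[R] P' := (e.toLinearMap.restrictScalars R) ∘ₗ TensorProduct.mk R (R ⧸ I) P 1
  obtain ⟨φ, hφ⟩ := Module.projective_lifting_property (TensorProduct.mk R (R ⧸ I) P' 1) t
    (TensorProduct.mk_surjective R P' (R ⧸ I) Ideal.Quotient.mk_surjective)
  have : φ.baseChange (R ⧸ I) = e.toLinearMap := by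
    ext p
    simpa [t] using LinearMap.congr_fun hφ p
  have hb := S6864.result I hI φ (by rw [this]; exact e.bijective)
  exact ⟨LinearEquiv.ofBijective φ hb⟩

end Groth.Agent.S6865
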