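import Groth.Statements.S6866
import Mathlib.LinearAlgebra.FreeModule.Basic
import Mathlib.LinearAlgebra.DirectSum.Finsupp
import Mathlib.RingTheory.Localization.FractionRing
import Mathlib.RingTheory.Flat.Basic
import Mathlib.LinearAlgebra.Basis.VectorSpace
import Mathlib.Algebra.Module.LocalizedModule.Basic
import Mathlib.LinearAlgebra.TensorProduct.Tower
import Mathlib.RingTheory.LocalRing.Module

set_option autoImplicit false
universe u
open TensorProduct
open CAlg

namespace Groth.Agent.S6866

open TensorProduct

/-- If `M` is a torsion free module over a domain `R` and `R → R'` is a flat ring map to another domain,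
then `R' ⊗_R M` is torsion free over `R'`. -/
theorem result (R R' : Type u) [CommRing R] [IsDomain R] [CommRing R']
    [IsDomain R'] [Algebra R R'] [Module.Flat R R'] (M : Type u) [AddCommGroup M] [Module R M]
    [Module.IsTorsionFree R M] : Module.IsTorsionFree R' (R' ⊗[R] M) := by
  let K := FractionRing R
  let V := LocalizedModule (nonZeroDivisors R) M
  let j : M →ₗ[R] V := LocalizedModule.mkLinearMap (nonZeroDivisors R) M
  have hj : Function.Injective j := by
    rw [injective_iff_map_eq_zero]
    intro m hm
    obtain ⟨⟨c, hc⟩, hcm⟩ := (IsLocalizedModule.eq_zero_iff (nonZeroDivisors R) j).mp hm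
    exact (smul_eq_zero.mp (show c • m = 0 from hcm)).resolve_left (nonZeroDivisors.ne_zero hc)
  let k : R' ⊗[R] M →ₗ[R'] R' ⊗[R] V := j.baseChange R'
  have hk : Function.Injective k := Module.Flat.lTensor_preserves_injective_linearMap (M := R') j hj
  have hV : Module.IsTorsionFree R' (R' ⊗[R] V) := by
    classical
    obtain ⟨ι, ⟨b⟩⟩ : ∃ (ι : Type u), Nonempty (Module.Basis ι K V) := ⟨_, ⟨Module.Free.chooseBasis K V⟩⟩
    let e : V ≃ₗ[R] (ι →₀ K) := b.repr.restrictScalars R
    let e' : R' ⊗[R] V ≃ₗ[R'] (ι →₀ (R' ⊗[R] K)) :=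
      (e.baseChange R R') ≪≫ₗ TensorProduct.finsuppRight R R' R' K ι
    have hK : Module.IsTorsionFree R' (R' ⊗[R] K) := by
      refine Module.isTorsionFree_iff_smul_eq_zero.mpr fun a x hax => ?_
      by_cases ha : a = 0
      · exact Or.inl ha
      refine Or.inr ?_
      obtain ⟨r', s, hs⟩ : ∃ (r' : R') (s : nonZeroDivisors R), (s : R) • x = r' ⊗ₜ[R] (1 : K) := by
        clear hax
        induction x with
        | zero => exact ⟨0, 1, by simp⟩
        | add y z hy hz =>
          obtain ⟨r₁, s₁, h₁⟩ := hy
          obtain ⟨r₂, s₂, h₂⟩ := hz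
          refine ⟨(s₂ : R) • r₁ + (s₁ : R) • r₂, s₁ * s₂, ?_⟩
          rw [smul_add, add_tmul, ← smul_tmul', ← smul_tmul', ← h₁, ← h₂, Submonoid.coe_mul, mul_comm, mul_smul, mul_comm, mul_smul, smul_comm]
        | tmul r k =>
          obtain ⟨⟨c, s⟩, hc⟩ := IsLocalization.surj (nonZeroDivisors R) k
          refine ⟨c • r, s, ?_⟩
          rw [← tmul_smul, Algebra.smul_def, mul_comm, hc, Algebra.algebraMap_eq_smul_one, tmul_smul, smul_tmul']
      have h1 : (s : R) • (a • x) = (a * r') ⊗ₜ[R] (1 : K) := by
        rw [smul_comm, hs, smul_tmul', smul_eq_mul]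
      rw [hax, smul_zero] at h1
      have hinj : Function.Injective ((Algebra.linearMap R K).lTensor R') :=
        Module.Flat.lTensor_preserves_injective_linearMap _ (IsFractionRing.injective R K)
      have : (a * r') ⊗ₜ[R] (1 : R) = 0 := hinj (by rw [LinearMap.lTensor_tmul, map_zero]; simpa using h1.symm)
      have : a * r' = 0 := by simpa using congrArg (TensorProduct.rid R R') this
      have hr : r' = 0 := (mul_eq_zero.mp this).resolve_left ha
      have : (s : R) • x = 0 := by rw [hs, hr, zero_tmul]
      have hu : IsUnit (algebraMap R K (s : R)) := IsLocalization.map_units K s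
      have hx : ∀ z : R' ⊗[R] K, (s : R) • z = 0 → z = 0 := fun z hz => by
        obtain ⟨v, hv⟩ := hu.exists_left_inv
        have : (LinearMap.mulLeft R v).lTensor R' ((s : R) • z) = z := by
          clear hz
          induction z with
          | zero => simp
          | add a b ha hb => rw [smul_add, map_add, ha, hb]
          | tmul p q => rw [← tmul_smul, LinearMap.lTensor_tmul, LinearMap.mulLeft_apply, Algebra.smul_def, ← mul_assoc, hv, one_mul]
        rw [← this, hz, map_zero]
      exact hx x this
    exact e'.injective.moduleIsTorsionFree _ (map_smul e')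
  exact hk.moduleIsTorsionFree _ (map_smul k)

end Groth.Agent.S6866
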