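import Groth.Statements.S6868
import Groth.Agent.H1CAlg.ReflexiveNormal

set_option autoImplicit false
universe u
open CAlg

namespace Groth.Agent.S6868

/-- (1) ⇔ (3) ⇔ (4): for a Noetherian domain `R` and a nonzero finite `R`-module `M`, torsion-freeness
of `M` is equivalent to `(0)` being the unique associated prime of `M`, and also to the conjunction:
`(0)` belongs to the support of `M` and `M` satisfies Serre's condition `(S_1)`. (The published
statement also lists embedding into a finite free module and the absence of embedded associated
primes; this row states the other three conditions.) -/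
theorem result (R : Type u) [CommRing R]
    [IsDomain R] [IsNoetherianRing R] (M : Type u) [AddCommGroup M] [Module R M] [Module.Finite R M] [Nontrivial M] :
    (Module.IsTorsionFree R M ↔ associatedPrimes R M = {⊥}) ∧
    (Module.IsTorsionFree R M ↔
      (⟨⊥, Ideal.isPrime_bot⟩ : PrimeSpectrum R) ∈ Module.support R M ∧ LocCoh.HasSk 1 R M) := by
  exact ⟨Groth.Agent.H1CAlg.isTorsionFree_iff_associatedPrimes, Groth.Agent.H1CAlg.isTorsionFree_iff_S1⟩

end Groth.Agent.S6868
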