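import Groth.Statements.S6870
import Groth.Agent.H1CAlg.Torsion

set_option autoImplicit false
universe u
open CAlg

namespace Groth.Agent.S6870

/-- Let `R` be a domain, `M` a finite `R`-module and `j : M → M**` the evaluation map into the double
dual. Then one nonzero `c ∈ R` kills the kernel of `j` and multiplies `M**` into the image of `j`.
(The published statement says only that the kernel and cokernel of `j` are torsion; this row gives
one such `c` for both.) -/
theorem result (R : Type u) [CommRing R] [IsDomain R] (M : Type u)
    [AddCommGroup M] [Module R M] [Module.Finite R M] :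
    ∃ c : R, c ≠ 0 ∧ (∀ x : M, Module.Dual.eval R M x = 0 → c • x = 0) ∧
      ∀ y : Module.Dual R (Module.Dual R M), c • y ∈ LinearMap.range (Module.Dual.eval R M) := by
  obtain ⟨a, k, v, φ, ha, h⟩ := Groth.Agent.H1CAlg.exists_coord_smul R M
  refine ⟨a, ha, fun x hx => ?_, fun y => ⟨∑ i, y ((LinearMap.proj i).comp φ) • v i, LinearMap.ext fun ψ => ?_⟩⟩
  · rw [h]
    refine Finset.sum_eq_zero fun i _ => ?_
    have : φ x i = 0 := LinearMap.congr_fun hx ((LinearMap.proj i).comp φ)
    rw [this, zero_smul]
  · have hψ : a • ψ = ∑ i, ψ (v i) • ((LinearMap.proj i).comp φ) := by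
      ext z
      rw [LinearMap.smul_apply, ← map_smul, h, map_sum, LinearMap.sum_apply]
      exact Finset.sum_congr rfl fun i _ => by simp [mul_comm]
    have := congrArg y hψ
    rw [map_smul, map_sum] at this
    rw [LinearMap.smul_apply, this, Module.Dual.eval_apply, map_sum]
    exact Finset.sum_congr rfl fun i _ => by simp [mul_comm]

end Groth.Agent.S6870
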