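import Groth.Statements.S6878
import Mathlib.RingTheory.Ideal.AssociatedPrime.Basic
import Mathlib.Algebra.Module.LocalizedModule.Basic

set_option autoImplicit false
universe u
open CAlg

namespace Groth.Agent.S6878

/-- Let `R` be a Noetherian ring and `φ : M → N` a map of `R`-modules. Suppose that for every prime `𝔭`
of `R` either `M_𝔭 → N_𝔭` is injective or `𝔭` is not an associated prime of `M`. Then `φ` is
injective. -/
theorem result (R : Type u) [CommRing R]
    [IsNoetherianRing R] {M N : Type u} [AddCommGroup M] [Module R M] [AddCommGroup N] [Module R N] (φ : M →ₗ[R] N)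
    (h : ∀ (p : Ideal R) [p.IsPrime],
      Function.Injective (LocalizedModule.map p.primeCompl φ) ∨ p ∉ associatedPrimes R M) :
    Function.Injective φ := by
  rw [← LinearMap.ker_eq_bot]
  by_contra hne
  haveI : Nontrivial (LinearMap.ker φ) := (Submodule.nontrivial_iff_ne_bot).mpr hne
  obtain ⟨p, hp⟩ := associatedPrimes.nonempty R (LinearMap.ker φ)
  have hp' : p ∈ associatedPrimes R M := associatedPrimes.subset_of_injective (LinearMap.ker φ).injective_subtype hp
  obtain ⟨hpp, x, hx⟩ := Submodule.isAssociatedPrime_iff.mp hp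
  haveI := hpp
  rcases h p with hinj | h
  · have h0 : LocalizedModule.map p.primeCompl φ (LocalizedModule.mk x.1 1) = 0 := by
      rw [LocalizedModule.map_mk, LinearMap.mem_ker.mp x.2, LocalizedModule.zero_mk]
    have h1 := hinj (h0.trans (map_zero _).symm)
    obtain ⟨⟨s, hs⟩, hsx⟩ := LocalizedModule.mk_eq.mp (h1.trans (LocalizedModule.zero_mk 1).symm)
    simp only [smul_zero, one_smul, Submonoid.mk_smul] at hsx
    apply hs
    rw [SetLike.mem_coe, hx, Submodule.mem_colon_singleton, Submodule.mem_bot]
    exact Subtype.ext hsx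
  · exact h hp'

end Groth.Agent.S6878
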