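import Groth.Statements.S6879
import Groth.Agent.H1CAlg.ReflexiveNormal

set_option autoImplicit false
universe u
open CAlg

namespace Groth.Agent.S6879

/-- Let `R` be a Noetherian domain and `M` a finite `R`-module. Then `M` is reflexive if and only if for
every prime `𝔭` of `R` either `M_𝔭` is a reflexive `R_𝔭`-module or `depth(M_𝔭) ≥ 2`. -/
theorem result (R : Type u) [CommRing R] [IsDomain R]
    [IsNoetherianRing R] (M : Type u) [AddCommGroup M] [Module R M] [Module.Finite R M] :
    Module.IsReflexive R M ↔ ∀ (p : Ideal R) [p.IsPrime],
      Module.IsReflexive (Localization.AtPrime p) (LocalizedModule p.primeCompl M) ∨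
        2 ≤ LocCoh.depth (Localization.AtPrime p) (LocalizedModule p.primeCompl M) := by
  exact Groth.Agent.H1CAlg.isReflexive_iff_localization_or_depth

end Groth.Agent.S6879
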