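import Groth.Statements.S6882
import Mathlib.LinearAlgebra.FreeModule.PID
import Mathlib.Algebra.Module.Torsion.Basic
import Mathlib.LinearAlgebra.Dual.Lemmas

set_option autoImplicit false
universe u
open CAlg

namespace Groth.Agent.S6882

/-- For a finite module `M` over a discrete valuation ring `R`, the evaluation map from `M` to its
double dual `M**` is surjective. -/
theorem result (R : Type u) [CommRing R] [IsDomain R]
    [IsDiscreteValuationRing R] (M : Type u) [AddCommGroup M] [Module R M] [Module.Finite R M] :
    Function.Surjective (Module.Dual.eval R M) := by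
  let T := Submodule.torsion R M
  haveI : Module.Free R (M ⧸ T) := inferInstance
  intro y
  obtain ⟨m, hm⟩ := (Module.bijective_dual_eval R (M ⧸ T)).2 (y.comp T.mkQ.dualMap)
  obtain ⟨m, rfl⟩ := T.mkQ_surjective m
  refine ⟨m, LinearMap.ext fun ψ => ?_⟩
  have hT : T ≤ LinearMap.ker ψ := by
    intro x hx
    obtain ⟨⟨a, ha⟩, hax⟩ := hx
    have : a • x = 0 := hax
    rw [LinearMap.mem_ker]
    have := congrArg ψ this
    rw [map_smul, map_zero, smul_eq_mul] at this
    exact (mul_eq_zero.mp this).resolve_left (nonZeroDivisors.ne_zero ha)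
  have := LinearMap.congr_fun hm (T.liftQ ψ hT)
  simpa [LinearMap.dualMap_apply', Submodule.liftQ_mkQ] using this

end Groth.Agent.S6882
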