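import Groth.Statements.S6884
import Groth.Agent.H06EGA11.Colimit
import Groth.Agent.H06EGA11.Model
import Groth.Agent.H1CAlg.FerrandDescent
import Mathlib.RingTheory.Polynomial.Basic
import Mathlib.RingTheory.IntegralClosure.IsIntegralClosure.Basic

set_option autoImplicit false
universe u
open TensorProduct
open CAlg

namespace Groth.Agent.S6884

attribute [local instance] Algebra.TensorProduct.rightAlgebra

/-- A presentation through `BC` gives one through the plain base change. -/
noncomputable def ofBC {R₀ B₀ M₀ R' M : Type u} [CommRing R₀] [CommRing B₀] [Algebra R₀ B₀]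
    [AddCommGroup M₀] [Module R₀ M₀] [Module B₀ M₀] [IsScalarTower R₀ B₀ M₀] [CommRing R']
    [Algebra R₀ R'] [AddCommGroup M] [Module R' M] (e : H06EGA11.BC R₀ B₀ M₀ R' ≃ₗ[R'] M) :
    R' ⊗[R₀] M₀ ≃ₗ[R'] M :=
  (H06EGA11.isBaseChange_toBC (R₀ := R₀) (B₀ := B₀) (M₀ := M₀) R').equiv.trans e

/-- Ferrand descent at a finite stage, followed by base change. -/
theorem descend {R₀ R : Type u} [CommRing R₀] [CommRing R] [Algebra R₀ R] (A B : Type u)
    [CommRing A] [CommRing B] [Algebra R₀ A] [Algebra A B] [Algebra R₀ B] [IsScalarTower R₀ A B]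
    [Algebra A R] [IsScalarTower R₀ A R] (hinj : Function.Injective (algebraMap A B))
    (hN : IsNoetherianRing A) (hF : Module.Finite A B) (M₀ : Type u) [AddCommGroup M₀]
    [Module R₀ M₀] (hB : Module.Flat B (B ⊗[R₀] M₀)) : Module.Flat R (R ⊗[R₀] M₀) := by
  haveI : IsNoetherianRing B := IsNoetherianRing.of_finite A B
  haveI : Module.Flat B (B ⊗[A] (A ⊗[R₀] M₀)) :=
    Module.Flat.of_linearEquiv (AlgebraTensorModule.cancelBaseChange R₀ A B B M₀)
  haveI := H1CAlg.Ferrand.flat_descent A B hinj (A ⊗[R₀] M₀)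
  exact Module.Flat.of_linearEquiv (AlgebraTensorModule.cancelBaseChange R₀ A R R M₀).symm

section
variable {R₀ A A' S : Type u} [CommRing R₀] [CommRing A] [CommRing A'] [CommRing S]
  [Algebra R₀ A] [Algebra R₀ A'] [Algebra A S] [Algebra A' S] [Algebra R₀ S]
  [IsScalarTower R₀ A S] [IsScalarTower R₀ A' S]

/-- The inclusion of a subalgebra over an intermediate ring, as a map over the base ring. -/
noncomputable def vv (B : Subalgebra A S) : B →ₐ[R₀] S where
  toFun x := x.1
  map_one' := rfl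
  map_mul' _ _ := rfl
  map_zero' := rfl
  map_add' _ _ := rfl
  commutes' r := (IsScalarTower.algebraMap_apply R₀ B S r).symm

/-- The inclusion between subalgebras over two intermediate rings. -/
noncomputable def incl (B : Subalgebra A S) (B' : Subalgebra A' S) (h : ∀ x, x ∈ B → x ∈ B') :
    B →ₐ[R₀] B' where
  toFun x := ⟨x.1, h x.1 x.2⟩
  map_one' := rfl
  map_mul' _ _ := rfl
  map_zero' := rfl
  map_add' _ _ := rfl
  commutes' r := Subtype.ext ((IsScalarTower.algebraMap_apply R₀ B S r).symm.trans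
    (IsScalarTower.algebraMap_apply R₀ B' S r))

theorem vv_comp_incl (B : Subalgebra A S) (B' : Subalgebra A' S) (h : ∀ x, x ∈ B → x ∈ B') :
    (vv (R₀ := R₀) B').comp (incl B B' h) = vv B := AlgHom.ext fun _ => rfl

theorem vv_apply (B : Subalgebra A S) (x : B) : vv (R₀ := R₀) B x = (x : S) := rfl

theorem eq_zero_of_vv (B : Subalgebra A S) (B' : Subalgebra A' S) (h : ∀ x, x ∈ B → x ∈ B') (x : B)
    (hx : vv (R₀ := R₀) B x = 0) : incl (R₀ := R₀) B B' h x = 0 := Subtype.ext hx

end

/-- Descent over an abstract Noetherian base. -/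
theorem core {R₀ R S : Type u} [CommRing R₀] [IsNoetherianRing R₀] [CommRing R] [CommRing S]
    [Algebra R₀ R] [Algebra R S] [Algebra R₀ S] [IsScalarTower R₀ R S] [Algebra.IsIntegral R S]
    (hinj : Function.Injective (algebraMap R S)) (P₀ : Type u) [CommRing P₀] [Algebra R₀ P₀]
    [Algebra.FinitePresentation R₀ P₀] (M₀ : Type u) [AddCommGroup M₀] [Module R₀ M₀] [Module P₀ M₀]
    [IsScalarTower R₀ P₀ M₀] [Module.FinitePresentation P₀ M₀] [Module.Flat S (S ⊗[R₀] M₀)] :
    Module.Flat R (R ⊗[R₀] M₀) := by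
  classical
  have hp : ∀ s : S, ∃ p : Polynomial R, p.Monic ∧ Polynomial.aeval s p = 0 := fun s =>
    Algebra.IsIntegral.isIntegral s
  choose p hpm hp0 using hp
  let RT : Finset S → Subalgebra R₀ R := fun T =>
    Algebra.adjoin R₀ ((T.biUnion fun s => (p s).coeffs : Finset R) : Set R)
  have hRTmono : ∀ T T' : Finset S, T ⊆ T' → RT T ≤ RT T' := fun T T' h =>
    Algebra.adjoin_mono (Finset.coe_subset.2 (Finset.biUnion_subset_biUnion_of_subset_left _ h))
  let ST : (T : Finset S) → Subalgebra (RT T) S := fun T => Algebra.adjoin (RT T) (T : Set S)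
  have hSTmono : ∀ T T' : Finset S, T ⊆ T' → ∀ x, x ∈ ST T → x ∈ ST T' := by
    intro T T' h x hx
    induction hx using Algebra.adjoin_induction with
    | mem x hx => exact Algebra.subset_adjoin (h hx)
    | algebraMap r =>
      exact (ST T').algebraMap_mem ⟨(r : R), hRTmono T T' h r.2⟩
    | add x y _ _ hx hy => exact add_mem hx hy
    | mul x y _ _ hx hy => exact mul_mem hx hy
  let f : ∀ T T' : Finset S, T ≤ T' → ST T →ₐ[R₀] ST T' := fun T T' h =>
    incl (ST T) (ST T') (hSTmono T T' h)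
  let g : ∀ T : Finset S, ST T →ₐ[R₀] S := fun T => vv (ST T)
  obtain ⟨T, hT⟩ := H06EGA11.exists_index_flat (B₀ := P₀) M₀
    (fun T => ↥(ST T)) f g (fun T T' h => vv_comp_incl (ST T) (ST T') (hSTmono T T' h))
    (fun a => ⟨{a}, ⟨a, Algebra.subset_adjoin (Finset.mem_coe.2 (Finset.mem_singleton_self a))⟩, vv_apply _ _⟩)
    (fun T x hx => ⟨T, le_rfl, eq_zero_of_vv (ST T) (ST T) (hSTmono T T le_rfl) x hx⟩)
  refine descend (R := R) (RT T) (ST T) ?_ ?_ ?_ M₀ ?_
  · exact fun a b hab => Subtype.ext (hinj (congrArg Subtype.val hab))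
  · haveI : Algebra.FiniteType R₀ (RT T) := (RT T).fg_iff_finiteType.1 (Subalgebra.fg_adjoin_finset _)
    exact Algebra.FiniteType.isNoetherianRing R₀ _
  · refine Module.Finite.iff_fg.2 (fg_adjoin_of_finite T.finite_toSet fun s hs => ?_)
    have hl : p s ∈ Polynomial.lifts (algebraMap (RT T) R) := by
      rw [Polynomial.lifts_iff_coeff_lifts]
      intro k
      by_cases hk : (p s).coeff k = 0
      · exact ⟨0, by rw [hk, map_zero]⟩
      · exact ⟨⟨_, Algebra.subset_adjoin (Finset.mem_coe.2 (Finset.mem_biUnion.2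
          ⟨s, hs, Polynomial.coeff_mem_coeffs hk⟩))⟩, rfl⟩
    obtain ⟨q, hq, -, hqm⟩ := Polynomial.lifts_and_natDegree_eq_and_monic hl (hpm s)
    refine ⟨q, hqm, ?_⟩
    rw [← Polynomial.aeval_def, ← Polynomial.aeval_map_algebraMap R, hq, hp0]
  · exact hT

/-- For an injective integral ring map `R → S` and `n ≥ 0`, let `M` be a module of finite presentation
over the polynomial ring `R[x_1, …, x_n]`. Then flatness of `S ⊗_R M` over `S` forces flatness of
`M` over `R`. -/
theorem result (R S : Type u) [CommRing R]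
    [CommRing S] [Algebra R S] [Algebra.IsIntegral R S] (hinj : Function.Injective (algebraMap R S)) (n : ℕ)
    (M : Type u) [AddCommGroup M] [Module (MvPolynomial (Fin n) R) M] [Module R M]
    [IsScalarTower R (MvPolynomial (Fin n) R) M] [Module.FinitePresentation (MvPolynomial (Fin n) R) M]
    [Module.Flat S (S ⊗[R] M)] : Module.Flat R M := by
  classical
  obtain ⟨R₀, hR₀, M₀, _, _, _, _, _, -, e, -, -⟩ := H06EGA11.exists_model (A := R) (n := n) M
  haveI : Algebra.FiniteType ℤ R₀ := R₀.fg_iff_finiteType.1 hR₀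
  haveI : IsNoetherianRing R₀ := Algebra.FiniteType.isNoetherianRing ℤ R₀
  let e' : R ⊗[R₀] M₀ ≃ₗ[R] M := ofBC (B₀ := MvPolynomial (Fin n) R₀) e
  haveI : Module.Flat S (S ⊗[R] (R ⊗[R₀] M₀)) :=
    Module.Flat.of_linearEquiv (AlgebraTensorModule.congr (LinearEquiv.refl S S) e')
  haveI : Module.Flat S (S ⊗[R₀] M₀) :=
    Module.Flat.of_linearEquiv (AlgebraTensorModule.cancelBaseChange R₀ R S S M₀).symm
  haveI : Module.FinitePresentation (MvPolynomial (Fin n) R₀) M₀ :=
    Module.finitePresentation_of_finite _ _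
  haveI := core (R₀ := R₀) hinj (MvPolynomial (Fin n) R₀) M₀
  exact Module.Flat.of_linearEquiv e'.symm

end Groth.Agent.S6884
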