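import Groth.Statements.S6885
import Groth.Agent.H1CAlg.FerrandProjective
-- import your own Groth.Agent.* helpers here

set_option autoImplicit false
universe u
open TensorProduct
open CAlg

namespace Groth.Agent.S6885

/-- For an injective ring map `R → S` between Noetherian rings making `S` a finite `R`-module, an
`R`-module `P` whose base change `S ⊗_R P` is projective over `S` is projective over `R`. -/
theorem result (R S : Type u) [CommRing R]
    [IsNoetherianRing R] [CommRing S] [IsNoetherianRing S] [Algebra R S] [Module.Finite R S]
    (hinj : Function.Injective (algebraMap R S)) (P : Type u) [AddCommGroup P] [Module R P]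
    [Module.Projective S (S ⊗[R] P)] : Module.Projective R P := by
  exact Groth.Agent.H1CAlg.projective_descent R S hinj P

end Groth.Agent.S6885
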