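import Groth.Statements.S6886
import Mathlib.RingTheory.AdjoinRoot
import Mathlib.RingTheory.Finiteness.Basic
import Mathlib.RingTheory.IntegralClosure.Algebra.Basic
import Mathlib.RingTheory.Flat.FaithfullyFlat.Algebra
import Mathlib.Algebra.Polynomial.Splits

set_option autoImplicit false
universe u
open TensorProduct
open CAlg

namespace Groth.Agent.S6886

theorem exists_splits {R : Type u} [CommRing R] [Nontrivial R] {κ : Type} (P : κ → Polynomial R)
    (hP : ∀ i, (P i).Monic) (s : Finset κ) :
    ∃ (R' : Type u) (_ : CommRing R') (_ : Algebra R R') (_ : Module.Finite R R') (_ : Module.Free R R')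
      (_ : Nontrivial R'), ∀ i ∈ s, ((P i).map (algebraMap R R')).Splits := by
  classical
  induction s using Finset.induction with
  | empty => exact ⟨R, inferInstance, inferInstance, inferInstance, inferInstance, inferInstance, by simp⟩
  | insert i s _ ih =>
    obtain ⟨R₁, _, _, _, _, _, hs⟩ := ih
    obtain ⟨S, _, _, _, _, _, hS⟩ := ((hP i).map (algebraMap R R₁)).exists_splits_map
    letI : Algebra R S := ((algebraMap R₁ S).comp (algebraMap R R₁)).toAlgebra
    haveI : IsScalarTower R R₁ S := IsScalarTower.of_algebraMap_eq fun _ => rfl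
    refine ⟨S, inferInstance, inferInstance, .trans R₁ S, .trans (S := R₁), inferInstance, fun j hj => ?_⟩
    rw [IsScalarTower.algebraMap_eq R R₁ S, ← Polynomial.map_map]
    rcases Finset.mem_insert.mp hj with rfl | hj
    · exact hS
    · exact (hs j hj).map _

/-- Let `R → S` be a finite ring map. One can find an extension `R ⊆ R'` of rings, with `R'` finite and
free as an `R`-module, for which the ring `S ⊗_R R'` arises as a quotient of `R'[T_1, …,
T_n]/(P_1(T_1), …, P_n(T_n))` with each `P_i(T) = ∏_j (T - α_{ij})` a product of linear factors over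
`R'`. -/
theorem result (R S : Type u) [CommRing R] [CommRing S] [Algebra R S]
    [Module.Finite R S] :
    ∃ (R' : Type u) (_ : CommRing R') (_ : Algebra R R'), Module.Finite R R' ∧ Module.Free R R' ∧
      Function.Injective (algebraMap R R') ∧
      ∃ (n : ℕ) (d : Fin n → ℕ) (α : (i : Fin n) → Fin (d i) → R')
        (φ : MvPolynomial (Fin n) R' →ₐ[R'] R' ⊗[R] S), Function.Surjective φ ∧
          ∀ i, φ (∏ j, (MvPolynomial.X i - MvPolynomial.C (α i j))) = 0 := by
  classical
  rcases subsingleton_or_nontrivial R with hR | hR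
  · haveI : Subsingleton S := Module.subsingleton R S
    haveI : Subsingleton (R ⊗[R] S) := Module.subsingleton R _
    refine ⟨R, inferInstance, inferInstance, inferInstance, inferInstance, Function.injective_id, 0, fun i => i.elim0,
      fun i => i.elim0, MvPolynomial.aeval (fun i => i.elim0), fun x => ⟨0, Subsingleton.elim _ _⟩, fun i => i.elim0⟩
  obtain ⟨G, hG⟩ := Module.Finite.fg_top (R := R) (M := S)
  let n := G.card
  let x : Fin n → S := fun i => (G.equivFin.symm i : S)
  choose P hP hPx using fun i => Algebra.IsIntegral.isIntegral (R := R) (x i)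
  obtain ⟨R', _, _, hfin, hfree, hnt, hsplit⟩ := exists_splits P hP Finset.univ
  have hroots : ∀ i, ∃ (d : ℕ) (α : Fin d → R'), (P i).map (algebraMap R R') = ∏ j, (Polynomial.X - Polynomial.C (α j)) := by
    intro i
    obtain ⟨m, hm⟩ := Polynomial.splits_iff_exists_multiset'.mp (hsplit i (Finset.mem_univ _))
    rw [((hP i).map _).leadingCoeff, map_one, one_mul] at hm
    refine ⟨m.toList.length, fun j => -(m.toList.get j), ?_⟩
    rw [hm]
    simp only [map_neg, sub_neg_eq_add]
    rw [← Fin.prod_ofFn, List.ofFn_comp' m.toList.get fun a => Polynomial.X + Polynomial.C a, List.ofFn_get,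
      ← Multiset.prod_coe, ← Multiset.map_coe, Multiset.coe_toList]
  choose d α hα using hroots
  haveI := hfree
  haveI := hnt
  refine ⟨R', inferInstance, inferInstance, hfin, hfree, ?_, n, d, α,
    MvPolynomial.aeval (fun i => (1 : R') ⊗ₜ[R] x i), ?_, fun i => ?_⟩
  · exact FaithfulSMul.algebraMap_injective R R'
  · rw [← AlgHom.range_eq_top, ← Algebra.adjoin_range_eq_range_aeval, eq_top_iff]
    refine fun z _ => ?_
    rename_i htop
    clear htop
    induction z using TensorProduct.induction_on with
    | zero => exact zero_mem _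
    | tmul a s =>
      have hs : s ∈ Submodule.span R (G : Set S) := hG ▸ Submodule.mem_top
      induction hs using Submodule.span_induction with
      | mem g hg =>
        rw [show a ⊗ₜ[R] g = a • ((1 : R') ⊗ₜ[R] g) by rw [TensorProduct.smul_tmul', smul_eq_mul, mul_one]]
        have hmem : (1 : R') ⊗ₜ[R] g ∈ Algebra.adjoin R' (Set.range fun i => (1 : R') ⊗ₜ[R] x i) :=
          Algebra.subset_adjoin ⟨G.equivFin ⟨g, hg⟩, by simp [x]⟩
        exact Subalgebra.smul_mem _ hmem a
      | zero => rw [TensorProduct.tmul_zero]; exact zero_mem _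
      | add u v _ _ hu hv => rw [TensorProduct.tmul_add]; exact add_mem hu hv
      | smul r u _ hu =>
        rw [TensorProduct.tmul_smul, ← algebraMap_smul R' r]
        exact Subalgebra.smul_mem _ hu _
    | add u v hu hv => exact add_mem hu hv
  · rw [map_prod]
    have h := congrArg (Polynomial.aeval ((1 : R') ⊗ₜ[R] x i)) (hα i)
    rw [map_prod, Polynomial.aeval_map_algebraMap] at h
    simp only [map_sub, MvPolynomial.aeval_X, MvPolynomial.aeval_C, Polynomial.aeval_X, Polynomial.aeval_C] at h ⊢
    rw [← h, show (1 : R') ⊗ₜ[R] x i = (Algebra.TensorProduct.includeRight : S →ₐ[R] R' ⊗[R] S) (x i) from rfl,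
      Polynomial.aeval_algHom_apply, show Polynomial.aeval (x i) (P i) = 0 from hPx i, map_zero]

end Groth.Agent.S6886
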