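import Groth.Statements.S6887
import Mathlib

set_option autoImplicit false
universe u
open Polynomial
open CAlg

namespace Groth.Agent.S6887

/-- Let `(A, I)` be a Zariski pair (`I` inside the Jacobson radical) and `A → B` a finite ring map.
Suppose `B/IB ≅ B₁ × B₂` as `A`-algebras with `A → B₁` surjective, and `b ∈ B` maps to `(1, 0)`.
Then there is a monic `f ∈ A[x]` with `f(b) = 0` whose reduction modulo `I` is `(x - 1) x^d` for
some `d ≥ 1`. -/
theorem result (A B : Type u) [CommRing A] [CommRing B]
    [Algebra A B] [Module.Finite A B] (I : Ideal A) (hI : I ≤ Ideal.jacobson (⊥ : Ideal A))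
    (B₁ B₂ : Type u) [CommRing B₁] [CommRing B₂] [Algebra A B₁] [Algebra A B₂]
    (e : (B ⧸ I.map (algebraMap A B)) ≃ₐ[A] B₁ × B₂) (h₁ : Function.Surjective (algebraMap A B₁)) (b : B)
    (hb : e (Ideal.Quotient.mk (I.map (algebraMap A B)) b) = (1, 0)) :
    ∃ (f : A[X]) (d : ℕ), f.Monic ∧ Polynomial.aeval b f = 0 ∧ 1 ≤ d ∧
      f.map (Ideal.Quotient.mk I) = (X - 1) * X ^ d := by
  classical
  obtain ⟨m, g, hg⟩ := Module.Finite.exists_fin (R := A) (M := B)
  let g' : Fin (m + 1) → B := Fin.cons 0 g
  let w : Option (Fin (m + 1)) → B := fun o => o.elim b fun j => (1 - b) * g' j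
  let J := I.map (algebraMap A B)
  have hIJ : ∀ z : B, z ∈ J → z ∈ I • (⊤ : Submodule A B) := fun z hz => by
    rw [Ideal.smul_top_eq_map]; exact hz
  have hspan : Submodule.span A (Set.range w) = ⊤ := by
    refine top_le_iff.1 (Submodule.le_of_le_smul_of_le_jacobson_bot Module.Finite.fg_top hI ?_)
    intro z _
    obtain ⟨a, ha⟩ := h₁ (e (Ideal.Quotient.mk J z)).1
    have hz : z = a • b + (1 - b) * z + (z - (a • b + (1 - b) * z)) := by ring
    rw [hz]
    refine Submodule.add_mem_sup (add_mem (Submodule.smul_mem _ a (Submodule.subset_span ⟨none, rfl⟩)) ?_) (hIJ _ ?_)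
    · obtain ⟨c, hc⟩ := (Submodule.mem_span_range_iff_exists_fun A (x := z)).1 (hg.ge trivial)
      rw [← hc, Finset.mul_sum]
      refine sum_mem fun j _ => ?_
      rw [mul_smul_comm]
      exact Submodule.smul_mem _ _ (Submodule.subset_span ⟨some j.succ, rfl⟩)
    · refine Ideal.Quotient.eq.1 (e.injective ?_)
      rw [map_add, map_add, map_mul, map_mul, map_sub, map_one, map_sub, map_one,
        Algebra.smul_def a b, map_mul, map_mul, Ideal.Quotient.mk_algebraMap, e.commutes, hb]
      refine Prod.ext ?_ ?_
      · simp [ha]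
      · simp
  -- the matrix of multiplication by `b`
  let ε : Option (Fin (m + 1)) → A := fun o => o.elim 1 fun _ => 0
  have hbb : b * b - b ∈ J := by
    refine Ideal.Quotient.eq.1 (e.injective ?_)
    rw [map_mul, map_mul, hb]
    refine Prod.ext ?_ ?_ <;> simp
  have hrem : ∀ o, ∃ c : Option (Fin (m + 1)) →₀ I, b * w o - ε o • w o = Ideal.finsuppTotal _ B I w c := fun o => by
    have : b * w o - ε o • w o ∈ LinearMap.range (Ideal.finsuppTotal (Option (Fin (m + 1))) B I w) := by
      rw [Ideal.range_finsuppTotal, hspan]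
      refine hIJ _ ?_
      cases o with
      | none => simpa [w, ε] using hbb
      | some j =>
        have h2 : b * ((1 - b) * g' j) = -(g' j) * (b * b - b) := by ring
        simp only [w, ε, Option.elim, zero_smul, sub_zero, h2]
        exact J.mul_mem_left _ hbb
    obtain ⟨c, hc⟩ := this
    exact ⟨c, hc.symm⟩
  choose c hc using hrem
  let C : Matrix (Option (Fin (m + 1))) (Option (Fin (m + 1))) A := fun i j => (c j i : A)
  let M := Matrix.diagonal ε + C
  have hM : M.Represents w (LinearMap.mulLeft A b) := by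
    rw [Matrix.represents_iff']
    intro j
    rw [LinearMap.mulLeft_apply, ← sub_add_cancel (b * w j) (ε j • w j), hc, Ideal.finsuppTotal_apply_eq_of_fintype]
    simp only [M, C, Matrix.add_apply, add_smul, Finset.sum_add_distrib, Matrix.diagonal_apply, ite_smul, zero_smul,
      Finset.sum_ite_eq', Finset.mem_univ, if_true]
    rw [add_comm]
  refine ⟨M.charpoly, m + 1, M.charpoly_monic, ?_, Nat.le_add_left 1 m, ?_⟩
  · have h0 := Matrix.aeval_self_charpoly M
    let M' : Matrix.isRepresentation A w := ⟨M, _, hM⟩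
    have h1 : Polynomial.aeval M' M.charpoly = 0 := Subtype.ext (by rw [Polynomial.aeval_subalgebra_coe]; exact h0)
    have h2 := congrArg (Matrix.isRepresentation.toEnd A w hspan) h1
    rw [← Polynomial.aeval_algHom_apply, map_zero, Matrix.isRepresentation.eq_toEnd_of_represents A w hspan M' hM] at h2
    have h3 := LinearMap.congr_fun h2 1
    rw [show LinearMap.mulLeft A b = Algebra.lmul A B b from rfl, Polynomial.aeval_algHom_apply] at h3
    simpa using h3
  · rw [← Matrix.charpoly_map]
    have hmap : M.map (Ideal.Quotient.mk I) = Matrix.diagonal (fun o => Ideal.Quotient.mk I (ε o)) := by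
      ext i j
      simp only [M, C, Matrix.map_apply, Matrix.add_apply, map_add, Ideal.Quotient.eq_zero_iff_mem.2 (c j i).2, add_zero,
        Matrix.diagonal_apply]
      split_ifs <;> simp
    rw [hmap, Matrix.charpoly_diagonal, Fintype.prod_option]
    simp [ε]

end Groth.Agent.S6887
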