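import Groth.Statements.S6888
import Mathlib.RingTheory.Henselian
import Mathlib.Algebra.Polynomial.Derivative
import Mathlib.Tactic.LinearCombination
import Mathlib.Algebra.BigOperators.Fin
-- import your own Groth.Agent.* helpers here

set_option autoImplicit false
universe u
open Polynomial
open CAlg

namespace Groth.Agent.S6888

/-- Idempotents congruent modulo the Jacobson radical are equal. -/
theorem idem_unique {A : Type u} [CommRing A] {I : Ideal A} (hI : I ≤ Ideal.jacobson ⊥) {e e' : A}
    (he : IsIdempotentElem e) (he' : IsIdempotentElem e') (h : e - e' ∈ I) : e = e' := by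
  have h1 : (e - e') * (1 - (e - e') ^ 2) = 0 := by linear_combination (3 * e' - e - 1) * he.eq + (-3 * e + e' + 1) * he'.eq
  have hu : IsUnit (1 - (e - e') ^ 2) := by
    have := Ideal.mem_jacobson_bot.mp (hI h) (-(e - e'))
    convert this using 1
    ring
  exact sub_eq_zero.mp ((hu.mul_left_eq_zero).mp h1)

/-- Let `A` be absolutely integrally closed (every monic polynomial over `A` is a product of linear
factors) and `I ⊆ A` an ideal contained in the Jacobson radical such that `A → A/I` is surjective
(hence bijective) on idempotents. Then `(A, I)` is a henselian pair. (The published statement also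
records the converse, which holds for every henselian pair; this row states the sufficiency only.) -/
theorem result (A : Type u) [CommRing A]
    (hA : ∀ f : A[X], f.Monic → ∃ s : Multiset A, f = (s.map fun a => X - C a).prod) (I : Ideal A)
    (hI : I ≤ Ideal.jacobson (⊥ : Ideal A))
    (hidem : ∀ e : A ⧸ I, IsIdempotentElem e → ∃ e' : A, IsIdempotentElem e' ∧ Ideal.Quotient.mk I e' = e) :
    HenselianRing A I := by
  classical
  refine ⟨hI, fun f hf a₀ ha₀ hu => ?_⟩
  obtain ⟨S, hS⟩ := hA f hf
  obtain ⟨n, s, hs⟩ : ∃ (n : ℕ) (s : Fin n → A), f = ∏ j, (Polynomial.X - Polynomial.C (s j)) := by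
    refine ⟨S.toList.length, fun j => S.toList.get j, hS.trans ?_⟩
    conv_lhs => rw [← S.coe_toList, Multiset.map_coe, Multiset.prod_coe]
    rw [← List.prod_ofFn]
    congr 1
    exact List.ext_getElem (by simp) (by intro k h1 h2; simp)
  let π := Ideal.Quotient.mk I
  let d : Fin n → A ⧸ I := fun j => ∏ i ∈ Finset.univ.erase j, π (a₀ - s i)
  have hprod : ∏ i, π (a₀ - s i) = 0 := by
    rw [← map_prod, Ideal.Quotient.eq_zero_iff_mem]
    convert ha₀
    rw [hs, Polynomial.eval_prod]
    simp
  have hsum : π (f.derivative.eval a₀) = ∑ j, d j := by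
    rw [hs, Polynomial.derivative_prod_finset, Polynomial.eval_finsetSum, map_sum]
    refine Finset.sum_congr rfl fun j _ => ?_
    rw [Polynomial.derivative_X_sub_C, mul_one, Polynomial.eval_prod, map_prod]
    exact Finset.prod_congr rfl fun i _ => by simp [π]
  have horth : ∀ j k, j ≠ k → d j * d k = 0 := by
    intro j k hjk
    have h1 : d j * π (a₀ - s j) = 0 := (Finset.prod_erase_mul _ _ (Finset.mem_univ j)).trans hprod
    show d j * (∏ i ∈ Finset.univ.erase k, π (a₀ - s i)) = 0
    rw [← Finset.mul_prod_erase _ _ (Finset.mem_erase.mpr ⟨hjk, Finset.mem_univ j⟩), ← mul_assoc, h1, zero_mul]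
  obtain ⟨u, hu'⟩ := hu
  have hdd : ∀ j, d j * d j = d j * π (f.derivative.eval a₀) := fun j => by
    rw [hsum, Finset.mul_sum]
    exact (Finset.sum_eq_single j (fun k _ hk => horth j k (Ne.symm hk)) (by simp)).symm
  let e : Fin n → A ⧸ I := fun j => d j * ↑u⁻¹
  have he : ∀ j, IsIdempotentElem (e j) := fun j => by
    show d j * ↑u⁻¹ * (d j * ↑u⁻¹) = d j * ↑u⁻¹
    rw [mul_mul_mul_comm, hdd j, ← hu', mul_assoc, ← mul_assoc (u : A ⧸ I), Units.mul_inv, one_mul]
  choose E hE hEe using fun j => hidem (e j) (he j)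
  have hEo : ∀ j k, j ≠ k → E j * E k = 0 := fun j k hjk => by
    refine idem_unique hI ((hE j).mul (hE k)) IsIdempotentElem.zero ?_
    rw [← Ideal.Quotient.eq_zero_iff_mem, sub_zero, map_mul, hEe, hEe, mul_mul_mul_comm, horth j k hjk, zero_mul]
  have hsumE : ∑ j, E j = 1 := by
    refine idem_unique hI ?_ IsIdempotentElem.one ?_
    · show (∑ j, E j) * (∑ j, E j) = ∑ j, E j
      rw [Finset.sum_mul]
      refine Finset.sum_congr rfl fun j _ => ?_
      rw [Finset.mul_sum, Finset.sum_eq_single j (fun k _ hk => hEo j k (Ne.symm hk)) (by simp)]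
      exact hE j
    · rw [← Ideal.Quotient.eq_zero_iff_mem, map_sub, map_sum, map_one]
      simp only [hEe, e]
      rw [← Finset.sum_mul, ← hsum, ← hu', Units.mul_inv, sub_self]
  refine ⟨∑ j, E j * s j, ?_, ?_⟩
  · show f.eval (∑ j, E j * s j) = 0
    set a := ∑ j, E j * s j with ha
    have : ∀ j, E j * f.eval a = 0 := fun j => by
      have h1 : E j * (a - s j) = 0 := by
        rw [mul_sub, ha, Finset.mul_sum, Finset.sum_eq_single j
          (fun k _ hk => by rw [← mul_assoc, hEo j k (Ne.symm hk), zero_mul]) (by simp),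
          ← mul_assoc, (hE j).eq, sub_self]
      rw [hs, Polynomial.eval_prod, ← Finset.mul_prod_erase _ _ (Finset.mem_univ j), ← mul_assoc]
      simp [h1]
    rw [← one_mul (f.eval a), ← hsumE, Finset.sum_mul]
    exact Finset.sum_eq_zero fun j _ => this j
  · rw [← Ideal.Quotient.eq, map_sum]
    have h2 : ∀ j, π (E j * s j) = e j * π a₀ := fun j => by
      have h3 : d j * π (a₀ - s j) = 0 := (Finset.prod_erase_mul _ _ (Finset.mem_univ j)).trans hprod
      rw [map_sub] at h3
      rw [map_mul, hEe]
      linear_combination (-(↑u⁻¹ : A ⧸ I)) * h3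
    show ∑ j, π (E j * s j) = π a₀
    simp only [h2, e]
    rw [← Finset.sum_mul, ← Finset.sum_mul, ← hsum, ← hu', Units.mul_inv, one_mul]

end Groth.Agent.S6888
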