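import Groth.Statements.S6893
import Groth.Agent.H1CAlg.FlatDevissage
import Mathlib.RingTheory.Ideal.Operations

set_option autoImplicit false
universe u
open TensorProduct
open CAlg

namespace Groth.Agent.S6893

open scoped TensorProduct
open H1CAlg.FlatDev

theorem flat_of_inf_eq_bot {R : Type u} [CommRing R] (M : Type u) [AddCommGroup M] [Module R M]
    (I₁ I₂ : Ideal R) (h : I₁ ⊓ I₂ = ⊥) [Module.Flat (R ⧸ I₁) ((R ⧸ I₁) ⊗[R] M)]
    [Module.Flat (R ⧸ I₂) ((R ⧸ I₂) ⊗[R] M)] : Module.Flat R M := by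
  have hmul : ∀ a ∈ I₂, ∀ b ∈ I₁, a * b = 0 := fun a ha b hb =>
    (Submodule.mem_bot R).mp (h ▸ ⟨I₁.mul_mem_left a hb, I₂.mul_mem_right b ha⟩)
  -- `I₁ ⊗ M → (R/I₂) ⊗ M` is injective
  have hI₁ : Function.Injective (I₁.subtype.lTensor M) := by
    let ι : I₁ →ₗ[R] R ⧸ I₂ := (Submodule.mkQ I₂) ∘ₗ I₁.subtype
    have hι : Function.Injective ι := by
      rw [injective_iff_map_eq_zero]
      intro a ha
      exact Subtype.ext ((Submodule.mem_bot R).mp (h ▸ ⟨a.2, (Submodule.Quotient.mk_eq_zero _).mp ha⟩))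
    have e : ι = (LinearMap.range ι).subtype ∘ₗ (LinearEquiv.ofInjective ι hι).toLinearMap := rfl
    have h1 : Function.Injective (ι.lTensor M) := by
      rw [e, LinearMap.lTensor_comp]
      refine (lTensor_injective_of_killed I₂ (fun a ha z => ?_) _).comp (LinearEquiv.lTensor M _).injective
      obtain ⟨z, rfl⟩ := Ideal.Quotient.mk_surjective z
      rw [Algebra.smul_def, Ideal.Quotient.algebraMap_eq, Ideal.Quotient.eq_zero_iff_mem.mpr ha, zero_mul]
    rw [LinearMap.lTensor_comp] at h1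
    exact Function.Injective.of_comp h1
  rw [Module.Flat.iff_lTensor_injective']
  intro P
  refine lTensor_injective_step I₁ hI₁ (fun Q => lTensor_injective_of_killed I₂ (fun a ha z => ?_) Q) P
  apply Subtype.ext
  show a • z.1 = 0
  rw [smul_eq_mul]
  refine hmul a ha _ ?_
  have h' : I₁ • (⊤ : Submodule R R) ≤ I₁ := by rw [smul_eq_mul, Ideal.mul_top]
  exact h' z.2

/-- Let `M` be a module over a ring `R` and `I₁, I₂ ⊆ R` ideals. Suppose flatness of `M/I₁M` as an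
`R/I₁`-module holds, and likewise `M/I₂M` is a flat `R/I₂`-module; then the quotient `M/(I₁ ∩ I₂)M`
is also flat as a module over `R/(I₁ ∩ I₂)`. -/
theorem result {R : Type u} [CommRing R] (M : Type u) [AddCommGroup M] [Module R M]
    (I₁ I₂ : Ideal R) [Module.Flat (R ⧸ I₁) ((R ⧸ I₁) ⊗[R] M)] [Module.Flat (R ⧸ I₂) ((R ⧸ I₂) ⊗[R] M)] :
    Module.Flat (R ⧸ (I₁ ⊓ I₂)) ((R ⧸ (I₁ ⊓ I₂)) ⊗[R] M) := by
  let S := R ⧸ (I₁ ⊓ I₂)
  let J₁ : Ideal S := I₁.map (algebraMap R S)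
  let J₂ : Ideal S := I₂.map (algebraMap R S)
  have hJ : J₁ ⊓ J₂ = ⊥ := by
    rw [eq_bot_iff]
    intro z ⟨h1, h2⟩
    obtain ⟨a, ha, rfl⟩ := (Ideal.mem_map_iff_of_surjective _ Ideal.Quotient.mk_surjective).mp h1
    obtain ⟨b, hb, hba⟩ := (Ideal.mem_map_iff_of_surjective _ Ideal.Quotient.mk_surjective).mp h2
    rw [Ideal.Quotient.mk_eq_mk_iff_sub_mem] at hba
    refine Ideal.Quotient.eq_zero_iff_mem.mpr ⟨ha, ?_⟩
    have : a = b - (b - a) := by ring
    rw [this]; exact I₂.sub_mem hb hba.2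
  haveI : Module.Flat (S ⧸ J₁) ((S ⧸ J₁) ⊗[S] (S ⊗[R] M)) := by
    haveI := flat_baseChange_of_killed (M := M) I₁ (S ⧸ J₁) (fun a ha => by
      rw [IsScalarTower.algebraMap_apply R S (S ⧸ J₁)]
      exact Ideal.Quotient.eq_zero_iff_mem.mpr (Ideal.mem_map_of_mem _ ha))
    exact Module.Flat.of_linearEquiv (TensorProduct.AlgebraTensorModule.cancelBaseChange R S (S ⧸ J₁) (S ⧸ J₁) M)
  haveI : Module.Flat (S ⧸ J₂) ((S ⧸ J₂) ⊗[S] (S ⊗[R] M)) := by
    haveI := flat_baseChange_of_killed (M := M) I₂ (S ⧸ J₂) (fun a ha => by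
      rw [IsScalarTower.algebraMap_apply R S (S ⧸ J₂)]
      exact Ideal.Quotient.eq_zero_iff_mem.mpr (Ideal.mem_map_of_mem _ ha))
    exact Module.Flat.of_linearEquiv (TensorProduct.AlgebraTensorModule.cancelBaseChange R S (S ⧸ J₂) (S ⧸ J₂) M)
  exact flat_of_inf_eq_bot (S ⊗[R] M) J₁ J₂ hJ

end Groth.Agent.S6893
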