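import Groth.Statements.S6894
import Groth.Agent.H29Fitt.Rank

set_option autoImplicit false
universe u
open TensorProduct
open Fitt

namespace Groth.Agent.S6894

/-- Let `M` be a finite `R`-module, `k ≥ 0` and `𝔭 ⊆ R` a prime. Then each of the following conditions
implies all the others: the Fitting ideal `Fit_k(M)` is not contained in `𝔭`; the fiber `M ⊗_R κ(𝔭)`
has dimension at most `k` over `κ(𝔭)`; some `k` elements span the localization `M_𝔭` over `R_𝔭`; and
for some `f ∉ 𝔭`, the module `M_f` is spanned over `R_f` by `k` elements. -/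
theorem result {R : Type u} [CommRing R] (M : Type u) [AddCommGroup M] [Module R M]
    [Module.Finite R M] (k : ℕ) (p : Ideal R) [p.IsPrime] :
    (¬ Fitt.ideal R M k ≤ p ↔ Module.finrank p.ResidueField (p.ResidueField ⊗[R] M) ≤ k) ∧
    (¬ Fitt.ideal R M k ≤ p ↔
      ∃ g : Fin k → LocalizedModule p.primeCompl M, Submodule.span (Localization.AtPrime p) (Set.range g) = ⊤) ∧
    (¬ Fitt.ideal R M k ≤ p ↔ ∃ f : R, f ∉ p ∧
      ∃ g : Fin k → LocalizedModule (Submonoid.powers f) M,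
        Submodule.span (Localization.Away f) (Set.range g) = ⊤) := by
  have h12 := Groth.Agent.H29Fitt.not_le_prime_iff_finrank_le (M := M) k p
  refine ⟨h12, ⟨fun h => ?_, fun ⟨g, hg⟩ => ?_⟩, ⟨fun h => ?_, fun ⟨f, hf, g, hg⟩ => ?_⟩⟩
  · obtain ⟨f, hf, m, hm⟩ := Groth.Agent.H29Fitt.exists_spansUpTo_powers h
    refine ⟨_, Groth.Agent.H29Fitt.span_localized_of_spansUpTo (m := m) fun x => ?_⟩
    obtain ⟨s, hs, hsx⟩ := hm x
    exact ⟨s, (Submonoid.powers_le (P := p.primeCompl)).mpr hf hs, hsx⟩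
  · obtain ⟨m, hm⟩ := Groth.Agent.H29Fitt.spansUpTo_of_span_localized g hg
    exact h12.mpr (Groth.Agent.H29Fitt.finrank_le_of_spansUpTo le_rfl hm)
  · obtain ⟨f, hf, m, hm⟩ := Groth.Agent.H29Fitt.exists_spansUpTo_powers h
    exact ⟨f, hf, _, Groth.Agent.H29Fitt.span_localized_of_spansUpTo hm⟩
  · obtain ⟨m, hm⟩ := Groth.Agent.H29Fitt.spansUpTo_of_span_localized g hg
    exact h12.mpr (Groth.Agent.H29Fitt.finrank_le_of_spansUpTo ((Submonoid.powers_le).mpr hf) hm)

end Groth.Agent.S6894
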