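import Groth.Statements.S6895
import Mathlib
import Groth.Agent.H29Fitt.LocFree

set_option autoImplicit false
universe u
open Fitt

namespace Groth.Agent.S6895

/-- (1) ⇔ (3): let `M` be a finite `R`-module and `r ≥ 0`. Then `M` is finite locally free of rank `r`
(every prime has a basic open neighbourhood `D(f)` with `M_f` free of rank `r` over `R_f`) if and
only if `Fit_k(M) = 0` for `k < r` and `Fit_k(M) = R` for `k ≥ r`. -/
theorem result {R : Type u} [CommRing R] (M : Type u) [AddCommGroup M] [Module R M]
    [Module.Finite R M] (r : ℕ) :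
    (∀ (p : Ideal R) [p.IsPrime], ∃ f : R, f ∉ p ∧
      Module.Free (Localization.Away f) (LocalizedModule (Submonoid.powers f) M) ∧
        Module.finrank (Localization.Away f) (LocalizedModule (Submonoid.powers f) M) = r) ↔
    ((∀ k, k < r → Fitt.ideal R M k = ⊥) ∧ (∀ k, r ≤ k → Fitt.ideal R M k = ⊤)) := by
  classical
  have hloc : ∀ (f : R) (k : ℕ), Fitt.ideal (Localization.Away f) (LocalizedModule (Submonoid.powers f) M) k =
      (Fitt.ideal R M k).map (algebraMap R (Localization.Away f)) := fun f k =>
    Groth.Agent.H29Fitt.ideal_of_isLocalizedModule (Submonoid.powers f)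
      (LocalizedModule.mkLinearMap (Submonoid.powers f) M) k
  refine ⟨fun h => ?_, fun ⟨h0, h1⟩ p hp => ?_⟩
  · have key : ∀ (p : Ideal R) [p.IsPrime], ∃ f : R, f ∉ p ∧
        ∀ k, (Fitt.ideal R M k).map (algebraMap R (Localization.Away f)) = if r ≤ k then ⊤ else ⊥ := by
      intro p _
      obtain ⟨f, hf, hfree, hrank⟩ := h p
      refine ⟨f, hf, fun k => ?_⟩
      have hnt : Nontrivial (Localization.Away f) := by
        rw [← not_subsingleton_iff_nontrivial,
          IsLocalization.subsingleton_iff (M := Submonoid.powers f)]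
        rintro ⟨n, hn⟩
        exact hf (‹p.IsPrime›.mem_of_pow_mem n (by rw [show f ^ n = 0 from hn]; exact p.zero_mem))
      let b := (Module.finBasis (Localization.Away f) (LocalizedModule (Submonoid.powers f) M)).reindex
        (finCongr hrank)
      rw [← hloc]
      split_ifs with hk
      · exact Groth.Agent.H29Fitt.ideal_eq_top_of_span b b.span_eq hk
      · exact Groth.Agent.H29Fitt.ideal_eq_bot_of_independent b b.span_eq
          (fun c hc => funext (Fintype.linearIndependent_iff.mp b.linearIndependent c hc))
          (Nat.lt_of_not_le hk)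
    refine ⟨fun k hk => ?_, fun k hk => ?_⟩
    · refine eq_bot_iff.mpr fun a ha => ?_
      by_contra hne
      obtain ⟨p, hp, hle⟩ := Ideal.exists_le_maximal (LinearMap.ker (LinearMap.toSpanSingleton R R a))
        (fun htop => hne (by simpa using (LinearMap.mem_ker.1 (htop.ge (Submodule.mem_top (x := (1 : R)))))))
      haveI := hp.isPrime
      obtain ⟨f, hf, hk'⟩ := key p
      have h2 := Ideal.mem_map_of_mem (algebraMap R (Localization.Away f)) ha
      rw [hk' k, if_neg (by omega), Ideal.mem_bot] at h2
      obtain ⟨⟨_, n, rfl⟩, hn⟩ := (IsLocalization.map_eq_zero_iff (Submonoid.powers f) _ _).1 h2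
      exact hf (hp.isPrime.mem_of_pow_mem n (hle (by simpa using hn)))
    · by_contra hne
      obtain ⟨p, hp, hle⟩ := Ideal.exists_le_maximal _ hne
      haveI := hp.isPrime
      obtain ⟨f, hf, hk'⟩ := key p
      have h2 := hk' k
      rw [if_pos hk, ← not_ne_iff,
        IsLocalization.map_algebraMap_ne_top_iff_disjoint (Submonoid.powers f)] at h2
      obtain ⟨_, ⟨n, rfl⟩, hn⟩ := Set.not_disjoint_iff.1 h2
      exact hf (hp.isPrime.mem_of_pow_mem n (hle hn))
  · obtain ⟨f, hf, m, hm⟩ := Groth.Agent.H29Fitt.exists_spansUpTo_powers (M := M) (k := r) (p := p)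
      (fun hle => hp.ne_top (eq_top_iff.2 (by rw [← h1 r le_rfl]; exact hle)))
    have hsp := Groth.Agent.H29Fitt.span_localized_of_spansUpTo hm
    have hnt : Nontrivial (Localization.Away f) := by
      rw [← not_subsingleton_iff_nontrivial,
        IsLocalization.subsingleton_iff (M := Submonoid.powers f)]
      rintro ⟨n, hn⟩
      exact hf (hp.mem_of_pow_mem n (by rw [show f ^ n = 0 from hn]; exact p.zero_mem))
    have hi : LinearIndependent (Localization.Away f)
        (fun j => LocalizedModule.mk (m j) (1 : Submonoid.powers f)) := by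
      rw [Fintype.linearIndependent_iff]
      exact fun c hc => congrFun (Groth.Agent.H29Fitt.eq_zero_of_ideal_eq_bot _ hsp
        (fun k hk => by rw [hloc, h0 k hk, Ideal.map_bot]) c hc)
    let b := Module.Basis.mk hi hsp.ge
    exact ⟨f, hf, Module.Free.of_basis b, by rw [Module.finrank_eq_card_basis b, Fintype.card_fin]⟩

end Groth.Agent.S6895
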