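import Groth.Statements.S6897
import Groth.Agent.H3CAlg.FittPrincipal

set_option autoImplicit false
universe u
open CategoryTheory
open Fitt

namespace Groth.Agent.S6897

/-- Let `M` be a finitely presented `R`-module and `k ≥ 0` such that `Fit_k(M) = (f)` for a
nonzerodivisor `f` and `Fit_{k-1}(M) = 0` (no condition when `k = 0`). Let `M' = Ker(f : M → M)`.
Then: the projective dimension of `M` is at most `1`; `M'` coincides with the `f`-power torsion of
`M` and its projective dimension is at most `1`; every prime of `R` has a basic open neighbourhood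
over which `M/M'` is free of rank `k`; and `M ≅ M/M' ⊕ M'` (existence of an isomorphism). -/
theorem result {R : Type u} [CommRing R] (M : Type u)
    [AddCommGroup M] [Module R M] [Module.FinitePresentation R M] (k : ℕ) (f : R) (hf0 : f ∈ nonZeroDivisors R)
    (hf : Fitt.ideal R M k = Ideal.span {f}) (hk : k = 0 ∨ Fitt.ideal R M (k - 1) = ⊥) :
    HasProjectiveDimensionLT (ModuleCat.of R M) 2 ∧
    (∀ x : M, (∃ n : ℕ, f ^ n • x = 0) ↔ f • x = 0) ∧
    HasProjectiveDimensionLT (ModuleCat.of R ↥(LinearMap.ker (f • (LinearMap.id : M →ₗ[R] M)))) 2 ∧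
    (∀ (p : Ideal R) [p.IsPrime], ∃ g : R, g ∉ p ∧
      Module.Free (Localization.Away g)
          (LocalizedModule (Submonoid.powers g) (M ⧸ LinearMap.ker (f • (LinearMap.id : M →ₗ[R] M)))) ∧
        Module.finrank (Localization.Away g)
          (LocalizedModule (Submonoid.powers g) (M ⧸ LinearMap.ker (f • (LinearMap.id : M →ₗ[R] M)))) = k) ∧
    Nonempty (M ≃ₗ[R] (M ⧸ LinearMap.ker (f • (LinearMap.id : M →ₗ[R] M))) ×
      ↥(LinearMap.ker (f • (LinearMap.id : M →ₗ[R] M)))) := by
  classical
  set T := LinearMap.ker (f • (LinearMap.id : M →ₗ[R] M)) with hT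
  obtain ⟨n, x, hx⟩ := Module.Finite.exists_fin (R := R) (M := M)
  let π : (Fin n → R) →ₗ[R] M := Fintype.linearCombination R x
  have hπ : Function.Surjective π :=
    LinearMap.range_eq_top.mp (by rw [Fintype.range_linearCombination, hx])
  have hdata := fun (p : Ideal R) [p.IsPrime] =>
    Groth.Agent.H3CAlg.FittPrincipal.exists_local_data k f hf0 hf hk x hx p
  have : Module.Finite R (LinearMap.ker π) :=
    Module.Finite.iff_fg.mpr (Module.FinitePresentation.fg_ker π hπ)
  obtain ⟨-, hKproj⟩ := Groth.Agent.H3CAlg.FittPrincipal.finitePresentation_and_projective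
    (N := LinearMap.ker π) fun p _ => by
      obtain ⟨c, hc, -, z, hz⟩ := hdata p
      exact ⟨c, hc, n - k, z, hz⟩
  obtain ⟨hQfp, hQproj⟩ := Groth.Agent.H3CAlg.FittPrincipal.finitePresentation_and_projective
    (N := M ⧸ T) fun p _ => by
      obtain ⟨c, hc, ⟨y, hy⟩, -⟩ := hdata p
      exact ⟨c, hc, k, y, hy⟩
  -- the splitting
  obtain ⟨s, hs⟩ := Module.projective_lifting_property T.mkQ LinearMap.id T.mkQ_surjective
  obtain ⟨e, he1, he2⟩ := ((Function.Exact.split_tfae (LinearMap.exact_subtype_mkQ T)
    Subtype.val_injective T.mkQ_surjective).out 0 2 rfl rfl).mp ⟨s, hs⟩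
  have hpdM : HasProjectiveDimensionLT (ModuleCat.of R M) 2 := by
    let S : ShortComplex (ModuleCat.{u} R) := ShortComplex.mk
      (ModuleCat.ofHom (LinearMap.ker π).subtype) (ModuleCat.ofHom π)
      (ModuleCat.hom_ext (LinearMap.ext fun w => w.2))
    have hS : S.ShortExact :=
      { exact := by
          rw [ShortComplex.moduleCat_exact_iff]
          intro w hw
          exact ⟨⟨w, hw⟩, rfl⟩
        mono_f := (ModuleCat.mono_iff_injective _).mpr Subtype.val_injective
        epi_g := (ModuleCat.epi_iff_surjective _).mpr hπ }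
    have h1 : Projective S.X₁ := (IsProjective.iff_projective (R := R) (LinearMap.ker π)).mp hKproj
    have h2 : Projective S.X₂ := ModuleCat.projective_of_free (M := S.X₂) (Pi.basisFun R (Fin n))
    exact (hS.hasProjectiveDimensionLT_X₃_iff 0 h2).mpr inferInstance
  refine ⟨hpdM, fun m => ⟨?_, fun h => ⟨1, by rwa [pow_one]⟩⟩, ?_, fun p _ => ?_,
    ⟨e.trans (LinearEquiv.prodComm R _ _)⟩⟩
  · rintro ⟨j, hj⟩
    -- `f` is injective on the projective quotient
    have hinj : ∀ q : M ⧸ T, f • q = 0 → q = 0 := fun q hq =>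
      (Module.Flat.isSMulRegular_of_nonZeroDivisors hf0) (by simpa using hq)
    have hm : m ∈ T := by
      rw [← Submodule.Quotient.mk_eq_zero]
      have hjq : f ^ j • (Submodule.Quotient.mk m : M ⧸ T) = 0 := by
        rw [← Submodule.Quotient.mk_smul, hj, Submodule.Quotient.mk_zero]
      clear hj
      induction j with
      | zero => simpa using hjq
      | succ j ih => exact ih (hinj _ (by rwa [pow_succ', mul_smul] at hjq))
    exact hm
  · let r : Retract (ModuleCat.of R T) (ModuleCat.of R M) :=
      { i := ModuleCat.ofHom T.subtype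
        r := ModuleCat.ofHom (LinearMap.fst R T (M ⧸ T) ∘ₗ e.toLinearMap)
        retract := by
          refine ModuleCat.hom_ext (LinearMap.ext fun t => ?_)
          change (e (T.subtype t)).1 = t
          rw [show T.subtype t = e.symm (t, 0) from LinearMap.congr_fun he1 t,
            LinearEquiv.apply_symm_apply] }
    exact r.hasProjectiveDimensionLT 2
  · obtain ⟨c, hc, ⟨y, hy⟩, -⟩ := hdata p
    obtain ⟨b⟩ := Groth.Agent.H3CAlg.FittPrincipal.nonempty_basis hy
    have : Nontrivial (Localization.Away c) := by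
      refine ⟨1, 0, fun h => ?_⟩
      rw [← map_one (algebraMap R (Localization.Away c)), IsLocalization.map_eq_zero_iff (Submonoid.powers c)] at h
      obtain ⟨⟨_, j, rfl⟩, hj⟩ := h
      simp only [mul_one] at hj
      exact hc (‹p.IsPrime›.mem_of_pow_mem j (hj ▸ p.zero_mem))
    exact ⟨c, hc, Module.Free.of_basis b, by rw [Module.finrank_eq_card_basis b, Fintype.card_fin]⟩

end Groth.Agent.S6897
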