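import Groth.Statements.S6898
import Groth.Agent.H7Flat.InjectiveModMax
import Mathlib.RingTheory.Nakayama
-- import your own Groth.Agent.* helpers here

set_option autoImplicit false
universe u
open TensorProduct
open CAlg

open scoped TensorProduct

namespace Groth.Agent.S6898

/-- Let `(A, 𝔪)` be a local ring and `u : M → N` a linear map between flat `A`-modules whose reduction
`M/𝔪M → N/𝔪N` is injective. If `I` is the content ideal of some `x ∈ M` (the least ideal `I` with `x
∈ IM`), then `I` is also the least ideal `J` with `u(x) ∈ J·N`. -/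
theorem result {A : Type u} [CommRing A] [IsLocalRing A] {M N : Type u}
    [AddCommGroup M] [Module A M] [Module.Flat A M] [AddCommGroup N] [Module A N] [Module.Flat A N] (u : M →ₗ[A] N)
    (hu : Function.Injective (u.baseChange (IsLocalRing.ResidueField A))) (x : M) (I : Ideal A)
    (hx : IsLeast {J : Ideal A | x ∈ J • (⊤ : Submodule A M)} I) :
    IsLeast {J : Ideal A | u x ∈ J • (⊤ : Submodule A N)} I := by
  classical
  have h : Function.Injective (u.lTensor (IsLocalRing.ResidueField A)) := hu
  have hx1 : x ∈ I • (⊤ : Submodule A M) := hx.1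
  refine ⟨?_, ?_⟩
  · have := Submodule.mem_map_of_mem (f := u) hx1
    rw [Submodule.map_smul''] at this
    exact Submodule.smul_mono le_rfl le_top this
  intro J (hJ : u x ∈ J • (⊤ : Submodule A N))
  set m := IsLocalRing.maximalIdeal A
  have hfg : I.FG := by
    obtain ⟨G, hGI, hGx⟩ : ∃ G : Finset A, (↑G : Set A) ⊆ I ∧ x ∈ Ideal.span (G : Set A) • (⊤ : Submodule A M) := by
      refine Submodule.smul_induction_on hx.1 (fun r hr n _ => ⟨{r}, by simpa using hr,
        Submodule.smul_mem_smul (Ideal.subset_span (by simp)) trivial⟩) ?_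
      rintro a b ⟨G, hG, ha⟩ ⟨G', hG', hb⟩
      refine ⟨G ∪ G', by simp [hG, hG'], add_mem ?_ ?_⟩
      · exact Submodule.smul_mono (Ideal.span_mono (by simp)) le_rfl ha
      · exact Submodule.smul_mono (Ideal.span_mono (by simp)) le_rfl hb
    exact ⟨G, le_antisymm (Ideal.span_le.mpr hGI) (hx.2 hGx)⟩
  obtain ⟨z, hz⟩ := Groth.Agent.H7Flat.exists_rid_lTensor_eq I hx.1
  let π : I →ₗ[A] A ⧸ J := (Submodule.mkQ J).comp I.subtype
  have hexJ : Function.Exact (Submodule.inclusion (inf_le_right : J ⊓ I ≤ I)) π := by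
    intro y
    refine ⟨fun hy ↦ ?_, ?_⟩
    · exact ⟨⟨y.1, (Submodule.Quotient.mk_eq_zero _).mp hy, y.2⟩, Subtype.ext rfl⟩
    · rintro ⟨w, rfl⟩
      exact (Submodule.Quotient.mk_eq_zero _).mpr w.2.1
  obtain ⟨w, hw⟩ := Groth.Agent.H7Flat.exists_rid_lTensor_eq J hJ
  have hw' : I.subtype.lTensor N (u.rTensor I z) = J.subtype.lTensor N w :=
    (TensorProduct.rid A N).injective (by rw [hw, Groth.Agent.H7Flat.rid_lTensor_rTensor, hz])
  obtain ⟨y, hy⟩ := (Module.Flat.lTensor_exact N hexJ (u.rTensor I z)).mp (by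
    rw [show π = (Submodule.mkQ J).comp I.subtype from rfl, LinearMap.lTensor_comp_apply, hw',
      ← LinearMap.lTensor_comp_apply]
    have : (Submodule.mkQ J).comp J.subtype = 0 :=
      LinearMap.ext fun j ↦ (Submodule.Quotient.mk_eq_zero _).mpr j.2
    rw [this, LinearMap.lTensor_zero, LinearMap.zero_apply])
  let T : Ideal A := (J ⊓ I) ⊔ m * I
  let K : Submodule A I := Submodule.comap I.subtype T
  have htor : Module.IsTorsionBySet A (I ⧸ K) (m : Set A) := by
    intro q r
    obtain ⟨l, rfl⟩ := Submodule.Quotient.mk_surjective _ q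
    rw [← Submodule.Quotient.mk_smul, Submodule.Quotient.mk_eq_zero]
    exact Submodule.mem_sup_right (Ideal.mul_mem_mul r.2 l.2)
  let _ : Module (IsLocalRing.ResidueField A) (I ⧸ K) := htor.module
  have : IsScalarTower A (IsLocalRing.ResidueField A) (I ⧸ K) := htor.isScalarTower (S := A)
  have hz0 : K.mkQ.lTensor M z = 0 := by
    refine Groth.Agent.H7Flat.rTensor_injective_of_lTensor_injective u h (I ⧸ K) ?_
    rw [map_zero, ← LinearMap.comp_apply, LinearMap.rTensor_comp_lTensor,
      ← LinearMap.lTensor_comp_rTensor, LinearMap.comp_apply, ← hy, ← LinearMap.lTensor_comp_apply]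
    have : K.mkQ.comp (Submodule.inclusion (inf_le_right : J ⊓ I ≤ I)) = 0 :=
      LinearMap.ext fun j ↦ (Submodule.Quotient.mk_eq_zero _).mpr (Submodule.mem_sup_left j.2)
    rw [this, LinearMap.lTensor_zero, LinearMap.zero_apply]
  obtain ⟨z', rfl⟩ :=
    (lTensor_exact M (LinearMap.exact_subtype_mkQ K) K.mkQ_surjective z).mp hz0
  have hxT : x ∈ T • (⊤ : Submodule A M) := by
    rw [← hz]
    clear hw hw' hy hz hz0
    induction z' with
    | zero => simp
    | tmul a k => simpa using Submodule.smul_mem_smul (k.2 : (k.1 : A) ∈ T) (Submodule.mem_top (x := a))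
    | add a b ha hb => simpa only [map_add] using add_mem ha hb
  have hIT : I ≤ T := hx.2 hxT
  have : I ≤ J ⊓ I :=
    Submodule.le_of_le_smul_of_le_jacobson_bot hfg (IsLocalRing.maximalIdeal_le_jacobson _) (by simpa [T, smul_eq_mul] using hIT)
  exact this.trans inf_le_left

end Groth.Agent.S6898
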