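import Groth.Statements.S6900
import Groth.Agent.H9Hens.MilnorAlgebra
-- import your own Groth.Agent.* helpers here

set_option autoImplicit false
universe u
open TensorProduct
open EtAlg

namespace Groth.Agent.S6900

theorem isPushout_pair {B' B A' A : Type u} [CommRing B'] [CommRing B] [CommRing A'] [CommRing A]
    [Algebra B' B] [Algebra B' A'] [Algebra B A] [Algebra A' A] [Algebra B' A] [IsScalarTower B' B A] [IsScalarTower B' A' A]
    (hsq : EtMil.IsFibreSquare B' B A' A)
    {D' D C' C : Type u} [CommRing D'] [CommRing D] [CommRing C'] [CommRing C]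
    [Algebra D' D] [Algebra D' C'] [Algebra D C] [Algebra C' C] [Algebra D' C] [IsScalarTower D' D C] [IsScalarTower D' C' C]
    (hsq' : EtMil.IsFibreSquare D' D C' C)
    [Algebra B' D'] [Algebra B D] [Algebra A' C'] [Algebra A C]
    [Algebra B' D] [IsScalarTower B' B D] [IsScalarTower B' D' D]
    [Algebra B' C'] [IsScalarTower B' A' C'] [IsScalarTower B' D' C']
    [Algebra B C] [IsScalarTower B A C] [IsScalarTower B D C]
    [Algebra A' C] [IsScalarTower A' A C] [IsScalarTower A' C' C]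
    [Algebra.IsPushout B D A C] [Algebra.IsPushout A' C' A C] :
    Algebra.IsPushout B' B D' D ∧ Algebra.IsPushout B' A' D' C' := by
  let e1 : A ⊗[B] D ≃ₗ[A] C := (Algebra.IsPushout.symm ‹Algebra.IsPushout B D A C›).out.equiv
  let e2 : A ⊗[A'] C' ≃ₗ[A] C := (Algebra.IsPushout.symm ‹Algebra.IsPushout A' C' A C›).out.equiv
  let φ : A ⊗[B] D ≃ₗ[A] A ⊗[A'] C' := e1 ≪≫ₗ e2.symm
  have hmem : ∀ x : D × C', x ∈ EtMil.glue B' φ ↔ algebraMap D C x.1 = algebraMap C' C x.2 := by
    intro x
    show e2.symm (e1 ((1 : A) ⊗ₜ x.1)) = (1 : A) ⊗ₜ x.2 ↔ _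
    rw [LinearEquiv.symm_apply_eq]
    simp [e1, e2, IsBaseChange.equiv_tmul]
  let g : D' →ₗ[B'] ↥(EtMil.glue B' φ) :=
    ((IsScalarTower.toAlgHom B' D' D).toLinearMap.prod (IsScalarTower.toAlgHom B' D' C').toLinearMap).codRestrict _
      fun x => (hmem _).2 (by
        show algebraMap D C (algebraMap D' D x) = algebraMap C' C (algebraMap D' C' x)
        rw [← IsScalarTower.algebraMap_apply, ← IsScalarTower.algebraMap_apply])
  have hg : Function.Bijective g := by
    refine ⟨fun x y hxy => H9Hens.Milnor.ext_of_isFibreSquare hsq' (congrArg (fun v => v.1.1) hxy)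
      (congrArg (fun v => v.1.2) hxy), fun v => ?_⟩
    obtain ⟨x, ⟨h1, h2⟩, -⟩ := hsq'.2 v.1.1 v.1.2 ((hmem _).1 v.2)
    exact ⟨x, Subtype.ext (Prod.ext h1 h2)⟩
  let e := LinearEquiv.ofBijective g hg
  have h := H9Hens.Milnor.weak_of_isFibreSquare hsq
  refine ⟨⟨?_⟩, ⟨?_⟩⟩
  · refine IsBaseChange.of_equiv ((e.baseChange B' B D' _).trans
      (LinearEquiv.ofBijective _ (H9Hens.Milnor.bijective_liftBaseChange_fst φ h))) fun x => ?_
    simp [e, g, EtMil.glueFst]
  · refine IsBaseChange.of_equiv ((e.baseChange B' A' D' _).trans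
      (LinearEquiv.ofBijective _ (H9Hens.Milnor.bijective_liftBaseChange_snd φ h))) fun x => ?_
    simp [e, g, EtMil.glueSnd]


/-- Let `B' = B ×_A A'` be a fibre square of rings with `A' → A` surjective. Let `D` be a `B`-algebra
and `C'` an `A'`-algebra with a common base change `C = D ⊗_B A = C' ⊗_{A'} A`, and let `D' = D ×_C
C'` be the fibre product ring with its `B'`-algebra structure. Then `B' → D'` is of finite type
(resp. flat, resp. flat and of finite presentation, resp. smooth, resp. étale) if and only if `B →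
D` and `A' → C'` both are. -/
theorem result (B' B A' A : Type u) [CommRing B'] [CommRing B] [CommRing A'] [CommRing A]
    [Algebra B' B] [Algebra B' A'] [Algebra B A] [Algebra A' A] [Algebra B' A] [IsScalarTower B' B A] [IsScalarTower B' A' A]
    (hsq : EtMil.IsFibreSquare B' B A' A)
    (D' D C' C : Type u) [CommRing D'] [CommRing D] [CommRing C'] [CommRing C]
    [Algebra D' D] [Algebra D' C'] [Algebra D C] [Algebra C' C] [Algebra D' C] [IsScalarTower D' D C] [IsScalarTower D' C' C]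
    (hsq' : EtMil.IsFibreSquare D' D C' C)
    [Algebra B' D'] [Algebra B D] [Algebra A' C'] [Algebra A C]
    [Algebra B' D] [IsScalarTower B' B D] [IsScalarTower B' D' D]
    [Algebra B' C'] [IsScalarTower B' A' C'] [IsScalarTower B' D' C']
    [Algebra B C] [IsScalarTower B A C] [IsScalarTower B D C]
    [Algebra A' C] [IsScalarTower A' A C] [IsScalarTower A' C' C]
    [Algebra.IsPushout B D A C] [Algebra.IsPushout A' C' A C] :
    (Algebra.FiniteType B' D' ↔ Algebra.FiniteType B D ∧ Algebra.FiniteType A' C') ∧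
    (Module.Flat B' D' ↔ Module.Flat B D ∧ Module.Flat A' C') ∧
    (Module.Flat B' D' ∧ Algebra.FinitePresentation B' D' ↔
      (Module.Flat B D ∧ Algebra.FinitePresentation B D) ∧ (Module.Flat A' C' ∧ Algebra.FinitePresentation A' C')) ∧
    (Algebra.Smooth B' D' ↔ Algebra.Smooth B D ∧ Algebra.Smooth A' C') ∧
    (Algebra.Etale B' D' ↔ Algebra.Etale B D ∧ Algebra.Etale A' C') := by
  obtain ⟨hpB, hpA⟩ := isPushout_pair hsq hsq'
  let eB : B ⊗[B'] D' ≃ₐ[B] D := Algebra.IsPushout.equiv B' B D' D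
  let eA : A' ⊗[B'] D' ≃ₐ[A'] C' := Algebra.IsPushout.equiv B' A' D' C'
  refine ⟨⟨fun h => ⟨.equiv inferInstance eB, .equiv inferInstance eA⟩, fun h => ?_⟩,
    ⟨fun h => ⟨.of_linearEquiv eB.symm.toLinearEquiv, .of_linearEquiv eA.symm.toLinearEquiv⟩, fun h => ?_⟩,
    ⟨fun h => ?_, fun h => ?_⟩,
    ⟨fun h => ⟨.of_equiv eB, .of_equiv eA⟩, fun h => ?_⟩,
    ⟨fun h => ⟨.of_equiv eB, .of_equiv eA⟩, fun h => ?_⟩⟩
  · haveI := h.1; haveI := h.2
    haveI : Algebra.FiniteType B (B ⊗[B'] D') := .equiv h.1 eB.symm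
    haveI : Algebra.FiniteType A' (A' ⊗[B'] D') := .equiv h.2 eA.symm
    exact H9Hens.Milnor.finiteType_of_baseChange hsq
  · haveI := h.1; haveI := h.2
    haveI : Module.Flat B (B ⊗[B'] D') := .of_linearEquiv eB.toLinearEquiv
    haveI : Module.Flat A' (A' ⊗[B'] D') := .of_linearEquiv eA.toLinearEquiv
    exact H9Hens.Milnor.flat_of_flat_baseChange hsq
  · haveI := h.1; haveI := h.2
    exact ⟨⟨.of_linearEquiv eB.symm.toLinearEquiv, .equiv eB⟩, .of_linearEquiv eA.symm.toLinearEquiv, .equiv eA⟩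
  · obtain ⟨⟨h1, h2⟩, h3, h4⟩ := h
    haveI : Module.Flat B (B ⊗[B'] D') := .of_linearEquiv eB.toLinearEquiv
    haveI : Module.Flat A' (A' ⊗[B'] D') := .of_linearEquiv eA.toLinearEquiv
    haveI : Algebra.FinitePresentation B (B ⊗[B'] D') := .equiv eB.symm
    haveI : Algebra.FinitePresentation A' (A' ⊗[B'] D') := .equiv eA.symm
    exact ⟨H9Hens.Milnor.flat_of_flat_baseChange hsq, H9Hens.Milnor.finitePresentation_of_baseChange_algebra hsq⟩
  · haveI := h.1; haveI := h.2
    haveI : Algebra.Smooth B (B ⊗[B'] D') := .of_equiv eB.symm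
    haveI : Algebra.Smooth A' (A' ⊗[B'] D') := .of_equiv eA.symm
    exact H9Hens.Milnor.smooth_of_baseChange hsq
  · haveI := h.1; haveI := h.2
    haveI : Algebra.Etale B (B ⊗[B'] D') := .of_equiv eB.symm
    haveI : Algebra.Etale A' (A' ⊗[B'] D') := .of_equiv eA.symm
    exact H9Hens.Milnor.etale_of_baseChange hsq

end Groth.Agent.S6900
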