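import Groth.Statements.S6910
import Mathlib.RingTheory.Ideal.Operations
import Mathlib.Algebra.Exact.Basic
-- import your own Groth.Agent.* helpers here

set_option autoImplicit false
universe u
open CAlg

namespace Groth.Agent.S6910

/-- Let `A` be a Noetherian ring, `I ⊆ A` an ideal inside the Jacobson radical, and `L → M → N` two
complexes `(f, g)` and `(f', g')` of finite `A`-modules with `f' ≡ f` modulo `I^{c+1}M` and `g' ≡ g`
modulo `I^{c+1}N`, such that the Artin–Rees bound holds with constant `c` for both `f` and `g`, and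
`(f, g)` is exact. Then for every `n` the submodules `I^{n+1}N + g(M) ∩ IⁿN` and `I^{n+1}N + g'(M) ∩
IⁿN` of `N` are equal; consequently the associated graded modules of `Coker g` and `Coker g'` with
respect to `I` coincide degreewise as subquotients of `N`. -/
theorem result {A : Type u} [CommRing A] [IsNoetherianRing A] (I : Ideal A)
    (hI : I ≤ Ideal.jacobson (⊥ : Ideal A)) {L M N : Type u} [AddCommGroup L] [Module A L] [Module.Finite A L]
    [AddCommGroup M] [Module A M] [Module.Finite A M] [AddCommGroup N] [Module A N] [Module.Finite A N]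
    (f f' : L →ₗ[A] M) (g g' : M →ₗ[A] N) (c : ℕ) (hgf : g.comp f = 0) (hgf' : g'.comp f' = 0)
    (hf : (∀ n : ℕ, c ≤ n → LinearMap.range f ⊓ (I ^ n • (⊤ : Submodule A M)) ≤ Submodule.map f (I ^ (n - c) • (⊤ : Submodule A L))))
    (hg : (∀ n : ℕ, c ≤ n → LinearMap.range g ⊓ (I ^ n • (⊤ : Submodule A N)) ≤ Submodule.map g (I ^ (n - c) • (⊤ : Submodule A M))))
    (hex : Function.Exact f g)
    (hff' : ∀ x : L, f x - f' x ∈ I ^ (c + 1) • (⊤ : Submodule A M))
    (hgg' : ∀ y : M, g y - g' y ∈ I ^ (c + 1) • (⊤ : Submodule A N)) (n : ℕ) :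
    I ^ (n + 1) • (⊤ : Submodule A N) ⊔ (LinearMap.range g ⊓ I ^ n • (⊤ : Submodule A N)) =
      I ^ (n + 1) • (⊤ : Submodule A N) ⊔ (LinearMap.range g' ⊓ I ^ n • (⊤ : Submodule A N)) := by
  classical
  -- a map congruent to `f` modulo `I ^ (c+1)` agrees with `f` on `I ^ j` modulo `I ^ (j+c+1)`
  have hdiff : ∀ {P Q : Type u} [AddCommGroup P] [Module A P] [AddCommGroup Q] [Module A Q] (u v : P →ₗ[A] Q),
      (∀ x, u x - v x ∈ I ^ (c + 1) • (⊤ : Submodule A Q)) → ∀ (j : ℕ), ∀ y ∈ I ^ j • (⊤ : Submodule A P),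
      u y - v y ∈ I ^ (j + (c + 1)) • (⊤ : Submodule A Q) := by
    intro P Q _ _ _ _ u v huv j y hy
    refine Submodule.smul_induction_on hy (fun r hr x _ => ?_) fun a b ha hb => ?_
    · rw [map_smul, map_smul, ← smul_sub, pow_add, ← smul_eq_mul, Submodule.smul_assoc]
      exact Submodule.smul_mem_smul hr (huv x)
    · rw [map_add, map_add, add_sub_add_comm]
      exact add_mem ha hb
  have hmono : ∀ {P : Type u} [AddCommGroup P] [Module A P] {a b : ℕ}, a ≤ b →
      I ^ b • (⊤ : Submodule A P) ≤ I ^ a • (⊤ : Submodule A P) :=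
    fun h => Submodule.smul_mono_left (Ideal.pow_le_pow_right h)
  -- descent: an element whose image under `g'` lies in `I ^ n` can be moved deeper
  have hstep : ∀ (y : M), g' y ∈ I ^ n • (⊤ : Submodule A N) → ∀ j, j ≤ n - c →
      ∃ y' ∈ I ^ j • (⊤ : Submodule A M), g' y' = g' y := by
    intro y hy j
    induction j with
    | zero => intro _; exact ⟨y, by simp, rfl⟩
    | succ j ih =>
      intro hj
      obtain ⟨y1, hy1, he⟩ := ih (by omega)
      have hgy1 : g y1 ∈ I ^ (j + (c + 1)) • (⊤ : Submodule A N) := by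
        have := add_mem (hdiff g g' hgg' j y1 hy1) (hmono (by omega : j + (c + 1) ≤ n) (he ▸ hy))
        simpa using this
      obtain ⟨y2, hy2, he2⟩ := hg (j + (c + 1)) (by omega) ⟨⟨y1, rfl⟩, hgy1⟩
      rw [show j + (c + 1) - c = j + 1 by omega] at hy2
      have hker : g (y1 - y2) = 0 := by rw [map_sub, he2, sub_self]
      obtain ⟨x, hx⟩ := (hex (y1 - y2)).mp hker
      have hmem : y1 - y2 ∈ I ^ j • (⊤ : Submodule A M) := sub_mem hy1 (hmono (Nat.le_succ j) hy2)
      obtain ⟨x', hx', hfx⟩ : ∃ x' ∈ I ^ (j - c) • (⊤ : Submodule A L), f x' = y1 - y2 := by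
        rcases le_or_gt c j with hcj | hcj
        · exact hf j hcj ⟨⟨x, hx⟩, hmem⟩
        · exact ⟨x, by simp [Nat.sub_eq_zero_of_le hcj.le], hx⟩
      refine ⟨y1 - f' x', ?_, by rw [map_sub, ← LinearMap.comp_apply, hgf', LinearMap.zero_apply, sub_zero, he]⟩
      have hcong : f x' - f' x' ∈ I ^ (j + 1) • (⊤ : Submodule A M) :=
        hmono (by omega : j + 1 ≤ (j - c) + (c + 1)) (hdiff f f' hff' _ _ hx')
      have : y1 - f' x' = y2 + (f x' - f' x') := by rw [hfx]; abel
      rw [this]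
      exact add_mem hy2 hcong
  refine le_antisymm (sup_le le_sup_left ?_) (sup_le le_sup_left ?_)
  · rintro z ⟨⟨y, rfl⟩, hy⟩
    have hy' : ∃ y' ∈ I ^ (n - c) • (⊤ : Submodule A M), g y' = g y := by
      rcases le_or_gt c n with hcn | hcn
      · exact hg n hcn ⟨⟨y, rfl⟩, hy⟩
      · exact ⟨y, by simp [Nat.sub_eq_zero_of_le hcn.le], rfl⟩
    obtain ⟨y', hy', he⟩ := hy'
    have hd : g y' - g' y' ∈ I ^ (n + 1) • (⊤ : Submodule A N) :=
      hmono (by omega : n + 1 ≤ (n - c) + (c + 1)) (hdiff g g' hgg' _ _ hy')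
    have : g y = (g y' - g' y') + g' y' := by rw [sub_add_cancel, he]
    rw [this]
    refine Submodule.add_mem_sup hd ⟨⟨y', rfl⟩, ?_⟩
    have h2 := sub_mem (he ▸ hy : g y' ∈ I ^ n • (⊤ : Submodule A N)) (hmono n.le_succ hd)
    simpa using h2
  · rintro z ⟨⟨y, rfl⟩, hy⟩
    obtain ⟨y', hy', he⟩ := hstep y hy (n - c) le_rfl
    have hd : g' y' - g y' ∈ I ^ (n + 1) • (⊤ : Submodule A N) := by
      have := hmono (by omega : n + 1 ≤ (n - c) + (c + 1)) (hdiff g g' hgg' _ _ hy')
      simpa using neg_mem this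
    have : g' y = (g' y' - g y') + g y' := by rw [sub_add_cancel, he]
    rw [this]
    refine Submodule.add_mem_sup hd ⟨⟨y', rfl⟩, ?_⟩
    have h2 := sub_mem (he ▸ hy : g' y' ∈ I ^ n • (⊤ : Submodule A N)) (hmono n.le_succ hd)
    simpa using h2

end Groth.Agent.S6910
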