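import Groth.Statements.S6911
import Mathlib.RingTheory.Flat.Basic
import Mathlib.LinearAlgebra.TensorProduct.RightExactness
import Mathlib.RingTheory.TensorProduct.Maps
import Mathlib.LinearAlgebra.TensorProduct.Prod
-- import your own Groth.Agent.* helpers here

set_option autoImplicit false
universe u
open TensorProduct
open CAlg
open scoped TensorProduct

namespace Groth.Agent.S6911

/-- Let `A → B` be a flat map of Noetherian rings, `I ⊆ A` an ideal and `f : M → N` a map of finite
`A`-modules such that `c` works for `f` in the Artin–Rees lemma (`f(M) ∩ IⁿN ⊆ f(I^{n-c}M)` for `n ≥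
c`). Then `c` works for `f ⊗ 1 : M ⊗_A B → N ⊗_A B` and the ideal `IB`. -/
theorem result {A B : Type u} [CommRing A] [IsNoetherianRing A] [CommRing B]
    [IsNoetherianRing B] [Algebra A B] [Module.Flat A B] (I : Ideal A) {M N : Type u} [AddCommGroup M] [Module A M]
    [Module.Finite A M] [AddCommGroup N] [Module A N] [Module.Finite A N] (f : M →ₗ[A] N) (c : ℕ)
    (hf : (∀ n : ℕ, c ≤ n → LinearMap.range f ⊓ (I ^ n • (⊤ : Submodule A N)) ≤ Submodule.map f (I ^ (n - c) • (⊤ : Submodule A M)))) :
    ∀ n : ℕ, c ≤ n →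
      LinearMap.range (f.baseChange B) ⊓ ((I.map (algebraMap A B)) ^ n • (⊤ : Submodule B (B ⊗[A] N))) ≤
        Submodule.map (f.baseChange B) ((I.map (algebraMap A B)) ^ (n - c) • (⊤ : Submodule B (B ⊗[A] M))) := by
  intro n hn
  have himg : ∀ (P : Type u) [AddCommGroup P] [Module A P] (k : ℕ) (z : B ⊗[A] P),
      z ∈ ((I.map (algebraMap A B)) ^ k • (⊤ : Submodule B (B ⊗[A] P))) ↔
        z ∈ LinearMap.range (((I ^ k • (⊤ : Submodule A P))).subtype.lTensor B) := by
    intro P _ _ k z
    rw [← Ideal.map_pow]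
    constructor
    · intro hz
      show z ∈ LinearMap.range (((I ^ k • (⊤ : Submodule A P))).subtype.baseChange B)
      refine (Submodule.smul_le.mpr fun r hr y _ => ?_ : _ ≤ LinearMap.range (((I ^ k • (⊤ : Submodule A P))).subtype.baseChange B)) hz
      induction hr using Submodule.span_induction with
      | mem r hr =>
        obtain ⟨a, ha, rfl⟩ := hr
        rw [algebraMap_smul]
        induction y using TensorProduct.induction_on with
        | zero => rw [smul_zero]; exact zero_mem _
        | tmul b q => exact ⟨b ⊗ₜ ⟨a • q, Submodule.smul_mem_smul ha Submodule.mem_top⟩, by simp [TensorProduct.tmul_smul]⟩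
        | add u v hu hv => rw [smul_add]; exact add_mem (hu Submodule.mem_top) (hv Submodule.mem_top)
      | zero => rw [zero_smul]; exact zero_mem _
      | add u v _ _ hu hv => rw [add_smul]; exact add_mem hu hv
      | smul b u _ hu => rw [smul_assoc]; exact Submodule.smul_mem _ _ hu
    · rintro ⟨y, rfl⟩
      induction y using TensorProduct.induction_on with
      | zero => rw [map_zero]; exact zero_mem _
      | add a b ha hb => rw [map_add]; exact add_mem ha hb
      | tmul b p =>
        rw [LinearMap.lTensor_tmul]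
        refine Submodule.smul_induction_on (p := fun w => b ⊗ₜ[A] w ∈ Ideal.map (algebraMap A B) (I ^ k) • (⊤ : Submodule B (B ⊗[A] P))) p.2
          (fun r hr w _ => ?_) fun w w' hw hw' => ?_
        · rw [TensorProduct.tmul_smul, ← algebraMap_smul B r (b ⊗ₜ[A] w)]
          exact Submodule.smul_mem_smul (Ideal.mem_map_of_mem _ hr) Submodule.mem_top
        · rw [TensorProduct.tmul_add]; exact add_mem hw hw'
  rintro z ⟨⟨w, hw⟩, hz⟩
  rw [SetLike.mem_coe, himg] at hz
  let P := LinearMap.range f
  let Q := (I ^ n • (⊤ : Submodule A N))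
  let φ : N →ₗ[A] (N ⧸ P) × (N ⧸ Q) := P.mkQ.prod Q.mkQ
  have hex : Function.Exact (LinearMap.ker φ).subtype φ := LinearMap.exact_subtype_ker_map φ
  have hfst : LinearMap.lTensor B P.mkQ z = 0 := by
    rw [← hw, ← LinearMap.coe_restrictScalars A, LinearMap.coe_restrictScalars,
      show (f.baseChange B) w = f.lTensor B w from rfl, ← LinearMap.lTensor_comp_apply]
    rw [LinearMap.range_mkQ_comp, LinearMap.lTensor_zero, LinearMap.zero_apply]
  have hsnd : LinearMap.lTensor B Q.mkQ z = 0 := by
    obtain ⟨y, hy⟩ := hz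
    rw [← hy, ← LinearMap.lTensor_comp_apply, show Q.mkQ ∘ₗ Q.subtype = 0 from by ext q; simp,
      LinearMap.lTensor_zero, LinearMap.zero_apply]
  have hφz : LinearMap.lTensor B φ z = 0 := by
    apply (TensorProduct.prodRight A A B (N ⧸ P) (N ⧸ Q)).injective
    rw [map_zero]
    have h1 : ((TensorProduct.prodRight A A B (N ⧸ P) (N ⧸ Q)).toLinearMap ∘ₗ LinearMap.lTensor B φ) =
        (LinearMap.lTensor B P.mkQ).prod (LinearMap.lTensor B Q.mkQ) := by
      refine TensorProduct.ext' fun b m => ?_
      simp [φ]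
    exact (LinearMap.congr_fun h1 z).trans (Prod.ext hfst hsnd)
  obtain ⟨y, rfl⟩ := (Module.Flat.lTensor_exact B hex z).mp hφz
  clear hw hφz hfst hsnd hz
  induction y using TensorProduct.induction_on with
  | zero => rw [map_zero]; exact zero_mem _
  | add a b ha hb => rw [map_add]; exact add_mem ha hb
  | tmul b p =>
    obtain ⟨hp1, hp2⟩ : (p : N) ∈ P ∧ (p : N) ∈ Q := by
      have := LinearMap.mem_ker.mp p.2
      exact ⟨(Submodule.Quotient.mk_eq_zero P).mp (congrArg Prod.fst this), (Submodule.Quotient.mk_eq_zero Q).mp (congrArg Prod.snd this)⟩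
    obtain ⟨m, hm, hmp⟩ := hf n hn ⟨hp1, hp2⟩
    refine ⟨b ⊗ₜ m, ?_, by simp [hmp]⟩
    rw [SetLike.mem_coe, himg]
    exact ⟨b ⊗ₜ ⟨m, hm⟩, rfl⟩

end Groth.Agent.S6911
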