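import Groth.Statements.S6912
import Mathlib.LinearAlgebra.Dimension.Localization
import Mathlib.LinearAlgebra.FreeModule.Finite.Matrix
import Mathlib.LinearAlgebra.Dimension.Constructions
import Mathlib.RingTheory.Localization.BaseChange
import Mathlib.Algebra.Module.FinitePresentation
import Mathlib.RingTheory.LocalProperties.Projective
import Mathlib.RingTheory.Localization.Finiteness

set_option autoImplicit false
universe u
open TensorProduct
open CAlg

namespace Groth.Agent.S6912

open scoped TensorProduct

/-- Let `R` be a domain and `M`, `N` two `R`-modules; rank means dimension over the fraction field after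
base change. Then `rank (M ⊗_R N) = rank M · rank N`, and when `M` is finitely presented also `rank
Hom_R(M, N) = rank M · rank N`. -/
theorem result (R : Type u) [CommRing R] [IsDomain R] (M N : Type u)
    [AddCommGroup M] [Module R M] [AddCommGroup N] [Module R N] :
    Module.rank R (M ⊗[R] N) = Module.rank R M * Module.rank R N ∧
    (Module.FinitePresentation R M → Module.rank R (M →ₗ[R] N) = Module.rank R M * Module.rank R N) := by
  have hle : nonZeroDivisors R ≤ nonZeroDivisors R := le_rfl
  let K := FractionRing R
  let MK := LocalizedModule (nonZeroDivisors R) M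
  let NK := LocalizedModule (nonZeroDivisors R) N
  let fM := LocalizedModule.mkLinearMap (nonZeroDivisors R) M
  let fN := LocalizedModule.mkLinearMap (nonZeroDivisors R) N
  have hM : Module.rank K MK = Module.rank R M := by
    rw [IsLocalization.rank_eq (R := R) K (nonZeroDivisors R) le_rfl, IsLocalizedModule.rank_eq (nonZeroDivisors R) le_rfl fM]
  have hN : Module.rank K NK = Module.rank R N := by
    rw [IsLocalization.rank_eq (R := R) K (nonZeroDivisors R) le_rfl, IsLocalizedModule.rank_eq (nonZeroDivisors R) le_rfl fN]
  refine ⟨?_, fun hfp => ?_⟩
  · have e : MK ⊗[K] NK ≃ₗ[K] LocalizedModule (nonZeroDivisors R) (M ⊗[R] N) :=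
      (TensorProduct.equivOfCompatibleSMul K R K MK NK).symm.trans
        (LinearEquiv.extendScalarsOfIsLocalization (nonZeroDivisors R) K
          (IsLocalizedModule.linearEquiv (nonZeroDivisors R) (TensorProduct.map fM fN)
            (LocalizedModule.mkLinearMap (nonZeroDivisors R) (M ⊗[R] N))))
    have h := e.rank_eq
    rw [rank_tensorProduct', hM, hN, IsLocalization.rank_eq (R := R) K (nonZeroDivisors R) le_rfl,
      IsLocalizedModule.rank_eq (nonZeroDivisors R) le_rfl (LocalizedModule.mkLinearMap (nonZeroDivisors R) (M ⊗[R] N))] at h
    exact h.symm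
  · haveI : Module.Finite K MK := Module.Finite.of_isLocalizedModule (nonZeroDivisors R) fM
    have h := IsLocalizedModule.rank_eq (nonZeroDivisors R)
      le_rfl (IsLocalizedModule.mapExtendScalars (nonZeroDivisors R) fM fN K)
    rw [← IsLocalization.rank_eq (R := R) K (nonZeroDivisors R) le_rfl, Module.rank_linearMap, hM, hN] at h
    simpa using h.symm

end Groth.Agent.S6912
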