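import Groth.Statements.S6913
import Groth.Agent.H1CAlg.Torsion
import Mathlib.LinearAlgebra.Dimension.Localization
import Mathlib.LinearAlgebra.Dimension.Finite
import Mathlib.RingTheory.LocalProperties.Projective
import Mathlib.Algebra.Module.LocalizedModule.Exact
import Mathlib.RingTheory.Localization.Away.Basic

set_option autoImplicit false
universe u
open CAlg

namespace Groth.Agent.S6913

theorem exists_data (R : Type u) [CommRing R] [IsDomain R] (M : Type u) [AddCommGroup M]
    [Module R M] [Module.Finite R M] :
    ∃ (a : R) (g : (Fin (Module.finrank R M) → R) →ₗ[R] M) (h : M →ₗ[R] (Fin (Module.finrank R M) → R)),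
      a ≠ 0 ∧ Function.Injective g ∧ ∀ x, g (h x) = a • x := by
  classical
  obtain ⟨v, hv⟩ := exists_linearIndependent_of_le_finrank (R := R) (M := M) (le_refl (Module.finrank R M))
  let g : (Fin (Module.finrank R M) → R) →ₗ[R] M := Fintype.linearCombination R v
  have hg : Function.Injective g := by
    rw [injective_iff_map_eq_zero]
    intro c hc
    exact funext (Fintype.linearIndependent_iff.mp hv c (by simpa [g, Fintype.linearCombination_apply] using hc))
  have hx : ∀ x : M, ∃ c : R, c ≠ 0 ∧ c • x ∈ LinearMap.range g := by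
    intro x
    have hdep : ¬ LinearIndependent R (Fin.cons x v) := fun hli => by
      have := hli.fintype_card_le_finrank
      simp at this
    obtain ⟨c, hc, i, hi⟩ := Fintype.not_linearIndependent_iff.mp hdep
    rw [Fin.sum_univ_succ] at hc
    simp only [Fin.cons_zero, Fin.cons_succ] at hc
    refine ⟨c 0, fun h0 => hi ?_, -fun j => c j.succ, ?_⟩
    · rw [h0, zero_smul, zero_add] at hc
      refine Fin.cases h0 (fun j => ?_) i
      exact Fintype.linearIndependent_iff.mp hv (fun j => c j.succ) hc j
    · rw [map_neg, Fintype.linearCombination_apply]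
      exact (eq_neg_of_add_eq_zero_left hc).symm
  obtain ⟨n, s, hs⟩ := Module.Finite.exists_fin (R := R) (M := M)
  choose c hc hmem using fun i => hx (s i)
  let a := ∏ i, c i
  have hall : ∀ x, (LinearMap.lsmul R M a) x ∈ LinearMap.range g := by
    intro x
    have : (⊤ : Submodule R M) ≤ (LinearMap.range g).comap (LinearMap.lsmul R M a) := by
      rw [← hs, Submodule.span_le]
      rintro _ ⟨i, rfl⟩
      show a • s i ∈ LinearMap.range g
      rw [show a = _ from (Finset.prod_erase_mul _ _ (Finset.mem_univ i)).symm, mul_smul]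
      exact Submodule.smul_mem _ _ (hmem i)
    exact this trivial
  refine ⟨a, g, (LinearEquiv.ofInjective g hg).symm.toLinearMap ∘ₗ (LinearMap.lsmul R M a).codRestrict _ hall,
    Finset.prod_ne_zero_iff.mpr fun i _ => hc i, hg, fun x => ?_⟩
  exact congrArg Subtype.val ((LinearEquiv.ofInjective g hg).apply_symm_apply ⟨a • x, hall x⟩)

/-- Let `R` be a domain and `M` a finite `R`-module, of (finite) rank `r`. Then: some linear map `M →
R^r` has torsion kernel and torsion cokernel; some nonzero `f ∈ R` makes `M_f` free of rank `r` over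
`R_f`; and some injective linear map `R^r → M` has torsion cokernel. -/
theorem result (R : Type u) [CommRing R] [IsDomain R] (M : Type u) [AddCommGroup M]
    [Module R M] [Module.Finite R M] :
    (∃ h : M →ₗ[R] (Fin (Module.finrank R M) → R),
      (∀ x : M, h x = 0 → ∃ c : R, c ≠ 0 ∧ c • x = 0) ∧
      (∀ y : Fin (Module.finrank R M) → R, ∃ c : R, c ≠ 0 ∧ c • y ∈ LinearMap.range h)) ∧
    (∃ f : R, f ≠ 0 ∧ Module.Free (Localization.Away f) (LocalizedModule (Submonoid.powers f) M) ∧
      Module.finrank (Localization.Away f) (LocalizedModule (Submonoid.powers f) M) = Module.finrank R M) ∧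
    (∃ g : (Fin (Module.finrank R M) → R) →ₗ[R] M, Function.Injective g ∧
      ∀ x : M, ∃ c : R, c ≠ 0 ∧ c • x ∈ LinearMap.range g) := by
  classical
  obtain ⟨a, g, h, ha, hg, hgh⟩ := exists_data R M
  have hhg : ∀ y, h (g y) = a • y := fun y => hg (by rw [hgh, map_smul])
  refine ⟨⟨h, fun x hx => ⟨a, ha, by rw [← hgh, hx, map_zero]⟩, fun y => ⟨a, ha, g y, hhg y⟩⟩,
    ⟨a, ha, ?_⟩, ⟨g, hg, fun x => ⟨a, ha, h x, hgh x⟩⟩⟩
  let S := Submonoid.powers a
  have hbij : Function.Bijective (LocalizedModule.map S g) := by
    refine ⟨LocalizedModule.map_injective S g hg, fun z => ?_⟩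
    induction z using LocalizedModule.induction_on with
    | h x s =>
      refine ⟨LocalizedModule.mk (h x) (⟨a, 1, pow_one a⟩ * s), ?_⟩
      rw [LocalizedModule.map_mk, hgh]
      rw [LocalizedModule.mk_eq]
      exact ⟨1, by simp [Submonoid.smul_def, mul_smul, smul_comm a]⟩
  haveI : IsDomain (Localization.Away a) :=
    IsLocalization.isDomain_localization (powers_le_nonZeroDivisors_of_noZeroDivisors ha)
  let b := (Pi.basisFun R (Fin (Module.finrank R M))).ofIsLocalizedModule (Localization.Away a) S
    (LocalizedModule.mkLinearMap S (Fin (Module.finrank R M) → R))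
  let b' := b.map (LinearEquiv.ofBijective _ hbij)
  exact ⟨Module.Free.of_basis b', by rw [Module.finrank_eq_card_basis b', Fintype.card_fin]⟩

end Groth.Agent.S6913
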