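import Groth.Statements.S6917
-- import your own Groth.Agent.* helpers here

set_option autoImplicit false
universe u
open CategoryTheory
open EtAlg

namespace Groth.Agent.S6917

open CategoryTheory

section

variable {B' B A' A : Type u} [CommRing B'] [CommRing B] [CommRing A'] [CommRing A]
  [Algebra B' B] [Algebra B' A'] [Algebra B A] [Algebra A' A] [Algebra B' A] [IsScalarTower B' B A] [IsScalarTower B' A' A]

lemma surj_B (h : EtMil.IsFibreSquare B' B A' A) : Function.Surjective (algebraMap B' B) := fun b => by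
  obtain ⟨a, ha⟩ := h.1 (algebraMap B A b)
  obtain ⟨b', hb', -⟩ := h.2 b a ha.symm
  exact ⟨b', hb'.1⟩

lemma square (x : B') : algebraMap B A (algebraMap B' B x) = algebraMap A' A (algebraMap B' A' x) := by
  rw [← IsScalarTower.algebraMap_apply, ← IsScalarTower.algebraMap_apply]

/-- The kernel of `A' → A` lifts uniquely to the kernel of `B' → B`. -/
lemma exists_lift (h : EtMil.IsFibreSquare B' B A' A) (a : A') (ha : algebraMap A' A a = 0) :
    ∃ t : B', algebraMap B' B t = 0 ∧ algebraMap B' A' t = a := by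
  obtain ⟨t, ht, -⟩ := h.2 0 a (by rw [map_zero, ha])
  exact ⟨t, ht⟩

lemma eq_of (h : EtMil.IsFibreSquare B' B A' A) {x y : B'} (h1 : algebraMap B' B x = algebraMap B' B y)
    (h2 : algebraMap B' A' x = algebraMap B' A' y) : x = y :=
  (h.2 _ _ (square y)).unique ⟨h1, h2⟩ ⟨rfl, rfl⟩

/-- Membership in a prime away from the kernel is determined by the contraction. -/
lemma mem_iff {p : Ideal A'} [p.IsPrime] {t : B'} (htp : algebraMap B' A' t ∉ p) {a : A'} {τ : B'}
    (hτ : algebraMap B' A' τ = a * algebraMap B' A' t) : a ∈ p ↔ τ ∈ p.comap (algebraMap B' A') := by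
  rw [Ideal.mem_comap, hτ]
  exact ⟨fun h => p.mul_mem_right _ h, fun h => (Ideal.IsPrime.mem_or_mem ‹_› h).resolve_right htp⟩

/-- A prime not containing the kernel comes from `A'`. -/
lemma exists_prime (h : EtMil.IsFibreSquare B' B A' A) (q : Ideal B') [hq : q.IsPrime] {t : B'}
    (ht : algebraMap B' B t = 0) (htq : t ∉ q) :
    ∃ p : PrimeSpectrum A', p.asIdeal.comap (algebraMap B' A') = q := by
  have ht' : ∀ a, algebraMap A' A (a * algebraMap B' A' t) = 0 := fun a => by
    rw [map_mul, ← square (B' := B') (B := B) (A' := A') (A := A), ht, map_zero, mul_zero]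
  choose τ hτ1 hτ2 using fun a => exists_lift h _ (ht' a)
  have hcon : ∀ x, τ (algebraMap B' A' x) = x * t := fun x =>
    eq_of h (by rw [hτ1, map_mul, ht, mul_zero]) (by rw [hτ2, map_mul])
  have hmul : ∀ a b, τ a * τ b = τ (a * b) * t := fun a b =>
    eq_of h (by simp only [map_mul, hτ1, zero_mul])
      (by rw [map_mul, map_mul, hτ2, hτ2, hτ2]; ring)
  let p : Ideal A' :=
    { carrier := {a | τ a ∈ q}
      zero_mem' := by
        have : τ 0 = 0 := eq_of h (by rw [hτ1, map_zero]) (by rw [hτ2, map_zero, zero_mul])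
        show τ 0 ∈ q
        rw [this]; exact q.zero_mem
      add_mem' := fun {a b} ha hb => by
        have : τ (a + b) = τ a + τ b := eq_of h (by simp only [hτ1, map_add, add_zero])
          (by simp only [hτ2, map_add, add_mul])
        show τ (a + b) ∈ q
        rw [this]; exact q.add_mem ha hb
      smul_mem' := fun a b hb => by
        have : τ (a * b) * t ∈ q := hmul a b ▸ q.mul_mem_left _ hb
        exact (hq.mem_or_mem this).resolve_right htq }
  have hp : p.IsPrime := by
    refine Ideal.isPrime_iff.mpr ⟨?_, fun {a b} hab => ?_⟩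
    · intro e
      have h1 : τ (algebraMap B' A' 1) ∈ q := by
        rw [map_one]; exact (e ▸ Submodule.mem_top : (1 : A') ∈ p)
      rw [hcon, one_mul] at h1
      exact htq h1
    · exact hq.mem_or_mem ((hmul a b).symm ▸ q.mul_mem_right t hab)
  refine ⟨⟨p, hp⟩, Ideal.ext fun x => ⟨fun hx => ?_, fun hx => ?_⟩⟩
  · have h1 : τ (algebraMap B' A' x) ∈ q := hx
    rw [hcon] at h1
    exact (hq.mem_or_mem h1).resolve_right htq
  · show τ (algebraMap B' A' x) ∈ q
    rw [hcon]; exact q.mul_mem_right _ hx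

end


/-- Let `B' = B ×_A A'` be a fibre square of rings with `A' → A` surjective. Then `Spec(B') = Spec(B)
⨿_{Spec(A)} Spec(A')`: the square of prime spectra is a pushout of topological spaces. -/
theorem result (B' B A' A : Type u) [CommRing B'] [CommRing B] [CommRing A'] [CommRing A]
    [Algebra B' B] [Algebra B' A'] [Algebra B A] [Algebra A' A] [Algebra B' A] [IsScalarTower B' B A] [IsScalarTower B' A' A]
    (hsq : EtMil.IsFibreSquare B' B A' A) :
    IsPushout (TopCat.ofHom (ContinuousMap.mk (PrimeSpectrum.comap (algebraMap B A)) (PrimeSpectrum.continuous_comap _))) (TopCat.ofHom (ContinuousMap.mk (PrimeSpectrum.comap (algebraMap A' A)) (PrimeSpectrum.continuous_comap _)))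
      (TopCat.ofHom (ContinuousMap.mk (PrimeSpectrum.comap (algebraMap B' B)) (PrimeSpectrum.continuous_comap _)))
      (TopCat.ofHom (ContinuousMap.mk (PrimeSpectrum.comap (algebraMap B' A')) (PrimeSpectrum.continuous_comap _))) := by
  have hBs := surj_B hsq
  have hAs := hsq.1
  let iB := PrimeSpectrum.comap (algebraMap B' B)
  let iA' := PrimeSpectrum.comap (algebraMap B' A')
  let jB := PrimeSpectrum.comap (algebraMap B A)
  let jA' := PrimeSpectrum.comap (algebraMap A' A)
  have iB_inj : Function.Injective iB := PrimeSpectrum.comap_injective_of_surjective _ hBs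
  have comm : ∀ P, iB (jB P) = iA' (jA' P) := fun P => PrimeSpectrum.ext (Ideal.ext fun x => by
    show algebraMap B A (algebraMap B' B x) ∈ P.asIdeal ↔ algebraMap A' A (algebraMap B' A' x) ∈ P.asIdeal
    rw [square (B' := B') (B := B) (A' := A') (A := A)])
  have liftB : ∀ q : PrimeSpectrum B', (∀ t, algebraMap B' B t = 0 → t ∈ q.asIdeal) → ∃ b, iB b = q := by
    intro q hq
    have : q ∈ Set.range iB := by
      rw [show Set.range iB = _ from range_comap_of_surjective _ _ hBs]
      exact fun t ht => hq t ht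
    exact this
  have hfrom : ∀ p : PrimeSpectrum A', (∀ t, algebraMap B' B t = 0 → t ∈ (iA' p).asIdeal) → ∃ P, jA' P = p := by
    intro p hp
    have : p ∈ Set.range jA' := by
      rw [show Set.range jA' = _ from range_comap_of_surjective _ _ hAs]
      intro a ha
      obtain ⟨t, ht, hta⟩ := exists_lift hsq a ha
      exact hta ▸ hp t ht
    exact this
  have hsurj : ∀ q, (∃ b, iB b = q) ∨ ∃ p, iA' p = q := by
    intro q
    by_cases hq : ∀ t, algebraMap B' B t = 0 → t ∈ q.asIdeal
    · exact Or.inl (liftB q hq)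
    · push Not at hq
      obtain ⟨t, ht, htq⟩ := hq
      obtain ⟨p, hp⟩ := exists_prime hsq q.asIdeal ht htq
      exact Or.inr ⟨p, PrimeSpectrum.ext hp⟩
  have hmix : ∀ b p, iB b = iA' p → ∃ P, jA' P = p ∧ jB P = b := by
    intro b p e
    obtain ⟨P, hP⟩ := hfrom p fun t ht => by
      rw [← e]; show algebraMap B' B t ∈ b.asIdeal; rw [ht]; exact zero_mem _
    exact ⟨P, hP, iB_inj ((comm P).trans (hP.symm ▸ e.symm))⟩
  classical
  have huniq : ∀ p p', iA' p = iA' p' → (¬ ∃ b, iB b = iA' p) → p = p' := by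
    intro p p' e hnb
    obtain ⟨t, ht, htp⟩ : ∃ t, algebraMap B' B t = 0 ∧ algebraMap B' A' t ∉ p.asIdeal := by
      by_contra! hcon
      exact hnb (liftB _ fun t ht => hcon t ht)
    have htp' : algebraMap B' A' t ∉ p'.asIdeal := fun h => htp
      (show t ∈ (iA' p).asIdeal from e ▸ h)
    refine PrimeSpectrum.ext (Ideal.ext fun a => ?_)
    obtain ⟨τ, -, hτ⟩ := exists_lift hsq (a * algebraMap B' A' t) (by
      rw [map_mul, ← square (B' := B') (B := B) (A' := A') (A := A), ht, map_zero, mul_zero])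
    rw [mem_iff htp hτ, mem_iff htp' hτ]
    show τ ∈ (iA' p).asIdeal ↔ τ ∈ (iA' p').asIdeal
    rw [e]
  refine IsPushout.of_isColimit' ⟨TopCat.hom_ext (ContinuousMap.ext fun P => comm P)⟩
    (Limits.PushoutCocone.IsColimit.mk _ (fun s => TopCat.ofHom
      ⟨fun q => if hb : ∃ b, iB b = q then s.inl hb.choose else s.inr ((hsurj q).resolve_left hb).choose, ?_⟩)
      (fun s => ?_) (fun s => ?_) (fun s m h1 h2 => ?_))
  rotate_left
  · refine TopCat.hom_ext (ContinuousMap.ext fun b => ?_)
    have hb : ∃ b', iB b' = iB b := ⟨b, rfl⟩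
    exact (dif_pos hb).trans (congrArg (fun z => s.inl.hom z) (iB_inj hb.choose_spec))
  · refine TopCat.hom_ext (ContinuousMap.ext fun p => ?_)
    by_cases hb : ∃ b, iB b = iA' p
    · obtain ⟨P, hP, hPb⟩ := hmix _ p hb.choose_spec
      refine (dif_pos hb).trans ?_
      rw [← hPb, ← hP]
      exact DFunLike.congr_fun (congrArg TopCat.Hom.hom s.condition) P
    · have hp := ((hsurj (iA' p)).resolve_left hb)
      exact (dif_neg hb).trans (congrArg (fun z => s.inr.hom z) (huniq p _ hp.choose_spec.symm hb).symm)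
  · refine TopCat.hom_ext (ContinuousMap.ext fun q => ?_)
    rcases hsurj q with ⟨b, rfl⟩ | ⟨p, rfl⟩
    · have hb : ∃ b', iB b' = iB b := ⟨b, rfl⟩
      refine (DFunLike.congr_fun (congrArg TopCat.Hom.hom h1) b).trans ?_
      exact ((dif_pos hb).trans (congrArg (fun z => s.inl.hom z) (iB_inj hb.choose_spec))).symm
    · refine (DFunLike.congr_fun (congrArg TopCat.Hom.hom h2) p).trans ?_
      by_cases hb : ∃ b, iB b = iA' p
      · obtain ⟨P, hP, hPb⟩ := hmix _ p hb.choose_spec
        refine Eq.trans ?_ (dif_pos hb).symm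
        rw [← hPb, ← hP]
        exact (DFunLike.congr_fun (congrArg TopCat.Hom.hom s.condition) P).symm
      · exact ((dif_neg hb).trans (congrArg (fun z => s.inr.hom z) (huniq p _ ((hsurj (iA' p)).resolve_left hb).choose_spec.symm hb).symm)).symm
  -- continuity
  rw [continuous_iff_isClosed]
  intro C hC
  obtain ⟨c, hc⟩ := (PrimeSpectrum.isClosed_iff_zeroLocus_ideal _).mp (hC.preimage s.inl.hom.continuous)
  obtain ⟨a, ha⟩ := (PrimeSpectrum.isClosed_iff_zeroLocus_ideal _).mp (hC.preimage s.inr.hom.continuous)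
  refine (congrArg IsClosed ?_).mpr (PrimeSpectrum.isClosed_zeroLocus
    ((c.comap (algebraMap B' B) ⊓ a.comap (algebraMap B' A') : Ideal B') : Set B'))
  have hC1 : ∀ b, s.inl b ∈ C ↔ c ≤ b.asIdeal := fun b =>
    (Set.ext_iff.mp hc b).trans (PrimeSpectrum.mem_zeroLocus _ _)
  have hC2 : ∀ p, s.inr p ∈ C ↔ a ≤ p.asIdeal := fun p =>
    (Set.ext_iff.mp ha p).trans (PrimeSpectrum.mem_zeroLocus _ _)
  ext q
  rw [Set.mem_preimage, PrimeSpectrum.mem_zeroLocus, SetLike.coe_subset_coe]
  by_cases hb : ∃ b, iB b = q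
  · rw [dif_pos hb, hC1]
    obtain ⟨b, hbq⟩ := id hb
    have hbe : hb.choose = b := iB_inj (hb.choose_spec.trans hbq.symm)
    rw [hbe, ← hbq]
    refine ⟨fun h => inf_le_left.trans (Ideal.comap_mono h), fun h x hx => ?_⟩
    rcases (Ideal.IsPrime.inf_le (iB b).isPrime).mp h with h' | h'
    · obtain ⟨x', rfl⟩ := hBs x
      exact h' hx
    · obtain ⟨x', rfl⟩ := hBs x
      have hrad : algebraMap B A (algebraMap B' B x') ∈ (a.map (algebraMap A' A)).radical := by
        rw [Ideal.radical_eq_sInf, Ideal.mem_sInf]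
        rintro P ⟨hP, hPp⟩
        have h3 : s.inl (jB ⟨P, hPp⟩) ∈ C := by
          have e := DFunLike.congr_fun (congrArg TopCat.Hom.hom s.condition) (⟨P, hPp⟩ : PrimeSpectrum A)
          have h4 : s.inr (jA' ⟨P, hPp⟩) ∈ C := (hC2 _).mpr (Ideal.map_le_iff_le_comap.mp hP)
          exact e ▸ h4
        exact (hC1 _).mp h3 hx
      obtain ⟨n, hn⟩ := hrad
      rw [square (B' := B') (B := B) (A' := A') (A := A), ← map_pow] at hn
      obtain ⟨y, hy, hye⟩ := (Ideal.mem_map_iff_of_surjective _ hAs).mp hn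
      obtain ⟨t, ht, hta⟩ := exists_lift hsq (algebraMap B' A' x' ^ n - y) (by rw [map_sub, hye, sub_self])
      have h5 : x' ^ n - t ∈ a.comap (algebraMap B' A') := by
        rw [Ideal.mem_comap, map_sub, hta, map_pow, sub_sub_cancel]; exact hy
      have h6 : algebraMap B' B x' ^ n ∈ b.asIdeal := by
        have := h' h5
        change algebraMap B' B (x' ^ n - t) ∈ b.asIdeal at this
        rwa [map_sub, ht, sub_zero, map_pow] at this
      exact b.isPrime.mem_of_pow_mem n h6
  · rw [dif_neg hb, hC2]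
    have hsp := ((hsurj q).resolve_left hb).choose_spec
    set p := ((hsurj q).resolve_left hb).choose
    obtain ⟨t, ht, htp⟩ : ∃ t, algebraMap B' B t = 0 ∧ algebraMap B' A' t ∉ p.asIdeal := by
      by_contra! hcon
      exact hb (hsp ▸ liftB _ fun t ht => hcon t ht)
    rw [← hsp]
    refine ⟨fun h => inf_le_right.trans (Ideal.comap_mono h), fun h x hx => ?_⟩
    rcases (Ideal.IsPrime.inf_le (iA' p).isPrime).mp h with h' | h'
    · exact absurd (h' (show algebraMap B' B t ∈ c from ht ▸ c.zero_mem)) htp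
    · obtain ⟨τ, -, hτ⟩ := exists_lift hsq (x * algebraMap B' A' t) (by
        rw [map_mul, ← square (B' := B') (B := B) (A' := A') (A := A), ht, map_zero, mul_zero])
      exact (mem_iff htp hτ).mpr (h' (show algebraMap B' A' τ ∈ a from hτ ▸ a.mul_mem_right _ hx))
end Groth.Agent.S6917
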