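import Groth.Statements.S6919
import Groth.Agent.H8Props.FlatAtBaseChange

set_option autoImplicit false
universe u
open FlatMor

namespace Groth.Agent.S6919

/-- Let `R → S` be a ring map, `J ⊆ S` an ideal, `M` an `S`-module and `I ⊆ R` an ideal; let `R → R'` be
a ring map and `I' ⊆ R'` an ideal containing `IR'`, and put `S' = S ⊗_R R'`, `M' = M ⊗_R R'`. Assume
that every prime of `R` containing `I` is the contraction of a prime of `R'` containing `I'`, and
that `R'_{𝔭'}` is flat over `R` for every prime `𝔭' ⊇ I'`. If `M'_{𝔮'}` is flat over `R'` for every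
prime `𝔮' ⊇ I'S' + JS'` of `S'`, then `M_𝔮` is flat over `R` for every prime `𝔮 ⊇ IS + J` of `S`.
(The published statement descends from a pair `(R'', I'')` to an arbitrary pair `(R', I')` over `R`;
this row takes `(R', I') = (R, I)`.) -/
theorem result {R S R' S' : Type u} [CommRing R] [CommRing S] [CommRing R'] [CommRing S']
    [Algebra R S] [Algebra R R'] [Algebra S S'] [Algebra R' S'] [Algebra R S'] [IsScalarTower R S S']
    [IsScalarTower R R' S'] [Algebra.IsPushout R S R' S']
    (I : Ideal R) (I' : Ideal R') (hII' : I.map (algebraMap R R') ≤ I')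
    {M M' : Type u} [AddCommGroup M] [Module S M] [Module R M] [IsScalarTower R S M]
    [AddCommGroup M'] [Module S' M'] [Module R' M'] [IsScalarTower R' S' M'] [Module S M'] [IsScalarTower S S' M']
    (f : M →ₗ[S] M') (hf : IsBaseChange S' f) (J : Ideal S)
    (hsurj : ∀ (p : Ideal R) [p.IsPrime], I ≤ p → ∃ (p' : Ideal R') (_ : p'.IsPrime), I' ≤ p' ∧ p'.comap (algebraMap R R') = p)
    (hflat : ∀ (p' : Ideal R') [p'.IsPrime], I' ≤ p' → Module.Flat R (Localization.AtPrime p'))
    (h : (∀ (q : Ideal S') [q.IsPrime], I'.map (algebraMap R' S') ⊔ J.map (algebraMap S S') ≤ q → FlatCA.FlatAt R' q M')) :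
    (∀ (q : Ideal S) [q.IsPrime], I.map (algebraMap R S) ⊔ J ≤ q → FlatCA.FlatAt R q M) := by
  letI : Module R M' := Module.compHom M' (algebraMap R R')
  haveI : IsScalarTower R R' M' := .of_algebraMap_smul fun _ _ => rfl
  haveI : IsScalarTower R S' M' := .of_algebraMap_smul fun r z => by
    rw [IsScalarTower.algebraMap_apply R R' S', algebraMap_smul]
    rfl
  haveI : IsScalarTower R S M' := .of_algebraMap_smul fun r z => by
    rw [← algebraMap_smul S' (algebraMap R S r) z, ← IsScalarTower.algebraMap_apply, algebraMap_smul]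
  intro q hq hle
  have hIq : I ≤ q.comap (algebraMap R S) := Ideal.map_le_iff_le_comap.1 (le_sup_left.trans hle)
  obtain ⟨p', hp', hI'p', hp'q⟩ := hsurj _ hIq
  obtain ⟨q', hq', hq'S, hq'R⟩ := H8Props.FlatAtBC.exists_prime_over (S' := S') q p' hp'q
  subst hq'S
  subst hq'R
  refine H8Props.FlatAtBC.flat_localizedModule_descend f hf q' (h q' ?_) (hflat _ hI'p')
  exact sup_le (Ideal.map_le_iff_le_comap.2 hI'p')
    (Ideal.map_le_iff_le_comap.2 (le_sup_right.trans hle))

end Groth.Agent.S6919
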