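import Groth.Statements.S6920
import Mathlib.Algebra.Category.Ring.Epi
import Mathlib.Algebra.Homology.ShortComplex.ConcreteCategory

set_option autoImplicit false
universe u
open CategoryTheory CategoryTheory.Limits MonoidalCategory
open DRing

namespace Groth.Agent.S6920

/-- For an epimorphism of rings `φ : R → S` and a complex `I•` of `S`-modules, if the underlying complex
of `R`-modules of `I•` is K-injective, then `I•` itself is K-injective over `S`. -/
theorem result (R S : Type u) [CommRing R] [CommRing S] (φ : R →+* S)
    (hφ : Epi (CommRingCat.ofHom φ)) (I : DRing.Cx S)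
    [CochainComplex.IsKInjective ((DRing.restrictCx φ).obj I)] : CochainComplex.IsKInjective I := by
  letI := φ.toAlgebra
  haveI : Algebra.IsEpi R S := CommRingCat.epi_iff_epi.1 hφ
  have lin : ∀ {M N : ModuleCat.{u} S}
      (g : (ModuleCat.restrictScalars.{u} φ).obj M ⟶ (ModuleCat.restrictScalars.{u} φ).obj N)
      (s : S) (m : M), g.hom (s • m : M) = (s • (g.hom m : N) : N) := by
    intro M N g s m
    letI : Module R M := Module.compHom M φ
    letI : Module R N := Module.compHom N φ
    haveI : IsScalarTower R S M := .of_algebraMap_smul fun _ _ => rfl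
    haveI : IsScalarTower R S N := .of_algebraMap_smul fun _ _ => rfl
    let g' : M →ₗ[R] N := g.hom
    let β : S →ₗ[R] S →ₗ[R] N := LinearMap.mk₂ R (fun a b => a • g' (b • m))
      (fun a₁ a₂ b => add_smul a₁ a₂ _)
      (fun r a b => smul_assoc r a _)
      (fun a b₁ b₂ => by rw [add_smul, map_add, smul_add])
      (fun r a b => by rw [smul_assoc, map_smul, smul_comm])
    have h := congrArg (TensorProduct.lift β)
      ((Algebra.isEpi_iff_forall_one_tmul_eq R S).1 inferInstance s)
    simp only [TensorProduct.lift.tmul, β, LinearMap.mk₂_apply, one_smul] at h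
    exact h
  refine ⟨fun {K} f hK => ?_⟩
  have hK' : ((DRing.restrictCx φ).obj K).Acyclic := fun i => by
    have h' := hK i
    rw [HomologicalComplex.exactAt_iff] at h' ⊢
    exact (ShortComplex.exact_iff_exact_map_forget₂ _).2
      ((ShortComplex.exact_iff_exact_map_forget₂ (K.sc i)).1 h')
  obtain ⟨h⟩ := CochainComplex.IsKInjective.nonempty_homotopy_zero ((DRing.restrictCx φ).map f) hK'
  let lift : ∀ {M N : ModuleCat.{u} S},
      ((ModuleCat.restrictScalars.{u} φ).obj M ⟶ (ModuleCat.restrictScalars.{u} φ).obj N) →
        (M ⟶ N) := fun {M N} g => ModuleCat.ofHom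
    { toFun := fun x => g.hom x
      map_add' := fun x y => map_add g.hom x y
      map_smul' := fun s x => lin g s x }
  refine ⟨{ hom := fun i j => lift (h.hom i j), zero := fun i j hij => ?_, comm := fun i => ?_ }⟩
  · refine ModuleCat.hom_ext (LinearMap.ext fun x => ?_)
    exact congr($(h.zero i j hij).hom x)
  · have hc := h.comm i
    rw [dNext_eq _ (show (ComplexShape.up ℤ).Rel i (i + 1) by simp),
      prevD_eq _ (show (ComplexShape.up ℤ).Rel (i - 1) i by simp)] at hc ⊢
    refine ModuleCat.hom_ext (LinearMap.ext fun x => ?_)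
    exact congr($(hc).hom x)

end Groth.Agent.S6920
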