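import Groth.Statements.S6921
import Groth.Agent.H9Hens.Milnor
import Mathlib.RingTheory.IsTensorProduct
-- import your own Groth.Agent.* helpers here

set_option autoImplicit false
universe u
open TensorProduct
open EtAlg

namespace Groth.Agent.S6921

open scoped TensorProduct

/-- Let `B' = B ×_A A'` be a fibre square of rings with `A' → A` surjective, `B' → D'` a ring map, and
`D = D' ⊗_{B'} B`, `C' = D' ⊗_{B'} A'`, `C = D' ⊗_{B'} A`. Let `N` be a finite `D`-module, `M'` a
finite `C'`-module and `φ : N ⊗_D C ≅ M' ⊗_{C'} C` a `C`-linear isomorphism. Then the glued module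
`N ×_φ M'` is a finite `D'`-module. -/
theorem result (B' B A' A : Type u) [CommRing B'] [CommRing B] [CommRing A'] [CommRing A]
    [Algebra B' B] [Algebra B' A'] [Algebra B A] [Algebra A' A] [Algebra B' A] [IsScalarTower B' B A] [IsScalarTower B' A' A]
    (hsq : EtMil.IsFibreSquare B' B A' A)
    (D' D C' C : Type u) [CommRing D'] [CommRing D] [CommRing C'] [CommRing C]
    [Algebra B' D'] [Algebra B D] [Algebra A' C'] [Algebra A C]
    [Algebra D' D] [Algebra B' D] [IsScalarTower B' B D] [IsScalarTower B' D' D] [Algebra.IsPushout B' B D' D]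
    [Algebra D' C'] [Algebra B' C'] [IsScalarTower B' A' C'] [IsScalarTower B' D' C'] [Algebra.IsPushout B' A' D' C']
    [Algebra D' C] [Algebra B' C] [IsScalarTower B' A C] [IsScalarTower B' D' C] [Algebra.IsPushout B' A D' C]
    [Algebra D C] [IsScalarTower D' D C] [Algebra B C] [IsScalarTower B A C] [IsScalarTower B D C]
    [Algebra C' C] [IsScalarTower D' C' C] [Algebra A' C] [IsScalarTower A' A C] [IsScalarTower A' C' C]
    {N M' : Type u} [AddCommGroup N] [Module D N] [Module D' N] [IsScalarTower D' D N]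
    [AddCommGroup M'] [Module C' M'] [Module D' M'] [IsScalarTower D' C' M'] (φ : C ⊗[D] N ≃ₗ[C] C ⊗[C'] M')
    [Module.Finite D N] [Module.Finite C' M'] : Module.Finite D' ↥(EtMil.glue D' φ) := by
  have h := H9Hens.Milnor.weak_of_isFibreSquare hsq
  have hD : Function.Surjective (algebraMap D' D) := by
    intro z
    induction z using (Algebra.IsPushout.out (R := B') (S := B) (R' := D') (S' := D)).inductionOn with
    | zero => exact ⟨0, map_zero _⟩
    | tmul d => exact ⟨d, rfl⟩
    | smul b z hz =>
      obtain ⟨d, rfl⟩ := hz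
      obtain ⟨b', rfl⟩ := h.surjB b
      exact ⟨algebraMap B' D' b' * d, by
        rw [map_mul, Algebra.smul_def, ← IsScalarTower.algebraMap_apply, ← IsScalarTower.algebraMap_apply]⟩
    | add z₁ z₂ h₁ h₂ =>
      obtain ⟨d₁, rfl⟩ := h₁
      obtain ⟨d₂, rfl⟩ := h₂
      exact ⟨d₁ + d₂, map_add _ _ _⟩
  have hC : Function.Surjective (algebraMap C' C) := by
    intro z
    induction z using (Algebra.IsPushout.out (R := B') (S := A) (R' := D') (S' := C)).inductionOn with
    | zero => exact ⟨0, map_zero _⟩
    | tmul d => exact ⟨algebraMap D' C' d, (IsScalarTower.algebraMap_apply D' C' C d).symm⟩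
    | smul a z hz =>
      obtain ⟨d, rfl⟩ := hz
      obtain ⟨a', rfl⟩ := h.surjA a
      exact ⟨algebraMap A' C' a' * d, by
        rw [map_mul, Algebra.smul_def, ← IsScalarTower.algebraMap_apply, ← IsScalarTower.algebraMap_apply]⟩
    | add z₁ z₂ h₁ h₂ =>
      obtain ⟨d₁, rfl⟩ := h₁
      obtain ⟨d₂, rfl⟩ := h₂
      exact ⟨d₁ + d₂, map_add _ _ _⟩
  let eA' := (Algebra.IsPushout.out (R := B') (S := A') (R' := D') (S' := C')).equiv
  let eA := (Algebra.IsPushout.out (R := B') (S := A) (R' := D') (S' := C)).equiv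
  let q := (IsScalarTower.toAlgHom B' A' A).toLinearMap
  have hcomm : ∀ t, eA (q.rTensor D' t) = algebraMap C' C (eA' t) := by
    intro t
    induction t using TensorProduct.induction_on with
    | zero => simp
    | tmul a d =>
      simp only [LinearMap.rTensor_tmul, eA, eA', IsBaseChange.equiv_tmul, Algebra.smul_def, map_mul, q]
      simp [← IsScalarTower.algebraMap_apply]
    | add a b ha hb => simp only [map_add, ha, hb]
  have hker : ∀ c : C', algebraMap C' C c = 0 →
      ∃ d : D', algebraMap D' D d = 0 ∧ algebraMap D' C' d = c := by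
    intro c hc
    obtain ⟨t, rfl⟩ := eA'.surjective c
    have ht : q.rTensor D' t = 0 := eA.injective (by rw [hcomm, hc, map_zero])
    obtain ⟨s, rfl⟩ := (rTensor_exact D' (LinearMap.exact_subtype_ker_map q) h.surjA t).mp ht
    clear hc ht
    induction s using TensorProduct.induction_on with
    | zero => exact ⟨0, map_zero _, by simp⟩
    | tmul i d =>
      obtain ⟨j, hj, hji⟩ := h.ker i.1 (LinearMap.mem_ker.mp i.2)
      refine ⟨algebraMap B' D' j * d, ?_, ?_⟩
      · rw [map_mul, ← IsScalarTower.algebraMap_apply, IsScalarTower.algebraMap_apply B' B D, hj,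
          map_zero, zero_mul]
      · simp only [LinearMap.rTensor_tmul, eA', IsBaseChange.equiv_tmul, Submodule.subtype_apply]
        rw [map_mul, ← IsScalarTower.algebraMap_apply, IsScalarTower.algebraMap_apply B' A' C', hji,
          Algebra.smul_def]
        rfl
    | add a b ha hb =>
      obtain ⟨d₁, h₁, e₁⟩ := ha
      obtain ⟨d₂, h₂, e₂⟩ := hb
      exact ⟨d₁ + d₂, by rw [map_add, h₁, h₂, add_zero], by rw [map_add, map_add, map_add, e₁, e₂]⟩
  exact H9Hens.Milnor.finite_glue φ ⟨hD, hC, hker⟩

end Groth.Agent.S6921
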