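import Groth.Statements.S6922
import Groth.Agent.H9Hens.MilnorFlat
import Groth.Agent.S6921
import Mathlib.RingTheory.IsTensorProduct
-- import your own Groth.Agent.* helpers here

set_option autoImplicit false
universe u
open TensorProduct
open EtAlg

namespace Groth.Agent.S6922

/-- The flat module case over an algebra: finitely presented after both base changes means finitely presented. -/
theorem fp_of_baseChange {B' B A' A : Type u} [CommRing B'] [CommRing B] [CommRing A'] [CommRing A]
    [Algebra B' B] [Algebra B' A'] [Algebra B A] [Algebra A' A] [Algebra B' A] [IsScalarTower B' B A] [IsScalarTower B' A' A]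
    (hsq : EtMil.IsFibreSquare B' B A' A)
    (D' D C' : Type u) [CommRing D'] [CommRing D] [CommRing C']
    [Algebra B' D'] [Algebra B D] [Algebra A' C'] [Algebra D' D] [Algebra B' D] [IsScalarTower B' B D] [IsScalarTower B' D' D]
    [Algebra.IsPushout B' B D' D]
    [Algebra D' C'] [Algebra B' C'] [IsScalarTower B' A' C'] [IsScalarTower B' D' C'] [Algebra.IsPushout B' A' D' C']
    (L : Type u) [AddCommGroup L] [Module D' L] [Module B' L] [IsScalarTower B' D' L] [Module.Finite D' L]
    [Module.Flat B' L]
    [Module.FinitePresentation D (D ⊗[D'] L)] [Module.FinitePresentation C' (C' ⊗[D'] L)] :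
    Module.FinitePresentation D' L := by
  classical
  obtain ⟨n, p, hp⟩ := Module.Finite.exists_fin' D' L
  let K := LinearMap.ker p
  have key : ∀ (S T : Type u) [CommRing S] [CommRing T] [Algebra B' S] [Algebra D' T] [Algebra S T]
      [Algebra B' T] [IsScalarTower B' S T] [IsScalarTower B' D' T] [Algebra.IsPushout B' S D' T]
      [Module.FinitePresentation T (T ⊗[D'] L)],
      ∃ s : Finset K, ∀ N : Submodule D' K, (∀ x ∈ s, x ∈ N) → Subsingleton (S ⊗[B'] (K ⧸ N)) := by
    intro S T _ _ _ _ _ _ _ _ _ _
    let k := K.subtype.baseChange T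
    let g := p.baseChange T
    let c := fun (M : Type u) [AddCommGroup M] [Module B' M] [Module D' M] [IsScalarTower B' D' M] =>
      Algebra.IsPushout.cancelBaseChange B' S D' T M
    have hc : ∀ z, c (Fin n → D') (k z) = (K.subtype.restrictScalars B').lTensor S (c K z) := by
      intro z
      obtain ⟨w, rfl⟩ := (c K).symm.surjective z
      rw [LinearEquiv.apply_symm_apply]
      induction w using TensorProduct.induction_on with
      | zero => simp
      | tmul s x =>
        have h1 : (c K).symm (s ⊗ₜ x) = s • ((1 : T) ⊗ₜ[D'] x) := by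
          rw [LinearEquiv.symm_apply_eq, map_smul, Algebra.IsPushout.cancelBaseChange_tmul,
            TensorProduct.smul_tmul', smul_eq_mul, mul_one]
        have h2 : k (s • ((1 : T) ⊗ₜ[D'] x)) = s • ((1 : T) ⊗ₜ[D'] (x : Fin n → D')) := by
          rw [← algebraMap_smul T s ((1 : T) ⊗ₜ[D'] x), map_smul, algebraMap_smul]
          simp [k]
        rw [h1, h2, map_smul, Algebra.IsPushout.cancelBaseChange_tmul, TensorProduct.smul_tmul', smul_eq_mul, mul_one]
        simp
      | add a b ha hb => simp only [map_add, ha, hb]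
    have hinj : Function.Injective k := fun a b hab => (c K).injective
      (LinearMap.lTensor_injective_of_exact_of_flat (p.restrictScalars B') hp (K.subtype.restrictScalars B') Subtype.val_injective
        (fun x => LinearMap.exact_subtype_ker_map p x) S (by rw [← hc, ← hc, hab]))
    have hex : LinearMap.ker g = LinearMap.range k :=
      SetLike.ext fun x => lTensor_exact T (LinearMap.exact_subtype_ker_map p) hp x
    have hfg := Module.FinitePresentation.fg_ker g (LinearMap.lTensor_surjective T hp)
    rw [hex] at hfg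
    haveI := Module.Finite.iff_fg.mpr hfg
    haveI : Module.Finite T (T ⊗[D'] K) := Module.Finite.equiv (LinearEquiv.ofInjective k hinj).symm
    obtain ⟨s, hs⟩ := H9Hens.Milnor.exists_finset_baseChange (R := D') (S := T) K
    refine ⟨s, fun N hN => ?_⟩
    haveI : Subsingleton (T ⊗[D'] (K ⧸ N)) := by
      refine subsingleton_of_forall_eq 0 fun z => ?_
      obtain ⟨w, rfl⟩ : ∃ w, N.mkQ.baseChange T w = z := LinearMap.lTensor_surjective T N.mkQ_surjective z
      have hw : w ∈ Submodule.span T ((fun l => (1 : T) ⊗ₜ[D'] l) '' (s : Set K)) := hs ▸ Submodule.mem_top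
      refine LinearMap.mem_ker.mp (Submodule.span_le.mpr ?_ hw)
      rintro _ ⟨l, hl, rfl⟩
      simp [(Submodule.Quotient.mk_eq_zero N).mpr (hN l hl)]
    exact (c (K ⧸ N)).symm.toEquiv.subsingleton
  obtain ⟨s, hs⟩ := key B D
  obtain ⟨t, ht⟩ := key A' C'
  let N := Submodule.span D' ((s ∪ t : Finset K) : Set K)
  haveI := hs N fun x hx => Submodule.subset_span (Finset.mem_union_left _ hx)
  haveI := ht N fun x hx => Submodule.subset_span (Finset.mem_union_right _ hx)
  haveI := H9Hens.Milnor.subsingleton_of_baseChange hsq (K ⧸ N)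
  exact Module.finitePresentation_of_surjective p hp
    (Module.Finite.iff_fg.mp ⟨⟨s ∪ t, Submodule.Quotient.subsingleton_iff.mp inferInstance⟩⟩)

theorem weak_top {B' B A' A : Type u} [CommRing B'] [CommRing B] [CommRing A'] [CommRing A]
    [Algebra B' B] [Algebra B' A'] [Algebra B A] [Algebra A' A] [Algebra B' A] [IsScalarTower B' B A] [IsScalarTower B' A' A]
    (h : H9Hens.Milnor.Weak B' B A' A)
    {D' D C' C : Type u} [CommRing D'] [CommRing D] [CommRing C'] [CommRing C]
    [Algebra B' D'] [Algebra B D] [Algebra A' C'] [Algebra A C]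
    [Algebra D' D] [Algebra B' D] [IsScalarTower B' B D] [IsScalarTower B' D' D] [Algebra.IsPushout B' B D' D]
    [Algebra D' C'] [Algebra B' C'] [IsScalarTower B' A' C'] [IsScalarTower B' D' C'] [Algebra.IsPushout B' A' D' C']
    [Algebra D' C] [Algebra B' C] [IsScalarTower B' A C] [IsScalarTower B' D' C] [Algebra.IsPushout B' A D' C]
    [Algebra D C] [IsScalarTower D' D C]
    [Algebra C' C] [IsScalarTower D' C' C] [Algebra A' C] [IsScalarTower A' A C] [IsScalarTower A' C' C] :
    H9Hens.Milnor.Weak D' D C' C := by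
  have hD : Function.Surjective (algebraMap D' D) := by
    intro z
    induction z using (Algebra.IsPushout.out (R := B') (S := B) (R' := D') (S' := D)).inductionOn with
    | zero => exact ⟨0, map_zero _⟩
    | tmul d => exact ⟨d, rfl⟩
    | smul b z hz =>
      obtain ⟨d, rfl⟩ := hz
      obtain ⟨b', rfl⟩ := h.surjB b
      exact ⟨algebraMap B' D' b' * d, by
        rw [map_mul, Algebra.smul_def, ← IsScalarTower.algebraMap_apply, ← IsScalarTower.algebraMap_apply]⟩
    | add z₁ z₂ h₁ h₂ =>
      obtain ⟨d₁, rfl⟩ := h₁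
      obtain ⟨d₂, rfl⟩ := h₂
      exact ⟨d₁ + d₂, map_add _ _ _⟩
  have hC : Function.Surjective (algebraMap C' C) := by
    intro z
    induction z using (Algebra.IsPushout.out (R := B') (S := A) (R' := D') (S' := C)).inductionOn with
    | zero => exact ⟨0, map_zero _⟩
    | tmul d => exact ⟨algebraMap D' C' d, (IsScalarTower.algebraMap_apply D' C' C d).symm⟩
    | smul a z hz =>
      obtain ⟨d, rfl⟩ := hz
      obtain ⟨a', rfl⟩ := h.surjA a
      exact ⟨algebraMap A' C' a' * d, by
        rw [map_mul, Algebra.smul_def, ← IsScalarTower.algebraMap_apply, ← IsScalarTower.algebraMap_apply]⟩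
    | add z₁ z₂ h₁ h₂ =>
      obtain ⟨d₁, rfl⟩ := h₁
      obtain ⟨d₂, rfl⟩ := h₂
      exact ⟨d₁ + d₂, map_add _ _ _⟩
  let eA' := (Algebra.IsPushout.out (R := B') (S := A') (R' := D') (S' := C')).equiv
  let eA := (Algebra.IsPushout.out (R := B') (S := A) (R' := D') (S' := C)).equiv
  let q := (IsScalarTower.toAlgHom B' A' A).toLinearMap
  have hcomm : ∀ t, eA (q.rTensor D' t) = algebraMap C' C (eA' t) := by
    intro t
    induction t using TensorProduct.induction_on with
    | zero => simp
    | tmul a d =>
      simp only [LinearMap.rTensor_tmul, eA, eA', IsBaseChange.equiv_tmul, Algebra.smul_def, map_mul, q]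
      simp [← IsScalarTower.algebraMap_apply]
    | add a b ha hb => simp only [map_add, ha, hb]
  have hker : ∀ c : C', algebraMap C' C c = 0 →
      ∃ d : D', algebraMap D' D d = 0 ∧ algebraMap D' C' d = c := by
    intro c hc
    obtain ⟨t, rfl⟩ := eA'.surjective c
    have ht : q.rTensor D' t = 0 := eA.injective (by rw [hcomm, hc, map_zero])
    obtain ⟨s, rfl⟩ := (rTensor_exact D' (LinearMap.exact_subtype_ker_map q) h.surjA t).mp ht
    clear hc ht
    induction s using TensorProduct.induction_on with
    | zero => exact ⟨0, map_zero _, by simp⟩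
    | tmul i d =>
      obtain ⟨j, hj, hji⟩ := h.ker i.1 (LinearMap.mem_ker.mp i.2)
      refine ⟨algebraMap B' D' j * d, ?_, ?_⟩
      · rw [map_mul, ← IsScalarTower.algebraMap_apply, IsScalarTower.algebraMap_apply B' B D, hj,
          map_zero, zero_mul]
      · simp only [LinearMap.rTensor_tmul, eA', IsBaseChange.equiv_tmul, Submodule.subtype_apply]
        rw [map_mul, ← IsScalarTower.algebraMap_apply, IsScalarTower.algebraMap_apply B' A' C', hji,
          Algebra.smul_def]
        rfl
    | add a b ha hb =>
      obtain ⟨d₁, h₁, e₁⟩ := ha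
      obtain ⟨d₂, h₂, e₂⟩ := hb
      exact ⟨d₁ + d₂, by rw [map_add, h₁, h₂, add_zero], by rw [map_add, map_add, map_add, e₁, e₂]⟩
  exact ⟨hD, hC, hker⟩


/-- In the relative situation (`B' = B ×_A A'` with `A' → A` surjective, `B' → D'`, `D = D' ⊗_{B'} B`,
`C' = D' ⊗_{B'} A'`, `C = D' ⊗_{B'} A`), let `N` be a flat `B`-module that is finitely presented as
a `D`-module and `M'` a flat `A'`-module that is finitely presented as a `C'`-module, with a
`C`-isomorphism `φ : N ⊗_D C ≅ M' ⊗_{C'} C`, and suppose `B' → D'` is the composite of a flat ring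
map `B' → D''` and a ring map `D'' → D'` of finite presentation. Then `N ×_φ M'` is finitely
presented over `D'`. -/
theorem result (B' B A' A : Type u) [CommRing B'] [CommRing B] [CommRing A'] [CommRing A]
    [Algebra B' B] [Algebra B' A'] [Algebra B A] [Algebra A' A] [Algebra B' A] [IsScalarTower B' B A] [IsScalarTower B' A' A]
    (hsq : EtMil.IsFibreSquare B' B A' A)
    (D' D C' C : Type u) [CommRing D'] [CommRing D] [CommRing C'] [CommRing C]
    [Algebra B' D'] [Algebra B D] [Algebra A' C'] [Algebra A C]
    [Algebra D' D] [Algebra B' D] [IsScalarTower B' B D] [IsScalarTower B' D' D] [Algebra.IsPushout B' B D' D]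
    [Algebra D' C'] [Algebra B' C'] [IsScalarTower B' A' C'] [IsScalarTower B' D' C'] [Algebra.IsPushout B' A' D' C']
    [Algebra D' C] [Algebra B' C] [IsScalarTower B' A C] [IsScalarTower B' D' C] [Algebra.IsPushout B' A D' C]
    [Algebra D C] [IsScalarTower D' D C] [Algebra B C] [IsScalarTower B A C] [IsScalarTower B D C]
    [Algebra C' C] [IsScalarTower D' C' C] [Algebra A' C] [IsScalarTower A' A C] [IsScalarTower A' C' C]
    {N M' : Type u} [AddCommGroup N] [Module D N] [Module D' N] [IsScalarTower D' D N]
    [AddCommGroup M'] [Module C' M'] [Module D' M'] [IsScalarTower D' C' M'] (φ : C ⊗[D] N ≃ₗ[C] C ⊗[C'] M')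
    [Module B N] [IsScalarTower B D N] [Module A' M'] [IsScalarTower A' C' M']
    [Module.FinitePresentation D N] [Module.Flat B N] [Module.FinitePresentation C' M'] [Module.Flat A' M']
    (D'' : Type u) [CommRing D''] [Algebra B' D''] [Algebra D'' D'] [IsScalarTower B' D'' D'] [Module.Flat B' D'']
    [Algebra.FinitePresentation D'' D'] :
    Module.FinitePresentation D' ↥(EtMil.glue D' φ) := by
  have hwD := H9Hens.Milnor.weak_of_isFibreSquare hsq
  haveI hfin : Module.Finite D' ↥(EtMil.glue D' φ) :=
    S6921.result B' B A' A hsq D' D C' C φ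
  have h := weak_top hwD (D' := D') (D := D) (C' := C') (C := C)
  let eD := LinearEquiv.ofBijective _ (H9Hens.Milnor.bijective_liftBaseChange_fst φ h)
  let eC := LinearEquiv.ofBijective _ (H9Hens.Milnor.bijective_liftBaseChange_snd φ h)
  haveI : Module.FinitePresentation D (D ⊗[D'] ↥(EtMil.glue D' φ)) :=
    Module.FinitePresentation.of_equiv eD.symm
  haveI : Module.FinitePresentation C' (C' ⊗[D'] ↥(EtMil.glue D' φ)) :=
    Module.FinitePresentation.of_equiv eC.symm
  letI : Module B' ↥(EtMil.glue D' φ) := Module.compHom _ (algebraMap B' D')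
  haveI : IsScalarTower B' D' ↥(EtMil.glue D' φ) := IsScalarTower.of_algebraMap_smul fun _ _ => rfl
  haveI : Module.Flat B (B ⊗[B'] ↥(EtMil.glue D' φ)) :=
    .of_linearEquiv ((Algebra.IsPushout.cancelBaseChange B' B D' D ↥(EtMil.glue D' φ)).symm.trans
      (eD.restrictScalars B))
  haveI : Module.Flat A' (A' ⊗[B'] ↥(EtMil.glue D' φ)) :=
    .of_linearEquiv ((Algebra.IsPushout.cancelBaseChange B' A' D' C' ↥(EtMil.glue D' φ)).symm.trans
      (eC.restrictScalars A'))
  haveI : Module.Flat B' ↥(EtMil.glue D' φ) := H9Hens.Milnor.flat_of_flat_baseChange hsq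
  exact fp_of_baseChange hsq D' D C' _

end Groth.Agent.S6922
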