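import Groth.Statements.S6923
-- import your own Groth.Agent.* helpers here

set_option autoImplicit false
universe u
open Hensel

namespace Groth.Agent.S6923


theorem exists_compatible_extend : ∀ (n : ℕ) {X : ℕ → Type u} (t : ∀ n, X (n + 1) → X n),
    (∀ n, Function.Surjective (t n)) → ∀ a : X n, ∃ x : ∀ n, X n, (∀ n, t n (x (n + 1)) = x n) ∧ x n = a
  | 0, X, t, ht, a => by
    choose g hg using ht
    exact ⟨fun n => Nat.rec (motive := X) a g n, fun n => hg n _, rfl⟩
  | n + 1, X, t, ht, a => by
    obtain ⟨x, hx, hxn⟩ := exists_compatible_extend n (X := fun j => X (j + 1)) (fun j => t (j + 1))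
      (fun j => ht (j + 1)) a
    exact ⟨fun | 0 => t 0 (x 0) | j + 1 => x j, fun | 0 => rfl | j + 1 => hx j, hxn⟩

theorem isNilpotent_end_of_mem_nil {R : Type u} [CommRing R] {r : ℕ} (I : Ideal R) (hI : I ≤ nilradical R)
    (n : Module.End R (Fin r → R)) (hn : ∀ x i, n x i ∈ I) : IsNilpotent n := by
  classical
  let J : Ideal R := Ideal.span (Set.range fun p : Fin r × Fin r => n (Pi.single p.1 1) p.2)
  have hJI : J ≤ I := Ideal.span_le.mpr (Set.range_subset_iff.mpr fun p => hn _ _)
  obtain ⟨N, hN⟩ : IsNilpotent J :=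
    (Ideal.FG.isNilpotent_iff_le_nilradical
      (Submodule.fg_span (Set.finite_range _))).mpr (hJI.trans hI)
  have key : ∀ (K : Ideal R) (x : Fin r → R), (∀ i, x i ∈ K) → ∀ i, n x i ∈ J * K := by
    intro K x hx i
    rw [pi_eq_sum_univ' x, map_sum, Finset.sum_apply]
    refine Ideal.sum_mem _ fun j _ => ?_
    rw [map_smul, Pi.smul_apply, smul_eq_mul, mul_comm J K]
    exact Ideal.mul_mem_mul (hx j) (show n (Pi.single j 1) i ∈ J from Ideal.subset_span ⟨(j, i), rfl⟩)
  have pw : ∀ (k : ℕ) (x : Fin r → R) i, (n ^ k) x i ∈ J ^ k := by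
    intro k
    induction k with
    | zero => intro x i; simp
    | succ k ih =>
      intro x i
      rw [pow_succ', pow_succ', Module.End.mul_apply]
      exact key _ _ (ih x) i
  exact ⟨N, LinearMap.ext fun x => funext fun i => by
    have := pw N x i
    rw [hN] at this
    simpa using this⟩

theorem mem_smul_top_of_coord {R : Type u} [CommRing R] {r : ℕ} (I : Ideal R) {x : Fin r → R}
    (hx : ∀ i, x i ∈ I) : x ∈ I • (⊤ : Submodule R (Fin r → R)) := by
  classical
  rw [pi_eq_sum_univ' x]
  exact Submodule.sum_mem _ fun j _ => Submodule.smul_mem_smul (hx j) Submodule.mem_top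

/-- A finite flat module which is finitely presented modulo a nil ideal is projective. -/
theorem projective_of_flat_nil {R : Type u} [CommRing R] {M : Type u} [AddCommGroup M] [Module R M]
    [Module.Flat R M] {r m : ℕ} (I : Ideal R) (hI : I ≤ nilradical R)
    (φ : (Fin r → R) →ₗ[R] M) (hφ : Function.Surjective φ) (k : Fin m → (Fin r → R)) (hk : ∀ i, φ (k i) = 0)
    (hker : ∀ x, φ x = 0 → ∃ c : Fin m → R, ∀ i, (x - ∑ j, c j • k j) i ∈ I) :
    Module.Projective R M := by
  classical
  have hK : LinearMap.ker φ = Submodule.span R (Set.range k) := by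
    refine le_antisymm (fun x hx => ?_) (Submodule.span_le.mpr (Set.range_subset_iff.mpr fun i => hk i))
    let f : (Fin (m + 1) → R) →ₗ[R] (Fin r → R) := Fintype.linearCombination R (Fin.cons x k)
    have hf : φ ∘ₗ f = 0 := by
      refine LinearMap.pi_ext' fun i => LinearMap.ext_ring ?_
      simp only [LinearMap.comp_apply, LinearMap.coe_single, LinearMap.zero_apply, f,
        Fintype.linearCombination_apply_single, one_smul]
      cases i using Fin.cases with
      | zero => simpa using hx
      | succ i => simpa using hk i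
    obtain ⟨l, a, y, hay, haf⟩ := Module.Flat.exists_factorization_of_comp_eq_zero_of_free hf
    obtain ⟨b, hb⟩ := Module.projective_lifting_property φ y hφ
    let h : Module.End R (Fin r → R) := LinearMap.id - b ∘ₗ a
    have hφh : ∀ v, φ (h v) = 0 := by
      intro v
      have e1 : φ (b (a v)) = y (a v) := LinearMap.congr_fun hb (a v)
      have e2 : φ v = y (a v) := LinearMap.congr_fun hay v
      simp [h, e1, e2]
    have hfix : ∀ i, h (f (Pi.single i 1)) = f (Pi.single i 1) := by
      intro i
      have e := LinearMap.congr_fun haf (Pi.single i 1)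
      simp only [LinearMap.comp_apply, LinearMap.zero_apply] at e
      simp [h, e]
    have hx0 : h x = x := by
      have := hfix 0
      simpa [f, Fintype.linearCombination_apply_single] using this
    have hkk : ∀ i, h (k i) = k i := fun i => by
      have := hfix i.succ
      simpa [f, Fintype.linearCombination_apply_single] using this
    have hsplit : ∀ v, ∃ w ∈ Submodule.span R (Set.range k), h w = w ∧ ∀ i, (h v - w) i ∈ I := by
      intro v
      obtain ⟨c, hc⟩ := hker _ (hφh v)
      refine ⟨∑ j, c j • k j, Submodule.sum_mem _ fun j _ =>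
        Submodule.smul_mem _ _ (Submodule.subset_span ⟨j, rfl⟩), by simp [hkk], hc⟩
    have hnil : ∀ v i, (h * (1 - h)) v i ∈ I := by
      intro v i
      obtain ⟨w, -, hw, hd⟩ := hsplit v
      have e : (h * (1 - h)) v = (h v - w) - h (h v - w) := by
        simp [Module.End.mul_apply, hw]
      rw [e, Pi.sub_apply]
      refine Ideal.sub_mem _ (hd i) ?_
      rw [pi_eq_sum_univ' (h v - w), map_sum, Finset.sum_apply]
      refine Ideal.sum_mem _ fun j _ => ?_
      rw [map_smul, Pi.smul_apply, smul_eq_mul]
      exact Ideal.mul_mem_right _ _ (hd j)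
    obtain ⟨N, hN⟩ := isNilpotent_end_of_mem_nil I hI _ hnil
    have hcomm : Commute h (1 - h) := (Commute.one_right h).sub_right (Commute.refl h)
    rw [hcomm.mul_pow] at hN
    have hg : h * ∑ j ∈ Finset.range N, (1 - h) ^ j = 1 - (1 - h) ^ N := by
      have := mul_neg_geom_sum (1 - h) N
      simpa using this
    have hQ : h ^ N = h ^ (N + 1) * ∑ j ∈ Finset.range N, (1 - h) ^ j := by
      rw [pow_succ, mul_assoc, hg, mul_sub, hN, mul_one, sub_zero]
    let L : Submodule R (Fin r → R) := LinearMap.range (h ^ N)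
    have hL : L ≤ Submodule.span R (Set.range k) ⊔ I • L := by
      rintro _ ⟨v, rfl⟩
      rw [hQ, pow_succ, Module.End.mul_apply, Module.End.mul_apply]
      obtain ⟨w, hwk, hw, hd⟩ := hsplit ((∑ j ∈ Finset.range N, (1 - h) ^ j) v)
      generalize h ((∑ j ∈ Finset.range N, (1 - h) ^ j) v) = z at hd ⊢
      have hwN : (h ^ N) w = w := by
        rw [Module.End.pow_apply]; exact Function.IsFixedPt.iterate hw N
      rw [show z = w + (z - w) by abel, map_add, hwN]
      refine Submodule.add_mem_sup hwk ?_
      have := Submodule.mem_map_of_mem (f := h ^ N) (mem_smul_top_of_coord I hd)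
      rwa [Submodule.map_smul'', Submodule.map_top] at this
    have hLfg : L.FG := by
      rw [show L = Submodule.map (h ^ N) ⊤ from (Submodule.map_top _).symm]
      exact Submodule.FG.map _ Module.Finite.fg_top
    have hLk : L ≤ Submodule.span R (Set.range k) :=
      Submodule.le_of_le_smul_of_le_jacobson_bot hLfg (hI.trans ((nilradical_le_jacobson R).trans Ideal.jacobson_bot.ge)) hL
    exact hLk ⟨x, by rw [Module.End.pow_apply]; exact Function.IsFixedPt.iterate hx0 N⟩
  haveI : Module.FinitePresentation R M :=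
    Module.finitePresentation_of_surjective φ hφ (by rw [hK]; exact Submodule.fg_span (Set.finite_range k))
  exact Module.Flat.projective_of_finitePresentation

/-- Let `A = lim A_n` be the limit of an inverse system of rings `(A_n)_{n ≥ 0}` in which each map
`A_{n+1} → A_n` is onto and every element of its kernel is nilpotent. Let `M_n` be `A_n`-modules
with compatible maps `M_{n+1} → M_n` such that `M_0` is finite projective, every `M_n` is finite and
flat over `A_n`, and the maps induce isomorphisms `M_{n+1} ⊗_{A_{n+1}} A_n → M_n` (i.e. are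
surjective with kernel `Ker(A_{n+1} → A_n) M_{n+1}`). Then the inverse limit of the `M_n` is a
finitely generated projective `A`-module whose base change to each `A_n` maps onto `M_n`
isomorphically: there is a finite projective `A`-module `P` with compatible maps `P → M_n`, each
surjective with kernel `Ker(A → A_n) P`, through which `P` maps bijectively onto the compatible
sequences in `∏ M_n`. -/
theorem result (A : Type u) [CommRing A] (An : ℕ → Type u)
    [∀ n, CommRing (An n)] (t : ∀ n, An (n + 1) →+* An n) (π : ∀ n, A →+* An n)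
    (ht : ∀ n, Function.Surjective (t n)) (hnil : ∀ n (x : An (n + 1)), t n x = 0 → IsNilpotent x)
    (hA : FlatCA.IsRingLimit A An t π)
    (M : ℕ → Type u) [∀ n, AddCommGroup (M n)] [∀ n, Module (An n) (M n)] (u : ∀ n, M (n + 1) →ₛₗ[t n] M n)
    [Module.Projective (An 0) (M 0)] (hfin : ∀ n, Module.Finite (An n) (M n)) (hflat : ∀ n, Module.Flat (An n) (M n))
    (hu : ∀ n, Function.Surjective (u n) ∧ LinearMap.ker (u n) = RingHom.ker (t n) • (⊤ : Submodule (An (n + 1)) (M (n + 1)))) :
    ∃ (P : Type u) (_ : AddCommGroup P) (_ : Module A P) (p : ∀ n, P →ₛₗ[π n] M n),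
      Module.Finite A P ∧ Module.Projective A P ∧ (∀ n (x : P), u n (p (n + 1) x) = p n x) ∧
      (∀ n, Function.Surjective (p n) ∧ LinearMap.ker (p n) = RingHom.ker (π n) • (⊤ : Submodule A P)) ∧
      (∀ x : (∀ n, M n), (∀ n, u n (x (n + 1)) = x n) → ∃! q : P, ∀ n, p n q = x n) := by
  classical
  obtain ⟨r, g0, hg0⟩ := Module.Finite.exists_fin (R := An 0) (M := M 0)
  choose g hgc hgz using fun i : Fin r => exists_compatible_extend 0 (X := M) (fun n => u n) (fun n => (hu n).1) (g0 i)
  let φ : ∀ n, (Fin r → An n) →ₗ[An n] M n := fun n => Fintype.linearCombination (An n) (fun i => g i n)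
  let T : ∀ n, (Fin r → An (n + 1)) → (Fin r → An n) := fun n x i => t n (x i)
  have hTφ : ∀ n x, u n (φ (n + 1) x) = φ n (T n x) := by
    intro n x
    simp [φ, T, Fintype.linearCombination_apply, map_sum, LinearMap.map_smulₛₗ, hgc]
  have hnr : ∀ n, RingHom.ker (t n) ≤ nilradical (An (n + 1)) := fun n x hx =>
    mem_nilradical.mpr (hnil n x hx)
  have hsur : ∀ n, Function.Surjective (φ n) := by
    intro n
    induction n with
    | zero =>
      rw [← LinearMap.range_eq_top, Fintype.range_linearCombination, show (fun i => g i 0) = g0 from funext hgz]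
      exact hg0
    | succ n ih =>
      rw [← LinearMap.range_eq_top, eq_top_iff]
      refine Submodule.le_of_le_smul_of_le_jacobson_bot (I := RingHom.ker (t n)) (hfin (n + 1)).fg_top
        ((hnr n).trans ((nilradical_le_jacobson _).trans Ideal.jacobson_bot.ge)) fun y _ => ?_
      obtain ⟨x, hx⟩ := ih (u n y)
      choose x' hx' using fun i => ht n (x i)
      have hd : y - φ (n + 1) x' ∈ LinearMap.ker (u n) := by
        rw [LinearMap.mem_ker, map_sub, hTφ, show T n x' = x from funext hx', hx, sub_self]
      rw [(hu n).2] at hd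
      rw [show y = φ (n + 1) x' + (y - φ (n + 1) x') by abel]
      exact Submodule.add_mem_sup ⟨x', rfl⟩ hd
  have hproj : ∀ n, Module.Projective (An n) (M n) := by
    intro n
    induction n with
    | zero => infer_instance
    | succ n ih =>
      haveI := ih
      obtain ⟨s, hs⟩ := Module.projective_lifting_property (φ n) LinearMap.id (hsur n)
      choose f hf using fun (i : Fin r) (j : Fin r) =>
        ht n (((Pi.single i (1 : An n) : Fin r → An n) - s (φ n (Pi.single i 1))) j)
      have hfφ : ∀ i, ∃ w, (∀ j, w j ∈ RingHom.ker (t n)) ∧ φ (n + 1) w = φ (n + 1) (f i) := by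
        intro i
        have h1 : φ (n + 1) (f i) ∈ LinearMap.ker (u n) := by
          rw [LinearMap.mem_ker, hTφ, show T n (f i) = (Pi.single i (1 : An n) : Fin r → An n) - s (φ n (Pi.single i 1)) from
            funext (hf i), map_sub, show φ n (s (φ n (Pi.single i 1))) = φ n (Pi.single i 1) from
            LinearMap.congr_fun hs _, sub_self]
        rw [(hu n).2] at h1
        refine Submodule.smul_induction_on h1 ?_ ?_
        · intro a ha y _
          obtain ⟨x, rfl⟩ := hsur (n + 1) y
          exact ⟨a • x, fun j => Ideal.mul_mem_right _ _ ha, map_smul _ _ _⟩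
        · rintro y z ⟨w, hw, rfl⟩ ⟨v, hv, rfl⟩
          exact ⟨w + v, fun j => Ideal.add_mem _ (hw j) (hv j), map_add _ _ _⟩
      choose w hw hwφ using hfφ
      haveI := hflat (n + 1)
      refine projective_of_flat_nil (RingHom.ker (t n)) (hnr n) (φ (n + 1)) (hsur (n + 1))
        (fun i => f i - w i) (fun i => by rw [map_sub, hwφ, sub_self]) (fun x hx => ⟨x, fun j => ?_⟩)
      have hTx : φ n (T n x) = 0 := by rw [← hTφ, hx, map_zero]
      have e : T n x = ∑ i, T n x i • ((Pi.single i (1 : An n) : Fin r → An n) - s (φ n (Pi.single i 1))) := by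
        have e1 := pi_eq_sum_univ' (T n x)
        have e2 : s (φ n (T n x)) = ∑ i, T n x i • s (φ n (Pi.single i 1)) := by
          conv_lhs => rw [e1]
          simp [map_sum]
        simp only [smul_sub, Finset.sum_sub_distrib, ← e1, ← e2, hTx, map_zero, sub_zero]
      rw [RingHom.mem_ker]
      have e' := congrFun e j
      simp only [Finset.sum_apply, Pi.smul_apply, smul_eq_mul, T] at e'
      simp only [Pi.sub_apply, Finset.sum_apply, Pi.smul_apply, smul_eq_mul, map_sub, map_sum, map_mul,
        RingHom.mem_ker.mp (hw _ j), sub_zero, hf, Pi.sub_apply] at e' ⊢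
      exact sub_eq_zero.mpr e'
  have hstep : ∀ n (s : M n →ₗ[An n] (Fin r → An n)), (∀ m, φ n (s m) = m) →
      ∃ s' : M (n + 1) →ₗ[An (n + 1)] (Fin r → An (n + 1)),
        (∀ m, φ (n + 1) (s' m) = m) ∧ ∀ m, T n (s' m) = s (u n m) := by
    intro n s hs
    haveI := hproj (n + 1)
    haveI := hfin (n + 1)
    obtain ⟨s₁, hs₁⟩ := Module.projective_lifting_property (φ (n + 1)) LinearMap.id (hsur (n + 1))
    choose b hb using fun (i : Fin r) (j : Fin r) => ht n (s (φ n (Pi.single i 1)) j)
    let G : M (n + 1) →ₗ[An (n + 1)] (Fin r → An (n + 1)) := Fintype.linearCombination (An (n + 1)) b ∘ₗ s₁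
    have hG : ∀ m, T n (G m) = s (u n m) := by
      intro m
      have e : u n m = φ n (T n (s₁ m)) := by
        rw [← hTφ, show φ (n + 1) (s₁ m) = m from LinearMap.congr_fun hs₁ m]
      funext j
      conv_rhs => rw [e, pi_eq_sum_univ' (T n (s₁ m)), map_sum, map_sum, Finset.sum_apply]
      simp [G, T, Fintype.linearCombination_apply, Finset.sum_apply, map_sum, hb]
    let d : Module.End (An (n + 1)) (M (n + 1)) := φ (n + 1) ∘ₗ G
    have hd : ∀ m, u n (d m) = u n m := fun m => by
      show u n (φ (n + 1) (G m)) = _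
      rw [hTφ, hG, hs]
    have hdsur : Function.Surjective d := by
      rw [← LinearMap.range_eq_top, eq_top_iff]
      refine Submodule.le_of_le_smul_of_le_jacobson_bot (I := RingHom.ker (t n)) (hfin (n + 1)).fg_top
        ((hnr n).trans ((nilradical_le_jacobson _).trans Ideal.jacobson_bot.ge)) fun y _ => ?_
      have h1 : y - d y ∈ LinearMap.ker (u n) := by rw [LinearMap.mem_ker, map_sub, hd, sub_self]
      rw [(hu n).2] at h1
      rw [show y = d y + (y - d y) by abel]
      exact Submodule.add_mem_sup ⟨y, rfl⟩ h1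
    let D := LinearEquiv.ofBijective d ⟨OrzechProperty.injective_of_surjective_endomorphism d hdsur, hdsur⟩
    refine ⟨G ∘ₗ D.symm.toLinearMap, fun m => D.apply_symm_apply m, fun m => ?_⟩
    rw [LinearMap.comp_apply, hG]
    exact congrArg s ((hd _).symm.trans (congrArg (u n) (D.apply_symm_apply m)))
  obtain ⟨s₀, hs₀⟩ := Module.projective_lifting_property (φ 0) LinearMap.id (hsur 0)
  choose nx hnx₁ hnx₂ using hstep
  let S : ∀ n, { s : M n →ₗ[An n] (Fin r → An n) // ∀ m, φ n (s m) = m } := fun n =>
    Nat.rec (motive := fun n => { s : M n →ₗ[An n] (Fin r → An n) // ∀ m, φ n (s m) = m })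
      ⟨s₀, fun m => LinearMap.congr_fun hs₀ m⟩ (fun n s => ⟨nx n s.1 s.2, hnx₁ n s.1 s.2⟩) n
  have hS : ∀ n m, T n ((S (n + 1)).1 m) = (S n).1 (u n m) := fun n m => hnx₂ n (S n).1 (S n).2 m
  letI instA : ∀ n, Module A (M n) := fun n => Module.compHom (M n) (π n)
  let P : Submodule A (∀ n, M n) :=
    { carrier := {x | ∀ n, u n (x (n + 1)) = x n}
      add_mem' := fun {x y} hx hy n => by simp [map_add, hx n, hy n]
      zero_mem' := fun n => by simp
      smul_mem' := fun a x hx n => by
        show u n (π (n + 1) a • x (n + 1)) = π n a • x n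
        rw [LinearMap.map_smulₛₗ, hx n, ← RingHom.comp_apply, hA.1 n] }
  let p : ∀ n, P →ₛₗ[π n] M n := fun n =>
    { toFun := fun x => x.1 n, map_add' := fun _ _ => rfl, map_smul' := fun _ _ => rfl }
  have hex : ∀ (x : P) (i : Fin r), ∃ a, ∀ n, π n a = (S n).1 (x.1 n) i := fun x i =>
    hA.2.2 _ fun n => by rw [← x.2 n]; exact congrFun (hS n _) i
  choose c hc using hex
  let σ : P →ₗ[A] (Fin r → A) :=
    { toFun := fun x i => c x i
      map_add' := fun x y => funext fun i => hA.2.1 _ _ fun n => by
        simp [hc, map_add]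
      map_smul' := fun a x => funext fun i => hA.2.1 _ _ fun n => by
        rw [hc, RingHom.id_apply, Pi.smul_apply, smul_eq_mul, map_mul, hc]
        show (S n).1 (π n a • x.1 n) i = _
        rw [map_smul]; rfl }
  let gP : Fin r → P := fun i => ⟨fun n => g i n, fun n => hgc i n⟩
  let Φ : (Fin r → A) →ₗ[A] P := Fintype.linearCombination A gP
  have hΦ : ∀ a n, (Φ a).1 n = φ n (fun i => π n (a i)) := by
    intro a n
    simp only [Φ, φ, gP, Fintype.linearCombination_apply, Submodule.coe_sum, Finset.sum_apply]
    rfl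
  have hΦσ : ∀ x, Φ (σ x) = x := fun x => Subtype.ext (funext fun n => by
    rw [hΦ, show (fun i => π n (σ x i)) = (S n).1 (x.1 n) from funext fun i => hc x i n]
    exact (S n).2 _)
  refine ⟨P, inferInstance, inferInstance, p, Module.Finite.of_surjective Φ fun x => ⟨σ x, hΦσ x⟩,
    Module.Projective.of_split σ Φ (LinearMap.ext hΦσ), fun n x => x.2 n, fun n => ⟨fun m => ?_, ?_⟩,
    fun x hx => ⟨⟨x, hx⟩, fun _ => rfl, fun y hy => Subtype.ext (funext hy)⟩⟩
  · obtain ⟨x, hx, hxn⟩ := exists_compatible_extend n (X := M) (fun n => u n) (fun n => (hu n).1) m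
    exact ⟨⟨x, hx⟩, hxn⟩
  · refine le_antisymm (fun x hx => ?_) (Submodule.smul_le.mpr fun a ha x _ => ?_)
    · rw [← hΦσ x, show Φ (σ x) = ∑ i, σ x i • gP i from Fintype.linearCombination_apply _ _ _]
      refine Submodule.sum_mem _ fun i _ => Submodule.smul_mem_smul ?_ Submodule.mem_top
      rw [RingHom.mem_ker]
      have h0 : x.1 n = 0 := hx
      exact (hc x i n).trans (by rw [h0, map_zero]; rfl)
    · rw [LinearMap.mem_ker, LinearMap.map_smulₛₗ, RingHom.mem_ker.mp ha, zero_smul]

end Groth.Agent.S6923
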