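import Groth.Statements.S6927
import Groth.Agent.H8Norm.FlatteningFT

set_option autoImplicit false
universe u
open TensorProduct
open FlatMor

namespace Groth.Agent.S6927

/-- Let `(R, 𝔪)` be a complete Noetherian local ring, `R → S` of finite type, `M` a finite `S`-module,
and `I ⊆ 𝔪` the least ideal for which, at every prime `𝔮` of `S` lying over `𝔪`, the localization
`(M/IM)_𝔮` is an `R/I`-flat module. Then for every local homomorphism `φ : R → R'` of local rings
(`R'` arbitrary), with `S' = S ⊗_R R'` and `M' = M ⊗_R R'`: `M'_{𝔮'}` is flat over `R'` for every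
prime `𝔮'` of `S'` over `𝔪'` if and only if `φ(I) = 0`. -/
theorem result {R S R' S' : Type u} [CommRing R] [IsLocalRing R]
    [IsNoetherianRing R] [IsAdicComplete (IsLocalRing.maximalIdeal R) R] [CommRing S]
    [CommRing R'] [IsLocalRing R'] [CommRing S']
    [Algebra R S] [Algebra.FiniteType R S] [Algebra R R'] [IsLocalHom (algebraMap R R')] [Algebra S S'] [Algebra R' S']
    [Algebra R S'] [IsScalarTower R S S'] [IsScalarTower R R' S'] [Algebra.IsPushout R S R' S']
    {M M' : Type u} [AddCommGroup M] [Module S M] [Module R M] [IsScalarTower R S M] [Module.Finite S M]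
    [AddCommGroup M'] [Module S' M'] [Module R' M'] [IsScalarTower R' S' M'] [Module S M'] [IsScalarTower S S' M']
    (f : M →ₗ[S] M') (hf : IsBaseChange S' f) (I : Ideal R) (hIm : I ≤ IsLocalRing.maximalIdeal R)
    (hI : (∀ (q : Ideal S) [q.IsPrime], q.comap (algebraMap R S) = IsLocalRing.maximalIdeal R →
        Module.Flat (R ⧸ I) ((R ⧸ I) ⊗[R] LocalizedModule q.primeCompl M)))
    (hmin : ∀ J : Ideal R, (∀ (q : Ideal S) [q.IsPrime], q.comap (algebraMap R S) = IsLocalRing.maximalIdeal R →
        Module.Flat (R ⧸ J) ((R ⧸ J) ⊗[R] LocalizedModule q.primeCompl M)) → I ≤ J) :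
    (∀ (q' : Ideal S') [q'.IsPrime], q'.comap (algebraMap R' S') = IsLocalRing.maximalIdeal R' → FlatCA.FlatAt R' q' M') ↔
      I ≤ RingHom.ker (algebraMap R R') := by
  exact H8Norm.FlatteningFT.iff_le_ker f hf I hI hmin

end Groth.Agent.S6927
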