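import Groth.Statements.S6929
import Mathlib.RingTheory.Adjoin.Tower
import Mathlib.RingTheory.FiniteType
import Mathlib.RingTheory.FiniteStability
-- import your own Groth.Agent.* helpers here

set_option autoImplicit false
universe u
open EtAlg

namespace Groth.Agent.S6929

/-- Let `R` be a Noetherian ring, `ι` a finite index type, and `φ_i : A_i → B_i`, `ψ_i : Q → B_i`
surjective `R`-algebra maps, where `Q` and all `A_i`, `B_i` are `R`-algebras of finite type. Then
the fibre product ring `P = Q ×_{∏ B_i} ∏ A_i` (pairs `(q, a)` with `ψ_i(q) = φ_i(a_i)` for all `i`)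
is an `R`-algebra of finite type. -/
theorem result (R : Type u) [CommRing R] [IsNoetherianRing R] {ι : Type u} [Fintype ι]
    (Q : Type u) [CommRing Q] [Algebra R Q] [Algebra.FiniteType R Q] (A B : ι → Type u) [∀ i, CommRing (A i)]
    [∀ i, CommRing (B i)] [∀ i, Algebra R (A i)] [∀ i, Algebra R (B i)] (hA : ∀ i, Algebra.FiniteType R (A i))
    (hB : ∀ i, Algebra.FiniteType R (B i)) (φ : ∀ i, A i →ₐ[R] B i) (ψ : ∀ i, Q →ₐ[R] B i)
    (hφ : ∀ i, Function.Surjective (φ i)) (hψ : ∀ i, Function.Surjective (ψ i)) :
    Algebra.FiniteType R ↥(AlgHom.equalizer ((AlgHom.pi ψ).comp (AlgHom.fst R Q (∀ i, A i)))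
      ((AlgHom.pi fun i => (φ i).comp (Pi.evalAlgHom R A i)).comp (AlgHom.snd R Q (∀ i, A i)))) := by
  classical
  haveI := fun i => hA i
  let T := Q × (∀ i, A i)
  let P := AlgHom.equalizer ((AlgHom.pi ψ).comp (AlgHom.fst R Q (∀ i, A i)))
      ((AlgHom.pi fun i => (φ i).comp (Pi.evalAlgHom R A i)).comp (AlgHom.snd R Q (∀ i, A i)))
  choose la hla using fun i => hφ i
  choose lq hlq using fun i => hψ i
  have hmemP : ∀ (q : Q) (a : ∀ i, A i), (∀ i, ψ i q = φ i (a i)) → (q, a) ∈ P :=
    fun q a h => funext h
  have hT : (⊤ : Submodule P T).FG := by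
    let e₀ : T := (1, 0)
    let e : ι → T := fun i => (0, Pi.single i 1)
    refine ⟨insert e₀ (Finset.univ.image e), ?_⟩
    set N : Submodule P T := Submodule.span P _ with hN
    have hmem : ∀ (x y : T), x ∈ P → y ∈ N → x * y ∈ N := fun x y hx hy =>
      N.smul_mem ⟨x, hx⟩ hy
    have h0 : e₀ ∈ N := Submodule.subset_span (by simp)
    have hi : ∀ i, e i ∈ N := fun i => Submodule.subset_span (by simp)
    refine eq_top_iff.mpr fun ⟨q, a⟩ _ => ?_
    have hq : ((q, 0) : T) ∈ N := by
      have := hmem (q, fun i => la i (ψ i q)) e₀ (hmemP _ _ fun i => (hla i _).symm) h0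
      have e1 : ((q, fun i => la i (ψ i q)) : T) * e₀ = (q, 0) :=
        Prod.ext (mul_one _) (mul_zero _)
      rwa [e1] at this
    have ha : ∀ i, ((0, Pi.single i (a i)) : T) ∈ N := fun i => by
      let q' := lq i (φ i (a i))
      have := hmem (q', Function.update (fun j => la j (ψ j q')) i (a i)) (e i)
        (hmemP _ _ fun j => by
          rcases eq_or_ne j i with rfl | hj
          · rw [Function.update_self]; exact hlq j _
          · rw [Function.update_of_ne hj, hla]) (hi i)
      have e1 : (q', Function.update (fun j => la j (ψ j q')) i (a i)) * e i =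
          ((0, Pi.single i (a i)) : T) := by
        refine Prod.ext (mul_zero _) (funext fun j => ?_)
        rcases eq_or_ne j i with rfl | hj
        · show Function.update (fun j => la j (ψ j q')) j (a j) j * (Pi.single j (1 : A j) : ∀ i, A i) j =
            (Pi.single j (a j) : ∀ i, A i) j
          rw [Function.update_self, Pi.single_eq_same, Pi.single_eq_same, mul_one]
        · show Function.update (fun j => la j (ψ j q')) i (a i) j * (Pi.single i (1 : A i) : ∀ i, A i) j =
            (Pi.single i (a i) : ∀ i, A i) j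
          rw [Pi.single_eq_of_ne hj, Pi.single_eq_of_ne hj, mul_zero]
      rwa [e1] at this
    have : ((q, a) : T) = (q, 0) + ∑ i, ((0, Pi.single i (a i)) : T) := by
      refine Prod.ext ?_ ?_
      · simp [Prod.fst_sum]
      · simp [Prod.snd_sum, Finset.univ_sum_single]
    rw [this]
    exact N.add_mem hq (N.sum_mem fun i _ => ha i)
  haveI : Algebra.FiniteType R (∀ i, A i) := by
    choose gs hgs using fun i => (hA i).out
    refine ⟨Finset.univ.biUnion fun i => (insert 1 (gs i)).image (Pi.single i), ?_⟩
    set W := Algebra.adjoin R ((Finset.univ.biUnion fun i =>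
      (insert 1 (gs i)).image (Pi.single i) : Finset (∀ i, A i)) : Set (∀ i, A i))
    have hs : ∀ i (z : A i), z ∈ insert 1 (gs i) → Pi.single i z ∈ W := fun i z hz =>
      Algebra.subset_adjoin (Finset.mem_coe.mpr (Finset.mem_biUnion.mpr
        ⟨i, Finset.mem_univ _, Finset.mem_image.mpr ⟨z, hz, rfl⟩⟩))
    refine eq_top_iff.mpr fun a _ => ?_
    rw [← Finset.univ_sum_single a]
    refine sum_mem fun i _ => ?_
    have hai : a i ∈ Algebra.adjoin R (gs i : Set (A i)) := by rw [hgs]; trivial
    generalize a i = z at hai ⊢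
    induction hai using Algebra.adjoin_induction with
    | mem z hz => exact hs i z (Finset.mem_insert_of_mem hz)
    | algebraMap r =>
      rw [Algebra.algebraMap_eq_smul_one, Pi.single_smul]
      exact W.smul_mem (hs i 1 (Finset.mem_insert_self _ _)) r
    | add x y _ _ hx hy => rw [Pi.single_add]; exact add_mem hx hy
    | mul x y _ _ hx hy => rw [Pi.single_mul]; exact mul_mem hx hy
  exact ⟨fg_of_fg_of_fg R P T Algebra.FiniteType.out hT Subtype.val_injective⟩

end Groth.Agent.S6929
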