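import Groth.Statements.S6930
import Groth.Agent.H8Norm.ValBlowup

set_option autoImplicit false
universe u
open TensorProduct
open FlatMor

namespace Groth.Agent.S6930

/-- Let `(R, 𝔪)` be a local domain whose maximal ideal is nonzero, with fraction field `K`; let `S` be
an `R`-algebra of finite type, `M` a finite `S`-module and `A ⊆ K` a valuation ring dominating `R`.
Then one can find a finitely generated ideal `I ⊆ 𝔪` and a nonzero `a ∈ I` with the following
properties, where `R₁ = R[I/a]` denotes the affine blow-up algebra (taken up to `R`-algebra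
isomorphism): every `x/a` with `x ∈ I` lies in `A`, so that `R₁ ⊆ A` inside `K`; the ring `R₁/𝔪R₁`
is nonzero; the strict transform of `S` (the quotient of `R₁ ⊗_R S` by its `a`-power torsion) is
flat over `R₁` and is a finitely presented `R₁`-algebra; and the strict transform of `M` (the
quotient of `R₁ ⊗_R M` by its `a`-power torsion) is flat over `R₁`. (The published statement asks
for these strict transforms to be flat, and the first to be finitely presented, over `R` itself;
that fails for every choice of `(I, a)` already when `R = k[x, y]` localized at `(x, y)` and `S =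
R[y/x]`, and the published proof, which passes to the limit over the rings `R[I/a]`, yields flatness
and finite presentation over `R[I/a]`, which is what is stated here. The published statement also
allows `𝔪 = 0`, i.e. `R` a field; then all hypotheses hold with `A = K` while no nonzero `a ∈ 𝔪`
exists, so the hypothesis `𝔪 ≠ 0` is added. Finally, the published statement also asserts that the
strict transform of `M` is finitely presented over the strict transform of `S`; that clause is not
included.) -/
theorem result (R K : Type u) [CommRing R] [IsDomain R] [IsLocalRing R] [Field K]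
    [Algebra R K] [IsFractionRing R K] (S : Type u) [CommRing S] [Algebra R S] [Algebra.FiniteType R S] (M : Type u)
    [AddCommGroup M] [Module S M] [Module R M] [IsScalarTower R S M] [Module.Finite S M]
    (A : Type u) [CommRing A] [IsDomain A] [ValuationRing A] [Algebra A K] [IsFractionRing A K] [Algebra R A]
    [IsScalarTower R A K] [IsLocalHom (algebraMap R A)] (hm : IsLocalRing.maximalIdeal R ≠ ⊥) :
    ∃ (I : Ideal R) (a : R), I.FG ∧ I ≤ IsLocalRing.maximalIdeal R ∧ a ∈ I ∧ a ≠ 0 ∧
      (∀ x ∈ I, ∃ y : A, algebraMap A K y * algebraMap R K a = algebraMap R K x) ∧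
      ∀ (R₁ : Type u) [CommRing R₁] [Algebra R R₁] (e : R₁ ≃ₐ[R] ↥(BlowUp.affineAlgebra R I a)),
        (IsLocalRing.maximalIdeal R).map (algebraMap R R₁) ≠ ⊤ ∧
        Module.Flat R₁ ((R₁ ⊗[R] S) ⧸ FlatCA.powTorsion (R₁ ⊗[R] S) (algebraMap R (R₁ ⊗[R] S) a) (R₁ ⊗[R] S)) ∧
        Algebra.FinitePresentation R₁
          ((R₁ ⊗[R] S) ⧸ FlatCA.powTorsion (R₁ ⊗[R] S) (algebraMap R (R₁ ⊗[R] S) a) (R₁ ⊗[R] S)) ∧
        Module.Flat R₁ ((R₁ ⊗[R] M) ⧸ FlatCA.powTorsion R₁ (algebraMap R R₁ a) (R₁ ⊗[R] M)) := by
  exact H8Norm.ValBlowup.exists_blowup_flattening R K S M A hm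

end Groth.Agent.S6930
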