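import Groth.Statements.S6932
import Groth.Agent.H1CAlg.FlatFiniteType
import Mathlib.RingTheory.FinitePresentation
import Mathlib.RingTheory.Localization.BaseChange

set_option autoImplicit false
universe u
open CAlg

namespace Groth.Agent.S6932

/-- Let `R → S` be a ring map of finite type with `S` flat over `R`, such that `R → ∏_j R_{𝔭_j}` is
injective for some finite set of primes `𝔭_j` and each localization `S_𝔭` (at a prime `𝔭` of `R`) is
a finitely presented `R_𝔭`-algebra. Then `S` is a finitely presented `R`-algebra. -/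
theorem result {R S : Type u} [CommRing R] [CommRing S]
    [Algebra R S] [Algebra.FiniteType R S] [Module.Flat R S] (s : Finset (PrimeSpectrum R))
    (hs : Function.Injective fun r : R => fun p : s => algebraMap R (Localization.AtPrime p.1.asIdeal) r)
    (hloc : ∀ (p : Ideal R) [p.IsPrime],
      Algebra.FinitePresentation (Localization.AtPrime p) (Localization (Algebra.algebraMapSubmonoid S p.primeCompl))) :
    Algebra.FinitePresentation R S := by
  classical
  obtain ⟨n, φ, hφ⟩ := Algebra.FiniteType.iff_quotient_mvPolynomial''.mp ‹Algebra.FiniteType R S›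
  let P := MvPolynomial (Fin n) R
  letI : Algebra P S := φ.toRingHom.toAlgebra
  haveI : IsScalarTower R P S := IsScalarTower.of_algebraMap_eq fun r => (φ.commutes r).symm
  let π : P →ₗ[P] S := Algebra.linearMap P S
  refine Algebra.FinitePresentation.of_surjective (f := φ) hφ ?_
  refine (show (LinearMap.ker π).FG from ?_)
  refine Groth.Agent.H1CAlg.FlatFiniteType.ker_fg π hφ s hs fun p _ => ?_
  let T := Algebra.algebraMapSubmonoid P p.primeCompl
  let T' := Algebra.algebraMapSubmonoid S p.primeCompl
  have hTT : T.map φ.toRingHom = T' := by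
    ext x
    constructor
    · rintro ⟨_, ⟨r, hr, rfl⟩, rfl⟩
      exact ⟨r, hr, (φ.commutes r).symm⟩
    · rintro ⟨r, hr, rfl⟩
      exact ⟨_, ⟨r, hr, rfl⟩, φ.commutes r⟩
  let Rp := Localization.AtPrime p
  haveI : Algebra.IsPushout R Rp P (Localization T) :=
    .symm <| Algebra.isPushout_of_isLocalization p.primeCompl _ _ _
  haveI : Algebra.FinitePresentation Rp (Localization T) :=
    Algebra.FinitePresentation.equiv (Algebra.IsPushout.equiv R Rp P (Localization T))
  let ψ₀ : Localization T →+* Localization T' :=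
    IsLocalization.map (Localization T') φ.toRingHom (hTT ▸ Submonoid.le_comap_map T)
  have hψ : ∀ c : Rp, ψ₀ (algebraMap Rp (Localization T) c) = algebraMap Rp (Localization T') c := by
    intro c
    have : ψ₀.comp (algebraMap Rp (Localization T)) = algebraMap Rp (Localization T') := by
      refine IsLocalization.ringHom_ext p.primeCompl (RingHom.ext fun r => ?_)
      simp only [RingHom.comp_apply]
      rw [← IsScalarTower.algebraMap_apply R Rp (Localization T'),
        ← IsScalarTower.algebraMap_apply R Rp (Localization T),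
        IsScalarTower.algebraMap_apply R P (Localization T), IsScalarTower.algebraMap_apply R S (Localization T')]
      exact (IsLocalization.map_eq (hTT ▸ Submonoid.le_comap_map T) _).trans (congrArg _ (φ.commutes r))
    exact DFunLike.congr_fun this c
  let ψ : Localization T →ₐ[Rp] Localization T' := { ψ₀ with commutes' := hψ }
  have hψs : Function.Surjective ψ := by
    intro z
    obtain ⟨b, ⟨t, ht⟩, rfl⟩ := IsLocalization.exists_mk'_eq T' z
    obtain ⟨a, rfl⟩ := hφ b
    obtain ⟨t₀, ht₀, rfl⟩ := hTT.ge ht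
    exact ⟨IsLocalization.mk' _ a ⟨t₀, ht₀⟩, IsLocalization.map_mk' (hTT ▸ Submonoid.le_comap_map T) a ⟨t₀, ht₀⟩⟩
  haveI := hloc p
  obtain ⟨G, hG⟩ := Algebra.FinitePresentation.ker_fG_of_surjective ψ hψs
  have hkerψ : RingHom.ker ψ.toRingHom = (RingHom.ker φ.toRingHom).map (algebraMap P (Localization T)) :=
    IsLocalization.ker_map (Localization T') φ.toRingHom hTT
  have hgen : ∀ y : G, ∃ m : P, φ m = 0 ∧ ∃ t ∈ T, y.1 * algebraMap P _ t = algebraMap P _ m := by
    intro y
    have hy : y.1 ∈ RingHom.ker ψ.toRingHom := hG ▸ Ideal.subset_span y.2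
    rw [hkerψ, IsLocalization.mem_map_algebraMap_iff T (Localization T)] at hy
    obtain ⟨⟨⟨m, hm⟩, ⟨t, ht⟩⟩, h⟩ := hy
    exact ⟨m, hm, t, ht, h⟩
  choose m hm t ht hmt using hgen
  let J : Submodule P P := Ideal.span (Finset.univ.image m : Finset P)
  refine ⟨J, ⟨Finset.univ.image m, rfl⟩, Ideal.span_le.mpr fun y hy => ?_, fun x hx => ?_⟩
  · obtain ⟨g, -, rfl⟩ := Finset.mem_image.mp hy
    exact hm g
  · have h1 : algebraMap P (Localization T) x ∈ Ideal.map (algebraMap P (Localization T)) J := by
      have h2 : algebraMap P (Localization T) x ∈ RingHom.ker ψ.toRingHom :=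
        hkerψ ▸ Ideal.mem_map_of_mem _ hx
      rw [← hG] at h2
      refine (Ideal.span_le.mpr fun y hy => ?_) h2
      have h3 : algebraMap P (Localization T) (m ⟨y, hy⟩) ∈ Ideal.map (algebraMap P (Localization T)) J :=
        Ideal.mem_map_of_mem _ (Ideal.subset_span (Finset.mem_image_of_mem m (Finset.mem_univ _)))
      rw [← hmt ⟨y, hy⟩] at h3
      exact (Ideal.mul_unit_mem_iff_mem _ (IsLocalization.map_units _ ⟨_, ht ⟨y, hy⟩⟩)).mp h3
    rw [IsLocalization.mem_map_algebraMap_iff T (Localization T)] at h1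
    obtain ⟨⟨⟨a, ha⟩, ⟨d, hd⟩⟩, h⟩ := h1
    rw [← map_mul] at h
    obtain ⟨⟨c, hc⟩, hc'⟩ := (IsLocalization.eq_iff_exists T _).mp h
    obtain ⟨r, hr, rfl⟩ := hd
    obtain ⟨r', hr', rfl⟩ := hc
    refine ⟨r' * r, mul_mem hr' hr, ?_⟩
    rw [smul_eq_mul, map_mul, mul_assoc, mul_comm (algebraMap R P r) x]
    exact hc' ▸ J.smul_mem (algebraMap R P r') ha

end Groth.Agent.S6932
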