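import Groth.Statements.S6934
import Mathlib.RingTheory.Localization.Away.Basic
-- import your own Groth.Agent.* helpers here

set_option autoImplicit false
universe u
open EtAlg

namespace Groth.Agent.S6934

/-- Let `s : B → R`, `t : R' → R` be ring maps and `B' = B ×_R R'` the fibre product ring, i.e. a ring
`B'` with maps `p : B' → B`, `q : B' → R'`, `s ∘ p = t ∘ q`, such that `(p, q)` is injective with
image the pairs `(b, r')` with `s(b) = t(r')`. Let `h ∈ B'` with images `g = p(h)`, `f = q(h)`. Then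
the square of localizations `B'_h → B_g`, `B'_h → R'_f`, `B_g → R_{s(g)}`, `R'_f → R_{t(f)} =
R_{s(g)}` (the induced maps) is cartesian as well: `B'_h = B_g ×_{R_{s(g)}} R'_f`. -/
theorem result {B R R' B' : Type u} [CommRing B] [CommRing R] [CommRing R'] [CommRing B']
    (s : B →+* R) (t : R' →+* R) (p : B' →+* B) (q : B' →+* R') (hc : s.comp p = t.comp q)
    (hinj : ∀ x y : B', p x = p y → q x = q y → x = y) (hsurj : ∀ (b : B) (r' : R'), s b = t r' → ∃ x : B', p x = b ∧ q x = r')
    (h : B') (Bh Bg Rf Rsg : Type u) [CommRing Bh] [CommRing Bg] [CommRing Rf] [CommRing Rsg]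
    [Algebra B' Bh] [IsLocalization.Away h Bh] [Algebra B Bg] [IsLocalization.Away (p h) Bg]
    [Algebra R' Rf] [IsLocalization.Away (q h) Rf] [Algebra R Rsg] [IsLocalization.Away (s (p h)) Rsg]
    (pL : Bh →+* Bg) (qL : Bh →+* Rf) (sL : Bg →+* Rsg) (tL : Rf →+* Rsg)
    (hp : pL.comp (algebraMap B' Bh) = (algebraMap B Bg).comp p) (hq : qL.comp (algebraMap B' Bh) = (algebraMap R' Rf).comp q)
    (hs : sL.comp (algebraMap B Bg) = (algebraMap R Rsg).comp s) (ht : tL.comp (algebraMap R' Rf) = (algebraMap R Rsg).comp t) :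
    (∀ x y : Bh, pL x = pL y → qL x = qL y → x = y) ∧
    (∀ (b : Bg) (r : Rf), sL b = tL r → ∃ x : Bh, pL x = b ∧ qL x = r) := by
  have hp' : ∀ x, pL (algebraMap B' Bh x) = algebraMap B Bg (p x) := fun x => RingHom.congr_fun hp x
  have hq' : ∀ x, qL (algebraMap B' Bh x) = algebraMap R' Rf (q x) := fun x => RingHom.congr_fun hq x
  have hs' : ∀ x, sL (algebraMap B Bg x) = algebraMap R Rsg (s x) := fun x => RingHom.congr_fun hs x
  have ht' : ∀ x, tL (algebraMap R' Rf x) = algebraMap R Rsg (t x) := fun x => RingHom.congr_fun ht x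
  have hcc : t (q h) = s (p h) := (RingHom.congr_fun hc h).symm
  have hu : IsUnit (algebraMap B' Bh h) := IsLocalization.Away.algebraMap_isUnit h
  refine ⟨fun x y h1 h2 => ?_, fun b r hbr => ?_⟩
  · rw [← sub_eq_zero] at h1 h2 ⊢
    rw [← map_sub] at h1 h2
    obtain ⟨n, z, hz⟩ := IsLocalization.Away.surj h (x - y)
    have e1 : algebraMap B Bg (p z) = 0 := by rw [← hp', ← hz, map_mul, h1, zero_mul]
    have e2 : algebraMap R' Rf (q z) = 0 := by rw [← hq', ← hz, map_mul, h2, zero_mul]
    rw [IsLocalization.map_eq_zero_iff (Submonoid.powers (p h))] at e1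
    rw [IsLocalization.map_eq_zero_iff (Submonoid.powers (q h))] at e2
    obtain ⟨⟨_, i, rfl⟩, e1⟩ := e1
    obtain ⟨⟨_, j, rfl⟩, e2⟩ := e2
    have e : h ^ (i + j) * z = 0 := hinj _ _
      (by rw [map_zero, map_mul, map_pow, pow_add, mul_right_comm, e1, zero_mul])
      (by rw [map_zero, map_mul, map_pow, pow_add, mul_assoc, e2, mul_zero])
    have := congrArg (algebraMap B' Bh) e
    rw [map_mul, map_zero, map_pow, (hu.pow _).mul_right_eq_zero, ← hz] at this
    exact (hu.pow n).mul_left_eq_zero.mp this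
  · obtain ⟨n, b', hb'⟩ := IsLocalization.Away.surj (p h) b
    obtain ⟨m, r', hr'⟩ := IsLocalization.Away.surj (q h) r
    have e : algebraMap R Rsg (s (b' * p h ^ m)) = algebraMap R Rsg (t (r' * q h ^ n)) := by
      rw [← hs', ← ht', map_mul, map_mul (algebraMap R' Rf), ← hb', ← hr']
      simp only [map_mul, map_pow, hs', ht', hbr, hcc]
      ring
    obtain ⟨⟨_, N, rfl⟩, hN⟩ := IsLocalization.exists_of_eq (M := Submonoid.powers (s (p h))) e
    obtain ⟨x, hx1, hx2⟩ := hsurj (p h ^ N * (b' * p h ^ m)) (q h ^ N * (r' * q h ^ n)) (by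
      rw [map_mul, map_pow, map_mul t, map_pow t, hcc]; exact hN)
    obtain ⟨v, hv⟩ := (hu.pow (N + m + n)).exists_right_inv
    refine ⟨algebraMap B' Bh x * v, ?_, ?_⟩
    · have := congrArg pL hv
      rw [map_mul, map_pow, hp', map_one] at this
      rw [map_mul, hp', hx1, map_mul, map_mul, map_pow, map_pow, ← hb']
      calc _ = b * (algebraMap B Bg (p h) ^ (N + m + n) * pL v) := by ring
        _ = b := by rw [this, mul_one]
    · have := congrArg qL hv
      rw [map_mul, map_pow, hq', map_one] at this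
      rw [map_mul, hq', hx2, map_mul, map_mul, map_pow, map_pow, ← hr']
      calc _ = r * (algebraMap R' Rf (q h) ^ (N + m + n) * qL v) := by ring
        _ = r := by rw [this, mul_one]

end Groth.Agent.S6934
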