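import Groth.Statements.S6940
import Groth.Agent.H4DR.PCoh.ExactF
import Groth.Agent.H8Props.PseudoCoh.Bridge

set_option autoImplicit false
universe u
open CategoryTheory CategoryTheory.Limits
attribute [local instance] HasDerivedCategory.standard
open DRing

namespace Groth.Agent.S6940

/-- Let A → B be a homomorphism of commutative rings making B a pseudo-coherent A-module; let K be an
object of D(B) and m an integer. Then m-pseudo-coherence of K over B is equivalent to
m-pseudo-coherence over A of K with its scalars restricted to A, and likewise pseudo-coherence of K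
over B is equivalent to pseudo-coherence over A of its restriction. -/
theorem result {A B : Type u} [CommRing A]
    [CommRing B] [Algebra A B] (hB : DRing.IsPseudoCoherentModule' A B) (K : Dual.D B) (m : ℤ) :
    (DRing.IsPseudoCoherent B m K ↔ DRing.IsPseudoCoherent A m ((DRing.restrictD (algebraMap A B)).obj K)) ∧
      (DRing.IsPseudoCoherent' B K ↔ DRing.IsPseudoCoherent' A ((DRing.restrictD (algebraMap A B)).obj K)) := by
  let F := ModuleCat.restrictScalars.{u} (algebraMap A B)
  have hfree : ∀ (n : ℕ) (j : ℤ),
      DRing.IsPseudoCoherentModule A j (F.obj (ModuleCat.of B (Fin n → B))) := by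
    intro n j
    refine Groth.Agent.H4DR.PCoh.pc_of_pc' ?_ j
    refine Groth.Agent.H4DR.PCoh.pc'_iff.2 fun m' => ?_
    have h1 := Groth.Agent.H8Props.PseudoCoh.isPseudoCoherentModule'_iff.1 hB
    have h2 : Groth.Agent.H8Props.PseudoCoh.FPInf A (Fin n → B) := fun k =>
      Groth.Agent.H8Props.PseudoCoh.fpk_pi_algebra (h1 k) n
    let e : (Fin n → B) ≃ₗ[A] F.obj (ModuleCat.of B (Fin n → B)) :=
      { AddEquiv.refl _ with map_smul' := fun a x => (algebraMap_smul B a x).symm }
    exact Groth.Agent.H4DR.PCoh.pc_of_iso ((DerivedCategory.singleFunctor (ModuleCat.{u} A) 0).mapIso e.toModuleIso)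
      (Groth.Agent.H4DR.PCoh.pc_of_pc' (Groth.Agent.H8Props.PseudoCoh.isPseudoCoherentModule'_iff.2 h2) m')
  have key : ∀ m : ℤ, DRing.IsPseudoCoherent B m K ↔
      DRing.IsPseudoCoherent A m ((DRing.restrictD (algebraMap A B)).obj K) := fun m => by
    refine ⟨Groth.Agent.H4DR.PCoh.pc_map F hfree, fun h => ?_⟩
    obtain ⟨N, hN⟩ := Groth.Agent.H4DR.PCoh.bounded_of_pc' h
    refine Groth.Agent.H4DR.PCoh.pc_of_map F hfree (fun M hM => ?_) (fun M hM => hM) N hN h
    letI : Module A M := Module.compHom M (algebraMap A B)
    haveI : IsScalarTower A B M := .of_algebraMap_smul fun _ _ => rfl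
    haveI : Module.Finite A M := hM
    exact Module.Finite.of_restrictScalars_finite A B M
  exact ⟨key m, by rw [Groth.Agent.H4DR.PCoh.pc'_iff, Groth.Agent.H4DR.PCoh.pc'_iff]; exact forall_congr' key⟩

end Groth.Agent.S6940
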