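import Groth.Statements.S6942
import Groth.Agent.H4DR.PCoh.Modules

set_option autoImplicit false
universe u
open CategoryTheory CategoryTheory.Limits
attribute [local instance] HasDerivedCategory.standard
open DRing

namespace Groth.Agent.S6942

/-- Let R be a Noetherian commutative ring and m an integer. An object K of D(R) is m-pseudo-coherent
exactly when H^i(K) = 0 for all large i and H^i(K) is a finitely generated R-module for each i ≥ m.
Every finitely generated R-module M is pseudo-coherent, and conversely. -/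
theorem result (R : Type u) [CommRing R]
    [IsNoetherianRing R] (m : ℤ) (K : Dual.D R) (M : Type u) [AddCommGroup M] [Module R M] :
    (DRing.IsPseudoCoherent R m K ↔
      (∃ b : ℤ, ∀ i : ℤ, b < i → Subsingleton (Dual.HD R K i)) ∧ ∀ i : ℤ, m ≤ i → Module.Finite R (Dual.HD R K i)) ∧
      (DRing.IsPseudoCoherentModule' R M ↔ Module.Finite R M) := by
  have key : ∀ (m : ℤ) (K : Dual.D R), DRing.IsPseudoCoherent R m K ↔
      (∃ b : ℤ, ∀ i : ℤ, b < i → Subsingleton (Dual.HD R K i)) ∧
        ∀ i : ℤ, m ≤ i → Module.Finite R (Dual.HD R K i) := fun m K =>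
    ⟨fun h => ⟨let ⟨b, _, hb⟩ := Groth.Agent.H4DR.PCoh.exists_bound h; ⟨b, hb⟩, Groth.Agent.H4DR.PCoh.finite_of_pc h⟩,
      fun ⟨⟨b, hb⟩, h⟩ => Groth.Agent.H4DR.PCoh.pc_of_finite (b + 1 - m).toNat (fun i hi => hb i (by omega)) h⟩
  refine ⟨key m K, fun h => ?_, fun h => ?_⟩
  · exact (Groth.Agent.H4DR.PCoh.pcModule_iff (ModuleCat.of R M)).1.1 (Groth.Agent.H4DR.PCoh.pc_of_pc' h 0)
  · refine Groth.Agent.H4DR.PCoh.pc'_of_forall fun m' => (key m' _).2
      ⟨⟨0, fun i hi => Groth.Agent.H4DR.PCoh.subsingleton_HD_inD (ModuleCat.of R M) i (by omega)⟩, fun i _ => ?_⟩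
    by_cases hi : i = 0
    · subst hi
      exact Module.Finite.equiv (Groth.Agent.H4DR.PCoh.HDinD (ModuleCat.of R M)).symm
    · haveI := Groth.Agent.H4DR.PCoh.subsingleton_HD_inD (ModuleCat.of R M) i hi
      infer_instance

end Groth.Agent.S6942
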