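import Groth.Statements.S6949
import Groth.Agent.H4DR.TorAmp.Descent

set_option autoImplicit false
universe u
open CategoryTheory CategoryTheory.Limits
attribute [local instance] HasDerivedCategory.standard
open DRing

namespace Groth.Agent.S6949

/-- Let R be a commutative ring, f_1, ..., f_r elements generating the unit ideal, K a cochain complex
of R-modules and a, b integers. If for every i the termwise localization K ⊗_R R_(f_i) has tor
amplitude in [a, b] as an object of D(R_(f_i)), then K has tor amplitude in [a, b] as an object of
D(R). -/
theorem result {R : Type u} [CommRing R] {r : ℕ} (f : Fin r → R)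
    (hf : Ideal.span (Set.range f) = ⊤) (K : DRing.Cx R) (a b : ℤ)
    (hK : ∀ i, DRing.HasTorAmplitudeIn (Localization.Away (f i)) a b
      (DRing.toD (((ModuleCat.extendScalars (algebraMap R (Localization.Away (f i)))).mapHomologicalComplex
        (ComplexShape.up ℤ)).obj K))) :
    DRing.HasTorAmplitudeIn R a b (DRing.toD K) := by
  refine Groth.Agent.H4DR.TorAmp.ta_descent (fun i => Localization.Away (f i))
    (fun i => algebraMap R (Localization.Away (f i)))
    (fun i => RingHom.flat_algebraMap_iff.2 (IsLocalization.flat _ (Submonoid.powers (f i))))
    (fun X hX => ?_) K a b hK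
  refine @ModuleCat.isZero_of_subsingleton R _ X (subsingleton_of_forall_eq 0 fun x => ?_)
  have key : ∀ i, ∃ n : ℕ, f i ^ n • x = 0 := fun i => by
    have h := ModuleCat.subsingleton_of_isZero (hX i)
    let B' := (ModuleCat.restrictScalars.{u} (algebraMap R (Localization.Away (f i)))).obj
      (ModuleCat.of (Localization.Away (f i)) (Localization.Away (f i)))
    let u : Localization.Away (f i) ≃ₗ[R] B' :=
      { toFun := fun z => z, invFun := fun z => z, map_add' := fun _ _ => rfl,
        map_smul' := fun r z => Algebra.smul_def r z,
        left_inv := fun _ => rfl, right_inv := fun _ => rfl }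
    haveI : Subsingleton (TensorProduct R B' X) :=
      (((Groth.Agent.H25DTen.extResIso (algebraMap R (Localization.Away (f i)))).app X
        ).toLinearEquiv.symm.injective).subsingleton (β := (ModuleCat.extendScalars.{u, u, u}
          (algebraMap R (Localization.Away (f i)))).obj X)
    haveI : Subsingleton (TensorProduct R (Localization.Away (f i)) X) :=
      (TensorProduct.congr u (LinearEquiv.refl R X)).injective.subsingleton
    let g := TensorProduct.mk R (Localization.Away (f i)) X 1
    haveI : IsLocalizedModule (Submonoid.powers (f i)) g :=
      (isLocalizedModule_iff_isBaseChange (Submonoid.powers (f i)) (Localization.Away (f i)) g).2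
        (TensorProduct.isBaseChange R X (Localization.Away (f i)))
    obtain ⟨c, hc⟩ := (IsLocalizedModule.eq_zero_iff (Submonoid.powers (f i)) g).1
      (Subsingleton.elim (g x) 0)
    obtain ⟨n, hn⟩ := c.2
    exact ⟨n, by rw [show f i ^ n = (c : R) from hn]; exact hc⟩
  have hann : Ideal.span (Set.range f) ≤ (Submodule.span R {x}).annihilator.radical := by
    rw [Ideal.span_le]
    rintro - ⟨i, rfl⟩
    obtain ⟨n, hn⟩ := key i
    exact ⟨n, (Submodule.mem_annihilator_span_singleton x _).2 hn⟩
  rw [hf, top_le_iff, Ideal.radical_eq_top] at hann
  have h1 := (Submodule.mem_annihilator_span_singleton x (1 : R)).1 (hann ▸ Submodule.mem_top)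
  simpa using h1

end Groth.Agent.S6949
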