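import Groth.Statements.S6950
import Groth.Agent.H4DR.TorAmp.Descent

set_option autoImplicit false
universe u
open CategoryTheory CategoryTheory.Limits
attribute [local instance] HasDerivedCategory.standard
open DRing

namespace Groth.Agent.S6950

/-- Let R → R' be a faithfully flat homomorphism of commutative rings, K a cochain complex of R-modules
and a, b integers. If the termwise base change K ⊗_R R' has tor amplitude in [a, b] as an object of
D(R'), then K has tor amplitude in [a, b] as an object of D(R). -/
theorem result {R R' : Type u} [CommRing R] [CommRing R']
    [Algebra R R'] [Module.FaithfullyFlat R R'] (K : DRing.Cx R) (a b : ℤ)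
    (hK : DRing.HasTorAmplitudeIn R' a b (DRing.toD (((ModuleCat.extendScalars (algebraMap R R')).mapHomologicalComplex
        (ComplexShape.up ℤ)).obj K))) :
    DRing.HasTorAmplitudeIn R a b (DRing.toD K) := by
  refine Groth.Agent.H4DR.TorAmp.ta_descent (fun _ : Unit => R') (fun _ => algebraMap R R')
    (fun _ => RingHom.flat_algebraMap_iff.2 inferInstance) (fun X hX => ?_) K a b fun _ => hK
  haveI : Subsingleton (TensorProduct R R' X) := by
    have h := ModuleCat.subsingleton_of_isZero (hX ())
    have e : (algebraMap R R').toAlgebra = (inferInstance : Algebra R R') :=
      Algebra.algebra_ext _ _ fun _ => rfl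
    have h' : letI := (algebraMap R R').toAlgebra
        Subsingleton (TensorProduct R R' X) := h
    rw [e] at h'; exact h'
  haveI := Module.FaithfullyFlat.lTensor_reflects_triviality R R' X
  exact ModuleCat.isZero_of_subsingleton X

end Groth.Agent.S6950
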