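import Groth.Statements.S6952
import Groth.Agent.H4DR.TorAmp.Nilpotent

set_option autoImplicit false
universe u
open CategoryTheory CategoryTheory.Limits
attribute [local instance] HasDerivedCategory.standard
open DRing

namespace Groth.Agent.S6952

/-- Let R' → R be a surjective homomorphism of commutative rings whose kernel is a nilpotent ideal, such
that the derived base change D(R') → D(R) exists. Let K' be an object of D(R') and a, b integers.
Then K' ⊗^L R has tor amplitude in [a, b] over R if and only if K' has tor amplitude in [a, b] over
R'. -/
theorem result {R' R : Type u} [CommRing R']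
    [CommRing R] (φ : R' →+* R) (hφ : Function.Surjective φ) (hnil : IsNilpotent (RingHom.ker φ))
    [DRing.HasLBaseChange φ] (K' : Dual.D R') (a b : ℤ) :
    DRing.HasTorAmplitudeIn R a b ((DRing.LBaseChange φ).obj K') ↔ DRing.HasTorAmplitudeIn R' a b K' := by
  exact ⟨Groth.Agent.H4DR.TorAmp.ta_of_nilpotent hφ hnil K', Groth.Agent.H4DR.TorAmp.ta_lbase φ⟩

end Groth.Agent.S6952
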