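import Groth.Statements.S6953
import Groth.Agent.H16Derived.TorTest.Ring

set_option autoImplicit false
universe u
open CategoryTheory CategoryTheory.Limits
attribute [local instance] HasDerivedCategory.standard
open DRing

namespace Groth.Agent.S6953

/-- Let A → B be a homomorphism of commutative rings, K an object of D(B) with tor amplitude in [a, b]
over B, and L a cochain complex of B-modules whose restriction of scalars to A lies in D(A) with tor
amplitude contained in [c, d]. Assume the derived tensor product - ⊗^L_B L exists on D(B). Then K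
⊗^L_B L, with scalars restricted to A, has tor amplitude in [a + c, b + d] over A. -/
theorem result {A B : Type u} [CommRing A] [CommRing B] [Algebra A B]
    (K : Dual.D B) (a b c d : ℤ) (hK : DRing.HasTorAmplitudeIn B a b K) (L : DRing.Cx B)
    (hL : DRing.HasTorAmplitudeIn A c d (DRing.toD ((DRing.restrictCx (algebraMap A B)).obj L)))
    [DRing.HasLTensorCx B L] :
    DRing.HasTorAmplitudeIn A (a + c) (b + d)
      ((DRing.restrictD (algebraMap A B)).obj ((DRing.LTensorCx B L).obj K)) := by
  obtain ⟨E, hE, hf, ⟨e⟩⟩ := hK
  exact H4DR.TorAmp.ta_of_iso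
    (((DTen.resFactors (algebraMap A B)).app _).symm ≪≫ (DRing.restrictD (algebraMap A B)).mapIso
      ((H4DR.TorAmp.ltensorCxObj L E (H4DR.TorAmp.isKFlat_of_flat (fun i hi => hE i (Or.inr hi)) hf)).symm ≪≫
        (DRing.LTensorCx B L).mapIso e))
    (H16Derived.TorTest.ta_res_tensor (algebraMap A B) hE hf hL)

end Groth.Agent.S6953
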