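import Groth.Statements.S6955
import Groth.Agent.H4DR.TorAmp.PerfectChange

set_option autoImplicit false
universe u
open CategoryTheory CategoryTheory.Limits
attribute [local instance] HasDerivedCategory.standard
open DRing

namespace Groth.Agent.S6955

/-- Let R be a commutative ring and M an R-module. Then M is perfect (M[0] is isomorphic in D(R) to a
bounded complex of finite projective modules) if and only if M admits a projective resolution of
finite length whose terms are finitely generated, i.e. a resolution 0 → F_d → ... → F_0 → M → 0 by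
finite projective modules. -/
theorem result (R : Type u) [CommRing R] (M : Type u)
    [AddCommGroup M] [Module R M] :
    DRing.IsPerfectModule R M ↔
      ∃ (P : ProjectiveResolution (ModuleCat.of R M)) (d : ℕ),
        (∀ i : ℕ, d < i → IsZero (P.complex.X i)) ∧ ∀ i : ℕ, Module.Finite R (P.complex.X i) := by
  constructor
  · intro h
    obtain ⟨h1, d, hd⟩ := Groth.Agent.H8Props.PseudoCoh.isPerfectModule_iff.1 h
    let s : Groth.Agent.H8Props.PseudoCoh.Syz R := ⟨ModuleCat.of R M, h1⟩
    refine ⟨s.presolution, d, fun i hi => ?_, fun i => (s.piter i).pspec.1⟩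
    obtain ⟨k, rfl⟩ : ∃ k, i = d + 1 + k := ⟨i - (d + 1), by omega⟩
    haveI := (s.subsingleton_pterm d hd k).2
    exact ModuleCat.isZero_of_subsingleton (s.piter (d + 1 + k)).pterm
  · rintro ⟨P, d, hd, hfin⟩
    refine ⟨P.cochainComplex, -d, 0, ?_, fun i => ?_, ⟨asIso (DerivedCategory.Q.map P.π') ≪≫
      ((DerivedCategory.singleFunctorIsoCompQ (ModuleCat.{u} R) 0).app (ModuleCat.of R M)).symm⟩⟩
    · rintro i (hi | hi)
      · obtain ⟨k, rfl⟩ : ∃ k : ℕ, i = -(k : ℤ) := ⟨(-i).toNat, by omega⟩
        exact (hd k (by omega)).of_iso (P.cochainComplexXIso _ k)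
      · exact CochainComplex.isZero_of_isStrictlyLE _ 0 i hi
    by_cases hi : i ≤ 0
    · obtain ⟨k, rfl⟩ := Int.exists_eq_neg_ofNat hi
      haveI : Module.Projective R (P.complex.X k) :=
        haveI := P.projective k
        (P.complex.X k).projective_of_module_projective
      exact Groth.Agent.H4DR.TorAmp.finiteProjective_of_iso (P.cochainComplexXIso (-k) k).symm ⟨hfin k, this⟩
    · exact Groth.Agent.H4DR.TorAmp.finiteProjective_of_isZero
        (CochainComplex.isZero_of_isStrictlyLE P.cochainComplex 0 i (by omega))

end Groth.Agent.S6955
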