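import Groth.Statements.S6959
import Groth.Agent.H4DR.TorAmp.LTensorCx

set_option autoImplicit false
universe u
open CategoryTheory CategoryTheory.Limits
attribute [local instance] HasDerivedCategory.standard
open DRing

namespace Groth.Agent.S6959

/-- Let R be a commutative ring, K a perfect object of D(R) and L a cochain complex of R-modules
defining a perfect object of D(R); assume the derived tensor product - ⊗^L_R L exists on D(R). Then
K ⊗^L_R L is a perfect object of D(R). -/
theorem result (R : Type u) [CommRing R] (K : Dual.D R) (hK : DRing.IsPerfect R K)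
    (L : DRing.Cx R) (hL : DRing.IsPerfect R (DRing.toD L)) [DRing.HasLTensorCx R L] :
    DRing.IsPerfect R ((DRing.LTensorCx R L).obj K) := by
  obtain ⟨P, a, c, hb, hF, ⟨e⟩⟩ := hK
  obtain ⟨Q, a', c', hb', hF', ⟨e'⟩⟩ := hL
  have hb1 : DRing.VanishesAbove P c := fun j hj => hb j (Or.inr hj)
  have hb2 : DRing.VanishesAbove Q c' := fun j hj => hb' j (Or.inr hj)
  obtain ⟨i⟩ := Groth.Agent.H4DR.TorAmp.ltensorCx_congr L hb1 (fun j => haveI := (hF j).2; inferInstance) e
    (⟨hb2, fun j => (hF' j).2⟩ : Groth.Agent.H4DR.TorAmp.IsProjRep Q c') e'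
  refine ⟨_, a + a', c + c', fun n hn => Groth.Agent.H4DR.TorAmp.vanishes_tensor n fun p q hpq => ?_,
    fun n => ?_, ⟨i⟩⟩
  · by_cases hp : p < a ∨ c < p
    · exact Or.inl (hb p hp)
    · exact Or.inr (hb' q (by omega))
  · obtain ⟨h1, -, h3⟩ :=
      Groth.Agent.H4DR.TorAmp.tensor_terms hb1 hb2 n (fun j => (hF j).1) fun j => (hF' j).1
    exact ⟨h1, h3 (fun j => (hF j).2) fun j => (hF' j).2⟩

end Groth.Agent.S6959
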