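import Groth.Statements.S6961
import Groth.Agent.H4DR.TorAmp.PerfectChange

set_option autoImplicit false
universe u
open CategoryTheory CategoryTheory.Limits
attribute [local instance] HasDerivedCategory.standard
open DRing

namespace Groth.Agent.S6961

/-- Let R → R' be a faithfully flat homomorphism of commutative rings and K a cochain complex of
R-modules. If the termwise base change K ⊗_R R' is a perfect object of D(R'), then K is a perfect
object of D(R). -/
theorem result {R R' : Type u} [CommRing R] [CommRing R'] [Algebra R R']
    [Module.FaithfullyFlat R R'] (K : DRing.Cx R)
    (hK : DRing.IsPerfect R' (DRing.toD (((ModuleCat.extendScalars (algebraMap R R')).mapHomologicalComplex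
        (ComplexShape.up ℤ)).obj K))) :
    DRing.IsPerfect R (DRing.toD K) := by
  refine Groth.Agent.H4DR.TorAmp.isPerfect_descent (fun _ : Unit => R') (fun _ => algebraMap R R')
    (fun _ => RingHom.flat_algebraMap_iff.2 inferInstance) (fun X hX => ?_) (fun X hX => ?_) K
    fun _ => hK
  · haveI : Subsingleton (TensorProduct R R' X) := by
      have h := ModuleCat.subsingleton_of_isZero (hX ())
      have e : (algebraMap R R').toAlgebra = (inferInstance : Algebra R R') :=
        Algebra.algebra_ext _ _ fun _ => rfl
      have h' : letI := (algebraMap R R').toAlgebra
          Subsingleton (TensorProduct R R' X) := h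
      rw [e] at h'; exact h'
    haveI := Module.FaithfullyFlat.lTensor_reflects_triviality R R' X
    exact ModuleCat.isZero_of_subsingleton X
  · have e : (algebraMap R R').toAlgebra = (inferInstance : Algebra R R') :=
      Algebra.algebra_ext _ _ fun _ => rfl
    have h' : letI := (algebraMap R R').toAlgebra
        Module.Finite R' (TensorProduct R R' X) := hX ()
    rw [e] at h'
    haveI := h'
    exact Module.Finite.of_finite_tensorProduct_of_faithfullyFlat R'

end Groth.Agent.S6961
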