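import Groth.Statements.S6966
import Mathlib.Algebra.Homology.DerivedCategory.Ext.ExactSequences
import Mathlib.Algebra.Homology.DerivedCategory.Ext.EnoughProjectives
import Mathlib.Algebra.Homology.DerivedCategory.Ext.Linear
import Mathlib.Algebra.Category.ModuleCat.Ext.HasExt
import Mathlib.Algebra.Category.ModuleCat.Projective
import Mathlib.Algebra.Homology.ShortComplex.ModuleCat
import Mathlib.LinearAlgebra.Finsupp.LinearCombination
-- import your own Groth.Agent.* helpers here

set_option autoImplicit false
universe u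
open CategoryTheory CategoryTheory.Limits
attribute [local instance] HasDerivedCategory.standard
open CAlg
open CategoryTheory

namespace Groth.Agent.S6966

/-- Let R be a commutative ring, I an ideal of R and M an R-module. Then the following two conditions
coincide: for each a ∈ I, the endomorphism of M given by multiplication by a can be written as a
composite M → P → M with P some projective R-module; and for every R-module N and every a ∈ I, a
annihilates Ext^1_R(M, N) = Hom(M[0], N[1]) in D(R). -/
theorem result (R : Type u) [CommRing R] (I : Ideal R) (M : Type u)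
    [AddCommGroup M] [Module R M] :
    (∀ a ∈ I, ∃ (P : Type u) (_ : AddCommGroup P) (_ : Module R P) (_ : Module.Projective R P)
        (f : M →ₗ[R] P) (g : P →ₗ[R] M), g ∘ₗ f = a • LinearMap.id) ↔
      ∀ (N : Type u) [AddCommGroup N] [Module R N], ∀ a ∈ I,
        ∀ x : DRing.ExtD R (Dual.inD R M) (Dual.inD R N) 1, a • x = 0 := by
  classical
  constructor
  · intro h N _ _ a ha x
    obtain ⟨P, _, _, _, f, g, hfg⟩ := h a ha
    let X := ModuleCat.of R M
    let Y := ModuleCat.of R N
    let y : Abelian.Ext X Y 1 := Abelian.Ext.homEquiv.symm x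
    have hxy : x = y.hom := (Equiv.apply_symm_apply _ x).symm
    haveI : Projective (ModuleCat.of R P) := (IsProjective.iff_projective P).mp ‹_›
    have h1 : (Abelian.Ext.mk₀ (ModuleCat.ofHom g)).comp y (zero_add 1) = 0 := Abelian.Ext.eq_zero_of_projective _
    have h2 : a • y = 0 := by
      have e : ModuleCat.ofHom f ≫ ModuleCat.ofHom g = a • 𝟙 X := by
        ext m
        exact LinearMap.congr_fun hfg m
      calc a • y = (a • Abelian.Ext.mk₀ (𝟙 X)).comp y (zero_add 1) := by rw [Abelian.Ext.smul_comp, Abelian.Ext.mk₀_id_comp]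
        _ = ((Abelian.Ext.mk₀ (ModuleCat.ofHom f)).comp (Abelian.Ext.mk₀ (ModuleCat.ofHom g)) (zero_add 0)).comp y (zero_add 1) := by
            rw [← Abelian.Ext.mk₀_smul, Abelian.Ext.mk₀_comp_mk₀, e]
        _ = 0 := by
            rw [Abelian.Ext.comp_assoc_of_second_deg_zero, h1, Abelian.Ext.comp_zero]
    rw [hxy]
    have := congrArg Abelian.Ext.hom h2
    rw [Abelian.Ext.smul_hom, Abelian.Ext.zero_hom] at this
    exact this
  · intro h a ha
    let π : (M →₀ R) →ₗ[R] M := Finsupp.linearCombination R id
    have hπ : Function.Surjective π := fun m => ⟨Finsupp.single m 1, by simp [π]⟩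
    let S : ShortComplex (ModuleCat.{u} R) := ShortComplex.mk (ModuleCat.ofHom (X := LinearMap.ker π) (Y := M →₀ R) (LinearMap.ker π).subtype)
      (ModuleCat.ofHom (X := M →₀ R) (Y := M) π) (ModuleCat.hom_ext (LinearMap.ext fun x => x.2))
    have hS : S.ShortExact :=
      { exact := (ShortComplex.ShortExact.moduleCat_exact_iff_function_exact S).mpr (LinearMap.exact_subtype_ker_map π)
        mono_f := (ModuleCat.mono_iff_injective _).mpr Subtype.coe_injective
        epi_g := (ModuleCat.epi_iff_surjective _).mpr hπ }
    have h2 : a • hS.extClass = 0 := by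
      apply Abelian.Ext.homEquiv.injective
      show (a • hS.extClass).hom = (0 : Abelian.Ext _ _ 1).hom
      rw [Abelian.Ext.smul_hom, Abelian.Ext.zero_hom]
      exact h (LinearMap.ker π) a ha hS.extClass.hom
    obtain ⟨x₂, hx₂⟩ := Abelian.Ext.covariant_sequence_exact₃ (X := S.X₃) hS (Abelian.Ext.mk₀ (a • 𝟙 S.X₃))
      (zero_add 1) (by rw [Abelian.Ext.mk₀_smul, Abelian.Ext.smul_comp, Abelian.Ext.mk₀_id_comp, h2])
    obtain ⟨l, rfl⟩ := (Abelian.Ext.mk₀_bijective _ _).2 x₂
    rw [Abelian.Ext.mk₀_comp_mk₀] at hx₂
    have hl := (Abelian.Ext.mk₀_bijective _ _).1 hx₂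
    refine ⟨M →₀ R, inferInstance, inferInstance, Module.Projective.of_free, l.hom, π, LinearMap.ext fun m => ?_⟩
    exact congrArg (fun φ => φ.hom m) hl

end Groth.Agent.S6966
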