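import Groth.Statements.S6968
import Mathlib.LinearAlgebra.Dual.Lemmas
-- import your own Groth.Agent.* helpers here

set_option autoImplicit false
universe u
open CAlg

namespace Groth.Agent.S6968

/-- Let R be a commutative ring, I an ideal of R and M a finitely generated R-module such that
multiplication by a on M factors through a projective R-module for every a ∈ I. Then multiplication
by a on the dual module Hom_R(M, R) factors through a projective R-module for every a ∈ I. -/
theorem result (R : Type u) [CommRing R] (I : Ideal R) (M : Type u) [AddCommGroup M]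
    [Module R M] [Module.Finite R M]
    (hM : ∀ a ∈ I, ∃ (P : Type u) (_ : AddCommGroup P) (_ : Module R P) (_ : Module.Projective R P)
        (f : M →ₗ[R] P) (g : P →ₗ[R] M), g ∘ₗ f = a • LinearMap.id) :
    ∀ a ∈ I, ∃ (P : Type u) (_ : AddCommGroup P) (_ : Module R P) (_ : Module.Projective R P)
        (f : Module.Dual R M →ₗ[R] P) (g : P →ₗ[R] Module.Dual R M), g ∘ₗ f = a • LinearMap.id := by
  classical
  intro a ha
  obtain ⟨P, _, _, _, f, g, hgf⟩ := hM a ha
  obtain ⟨s, hs⟩ := Module.projective_def'.mp (inferInstance : Module.Projective R P)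
  obtain ⟨G, hG⟩ := Module.Finite.fg_top (R := R) (M := M)
  let S : Finset P := G.biUnion fun m => (s (f m)).support
  have hsupp : ∀ m, (s (f m)) ∈ Finsupp.supported R R (S : Set P) := by
    intro m
    have hm : m ∈ Submodule.span R (G : Set M) := hG ▸ trivial
    induction hm using Submodule.span_induction with
    | mem x hx => exact fun y hy => Finset.mem_biUnion.mpr ⟨x, hx, hy⟩
    | zero => rw [map_zero, map_zero]; exact zero_mem _
    | add x y _ _ hx hy => rw [map_add, map_add]; exact add_mem hx hy
    | smul c x _ hx => rw [map_smul, map_smul]; exact Submodule.smul_mem _ c hx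
  let f₀ : M →ₗ[R] (S → R) := LinearMap.pi fun v => Finsupp.lapply (v : P) ∘ₗ s ∘ₗ f
  let g₀ : (S → R) →ₗ[R] M := g ∘ₗ Fintype.linearCombination R (fun v : S => (v : P))
  have hgf₀ : ∀ m, g₀ (f₀ m) = a • m := by
    intro m
    have h1 : Fintype.linearCombination R (fun v : S => (v : P)) (f₀ m) = f m := by
      conv_rhs => rw [← LinearMap.id_apply (R := R) (f m), ← hs, LinearMap.comp_apply, Finsupp.linearCombination_apply]
      rw [Fintype.linearCombination_apply, Finsupp.sum_of_support_subset (s (f m)) (s := S) (fun y hy => hsupp m hy) (fun i c => c • id i) (fun i _ => zero_smul R _)]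
      exact (Finset.sum_coe_sort S fun v => (s (f m)) v • v)
    show g _ = _
    rw [h1]
    exact LinearMap.congr_fun hgf m
  refine ⟨Module.Dual R (S → R), inferInstance, inferInstance, inferInstance, g₀.dualMap, f₀.dualMap,
    LinearMap.ext fun φ => LinearMap.ext fun m => ?_⟩
  show φ (g₀ (f₀ m)) = (a • φ) m
  rw [hgf₀, map_smul, LinearMap.smul_apply]

end Groth.Agent.S6968
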