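import Groth.Statements.S6969
import Mathlib.RingTheory.Finiteness.Finsupp
import Mathlib.LinearAlgebra.Finsupp.Supported
import Mathlib.RingTheory.Finiteness.Basic
import Mathlib.Algebra.Module.Projective

set_option autoImplicit false
universe u
open CAlg

namespace Groth.Agent.S6969

/-- Let R be a commutative ring and φ : M → N an R-linear map which factors through a projective
R-module. If M is finitely generated, then φ factors through a finitely generated projective
R-module. -/
theorem result (R : Type u) [CommRing R] {M N : Type u} [AddCommGroup M]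
    [Module R M] [Module.Finite R M] [AddCommGroup N] [Module R N] (φ : M →ₗ[R] N)
    (h : ∃ (P : Type u) (_ : AddCommGroup P) (_ : Module R P) (_ : Module.Projective R P) (f : M →ₗ[R] P)
      (g : P →ₗ[R] N), g ∘ₗ f = φ) :
    ∃ (P : Type u) (_ : AddCommGroup P) (_ : Module R P) (_ : Module.Projective R P) (_ : Module.Finite R P)
      (f : M →ₗ[R] P) (g : P →ₗ[R] N), g ∘ₗ f = φ := by
  obtain ⟨P, _, _, _, f, g, rfl⟩ := h
  obtain ⟨s, hs⟩ := (Module.projective_def' (R := R) (P := P)).mp inferInstance
  obtain ⟨t, ht⟩ := (Module.Finite.fg_top (R := R) (M := M)).map (s ∘ₗ f)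
  classical
  let S : Finset P := t.biUnion Finsupp.support
  have hle : ∀ m, (s ∘ₗ f) m ∈ Finsupp.supported R R (S : Set P) := fun m => by
    have : (s ∘ₗ f) m ∈ Submodule.span R (t : Set (P →₀ R)) := ht ▸ Submodule.mem_map_of_mem Submodule.mem_top
    refine (Submodule.span_le.mpr fun x hx => ?_) this
    exact (Finsupp.mem_supported R x).mpr (Finset.coe_subset.mpr (Finset.subset_biUnion_of_mem Finsupp.support hx))
  haveI : Module.Finite R (Finsupp.supported R R (S : Set P)) :=
    Module.Finite.equiv (Finsupp.supportedEquivFinsupp (S : Set P)).symm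
  haveI : Module.Projective R (Finsupp.supported R R (S : Set P)) :=
    Module.Projective.of_equiv (Finsupp.supportedEquivFinsupp (S : Set P)).symm
  exact ⟨Finsupp.supported R R (S : Set P), inferInstance, inferInstance, inferInstance, inferInstance,
    (s ∘ₗ f).codRestrict _ hle, g ∘ₗ Finsupp.linearCombination R id ∘ₗ Submodule.subtype _,
    LinearMap.ext fun m => congrArg g (LinearMap.congr_fun hs (f m))⟩

end Groth.Agent.S6969
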