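import Groth.Statements.S6970
import Groth.Agent.H4Lift.Classes
import Groth.Agent.H4DR.TorAmp.Nilpotent

set_option autoImplicit false
universe u
open CategoryTheory CategoryTheory.Limits
attribute [local instance] HasDerivedCategory.standard
open DRing

namespace Groth.Agent.S6970

/-- Let R be a commutative ring and I a nilpotent ideal of R such that the derived base change D(R) →
D(R/I) exists. Let K be an object of D(R) and E a bounded above cochain complex of projective
R/I-modules which is isomorphic in D(R/I) to K ⊗^L_R R/I. Then there is a bounded above cochain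
complex P of projective R-modules which is isomorphic to K in D(R) and whose termwise reduction P
⊗_R R/I is isomorphic to E as a complex of R/I-modules. -/
theorem result (R : Type u) [CommRing R] (I : Ideal R)
    (hI : IsNilpotent I) [DRing.HasLBaseChange (Ideal.Quotient.mk I)] (K : Dual.D R)
    (E : DRing.Cx (R ⧸ I)) (b : ℤ) (hEb : DRing.VanishesAbove E b)
    (hEp : ∀ i : ℤ, Module.Projective (R ⧸ I) (E.X i))
    (hE : Nonempty (DRing.toD E ≅ (DRing.LBaseChange (Ideal.Quotient.mk I)).obj K)) :
    ∃ (P : DRing.Cx R) (b' : ℤ), DRing.VanishesAbove P b' ∧ (∀ i : ℤ, Module.Projective R (P.X i)) ∧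
      Nonempty (DRing.toD P ≅ K) ∧ Nonempty ((((ModuleCat.extendScalars (Ideal.Quotient.mk I)).mapHomologicalComplex (ComplexShape.up ℤ)).obj P) ≅ E) := by
  obtain ⟨eE⟩ := hE
  obtain ⟨P, hP, hflat, ⟨e⟩⟩ := H4DR.TorAmp.exists_kflatRep K
  let FC := (H4Lift.F I).mapHomologicalComplex (ComplexShape.up ℤ)
  haveI : CochainComplex.IsKProjective E :=
    haveI : CochainComplex.IsStrictlyLE E b := (CochainComplex.isStrictlyLE_iff E b).2 hEb
    haveI : ∀ n, Projective (E.X n) := fun n =>
      haveI := hEp n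
      (IsProjective.iff_projective (R := R ⧸ I) (E.X n)).1 inferInstance
    CochainComplex.isKProjective_of_projective E b
  let e' : DRing.toD E ≅ DRing.toD (FC.obj P) :=
    eE ≪≫ (DRing.LBaseChange (Ideal.Quotient.mk I)).mapIso e.symm ≪≫ H4DR.TorAmp.lbaseObj (Ideal.Quotient.mk I) P hP
  obtain ⟨α, hα⟩ := H16Derived.ProjLift.Q_map_surjective E (FC.obj P) e'.hom
  haveI : QuasiIso α := (DerivedCategory.isIso_Q_map_iff_quasiIso (ModuleCat (R ⧸ I)) α).1 (by rw [hα]; infer_instance)
  have hflatE : DRing.TermwiseFlat E := fun i =>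
    haveI := hEp i
    inferInstance
  have hvan : ∀ (M : ModuleCat.{u} R) (i : ℤ), b < i → ((H4DR.TorAmp.tens M).obj P).ExactAt i := by
    intro M i hi
    obtain ⟨n, hn⟩ := hI
    refine H4DR.TorAmp.exactAt_tens_of_pow hflat I i (fun M hM => ?_) n M
      (by rw [hn, Submodule.zero_eq_bot, Submodule.bot_smul])
    refine H4DR.TorAmp.exactAt_tens_of_surjective (φ := Ideal.Quotient.mk I) Ideal.Quotient.mk_surjective M
      (by rw [Ideal.mk_ker]; exact hM) fun N => ?_
    haveI := (H4DR.TorAmp.quasiIso_tens α (H4DR.TorAmp.isKFlat_of_flat hEb hflatE)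
      (H25DTen.isKFlat_extCx (Ideal.Quotient.mk I) hP) N).quasiIsoAt i
    refine (exactAt_iff_of_quasiIsoAt ((H4DR.TorAmp.tens N).map α) i).1 ?_
    exact (HomologicalComplex.exactAt_iff _ _).2
      (ShortComplex.exact_of_isZero_X₂ _ ((MonoidalCategory.tensorRight N).map_isZero (hEb i hi)))
  have hv : ∀ i, b < i → Subsingleton (Dual.HD R K i) := fun i hi => by
    haveI := (H4DR.TorAmp.subsingleton_HD_toD_iff _ i).2 (H4DR.TorAmp.exactAt_of_exactAt_tens_unit (hvan _ i hi))
    exact (H4DR.PCoh.hEquiv i e.symm).injective.subsingleton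
  obtain ⟨Q, hQ, ⟨eQ⟩⟩ := H4DR.TorAmp.exists_projRep hv
  exact H4Lift.Good.exists_rep (H4Lift.good_PR (R := R) hI) H4Lift.prod_PR K Q b hQ.above hQ.proj eQ E b hEb
    (fun i => haveI := hEp i; H4Lift.exists_lift_PR hI (E.X i)) eE

end Groth.Agent.S6970
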