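import Groth.Statements.S6971
import Groth.Agent.H4DR.TorAmp.NilpotentPC

set_option autoImplicit false
universe u
open CategoryTheory CategoryTheory.Limits
attribute [local instance] HasDerivedCategory.standard
open DRing

namespace Groth.Agent.S6971

/-- Let R' → R be a surjective homomorphism of commutative rings whose kernel is a nilpotent ideal, such
that the derived base change D(R') → D(R) exists, and let K' be an object of D(R'). Then K' ⊗^L R is
pseudo-coherent over R (isomorphic in D(R) to a bounded above complex of finite free modules) if and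
only if K' is pseudo-coherent over R'. -/
theorem result {R' R : Type u} [CommRing R'] [CommRing R]
    (φ : R' →+* R) (hφ : Function.Surjective φ) (hnil : IsNilpotent (RingHom.ker φ))
    [DRing.HasLBaseChange φ] (K' : Dual.D R') :
    DRing.IsPseudoCoherent' R ((DRing.LBaseChange φ).obj K') ↔ DRing.IsPseudoCoherent' R' K' := by
  refine ⟨Groth.Agent.H4DR.TorAmp.pc'_of_nilpotent hφ hnil K', fun ⟨P, c, hb, hF, ⟨e⟩⟩ =>
    ⟨_, c, fun i hi => (ModuleCat.extendScalars.{u, u, u} φ).map_isZero (hb i hi), fun i => ?_,
      ⟨(Groth.Agent.H4DR.TorAmp.lbaseObj φ P (Groth.Agent.H4DR.TorAmp.isKFlat_of_flat hb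
        fun j => haveI := (hF j).2; inferInstance)).symm ≪≫ (DRing.LBaseChange φ).mapIso e⟩⟩⟩
  letI := φ.toAlgebra
  haveI := (hF i).1
  haveI := (hF i).2
  exact ⟨inferInstanceAs (Module.Finite R (TensorProduct R' R (P.X i))),
    inferInstanceAs (Module.Free R (TensorProduct R' R (P.X i)))⟩

end Groth.Agent.S6971
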