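import Groth.Statements.S6975
import Groth.Agent.H4DR.TorAmp.Residue

set_option autoImplicit false
universe u
open CategoryTheory CategoryTheory.Limits
attribute [local instance] HasDerivedCategory.standard
open DRing

namespace Groth.Agent.S6975

/-- Let R be a local commutative ring with residue field κ such that the derived base change D(R) → D(κ)
exists, and let K be a pseudo-coherent object of D(R). If there is an integer a with H^i(K ⊗^L_R κ)
= 0 for all i < a, then K is perfect. -/
theorem result (R : Type u) [CommRing R] [IsLocalRing R]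
    [DRing.HasLBaseChange (IsLocalRing.residue R)] (K : Dual.D R) (hK : DRing.IsPseudoCoherent' R K) (a : ℤ)
    (h : ∀ i : ℤ, i < a → Subsingleton (Dual.HD (IsLocalRing.ResidueField R)
      ((DRing.LBaseChange (IsLocalRing.residue R)).obj K) i)) :
    DRing.IsPerfect R K := by
  obtain ⟨P, c, hb, hF, ⟨e⟩⟩ := hK
  have hflat : DRing.TermwiseFlat P := fun i => haveI := (hF i).2; inferInstance
  refine Groth.Agent.H4DR.TorAmp.isPerfect_iff.2 ⟨⟨P, c, hb, hF, ⟨e⟩⟩, a, c,
    Groth.Agent.H4DR.TorAmp.ta_of_tv (Groth.Agent.H4DR.TorAmp.tv_of_rep hb hflat e fun M i hi =>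
      Groth.Agent.H4DR.TorAmp.exactAt_tens_of_residue hF i (fun m hm => ?_) M)⟩
  rcases hi with hi | hi
  · obtain rfl : m = IsLocalRing.maximalIdeal R := IsLocalRing.eq_maximalIdeal hm
    haveI := h i hi
    exact (Groth.Agent.H4DR.TorAmp.subsingleton_HD_toD_iff _ i).1 (Groth.Agent.H4DR.PCoh.hEquiv i
      ((Groth.Agent.H4DR.TorAmp.lbaseObj (IsLocalRing.residue R) P
        (Groth.Agent.H4DR.TorAmp.isKFlat_of_flat hb hflat)).symm ≪≫
          (DRing.LBaseChange _).mapIso e)).injective.subsingleton
  · exact (HomologicalComplex.exactAt_iff _ _).2 (ShortComplex.exact_of_isZero_X₂ _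
      ((ModuleCat.extendScalars.{u, u, u} (Ideal.Quotient.mk m)).map_isZero (hb i hi)))

end Groth.Agent.S6975
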