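import Groth.Statements.S6977
import Groth.Agent.H4DR.TorAmp.Fibrewise

set_option autoImplicit false
universe u
open CategoryTheory CategoryTheory.Limits
attribute [local instance] HasDerivedCategory.standard
open DRing

namespace Groth.Agent.S6977

/-- Let A → B be a flat local homomorphism of local commutative rings such that B/m_A B is a regular
local ring of dimension d, and assume the derived base change D(A) → D(κ_A) to the residue field of
A exists. Let a, b be integers and K a pseudo-coherent object of D(B) such that H^i((K regarded in
D(A)) ⊗^L_A κ_A) = 0 for every i outside [a, b]. Then K is perfect as an object of D(B) and has tor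
amplitude in [a - d, b] over B. -/
theorem result {A B : Type u} [CommRing A] [CommRing B] [IsLocalRing A]
    [IsLocalRing B] [Algebra A B] [IsLocalHom (algebraMap A B)] [Module.Flat A B] (d : ℕ)
    [IsRegularLocalRing (B ⧸ (IsLocalRing.maximalIdeal A).map (algebraMap A B))]
    (hd : ringKrullDim (B ⧸ (IsLocalRing.maximalIdeal A).map (algebraMap A B)) = d)
    [DRing.HasLBaseChange (IsLocalRing.residue A)] (a b : ℤ) (K : Dual.D B) (hK : DRing.IsPseudoCoherent' B K)
    (h : ∀ i : ℤ, (i < a ∨ b < i) → Subsingleton (Dual.HD (IsLocalRing.ResidueField A)
      ((DRing.LBaseChange (IsLocalRing.residue A)).obj ((DRing.restrictD (algebraMap A B)).obj K)) i)) :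
    DRing.IsPerfect B K ∧ DRing.HasTorAmplitudeIn B (a - d) b K := by
  exact Groth.Agent.H4DR.TorAmp.Fibrewise.isPerfect_of_regular_fibre d hd a b K hK h

end Groth.Agent.S6977
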