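import Groth.Statements.S6980
import Groth.Agent.H4DR.TorAmp.Pair

set_option autoImplicit false
universe u
open CategoryTheory CategoryTheory.Limits
attribute [local instance] HasDerivedCategory.standard
open DRing

namespace Groth.Agent.S6980

/-- Let R be a commutative ring, I and J ideals of R such that the derived base changes D(R) → D(R/I),
D(R/J), D(R/IJ) exist, and K an object of D(R). If K ⊗^L_R R/I is perfect in D(R/I) and K ⊗^L_R R/J
is perfect in D(R/J), then K ⊗^L_R R/IJ is perfect in D(R/IJ). -/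
theorem result (R : Type u) [CommRing R] (I J : Ideal R)
    [DRing.HasLBaseChange (Ideal.Quotient.mk I)] [DRing.HasLBaseChange (Ideal.Quotient.mk J)]
    [DRing.HasLBaseChange (Ideal.Quotient.mk (I * J))] (K : Dual.D R)
    (hI : DRing.IsPerfect (R ⧸ I) ((DRing.LBaseChange (Ideal.Quotient.mk I)).obj K))
    (hJ : DRing.IsPerfect (R ⧸ J) ((DRing.LBaseChange (Ideal.Quotient.mk J)).obj K)) :
    DRing.IsPerfect (R ⧸ (I * J)) ((DRing.LBaseChange (Ideal.Quotient.mk (I * J))).obj K) := by
  obtain ⟨P, hP, hflat, ⟨e⟩⟩ := Groth.Agent.H4DR.TorAmp.exists_kflatRep K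
  let φ := Ideal.Quotient.factor (Ideal.mul_le_left : I * J ≤ I)
  let ψ := Ideal.Quotient.factor (Ideal.mul_le_right : I * J ≤ J)
  let f := Ideal.Quotient.mk (I * J)
  let Q := ((ModuleCat.extendScalars.{u, u, u} f).mapHomologicalComplex (ComplexShape.up ℤ)).obj P
  refine Groth.Agent.H4DR.TorAmp.isPerfect_of_iso ((Groth.Agent.H4DR.TorAmp.lbaseObj f P hP).symm ≪≫
    (DRing.LBaseChange f).mapIso e) ?_
  have hker : RingHom.ker φ * RingHom.ker ψ = ⊥ := by
    rw [Ideal.Quotient.factor_ker, Ideal.Quotient.factor_ker, ← Ideal.map_mul, Ideal.map_quotient_self]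
  refine Groth.Agent.H4DR.TorAmp.isPerfect_of_pair (φ := φ) (ψ := ψ)
    (Ideal.Quotient.factor_surjective _) (Ideal.Quotient.factor_surjective _) hker (H25DTen.isKFlat_extCx f hP)
    (fun i => ?_) ?_ ?_
  · letI := f.toAlgebra
    haveI := hflat i
    exact Module.Flat.baseChange R (R ⧸ I * J) (P.X i)
  · refine Groth.Agent.H4DR.TorAmp.isPerfect_of_iso (DerivedCategory.Q.mapIso (?_ ≪≫
      Groth.Agent.H4DR.TorAmp.extCompIso f φ P)) (Groth.Agent.H4DR.TorAmp.isPerfect_of_iso
        (((DRing.LBaseChange _).mapIso e).symm ≪≫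
          Groth.Agent.H4DR.TorAmp.lbaseObj (Ideal.Quotient.mk I) P hP) hI)
    rw [show φ.comp f = Ideal.Quotient.mk I from Ideal.Quotient.factor_comp_mk _]
  · refine Groth.Agent.H4DR.TorAmp.isPerfect_of_iso (DerivedCategory.Q.mapIso (?_ ≪≫
      Groth.Agent.H4DR.TorAmp.extCompIso f ψ P)) (Groth.Agent.H4DR.TorAmp.isPerfect_of_iso
        (((DRing.LBaseChange _).mapIso e).symm ≪≫
          Groth.Agent.H4DR.TorAmp.lbaseObj (Ideal.Quotient.mk J) P hP) hJ)
    rw [show ψ.comp f = Ideal.Quotient.mk J from Ideal.Quotient.factor_comp_mk _]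

end Groth.Agent.S6980
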