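import Groth.Statements.S6981
import Groth.Agent.S6940
import Groth.Agent.H8Props.PseudoCoh.RingMap

set_option autoImplicit false
universe u
open CategoryTheory CategoryTheory.Limits
attribute [local instance] HasDerivedCategory.standard
open DRing

namespace Groth.Agent.S6981

/-- Let R be a commutative ring, K an object of D(R), m an integer, and R[x] → R the R-algebra
homomorphism sending x to 0. Then K is m-pseudo-coherent over R if and only if K, regarded as an
object of D(R[x]) by restriction of scalars along this map, is m-pseudo-coherent over R[x]. -/
theorem result (R : Type u) [CommRing R] (K : Dual.D R)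
    (m : ℤ) :
    DRing.IsPseudoCoherent R m K ↔
      DRing.IsPseudoCoherent (Polynomial R) m ((DRing.restrictD (Polynomial.evalRingHom (0 : R))).obj K) := by
  letI : Algebra (Polynomial R) R := (Polynomial.evalRingHom (0 : R)).toAlgebra
  have hB : DRing.IsPseudoCoherentModule' (Polynomial R) R :=
    Groth.Agent.H8Props.PseudoCoh.isPseudoCoherentModule'_iff.2
      (Groth.Agent.H8Props.PseudoCoh.rfp_polynomial_eval (0 : R))
  exact (Groth.Agent.S6940.result hB K m).1

end Groth.Agent.S6981
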