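import Groth.Statements.S6988
import Groth.Agent.H4DR.PCoh.Modules
import Mathlib.Algebra.Module.FinitePresentation

set_option autoImplicit false
universe u
open CategoryTheory CategoryTheory.Limits
attribute [local instance] HasDerivedCategory.standard
open DRing

namespace Groth.Agent.S6988

/-- Let R be a commutative ring, K a pseudo-coherent object of D(R) and i an integer. Then some finitely
presented R-module M admits a morphism K → M[-i] in D(R) that is injective on H^i (here H^i(M[-i]) =
M). -/
theorem result (R : Type u) [CommRing R] (K : Dual.D R)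
    (hK : DRing.IsPseudoCoherent' R K) (i : ℤ) :
    ∃ (M : Type u) (_ : AddCommGroup M) (_ : Module R M) (_ : Module.FinitePresentation R M)
      (f : K ⟶ (shiftFunctor (Dual.D R) (-i)).obj (Dual.inD R M)),
      Mono ((DerivedCategory.homologyFunctor (ModuleCat.{u} R) i).map f) := by
  obtain ⟨E, b, hb, hF, ⟨e⟩⟩ := hK
  haveI := (hF i).1
  haveI := (hF i).2
  haveI := (hF (i - 1)).1
  let M : ModuleCat.{u} R := ModuleCat.of R (E.X i ⧸ LinearMap.range (E.d (i - 1) i).hom)
  haveI : Module.FinitePresentation R (E.X i) := Module.finitePresentation_of_projective _ _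
  have hM : Module.FinitePresentation R M := by
    refine Module.finitePresentation_of_surjective _ (Submodule.mkQ_surjective
      (LinearMap.range (E.d (i - 1) i).hom)) ?_
    rw [Submodule.ker_mkQ, LinearMap.range_eq_map]
    exact Module.Finite.fg_top.map _
  let q : E.X i ⟶ M := ModuleCat.ofHom (LinearMap.range (E.d (i - 1) i).hom).mkQ
  let g : E ⟶ (HomologicalComplex.single (ModuleCat.{u} R) (ComplexShape.up ℤ) i).obj M :=
    HomologicalComplex.mkHomToSingle q fun j (hj : j + 1 = i) => by
      obtain rfl : j = i - 1 := by omega
      exact ModuleCat.hom_ext (LinearMap.range_mkQ_comp _)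
  refine ⟨M, inferInstance, inferInstance, hM,
    e.inv ≫ DerivedCategory.Q.map g ≫ (Groth.Agent.H4DR.PCoh.singleIso M i).hom, ?_⟩
  have hg : Mono (HomologicalComplex.homologyMap g i) := by
    let S' := E.sc' (i - 1) i (i + 1)
    have e₁ : Mono (HomologicalComplex.opcyclesMap g i) := by
      have hfac : E.pOpcycles i ≫ HomologicalComplex.opcyclesMap g i ≫
          (HomologicalComplex.singleObjOpcyclesSelfIso (ComplexShape.up ℤ) i M).inv = q := by
        rw [HomologicalComplex.p_opcyclesMap_assoc]
        simp [g, HomologicalComplex.mkHomToSingle, HomologicalComplex.singleObjXSelf]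
      let c := IsColimit.coconePointUniqueUpToIso (E.opcyclesIsCokernel (i - 1) i (by simp))
        (ModuleCat.cokernelIsColimit (E.d (i - 1) i))
      have hc : E.pOpcycles i ≫ c.hom = q :=
        IsColimit.comp_coconePointUniqueUpToIso_hom (E.opcyclesIsCokernel (i - 1) i (by simp))
          (ModuleCat.cokernelIsColimit (E.d (i - 1) i)) WalkingParallelPair.one
      have : HomologicalComplex.opcyclesMap g i ≫
          (HomologicalComplex.singleObjOpcyclesSelfIso (ComplexShape.up ℤ) i M).inv = c.hom := by
        rw [← cancel_epi (E.pOpcycles i), hfac]; exact hc.symm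
      exact mono_of_mono_fac this
    have : Mono (HomologicalComplex.homologyMap g i ≫
        ((HomologicalComplex.single (ModuleCat.{u} R) (ComplexShape.up ℤ) i).obj M).homologyι i) := by
      rw [HomologicalComplex.homologyι_naturality]; infer_instance
    exact mono_of_mono _ (((HomologicalComplex.single (ModuleCat.{u} R) (ComplexShape.up ℤ) i).obj M).homologyι i)
  have : Mono ((DerivedCategory.homologyFunctor (ModuleCat.{u} R) i).map (DerivedCategory.Q.map g)) :=
    ((MorphismProperty.monomorphisms _).arrow_mk_iso_iff (((Functor.mapArrowFunctor _ _).mapIso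
      (DerivedCategory.homologyFunctorFactors (ModuleCat.{u} R) i)).app (Arrow.mk g))).2 hg
  rw [Functor.map_comp, Functor.map_comp]
  infer_instance

end Groth.Agent.S6988
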