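import Groth.Statements.S6989
import Groth.Agent.H4DR.Hom.Split
import Groth.Agent.H4DR.PCoh.Stage
import Groth.Agent.H4DR.PCoh.Modules
import Mathlib.RingTheory.Filtration

set_option autoImplicit false
universe u
open CategoryTheory CategoryTheory.Limits
attribute [local instance] HasDerivedCategory.standard
open DRing

namespace Groth.Agent.S6989

/-- Let A be a Noetherian commutative ring, K an object of D(A) whose cohomology vanishes in large
degrees and whose cohomology modules are all finitely generated, m a maximal ideal of A and i an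
integer such that m H^i(K) ≠ H^i(K). Then some finitely generated A-module E killed by a power of m
receives a morphism K → E[-i] in D(A) whose induced map H^i(K) → H^i(E[-i]) is nonzero. -/
theorem result (A : Type u) [CommRing A]
    [IsNoetherianRing A] (K : Dual.D A) (hb : ∃ b : ℤ, ∀ j : ℤ, b < j → Subsingleton (Dual.HD A K j))
    (hfin : ∀ j : ℤ, Module.Finite A (Dual.HD A K j)) (m : Ideal A) [m.IsMaximal] (i : ℤ)
    (hi : m • (⊤ : Submodule A (Dual.HD A K i)) ≠ ⊤) :
    ∃ (E : Type u) (_ : AddCommGroup E) (_ : Module A E) (_ : Module.Finite A E) (n : ℕ)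
      (_ : m ^ n • (⊤ : Submodule A E) = ⊥) (f : K ⟶ (shiftFunctor (Dual.D A) (-i)).obj (Dual.inD A E)),
      (DerivedCategory.homologyFunctor (ModuleCat.{u} A) i).map f ≠ 0 := by
  obtain ⟨b, hb⟩ := hb
  obtain ⟨E, b', hE, hF, ⟨e⟩⟩ := Groth.Agent.H4DR.PCoh.pc'_iff.2 fun k : ℤ =>
    Groth.Agent.H4DR.PCoh.pc_of_finite (b + 1 - k).toNat (m := k) (K := K)
      (fun j hj => hb j (by omega)) fun j _ => hfin j
  haveI := (hF i).1
  let Z : Submodule A (E.X i) := LinearMap.ker (E.d i (i + 1)).hom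
  let B : Submodule A (E.X i) := LinearMap.range (E.d (i - 1) i).hom
  let lift : ModuleCat.of A Z ⟶ E.cycles i := E.liftCycles (ModuleCat.ofHom Z.subtype) (i + 1) (by simp)
    (ModuleCat.hom_ext (LinearMap.ext fun z => z.2))
  have hlift : ∀ z : Z, (E.iCycles i).hom (lift.hom z) = z := fun z =>
    congr($(E.liftCycles_i (ModuleCat.ofHom Z.subtype) (i + 1) (by simp) _).hom z)
  have hinj : Function.Injective (E.iCycles i).hom := (ModuleCat.mono_iff_injective _).1 inferInstance
  let ψ : Z →ₗ[A] E.homology i := (lift ≫ E.homologyπ i).hom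
  have hψ : Function.Surjective ψ := fun h => by
    obtain ⟨c, rfl⟩ := (ModuleCat.epi_iff_surjective (E.homologyπ i)).1 inferInstance h
    let z : Z := ⟨(E.iCycles i).hom c, congr($(E.iCycles_d i (i + 1)).hom c)⟩
    exact ⟨z, congrArg (E.homologyπ i).hom (hinj (hlift z))⟩
  have hψB : ∀ z : Z, (z : E.X i) ∈ B → ψ z = 0 := fun z ⟨x, hx⟩ => by
    have h1 : lift.hom z = (E.toCycles (i - 1) i).hom x :=
      hinj ((hlift z).trans (hx.symm.trans (congr($(E.toCycles_i (i - 1) i).hom x)).symm))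
    exact (congrArg (E.homologyπ i).hom h1).trans (congr($(E.toCycles_comp_homologyπ (i - 1) i).hom x))
  let eH : E.homology i ≃ₗ[A] Dual.HD A K i :=
    ((DerivedCategory.homologyFunctorFactors (ModuleCat.{u} A) i).app E).toLinearEquiv.symm ≪≫ₗ
      Groth.Agent.H4DR.PCoh.hEquiv i e
  obtain ⟨z, hz⟩ : ∃ z : Z, (z : E.X i) ∉ B ⊔ m • Z := by
    by_contra hall
    push Not at hall
    refine hi (Submodule.eq_top_iff'.2 fun h => ?_)
    obtain ⟨z, hz⟩ := hψ (eH.symm h)
    obtain ⟨β, hβ, w, hw, hsum⟩ := Submodule.mem_sup.1 (hall z)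
    have hwZ : w ∈ Z := Submodule.smul_le_right hw
    have hz' : (z : E.X i) - w ∈ B := by rw [← hsum, add_sub_cancel_right]; exact hβ
    have hw' : (⟨w, hwZ⟩ : Z) ∈ m • (⊤ : Submodule A Z) :=
      (Submodule.mem_smul_top_iff _ _ _).2 hw
    have : ψ z = ψ ⟨w, hwZ⟩ := sub_eq_zero.1 ((map_sub ψ _ _).symm.trans (hψB _ hz'))
    rw [← eH.apply_symm_apply h, ← hz, this]
    refine (Submodule.smul_mono le_rfl le_top :
      m • (Submodule.map (eH.toLinearMap ∘ₗ ψ) ⊤) ≤ _) ?_
    rw [← Submodule.map_smul'']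
    exact ⟨_, hw', rfl⟩
  obtain ⟨k, hk⟩ := Ideal.exists_pow_inf_eq_pow_smul m Z
  let W : Submodule A (E.X i) := m ^ (k + 1) • ⊤ ⊔ B
  have hWd : E.d (i - 1) i ≫ ModuleCat.ofHom W.mkQ = 0 := ModuleCat.hom_ext (LinearMap.ext fun x =>
    (Submodule.Quotient.mk_eq_zero _).2 (Submodule.mem_sup_right ⟨x, rfl⟩))
  let g := Groth.Agent.H4DR.Hom.toSgl (ModuleCat.ofHom W.mkQ) hWd
  let ι := Groth.Agent.H4DR.Hom.shiftSingleNatIso (R := A) i (-i) (neg_add_cancel i)
  refine ⟨E.X i ⧸ W, inferInstance, inferInstance, inferInstance, k + 1, ?_,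
    e.inv ≫ DerivedCategory.Q.map g ≫ ι.inv.app (ModuleCat.of A (E.X i ⧸ W)), fun h0 => hz ?_⟩
  · rw [← Submodule.range_mkQ W, LinearMap.range_eq_map, ← Submodule.map_smul'', eq_bot_iff]
    rintro _ ⟨w, hw, rfl⟩
    exact (Submodule.mem_bot A).2 ((Submodule.Quotient.mk_eq_zero _).2 (Submodule.mem_sup_left hw))
  have h1 := (cancel_mono ((DerivedCategory.homologyFunctor (ModuleCat.{u} A) i).map
      (ι.inv.app (ModuleCat.of A (E.X i ⧸ W))))).1 ((((Category.assoc _ _ _).trans
    (congrArg ((DerivedCategory.homologyFunctor (ModuleCat.{u} A) i).map e.inv ≫ ·)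
      ((DerivedCategory.homologyFunctor (ModuleCat.{u} A) i).map_comp _ _).symm)).trans
    (((DerivedCategory.homologyFunctor (ModuleCat.{u} A) i).map_comp _ _).symm.trans h0)).trans
      zero_comp.symm)
  have h2 : (DerivedCategory.homologyFunctor (ModuleCat.{u} A) i).map (DerivedCategory.Q.map g) = 0 :=
    (cancel_epi _).1 (h1.trans comp_zero.symm)
  have h3 : HomologicalComplex.homologyMap g i = 0 := by
    have := (DerivedCategory.homologyFunctorFactors (ModuleCat.{u} A) i).hom.naturality g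
    refine (cancel_epi ((DerivedCategory.homologyFunctorFactors (ModuleCat.{u} A) i).app E).hom).1 ?_
    exact this.symm.trans (((congrArg (· ≫ _) h2).trans zero_comp).trans comp_zero.symm)
  let S := Groth.Agent.H4DR.Hom.sgl i (ModuleCat.of A (E.X i ⧸ W))
  haveI : IsIso (S.homologyπ i) := S.isIso_homologyπ (i - 1) i (by simp) (HomologicalComplex.single_obj_d _ _ _ _ _)
  have h4 : HomologicalComplex.cyclesMap g i = 0 := by
    rw [← cancel_mono (S.homologyπ i), ← HomologicalComplex.homologyπ_naturality, h3, comp_zero, zero_comp]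
  have h5 : E.iCycles i ≫ g.f i = 0 := by
    rw [← HomologicalComplex.cyclesMap_i, h4, zero_comp]
  have h6 : W.mkQ (z : E.X i) = 0 := by
    rw [Groth.Agent.H4DR.Hom.toSgl_f, ← Category.assoc] at h5
    rw [← hlift z]
    exact congr($((cancel_mono _).1 (h5.trans zero_comp.symm)).hom (lift.hom z))
  obtain ⟨w, hw, β, hβ, hsum⟩ := Submodule.mem_sup.1 ((Submodule.Quotient.mk_eq_zero _).1 h6)
  have hwZ : w ∈ Z := by
    rw [eq_sub_of_add_eq hsum]
    exact sub_mem z.2 (by obtain ⟨x, rfl⟩ := hβ; exact congr($(E.d_comp_d (i - 1) i (i + 1)).hom x))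
  have hw' : w ∈ m • Z := by
    have h := hk (k + 1) (Nat.le_succ k)
    rw [Nat.add_sub_cancel_left, pow_one] at h
    exact (Submodule.smul_mono le_rfl inf_le_right : _ ≤ m • Z) (h ▸ Submodule.mem_inf.2 ⟨hw, hwZ⟩)
  rw [← hsum, add_comm w β]
  exact Submodule.add_mem_sup hβ hw'

end Groth.Agent.S6989
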