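import Groth.Statements.S6993
import Groth.Agent.H1CAlg.RelFP
-- import your own Groth.Agent.* helpers here

set_option autoImplicit false
universe u
open CAlg

namespace Groth.Agent.S6993

/-- Let R → A → B be finite type homomorphisms of commutative rings with A of finite presentation over
R, M a B-module, and α : A[x_1, ..., x_n] → B, β : R[y_1, ..., y_k] → B surjective algebra
homomorphisms over A and R respectively. If M is finitely presented as an A[x_1, ..., x_n]-module
through α (finitely presented relative to A), then M is finitely presented as an R[y_1, ...,
y_k]-module through β (finitely presented relative to R). -/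
theorem result {R A B : Type u} [CommRing R] [CommRing A]
    [CommRing B] [Algebra R A] [Algebra A B] [Algebra R B] [IsScalarTower R A B] [Algebra.FinitePresentation R A]
    [Algebra.FiniteType A B] (M : Type u) [AddCommGroup M] [Module B M] {n k : ℕ}
    (α : MvPolynomial (Fin n) A →ₐ[A] B) (hα : Function.Surjective α)
    (β : MvPolynomial (Fin k) R →ₐ[R] B) (hβ : Function.Surjective β)
    (hM : @Module.FinitePresentation (MvPolynomial (Fin n) A) M _ _ (Module.compHom M α.toRingHom)) :
    @Module.FinitePresentation (MvPolynomial (Fin k) R) M _ _ (Module.compHom M β.toRingHom) := by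
  haveI : Algebra.FinitePresentation R (MvPolynomial (Fin n) A) :=
    Algebra.FinitePresentation.trans R A (MvPolynomial (Fin n) A)
  have h : Groth.Agent.H1CAlg.RelFP R B M :=
    (Groth.Agent.H1CAlg.relFP_iff M (α.restrictScalars R) hα).mpr hM
  exact (Groth.Agent.H1CAlg.relFP_iff M β hβ).mp h

end Groth.Agent.S6993
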