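import Groth.Statements.S6995
import Groth.Agent.H4DR.Hom.Regular
import Groth.Agent.H4DR.TorAmp.Perfect

set_option autoImplicit false
universe u
open CategoryTheory CategoryTheory.Limits
attribute [local instance] HasDerivedCategory.standard
open DRing

namespace Groth.Agent.S6995

/-- Let R be a Noetherian regular commutative ring of finite Krull dimension d ≥ 1, K a perfect object
of D(R) and k an integer such that H^i(K) = 0 for every i with k - d + 2 ≤ i ≤ k. Then K splits in
D(R) as the direct sum of its canonical truncations: there is an isomorphism K ≅ τ_(≤ k-d+1) K ⊕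
τ_(≥ k+1) K under which the truncation map τ_(≤ k-d+1) K → K becomes the first inclusion and K →
τ_(≥ k+1) K the second projection. -/
theorem result (R : Type u) [CommRing R] [IsNoetherianRing R]
    (hreg : ∀ p : PrimeSpectrum R, IsRegularLocalRing (Localization.AtPrime p.asIdeal)) (d : ℕ) (hd1 : 1 ≤ d)
    (hd : ringKrullDim R = d) (K : Dual.D R) (hK : DRing.IsPerfect R K) (k : ℤ)
    (hgap : ∀ i : ℤ, k - d + 2 ≤ i → i ≤ k → Subsingleton (Dual.HD R K i))
    [HasBinaryBiproduct
      (((DerivedCategory.TStructure.t : Triangulated.TStructure (Dual.D R)).truncLT (k - d + 2)).obj K)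
      (((DerivedCategory.TStructure.t : Triangulated.TStructure (Dual.D R)).truncGE (k + 1)).obj K)] :
    ∃ e : K ≅
      ((DerivedCategory.TStructure.t : Triangulated.TStructure (Dual.D R)).truncLT (k - d + 2)).obj K ⊞
        ((DerivedCategory.TStructure.t : Triangulated.TStructure (Dual.D R)).truncGE (k + 1)).obj K,
      ((DerivedCategory.TStructure.t : Triangulated.TStructure (Dual.D R)).truncLTι (k - d + 2)).app K ≫ e.hom =
          biprod.inl ∧
        e.hom ≫ biprod.snd =
          ((DerivedCategory.TStructure.t : Triangulated.TStructure (Dual.D R)).truncGEπ (k + 1)).app K := by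
  let t : Pretriangulated.Triangle (Dual.D R) → Prop := fun T => T ∈ Pretriangulated.distinguishedTriangles
  obtain ⟨a, b, hb⟩ : ∃ a b : ℤ, ∀ i : ℤ, (i < a ∨ b < i) → Subsingleton (Dual.HD R K i) := by
    obtain ⟨E, a, b, hE, -, ⟨e⟩⟩ := hK
    exact ⟨a, b, fun i hi => ModuleCat.subsingleton_of_isZero (((HomologicalComplex.exactAt_iff _ _).2
      (ShortComplex.exact_of_isZero_X₂ _ (hE i hi))).isZero_homology.of_iso
        (((DerivedCategory.homologyFunctor (ModuleCat.{u} R) i).mapIso e).symm ≪≫
          (DerivedCategory.homologyFunctorFactors (ModuleCat.{u} R) i).app E))⟩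
  let ts : Triangulated.TStructure (Dual.D R) := DerivedCategory.TStructure.t
  obtain ⟨e1, he1⟩ := Groth.Agent.H4DR.Hom.exists_truncLTIso' (k - d + 2) (k + 1) (by omega)
    (K := K) fun i h1 h2 => hgap i h1 (by omega)
  let T := (ts.triangleLTGE (k + 1)).obj K
  have hT : t T := ts.triangleLTGE_distinguished (k + 1) K
  have h1 : ∀ i : ℤ, k - d + 2 ≤ i → Subsingleton (Dual.HD R T.obj₁ i) := fun i hi => by
    haveI := ts.isLE_truncLT_obj K (k - d + 2) (k - d + 1) (by omega)
    haveI : DerivedCategory.IsLE ((ts.truncLT (k - d + 2)).obj K) (k - d + 1) :=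
      ts.isLE_truncLT_obj K (k - d + 2) (k - d + 1) (by omega)
    haveI := ModuleCat.subsingleton_of_isZero
      (DerivedCategory.isZero_of_isLE ((ts.truncLT (k - d + 2)).obj K) (k - d + 1) i (by omega))
    exact (Groth.Agent.H4DR.PCoh.hEquiv i e1.symm).injective.subsingleton
  have h3 : ∀ i : ℤ, i ≤ k → Subsingleton (Dual.HD R T.obj₃ i) := fun i hi => by
    haveI : DerivedCategory.IsGE T.obj₃ (k + 1) := inferInstanceAs (ts.IsGE _ (k + 1))
    exact ModuleCat.subsingleton_of_isZero (DerivedCategory.isZero_of_isGE T.obj₃ (k + 1) i (by omega))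
  have h3b : ∃ c : ℤ, ∀ i : ℤ, c < i → Subsingleton (Dual.HD R T.obj₃ i) := ⟨max b k, fun i hi =>
    Groth.Agent.H4DR.PCoh.subsingleton₃ T hT i (i + 1) rfl (h1 (i + 1) (by omega))
      (hb i (Or.inr (by omega)))⟩
  haveI := Groth.Agent.H4DR.Hom.subsingleton_hom_of_pd
    (Groth.Agent.H4DR.Hom.hasProjectiveDimensionLT_of_regular hreg hd) (L := T.obj₁⟦(1 : ℤ)⟧) h3b k h3
    fun i hi => by
      haveI := h1 (1 + i) (by omega)
      exact (Groth.Agent.H4DR.PCoh.hShift T.obj₁ 1 i (1 + i) rfl).injective.subsingleton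
  have hz : T.mor₃ = 0 := Subsingleton.elim _ _
  obtain ⟨e, he, hes⟩ := Pretriangulated.exists_iso_binaryBiproduct_of_distTriang T hT hz
  let e2 : (ts.truncLT (k - d + 2)).obj K ≅ T.obj₁ := e1
  refine ⟨e ≪≫ biprod.mapIso e2.symm (Iso.refl T.obj₃), ?_, ?_⟩
  · show (ts.truncLTι (k - d + 2)).app K ≫ _ = _
    rw [← he1]
    show (e2.hom ≫ T.mor₁) ≫ _ = _
    refine (Category.assoc _ _ _).trans ((congrArg (e2.hom ≫ ·) (((Category.assoc _ _ _).symm.trans
      (congrArg (· ≫ (biprod.mapIso e2.symm (Iso.refl T.obj₃)).hom) he)).trans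
      (biprod.inl_map e2.inv (𝟙 T.obj₃)))).trans (e2.hom_inv_id_assoc _))
  · show _ = T.mor₂
    refine (Category.assoc _ _ _).trans ((congrArg (e.hom ≫ ·) ((biprod.map_snd _ _).trans
      (Category.comp_id _))).trans ?_)
    exact hes.symm

end Groth.Agent.S6995
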