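import Groth.Statements.S6999
import Groth.Agent.H4DR.Hom.PCColim
import Groth.Agent.H4DR.PCoh.Basic

set_option autoImplicit false
universe u
open CategoryTheory CategoryTheory.Limits
attribute [local instance] HasDerivedCategory.standard
open DRing

namespace Groth.Agent.S6999

/-- Let R be a commutative ring, m an integer, K an m-pseudo-coherent object of D(R), and (M_j) a
diagram of R-modules over a small filtered category with colimit cocone M. Then the canonical map
colim_j Hom(K, M_j[n]) → Hom(K, M[n]) in D(R) is bijective for n < -m and injective for n = -m.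
Unfolded: for n < -m every morphism K → M[n] factors through M_j[n] → M[n] for some j; and for n ≤
-m, a morphism K → M_j[n] whose composite with M_j[n] → M[n] is zero already has zero composite with
M_j[n] → M_(j')[n] for some j → j'. -/
theorem result (R : Type u) [CommRing R] (m : ℤ) (K : Dual.D R)
    (hK : DRing.IsPseudoCoherent R m K) {J : Type u} [SmallCategory J] [IsFiltered J]
    (F : J ⥤ ModuleCat.{u} R) (c : Cocone F) (hc : IsColimit c) :
    (∀ n : ℤ, n < -m → ∀ x : K ⟶ (shiftFunctor (Dual.D R) n).obj (Dual.inD R c.pt),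
      ∃ (j : J) (y : K ⟶ (shiftFunctor (Dual.D R) n).obj (Dual.inD R (F.obj j))),
        y ≫ (shiftFunctor (Dual.D R) n).map
          ((DerivedCategory.singleFunctor (ModuleCat.{u} R) 0).map (c.ι.app j)) = x) ∧
    (∀ n : ℤ, n ≤ -m → ∀ (j : J) (y : K ⟶ (shiftFunctor (Dual.D R) n).obj (Dual.inD R (F.obj j))),
      y ≫ (shiftFunctor (Dual.D R) n).map
          ((DerivedCategory.singleFunctor (ModuleCat.{u} R) 0).map (c.ι.app j)) = 0 →
      ∃ (j' : J) (f : j ⟶ j'), y ≫ (shiftFunctor (Dual.D R) n).map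
          ((DerivedCategory.singleFunctor (ModuleCat.{u} R) 0).map (F.map f)) = 0) := by
  obtain ⟨E, α, ⟨a, b, hab, hff⟩, hα⟩ := H4DR.PCoh.pc_iff.1 hK
  have hP : H4DR.TorAmp.IsProjRep E b :=
    ⟨fun i hi => hab i (Or.inr hi), fun i => haveI := (hff i).2; inferInstance⟩
  obtain ⟨C, β, δ, hT⟩ := Pretriangulated.distinguished_cocone_triangle α
  have hC : ∀ i, m ≤ i → Subsingleton (Dual.HD R C i) :=
    (H4DR.PCoh.good_iff_cone m (Pretriangulated.Triangle.mk α β δ) hT).1 hα
  have hinj : ∀ (M : ModuleCat.{u} R) (n : ℤ), n ≤ -m →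
      ∀ z : K ⟶ (shiftFunctor (Dual.D R) n).obj (Dual.inD R M), α ≫ z = 0 → z = 0 := by
    intro M n hn z hz
    obtain ⟨g, rfl⟩ := Pretriangulated.Triangle.yoneda_exact₂ _ hT z hz
    rw [H4DR.PCColim.hom_eq_zero_of_vanish C M m n hn hC g]
    exact comp_zero
  refine ⟨fun n hn x => ?_, fun n hn j y hy => ?_⟩
  · obtain ⟨j, y, hy⟩ := H4DR.PCColim.surj_of_rep hc hP hff n (α ≫ x)
    obtain ⟨y', hy'⟩ := Pretriangulated.Triangle.yoneda_exact₂ _
      (Pretriangulated.inv_rot_of_distTriang _ hT) y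
      (H4DR.PCColim.hom_eq_zero_of_vanish _ (F.obj j) (m + 1) n (by omega)
        (fun i hi => haveI := hC (-1 + i) (by omega)
          (H4DR.PCoh.hShift C (-1) i (-1 + i) rfl).injective.subsingleton) _)
    refine ⟨j, y', sub_eq_zero.1 (hinj c.pt n hn.le _ ?_)⟩
    rw [Preadditive.comp_sub, sub_eq_zero, ← hy, ← Category.assoc]
    exact congrArg (· ≫ _) hy'.symm
  · obtain ⟨k, f, hf⟩ := H4DR.PCColim.inj_of_rep hc hP hff n j (α ≫ y)
      (by rw [Category.assoc, hy]; exact comp_zero)
    exact ⟨k, f, hinj _ n hn _ ((Category.assoc _ _ _).symm.trans hf)⟩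

end Groth.Agent.S6999
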