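import Groth.Statements.S7000
import Groth.Agent.H4DR.PCoh.Extend

set_option autoImplicit false
universe u
open CategoryTheory CategoryTheory.Limits
attribute [local instance] HasDerivedCategory.standard
open DRing

namespace Groth.Agent.S7000

/-- Let A → B be a flat homomorphism of commutative rings, m an integer and M an A-module. If M is
m-pseudo-coherent then the B-module B ⊗_A M is m-pseudo-coherent; if M is pseudo-coherent then B ⊗_A
M is pseudo-coherent. -/
theorem result {A B : Type u} [CommRing A] [CommRing B] [Algebra A B]
    [Module.Flat A B] (m : ℤ) (M : Type u) [AddCommGroup M] [Module A M] :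
    (DRing.IsPseudoCoherentModule A m M → DRing.IsPseudoCoherentModule B m (TensorProduct A B M)) ∧
      (DRing.IsPseudoCoherentModule' A M → DRing.IsPseudoCoherentModule' B (TensorProduct A B M)) := by
  have key : ∀ j : ℤ, DRing.IsPseudoCoherentModule A j M →
      DRing.IsPseudoCoherentModule B j (TensorProduct A B M) := fun j h => by
    have h1 := Groth.Agent.H4DR.PCoh.pcModule_extend (algebraMap A B) (RingHom.flat_algebraMap_iff.2 inferInstance) M h
    have e : (algebraMap A B).toAlgebra = ‹Algebra A B› := Algebra.algebra_ext _ _ fun _ => rfl
    rw [e] at h1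
    exact h1
  exact ⟨key m, fun h => Groth.Agent.H4DR.PCoh.pc'_of_forall fun m' => key m' (Groth.Agent.H4DR.PCoh.pc_of_pc' h m')⟩

end Groth.Agent.S7000
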