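import Groth.Statements.S7002
import Groth.Agent.H4DR.Split.Main
import Groth.Agent.S7004
import Groth.Agent.S6976
import Groth.Agent.S6937

set_option autoImplicit false
universe u
open CategoryTheory CategoryTheory.Limits
attribute [local instance] HasDerivedCategory.standard
open DRing

namespace Groth.Agent.S7002

/-- Let R be a commutative ring, p a prime ideal of R with residue field κ(p), such that the derived
base change D(R) → D(κ(p)) exists; let i be an integer and K a cochain complex of R-modules which is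
pseudo-coherent in D(R) and satisfies H^i(K ⊗^L_R κ(p)) = 0. Then there is an element f ∈ R with f ∉
p such that, for the termwise localization K_f of K over R_f, the truncation τ_(≥ i+1) K_f is
perfect in D(R_f), its tor amplitude lying in [i+1, b] for some integer b, and K_f ≅ τ_(≥ i+1) K_f ⊕
τ_(≤ i-1) K_f in D(R_f) by an isomorphism carrying K_f → τ_(≥ i+1) K_f to the first projection and
τ_(≤ i-1) K_f → K_f to the second inclusion. -/
theorem result (R : Type u) [CommRing R]
    (p : Ideal R) [p.IsPrime] [DRing.HasLBaseChange (algebraMap R p.ResidueField)] (i : ℤ) (K : DRing.Cx R)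
    (hK : DRing.IsPseudoCoherent' R (DRing.toD K))
    (hi : Subsingleton (Dual.HD p.ResidueField ((DRing.LBaseChange (algebraMap R p.ResidueField)).obj (DRing.toD K)) i)) :
    ∃ f : R, f ∉ p ∧
      let Kf := DRing.toD (((ModuleCat.extendScalars (algebraMap R (Localization.Away f))).mapHomologicalComplex
        (ComplexShape.up ℤ)).obj K)
      let t := (DerivedCategory.TStructure.t : Triangulated.TStructure (Dual.D (Localization.Away f)))
      let Kge := (t.truncGE (i + 1)).obj Kf
      let Klt := (t.truncLT i).obj Kf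
      DRing.IsPerfect (Localization.Away f) Kge ∧
        (∃ b : ℤ, DRing.HasTorAmplitudeIn (Localization.Away f) (i + 1) b Kge) ∧
        ∀ [HasBinaryBiproduct Kge Klt], ∃ e : Kf ≅ Kge ⊞ Klt,
          e.hom ≫ biprod.fst = (t.truncGEπ (i + 1)).app Kf ∧ (t.truncLTι i).app Kf ≫ e.hom = biprod.inr := by
  obtain ⟨f, hf, hpc, hext⟩ := Groth.Agent.H4DR.Split.exists_away p i K hK hi
  refine ⟨f, hf, ?_⟩
  intro Kf t Kge Klt
  have hb : ∃ b : ℤ, ∀ j : ℤ, b < j → Subsingleton (Dual.HD (Localization.Away f) Kf j) := by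
    obtain ⟨b, -, hb⟩ := Groth.Agent.H4DR.PCoh.exists_bound (Groth.Agent.H4DR.PCoh.pc_of_pc' hpc i)
    exact ⟨b, fun j hj => hb j (by omega)⟩
  haveI : HasBinaryBiproduct Klt Kge := HasBinaryBiproduct.of_hasBinaryProduct _ _
  obtain ⟨⟨e, he₁, he₂⟩, ⟨P, b, hPv, hPp, hPe⟩⟩ := Groth.Agent.S7004.result (Localization.Away f) i Kf hb hext
  have hpcsum : DRing.IsPseudoCoherent' (Localization.Away f) (Klt ⊞ Kge) := by
    obtain ⟨E, c, h₁, h₂, ⟨e'⟩⟩ := hpc
    exact ⟨E, c, h₁, h₂, ⟨e' ≪≫ e⟩⟩
  have hge := ((Groth.Agent.S6937.result (Localization.Away f) i Klt Kge).2 hpcsum).2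
  obtain ⟨hperf, hta⟩ := (Groth.Agent.S6976.result (Localization.Away f) Kge hge (i + 1) b).1 ⟨P, hPv, hPp, hPe⟩
  refine ⟨hperf, ⟨b, hta⟩, ?_⟩
  intro _
  refine ⟨e ≪≫ biprod.braiding Klt Kge, ?_, ?_⟩
  · simp only [Iso.trans_hom, biprod.braiding_hom, Category.assoc, biprod.lift_fst]
    exact he₂
  · rw [Iso.trans_hom, ← Category.assoc, he₁, biprod.braiding_hom]
    exact biprod.hom_ext _ _
      ((Category.assoc _ _ _).trans ((congrArg (biprod.inl ≫ ·) (biprod.lift_fst _ _)).trans
        (biprod.inl_snd.trans biprod.inr_fst.symm)))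
      ((Category.assoc _ _ _).trans ((congrArg (biprod.inl ≫ ·) (biprod.lift_snd _ _)).trans
        (biprod.inl_fst.trans biprod.inr_snd.symm)))

end Groth.Agent.S7002
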