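import Groth.Statements.S7010
import Groth.Agent.H25DTen.Perfect
import Groth.Agent.H4DR.PCoh.Modules

set_option autoImplicit false
universe u
open CategoryTheory CategoryTheory.Limits
attribute [local instance] HasDerivedCategory.standard
open DRing

namespace Groth.Agent.S7010

open CategoryTheory.Pretriangulated in
/-- The inclusion of the perfect objects in the subcategory generated by R: let R be a commutative ring
and P a property of objects of D(R) which is closed under isomorphisms, holds for R[0], is stable
under all shifts, is closed under extensions (if it holds for the outer terms of a distinguished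
triangle it holds for the middle term) and is closed under taking direct summands. Then P holds for
every perfect object of D(R). -/
theorem result (R : Type u) [CommRing R]
    (P : ObjectProperty (Dual.D R)) [P.IsClosedUnderIsomorphisms] (hR : P (Dual.inD R R))
    (hshift : ∀ (K : Dual.D R) (n : ℤ), P K → P ((shiftFunctor (Dual.D R) n).obj K))
    (hext : ∀ T : Triangle (Dual.D R), T ∈ distinguishedTriangles → P T.obj₁ → P T.obj₃ → P T.obj₂)
    (hsum : ∀ (X Y : Dual.D R) [HasBinaryBiproduct X Y], P (X ⊞ Y) → P X)
    (K : Dual.D R) (hK : DRing.IsPerfect R K) : P K := by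
  refine Groth.Agent.H25DTen.perfect_induction (fun X => P X) (fun {X Y} i r hir hY => ?_)
    hext (fun k => ?_) hK
  · haveI : HasBinaryBiproducts (Dual.D R) := HasBinaryBiproducts.of_hasBinaryProducts
    obtain ⟨C, g, h, hT⟩ := Pretriangulated.distinguished_cocone_triangle i
    have h0 : h ≫ i⟦(1 : ℤ)⟧' = 0 := Pretriangulated.comp_distTriang_mor_zero₃₁ _ hT
    have h1 : h = 0 := by
      have h2 := congr($h0 ≫ r⟦(1 : ℤ)⟧')
      rwa [Category.assoc, ← Functor.map_comp, hir, CategoryTheory.Functor.map_id, Category.comp_id,
        zero_comp] at h2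
    obtain ⟨e, -, -⟩ := Pretriangulated.exists_iso_binaryBiproduct_of_distTriang _ hT h1
    exact hsum X C (P.prop_of_iso e hY)
  · let e : Groth.Agent.H25DTen.S R k ≅ (Dual.inD R R)⟦k⟧ :=
      DerivedCategory.Q.mapIso (Groth.Agent.H25DTen.singleUnitIso (-k) ≪≫ eqToIso (by rw [neg_neg])).symm ≪≫
        Groth.Agent.H4DR.PCoh.singleIso (ModuleCat.of R R) (-k) ≪≫ eqToIso (by rw [neg_neg])
    exact P.prop_of_iso e.symm (hshift _ k hR)

end Groth.Agent.S7010
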