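import Groth.Statements.S7015
import Mathlib.LinearAlgebra.TensorProduct.Finiteness
import Mathlib.RingTheory.Finiteness.Projective

set_option autoImplicit false
universe u
open CategoryTheory MonoidalCategory
open DRing

namespace Groth.Agent.S7015

/-- Let R be a commutative ring and M, N R-modules such that N is a left dual of M for the tensor
product of R-modules, i.e. there are a coevaluation R → M ⊗ N and an evaluation N ⊗ M → R satisfying
the triangle identities (an exact pairing). Then M and N are finitely generated projective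
R-modules. -/
theorem result (R : Type u) [CommRing R] (M N : Type u) [AddCommGroup M]
    [Module R M] [AddCommGroup N] [Module R N] [ExactPairing (ModuleCat.of R M) (ModuleCat.of R N)] :
    Module.Finite R M ∧ Module.Projective R M ∧ Module.Finite R N ∧ Module.Projective R N := by
  let X := ModuleCat.of R M
  let Y := ModuleCat.of R N
  let η : R →ₗ[R] TensorProduct R M N := (η_ X Y).hom
  let ε : TensorProduct R N M →ₗ[R] R := (ε_ X Y).hom
  obtain ⟨S, hS⟩ := TensorProduct.exists_finset (η 1)
  have h₁ : ∀ x : M, ∑ p ∈ S, ε (p.2 ⊗ₜ[R] x) • p.1 = x := fun x => by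
    have h := congr(TensorProduct.rid R M
      ($(ExactPairing.evaluation_coevaluation X Y).hom ((1 : R) ⊗ₜ[R] x)))
    change TensorProduct.rid R M (ε.lTensor M (TensorProduct.assoc R M N M (η 1 ⊗ₜ[R] x))) =
      TensorProduct.rid R M ((TensorProduct.rid R M).symm (TensorProduct.lid R M ((1 : R) ⊗ₜ[R] x))) at h
    rw [hS, TensorProduct.sum_tmul] at h
    simpa using h
  have h₂ : ∀ y : N, ∑ p ∈ S, ε (y ⊗ₜ[R] p.1) • p.2 = y := fun y => by
    have h := congr(TensorProduct.lid R N
      ($(ExactPairing.coevaluation_evaluation X Y).hom (y ⊗ₜ[R] (1 : R))))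
    change TensorProduct.lid R N (ε.rTensor N ((TensorProduct.assoc R N M N).symm (y ⊗ₜ[R] η 1))) =
      TensorProduct.lid R N ((TensorProduct.lid R N).symm (TensorProduct.rid R N (y ⊗ₜ[R] (1 : R)))) at h
    rw [hS, TensorProduct.tmul_sum] at h
    simpa using h
  have key : ∀ (P : Type u) [AddCommGroup P] [Module R P] (v : S → P) (φ : S → P →ₗ[R] R),
      (∀ x, ∑ p, φ p x • v p = x) → Module.Finite R P ∧ Module.Projective R P := by
    intro P _ _ v φ h
    have hsec : ((Fintype.linearCombination R v).comp (LinearMap.pi φ)) = LinearMap.id :=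
      LinearMap.ext fun x => by simpa [Fintype.linearCombination_apply] using h x
    exact ⟨Module.Finite.of_surjective (Fintype.linearCombination R v) fun x =>
        ⟨LinearMap.pi φ x, congr($hsec x)⟩,
      Module.Projective.of_split (LinearMap.pi φ) (Fintype.linearCombination R v) hsec⟩
  obtain ⟨a, b⟩ := key M (fun p => p.1.1) (fun p => ε ∘ₗ TensorProduct.mk R N M p.1.2)
    fun x => (Finset.sum_coe_sort S fun p => ε (p.2 ⊗ₜ[R] x) • p.1).trans (h₁ x)
  obtain ⟨c, d⟩ := key N (fun p => p.1.2) (fun p => ε ∘ₗ (TensorProduct.mk R N M).flip p.1.1)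
    fun y => (Finset.sum_coe_sort S fun p => ε (y ⊗ₜ[R] p.1) • p.2).trans (h₂ y)
  exact ⟨a, b, c, d⟩

end Groth.Agent.S7015
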