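import Groth.Statements.S7017
import Groth.Agent.H4DR.PCoh.Modules

set_option autoImplicit false
universe u
open CategoryTheory CategoryTheory.Limits
attribute [local instance] HasDerivedCategory.standard
open DRing

namespace Groth.Agent.S7017

open CategoryTheory.Pretriangulated in
/-- Let R be a commutative ring and K → L → M → K[1] a distinguished triangle in D(R). Whenever two of
K, L, M are pseudo-coherent (isomorphic in D(R) to bounded above complexes of finite free modules),
the remaining one is as well. -/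
theorem result (R : Type u) [CommRing R] (T : Triangle (Dual.D R))
    (hT : T ∈ distinguishedTriangles) :
    (DRing.IsPseudoCoherent' R T.obj₁ → DRing.IsPseudoCoherent' R T.obj₂ → DRing.IsPseudoCoherent' R T.obj₃) ∧
      (DRing.IsPseudoCoherent' R T.obj₁ → DRing.IsPseudoCoherent' R T.obj₃ → DRing.IsPseudoCoherent' R T.obj₂) ∧
      (DRing.IsPseudoCoherent' R T.obj₂ → DRing.IsPseudoCoherent' R T.obj₃ → DRing.IsPseudoCoherent' R T.obj₁) := by
  simp only [Groth.Agent.H4DR.PCoh.pc'_iff]
  exact ⟨fun h1 h2 m => Groth.Agent.H4DR.PCoh.pc_obj₃ T hT (h1 _) (h2 m), fun h1 h3 m => Groth.Agent.H4DR.PCoh.pc_obj₂ T hT (h1 m) (h3 m),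
    fun h2 h3 m => by simpa using Groth.Agent.H4DR.PCoh.pc_obj₁ (m := m - 1) T hT (h2 _) (h3 _)⟩

end Groth.Agent.S7017
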