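import Groth.Statements.S7018
import Groth.Agent.H4DR.TorAmp.Modules

set_option autoImplicit false
universe u
open CategoryTheory CategoryTheory.Limits
attribute [local instance] HasDerivedCategory.standard
open DRing

namespace Groth.Agent.S7018

/-- Let R be a commutative ring such that the derived tensor product - ⊗^L_R M exists on D(R) for every
R-module M, let a, b be integers and K, L objects of D(R). Tor amplitude in [a, b] of the direct sum
K ⊕ L implies tor amplitude in [a, b] of each summand K and L. -/
theorem result (R : Type u) [CommRing R] [∀ M : ModuleCat.{u} R, DRing.HasLTensor R M]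
    (a b : ℤ) (K L : Dual.D R) [HasBinaryBiproduct K L] (h : DRing.HasTorAmplitudeIn R a b (K ⊞ L)) :
    DRing.HasTorAmplitudeIn R a b K ∧ DRing.HasTorAmplitudeIn R a b L := by
  exact ⟨Groth.Agent.H4DR.TorAmp.ta_of_retract biprod.inl biprod.fst biprod.inl_fst h,
    Groth.Agent.H4DR.TorAmp.ta_of_retract biprod.inr biprod.snd biprod.inr_snd h⟩

end Groth.Agent.S7018
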