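import Groth.Statements.S7020
import Groth.Agent.H8Props.RingRelPCBasic

set_option autoImplicit false
universe u
open CategoryTheory CategoryTheory.Limits
attribute [local instance] HasDerivedCategory.standard
open DerCA

namespace Groth.Agent.S7020

open CategoryTheory.Pretriangulated in
/-- Let R → A be a finite type homomorphism of commutative rings, m an integer and K → L → M → K[1] a
distinguished triangle in D(A); all pseudo-coherence below is relative to R. (1) M is
m-pseudo-coherent when K is (m+1)-pseudo-coherent and L is m-pseudo-coherent. (2) L is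
m-pseudo-coherent when K and M are. (3) K is (m+1)-pseudo-coherent when L is (m+1)-pseudo-coherent
and M is m-pseudo-coherent. (4) Pseudo-coherence in every degree of any two of K, L, M implies that
of the third. -/
theorem result {R A : Type u} [CommRing R] [CommRing A] [Algebra R A] [Algebra.FiniteType R A] (m : ℤ) (T : Triangle (Dual.D A))
    (hT : T ∈ distinguishedTriangles) :
    (DerCA.IsRelPseudoCoherent R A (m + 1) T.obj₁ → DerCA.IsRelPseudoCoherent R A m T.obj₂ →
        DerCA.IsRelPseudoCoherent R A m T.obj₃) ∧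
      (DerCA.IsRelPseudoCoherent R A m T.obj₁ → DerCA.IsRelPseudoCoherent R A m T.obj₃ →
        DerCA.IsRelPseudoCoherent R A m T.obj₂) ∧
      (DerCA.IsRelPseudoCoherent R A (m + 1) T.obj₂ → DerCA.IsRelPseudoCoherent R A m T.obj₃ →
        DerCA.IsRelPseudoCoherent R A (m + 1) T.obj₁) ∧
      ((DerCA.IsRelPseudoCoherentAll R A T.obj₁ → DerCA.IsRelPseudoCoherentAll R A T.obj₂ →
          DerCA.IsRelPseudoCoherentAll R A T.obj₃) ∧
        (DerCA.IsRelPseudoCoherentAll R A T.obj₁ → DerCA.IsRelPseudoCoherentAll R A T.obj₃ →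
          DerCA.IsRelPseudoCoherentAll R A T.obj₂) ∧
        (DerCA.IsRelPseudoCoherentAll R A T.obj₂ → DerCA.IsRelPseudoCoherentAll R A T.obj₃ →
          DerCA.IsRelPseudoCoherentAll R A T.obj₁)) := by
  obtain ⟨n, α, hα⟩ := Groth.Agent.H8Props.RingRelPC.exists_pres R A
  have h₃ : ∀ m : ℤ, DerCA.IsRelPseudoCoherent R A (m + 1) T.obj₁ →
      DerCA.IsRelPseudoCoherent R A m T.obj₂ → DerCA.IsRelPseudoCoherent R A m T.obj₃ := fun m => by
    simp only [Groth.Agent.H8Props.RingRelPC.relPC_iff_via α hα]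
    exact Groth.Agent.H8Props.RingRelPC.via_obj₃ _ hT
  have h₂ : ∀ m : ℤ, DerCA.IsRelPseudoCoherent R A m T.obj₁ →
      DerCA.IsRelPseudoCoherent R A m T.obj₃ → DerCA.IsRelPseudoCoherent R A m T.obj₂ := fun m => by
    simp only [Groth.Agent.H8Props.RingRelPC.relPC_iff_via α hα]
    exact Groth.Agent.H8Props.RingRelPC.via_obj₂ _ hT
  have h₁ : ∀ m : ℤ, DerCA.IsRelPseudoCoherent R A (m + 1) T.obj₂ →
      DerCA.IsRelPseudoCoherent R A m T.obj₃ → DerCA.IsRelPseudoCoherent R A (m + 1) T.obj₁ := fun m => by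
    simp only [Groth.Agent.H8Props.RingRelPC.relPC_iff_via α hα]
    exact Groth.Agent.H8Props.RingRelPC.via_obj₁ _ hT
  refine ⟨h₃ m, h₂ m, h₁ m, fun a b j => h₃ j (a _) (b _), fun a b j => h₂ j (a _) (b _), fun a b j => ?_⟩
  simpa using h₁ (j - 1) (a _) (b _)

end Groth.Agent.S7020
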