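import Groth.Statements.S7021
import Groth.Agent.H8Props.RingRelPCBasic

set_option autoImplicit false
universe u
open CategoryTheory CategoryTheory.Limits
attribute [local instance] HasDerivedCategory.standard
open DerCA

namespace Groth.Agent.S7021

/-- Let R → A be a finite type homomorphism of commutative rings, α : R[x_1, ..., x_n] → A a surjective
R-algebra homomorphism and M an A-module. Then relative 0-pseudo-coherence of M over R amounts to M
being a finitely generated A-module, and relative (-1)-pseudo-coherence of M over R amounts to M
being finitely presented as an R[x_1, ..., x_n]-module through α. -/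
theorem result {R A : Type u} [CommRing R] [CommRing A]
    [Algebra R A] [Algebra.FiniteType R A] {n : ℕ} (α : MvPolynomial (Fin n) R →ₐ[R] A)
    (hα : Function.Surjective α) (M : Type u) [AddCommGroup M] [Module A M] :
    (DerCA.IsRelPseudoCoherentModule R A 0 M ↔ Module.Finite A M) ∧
      (DerCA.IsRelPseudoCoherentModule R A (-1) M ↔
        @Module.FinitePresentation (MvPolynomial (Fin n) R) M _ _ (Module.compHom M α.toRingHom)) := by
  letI : Module (MvPolynomial (Fin n) R) M := Module.compHom M α.toRingHom
  let N : ModuleCat.{u} (MvPolynomial (Fin n) R) :=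
    (ModuleCat.restrictScalars.{u} (α : MvPolynomial (Fin n) R →+* A)).obj (ModuleCat.of A M)
  let e : N ≃ₗ[MvPolynomial (Fin n) R] M := { AddEquiv.refl M with map_smul' := fun _ _ => rfl }
  constructor
  · unfold DerCA.IsRelPseudoCoherentModule
    rw [Groth.Agent.H8Props.RingRelPC.relPC_iff_via α hα]
    exact ((Groth.Agent.H8Props.RingRelPC.via_inD_iff _ (ModuleCat.of A M) 0).trans
      (Groth.Agent.H4DR.PCoh.pcModule_iff N).1).trans
      (Groth.Agent.H8Props.RingRelPC.finite_res_iff _ hα (ModuleCat.of A M))
  · unfold DerCA.IsRelPseudoCoherentModule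
    rw [Groth.Agent.H8Props.RingRelPC.relPC_iff_via α hα]
    exact ((Groth.Agent.H8Props.RingRelPC.via_inD_iff _ (ModuleCat.of A M) (-1)).trans
      (Groth.Agent.H4DR.PCoh.pcModule_iff N).2).trans
      ⟨fun h => Module.FinitePresentation.of_equiv e, fun h => Module.FinitePresentation.of_equiv e.symm⟩

end Groth.Agent.S7021
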