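import Groth.Statements.S7026
import Groth.Agent.H8Props.RingRelPCBasic

set_option autoImplicit false
universe u
open CategoryTheory CategoryTheory.Limits
attribute [local instance] HasDerivedCategory.standard
open DerCA

namespace Groth.Agent.S7026

/-- Let R be a Noetherian commutative ring, R → A a finite type ring homomorphism, m an integer, K an
object of D(A) and M an A-module. Then: m-pseudo-coherence of K relative to R is equivalent to
H^i(K) vanishing for all large i together with H^i(K) being a finitely generated A-module for each i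
≥ m; pseudo-coherence of K relative to R (every degree) is equivalent to the same with H^i(K)
finitely generated for every i; and the A-module M is pseudo-coherent relative to R exactly when M
is finitely generated. -/
theorem result {R A : Type u} [CommRing R]
    [IsNoetherianRing R] [CommRing A] [Algebra R A] [Algebra.FiniteType R A] (m : ℤ) (K : Dual.D A)
    (M : Type u) [AddCommGroup M] [Module A M] :
    (DerCA.IsRelPseudoCoherent R A m K ↔
      (∃ b : ℤ, ∀ i : ℤ, b < i → Subsingleton (Dual.HD A K i)) ∧ ∀ i : ℤ, m ≤ i → Module.Finite A (Dual.HD A K i)) ∧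
    (DerCA.IsRelPseudoCoherentAll R A K ↔
      (∃ b : ℤ, ∀ i : ℤ, b < i → Subsingleton (Dual.HD A K i)) ∧ ∀ i : ℤ, Module.Finite A (Dual.HD A K i)) ∧
    (DerCA.IsRelPseudoCoherentModuleAll R A M ↔ Module.Finite A M) := by
  obtain ⟨n, α, hα⟩ := Groth.Agent.H8Props.RingRelPC.exists_pres R A
  let P := MvPolynomial (Fin n) R
  let ψ : P →+* A := α
  have hfin : ∀ (L : Dual.D A) (i : ℤ), Module.Finite P (Dual.HD P ((DRing.restrictD ψ).obj L) i) ↔
      Module.Finite A (Dual.HD A L i) := fun L i => by
    rw [← Groth.Agent.H8Props.RingRelPC.finite_res_iff ψ hα]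
    exact Module.Finite.equiv_iff (Groth.Agent.H8Props.RingRelPC.hdRes ψ L i).toLinearEquiv
  have key : ∀ (m : ℤ) (L : Dual.D A), DerCA.IsRelPseudoCoherent R A m L ↔
      (∃ b : ℤ, ∀ i : ℤ, b < i → Subsingleton (Dual.HD A L i)) ∧
        ∀ i : ℤ, m ≤ i → Module.Finite A (Dual.HD A L i) := fun m L => by
    rw [Groth.Agent.H8Props.RingRelPC.relPC_iff_via α hα]
    refine ⟨fun h => ⟨?_, fun i hi => (hfin L i).1 (Groth.Agent.H4DR.PCoh.finite_of_pc h i hi)⟩,
      fun h => ?_⟩
    · obtain ⟨b, -, hb⟩ := Groth.Agent.H4DR.PCoh.exists_bound h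
      refine ⟨b, fun i hi => ?_⟩
      haveI := hb i hi
      exact (Groth.Agent.H8Props.RingRelPC.hdRes ψ L i).toLinearEquiv.symm.injective.subsingleton
    · obtain ⟨⟨b, hb⟩, hf⟩ := h
      exact Groth.Agent.H4DR.PCoh.pc_of_finite (b + 1 - m).toNat
        (fun i hi => Groth.Agent.H8Props.RingRelPC.subsingleton_hd_res _ (hb i (by omega)))
        fun i hi => (hfin L i).2 (hf i hi)
  refine ⟨key m K, ⟨fun h => ⟨((key 0 K).1 (h 0)).1, fun i => ((key i K).1 (h i)).2 i le_rfl⟩,
    fun h j => (key j K).2 ⟨h.1, fun i _ => h.2 i⟩⟩, ⟨fun h => ?_, fun h j => ?_⟩⟩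
  · haveI := ((key 0 _).1 (h 0)).2 0 le_rfl
    exact Module.Finite.equiv (Groth.Agent.H4DR.PCoh.HDinD (ModuleCat.of A M))
  · refine (key j _).2 ⟨⟨0, fun i hi => Groth.Agent.H4DR.PCoh.subsingleton_HD_inD (ModuleCat.of A M) i (by omega)⟩,
      fun i _ => ?_⟩
    by_cases hi : i = 0
    · subst hi
      exact Module.Finite.equiv (Groth.Agent.H4DR.PCoh.HDinD (ModuleCat.of A M)).symm
    · haveI := Groth.Agent.H4DR.PCoh.subsingleton_HD_inD (ModuleCat.of A M) i hi
      infer_instance

end Groth.Agent.S7026
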