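import Groth.Statements.S7033
import Groth.Agent.H4DR.TorAmp.Modules

set_option autoImplicit false
universe u
open CategoryTheory CategoryTheory.Limits
attribute [local instance] HasDerivedCategory.standard
open DRing

namespace Groth.Agent.S7033

/-- Let R be a commutative ring such that the derived tensor product - ⊗^L_R M exists on D(R) for every
R-module M, let a, b be integers and K an object of D(R) whose cohomology vanishes outside a bounded
range, such that for every i the module H^i(K) (placed in degree 0) has tor amplitude in [a - i, b -
i]. Then K has tor amplitude in [a, b]. -/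
theorem result (R : Type u) [CommRing R] [∀ M : ModuleCat.{u} R, DRing.HasLTensor R M] (a b : ℤ) (K : Dual.D R)
    (hb : ∃ c d : ℤ, ∀ i : ℤ, (i < c ∨ d < i) → Subsingleton (Dual.HD R K i))
    (hK : ∀ i : ℤ, DRing.HasTorAmplitudeIn R (a - i) (b - i) (Dual.inD R (Dual.HD R K i))) :
    DRing.HasTorAmplitudeIn R a b K := by
  obtain ⟨c, d, hb⟩ := hb
  exact Groth.Agent.H4DR.TorAmp.ta_of_homology (d + 1 - c).toNat c (fun i hi => hb i (by omega)) hK

end Groth.Agent.S7033
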