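import Groth.Statements.S7039
import Mathlib.RingTheory.Finiteness.Ideal
import Mathlib.Algebra.Module.Torsion.Basic

set_option autoImplicit false
universe u
open LocCoh

namespace Groth.Agent.S7039

/-- For a finitely generated ideal I of a commutative ring R and any R-module M, the quotient of M by
its submodule of I-power torsion elements has no nonzero element annihilated by I. -/
theorem result {R : Type u} [CommRing R] (I : Ideal R) (hI : I.FG)
    (M : Type u) [AddCommGroup M] [Module R M] :
    LocCoh.torsionBy I (M ⧸ DRing.torsionSub I M) = ⊥ := by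

  rw [Submodule.eq_bot_iff]
  intro x hx
  obtain ⟨m, rfl⟩ := Submodule.Quotient.mk_surjective _ x
  rw [Submodule.Quotient.mk_eq_zero]
  obtain ⟨s, rfl⟩ := hI
  have key : ∀ a ∈ s, ∃ n : ℕ, ∀ b ∈ Ideal.span (s : Set R) ^ n, b • (a • m) = 0 := fun a ha => by
    have := (Submodule.mem_torsionBySet_iff _ _).1 hx ⟨a, Ideal.subset_span ha⟩
    rw [← Submodule.Quotient.mk_smul, Submodule.Quotient.mk_eq_zero] at this
    exact this
  choose n hn using key
  let N := ∑ a ∈ s.attach, n a.1 a.2
  refine ⟨N + 1, fun b hb => ?_⟩
  rw [pow_succ] at hb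
  induction hb using Submodule.mul_induction_on' with
  | mem_mul_mem c hc d hd =>
    rw [mul_smul]
    induction hd using Submodule.span_induction with
    | mem a ha =>
      exact hn a ha c (Ideal.pow_le_pow_right
        (Finset.single_le_sum (fun i _ => Nat.zero_le (n i.1 i.2)) (Finset.mem_attach s ⟨a, ha⟩)) hc)
    | zero => rw [zero_smul, smul_zero]
    | add u v _ _ hu hv => rw [add_smul, smul_add, hu, hv, add_zero]
    | smul r u _ hu => rw [smul_eq_mul, mul_smul, smul_comm c r, hu, smul_zero]
  | add u _ v _ hu hv => rw [add_smul, hu, hv, add_zero]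

end Groth.Agent.S7039
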