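import Groth.Statements.S7040
import Mathlib.CategoryTheory.Abelian.SerreClass.Basic
import Mathlib.Algebra.Category.ModuleCat.EpiMono
import Mathlib.Algebra.Homology.ShortComplex.ModuleCat

set_option autoImplicit false
universe u
open CategoryTheory
open LocCoh

namespace Groth.Agent.S7040

/-- For a finitely generated ideal I of a commutative ring R, the property of being an I-power torsion
module (every element killed by a power of I) is a Serre class in the category of R-modules: it
holds for 0 and is closed under subobjects, quotients and extensions. -/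
theorem result {R : Type u} [CommRing R] (I : Ideal R) (hI : I.FG) :
    ObjectProperty.IsSerreClass (C := ModuleCat.{u} R) (fun M => LocCoh.IsPowerTorsion I M) := by

  refine { exists_zero := ⟨ModuleCat.of R PUnit, ModuleCat.isZero_of_subsingleton _, fun x => ⟨0, fun a _ => Subsingleton.elim _ _⟩⟩, prop_of_mono := ?_, prop_of_epi := ?_, prop_X₂_of_shortExact := ?_ }
  · intro X Y g _ hY x
    obtain ⟨n, hn⟩ := hY (g x)
    exact ⟨n, fun a ha => (ModuleCat.mono_iff_injective g).1 inferInstance
      (by rw [map_smul, hn a ha, map_zero])⟩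
  · intro X Y g _ hX y
    obtain ⟨x, rfl⟩ := (ModuleCat.epi_iff_surjective g).1 inferInstance y
    obtain ⟨n, hn⟩ := hX x
    exact ⟨n, fun a ha => by rw [← map_smul, hn a ha, map_zero]⟩
  · intro S hS h₁ h₃ x
    obtain ⟨n, hn⟩ := h₃ (S.g x)
    obtain ⟨s, hs⟩ := Ideal.FG.pow (n := n) hI
    have hker : ∀ a ∈ I ^ n, ∃ y, S.f y = a • x := fun a ha =>
      (CategoryTheory.ShortComplex.moduleCat_exact_iff _).1 hS.exact (a • x)
        (by rw [map_smul]; exact hn a ha)
    classical
    choose y hy using fun a : s => hker a.1 (hs ▸ Ideal.subset_span a.2)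
    choose m hm using fun a : s => h₁ (y a)
    refine ⟨Finset.univ.sup m + n, fun c hc => ?_⟩
    rw [pow_add] at hc
    refine Submodule.mul_induction_on hc (fun p hp q hq => ?_) fun p q hp hq => by
      rw [add_smul, hp, hq, add_zero]
    rw [← hs] at hq
    rw [mul_smul]
    induction hq using Submodule.span_induction with
    | mem a ha =>
      rw [← hy ⟨a, ha⟩, ← map_smul, hm ⟨a, ha⟩ p (Ideal.pow_le_pow_right
        (Finset.le_sup (Finset.mem_univ (⟨a, ha⟩ : s))) hp), map_zero]
    | zero => rw [zero_smul, smul_zero]
    | add a b _ _ iha ihb => rw [add_smul, smul_add, iha, ihb, add_zero]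
    | smul r a _ iha => rw [smul_eq_mul, mul_smul, smul_comm, iha, smul_zero]

end Groth.Agent.S7040
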