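import Groth.Statements.S7041
import Groth.Agent.H4DR.FlatBC.TorsionTensor

set_option autoImplicit false
universe u
open TensorProduct
open LocCoh

namespace Groth.Agent.S7041

/-- Let R → R' be a homomorphism of commutative rings and I an ideal of R such that the induced map
R/I^n → R'/I^n R' is bijective for every n > 0. Then for every R-module M in which every element is
killed by a power of I, the map M → R' ⊗_R M sending m to 1 ⊗ m is bijective. -/
theorem result {R R' : Type u} [CommRing R] [CommRing R'] [Algebra R R']
    (I : Ideal R)
    (hq : ∀ n : ℕ, 0 < n → Function.Bijective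
      (Ideal.quotientMap (Ideal.map (algebraMap R R') (I ^ n)) (algebraMap R R') Ideal.le_comap_map))
    (M : Type u) [AddCommGroup M] [Module R M] (hM : LocCoh.IsPowerTorsion I M) :
    Function.Bijective (fun m : M => (1 : R') ⊗ₜ[R] m) := by
  exact H4DR.FlatBC.bijective_one_tmul I hq M hM

end Groth.Agent.S7041
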