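import Groth.Statements.S7043
import Groth.Agent.H4DR.DComplete.Hom
import Groth.Agent.H4DR.DComplete.Series

set_option autoImplicit false
universe u
attribute [local instance] HasDerivedCategory.standard
open DRing

namespace Groth.Agent.S7043

/-- Let f be an element of a commutative ring A and let M be an A-module which, placed in degree 0, is
derived complete with respect to the ideal (f). Then the ideal J = ⋂ f^n A annihilates the submodule
⋂ f^n M, which is the kernel of M → lim M/f^n M. (The case M = A says that J has square zero when A
itself is derived complete.) -/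
theorem result {A : Type u} [CommRing A] (f : A)
    (M : Type u) [AddCommGroup M] [Module A M]
    (hc : DRing.IsDerivedComplete (Ideal.span {f}) (Dual.inD A M)) :
    (⨅ n : ℕ, Ideal.span {f ^ n}) • (⨅ n : ℕ, (Ideal.span {f ^ n}) • (⊤ : Submodule A M)) = (⊥ : Submodule A M) := by
  rw [Groth.Agent.H4DR.DComplete.isDerivedComplete_inD_iff] at hc
  refine le_bot_iff.1 (Submodule.smul_le.2 fun y hy x hx => ?_)
  simp only [Submodule.mem_iInf, Ideal.mem_span_singleton'] at hy
  choose a ha using hy
  rw [Submodule.mem_bot]
  refine Groth.Agent.H4DR.DComplete.smul_eq_zero_of_divisible (hc f (Ideal.mem_span_singleton_self f)) (a := a)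
    (fun k z => by rw [mul_comm, ha k]) (fun n => ?_)
  have h := (Submodule.mem_iInf _).1 hx n
  rw [Submodule.ideal_span_singleton_smul] at h
  obtain ⟨z, -, hz⟩ := (Submodule.mem_smul_pointwise_iff_exists _ _ _).1 h
  exact ⟨z, hz.symm⟩

end Groth.Agent.S7043
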