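import Groth.Statements.S7046
import Groth.Agent.H4DR.DComplete.Hom
import Groth.Agent.H4DR.DComplete.Ring

set_option autoImplicit false
universe u
attribute [local instance] HasDerivedCategory.standard
open DRing

namespace Groth.Agent.S7046

/-- A reduced commutative ring A which, placed in degree 0 of D(A), is derived complete with respect to
a finitely generated ideal I is I-adically complete, i.e. separated and complete for the I-adic
topology. -/
theorem result {A : Type u} [CommRing A] [IsReduced A]
    (I : Ideal A) (hI : I.FG) (hc : DRing.IsDerivedComplete I (Dual.inD A A)) :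
    IsAdicComplete I A := by
  obtain ⟨s, rfl⟩ := hI
  rw [Groth.Agent.H4DR.DComplete.isDerivedComplete_inD_iff] at hc
  have hJ : (⨅ n : ℕ, Ideal.span (s : Set A) ^ n) ^ (2 ^ s.card) ≤ ⊥ := by
    refine le_trans ?_ (Groth.Agent.H4DR.DComplete.iInf_pow_sup_le s ⊥ fun f hf =>
      (hc f (Ideal.subset_span hf)).of_equiv (Submodule.quotEquivOfEqBot (⊥ : Ideal A) rfl).symm)
    simp
  haveI : IsHausdorff (Ideal.span (s : Set A)) A := ⟨fun x hx => by
    refine IsReduced.eq_zero x ⟨2 ^ s.card, Ideal.mem_bot.1 (hJ (Ideal.pow_mem_pow ?_ _))⟩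
    refine (Submodule.mem_iInf _).2 fun n => ?_
    simpa using SModEq.zero.1 (hx n)⟩
  have hs := Groth.Agent.H4DR.DComplete.surjective_completion (M := A) s rfl (fun f hf => hc f (Ideal.subset_span hf))
  exact (AdicCompletion.of_bijective_iff).1
    ⟨(AdicCompletion.of_injective_iff).2 inferInstance, hs⟩

end Groth.Agent.S7046
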