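import Groth.Statements.S7047
import Groth.Agent.H4DR.DComplete.Hom
import Groth.Agent.H4DR.DComplete.Series

set_option autoImplicit false
universe u
attribute [local instance] HasDerivedCategory.standard
open DRing

namespace Groth.Agent.S7047

/-- For a commutative ring A and an object K of D(A), the set of elements f of A such that every
morphism from A_f (placed in degree 0) to any shift K[n] vanishes is a radical ideal of A. -/
theorem result {A : Type u} [CommRing A] (K : Dual.D A) :
    ∃ J : Ideal A, J.IsRadical ∧
      (J : Set A) = {f : A | ∀ n : ℤ, Subsingleton (Dual.inD A (Localization.Away f) ⟶ K⟦n⟧)} := by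
  refine ⟨⨅ n : ℤ, Groth.Agent.H4DR.DComplete.bijIdeal (A := A) (Dual.HD A K n), Ideal.isRadical_iInf _ fun n => Groth.Agent.H4DR.DComplete.isRadical_bijIdeal, ?_⟩
  ext f
  simp only [SetLike.mem_coe, Submodule.mem_iInf, Set.mem_setOf_eq, Groth.Agent.H4DR.DComplete.subsingleton_hom_iff]
  rfl

end Groth.Agent.S7047
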