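import Groth.Statements.S7051
import Groth.Agent.H4DR.DComplete.Hom
import Groth.Agent.H4DR.DComplete.Series

set_option autoImplicit false
universe u
attribute [local instance] HasDerivedCategory.standard
open DRing

namespace Groth.Agent.S7051

/-- For a commutative ring A, an ideal I and a linear map u between A-modules M and N which are derived
complete with respect to I (placed in degree 0), the kernel of u and the cokernel N/u(M) are again
derived complete with respect to I. -/
theorem result {A : Type u} [CommRing A] (I : Ideal A)
    (M N : Type u) [AddCommGroup M] [Module A M] [AddCommGroup N] [Module A N] (u : M →ₗ[A] N)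
    (hM : DRing.IsDerivedComplete I (Dual.inD A M)) (hN : DRing.IsDerivedComplete I (Dual.inD A N)) :
    DRing.IsDerivedComplete I (Dual.inD A (LinearMap.ker u)) ∧
      DRing.IsDerivedComplete I (Dual.inD A (N ⧸ LinearMap.range u)) := by
  rw [Groth.Agent.H4DR.DComplete.isDerivedComplete_inD_iff] at hM hN
  exact ⟨(Groth.Agent.H4DR.DComplete.isDerivedComplete_inD_iff I _).2 fun f hf => (hM f hf).ker u (hN f hf),
    (Groth.Agent.H4DR.DComplete.isDerivedComplete_inD_iff I _).2 fun f hf => (hM f hf).coker u (hN f hf)⟩

end Groth.Agent.S7051
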