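import Groth.Statements.S7055
import Groth.Agent.H4DR.DComplete.Nakayama

set_option autoImplicit false
universe u
attribute [local instance] HasDerivedCategory.standard
open CategoryTheory
open DRing

namespace Groth.Agent.S7055

/-- For a commutative ring A, a finitely generated ideal I and an object K of D(A) which is derived
complete with respect to I, if K ⊗^L_A A/I vanishes then K vanishes. The derived tensor product with
the module A/I is the total left derived functor, assumed to exist. -/
theorem result {A : Type u} [CommRing A] (I : Ideal A) (hI : I.FG)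
    [DRing.HasLTensor A (ModuleCat.of A (A ⧸ I))]
    (K : Dual.D A) (hc : DRing.IsDerivedComplete I K)
    (h0 : Limits.IsZero ((DRing.LTensor A (ModuleCat.of A (A ⧸ I))).obj K)) : Limits.IsZero K := by
  obtain ⟨P, hPK, hPf, ⟨e⟩⟩ := Groth.Agent.H4DR.TorAmp.exists_kflatRep K
  obtain ⟨s, rfl⟩ := hI
  let M : ModuleCat.{u} A := ModuleCat.of A (A ⧸ Ideal.span (s : Set A))
  let eM : (DRing.LTensor A M).obj K ≅ DRing.toD ((Groth.Agent.H4DR.TorAmp.tens M).obj P) :=
    (DRing.LTensor A M).mapIso e.symm ≪≫ Groth.Agent.H4DR.TorAmp.ltensorObj M P hPK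
  have hcP : ∀ g ∈ s, ∀ n : ℤ, Groth.Agent.H4DR.DComplete.Bij g (Dual.HD A (DRing.toD P) n) := fun g hg n =>
    ((Groth.Agent.H4DR.DComplete.isDerivedComplete_iff _ K).1 hc g (Ideal.subset_span hg) n).of_equiv
      (Groth.Agent.H4DR.PCoh.hEquiv n e.symm)
  have key : ∀ b : ℤ, (∀ i, b < i → Subsingleton (Dual.HD A ((DRing.LTensor A M).obj K) i)) →
      ∀ i, b < i → Subsingleton (Dual.HD A K i) := fun b h i hi => by
    haveI := (Groth.Agent.H4DR.TorAmp.subsingleton_HD_toD_iff P i).2
      (Groth.Agent.H4DR.DComplete.exactAt_of_complete s b P hPf hcP (fun N hN j hj =>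
        Groth.Agent.H4DR.DComplete.exactAt_tens_of_quotient _ hPK b (fun k hk =>
          haveI := h k hk
          (Groth.Agent.H4DR.TorAmp.subsingleton_HD_toD_iff _ k).1
            (Groth.Agent.H4DR.PCoh.hEquiv k eM).symm.injective.subsingleton) N hN hj) i hi)
    exact (Groth.Agent.H4DR.PCoh.hEquiv i e).symm.injective.subsingleton
  have hz : ∀ i, Limits.IsZero ((DerivedCategory.homologyFunctor (ModuleCat.{u} A) i).obj ((DRing.LTensor A M).obj K)) := fun i =>
    (DerivedCategory.homologyFunctor _ i).map_isZero h0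
  have hK : ∀ i, Subsingleton (Dual.HD A K i) := fun i =>
    key (i - 1) (fun j _ => ModuleCat.subsingleton_of_isZero (hz j)) i (by omega)
  have hP : P.Acyclic := fun i =>
    haveI := hK i
    (Groth.Agent.H4DR.TorAmp.subsingleton_HD_toD_iff P i).1
      (Groth.Agent.H4DR.PCoh.hEquiv i e).injective.subsingleton
  open scoped ZeroObject in
  have : QuasiIso (0 : P ⟶ 0) := ⟨fun i => by
    rw [quasiIsoAt_iff_exactAt _ _ (hP i)]
    exact HomologicalComplex.ExactAt.of_isZero ((HomologicalComplex.eval _ _ i).map_isZero (Limits.isZero_zero _))⟩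
  open scoped ZeroObject in
  exact ((DerivedCategory.Q.map_isZero (Limits.isZero_zero _)).of_iso
    (asIso (DerivedCategory.Q.map (0 : P ⟶ 0)))).of_iso e.symm

end Groth.Agent.S7055
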