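import Groth.Statements.S7056
import Groth.Agent.H4DR.DComplete.Nakayama

set_option autoImplicit false
universe u
attribute [local instance] HasDerivedCategory.standard
open CategoryTheory
open DRing

namespace Groth.Agent.S7056

/-- (1)⇔(2): for a commutative ring A, a finitely generated ideal I and an object K of D(A) which is
derived complete with respect to I, the cohomology of K vanishes in all positive degrees if and only
if the cohomology of K ⊗^L_A A/I does. The derived tensor product with the module A/I is the total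
left derived functor, assumed to exist. -/
theorem result {A : Type u} [CommRing A]
    (I : Ideal A) (hI : I.FG) [DRing.HasLTensor A (ModuleCat.of A (A ⧸ I))]
    (K : Dual.D A) (hc : DRing.IsDerivedComplete I K) :
    (∀ i : ℤ, 0 < i → Subsingleton (Dual.HD A K i)) ↔
      ∀ i : ℤ, 0 < i → Subsingleton (Dual.HD A ((DRing.LTensor A (ModuleCat.of A (A ⧸ I))).obj K) i) := by
  obtain ⟨P, hPK, hPf, ⟨e⟩⟩ := Groth.Agent.H4DR.TorAmp.exists_kflatRep K
  obtain ⟨s, rfl⟩ := hI
  let M : ModuleCat.{u} A := ModuleCat.of A (A ⧸ Ideal.span (s : Set A))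
  let eM : (DRing.LTensor A M).obj K ≅ DRing.toD ((Groth.Agent.H4DR.TorAmp.tens M).obj P) :=
    (DRing.LTensor A M).mapIso e.symm ≪≫ Groth.Agent.H4DR.TorAmp.ltensorObj M P hPK
  have hcP : ∀ g ∈ s, ∀ n : ℤ, Groth.Agent.H4DR.DComplete.Bij g (Dual.HD A (DRing.toD P) n) := fun g hg n =>
    ((Groth.Agent.H4DR.DComplete.isDerivedComplete_iff _ K).1 hc g (Ideal.subset_span hg) n).of_equiv
      (Groth.Agent.H4DR.PCoh.hEquiv n e.symm)
  have key : ∀ b : ℤ, (∀ i, b < i → Subsingleton (Dual.HD A ((DRing.LTensor A M).obj K) i)) →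
      ∀ i, b < i → Subsingleton (Dual.HD A K i) := fun b h i hi => by
    haveI := (Groth.Agent.H4DR.TorAmp.subsingleton_HD_toD_iff P i).2
      (Groth.Agent.H4DR.DComplete.exactAt_of_complete s b P hPf hcP (fun N hN j hj =>
        Groth.Agent.H4DR.DComplete.exactAt_tens_of_quotient _ hPK b (fun k hk =>
          haveI := h k hk
          (Groth.Agent.H4DR.TorAmp.subsingleton_HD_toD_iff _ k).1
            (Groth.Agent.H4DR.PCoh.hEquiv k eM).symm.injective.subsingleton) N hN hj) i hi)
    exact (Groth.Agent.H4DR.PCoh.hEquiv i e).symm.injective.subsingleton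
  refine ⟨fun h i hi => ?_, key 0⟩
  haveI := (Groth.Agent.H4DR.TorAmp.subsingleton_HD_toD_iff _ i).2
    (Groth.Agent.H4DR.DComplete.exactAt_tens_of_exactAt hPK 0 (fun j hj =>
      haveI := h j hj
      (Groth.Agent.H4DR.TorAmp.subsingleton_HD_toD_iff P j).1
        (Groth.Agent.H4DR.PCoh.hEquiv j e).injective.subsingleton) M hi)
  exact (Groth.Agent.H4DR.PCoh.hEquiv i eM).injective.subsingleton

end Groth.Agent.S7056
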