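import Groth.Statements.S7058
import Groth.Agent.H4DR.DComplete.Orthogonal

set_option autoImplicit false
universe u
attribute [local instance] HasDerivedCategory.standard
open CategoryTheory
open DRing

namespace Groth.Agent.S7058

/-- Let A be a commutative ring, I a finitely generated ideal, and assume the derived completion functor
(left adjoint to the inclusion of derived complete objects of D(A)) exists. If K is a cochain
complex of A-modules and some f in I acts bijectively on every term of K, then the derived
completion of K is zero. -/
theorem result {A : Type u} [CommRing A] (I : Ideal A) (hI : I.FG)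
    [DRing.HasDerivedCompletion I] (K : DRing.Cx A) (f : A) (hf : f ∈ I)
    (hK : ∀ i : ℤ, Function.Bijective (fun x : K.X i => f • x)) :
    Limits.IsZero ((DRing.derivedCompletion I).obj (DRing.toD K)).obj := by
  set X := (DRing.derivedCompletion I).obj (DRing.toD K)
  let adj := DRing.derivedCompletionAdj I
  have hη : adj.unit.app (DRing.toD K) = 0 :=
    Groth.Agent.H4DR.DComplete.hom_eq_zero hf K hK X.property _
  have h : 𝟙 X = CategoryTheory.ObjectProperty.homMk (0 : X.obj ⟶ X.obj) := (adj.homEquiv _ _).injective (by
    rw [CategoryTheory.Adjunction.homEquiv_unit, CategoryTheory.Adjunction.homEquiv_unit, hη, Limits.zero_comp, Limits.zero_comp])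
  exact (Limits.IsZero.iff_id_eq_zero _).2 (congrArg (fun t : X ⟶ X => t.hom) h)

end Groth.Agent.S7058
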