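import Groth.Statements.S7062
import Groth.Agent.H9Hens.GlueTor
-- import your own Groth.Agent.* helpers here

set_option autoImplicit false
universe u
open EtGlue

namespace Groth.Agent.S7062

/-- For a glueing pair (R → R', f), i.e. R/f^nR → R'/f^nR' is bijective for all n > 0 and the sequence 0
→ R → R' ⊕ R_f → R'_f → 0 is exact, the group Tor_1^R(R', f^n R) vanishes for every n > 0 (Tor
computed by resolving the second argument, the ideal f^n R). -/
theorem result {R R' : Type u} [CommRing R] [CommRing R'] [Algebra R R']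
    (f : R) (h : EtGlue.IsGlueingPair R R' f) (n : ℕ) (hn : 0 < n) :
    Subsingleton (DRing.Tor R 1 R' ↥(Ideal.span ({f ^ n} : Set R))) := by
  let g : R →ₗ[R] ↥(Ideal.span ({f ^ n} : Set R)) :=
    (LinearMap.toSpanSingleton R R (f ^ n)).codRestrict _ fun r => by
      rw [LinearMap.toSpanSingleton_apply]
      exact Ideal.mul_mem_left _ r (Ideal.mem_span_singleton_self _)
  refine H9Hens.Glue.subsingleton_tor_of_T
    (H9Hens.Glue.T_quotient_of_torsion_ideal h g (fun x => ?_) fun r hr => ⟨n, ?_⟩)
  · obtain ⟨r, hr⟩ := Ideal.mem_span_singleton'.mp x.2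
    exact ⟨r, Subtype.ext hr⟩
  · have := congrArg Subtype.val hr
    simpa [g, mul_comm] using this

end Groth.Agent.S7062
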