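import Groth.Statements.S7067
import Groth.Agent.H8Props.PseudoCoh.Morphism

set_option autoImplicit false
universe u
attribute [local instance] HasDerivedCategory.standard
open MoreMor

namespace Groth.Agent.S7067

/-- A finite type homomorphism of commutative rings A → B with A Noetherian is pseudo-coherent: for some
presentation of B as a quotient of a polynomial ring A[x_1, …, x_n], B is a pseudo-coherent module
over that polynomial ring. -/
theorem result (A B : Type u) [CommRing A] [CommRing B] [Algebra A B]
    [IsNoetherianRing A] [Algebra.FiniteType A B] : MoreMor.IsPseudoCoherentHom A B := by
  exact Groth.Agent.H8Props.PseudoCoh.isPseudoCoherentHom_of_isNoetherianRing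

end Groth.Agent.S7067
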