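import Groth.Statements.S7076
import Groth.Agent.H26Dual2.Ops

set_option autoImplicit false
universe u
attribute [local instance] HasDerivedCategory.standard
open TensorProduct
open Dual2

namespace Groth.Agent.S7076

/-- Let R' → A' be a flat homomorphism of finite presentation of commutative rings, R' → R a surjective
homomorphism of rings with nilpotent kernel, A = R ⊗_{R'} A', and K' an object of D(A'). If the
derived base change K' ⊗^L_{A'} A (total left derived functor of extension of scalars, assumed to
exist) is R-perfect in D(A), then K' is R'-perfect in D(A'). -/
theorem result (R' A' R : Type u) [CommRing R'] [CommRing A'] [Algebra R' A']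
    [CommRing R] [Algebra R' R] [Module.Flat R' A'] [Algebra.FinitePresentation R' A']
    (hs : Function.Surjective (algebraMap R' R)) (hn : IsNilpotent (RingHom.ker (algebraMap R' R)))
    [DRing.HasLBaseChange (Algebra.TensorProduct.includeRight.toRingHom : A' →+* R ⊗[R'] A')]
    (K' : Dual.D A')
    (hK : Dual2.IsRelPerfect R (R ⊗[R'] A')
      ((DRing.LBaseChange (Algebra.TensorProduct.includeRight.toRingHom : A' →+* R ⊗[R'] A')).obj K')) :
    Dual2.IsRelPerfect R' A' K' := by
  exact Groth.Agent.H26Dual2.isRelPerfect_of_nilpotent R' A' R hs hn hK

end Groth.Agent.S7076
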