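import Groth.Statements.S7077
import Groth.Agent.H4DR.Hom.TwoTerm

set_option autoImplicit false
universe u
attribute [local instance] HasDerivedCategory.standard
open CategoryTheory
open DRing

namespace Groth.Agent.S7077

/-- (1)⇔(2): let R be a commutative ring and K an object of D(R) whose cohomology modules vanish outside
degrees -1 and 0. Then H^{-1}(K) vanishes and H^0(K) is a projective R-module if and only if
Ext^1_R(K, M) = Hom_{D(R)}(K, M[1]) vanishes for every R-module M. -/
theorem result {R : Type u} [CommRing R] (K : Dual.D R)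
    (hK : ∀ i : ℤ, i ≠ -1 → i ≠ 0 → Subsingleton (Dual.HD R K i)) :
    (Subsingleton (Dual.HD R K (-1)) ∧ Module.Projective R (Dual.HD R K 0)) ↔
      ∀ (M : Type u) [AddCommGroup M] [Module R M], Subsingleton (K ⟶ (Dual.inD R M)⟦(1 : ℤ)⟧) := by
  exact Groth.Agent.H4DR.Hom.projective_iff_ext_one K hK

end Groth.Agent.S7077
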