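import Groth.Statements.S7080
import Groth.Agent.H4DR.Hom.TwoTerm

set_option autoImplicit false
universe u
attribute [local instance] HasDerivedCategory.standard
open CategoryTheory
open DRing

namespace Groth.Agent.S7080

/-- Let R be a commutative ring and α : K → K' a morphism in D(R) between objects whose cohomology
vanishes outside degrees -1 and 0, such that H^0(α) is an isomorphism and H^{-1}(α) is surjective.
If multiplication by an element f of R is the zero endomorphism of K in D(R), then it is also the
zero endomorphism of K'. -/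
theorem result {R : Type u} [CommRing R] {K K' : Dual.D R} (α : K ⟶ K')
    (hK : ∀ i : ℤ, i ≠ -1 → i ≠ 0 → Subsingleton (Dual.HD R K i))
    (hK' : ∀ i : ℤ, i ≠ -1 → i ≠ 0 → Subsingleton (Dual.HD R K' i))
    (h0 : IsIso ((DerivedCategory.homologyFunctor (ModuleCat.{u} R) 0).map α))
    (h1 : Epi ((DerivedCategory.homologyFunctor (ModuleCat.{u} R) (-1)).map α))
    (f : R) (hf : f • (𝟙 K) = 0) : f • (𝟙 K') = 0 := by
  refine Groth.Agent.H4DR.Hom.eq_zero_of_comp (-1) α (Groth.Agent.H4DR.Hom.good_of_iso_epi α hK hK' h0 h1)
    (fun i hi => hK' i (by omega) (by omega)) _ ?_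
  rw [Linear.comp_smul, Category.comp_id, ← Category.id_comp α, ← Linear.smul_comp, hf, CategoryTheory.Limits.zero_comp]

end Groth.Agent.S7080
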