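import Groth.Statements.S7085
import Mathlib.RingTheory.Noetherian.Basic
import Mathlib.RingTheory.Ideal.Operations

set_option autoImplicit false
universe u
open LocCoh

namespace Groth.Agent.S7085

/-- Let R be a commutative ring, I an ideal generated by finitely many elements f_1, …, f_t, and M an
R-module. Then: M has no nonzero element killed by I if and only if it has no nonzero element killed
by I^n for every n ≥ 1; and M has no nonzero element killed by I if and only if an element of M
vanishing in every localization M_{f_i} is zero. -/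
theorem result {R : Type u} [CommRing R] {t : ℕ} (f : Fin t → R)
    (I : Ideal R) (hI : Ideal.span (Set.range f) = I) (M : Type u) [AddCommGroup M] [Module R M] :
    (LocCoh.torsionBy I M = ⊥ ↔ ∀ n : ℕ, 1 ≤ n → LocCoh.torsionBy (I ^ n) M = ⊥) ∧
    (LocCoh.torsionBy I M = ⊥ ↔
      ∀ m : M, (∀ i : Fin t, LocalizedModule.mkLinearMap (Submonoid.powers (f i)) M m = 0) → m = 0) := by

  have htb : ∀ (J : Ideal R) (m : M), m ∈ LocCoh.torsionBy J M ↔ ∀ a ∈ J, a • m = 0 := fun J m =>
    ⟨fun h a ha => (Submodule.mem_torsionBySet_iff _ _).1 h ⟨a, ha⟩,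
      fun h => (Submodule.mem_torsionBySet_iff _ _).2 fun a => h a.1 a.2⟩
  have key : LocCoh.torsionBy I M = ⊥ → ∀ n : ℕ, ∀ m : M, (∀ a ∈ I ^ n, a • m = 0) → m = 0 := by
    intro h n
    induction n with
    | zero => exact fun m hm => (one_smul R m).symm.trans (hm 1 (by simp))
    | succ n ih =>
      refine fun m hm => ih m fun a ha => (Submodule.eq_bot_iff _).1 h _ ((htb _ _).2 fun b hb => ?_)
      rw [smul_smul]
      exact hm _ (pow_succ' I n ▸ Ideal.mul_mem_mul hb ha)
  refine ⟨⟨fun h n _ => (Submodule.eq_bot_iff _).2 fun m hm => key h n m ((htb _ _).1 hm),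
    fun h => by simpa using h 1 le_rfl⟩, fun h m hm => ?_, fun h => (Submodule.eq_bot_iff _).2 fun m hm => h m fun i => ?_⟩
  · have hrad : I ≤ Ideal.radical (LinearMap.ker (LinearMap.toSpanSingleton R M m)) := by
      rw [← hI, Ideal.span_le]
      rintro _ ⟨i, rfl⟩
      have h0 := hm i
      rw [LocalizedModule.mkLinearMap_apply, ← LocalizedModule.zero_mk 1, LocalizedModule.mk_eq] at h0
      obtain ⟨⟨u, k, rfl⟩, hu⟩ := h0
      exact ⟨k, by simpa [Submonoid.smul_def] using hu⟩
    obtain ⟨n, hn⟩ := Ideal.exists_pow_le_of_le_radical_of_fg hrad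
      (by rw [← hI]; exact Submodule.fg_span (Set.finite_range f))
    exact key h n m fun a ha => hn ha
  · rw [LocalizedModule.mkLinearMap_apply, ← LocalizedModule.zero_mk 1, LocalizedModule.mk_eq]
    exact ⟨⟨f i, Submonoid.mem_powers _⟩, by
      simpa [Submonoid.smul_def] using (htb _ _).1 hm _ (hI ▸ Ideal.subset_span ⟨i, rfl⟩)⟩

end Groth.Agent.S7085
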