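import Groth.Statements.S7087
import Mathlib.RingTheory.Ideal.Operations
import Mathlib.LinearAlgebra.Finsupp.LinearCombination
import Mathlib.LinearAlgebra.Pi

set_option autoImplicit false
universe u
open LocCoh

namespace Groth.Agent.S7087

/-- Let R be a commutative ring and f_1, …, f_n elements generating an ideal I. Let M be the module with
generators e_1, …, e_n and relations f_i e_j = f_j e_i. Then e_i ↦ f_i defines a surjection M → I
whose kernel is annihilated by I. Elementwise: if a tuple (a_1, …, a_n) in R^n satisfies Σ a_i f_i =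
0, then for every b in I the tuple b • a lies in the submodule of R^n spanned by the vectors f_i e_j
− f_j e_i. -/
theorem result {R : Type u} [CommRing R] {n : ℕ} (f : Fin n → R)
    (a : Fin n → R) (ha : ∑ i, a i * f i = 0) (b : R) (hb : b ∈ Ideal.span (Set.range f)) :
    b • a ∈ Submodule.span R {v : Fin n → R | ∃ i j : Fin n, v = f i • Pi.single j (1 : R) - f j • Pi.single i (1 : R)} := by

  obtain ⟨c, rfl⟩ := (Submodule.mem_span_range_iff_exists_fun R).1 hb
  rw [Finset.sum_smul]
  refine Submodule.sum_mem _ fun i _ => ?_
  rw [smul_assoc]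
  refine Submodule.smul_mem _ _ ?_
  have h : f i • a = ∑ j, a j • (f i • Pi.single j (1 : R) - f j • Pi.single i (1 : R) : Fin n → R) := by
    simp only [smul_sub, Finset.sum_sub_distrib, smul_smul, ← Finset.sum_smul, ha, zero_smul, sub_zero]
    conv_lhs => rw [pi_eq_sum_univ' a, Finset.smul_sum]
    exact Finset.sum_congr rfl fun j _ => by rw [smul_smul, mul_comm]
  rw [h]
  exact Submodule.sum_mem _ fun j _ => Submodule.smul_mem _ _ (Submodule.subset_span ⟨i, j, rfl⟩)

end Groth.Agent.S7087
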