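import Groth.Statements.S7089
import Mathlib.Algebra.Homology.ShortComplex.ModuleCat

set_option autoImplicit false
universe u
open CategoryTheory
open LocCoh

namespace Groth.Agent.S7089

/-- Let R be a commutative ring, I an ideal and M an R-module in which every element is killed by a
power of I. Then M has a left resolution by modules each of which is a direct sum of copies of R/I^n
for varying n: there are a chain complex K of R-modules, a quasi-isomorphism from K to M placed in
degree 0, and for each i an isomorphism of K_i with such a direct sum. -/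
theorem result {R : Type u} [CommRing R] (I : Ideal R)
    (M : Type u) [AddCommGroup M] [Module R M] (hM : LocCoh.IsPowerTorsion I M) :
    ∃ (K : ChainComplex (ModuleCat.{u} R) ℕ) (π : K ⟶ (ChainComplex.single₀ (ModuleCat.{u} R)).obj (ModuleCat.of R M)),
      QuasiIso π ∧ ∀ i : ℕ, ∃ (ι : Type u) (n : ι → ℕ),
        Nonempty (K.X i ≅ ModuleCat.of R (DirectSum ι fun j => R ⧸ I ^ n j)) := by
  classical
  -- the objects of the induction
  let T : Type (u + 1) := {N : ModuleCat.{u} R // LocCoh.IsPowerTorsion I N}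
  have hex : ∀ N : T, ∀ x : N.1, ∃ n : ℕ, ∀ a ∈ I ^ n, a • x = 0 := fun N => N.2
  choose e he using hex
  let P : T → ModuleCat.{u} R := fun N => ModuleCat.of R (DirectSum N.1 fun x => R ⧸ I ^ e N x)
  let p : ∀ N : T, P N ⟶ N.1 := fun N => ModuleCat.ofHom
    (DirectSum.toModule R _ _ fun x => Submodule.liftQ (I ^ e N x) (LinearMap.toSpanSingleton R N.1 x)
      fun a ha => he N x a ha)
  have hp : ∀ (N : T) (x : N.1), ∃ z, (p N).hom z = x := fun N x =>
    ⟨DirectSum.lof R N.1 (fun x => R ⧸ I ^ e N x) x (Submodule.Quotient.mk 1), by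
      refine (DirectSum.toModule_lof R x _).trans ?_
      exact one_smul R x⟩
  have hP : ∀ N : T, LocCoh.IsPowerTorsion I (P N) := by
    intro N z
    induction z using DirectSum.induction_on with
    | zero => exact ⟨0, fun a _ => smul_zero a⟩
    | of x y =>
      refine ⟨e N x, fun a ha => ?_⟩
      rw [← DirectSum.lof_eq_of R, ← map_smul]
      obtain ⟨y, rfl⟩ := Submodule.Quotient.mk_surjective _ y
      rw [← Submodule.Quotient.mk_smul, (Submodule.Quotient.mk_eq_zero _).2 (show a • y ∈ I ^ e N x from Ideal.mul_mem_right y _ ha), map_zero]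
    | add y y' hy hy' =>
      obtain ⟨n, hn⟩ := hy
      obtain ⟨n', hn'⟩ := hy'
      exact ⟨max n n', fun a ha => by
        rw [smul_add, hn a (Ideal.pow_le_pow_right (le_max_left n n') ha),
          hn' a (Ideal.pow_le_pow_right (le_max_right n n') ha), add_zero]⟩
  let next : T → T := fun N => ⟨ModuleCat.of R (LinearMap.ker (p N).hom), fun z => by
    obtain ⟨n, hn⟩ := hP N z.1
    exact ⟨n, fun a ha => Subtype.ext (hn a ha)⟩⟩
  let N₀ : T := ⟨ModuleCat.of R M, hM⟩
  let S : ℕ → T := fun n => Nat.rec N₀ (fun _ N => next N) n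
  let j : ∀ n, (S (n + 1)).1 ⟶ P (S n) := fun n => ModuleCat.ofHom (LinearMap.ker (p (S n)).hom).subtype
  have hj : ∀ n (z : (S (n + 1)).1), (p (S n)).hom ((j n).hom z) = 0 := fun n z => z.2
  have hj' : ∀ n (y : P (S n)), (p (S n)).hom y = 0 → ∃ z, (j n).hom z = y := fun n y hy => ⟨⟨y, hy⟩, rfl⟩
  have hjinj : ∀ n (z : (S (n + 1)).1), (j n).hom z = 0 → z = 0 := fun n z hz => Subtype.ext hz
  let d : ∀ n, P (S (n + 1)) ⟶ P (S n) := fun n => p (S (n + 1)) ≫ j n
  have hdd : ∀ n, d (n + 1) ≫ d n = 0 := fun n => by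
    refine ModuleCat.hom_ext (LinearMap.ext fun z => ?_)
    show (j n).hom ((p (S (n + 1))).hom ((j (n + 1)).hom ((p (S (n + 1 + 1))).hom z))) = 0
    rw [hj (n + 1), map_zero]
  let K : ChainComplex (ModuleCat.{u} R) ℕ := ChainComplex.of (fun n => P (S n)) d hdd
  have hd10 : K.d 1 0 ≫ p (S 0) = 0 := by
    rw [show K.d 1 0 = d 0 from ChainComplex.of_d (fun n => P (S n)) d 0]
    exact ModuleCat.hom_ext (LinearMap.ext fun z => hj 0 _)
  let π : K ⟶ (ChainComplex.single₀ (ModuleCat.{u} R)).obj (ModuleCat.of R M) :=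
    (ChainComplex.toSingle₀Equiv K (ModuleCat.of R M)).symm ⟨p (S 0), hd10⟩
  refine ⟨K, π, ⟨fun n => ?_⟩, fun i => ⟨(S i).1, e (S i), ⟨Iso.refl _⟩⟩⟩
  cases n with
  | zero =>
    rw [ChainComplex.quasiIsoAt₀_iff, ShortComplex.quasiIso_iff_of_zeros' _ (by rfl) (by rfl) (by rfl)]
    have hg : (HomologicalComplex.Hom.f π 0) = p (S 0) := by simp [π]
    refine (ShortComplex.exact_and_epi_g_iff_of_iso
      (S₂ := ShortComplex.mk (K.d 1 0) (p (S 0)) hd10) ?_).2 ⟨?_, ?_⟩
    · exact ShortComplex.isoMk (Iso.refl _) (Iso.refl _) (Iso.refl _) ((Category.id_comp _).trans (Category.comp_id _).symm)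
        ((Category.id_comp _).trans (hg.symm.trans (Category.comp_id _).symm))
    · rw [ShortComplex.moduleCat_exact_iff]
      intro y hy
      obtain ⟨z, rfl⟩ := hj' 0 y hy
      obtain ⟨w, rfl⟩ := hp (S 1) z
      refine ⟨w, ?_⟩
      change (K.d 1 0).hom w = _
      rw [show K.d 1 0 = d 0 from ChainComplex.of_d (fun n => P (S n)) d 0]
      rfl
    · exact (ModuleCat.epi_iff_surjective _).2 fun x => hp (S 0) x
  | succ n =>
    rw [quasiIsoAt_iff_exactAt' _ _ (ChainComplex.exactAt_succ_single_obj _ _),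
      HomologicalComplex.exactAt_iff' _ (n + 1 + 1) (n + 1) n (by simp) (by simp), ShortComplex.moduleCat_exact_iff]
    intro y hy
    change (K.d (n + 1) n).hom y = 0 at hy
    rw [show K.d (n + 1) n = d n from ChainComplex.of_d (fun n => P (S n)) d n] at hy
    obtain ⟨z, rfl⟩ := hj' (n + 1) y (hjinj n _ hy)
    obtain ⟨w, rfl⟩ := hp (S (n + 1 + 1)) z
    refine ⟨w, ?_⟩
    change (K.d (n + 1 + 1) (n + 1)).hom w = _
    rw [show K.d (n + 1 + 1) (n + 1) = d (n + 1) from ChainComplex.of_d (fun n => P (S n)) d (n + 1)]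
    rfl

end Groth.Agent.S7089
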