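import Groth.Statements.S7090
import Groth.Agent.H9Hens.GlueIdeal
import Mathlib.RingTheory.Finiteness.Ideal
-- import your own Groth.Agent.* helpers here

set_option autoImplicit false
universe u
open TensorProduct
open EtAlg

namespace Groth.Agent.S7090

open scoped TensorProduct

theorem le_range_of_lTensor_surjective {R S : Type u} [CommRing R] [CommRing S] [Algebra R S]
    [Module.Flat R S] {I : Ideal R} (hc : H9Hens.Glue.Cong S I) {M E : Type u} [AddCommGroup M]
    [Module R M] [AddCommGroup E] [Module R E] (ι : M →ₗ[R] E) (G : Submodule R E)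
    (hι : ∀ n, ι n ∈ G)
    (htor : ∀ g ∈ G, ∀ q : E ⧸ LinearMap.range ι, q = (LinearMap.range ι).mkQ g →
      ∃ k : ℕ, ∀ a ∈ I ^ k, a • q = 0)
    (h : ∀ z : S ⊗[R] G, ∃ u, (ι.codRestrict G hι).lTensor S u = z) : G ≤ LinearMap.range ι := by
  let π : G →ₗ[R] E ⧸ LinearMap.range ι := (LinearMap.range ι).mkQ ∘ₗ G.subtype
  have hb : Function.Bijective (TensorProduct.mk R S (LinearMap.range π) 1) :=
    H9Hens.Glue.bijective_mk_of_powTorsion hc fun q => by
      obtain ⟨g, hg⟩ := q.2
      obtain ⟨k, hk⟩ := htor g.1 g.2 q.1 hg.symm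
      exact ⟨k, fun a ha => Subtype.ext (hk a ha)⟩
  intro g hg
  have hz : ∀ z : S ⊗[R] LinearMap.range π, z = 0 := fun z => by
    obtain ⟨w, rfl⟩ := LinearMap.lTensor_surjective S π.surjective_rangeRestrict z
    obtain ⟨u, rfl⟩ := h w
    rw [← LinearMap.lTensor_comp_apply, show π.rangeRestrict ∘ₗ ι.codRestrict G hι = 0 from
      LinearMap.ext fun n => Subtype.ext ((Submodule.Quotient.mk_eq_zero _).mpr ⟨n, rfl⟩)]
    simp
  have := congrArg Subtype.val (hb.1 (a₁ := ⟨π ⟨g, hg⟩, ⟨g, hg⟩, rfl⟩) (a₂ := 0)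
    ((hz _).trans (hz _).symm))
  exact (Submodule.Quotient.mk_eq_zero _).mp this

theorem lTensor_pi_eq_zero {R S : Type u} [CommRing R] [CommRing S] [Algebra R S] {t : ℕ} {A : Type u}
    [AddCommGroup A] [Module R A] {X : Fin t → Type u} [∀ i, AddCommGroup (X i)] [∀ i, Module R (X i)]
    (g : ∀ i, A →ₗ[R] X i) (v : S ⊗[R] A) (h : ∀ i, (g i).lTensor S v = 0) :
    (LinearMap.pi g).lTensor S v = 0 := by
  classical
  have : LinearMap.pi g = ∑ i, LinearMap.single R X i ∘ₗ g i :=
    LinearMap.ext fun a => by rw [LinearMap.sum_apply]; exact (Finset.univ_sum_single (fun i => g i a)).symm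
  rw [this, ← LinearMap.coe_lTensorHom, map_sum, LinearMap.sum_apply]
  refine Finset.sum_eq_zero fun i _ => ?_
  rw [LinearMap.coe_lTensorHom, LinearMap.lTensor_comp_apply, h i, map_zero]

theorem eq_zero_of_forall_lTensor_eq_zero {R S : Type u} [CommRing R] [CommRing S] [Algebra R S]
    [Module.Flat R S] {I : Ideal R} (hc : H9Hens.Glue.Cong S I) {t : ℕ} {X : Type u} [AddCommGroup X]
    [Module R X] {Y : Fin t → Type u} [∀ i, AddCommGroup (Y i)] [∀ i, Module R (Y i)]
    (g : ∀ i, X →ₗ[R] Y i)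
    (hK : ∀ v, (∀ i, g i v = 0) → ∃ k : ℕ, ∀ a ∈ I ^ k, a • v = 0) (μ : S ⊗[R] X →ₗ[R] X)
    (hμ : ∀ v, μ ((1 : S) ⊗ₜ[R] v) = v) (z : S ⊗[R] X) (hP : ∀ i, (g i).lTensor S z = 0)
    (hz : μ z = 0) : z = 0 := by
  obtain ⟨s, rfl⟩ := (Module.Flat.lTensor_exact S
    (LinearMap.exact_subtype_ker_map (LinearMap.pi g)) z).mp (lTensor_pi_eq_zero g z hP)
  have hK' : ∀ v : LinearMap.ker (LinearMap.pi g), ∃ k : ℕ, ∀ a ∈ I ^ k, a • v = 0 := fun v => by
    obtain ⟨k, hk⟩ := hK v.1 fun i => congrFun (LinearMap.mem_ker.mp v.2) i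
    exact ⟨k, fun a ha => Subtype.ext (hk a ha)⟩
  obtain ⟨v, rfl⟩ := (H9Hens.Glue.bijective_mk_of_powTorsion hc hK').2 s
  rw [TensorProduct.mk_apply, LinearMap.lTensor_tmul, hμ] at hz
  rw [show v = 0 from Subtype.ext hz, map_zero, map_zero]

theorem eq_zero_of_forall_loc {R S : Type u} [CommRing R] [CommRing S] [Algebra R S]
    [Module.Flat R S] {I : Ideal R} (hc : H9Hens.Glue.Cong S I) {t : ℕ} (f : Fin t → R) {X : Type u}
    [AddCommGroup X] [Module R X]
    (hK : ∀ v : X, (∀ i, ∃ k : ℕ, f i ^ k • v = 0) → ∃ k : ℕ, ∀ a ∈ I ^ k, a • v = 0)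
    (μ : S ⊗[R] X →ₗ[R] X) (hμ : ∀ v, μ ((1 : S) ⊗ₜ[R] v) = v) (z : S ⊗[R] X)
    (hP : ∀ i, (LocalizedModule.mkLinearMap (Submonoid.powers (f i)) X).lTensor S z = 0)
    (hz : μ z = 0) : z = 0 :=
  eq_zero_of_forall_lTensor_eq_zero hc (fun i => LocalizedModule.mkLinearMap (Submonoid.powers (f i)) X)
    (fun v hv => hK v fun i => (H9Hens.Glue.mkLinearMap_eq_zero_iff X v).mp (hv i)) μ hμ z hP hz

theorem lTensor_prod_eq_zero {R S : Type u} [CommRing R] [CommRing S] [Algebra R S] {A B C : Type u}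
    [AddCommGroup A] [Module R A] [AddCommGroup B] [Module R B] [AddCommGroup C] [Module R C]
    (g : A →ₗ[R] B) (k : A →ₗ[R] C) (v : S ⊗[R] A) (hg : g.lTensor S v = 0) (hk : k.lTensor S v = 0) :
    (g.prod k).lTensor S v = 0 := by
  rw [show g.prod k = LinearMap.inl R B C ∘ₗ g + LinearMap.inr R B C ∘ₗ k from
    LinearMap.ext fun a => by simp, LinearMap.lTensor_add, LinearMap.add_apply,
    LinearMap.lTensor_comp_apply, LinearMap.lTensor_comp_apply, hg, hk, map_zero, map_zero, add_zero]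

theorem eq_zero_of_components {R S : Type u} [CommRing R] [CommRing S] [Algebra R S]
    [Module.Flat R S] {t : ℕ} {A : Type u} [AddCommGroup A] [Module R A] {Y : Fin t → Type u}
    [∀ i, AddCommGroup (Y i)] [∀ i, Module R (Y i)] (G : Submodule R (A × ∀ i, Y i)) (w : S ⊗[R] G)
    (h1 : (LinearMap.fst R _ _ ∘ₗ G.subtype).lTensor S w = 0)
    (h2 : ∀ i, (LinearMap.proj i ∘ₗ LinearMap.snd R _ _ ∘ₗ G.subtype).lTensor S w = 0) : w = 0 := by
  apply Module.Flat.lTensor_preserves_injective_linearMap (M := S) G.subtype Subtype.val_injective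
  rw [map_zero, show G.subtype = (LinearMap.fst R _ _ ∘ₗ G.subtype).prod
    (LinearMap.pi fun i => LinearMap.proj i ∘ₗ LinearMap.snd R _ _ ∘ₗ G.subtype) from rfl]
  exact lTensor_prod_eq_zero _ _ _ h1 (lTensor_pi_eq_zero _ _ h2)

/-- Let R → S be a flat homomorphism of commutative rings and I = (f_1, …, f_t) a finitely generated
ideal such that R/I → S/IS is bijective. Then for every R-module M the glueing complex 0 → M → (S
⊗_R M) × ∏ M_{f_i} → ∏ (S ⊗_R M)_{f_i} × ∏ M_{f_i f_j} is exact. Concretely: an element of M with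
zero image in S ⊗_R M and in every M_{f_i} is zero; and given x in S ⊗_R M and elements m_1, …, m_t
of M and N ≥ 0 such that x and m_i / f_i^N have the same image in (S ⊗_R M)_{f_i} for each i, and
m_i / f_i^N, m_j / f_j^N have the same image in M_{f_i f_j} for all i, j, there is m in M with 1 ⊗ m
= x and m / 1 = m_i / f_i^N in M_{f_i} for every i. -/
theorem result {R S : Type u} [CommRing R] [CommRing S] [Algebra R S] [Module.Flat R S]
    {t : ℕ} (f : Fin t → R) (I : Ideal R) (hI : Ideal.span (Set.range f) = I)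
    (hq : Function.Bijective
      (Ideal.quotientMap (Ideal.map (algebraMap R S) I) (algebraMap R S) Ideal.le_comap_map))
    (M : Type u) [AddCommGroup M] [Module R M] :
    (∀ m : M, (1 : S) ⊗ₜ[R] m = 0 →
        (∀ i : Fin t, LocalizedModule.mkLinearMap (Submonoid.powers (f i)) M m = 0) → m = 0) ∧
    ∀ (x : S ⊗[R] M) (N : ℕ) (m : Fin t → M),
      (∀ i : Fin t, EtGlue.locOfTensor R S (f i) M x =
          EtGlue.tensorOfLoc R S (f i) M (LocalizedModule.mk (m i) ⟨f i ^ N, Submonoid.pow_mem _ (Submonoid.mem_powers (f i)) N⟩)) →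
      (∀ i j : Fin t, ∃ e : ℕ, (f i * f j) ^ e • (f j ^ N • m i - f i ^ N • m j) = 0) →
        ∃ μ : M, (1 : S) ⊗ₜ[R] μ = x ∧
          ∀ i : Fin t, LocalizedModule.mkLinearMap (Submonoid.powers (f i)) M μ =
            LocalizedModule.mk (m i) ⟨f i ^ N, Submonoid.pow_mem _ (Submonoid.mem_powers (f i)) N⟩ := by
  classical
  have hc := H9Hens.Glue.cong_of_bijective hq
  have htor : ∀ {X : Type u} [AddCommGroup X] [Module R X] (x : X),
      (∀ i : Fin t, ∃ k : ℕ, f i ^ k • x = 0) → ∃ k : ℕ, ∀ a ∈ I ^ k, a • x = 0 := by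
    intro X _ _ x hx
    have hle : I ≤ Ideal.radical (LinearMap.ker (LinearMap.toSpanSingleton R X x) : Ideal R) := by
      rw [← hI, Ideal.span_le]
      rintro _ ⟨i, rfl⟩
      obtain ⟨k, hk⟩ := hx i
      exact ⟨k, by simpa using hk⟩
    obtain ⟨k, hk⟩ := Ideal.exists_pow_le_of_le_radical_of_fg hle
      (by rw [← hI]; exact ⟨Finset.univ.image f, by simp⟩)
    exact ⟨k, fun a ha => by simpa using hk ha⟩
  let loc : ∀ i : Fin t, M →ₗ[R] LocalizedModule (Submonoid.powers (f i)) M :=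
    fun i => LocalizedModule.mkLinearMap (Submonoid.powers (f i)) M
  constructor
  · intro m hm1 hm2
    have hW : ∀ w : Submodule.span R {m}, ∃ k : ℕ, ∀ a ∈ I ^ k, a • w = 0 := fun w => htor w fun i => by
      obtain ⟨k, hk⟩ := (H9Hens.Glue.mkLinearMap_eq_zero_iff M m).mp (hm2 i)
      obtain ⟨c, hc'⟩ := Submodule.mem_span_singleton.mp w.2
      exact ⟨k, Subtype.ext (by
        show f i ^ k • w.1 = 0
        rw [← hc', smul_comm, hk, smul_zero])⟩
    have h0 : (1 : S) ⊗ₜ[R] (⟨m, Submodule.mem_span_singleton_self m⟩ : Submodule.span R {m}) = 0 := by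
      apply Module.Flat.lTensor_preserves_injective_linearMap (M := S) (Submodule.span R {m}).subtype
        Subtype.val_injective
      simpa using hm1
    exact congrArg Subtype.val
      ((H9Hens.Glue.bijective_mk_of_powTorsion hc hW).1 (h0.trans (map_zero _).symm))
  intro x N m hxm hmm
  let y : ∀ i : Fin t, LocalizedModule (Submonoid.powers (f i)) M := fun i =>
    LocalizedModule.mk (m i) ⟨f i ^ N, Submonoid.pow_mem _ (Submonoid.mem_powers (f i)) N⟩
  let ι : M →ₗ[R] (S ⊗[R] M) × (∀ i : Fin t, LocalizedModule (Submonoid.powers (f i)) M) :=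
    (TensorProduct.mk R S M 1).prod (LinearMap.pi loc)
  let G := LinearMap.range ι ⊔ Submodule.span R {((x, y) : (S ⊗[R] M) × (∀ i : Fin t,
    LocalizedModule (Submonoid.powers (f i)) M))}
  have htol : ∀ i n, EtGlue.tensorOfLoc R S (f i) M (loc i n) =
      EtGlue.locOfTensor R S (f i) M ((1 : S) ⊗ₜ[R] n) := fun i n => IsLocalizedModule.map_apply _ _ _ _ n
  have hG : ∀ g : G, ∀ i, EtGlue.locOfTensor R S (f i) M g.1.1 =
      EtGlue.tensorOfLoc R S (f i) M (g.1.2 i) := by
    rintro ⟨g, hg⟩ i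
    obtain ⟨_, ⟨n, rfl⟩, b, hb, rfl⟩ := Submodule.mem_sup.mp hg
    obtain ⟨c, rfl⟩ := Submodule.mem_span_singleton.mp hb
    show EtGlue.locOfTensor R S (f i) M ((1 : S) ⊗ₜ[R] n + c • x) =
      EtGlue.tensorOfLoc R S (f i) M (loc i n + c • y i)
    rw [map_add, map_add, map_smul, map_smul, htol, hxm i]
  have hyi : ∀ i, f i ^ N • y i = loc i (m i) := fun i => by
    show f i ^ N • LocalizedModule.mk (m i) _ = LocalizedModule.mk (m i) 1
    rw [LocalizedModule.smul'_mk, LocalizedModule.mk_eq]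
    exact ⟨1, by simp [Submonoid.smul_def]⟩
  have hQtor : ∀ g ∈ G, ∀ i, ∃ k : ℕ, f i ^ k • g ∈ LinearMap.range ι := by
    intro g hg i
    obtain ⟨a, ha, b, hb, rfl⟩ := Submodule.mem_sup.mp hg
    obtain ⟨c, rfl⟩ := Submodule.mem_span_singleton.mp hb
    suffices ∃ k : ℕ, f i ^ k • ((x, y) : (S ⊗[R] M) × (∀ i : Fin t,
        LocalizedModule (Submonoid.powers (f i)) M)) ∈ LinearMap.range ι by
      obtain ⟨k, hk⟩ := this
      exact ⟨k, by
        rw [smul_add, smul_comm]
        exact add_mem (Submodule.smul_mem _ _ ha) (Submodule.smul_mem _ _ hk)⟩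
    choose e he using hmm i
    have h1 : EtGlue.locOfTensor R S (f i) M (f i ^ N • x - (1 : S) ⊗ₜ[R] m i) = 0 := by
      rw [map_sub, map_smul, hxm i, ← map_smul, ← htol, sub_eq_zero]
      exact congrArg _ (hyi i)
    obtain ⟨k, hk⟩ := (H9Hens.Glue.mkLinearMap_eq_zero_iff _ _).mp h1
    let E := k + ∑ j, e j
    refine ⟨E + N, f i ^ E • m i, Prod.ext ?_ (funext fun j => ?_)⟩
    · show (1 : S) ⊗ₜ[R] (f i ^ E • m i) = f i ^ (E + N) • x
      have h2 : f i ^ E • (f i ^ N • x - (1 : S) ⊗ₜ[R] m i) = 0 := by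
        rw [show E = (∑ j, e j) + k from add_comm _ _, pow_add, mul_smul, hk, smul_zero]
      rw [smul_sub, sub_eq_zero, ← mul_smul, ← pow_add] at h2
      rw [TensorProduct.tmul_smul]
      exact h2.symm
    · show loc j (f i ^ E • m i) = f i ^ (E + N) • y j
      have hu : Function.Injective fun z : LocalizedModule (Submonoid.powers (f j)) M =>
          f j ^ (e j + N) • z :=
        ((Module.End.isUnit_iff _).mp (IsLocalizedModule.map_units (loc j)
          (⟨f j ^ (e j + N), e j + N, rfl⟩ : Submonoid.powers (f j)))).1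
      apply hu
      show f j ^ (e j + N) • loc j (f i ^ E • m i) = f j ^ (e j + N) • f i ^ (E + N) • y j
      rw [smul_comm (f j ^ (e j + N)) (f i ^ (E + N)), pow_add (f j) (e j) N, mul_smul, mul_smul, hyi j,
        ← map_smul, ← map_smul, ← map_smul, ← map_smul, ← sub_eq_zero, ← map_sub]
      have hle : e j ≤ E := (Finset.single_le_sum (fun _ _ => Nat.zero_le _) (Finset.mem_univ j)).trans
        (Nat.le_add_left _ _)
      obtain ⟨d, hd⟩ := Nat.exists_eq_add_of_le hle
      have : f j ^ e j • f j ^ N • f i ^ E • m i - f i ^ (E + N) • f j ^ e j • m j = 0 := by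
        rw [hd, show f j ^ e j • f j ^ N • f i ^ (e j + d) • m i -
          f i ^ (e j + d + N) • f j ^ e j • m j =
            f i ^ d • (f i * f j) ^ e j • (f j ^ N • m i - f i ^ N • m j) by
          simp only [smul_sub, smul_smul, pow_add, mul_pow]; congr 2 <;> ring, he j, smul_zero]
      rw [this, map_zero]
  suffices hsurj : ∀ z : S ⊗[R] G, ∃ u : S ⊗[R] M,
      (ι.codRestrict G fun n => Submodule.mem_sup_left ⟨n, rfl⟩).lTensor S u = z by
    have hle : G ≤ LinearMap.range ι := le_range_of_lTensor_surjective hc ι G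
      (fun n => Submodule.mem_sup_left ⟨n, rfl⟩) (fun g hg q hq' => htor q fun i => ?_) hsurj
    · obtain ⟨μ, hμ⟩ := hle (Submodule.mem_sup_right (Submodule.mem_span_singleton_self
        ((x, y) : (S ⊗[R] M) × _)))
      exact ⟨μ, congrArg Prod.fst hμ, fun i => congrArg (fun p => p.2 i) hμ⟩
    · obtain ⟨k, hk⟩ := hQtor g hg i
      exact ⟨k, by rw [hq', ← map_smul, Submodule.mkQ_apply, Submodule.Quotient.mk_eq_zero]; exact hk⟩
  intro z
  let X := S ⊗[R] M
  let ι' := ι.codRestrict G fun n => Submodule.mem_sup_left ⟨n, rfl⟩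
  let p₁ : G →ₗ[R] X := LinearMap.fst R _ _ ∘ₗ G.subtype
  let p₂ : ∀ i, G →ₗ[R] LocalizedModule (Submonoid.powers (f i)) M := fun i =>
    LinearMap.proj i ∘ₗ LinearMap.snd R _ _ ∘ₗ G.subtype
  let μm : S ⊗[R] X →ₗ[R] X := TensorProduct.lift (Algebra.lsmul R R X).toLinearMap
  let u := μm (p₁.lTensor S z)
  refine ⟨u, ?_⟩
  have hu : ∀ v : S ⊗[R] M, μm (p₁.lTensor S (ι'.lTensor S v)) = v := fun v => by
    induction v using TensorProduct.induction_on with
    | zero => simp only [map_zero]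
    | tmul s n =>
      simp [μm, p₁, ι', ι]
      rw [TensorProduct.smul_tmul', smul_eq_mul, mul_one]
    | add a b ha hb => simp only [map_add, ha, hb]
  obtain ⟨w, hwdef⟩ : ∃ w, w = z - ι'.lTensor S u := ⟨_, rfl⟩
  have hw : μm (p₁.lTensor S w) = 0 := by rw [hwdef, map_sub, map_sub, hu, sub_self]
  suffices w = 0 by rw [hwdef, sub_eq_zero] at this; exact this.symm
  have hsec : ∀ i, (p₂ i).lTensor S w = 0 := by
    intro i
    let L := LocalizedModule.mkLinearMap (Submonoid.powers (f i)) X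
    let Sl : S →ₗ[R] Module.End R (LocalizedModule (Submonoid.powers (f i)) X) :=
      (IsLocalizedModule.map (Submonoid.powers (f i)) L L) ∘ₗ (Algebra.lsmul R R X).toLinearMap
    let Θ : S ⊗[R] LocalizedModule (Submonoid.powers (f i)) M →ₗ[R]
        LocalizedModule (Submonoid.powers (f i)) X :=
      TensorProduct.lift (Sl.compl₂ (EtGlue.tensorOfLoc R S (f i) M))
    have hΘ1 : ∀ v : S ⊗[R] M, Θ ((loc i).lTensor S v) = L v := fun v => by
      induction v using TensorProduct.induction_on with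
      | zero => simp
      | tmul s n =>
        show Sl s (EtGlue.tensorOfLoc R S (f i) M (loc i n)) = L (s ⊗ₜ n)
        rw [htol]
        show IsLocalizedModule.map (Submonoid.powers (f i)) L L _ (L _) = _
        rw [IsLocalizedModule.map_apply]
        simp
        rw [TensorProduct.smul_tmul', smul_eq_mul, mul_one]
      | add a b ha hb => simp only [map_add, ha, hb]
    have hΘ2 : ∀ v : S ⊗[R] G, Θ ((p₂ i).lTensor S v) = L (μm (p₁.lTensor S v)) := fun v => by
      induction v using TensorProduct.induction_on with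
      | zero => simp
      | tmul s g =>
        show Sl s (EtGlue.tensorOfLoc R S (f i) M (g.1.2 i)) = L (s • g.1.1)
        rw [← hG g i]
        show IsLocalizedModule.map (Submonoid.powers (f i)) L L _ (L _) = _
        rw [IsLocalizedModule.map_apply]
        rfl
      | add a b ha hb => simp only [map_add, ha, hb]
    obtain ⟨v, hv⟩ : ∃ v, v = (p₂ i).lTensor S w := ⟨_, rfl⟩
    have hnum : ∀ v : S ⊗[R] LocalizedModule (Submonoid.powers (f i)) M,
        ∃ (k : ℕ) (a : S ⊗[R] M), f i ^ k • v = (loc i).lTensor S a := fun v => by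
      induction v using TensorProduct.induction_on with
      | zero => exact ⟨0, 0, by simp⟩
      | tmul s z =>
        obtain ⟨⟨a, ⟨_, k, rfl⟩⟩, ha⟩ := IsLocalizedModule.surj (Submonoid.powers (f i)) (loc i) z
        refine ⟨k, s ⊗ₜ a, ?_⟩
        rw [← TensorProduct.tmul_smul, LinearMap.lTensor_tmul, ← ha]
        rfl
      | add a b ha hb =>
        obtain ⟨k, a', ha'⟩ := ha
        obtain ⟨l, b', hb'⟩ := hb
        refine ⟨k + l, f i ^ l • a' + f i ^ k • b', ?_⟩
        rw [map_add, map_smul, map_smul, ← ha', ← hb', smul_add, smul_smul, smul_smul, pow_add,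
          mul_comm (f i ^ k)]
    have hinj : ∀ (k : ℕ) (v : S ⊗[R] LocalizedModule (Submonoid.powers (f i)) M),
        f i ^ k • v = 0 → v = 0 := fun k v h0 => by
      obtain ⟨inv, hinv⟩ := (IsLocalizedModule.map_units (loc i)
        (⟨f i ^ k, k, rfl⟩ : Submonoid.powers (f i))).exists_left_inv
      have h1 := congrArg (LinearMap.lTensor S inv) h0
      rw [map_zero] at h1
      have h2 : ∀ v, LinearMap.lTensor S inv (f i ^ k • v) = v := fun v => by
        induction v using TensorProduct.induction_on with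
        | zero => simp
        | tmul s z =>
          rw [← TensorProduct.tmul_smul, LinearMap.lTensor_tmul]
          exact congrArg (fun F : Module.End R _ => s ⊗ₜ[R] F z) hinv
        | add a b ha hb => simp only [smul_add, map_add, ha, hb]
      rwa [h2] at h1
    obtain ⟨k, a, ha⟩ := hnum v
    have ha0 : L a = 0 := by rw [← hΘ1, ← ha, map_smul, hv, hΘ2, hw, map_zero, smul_zero]
    obtain ⟨l, hl⟩ := (H9Hens.Glue.mkLinearMap_eq_zero_iff X a).mp ha0
    rw [← hv]
    refine hinj (l + k) v ?_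
    rw [pow_add, mul_smul, ha, ← map_smul, hl, map_zero]
  have hfst : p₁.lTensor S w = 0 := by
    have hzero : ∀ i, (EtGlue.locOfTensor R S (f i) M).lTensor S (p₁.lTensor S w) = 0 := fun i => by
      rw [← LinearMap.lTensor_comp_apply, show EtGlue.locOfTensor R S (f i) M ∘ₗ p₁ =
        EtGlue.tensorOfLoc R S (f i) M ∘ₗ p₂ i from LinearMap.ext fun g => hG g i,
        LinearMap.lTensor_comp_apply, hsec i, map_zero]
    exact eq_zero_of_forall_loc hc f htor μm (fun v => by simp [μm]) _ hzero hw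
  exact eq_zero_of_components G w hfst hsec

end Groth.Agent.S7090
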