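import Groth.Statements.S7091
import Groth.Agent.H4DR.DComplete.Triangle

set_option autoImplicit false
universe u
attribute [local instance] HasDerivedCategory.standard
open CategoryTheory
open DRing

namespace Groth.Agent.S7091

/-- Let A be a commutative ring, I a finitely generated ideal, and assume the derived completion functor
(left adjoint to the inclusion of derived complete objects) exists. If a morphism K → L in D(A)
induces isomorphisms on cohomology in degrees ≥ 1 and a surjection in degree 0, then so does the
induced morphism between the derived completions. -/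
theorem result {A : Type u} [CommRing A] (I : Ideal A) (hI : I.FG)
    [DRing.HasDerivedCompletion I] {K L : Dual.D A} (φ : K ⟶ L)
    (hiso : ∀ i : ℤ, 1 ≤ i → IsIso ((DerivedCategory.homologyFunctor (ModuleCat.{u} A) i).map φ))
    (hepi : Epi ((DerivedCategory.homologyFunctor (ModuleCat.{u} A) 0).map φ)) :
    (∀ i : ℤ, 1 ≤ i → IsIso ((DerivedCategory.homologyFunctor (ModuleCat.{u} A) i).map
        ((DRing.derivedCompletion I).map φ).hom)) ∧
      Epi ((DerivedCategory.homologyFunctor (ModuleCat.{u} A) 0).map ((DRing.derivedCompletion I).map φ).hom) := by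
  obtain ⟨s, rfl⟩ := hI
  obtain ⟨C, Z, p, q, p', q', c, hT, hT', hc⟩ := Groth.Agent.H4DR.DComplete.exists_cone_completion (I := Ideal.span (s : Set A)) φ
  have hC : ∀ j : ℤ, -1 < j → Subsingleton (Dual.HD A C j) := fun j hj => by
    refine (Groth.Agent.H4DR.PCoh.subsingleton₃_iff _ hT j (j + 1) rfl).2 ⟨?_, ?_⟩
    · rcases eq_or_lt_of_le (show (0 : ℤ) ≤ j by omega) with rfl | h
      · exact (ModuleCat.epi_iff_surjective _).1 hepi
      · haveI := hiso j h
        exact ((ConcreteCategory.isIso_iff_bijective _).1 (hiso j h)).2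
    · exact ((ConcreteCategory.isIso_iff_bijective _).1 (hiso (j + 1) (by omega))).1
  have hZ := (hc.bounds s).2 (-1) hC
  refine ⟨fun i hi => (ConcreteCategory.isIso_iff_bijective _).2 ⟨?_, ?_⟩, (ModuleCat.epi_iff_surjective _).2 ?_⟩
  · exact Groth.Agent.H4DR.PCoh.injective₁_of_subsingleton _ hT' (i - 1) i (by omega) (hZ (i - 1) (by omega))
  · exact Groth.Agent.H4DR.PCoh.surjective₁_of_subsingleton _ hT' i (hZ i (by omega))
  · exact Groth.Agent.H4DR.PCoh.surjective₁_of_subsingleton _ hT' 0 (hZ 0 (by omega))

end Groth.Agent.S7091
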