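import Groth.Statements.S7092
import Groth.Agent.H4DR.DComplete.Triangle

set_option autoImplicit false
universe u
attribute [local instance] HasDerivedCategory.standard
open CategoryTheory
open DRing

namespace Groth.Agent.S7092

/-- Let A be a commutative ring, I an ideal generated by a finite set of r elements, and assume the
derived completion functor exists. If a morphism K → L in D(A) induces isomorphisms on cohomology in
degrees ≤ -1 and an injection in degree 0, then the induced morphism of derived completions induces
isomorphisms on cohomology in degrees ≤ -r-1 and an injection in degree -r. -/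
theorem result {A : Type u} [CommRing A] (I : Ideal A) (s : Finset A)
    (hs : Ideal.span (s : Set A) = I) [DRing.HasDerivedCompletion I] {K L : Dual.D A} (φ : K ⟶ L)
    (hiso : ∀ i : ℤ, i ≤ -1 → IsIso ((DerivedCategory.homologyFunctor (ModuleCat.{u} A) i).map φ))
    (hmono : Mono ((DerivedCategory.homologyFunctor (ModuleCat.{u} A) 0).map φ)) :
    (∀ i : ℤ, i ≤ -(s.card : ℤ) - 1 → IsIso ((DerivedCategory.homologyFunctor (ModuleCat.{u} A) i).map
        ((DRing.derivedCompletion I).map φ).hom)) ∧
      Mono ((DerivedCategory.homologyFunctor (ModuleCat.{u} A) (-(s.card : ℤ))).map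
        ((DRing.derivedCompletion I).map φ).hom) := by
  subst hs
  obtain ⟨C, Z, p, q, p', q', c, hT, hT', hc⟩ := Groth.Agent.H4DR.DComplete.exists_cone_completion (I := Ideal.span (s : Set A)) φ
  have hC : ∀ j : ℤ, j < 0 → Subsingleton (Dual.HD A C j) := fun j hj => by
    refine (Groth.Agent.H4DR.PCoh.subsingleton₃_iff _ hT j (j + 1) rfl).2 ⟨?_, ?_⟩
    · exact ((ConcreteCategory.isIso_iff_bijective _).1 (hiso j (by omega))).2
    · rcases eq_or_lt_of_le (show j + 1 ≤ 0 by omega) with h | h
      · rw [h]
        exact (ModuleCat.mono_iff_injective _).1 hmono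
      · exact ((ConcreteCategory.isIso_iff_bijective _).1 (hiso (j + 1) (by omega))).1
  have hZ := (hc.bounds s).1 0 hC
  refine ⟨fun i hi => (ConcreteCategory.isIso_iff_bijective _).2 ⟨?_, ?_⟩, (ModuleCat.mono_iff_injective _).2 ?_⟩
  · exact Groth.Agent.H4DR.PCoh.injective₁_of_subsingleton _ hT' (i - 1) i (by omega) (hZ (i - 1) (by omega))
  · exact Groth.Agent.H4DR.PCoh.surjective₁_of_subsingleton _ hT' i (hZ i (by omega))
  · exact Groth.Agent.H4DR.PCoh.injective₁_of_subsingleton _ hT' (-(s.card : ℤ) - 1) _ (by omega) (hZ _ (by omega))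

end Groth.Agent.S7092
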