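import Groth.Statements.S7095
import Groth.Agent.H4DR.RHom.TensCompletion

set_option autoImplicit false
universe u
attribute [local instance] HasDerivedCategory.standard
open CategoryTheory
open DRing

namespace Groth.Agent.S7095

/-- Let A be a Noetherian commutative ring and I an ideal, and assume the derived completion functor and
the derived tensor product with a finite A-module M (total left derived functor) exist. For every
object K of D(A) whose cohomology is bounded above, K^∧ ⊗^L_A M is the derived completion of K ⊗^L_A
M through the map K ⊗^L_A M → K^∧ ⊗^L_A M induced by the canonical morphism K → K^∧ to the derived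
completion K^∧ of K: the object K^∧ ⊗^L_A M is derived complete with respect to I, and every
morphism from K ⊗^L_A M to a derived complete object of D(A) factors uniquely through that map. -/
theorem result {A : Type u} [CommRing A] [IsNoetherianRing A] (I : Ideal A)
    [DRing.HasDerivedCompletion I] (M : Type u) [AddCommGroup M] [Module A M] [Module.Finite A M]
    [DRing.HasLTensor A (ModuleCat.of A M)] (K : Dual.D A) (b : ℤ) (hK : ∀ i : ℤ, b < i → Subsingleton (Dual.HD A K i)) :
    DRing.IsDerivedComplete I ((DRing.LTensor A (ModuleCat.of A M)).obj ((DRing.derivedCompletion I).obj K).obj) ∧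
      ∀ E : Dual.D A, DRing.IsDerivedComplete I E →
        Function.Bijective (fun φ : (DRing.LTensor A (ModuleCat.of A M)).obj ((DRing.derivedCompletion I).obj K).obj ⟶ E =>
          (DRing.LTensor A (ModuleCat.of A M)).map (DRing.toDerivedCompletion I K) ≫ φ) := by
  obtain ⟨s, hs⟩ := IsNoetherian.noetherian I
  subst hs
  have h := Groth.Agent.H4DR.RHom.isCompletion_ltensor s (ModuleCat.of A M) K b hK
  exact ⟨h.complete, h.bij⟩

end Groth.Agent.S7095
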