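import Groth.Statements.S7099
import Groth.Agent.H4DR.RHom.Single

set_option autoImplicit false
universe u
attribute [local instance] HasDerivedCategory.standard
open CategoryTheory
open DRing

namespace Groth.Agent.S7099

/-- Let A be a commutative ring, f and g elements of A, and K an object of D(A). Assuming the derived
functors RHom_A(A_f, −), RHom_A(A_g, −) and RHom_A(A_{fg}, −) (total right derived functors of the
Hom complexes out of the localizations placed in degree 0) exist, RHom_A(A_f, RHom_A(A_g, K)) is
isomorphic in D(A) to RHom_A(A_{fg}, K). (Existence of an isomorphism only.) -/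
theorem result {A : Type u} [CommRing A] (f g : A)
    [DRing.HasRHomCx ((HomologicalComplex.single (ModuleCat.{u} A) (ComplexShape.up ℤ) 0).obj
      (ModuleCat.of A (Localization.Away f)))]
    [DRing.HasRHomCx ((HomologicalComplex.single (ModuleCat.{u} A) (ComplexShape.up ℤ) 0).obj
      (ModuleCat.of A (Localization.Away g)))]
    [DRing.HasRHomCx ((HomologicalComplex.single (ModuleCat.{u} A) (ComplexShape.up ℤ) 0).obj
      (ModuleCat.of A (Localization.Away (f * g))))]
    (K : Dual.D A) :
    Nonempty ((DRing.RHomCx ((HomologicalComplex.single (ModuleCat.{u} A) (ComplexShape.up ℤ) 0).obj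
        (ModuleCat.of A (Localization.Away f)))).obj
      ((DRing.RHomCx ((HomologicalComplex.single (ModuleCat.{u} A) (ComplexShape.up ℤ) 0).obj
        (ModuleCat.of A (Localization.Away g)))).obj K) ≅
      (DRing.RHomCx ((HomologicalComplex.single (ModuleCat.{u} A) (ComplexShape.up ℤ) 0).obj
        (ModuleCat.of A (Localization.Away (f * g))))).obj K) := by
  exact @Groth.Agent.H4DR.RHom.nonempty_rhom_loc_comp A _ f g
    ‹DRing.HasRHomCx ((HomologicalComplex.single (ModuleCat.{u} A) (ComplexShape.up ℤ) 0).obj
      (ModuleCat.of A (Localization.Away f)))›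
    ‹DRing.HasRHomCx ((HomologicalComplex.single (ModuleCat.{u} A) (ComplexShape.up ℤ) 0).obj
      (ModuleCat.of A (Localization.Away g)))›
    ‹DRing.HasRHomCx ((HomologicalComplex.single (ModuleCat.{u} A) (ComplexShape.up ℤ) 0).obj
      (ModuleCat.of A (Localization.Away (f * g))))› K

end Groth.Agent.S7099
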