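import Groth.Statements.S7101
import Groth.Agent.H4DR.RHom.Complete

set_option autoImplicit false
universe u
attribute [local instance] HasDerivedCategory.standard
open CategoryTheory
open DRing

namespace Groth.Agent.S7101

/-- Let A be a commutative ring and I a finitely generated ideal; assume the derived completion functor
exists and, for a cochain complex K of A-modules, that RHom_A(K, −) exists as the total right
derived functor of Hom•(K, −). Then for every L in D(A), with L^ the derived completion of L, the
object RHom_A(K, L^) is the derived completion of RHom_A(K, L) through the map RHom_A(K, L) →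
RHom_A(K, L^) induced by the canonical morphism L → L^: RHom_A(K, L^) is derived complete with
respect to I, and every morphism from RHom_A(K, L) to a derived complete object of D(A) factors
uniquely through that map. -/
theorem result {A : Type u} [CommRing A] (I : Ideal A) (hI : I.FG) [DRing.HasDerivedCompletion I]
    (K : DRing.Cx A) [DRing.HasRHomCx K] (L : Dual.D A) :
    DRing.IsDerivedComplete I ((DRing.RHomCx K).obj ((DRing.derivedCompletion I).obj L).obj) ∧
      ∀ E : Dual.D A, DRing.IsDerivedComplete I E →
        Function.Bijective (fun φ : (DRing.RHomCx K).obj ((DRing.derivedCompletion I).obj L).obj ⟶ E =>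
          (DRing.RHomCx K).map (DRing.toDerivedCompletion I L) ≫ φ) := by
  obtain ⟨s, rfl⟩ := hI
  exact ⟨(Groth.Agent.H4DR.RHom.isCompletion_rhom s K L).complete, (Groth.Agent.H4DR.RHom.isCompletion_rhom s K L).bij⟩

end Groth.Agent.S7101
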