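import Groth.Statements.S7104
import Groth.Agent.H02CA.RelFib.Amp

set_option autoImplicit false
universe u
attribute [local instance] HasDerivedCategory.standard
open CategoryTheory
open Dual2

namespace Groth.Agent.S7104

/-- Let R be a commutative ring and A an R-algebra which is flat, of finite presentation, and a quotient
of the polynomial ring R[x_1, …, x_d]. Let q be a prime of A lying over the prime p of R, and K a
pseudo-coherent object of D(A). Write K_q for the derived base change of K to A_q (assumed to exist)
and view it in D(R_p) and in D(R) by restriction of scalars. If the cohomology of K_q ⊗^L_{R_p} κ(p)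
(derived tensor with the residue field, assumed to exist) vanishes outside the degrees in [a, b],
then K_q has tor amplitude in [a - d, b] as a complex of R-modules. -/
theorem result (R A : Type u) [CommRing R] [CommRing A] [Algebra R A]
    [Module.Flat R A] [Algebra.FinitePresentation R A] (d : ℕ)
    (ψ : MvPolynomial (Fin d) R →ₐ[R] A) (hψ : Function.Surjective ψ)
    (q : Ideal A) [q.IsPrime] (p : Ideal R) [p.IsPrime] (hpq : p = Ideal.comap (algebraMap R A) q)
    [DRing.HasLBaseChange (algebraMap A (Localization.AtPrime q))]
    [DRing.HasLTensor (Localization.AtPrime p) (ModuleCat.of (Localization.AtPrime p) p.ResidueField)]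
    (K : Dual.D A) (hK : DRing.IsPseudoCoherent' A K) (a b : ℤ)
    (hfib : ∀ i : ℤ, i < a ∨ b < i → Subsingleton (Dual.HD (Localization.AtPrime p)
      ((DRing.LTensor (Localization.AtPrime p) (ModuleCat.of (Localization.AtPrime p) p.ResidueField)).obj
        ((DRing.restrictD (Localization.localRingHom p q (algebraMap R A) hpq)).obj
          ((DRing.LBaseChange (algebraMap A (Localization.AtPrime q))).obj K))) i)) :
    DRing.HasTorAmplitudeIn R (a - d) b
      ((DRing.restrictD (algebraMap R (Localization.AtPrime q))).obj
        ((DRing.LBaseChange (algebraMap A (Localization.AtPrime q))).obj K)) := by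
  exact Groth.Agent.H02CA.RelFib.ta_of_fibre ψ hψ q p hpq K hK a b hfib

end Groth.Agent.S7104
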