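import Groth.Statements.S7106
import Groth.Agent.H4DR.Hom.TwoTermHomotopy

set_option autoImplicit false
universe u
attribute [local instance] HasDerivedCategory.standard
open CategoryTheory
open DRing

namespace Groth.Agent.S7106

/-- Let R be a commutative ring, M a cochain complex of R-modules with M^i = 0 for i > 0 and M^0
projective, K a cochain complex with K^i = 0 for i outside [-1, 0] and K^0 projective, and a : M → K
a chain map. Then precomposition with a is the zero map Ext^1_R(K, N) → Ext^1_R(M, N) (morphisms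
into N[1] in D(R)) for every R-module N if and only if there is a map h : M^0 → K^{-1} with a^{-1} +
h ∘ d_M^{-1} = 0. (The published statement composes h^0 with the differential K^{-1} → K^0 of K,
which is not defined; this row composes it with the differential M^{-1} → M^0 of M, as the homotopy
in the published proof does.) -/
theorem result {R : Type u} [CommRing R] (M K : DRing.Cx R)
    (hM : ∀ i : ℤ, 0 < i → Limits.IsZero (M.X i)) (hM0 : Module.Projective R (M.X 0))
    (hK : ∀ i : ℤ, i ≠ -1 → i ≠ 0 → Limits.IsZero (K.X i)) (hK0 : Module.Projective R (K.X 0))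
    (a : M ⟶ K) :
    (∀ (N : Type u) [AddCommGroup N] [Module R N] (ξ : DRing.toD K ⟶ (Dual.inD R N)⟦(1 : ℤ)⟧),
        DerivedCategory.Q.map a ≫ ξ = 0) ↔
      ∃ h : M.X 0 ⟶ K.X (-1), a.f (-1) + M.d (-1) 0 ≫ h = 0 := by
  have hQ : ∀ {X Y : DRing.Cx R} (f g : X ⟶ Y), DerivedCategory.Q.map f = DerivedCategory.Q.map g →
      (∀ φ ψ : (HomotopyCategory.quotient (ModuleCat.{u} R) (ComplexShape.up ℤ)).obj X ⟶
        (HomotopyCategory.quotient (ModuleCat.{u} R) (ComplexShape.up ℤ)).obj Y,
          DerivedCategory.Qh.map φ = DerivedCategory.Qh.map ψ → φ = ψ) →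
      Nonempty (Homotopy f g) := fun {X Y} f g h hinj => by
    refine ⟨HomotopyCategory.homotopyOfEq _ _ (hinj _ _ ?_)⟩
    rw [← cancel_mono ((DerivedCategory.quotientCompQhIso (ModuleCat.{u} R)).hom.app Y)]
    refine ((DerivedCategory.quotientCompQhIso (ModuleCat.{u} R)).hom.naturality f).trans ?_
    rw [h]
    exact ((DerivedCategory.quotientCompQhIso (ModuleCat.{u} R)).hom.naturality g).symm
  have hz : ∀ N : ModuleCat.{u} R, ∀ i : ℤ, i ≤ -2 → Limits.IsZero ((Groth.Agent.H4DR.Hom.sgl (-1) N).X i) :=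
    fun N i hi => HomologicalComplex.isZero_single_obj_X _ _ _ _ (by omega)
  constructor
  · intro h
    have hid : K.d (-1 - 1) (-1) ≫ 𝟙 (K.X (-1)) = 0 := (hK (-1 - 1) (by omega) (by omega)).eq_of_src _ _
    let ι := Groth.Agent.H4DR.Hom.shiftInDIso (K.X (-1)) (-1) 1 (by omega)
    let g := Groth.Agent.H4DR.Hom.toSgl (𝟙 (K.X (-1))) hid
    have h0 : DerivedCategory.Q.map (a ≫ g) = DerivedCategory.Q.map 0 := by
      rw [Functor.map_zero, Functor.map_comp]
      apply (cancel_mono ι.inv).1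
      rw [Limits.zero_comp, Category.assoc]
      exact h (K.X (-1)) (DerivedCategory.Q.map g ≫ ι.inv)
    obtain ⟨H⟩ := hQ _ _ h0
      fun φ ψ e => (Groth.Agent.H4DR.Hom.bijective_Qh_map M _ hM hM0 (hz _)).1 e
    have hc : M.d (-1 - 1) (-1) ≫ a.f (-1) = 0 := by
      rw [← a.comm, (hK (-1 - 1) (by omega) (by omega)).eq_of_tgt (a.f (-1 - 1)) 0, Limits.zero_comp]
    have e1 : a ≫ g = Groth.Agent.H4DR.Hom.toSgl (a.f (-1)) hc :=
      HomologicalComplex.to_single_hom_ext (by simp [g])
    rw [e1] at H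
    obtain ⟨k, hk⟩ := Groth.Agent.H4DR.Hom.exists_factor_of_homotopy H
    refine ⟨-k, ?_⟩
    rw [Preadditive.comp_neg, hk]
    exact add_neg_cancel _
  · rintro ⟨h, hh⟩ N _ _ ξ
    let ι := Groth.Agent.H4DR.Hom.shiftInDIso (ModuleCat.of R N) (-1) 1 (by omega)
    obtain ⟨φ₀, hφ₀⟩ := (Groth.Agent.H4DR.Hom.bijective_Qh_map K _ (fun i hi => hK i (by omega) (by omega))
      hK0 (hz (ModuleCat.of R N))).2 ((DerivedCategory.quotientCompQhIso (ModuleCat.{u} R)).hom.app K ≫
        ξ ≫ ι.hom ≫ (DerivedCategory.quotientCompQhIso (ModuleCat.{u} R)).inv.app _)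
    obtain ⟨u, rfl⟩ := (HomotopyCategory.quotient (ModuleCat.{u} R) (ComplexShape.up ℤ)).map_surjective φ₀
    have hu : DerivedCategory.Q.map u = ξ ≫ ι.hom := by
      have e := (DerivedCategory.quotientCompQhIso (ModuleCat.{u} R)).hom.naturality u
      simp only [Functor.comp_map] at e hφ₀
      rw [hφ₀, Category.assoc, Category.assoc, Category.assoc, Iso.inv_hom_id_app, Category.comp_id] at e
      exact ((cancel_epi _).1 e).symm
    obtain ⟨φ, hφ, rfl⟩ := Groth.Agent.H4DR.Hom.exists_toSgl_of_hom u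
    apply (cancel_mono ι.hom).1
    rw [Limits.zero_comp, Category.assoc, ← hu, ← Functor.map_comp]
    have hc : M.d (-1 - 1) (-1) ≫ (a.f (-1) ≫ φ) = 0 := by
      rw [← a.comm_assoc, hφ, Limits.comp_zero]
    rw [show a ≫ Groth.Agent.H4DR.Hom.toSgl φ hφ = Groth.Agent.H4DR.Hom.toSgl (a.f (-1) ≫ φ) hc from
      HomologicalComplex.to_single_hom_ext (by simp)]
    refine Groth.Agent.H4DR.Hom.Q_toSgl_eq_zero (-(h ≫ φ)) ?_
    rw [eq_neg_of_add_eq_zero_left hh, Preadditive.neg_comp, Category.assoc, ← Preadditive.comp_neg]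
    rfl

end Groth.Agent.S7106
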