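import Groth.Statements.S7108
import Groth.Agent.H1CAlg.Swindle
import Mathlib.LinearAlgebra.Finsupp.LSum

set_option autoImplicit false
universe u
open CAlg

namespace Groth.Agent.S7108

/-- Every projective module P over a ring R becomes free after adding a suitable free module: P ⊕ F is
free for some free module F (here F is the free module on some index type). -/
theorem result (R : Type u) [CommRing R] (P : Type u) [AddCommGroup P]
    [Module R P] [Module.Projective R P] : ∃ ι : Type u, Module.Free R (P × (ι →₀ R)) := by
  obtain ⟨s, hs⟩ := (Module.projective_def' (R := R) (P := P)).mp ‹_›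
  let ι := P × ULift.{u} ℕ
  let q : (ι →₀ R) →ₗ[R] P := Finsupp.linearCombination R (fun i : ι => i.1)
  let j : P →ₗ[R] (ι →₀ R) := Finsupp.lmapDomain R R (fun p => ((p, ⟨0⟩) : ι)) ∘ₗ s
  have hqj : q ∘ₗ j = LinearMap.id := by
    rw [← LinearMap.comp_assoc, ← hs]
    congr 1
    ext p
    simp [q]
  have hinj : Function.Injective j := fun a b h => by
    have := congrArg q h
    rwa [← LinearMap.comp_apply, ← LinearMap.comp_apply, hqj] at this
  let G : (P × LinearMap.ker q) ≃ₗ[R] (ι →₀ R) :=
    { toFun := fun x => j x.1 + x.2.1
      invFun := fun z => (q z, ⟨z - j (q z), by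
        rw [LinearMap.mem_ker, map_sub, ← LinearMap.comp_apply q j, hqj, LinearMap.id_apply, sub_self]⟩)
      map_add' := fun x y => by simp only [Prod.fst_add, Prod.snd_add, map_add, Submodule.coe_add]; abel
      map_smul' := fun r x => by simp
      left_inv := fun x => by
        have h2 : q (j x.1 + x.2.1) = x.1 := by
          rw [map_add, ← LinearMap.comp_apply q j, hqj, LinearMap.id_apply, LinearMap.mem_ker.mp x.2.2, add_zero]
        refine Prod.ext h2 (Subtype.ext ?_)
        show j x.1 + x.2.1 - j (q (j x.1 + x.2.1)) = x.2.1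
        rw [h2, add_sub_cancel_left]
      right_inv := fun z => add_sub_cancel _ _ }
  obtain ⟨e⟩ := Groth.Agent.H1CAlg.swindle (Q := LinearMap.ker q) G
  exact ⟨ι, Module.Free.of_equiv e.symm⟩

end Groth.Agent.S7108
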