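import Groth.Statements.S7109
import Mathlib.LinearAlgebra.FreeModule.Finite.Basic
import Mathlib.Algebra.Module.Projective
import Mathlib.LinearAlgebra.Finsupp.LinearCombination
import Mathlib.LinearAlgebra.Prod

set_option autoImplicit false
universe u
open CAlg

namespace Groth.Agent.S7109

/-- Let P be a projective module over a ring R and s an element of P. Then there are a finite free
module R^n and a direct summand K of R^n ⊕ P which is finite free and contains (0, s). -/
theorem result (R : Type u) [CommRing R] (P : Type u) [AddCommGroup P]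
    [Module R P] [Module.Projective R P] (s : P) :
    ∃ (n : ℕ) (K K' : Submodule R ((Fin n → R) × P)), IsCompl K K' ∧ Module.Free R K ∧ Module.Finite R K ∧
      ((0, s) : (Fin n → R) × P) ∈ K := by
  obtain ⟨inc, hinc⟩ := Module.projective_def.mp (inferInstance : Module.Projective R P)
  let e := (inc s).support.equivFin
  let j : Fin (inc s).support.card → P := fun a => (e.symm a).1
  let φ : (Fin (inc s).support.card → R) →ₗ[R] P := Fintype.linearCombination R j
  let ψ : P →ₗ[R] (Fin (inc s).support.card → R) := LinearMap.pi fun a => Finsupp.lapply (j a) ∘ₗ inc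
  have hs : φ (ψ s) = s := by
    conv_rhs => rw [← hinc s, Finsupp.linearCombination_apply, Finsupp.sum, ← Finset.sum_coe_sort]
    rw [Fintype.linearCombination_apply]
    exact Fintype.sum_equiv e.symm _ (fun q : (inc s).support => inc s q.1 • q.1) fun a => by simp [ψ, j]
  let u : (Fin (inc s).support.card → R) →ₗ[R] (Fin (inc s).support.card → R) × P :=
    (LinearMap.id - ψ ∘ₗ φ).prod φ
  let w : (Fin (inc s).support.card → R) × P →ₗ[R] (Fin (inc s).support.card → R) := LinearMap.id.coprod ψ
  have hw : ∀ v, w (u v) = v := fun v => by simp [w, u]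
  refine ⟨_, LinearMap.range u, LinearMap.ker w, ⟨?_, codisjoint_iff.mpr (top_unique fun z _ => ?_)⟩,
    Module.Free.of_equiv (LinearEquiv.ofInjective u (Function.LeftInverse.injective hw)),
    Module.Finite.range u, ⟨ψ s, by simp [u, hs]⟩⟩
  · rw [Submodule.disjoint_def]
    rintro _ ⟨v, rfl⟩ hv
    rw [LinearMap.mem_ker, hw] at hv
    rw [hv, map_zero]
  · exact Submodule.mem_sup.mpr ⟨u (w z), ⟨_, rfl⟩, z - u (w z),
      LinearMap.mem_ker.mpr (by rw [map_sub, hw, sub_self]), add_sub_cancel _ _⟩

end Groth.Agent.S7109
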