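import Groth.Statements.S7112
import Groth.Agent.H1CAlg.BigProjective
import Mathlib.LinearAlgebra.LinearIndependent.Lemmas
import Mathlib.LinearAlgebra.Basis.Basic
import Mathlib.LinearAlgebra.Projection
import Mathlib.Data.Set.Countable

set_option autoImplicit false
universe u
open CAlg

namespace Groth.Agent.S7112

variable {R : Type u} [CommRing R] [IsNoetherianRing (R ⧸ (⊥ : Ideal R).jacobson)]
  {P : Type u} [AddCommGroup P] [Module R P] [Module.Projective R P]

/-- A finite set of independent vectors spanning a complemented submodule. -/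
def Good (B : Set P) : Prop :=
  B.Finite ∧ LinearIndepOn R id B ∧ ∃ K' : Submodule R P, IsCompl (Submodule.span R B) K'

/-- The complement of a finite submodule is still big. -/
theorem not_finite_compl (G : Finset P) (K' : Submodule R P)
    (hc : Submodule.span R (G : Set P) ⊔ K' = ⊤) (m : Ideal R) [m.IsMaximal]
    (hK : Module.Finite (Localization.AtPrime m) (LocalizedModule m.primeCompl K')) :
    Module.Finite (Localization.AtPrime m) (LocalizedModule m.primeCompl P) := by
  classical
  obtain ⟨T, hT⟩ := hK.fg_top
  let f := LocalizedModule.mkLinearMap m.primeCompl P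
  let g := LocalizedModule.mkLinearMap m.primeCompl K'
  let F : LocalizedModule m.primeCompl K' →ₗ[Localization.AtPrime m] LocalizedModule m.primeCompl P :=
    LocalizedModule.map m.primeCompl K'.subtype
  have hF : ∀ b : K', F (g b) = f b.1 := fun b => by
    show LocalizedModule.map m.primeCompl K'.subtype (LocalizedModule.mk b 1) = _
    rw [LocalizedModule.map_mk]
    rfl
  let U : Finset (LocalizedModule m.primeCompl P) := G.image f ∪ T.image F
  refine Module.finite_def.mpr (Submodule.fg_def.mpr ⟨(U : Set (LocalizedModule m.primeCompl P)),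
    Finset.finite_toSet _, eq_top_iff.mpr fun z _ => ?_⟩)
  set N := Submodule.span (Localization.AtPrime m) (U : Set (LocalizedModule m.primeCompl P))
  have hFN : ∀ x, F x ∈ N := fun x => by
    have hx : x ∈ Submodule.span (Localization.AtPrime m) (T : Set _) := by rw [hT]; trivial
    have hle : Submodule.span (Localization.AtPrime m) (T : Set _) ≤ N.comap F :=
      Submodule.span_le.mpr fun t ht =>
        Submodule.subset_span (Finset.mem_union_right _ (Finset.mem_image_of_mem F ht))
    exact hle hx
  have hle : (⊤ : Submodule R P) ≤ (N.restrictScalars R).comap f := by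
    rw [← hc]
    refine sup_le (Submodule.span_le.mpr fun x hx =>
      Submodule.subset_span (Finset.mem_union_left _ (Finset.mem_image_of_mem f hx))) fun b hb => ?_
    show f b ∈ N
    exact hF ⟨b, hb⟩ ▸ hFN _
  obtain ⟨⟨p, t⟩, ht⟩ := IsLocalizedModule.surj m.primeCompl f z
  obtain ⟨w, hw⟩ := (IsLocalization.map_units (Localization.AtPrime m) t).exists_left_inv
  rw [Submonoid.smul_def, ← algebraMap_smul (Localization.AtPrime m)] at ht
  rw [show z = w • f p by rw [← ht, smul_smul, hw, one_smul]]
  exact N.smul_mem w (hle (show p ∈ (⊤ : Submodule R P) from trivial))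

theorem good_step (hP : ∀ (m : Ideal R) [m.IsMaximal],
      ¬ Module.Finite (Localization.AtPrime m) (LocalizedModule m.primeCompl P))
    (B : Set P) (hB : Good (R := R) B) (s : P) :
    ∃ B' : Set P, B ⊆ B' ∧ s ∈ Submodule.span R B' ∧ Good (R := R) B' := by
  classical
  obtain ⟨hfin, hind, K', hK'⟩ := hB
  have : Module.Projective R K' :=
    Module.Projective.of_split K'.subtype (K'.projectionOnto _ hK'.symm) <| LinearMap.ext fun x =>
      Submodule.projectionOnto_apply_left hK'.symm x
  have hbig : ∀ (m : Ideal R) [m.IsMaximal],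
      ¬ Module.Finite (Localization.AtPrime m) (LocalizedModule m.primeCompl K') := fun m _ h =>
    hP m (not_finite_compl hfin.toFinset K' (by rw [Set.Finite.coe_toFinset]; exact hK'.sup_eq_top) m h)
  obtain ⟨a, ha, b, hb, hab⟩ := Submodule.mem_sup.mp
    (show s ∈ Submodule.span R B ⊔ K' by rw [hK'.sup_eq_top]; trivial)
  obtain ⟨K, L, hKL, hKfin, hKfree, hbK⟩ :=
    Groth.Agent.H1CAlg.BigProjective.exists_free_summand hbig ⟨b, hb⟩
  let bas := Module.Free.chooseBasis R K
  let j : K →ₗ[R] P := K'.subtype ∘ₗ K.subtype
  have hj : Function.Injective j := K'.injective_subtype.comp K.injective_subtype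
  let C : Set P := Set.range (j ∘ bas)
  have hC : Submodule.span R C = K.map K'.subtype := by
    rw [show C = j '' Set.range bas from Set.range_comp j bas, Submodule.span_image, bas.span_eq,
      Submodule.map_top, LinearMap.range_comp, Submodule.range_subtype]
  have hCind : LinearIndepOn R id C :=
    (bas.linearIndependent.map' j (LinearMap.ker_eq_bot.mpr hj)).linearIndepOn_id
  have hCK' : Submodule.span R C ≤ K' := hC ▸ Submodule.map_subtype_le K' K
  refine ⟨B ∪ C, Set.subset_union_left, ?_, hfin.union (Set.finite_range _),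
    hind.id_union hCind (hK'.disjoint.mono_right hCK'), L.map K'.subtype, ?_⟩
  · rw [Submodule.span_union, ← hab, hC]
    exact add_mem (Submodule.mem_sup_left ha) (Submodule.mem_sup_right ⟨⟨b, hb⟩, hbK, rfl⟩)
  · rw [Submodule.span_union, hC]
    have hK'eq : K.map K'.subtype ⊔ L.map K'.subtype = K' := by
      rw [← Submodule.map_sup, hKL.sup_eq_top, Submodule.map_subtype_top]
    refine ⟨disjoint_iff.mpr (eq_bot_iff.mpr fun x hx => ?_), codisjoint_iff.mpr ?_⟩
    · obtain ⟨hx1, l, hl, rfl⟩ := hx
      obtain ⟨u₁, hu₁, v₁, ⟨k, hk, rfl⟩, he⟩ := Submodule.mem_sup.mp hx1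
      have h0 : u₁ = 0 := Submodule.disjoint_def.mp hK'.disjoint u₁ hu₁ (by
        have : u₁ = K'.subtype l - K'.subtype k := by rw [← he, add_sub_cancel_right]
        rw [this, ← map_sub]
        exact (l - k).2)
      have hlk : l = k := K'.injective_subtype (by rw [← he, h0, zero_add])
      have : l = 0 := Submodule.disjoint_def.mp hKL.disjoint l (hlk ▸ hk) hl
      rw [this, map_zero]
      exact zero_mem _
    · rw [sup_assoc, hK'eq, hK'.sup_eq_top]


/-- Commutative case of a result of Bass: let R be a ring whose quotient by its Jacobson radical is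
Noetherian and P a countably generated projective R-module such that for every maximal ideal m the
localization P_m is not finitely generated over R_m (P has infinite rank everywhere). Then P is
free. -/
theorem result (R : Type u) [CommRing R]
    [IsNoetherianRing (R ⧸ (⊥ : Ideal R).jacobson)]
    (P : Type u) [AddCommGroup P] [Module R P] [Module.Projective R P]
    (hP : ∀ (m : Ideal R) [m.IsMaximal],
      ¬ Module.Finite (Localization.AtPrime m) (LocalizedModule m.primeCompl P))
    (hc : CAlg.IsCountablyGenerated R P) : Module.Free R P := by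
  classical
  obtain ⟨s, hs, hspan⟩ := hc
  obtain ⟨e, he⟩ : ∃ e : ℕ → P, insert 0 s = Set.range e :=
    (hs.insert 0).exists_eq_range (Set.insert_nonempty _ _)
  have h0 : Good (R := R) (∅ : Set P) :=
    ⟨Set.finite_empty, linearIndepOn_empty R id, ⊤, by rw [Submodule.span_empty]; exact isCompl_bot_top⟩
  choose step h1 h2 h3 using fun (B : {B : Set P // Good (R := R) B}) (n : ℕ) => good_step hP B.1 B.2 (e n)
  let Bs : ℕ → {B : Set P // Good (R := R) B} :=
    Nat.rec ⟨∅, h0⟩ fun n B => ⟨step B n, h3 B n⟩
  have hmono : Monotone fun n => (Bs n).1 := monotone_nat_of_le_succ fun n => h1 (Bs n) n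
  have hind : LinearIndepOn R id (⋃ n, (Bs n).1) :=
    linearIndepOn_iUnion_of_directed hmono.directed_le fun n => (Bs n).2.2.1
  refine Module.Free.of_basis (Module.Basis.mk hind ?_)
  rw [← hspan]
  refine Submodule.span_le.mpr fun x hx => ?_
  obtain ⟨n, rfl⟩ : x ∈ Set.range e := he ▸ Set.mem_insert_of_mem 0 hx
  refine Submodule.span_mono ?_ (h2 (Bs n) n)
  intro y hy
  exact ⟨⟨y, Set.mem_iUnion.mpr ⟨n + 1, hy⟩⟩, rfl⟩

end Groth.Agent.S7112
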