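import Groth.Statements.S7114
import Mathlib.RingTheory.OrderOfVanishing.Basic

set_option autoImplicit false
universe u
open CAlg

namespace Groth.Agent.S7114

open scoped Pointwise

/-- Let R be a Noetherian local ring of Krull dimension one and x an element of the maximal ideal lying
in no minimal prime of R. Then for every n the length of R/xⁿR is at most n times the length of
R/xR, and equality holds when x is a nonzerodivisor. -/
theorem result (R : Type u) [CommRing R] [IsNoetherianRing R] [IsLocalRing R]
    (hdim : ringKrullDim R = 1) (x : R) (hx : x ∈ IsLocalRing.maximalIdeal R)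
    (hmin : ∀ p ∈ minimalPrimes R, x ∉ p) (n : ℕ) :
    Module.length R (R ⧸ Ideal.span {x ^ n}) ≤ (n : ℕ∞) * Module.length R (R ⧸ Ideal.span {x}) ∧
      (x ∈ nonZeroDivisors R →
        Module.length R (R ⧸ Ideal.span {x ^ n}) = (n : ℕ∞) * Module.length R (R ⧸ Ideal.span {x})) := by
  refine ⟨?_, fun hx' => ?_⟩
  · induction n with
    | zero =>
      haveI : Subsingleton (R ⧸ Ideal.span {x ^ 0}) := by
        rw [pow_zero, Ideal.span_singleton_one]; infer_instance
      simp [Module.length_eq_zero]
    | succ n ih =>
      have h1 : x ^ n • Ideal.span {x} = Ideal.span {x ^ (n + 1)} := by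
        rw [← Submodule.singleton_set_smul, ← Ideal.submodule_span_eq, ← Ideal.submodule_span_eq,
          Submodule.set_smul_span]
        simp [pow_succ]
      rw [← (Submodule.quotEquivOfEq _ _ h1).length_eq]
      rw [Module.length_eq_add_of_exact (LinearMap.ker (Ideal.quotOfMul (x ^ n) (Ideal.span {x}))).subtype _
        (Submodule.subtype_injective _) (Ideal.quotOfMul_surjective _) (LinearMap.exact_subtype_ker_map _)]
      rw [Nat.cast_succ, add_mul, one_mul, add_comm]
      refine add_le_add ih (Module.length_le_of_surjective ((Ideal.mulQuot (x ^ n) (Ideal.span {x})).codRestrict _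
        fun z => (Ideal.exact_mulQuot_quotOfMul _).apply_apply_eq_zero z) ?_)
      rintro ⟨z, hz⟩
      obtain ⟨w, hw⟩ := (Ideal.exact_mulQuot_quotOfMul _ z).mp hz
      exact ⟨w, Subtype.ext hw⟩
  · have := Ring.ord_pow (R := R) hx' n
    simpa [nsmul_eq_mul, Ring.ord] using this

end Groth.Agent.S7114
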