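import Groth.Statements.S7115
import Mathlib.RingTheory.Ideal.KrullsHeightTheorem

set_option autoImplicit false
universe u
open CAlg

namespace Groth.Agent.S7115

open IsLocalRing

section

variable {R : Type u} [CommRing R] [IsNoetherianRing R] [IsLocalRing R]

theorem exists_sop_extend (d : ℕ) (hd : ringKrullDim R = d) (f : R) (hmin : ∀ p ∈ minimalPrimes R, f ∉ p) :
    ∀ i : ℕ, i + 1 ≤ d → ∃ g : Fin i → R, (∀ j, g j ∈ maximalIdeal R) ∧
      ∀ P : Ideal R, P.IsPrime → f ∈ P → (∀ j, g j ∈ P) → ((i + 1 : ℕ) : ℕ∞) ≤ P.height := by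
  classical
  intro i
  induction i with
  | zero =>
    intro _
    refine ⟨Fin.elim0, fun j => j.elim0, fun P hP hfP _ => ?_⟩
    rw [zero_add, Nat.cast_one, Order.one_le_iff_pos, pos_iff_ne_zero]
    intro h0
    rw [Ideal.height_eq_zero_iff] at h0
    exact hmin P h0 hfP
  | succ i ih =>
    intro hi
    obtain ⟨g, hg, hP⟩ := ih (by omega)
    set I := Ideal.span (insert f (Set.range g))
    have hfin := Ideal.finite_minimalPrimes_of_isNoetherianRing R I
    have hfin' : {P ∈ I.minimalPrimes | P ≠ maximalIdeal R}.Finite := hfin.subset fun P hP => hP.1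
    obtain ⟨w, hw, hwav⟩ : ∃ w ∈ maximalIdeal R, ∀ P ∈ {P ∈ I.minimalPrimes | P ≠ maximalIdeal R}, w ∉ P := by
      by_contra hne
      push Not at hne
      obtain ⟨P, ⟨hP1, hP2⟩, hle⟩ := (Ideal.subset_union_prime_finite hfin' (f := id) ⊥ ⊥ fun P hP _ _ => hP.1.1.1).mp
        (fun w (hw : w ∈ maximalIdeal R) => by obtain ⟨P, hP, hwP⟩ := hne w hw; exact Set.mem_biUnion hP hwP)
      exact hP2 ((maximalIdeal.isMaximal R).eq_of_le hP1.1.1.ne_top hle).symm
    refine ⟨Fin.snoc g w, fun j => ?_, fun P hPp hfP hgP => ?_⟩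
    · refine Fin.lastCases ?_ (fun j => ?_) j
      · rw [Fin.snoc_last]; exact hw
      · rw [Fin.snoc_castSucc]; exact hg j
    haveI := hPp
    by_cases hPm : P = maximalIdeal R
    · have hh : P.height = (d : ℕ∞) := WithBot.coe_injective (by
        rw [hPm]; exact (maximalIdeal_height_eq_ringKrullDim).trans hd)
      rw [hh]
      exact_mod_cast hi
    have hIP : I ≤ P := Ideal.span_le.mpr (Set.insert_subset_iff.mpr ⟨hfP, by
      rintro _ ⟨j, rfl⟩; simpa using hgP j.castSucc⟩)
    obtain ⟨Q, hQ, hQP⟩ := Ideal.exists_minimalPrimes_le hIP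
    haveI := hQ.1.1
    have hwP : w ∈ P := by simpa using hgP (Fin.last i)
    have hQne : Q ≠ maximalIdeal R := fun e => hPm ((maximalIdeal.isMaximal R).eq_of_le hPp.ne_top (e ▸ hQP)).symm
    have hlt : Q < P := lt_of_le_of_ne hQP fun e => hwav Q ⟨hQ, hQne⟩ (e ▸ hwP)
    have h1 := hP Q inferInstance (hQ.1.2 (Ideal.subset_span (Set.mem_insert _ _)))
      (fun j => hQ.1.2 (Ideal.subset_span (Set.mem_insert_of_mem _ ⟨j, rfl⟩)))
    have h2 := Ideal.height_strict_mono_of_isPrime (I := Q) hlt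
    rw [Nat.cast_add, Nat.cast_one]
    exact Order.add_one_le_of_lt (lt_of_le_of_lt h1 h2)

theorem exists_sop (d : ℕ) (hd : ringKrullDim R = d) (f : R) (hf : f ∈ maximalIdeal R)
    (hmin : ∀ p ∈ minimalPrimes R, f ∉ p) :
    ∃ g : Fin (d - 1) → R, (∀ j, g j ∈ maximalIdeal R) ∧
      maximalIdeal R ≤ (Ideal.span (insert f (Set.range g))).radical := by
  rcases Nat.eq_zero_or_pos d with rfl | hpos
  · exfalso
    refine hmin (maximalIdeal R) ?_ hf
    have hh : (maximalIdeal R).height = 0 := WithBot.coe_injective ((maximalIdeal_height_eq_ringKrullDim).trans hd)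
    exact Ideal.height_eq_zero_iff.mp hh
  obtain ⟨g, hg, hP⟩ := exists_sop_extend d hd f hmin (d - 1) (by omega)
  refine ⟨g, hg, ?_⟩
  rw [Ideal.radical_eq_sInf]
  refine le_sInf fun P ⟨hle, hPp⟩ => ?_
  haveI := hPp
  by_contra hne
  have hlt : P < maximalIdeal R := lt_of_le_of_ne (le_maximalIdeal hPp.ne_top) fun e => hne e.ge
  have h1 := hP P hPp (hle (Ideal.subset_span (Set.mem_insert _ _))) (fun j => hle (Ideal.subset_span (Set.mem_insert_of_mem _ ⟨j, rfl⟩)))
  have h2 := Ideal.height_strict_mono_of_isPrime (I := P) hlt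
  have hh : (maximalIdeal R).height = (d : ℕ∞) := WithBot.coe_injective ((maximalIdeal_height_eq_ringKrullDim).trans hd)
  rw [show d - 1 + 1 = d by omega] at h1
  rw [hh] at h2
  exact absurd (lt_of_le_of_lt h1 h2) (lt_irrefl _)

end

/-- Let R be a Noetherian local ring of Krull dimension d > 1 with maximal ideal m, let f be an element
of m contained in no minimal prime, and let k be a natural number. Then there are elements g_1, ...,
g_{d-1} of m lying in m^k such that f, g_1, ..., g_{d-1} form a system of parameters: these d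
elements of m generate an ideal whose radical is m. -/
theorem result (R : Type u) [CommRing R] [IsNoetherianRing R] [IsLocalRing R]
    (d : ℕ) (hd : ringKrullDim R = d) (h1 : 1 < d) (f : R) (hf : f ∈ IsLocalRing.maximalIdeal R)
    (hmin : ∀ p ∈ minimalPrimes R, f ∉ p) (k : ℕ) :
    ∃ g : Fin (d - 1) → R, (∀ i, g i ∈ IsLocalRing.maximalIdeal R ^ k) ∧ (∀ i, g i ∈ IsLocalRing.maximalIdeal R) ∧
      IsLocalRing.maximalIdeal R ≤ (Ideal.span (insert f (Set.range g))).radical := by
  obtain ⟨g, hg, hrad⟩ := exists_sop d hd f hf hmin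
  refine ⟨fun i => g i ^ (k + 1), fun i => ?_, fun i => Ideal.pow_mem_of_mem _ (hg i) _ (Nat.succ_pos k), hrad.trans ?_⟩
  · exact Ideal.pow_le_pow_right (Nat.le_succ k) (Ideal.pow_mem_pow (hg i) _)
  · rw [Ideal.radical_le_radical_iff, Ideal.span_le, Set.insert_subset_iff]
    refine ⟨Ideal.le_radical (Ideal.subset_span (Set.mem_insert _ _)), ?_⟩
    rintro _ ⟨i, rfl⟩
    exact ⟨k + 1, Ideal.subset_span (Set.mem_insert_of_mem _ ⟨i, rfl⟩)⟩

end Groth.Agent.S7115
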