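import Groth.Statements.S7116
import Groth.Agent.S7115
import Mathlib.RingTheory.Nakayama

set_option autoImplicit false
universe u
open CAlg

namespace Groth.Agent.S7116

open IsLocalRing

/-- Let R be a Noetherian local ring of Krull dimension d with maximal ideal m and let f be an element
of m contained in no minimal prime. Then there are g_1, ..., g_{d-1} in m and a natural number N
such that f, g_1, ..., g_{d-1} is a system of parameters (these d elements of m generate an ideal
with radical m) and, for every h in m^N, the elements f + h, g_1, ..., g_{d-1} again form a system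
of parameters and the lengths of R/(f, g_1, ..., g_{d-1}) and R/(f + h, g_1, ..., g_{d-1}) agree. -/
theorem result (R : Type u) [CommRing R] [IsNoetherianRing R] [IsLocalRing R]
    (d : ℕ) (hd : ringKrullDim R = d) (f : R) (hf : f ∈ IsLocalRing.maximalIdeal R)
    (hmin : ∀ p ∈ minimalPrimes R, f ∉ p) :
    ∃ (g : Fin (d - 1) → R) (N : ℕ), (∀ i, g i ∈ IsLocalRing.maximalIdeal R) ∧
      IsLocalRing.maximalIdeal R ≤ (Ideal.span (insert f (Set.range g))).radical ∧
      ∀ h ∈ IsLocalRing.maximalIdeal R ^ N,
        IsLocalRing.maximalIdeal R ≤ (Ideal.span (insert (f + h) (Set.range g))).radical ∧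
        Module.length R (R ⧸ Ideal.span (insert f (Set.range g))) =
          Module.length R (R ⧸ Ideal.span (insert (f + h) (Set.range g))) := by
  obtain ⟨g, hg, hrad⟩ := Groth.Agent.S7115.exists_sop d hd f hf hmin
  obtain ⟨N, hN⟩ := Ideal.exists_pow_le_of_le_radical_of_fg hrad (IsNoetherian.noetherian _)
  refine ⟨g, N + 1, hg, hrad, fun h hh => ?_⟩
  set I := Ideal.span (insert f (Set.range g))
  set I' := Ideal.span (insert (f + h) (Set.range g))
  have hmI : maximalIdeal R ^ (N + 1) ≤ maximalIdeal R * I := by
    rw [pow_succ']; exact Ideal.mul_mono_right hN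
  have hhI : h ∈ I := hN (Ideal.pow_le_pow_right (Nat.le_succ N) hh)
  have h1 : I' ≤ I := Ideal.span_le.mpr (Set.insert_subset_iff.mpr
    ⟨add_mem (Ideal.subset_span (Set.mem_insert _ _)) hhI, (Set.subset_insert _ _).trans Ideal.subset_span⟩)
  have h2 : I ≤ I' ⊔ maximalIdeal R • I := by
    refine Ideal.span_le.mpr (Set.insert_subset_iff.mpr ⟨?_, fun z hz => Submodule.mem_sup_left (Ideal.subset_span (Set.mem_insert_of_mem _ hz))⟩)
    have hs : (f + h) + -h ∈ I' ⊔ maximalIdeal R • I :=
      Submodule.add_mem_sup (Ideal.subset_span (Set.mem_insert _ _)) (neg_mem (hmI hh))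
    rwa [add_neg_cancel_right] at hs
  have h3 : I' = I := le_antisymm h1 (Submodule.le_of_le_smul_of_le_jacobson_bot (IsNoetherian.noetherian _) (maximalIdeal_le_jacobson _) h2)
  rw [h3]
  exact ⟨hrad, rfl⟩

end Groth.Agent.S7116
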