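import Groth.Statements.S7117
import Groth.Agent.H02CA.SamuelBound
import Groth.Agent.H1Koszul.Samuel
import Groth.Agent.H1Koszul.Devissage

set_option autoImplicit false
universe u
open CAlg

namespace Groth.Agent.S7117
open scoped Classical in
open Groth.Agent.H1Koszul in
theorem count_le_chi {R : Type u} [CommRing R] [IsNoetherianRing R] [IsLocalRing R] {d : ℕ}
    (g : Fin d → R) (hg : ∀ i, g i ∈ IsLocalRing.maximalIdeal R) (S : Finset (PrimeSpectrum R))
    (hS : ∀ p ∈ S, p.asIdeal ∈ minimalPrimes R ∧ ringKrullDim (R ⧸ p.asIdeal) = d)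
    (M : Type u) [AddCommGroup M] [Module R M] [Module.Finite R M] :
    Small (List.ofFn g) M → ((S.filter (fun p => p ∈ Module.support R M)).card : ℤ) ≤ chi (List.ofFn g) M := by
  classical
  refine devissage (motive := fun N [AddCommGroup N] [Module R N] [Module.Finite R N] => Small (List.ofFn g) N →
    ((S.filter (fun p => p ∈ Module.support R N)).card : ℤ) ≤ chi (List.ofFn g) N) ?_ ?_ ?_ M
  · intro N _ _ _ _ h
    have he : (Module.support R N) = ∅ := Module.support_eq_empty
    rw [Finset.filter_false_of_mem (fun p _ => by simp [he]), Finset.card_empty, Nat.cast_zero]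
    exact (dim_chi d g hg N h).2.1
  · intro N _ _ _ hpr h
    by_cases hne : ∃ p ∈ S, p ∈ Module.support R N
    · obtain ⟨p, hp, hpN⟩ := hne
      have hprime : (Module.annihilator R N).IsPrime := by
        refine ⟨fun htop => ?_, fun {a b} hab => ?_⟩
        · rw [Module.support_eq_zeroLocus, htop, Submodule.top_coe, PrimeSpectrum.zeroLocus_univ] at hpN
          exact hpN
        · rcases hpr a with ha | ha
          · exact Or.inl ha
          · refine Or.inr (Module.mem_annihilator.mpr fun n => ha ?_)
            simp only [smul_zero, ← mul_smul]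
            exact Module.mem_annihilator.mp hab n
      have hann : ∀ q ∈ S, q ∈ Module.support R N → Module.annihilator R N = q.asIdeal := fun q hq hqN => by
        rw [Module.support_eq_zeroLocus, PrimeSpectrum.mem_zeroLocus] at hqN
        exact le_antisymm hqN ((hS q hq).1.2 ⟨hprime, bot_le⟩ hqN)
      have h1 : (S.filter (fun q => q ∈ Module.support R N)).card ≤ 1 := Finset.card_le_one.mpr fun a ha b hb => by
        rw [Finset.mem_filter] at ha hb
        exact PrimeSpectrum.ext ((hann a ha.1 ha.2).symm.trans (hann b hb.1 hb.2))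
      have hd : Module.supportDim R N = (d : WithBot ℕ∞) := by
        rw [← (hS p hp).2, ← hann p hp hpN]
        exact Module.supportDim_eq_ringKrullDim_quotient_annihilator R N
      have h2 := (dim_chi d g hg N h).2.2.2 hd
      omega
    · push Not at hne
      rw [Finset.filter_false_of_mem hne, Finset.card_empty, Nat.cast_zero]
      exact (dim_chi d g hg N h).2.1
  · intro N₁ _ _ _ N₂ _ _ _ N₃ _ _ _ f k hf hk hfk i₁ i₃ h
    have h1 := i₁ (h.of_injective f hf)
    have h3 := i₃ (h.of_surjective k hk)
    rw [chi_add hf hk hfk h]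
    refine le_trans ?_ (add_le_add h1 h3)
    have : (S.filter (fun p => p ∈ Module.support R N₂)).card ≤
        (S.filter (fun p => p ∈ Module.support R N₁) ∪ S.filter (fun p => p ∈ Module.support R N₃)).card := by
      refine Finset.card_le_card fun p hp => ?_
      rw [Finset.mem_filter, Module.support_of_exact hfk hf hk] at hp
      rw [Finset.mem_union, Finset.mem_filter, Finset.mem_filter]
      exact hp.2.imp (fun x => ⟨hp.1, x⟩) (fun x => ⟨hp.1, x⟩)
    exact_mod_cast this.trans (Finset.card_union_le _ _)


/-- Let R be a Noetherian local ring of Krull dimension d with maximal ideal m, and suppose g_1, ...,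
g_d in m form a system of parameters (they generate an ideal with radical m). Then the number of
minimal prime ideals p of R with R/p of Krull dimension d is at most the length of R/(g_1, ...,
g_d). -/
theorem result (R : Type u) [CommRing R] [IsNoetherianRing R] [IsLocalRing R]
    (d : ℕ) (hd : ringKrullDim R = d) (g : Fin d → R) (hg : ∀ i, g i ∈ IsLocalRing.maximalIdeal R)
    (hsop : IsLocalRing.maximalIdeal R ≤ (Ideal.span (Set.range g)).radical) :
    (Set.ncard {p : Ideal R | p ∈ minimalPrimes R ∧ ringKrullDim (R ⧸ p) = d} : ℕ∞) ≤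
      Module.length R (R ⧸ Ideal.span (Set.range g)) := by
  cases hL : Module.length R (R ⧸ Ideal.span (Set.range g)) with
  | top => exact le_top
  | coe L =>
    have hs : Groth.Agent.H1Koszul.Small (List.ofFn g) R := fun p _ hl => by
      have h1 : IsLocalRing.maximalIdeal R ≤ p.asIdeal := hsop.trans (p.isPrime.radical_le_iff.mpr
        (Ideal.span_le.mpr (by rintro _ ⟨i, rfl⟩; exact hl _ (List.mem_ofFn.mpr ⟨i, rfl⟩))))
      rw [← (IsLocalRing.maximalIdeal.isMaximal R).eq_of_le p.isPrime.ne_top h1]
      exact IsLocalRing.maximalIdeal.isMaximal R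
    have hspan : Ideal.span {a | a ∈ List.ofFn g} = Ideal.span (Set.range g) := by
      congr 1; ext a; simp
    have hlim := (Groth.Agent.H1Koszul.tendsto_samuel (M := R) hs).const_mul (d.factorial : ℝ)
    rw [List.length_ofFn, hspan, mul_div_cancel₀ _ (Nat.cast_ne_zero.2 d.factorial_ne_zero)] at hlim
    have hle := Groth.Agent.H02CA.SamuelBound.le_of_tendsto_samuel g L hL _ (hlim.congr fun n => by
      rw [← mul_div_assoc, smul_eq_mul, Ideal.mul_top])
    have hle' : Groth.Agent.H1Koszul.chi (List.ofFn g) R ≤ (L : ℤ) := by exact_mod_cast hle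
    have hfin : {p : Ideal R | p ∈ minimalPrimes R ∧ ringKrullDim (R ⧸ p) = d}.Finite :=
      (minimalPrimes.finite_of_isNoetherianRing R).subset fun p hp => hp.1
    classical
    let S : Finset (PrimeSpectrum R) := hfin.toFinset.attach.image fun p =>
      ⟨p.1, ((Set.Finite.mem_toFinset hfin).mp p.2).1.1.1⟩
    have hS : ∀ p ∈ S, p.asIdeal ∈ minimalPrimes R ∧ ringKrullDim (R ⧸ p.asIdeal) = d := fun p hp => by
      obtain ⟨q, -, rfl⟩ := Finset.mem_image.mp hp
      exact (Set.Finite.mem_toFinset hfin).mp q.2
    have hc : S.card = {p : Ideal R | p ∈ minimalPrimes R ∧ ringKrullDim (R ⧸ p) = d}.ncard := by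
      rw [Finset.card_image_of_injective _ (fun a b h => Subtype.ext (congrArg PrimeSpectrum.asIdeal h)),
        Finset.card_attach, Set.ncard_eq_toFinset_card _ hfin]
    have h := count_le_chi g hg S hS R hs
    have hall : ∀ p ∈ S, p ∈ Module.support R R := fun p _ => by
      rw [Module.support_eq_zeroLocus, PrimeSpectrum.mem_zeroLocus]
      intro x hx
      have := Module.mem_annihilator.mp hx (1 : R)
      rw [smul_eq_mul, mul_one] at this
      rw [this]; exact Submodule.zero_mem _
    rw [Finset.filter_true_of_mem hall, hc] at h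
    exact Nat.cast_le.mpr (by exact_mod_cast h.trans hle')

end Groth.Agent.S7117
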