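import Groth.Statements.S7118
import Groth.Agent.H02CA.RedDiv.Move

set_option autoImplicit false
universe u
open CAlg

namespace Groth.Agent.S7118

/-- Let A be a Noetherian normal local domain of Krull dimension 2 and a a nonzero element of the
maximal ideal. Then there is a nonzero element c of A such that A/cA is reduced and a divides some
power cⁿ. (The published statement does not require c to be nonzero and is then satisfied by c = 0;
this row requires c ≠ 0.) -/
theorem result (A : Type u) [CommRing A] [IsDomain A] [IsNoetherianRing A]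
    [IsLocalRing A] [IsIntegrallyClosed A] (hdim : ringKrullDim A = 2) (a : A)
    (ha : a ∈ IsLocalRing.maximalIdeal A) (ha0 : a ≠ 0) :
    ∃ c : A, c ≠ 0 ∧ IsReduced (A ⧸ Ideal.span {c}) ∧ ∃ n : ℕ, a ∣ c ^ n := by
  classical
  obtain ⟨f, hf, hmem, hred⟩ := H02CA.RedDiv.exists_reduced hdim (H02CA.RedDiv.div a).support
  refine ⟨f, hf, hred, (H02CA.RedDiv.div a).support.sup (fun p => H02CA.RedDiv.v p a),
    H02CA.RedDiv.dvd_of_v_le ha0 (pow_ne_zero _ hf) fun p => ?_⟩
  by_cases h0 : H02CA.RedDiv.v p a = 0
  · omega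
  have hp : p ∈ (H02CA.RedDiv.div a).support := by
    rw [Finsupp.mem_support_iff, H02CA.RedDiv.div_apply ha0]; exact h0
  have h1 : 0 < H02CA.RedDiv.v p f := Nat.pos_of_ne_zero fun h =>
    (H02CA.RedDiv.v_eq_zero_iff p hf).1 h (hmem p hp)
  rw [H02CA.RedDiv.v_pow p hf]
  exact le_trans (Finset.le_sup (f := fun p => H02CA.RedDiv.v p a) hp) (Nat.le_mul_of_pos_right _ h1)

end Groth.Agent.S7118
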