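import Groth.Statements.S7120
import Mathlib.LinearAlgebra.FreeModule.Basic
import Mathlib.LinearAlgebra.Finsupp.Pi
import Mathlib.RingTheory.Finiteness.Prod
import Mathlib.LinearAlgebra.Projection
import Mathlib.LinearAlgebra.Basis.Prod
import Mathlib.RingTheory.Finiteness.Finsupp

set_option autoImplicit false
universe u
open CAlg

namespace Groth.Agent.S7120

theorem free_of_fg_fin (R : Type u) [CommRing R] [IsDomain R] [IsBezout R] :
    ∀ (n : ℕ) (N : Submodule R (Fin n → R)), N.FG → Module.Free R N := by
  intro n
  induction n with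
  | zero =>
    intro N _
    haveI : Subsingleton N := ⟨fun a b => Subtype.ext (Subsingleton.elim _ _)⟩
    infer_instance
  | succ n ih =>
    intro N hN
    let pr : (Fin (n + 1) → R) →ₗ[R] R := LinearMap.proj (Fin.last n)
    have hI : (N.map pr).FG := hN.map pr
    obtain ⟨a, ha⟩ := IsBezout.isPrincipal_of_FG (N.map pr) hI
    let res : (Fin (n + 1) → R) →ₗ[R] (Fin n → R) := LinearMap.funLeft R R Fin.castSucc
    by_cases h0 : a = 0
    · -- last coordinate vanishes
      have hz : ∀ x ∈ N, x (Fin.last n) = 0 := by
        intro x hx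
        have : pr x ∈ N.map pr := ⟨x, hx, rfl⟩
        rw [ha, h0, Submodule.span_zero_singleton] at this
        simpa [pr] using this
      let e : N →ₗ[R] (N.map res) := (res ∘ₗ N.subtype).codRestrict _ (fun x => ⟨x, x.2, rfl⟩)
      have he : Function.Bijective e := by
        refine ⟨fun x y h => ?_, fun y => ?_⟩
        · apply Subtype.ext
          funext i
          refine Fin.lastCases ?_ (fun j => ?_) i
          · rw [hz x x.2, hz y y.2]
          · exact congr_fun (congr_arg Subtype.val h) j
        · obtain ⟨x, hx, hxy⟩ := y.2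
          exact ⟨⟨x, hx⟩, Subtype.ext hxy⟩
      haveI := ih _ (hN.map res)
      exact Module.Free.of_equiv (LinearEquiv.ofBijective e he).symm
    · obtain ⟨x₀, hx₀, hx₀a⟩ : a ∈ N.map pr := ha ▸ Submodule.mem_span_singleton_self a
      have hdvd : ∀ x : N, ∃ r : R, r * a = pr x.1 := fun x => by
        have : pr x.1 ∈ N.map pr := ⟨x, x.2, rfl⟩
        rw [ha, Submodule.mem_span_singleton] at this
        simpa using this
      choose c hc using hdvd
      let cl : N →ₗ[R] R :=
        { toFun := c
          map_add' := fun x y => mul_right_cancel₀ h0 (by simp [add_mul, hc])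
          map_smul' := fun r x => mul_right_cancel₀ h0 (by simp [mul_assoc, hc]) }
      let q : N →ₗ[R] N := LinearMap.id - cl.smulRight ⟨x₀, hx₀⟩
      let M : Submodule R (Fin (n + 1) → R) := (LinearMap.range q).map N.subtype
      haveI : Module.Finite R N := Module.Finite.iff_fg.mpr hN
      have hM : M.FG := (Module.Finite.iff_fg.mp inferInstance : (LinearMap.range q).FG).map _
      have hMlast : ∀ x ∈ M, x (Fin.last n) = 0 := by
        rintro _ ⟨_, ⟨y, rfl⟩, rfl⟩
        show pr (N.subtype (q y)) = 0
        simp [q, cl, hx₀a, hc]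
      let e : N →ₗ[R] (M.map res) × R :=
        LinearMap.prod ((res ∘ₗ N.subtype ∘ₗ q).codRestrict _
          (fun x => ⟨N.subtype (q x), ⟨q x, ⟨x, rfl⟩, rfl⟩, rfl⟩)) cl
      have he : Function.Bijective e := by
        refine ⟨fun x y h => ?_, fun y => ?_⟩
        · rw [← sub_eq_zero]
          have h' : e (x - y) = 0 := by rw [map_sub, h, sub_self]
          set z := x - y
          have h1 : cl z = 0 := congr_arg Prod.snd h'
          have h2 : res (N.subtype (q z)) = 0 := congr_arg Subtype.val (congr_arg Prod.fst h')
          have h3 : q z = z := by simp [q, h1]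
          rw [h3] at h2
          apply Subtype.ext
          funext i
          refine Fin.lastCases ?_ (fun j => ?_) i
          · have := hc z
            rw [show c z = 0 from h1, zero_mul] at this
            exact this.symm
          · exact congr_fun h2 j
        · obtain ⟨⟨w, v, hv, hw⟩, r⟩ := y
          obtain ⟨_, ⟨u, rfl⟩, hu⟩ := hv
          refine ⟨q u + r • ⟨x₀, hx₀⟩, ?_⟩
          have hc0 : cl ⟨x₀, hx₀⟩ = 1 := mul_right_cancel₀ h0 (by
            show c _ * a = 1 * a
            rw [hc, one_mul]; exact hx₀a)
          have hq0 : q ⟨x₀, hx₀⟩ = 0 := by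
            show (⟨x₀, hx₀⟩ : N) - cl ⟨x₀, hx₀⟩ • ⟨x₀, hx₀⟩ = 0
            rw [hc0]; simp
          have hclq : cl (q u) = 0 := by
            show cl (u - cl u • (⟨x₀, hx₀⟩ : N)) = 0
            rw [map_sub, map_smul, hc0]; simp
          have hqq : q (q u) = q u := by
            conv_lhs => rw [show q (q u) = q u - cl (q u) • (⟨x₀, hx₀⟩ : N) from rfl, hclq]
            simp
          refine Prod.ext (Subtype.ext ?_) ?_
          · show res (N.subtype (q (q u + r • ⟨x₀, hx₀⟩))) = w
            rw [map_add, map_smul, hq0, hqq, smul_zero, add_zero, hu, hw]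
          · show cl (q u + r • ⟨x₀, hx₀⟩) = r
            rw [map_add, map_smul, hc0, hclq]; simp
      haveI := ih _ (hM.map res)
      exact Module.Free.of_equiv (LinearEquiv.ofBijective e he).symm

/-- Over a Bézout domain, a finitely generated submodule of a free module is itself free of finite rank. -/
theorem result (R : Type u) [CommRing R] [IsDomain R] [IsBezout R]
    (F : Type u) [AddCommGroup F] [Module R F] [Module.Free R F] (N : Submodule R F) (hN : N.FG) :
    Module.Free R N ∧ Module.Finite R N := by
  refine ⟨?_, Module.Finite.iff_fg.mpr hN⟩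
  classical
  let b := Module.Free.chooseBasis R F
  obtain ⟨s, hs⟩ := hN
  let T : Finset (Module.Free.ChooseBasisIndex R F) := s.biUnion (fun x => (b.repr x).support)
  let f : F →ₗ[R] (Fin T.card → R) :=
    LinearMap.pi (fun i => b.coord (T.equivFin.symm i).1)
  have hsupp : ∀ x ∈ N, (b.repr x).support ⊆ T := by
    intro x hx
    rw [← hs] at hx
    induction hx using Submodule.span_induction with
    | mem y hy => exact Finset.subset_biUnion_of_mem (fun x => (b.repr x).support) hy
    | zero => simp
    | add y z _ _ h1 h2 =>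
      rw [map_add]; exact Finsupp.support_add.trans (Finset.union_subset h1 h2)
    | smul r y _ h1 => rw [map_smul]; exact Finsupp.support_smul.trans h1
  let e : N →ₗ[R] N.map f := (f ∘ₗ N.subtype).codRestrict _ (fun x => ⟨x, x.2, rfl⟩)
  have he : Function.Bijective e := by
    refine ⟨fun x y h => ?_, fun y => ?_⟩
    · apply Subtype.ext
      apply b.repr.injective
      ext i
      by_cases hi : i ∈ T
      · have h' : f x.1 = f y.1 := congr_arg Subtype.val h
        simpa [f] using congr_fun h' (T.equivFin ⟨i, hi⟩)
      · rw [Finsupp.notMem_support_iff.mp (fun h => hi (hsupp x x.2 h)),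
          Finsupp.notMem_support_iff.mp (fun h => hi (hsupp y y.2 h))]
    · obtain ⟨x, hx, hxy⟩ := y.2
      exact ⟨⟨x, hx⟩, Subtype.ext hxy⟩
  haveI := free_of_fg_fin R _ (N.map f) (Submodule.FG.map f ⟨s, hs⟩)
  exact Module.Free.of_equiv (LinearEquiv.ofBijective e he).symm

end Groth.Agent.S7120
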