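import Groth.Statements.S7122
import Groth.Agent.S7120
import Mathlib.LinearAlgebra.Matrix.ToLin
import Mathlib.LinearAlgebra.Dimension.Constructions
import Mathlib.LinearAlgebra.FreeModule.Finite.Basic
import Mathlib.LinearAlgebra.InvariantBasisNumber
import Mathlib.RingTheory.FiniteType
import Mathlib.LinearAlgebra.Matrix.NonsingularInverse

set_option autoImplicit false
universe u
open CAlg

namespace Groth.Agent.S7122

/-- Let R be a Bézout domain, n ≥ 1, and f_1, ..., f_n elements generating the unit ideal. Then some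
invertible n × n matrix over R has (f_1, ..., f_n) as its first row. -/
theorem result (R : Type u) [CommRing R] [IsDomain R] [IsBezout R]
    (n : ℕ) (f : Fin (n + 1) → R) (hf : Ideal.span (Set.range f) = ⊤) :
    ∃ A : Matrix (Fin (n + 1)) (Fin (n + 1)) R, IsUnit A.det ∧ A 0 = f := by
  classical
  obtain ⟨c, hc⟩ := Ideal.mem_span_range_iff_exists_fun.mp ((Ideal.eq_top_iff_one _).mp hf)
  let φ : (Fin (n + 1) → R) →ₗ[R] R := ∑ i, f i • LinearMap.proj i
  have hφ : ∀ v, φ v = ∑ i, f i * v i := fun v => by simp [φ]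
  have hφc : φ c = 1 := by rw [hφ, ← hc]; simp [mul_comm]
  let K := LinearMap.ker φ
  let q : (Fin (n + 1) → R) →ₗ[R] K := (LinearMap.id - φ.smulRight c).codRestrict K (fun v => by
    simp [K, LinearMap.mem_ker, hφc])
  have hfg : K.FG := by
    have hq : Function.Surjective q := fun k => ⟨k, Subtype.ext (by
      show (k : Fin (n + 1) → R) - φ k • c = k
      rw [show φ k = 0 from k.2, zero_smul, sub_zero])⟩
    exact Module.Finite.iff_fg.mp (Module.Finite.of_surjective q hq)
  obtain ⟨hfree, hfin⟩ := Groth.Agent.S7120.result R (Fin (n + 1) → R) K hfg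
  let e : (Fin (n + 1) → R) ≃ₗ[R] (R × K) :=
    { (φ.prod q) with
      invFun := fun p => p.1 • c + (p.2 : Fin (n + 1) → R)
      left_inv := fun v => by
        show φ v • c + (v - φ v • c) = v
        abel
      right_inv := fun p => by
        have h0 : φ (p.2 : Fin (n + 1) → R) = 0 := p.2.2
        have h1 : φ (p.1 • c + (p.2 : Fin (n + 1) → R)) = p.1 := by
          rw [map_add, map_smul, hφc, h0]; simp
        refine Prod.ext h1 (Subtype.ext ?_)
        show (p.1 • c + (p.2 : Fin (n + 1) → R)) - φ (p.1 • c + (p.2 : Fin (n + 1) → R)) • c = _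
        rw [h1]; abel }
  have hrank : Module.finrank R K = n := by
    have h1 := e.finrank_eq
    simp [Module.finrank_prod] at h1
    omega
  let b := Module.finBasisOfFinrankEq R K hrank
  let e' : (Fin (n + 1) → R) ≃ₗ[R] (Fin (n + 1) → R) :=
    e ≪≫ₗ (LinearEquiv.prodCongr (LinearEquiv.refl R R) b.equivFun) ≪≫ₗ
      (Fin.consLinearEquiv R (fun _ : Fin (n + 1) => R))
  refine ⟨LinearMap.toMatrix' e'.toLinearMap, ?_, ?_⟩
  · refine Matrix.isUnit_det_of_right_inverse (B := LinearMap.toMatrix' e'.symm.toLinearMap) ?_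
    rw [← LinearMap.toMatrix'_comp]
    simp
  · funext j
    rw [LinearMap.toMatrix'_apply]
    show (e' _) 0 = f j
    simp [e', e, hφ, Pi.single_apply]

end Groth.Agent.S7122
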