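import Groth.Statements.S7123
import Mathlib.Algebra.DirectSum.Module
import Mathlib.LinearAlgebra.Quotient.Basic

set_option autoImplicit false
universe u
open CAlg

namespace Groth.Agent.S7123

open DirectSum in
/-- For a module P over a ring R these two conditions are equivalent: (1) P is a retract (direct
summand) of a direct sum of cyclic modules R/fR, f ranging over R; (2) for every surjection of
R-modules π : B → C whose kernel A satisfies fA = A ∩ fB for every f in R, each linear map P → C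
lifts through π. -/
theorem result (R : Type u) [CommRing R] (P : Type u)
    [AddCommGroup P] [Module R P] :
    (∃ (ι : Type u) (f : ι → R) (i : P →ₗ[R] (⨁ j, R ⧸ Ideal.span {f j}))
        (p : (⨁ j, R ⧸ Ideal.span {f j}) →ₗ[R] P), p ∘ₗ i = LinearMap.id) ↔
      ∀ (B C : Type u) [AddCommGroup B] [Module R B] [AddCommGroup C] [Module R C] (π : B →ₗ[R] C),
        Function.Surjective π →
        (∀ (f : R) (b : B), π (f • b) = 0 → ∃ a : B, π a = 0 ∧ f • a = f • b) →
        ∀ ψ : P →ₗ[R] C, ∃ φ : P →ₗ[R] B, π ∘ₗ φ = ψ := by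
  classical
  constructor
  · rintro ⟨ι, f, i, p, hpi⟩ B C _ _ _ _ π hπ hA ψ
    have hlift : ∀ j, ∃ b : B, π b = ψ (p (DirectSum.lof R ι (fun j => R ⧸ Ideal.span {f j}) j (Submodule.Quotient.mk 1))) ∧ f j • b = 0 := by
      intro j
      obtain ⟨b, hb⟩ := hπ (ψ (p (DirectSum.lof R ι (fun j => R ⧸ Ideal.span {f j}) j (Submodule.Quotient.mk 1))))
      have h0 : π (f j • b) = 0 := by
        rw [map_smul, hb, ← map_smul, ← map_smul, ← map_smul, ← Submodule.Quotient.mk_smul]
        rw [(Submodule.Quotient.mk_eq_zero _).mpr (Ideal.mem_span_singleton.mpr ⟨1, by simp⟩)]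
        simp
      obtain ⟨a, ha, hfa⟩ := hA (f j) b h0
      exact ⟨b - a, by rw [map_sub, ha, sub_zero, hb], by rw [smul_sub, hfa, sub_self]⟩
    choose b hb hb0 using hlift
    let Φ : (⨁ j, R ⧸ Ideal.span {f j}) →ₗ[R] B := DirectSum.toModule R ι B fun j =>
      Submodule.liftQ _ (LinearMap.toSpanSingleton R B (b j)) (Submodule.span_le.mpr (Set.singleton_subset_iff.mpr (by simpa using hb0 j)))
    have hΦ : π ∘ₗ Φ = ψ ∘ₗ p := by
      refine DirectSum.linearMap_ext R fun j => Submodule.linearMap_qext _ (LinearMap.ext_ring ?_)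
      simp only [Φ, LinearMap.comp_apply, DirectSum.toModule_lof, Submodule.mkQ_apply, Submodule.liftQ_apply, LinearMap.toSpanSingleton_apply, one_smul]
      exact hb j
    exact ⟨Φ ∘ₗ i, by rw [← LinearMap.comp_assoc, hΦ, LinearMap.comp_assoc, hpi, LinearMap.comp_id]⟩
  · intro h
    let ι := {z : R × P // z.1 • z.2 = 0}
    let f : ι → R := fun z => z.1.1
    let π : (⨁ j, R ⧸ Ideal.span {f j}) →ₗ[R] P := DirectSum.toModule R ι P fun j =>
      Submodule.liftQ _ (LinearMap.toSpanSingleton R P j.1.2) (Submodule.span_le.mpr (Set.singleton_subset_iff.mpr (by simpa [f] using j.2)))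
    have hπ : ∀ (r : R) (x : P) (hx : r • x = 0),
        π (DirectSum.lof R ι (fun j => R ⧸ Ideal.span {f j}) ⟨(r, x), hx⟩ (Submodule.Quotient.mk 1)) = x := by
      intro r x hx
      simp only [π, DirectSum.toModule_lof, Submodule.liftQ_apply, LinearMap.toSpanSingleton_apply, one_smul]
    obtain ⟨φ, hφ⟩ := h _ P π (fun x => ⟨_, hπ 0 x (zero_smul R x)⟩) (fun r b hb => by
      rw [map_smul] at hb
      refine ⟨b - DirectSum.lof R ι (fun j => R ⧸ Ideal.span {f j}) ⟨(r, π b), hb⟩ (Submodule.Quotient.mk 1), ?_, ?_⟩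
      · rw [map_sub, hπ, sub_self]
      · rw [smul_sub, ← map_smul, ← Submodule.Quotient.mk_smul,
          (Submodule.Quotient.mk_eq_zero _).mpr (Ideal.mem_span_singleton.mpr ⟨1, by simp [f]⟩)]
        simp) LinearMap.id
    exact ⟨ι, f, φ, π, hφ⟩

end Groth.Agent.S7123
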