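import Groth.Statements.S7124
import Mathlib.RingTheory.Valuation.ValuationRing
import Mathlib.GroupTheory.Index
import Mathlib.GroupTheory.QuotientGroup.Basic
import Mathlib.Algebra.BigOperators.Field
import Mathlib.LinearAlgebra.Dimension.Finrank
import Mathlib.RingTheory.LocalRing.ResidueField.Basic
import Mathlib.LinearAlgebra.Dimension.Constructions
import Mathlib.LinearAlgebra.FiniteDimensional.Basic

set_option autoImplicit false
universe u
open CAlg

namespace Groth.Agent.S7124

theorem linearIndependent_products {A B K L : Type u} [CommRing A] [IsDomain A] [ValuationRing A] [CommRing B]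
    [IsDomain B] [ValuationRing B] [Field K] [Field L] [Algebra A K] [IsFractionRing A K] [Algebra B L]
    [IsFractionRing B L] [Algebra A B] [Algebra K L] [Algebra A L] [IsScalarTower A K L] [IsScalarTower A B L]
    [IsLocalHom (algebraMap A B)] {ι κ : Type u} [Finite ι] [Finite κ] (b : ι → B)
    (hb : LinearIndependent (IsLocalRing.ResidueField A) fun i => IsLocalRing.residue B (b i)) (γ : κ → Lˣ)
    (hγ : ∀ j j' (c c' : Kˣ) (u : Bˣ), γ j * Units.map (algebraMap K L).toMonoidHom c =
      γ j' * Units.map (algebraMap K L).toMonoidHom c' * Units.map (algebraMap B L).toMonoidHom u → j = j') :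
    LinearIndependent K (fun p : ι × κ => algebraMap B L (b p.1) * (γ p.2 : L)) := by
  classical
  cases nonempty_fintype ι; cases nonempty_fintype κ
  rw [Fintype.linearIndependent_iff]
  intro c hc
  by_contra! hne
  obtain ⟨⟨i₁, j₁⟩, h₁⟩ := hne
  let x : κ → L := fun j => ∑ i, algebraMap K L (c (i, j)) * algebraMap B L (b i)
  have hsum : ∑ j, x j * (γ j : L) = 0 := by
    rw [← hc, Fintype.sum_prod_type, Finset.sum_comm]
    refine Finset.sum_congr rfl fun j _ => ?_
    rw [Finset.sum_mul]
    exact Finset.sum_congr rfl fun i _ => by rw [Algebra.smul_def]; ring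
  -- each nonzero column is a scalar times a unit
  have hcol : ∀ j, (∀ i, c (i, j) = 0) ∨ ∃ (e : Kˣ) (u : Bˣ), x j = algebraMap K L e * algebraMap B L u := by
    intro j
    by_cases h0 : ∀ i, c (i, j) = 0
    · exact Or.inl h0
    push_neg at h0
    obtain ⟨i', hi'⟩ := h0
    right
    obtain ⟨i₀, -, hmax⟩ := Finset.exists_max_image Finset.univ (fun i => ValuationRing.valuation A K (c (i, j)))
      ⟨i', Finset.mem_univ _⟩
    have hi₀ : c (i₀, j) ≠ 0 := fun h => hi' ((Valuation.zero_iff _).mp (le_antisymm
      ((hmax i' (Finset.mem_univ _)).trans_eq (by rw [h, map_zero])) zero_le'))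
    have ha : ∀ i, ∃ a : A, algebraMap A K a = c (i, j) / c (i₀, j) := fun i => by
      refine (ValuationRing.mem_integer_iff A K _).mp ?_
      show ValuationRing.valuation A K _ ≤ 1
      rw [map_div₀]
      exact div_le_one_of_le₀ (hmax i (Finset.mem_univ _)) zero_le'
    choose a ha using ha
    let u := ∑ i, a i • b i
    have hres : IsLocalRing.residue B u = ∑ i, IsLocalRing.residue A (a i) • IsLocalRing.residue B (b i) := by
      rw [map_sum]
      exact Finset.sum_congr rfl fun i _ => by
        rw [Algebra.smul_def, map_mul, Algebra.smul_def]; rfl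
    have hu : IsUnit u := by
      refine (IsLocalRing.residue_ne_zero_iff_isUnit u).mp fun h => ?_
      have h2 := Fintype.linearIndependent_iff.mp hb (fun i => IsLocalRing.residue A (a i)) (hres.symm.trans h) i₀
      have h3 : a i₀ = 1 := IsFractionRing.injective A K (by rw [ha, div_self hi₀, map_one])
      rw [h3, map_one] at h2
      exact one_ne_zero h2
    refine ⟨Units.mk0 _ hi₀, hu.unit, ?_⟩
    show _ = algebraMap K L (c (i₀, j)) * algebraMap B L u
    rw [map_sum, Finset.mul_sum]
    refine Finset.sum_congr rfl fun i _ => ?_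
    rw [Algebra.smul_def, map_mul, ← IsScalarTower.algebraMap_apply A B L, IsScalarTower.algebraMap_apply A K L, ha,
      ← mul_assoc, ← map_mul, mul_div_cancel₀ _ hi₀]
  let s := Finset.univ.filter fun j => x j ≠ 0
  have hj₁ : j₁ ∈ s := by
    refine Finset.mem_filter.mpr ⟨Finset.mem_univ _, ?_⟩
    rcases hcol j₁ with h | ⟨e, u, hx⟩
    · exact absurd (h i₁) h₁
    · rw [hx]
      exact mul_ne_zero ((map_ne_zero _).mpr e.ne_zero) ((map_ne_zero_iff _ (IsFractionRing.injective B L)).mpr u.ne_zero)
  obtain ⟨j₀, hj₀, hmax⟩ := Finset.exists_max_image s (fun j => ValuationRing.valuation B L (x j * (γ j : L))) ⟨j₁, hj₁⟩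
  have hy0 : x j₀ * (γ j₀ : L) ≠ 0 := mul_ne_zero (Finset.mem_filter.mp hj₀).2 (γ j₀).ne_zero
  have hquot : ∀ j, ∃ z : B, algebraMap B L z = x j * γ j / (x j₀ * γ j₀) ∧ (j ≠ j₀ → ¬ IsUnit z) := by
    intro j
    by_cases hjs : x j = 0
    · exact ⟨0, by rw [hjs]; simp, fun _ => not_isUnit_zero⟩
    have hj : j ∈ s := Finset.mem_filter.mpr ⟨Finset.mem_univ _, hjs⟩
    obtain ⟨z, hz⟩ := (ValuationRing.mem_integer_iff B L _).mp (show ValuationRing.valuation B L (x j * γ j / (x j₀ * γ j₀)) ≤ 1 by
      rw [map_div₀]; exact div_le_one_of_le₀ (hmax j hj) zero_le')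
    refine ⟨z, hz, fun hne hu => hne ?_⟩
    rcases hcol j with h | ⟨e, v, hx⟩
    · exact absurd (Finset.sum_eq_zero fun i _ => by rw [h i, map_zero, zero_mul]) hjs
    rcases hcol j₀ with h | ⟨e₀, v₀, hx₀⟩
    · exact absurd (Finset.sum_eq_zero fun i _ => by rw [h i, map_zero, zero_mul]) (Finset.mem_filter.mp hj₀).2
    refine hγ j j₀ e e₀ (hu.unit * v₀ * v⁻¹) (Units.ext ?_)
    rw [eq_div_iff hy0, hx, hx₀] at hz
    simp only [Units.val_mul, Units.coe_map, RingHom.toMonoidHom_eq_coe, MonoidHom.coe_coe, map_mul, IsUnit.unit_spec]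
    have hv : algebraMap B L v * algebraMap B L ↑v⁻¹ = 1 := by rw [← map_mul, Units.mul_inv, map_one]
    linear_combination (-(algebraMap B L ↑v⁻¹)) * hz - (γ j : L) * algebraMap K L e * hv
  choose z hz hzu using hquot
  have h1 : ∑ j, z j = 0 := IsFractionRing.injective B L (by
    rw [map_sum, Finset.sum_congr rfl fun j _ => hz j, ← Finset.sum_div, hsum, zero_div, map_zero])
  have hz₀ : z j₀ = 1 := IsFractionRing.injective B L (by rw [hz, div_self hy0, map_one])
  rw [← Finset.add_sum_erase _ _ (Finset.mem_univ j₀), hz₀] at h1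
  have hmem : ∑ j ∈ Finset.univ.erase j₀, z j ∈ IsLocalRing.maximalIdeal B :=
    Submodule.sum_mem _ fun j hj => (IsLocalRing.mem_maximalIdeal _).mpr (hzu j (Finset.ne_of_mem_erase hj))
  rw [eq_neg_of_add_eq_zero_right h1, neg_mem_iff] at hmem
  exact (IsLocalRing.maximalIdeal.isMaximal B).ne_top ((Ideal.eq_top_iff_one _).mpr hmem)

end Groth.Agent.S7124

namespace Groth.Agent.S7124

/-- Let A ⊆ B be an extension of valuation rings (both valuation domains, the inclusion injective and
local) with fraction fields K ⊆ L such that L/K is finite. Then the residue field of B is finite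
over that of A, the value group of A has finite index in the value group of B, and (index of value
groups) · (residue degree) ≤ [L : K]. Here the value group of B is written as Lˣ modulo the units of
B, and that of A as the image of Kˣ in it. -/
theorem result (A B K L : Type u) [CommRing A] [IsDomain A]
    [ValuationRing A] [CommRing B] [IsDomain B] [ValuationRing B] [Field K] [Field L]
    [Algebra A K] [IsFractionRing A K] [Algebra B L] [IsFractionRing B L] [Algebra A B] [Algebra K L]
    [Algebra A L] [IsScalarTower A K L] [IsScalarTower A B L] (hinj : Function.Injective (algebraMap A B))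
    [IsLocalHom (algebraMap A B)] [FiniteDimensional K L] :
    let UB : Subgroup Lˣ := (Units.map (algebraMap B L).toMonoidHom).range
    let ΓA : Subgroup (Lˣ ⧸ UB) := ((QuotientGroup.mk' UB).comp (Units.map (algebraMap K L).toMonoidHom)).range
    Module.Finite (IsLocalRing.ResidueField A) (IsLocalRing.ResidueField B) ∧ ΓA.index ≠ 0 ∧
      ΓA.index * Module.finrank (IsLocalRing.ResidueField A) (IsLocalRing.ResidueField B) ≤
        Module.finrank K L := by
  classical
  intro UB ΓA
  haveI : ΓA.Normal := ⟨fun a ha b => by rwa [mul_comm b, mul_assoc, mul_inv_cancel, mul_one]⟩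
  let Q := (Lˣ ⧸ UB) ⧸ ΓA
  let π : Lˣ →* Q := (QuotientGroup.mk' ΓA).comp (QuotientGroup.mk' UB)
  have hπ : Function.Surjective π := (QuotientGroup.mk'_surjective _).comp (QuotientGroup.mk'_surjective _)
  have hcount : ∀ (ι κ : Type u) [Fintype ι] [Fintype κ] (b : ι → IsLocalRing.ResidueField B) (q : κ → Q),
      LinearIndependent (IsLocalRing.ResidueField A) b → Function.Injective q →
        Fintype.card ι * Fintype.card κ ≤ Module.finrank K L := by
    intro ι κ _ _ b q hb hq
    choose b' hb' using fun i => IsLocalRing.residue_surjective (b i)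
    choose γ hγ using fun j => hπ (q j)
    have := linearIndependent_products (A := A) (K := K) b' (by simpa only [hb'] using hb) γ fun j j' c c' u h => hq ?_
    · simpa using this.fintype_card_le_finrank
    have hK : ∀ d : Kˣ, π (Units.map (algebraMap K L).toMonoidHom d) = 1 := fun d =>
      (QuotientGroup.eq_one_iff _).mpr ⟨d, rfl⟩
    have hU : π (Units.map (algebraMap B L).toMonoidHom u) = 1 := by
      show QuotientGroup.mk' ΓA (QuotientGroup.mk' UB _) = 1
      rw [show QuotientGroup.mk' UB (Units.map (algebraMap B L).toMonoidHom u) = 1 from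
        (QuotientGroup.eq_one_iff (N := UB) _).mpr (MonoidHom.mem_range.mpr ⟨u, rfl⟩), map_one]
    have := congrArg π h
    rwa [map_mul, map_mul, map_mul, hK, hK, hU, mul_one, mul_one, mul_one, hγ, hγ] at this
  have hone : ∀ (ι : Type u) [Fintype ι] (b : ι → IsLocalRing.ResidueField B),
      LinearIndependent (IsLocalRing.ResidueField A) b → Fintype.card ι ≤ Module.finrank K L := fun ι _ b hb => by
    simpa using hcount ι PUnit b (fun _ => 1) hb (fun _ _ _ => rfl)
  haveI hfin : Module.Finite (IsLocalRing.ResidueField A) (IsLocalRing.ResidueField B) := by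
    refine Module.rank_lt_aleph0_iff.mp (lt_of_le_of_lt (rank_le (n := Module.finrank K L) fun s hs => ?_) (Cardinal.natCast_lt_aleph0))
    simpa using hone s _ hs
  haveI : Finite Q := by
    by_contra hinf
    rw [not_finite_iff_infinite] at hinf
    obtain ⟨t, ht⟩ := Infinite.exists_subset_card_eq Q (Module.finrank K L + 1)
    have := hcount PUnit t (fun _ => 1) (fun j => (j : Q)) (LinearIndependent.of_subsingleton PUnit.unit one_ne_zero) Subtype.val_injective
    simp [ht] at this
  refine ⟨hfin, Subgroup.index_ne_zero_of_finite, ?_⟩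
  cases nonempty_fintype Q
  have := hcount _ Q (Module.Free.chooseBasis (IsLocalRing.ResidueField A) (IsLocalRing.ResidueField B)) id
    (Module.Basis.linearIndependent _) Function.injective_id
  rw [← Module.finrank_eq_card_chooseBasisIndex] at this
  rw [Subgroup.index, Nat.card_eq_fintype_card, mul_comm]
  exact this

end Groth.Agent.S7124
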