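import Groth.Statements.S7125
import Groth.Agent.H1CAlg.ReflexiveNormal
import Mathlib.RingTheory.Ideal.KrullsHeightTheorem
import Mathlib.RingTheory.Flat.FaithfullyFlat.Algebra
import Mathlib.RingTheory.DiscreteValuationRing.TFAE
import Mathlib.LinearAlgebra.TensorProduct.RightExactness
import Mathlib.Algebra.BigOperators.Fin

set_option autoImplicit false
universe u
open CAlg

namespace Groth.Agent.S7125

section
open TensorProduct

lemma dvd_of_pow_dvd_pow {A : Type u} [CommRing A] [IsDomain A] [IsIntegrallyClosed A] {a b : A} {n : ℕ}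
    (hn : 0 < n) (h : a ^ n ∣ b ^ n) : a ∣ b := by
  rcases eq_or_ne a 0 with rfl | ha
  · rw [zero_pow hn.ne', zero_dvd_iff] at h
    rw [eq_zero_of_pow_eq_zero h]
  obtain ⟨c, hc⟩ := h
  let K := FractionRing A
  have ha' : algebraMap A K a ≠ 0 := (map_ne_zero_iff _ (IsFractionRing.injective A K)).mpr ha
  have hint : IsIntegral A (algebraMap A K b / algebraMap A K a) := by
    refine IsIntegral.of_pow hn ?_
    rw [div_pow, ← map_pow, ← map_pow, hc, map_mul, mul_div_cancel_left₀ _ (by rw [map_pow]; exact pow_ne_zero n ha')]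
    exact isIntegral_algebraMap
  obtain ⟨y, hy⟩ := IsIntegrallyClosed.algebraMap_eq_of_integral hint
  exact ⟨y, IsFractionRing.injective A K (by rw [map_mul, hy, mul_div_cancel₀ _ ha'])⟩

/-- At a height one prime of a normal domain there is a uniformizer. -/
lemma exists_uniformizer {A : Type u} [CommRing A] [IsDomain A] [IsNoetherianRing A] [IsIntegrallyClosed A]
    (p : Ideal A) [p.IsPrime] (hp : p.height = 1) :
    ∃ π ∈ p, π ≠ 0 ∧ (∀ x ∈ p, ∃ s ∉ p, π ∣ s * x) ∧
      ∀ x : A, x ≠ 0 → ∃ (s t : A) (N : ℕ), s ∉ p ∧ t ∉ p ∧ t * π ^ N = s * x := by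
  let L := Localization.AtPrime p
  haveI : IsIntegrallyClosed L := isIntegrallyClosed_of_isLocalization _ p.primeCompl p.primeCompl_le_nonZeroDivisors
  have hdim : ringKrullDim L = 1 := by
    rw [IsLocalization.AtPrime.ringKrullDim_eq_height p L, hp]; rfl
  have hnf : ¬IsField L := fun h => by
    rw [ringKrullDim_eq_zero_of_isField h] at hdim; exact zero_ne_one hdim
  haveI : Ring.KrullDimLE 1 L := Ring.krullDimLE_iff.mpr hdim.le
  haveI : Ring.DimensionLEOne L := ⟨fun {I} hne hP => (Ring.krullDimLE_one_iff_of_noZeroDivisors.mp ‹_›) I hne hP⟩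
  have hu : ∃! P : Ideal L, P ≠ ⊥ ∧ P.IsPrime :=
    ⟨IsLocalRing.maximalIdeal L, ⟨fun e => hnf (IsLocalRing.isField_iff_maximalIdeal_eq.mpr e), inferInstance⟩,
      fun P hP => IsLocalRing.eq_maximalIdeal (Ring.DimensionLEOne.maximalOfPrime hP.1 hP.2)⟩
  haveI : IsDiscreteValuationRing L := by
    have h3 : IsIntegrallyClosed L ∧ ∃! P : Ideal L, P ≠ ⊥ ∧ P.IsPrime := ⟨‹_›, hu⟩
    exact ((IsDiscreteValuationRing.TFAE L hnf).out 0 3).mpr h3
  obtain ⟨ϖ, hϖ⟩ := IsDiscreteValuationRing.exists_irreducible L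
  obtain ⟨π, d, rfl⟩ := IsLocalization.exists_mk'_eq p.primeCompl ϖ
  have hass : Associated (IsLocalization.mk' L π d) (algebraMap A L π) :=
    ⟨(IsLocalization.map_units L d).unit, by rw [IsUnit.unit_spec]; exact IsLocalization.mk'_spec L π d⟩
  have hπ : Irreducible (algebraMap A L π) := hass.irreducible hϖ
  have hmem : π ∈ p := (IsLocalization.AtPrime.to_map_mem_maximal_iff L p π).mp
    ((IsLocalRing.mem_maximalIdeal _).mpr hπ.not_isUnit)
  have key : ∀ (x y : A), algebraMap A L x ∣ algebraMap A L y → ∃ s ∉ p, x ∣ s * y := by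
    rintro x y ⟨c, hc⟩
    obtain ⟨c, e, rfl⟩ := IsLocalization.exists_mk'_eq p.primeCompl c
    refine ⟨e, e.2, c, IsLocalization.injective L p.primeCompl_le_nonZeroDivisors ?_⟩
    rw [map_mul, map_mul, hc, ← IsLocalization.mk'_spec L c e]; ring
  refine ⟨π, hmem, fun h => hπ.ne_zero (by rw [h, map_zero]), fun x hx => key π x ?_, fun x hx => ?_⟩
  · rw [← Ideal.mem_span_singleton, ← hπ.maximalIdeal_eq]
    exact (IsLocalization.AtPrime.to_map_mem_maximal_iff L p x).mpr hx
  · have hx' : algebraMap A L x ≠ 0 :=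
      (map_ne_zero_iff _ (IsLocalization.injective L p.primeCompl_le_nonZeroDivisors)).mpr hx
    obtain ⟨N, u, hu⟩ := IsDiscreteValuationRing.eq_unit_mul_pow_irreducible hx' hπ
    obtain ⟨t, e, hte⟩ := IsLocalization.exists_mk'_eq p.primeCompl (u : L)
    refine ⟨e, t, N, e.2, fun ht => ?_, IsLocalization.injective L p.primeCompl_le_nonZeroDivisors ?_⟩
    · have h1 : IsUnit (algebraMap A L t) := by
        rw [← IsLocalization.mk'_spec L t e, hte]
        exact u.isUnit.mul (IsLocalization.map_units L e)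
      exact (IsLocalRing.mem_maximalIdeal _).mp ((IsLocalization.AtPrime.to_map_mem_maximal_iff L p t).mpr ht) h1
    · rw [map_mul, map_mul, map_pow, hu, ← hte, ← IsLocalization.mk'_spec L t e]; ring

/-- Colon ideals commute with flat base change. -/
lemma mem_map_of_forall {A B : Type u} [CommRing A] [CommRing B] [Algebra A B] [Module.Flat A B] (f : A)
    {r : ℕ} (z : Fin r → A) (y : B) (hy : ∀ i, algebraMap A B f ∣ y * algebraMap A B (z i)) :
    y ∈ Ideal.map (algebraMap A B)
      (LinearMap.ker (LinearMap.pi fun i => (Submodule.mkQ (Ideal.span {f})).comp (LinearMap.mulRight A (z i)))) := by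
  let φ : A →ₗ[A] (Fin r → A ⧸ Ideal.span {f}) :=
    LinearMap.pi fun i => (Submodule.mkQ (Ideal.span {f})).comp (LinearMap.mulRight A (z i))
  have hex := Module.Flat.lTensor_exact B φ.exact_subtype_ker_map
  have h0 : φ.lTensor B (y ⊗ₜ 1) = 0 := by
    apply (TensorProduct.piRight A A B (fun _ : Fin r => A ⧸ Ideal.span {f})).injective
    rw [map_zero]
    ext i
    obtain ⟨w, hw⟩ := hy i
    simp only [φ, LinearMap.lTensor_tmul, TensorProduct.piRight_apply, TensorProduct.piRightHom_tmul,
      LinearMap.pi_apply, LinearMap.comp_apply, LinearMap.mulRight_apply, one_mul, Submodule.mkQ_apply,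
      Pi.zero_apply]
    calc y ⊗ₜ[A] (Submodule.Quotient.mk (z i) : A ⧸ Ideal.span {f})
        = (z i • y) ⊗ₜ[A] (Submodule.Quotient.mk 1 : A ⧸ Ideal.span {f}) := by
          rw [TensorProduct.smul_tmul, ← Submodule.Quotient.mk_smul, smul_eq_mul, mul_one]
      _ = (f • w) ⊗ₜ[A] (Submodule.Quotient.mk 1 : A ⧸ Ideal.span {f}) := by
          rw [Algebra.smul_def, Algebra.smul_def, mul_comm, hw]
      _ = 0 := by
          rw [TensorProduct.smul_tmul, ← Submodule.Quotient.mk_smul, smul_eq_mul, mul_one,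
            (Submodule.Quotient.mk_eq_zero _).mpr (Ideal.mem_span_singleton_self f), TensorProduct.tmul_zero]
  obtain ⟨v, hv⟩ := (hex (y ⊗ₜ 1)).mp h0
  have : ∀ v : B ⊗[A] LinearMap.ker φ,
      TensorProduct.rid A B ((LinearMap.ker φ).subtype.lTensor B v) ∈ Ideal.map (algebraMap A B) (LinearMap.ker φ) := by
    intro v
    induction v with
    | zero => simp
    | tmul b x =>
      rw [LinearMap.lTensor_tmul, TensorProduct.rid_tmul, Algebra.smul_def]
      exact Ideal.mul_mem_right _ _ (Ideal.mem_map_of_mem _ x.2)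
    | add a b ha hb => rw [map_add, map_add]; exact add_mem ha hb
  have h2 := this v
  rwa [hv, TensorProduct.rid_tmul, one_smul] at h2

theorem main (A B : Type u) [CommRing A] [IsDomain A]
    [IsNoetherianRing A] [IsLocalRing A] [IsIntegrallyClosed A] [CommRing B] [IsDomain B] [IsNoetherianRing B]
    [IsLocalRing B] [IsIntegrallyClosed B] [Algebra A B] [IsLocalHom (algebraMap A B)] [Module.Flat A B]
    (f : A) (h : B) (n : ℕ) (hn : 1 < n) (w : Bˣ) (hf : algebraMap A B f = (w : B) * h ^ n)
    (hram : ∀ (p : Ideal A) [p.IsPrime], p.height = 1 →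
      ∃ (q : Ideal B) (_ : q.IsPrime), q.height = 1 ∧ q.comap (algebraMap A B) = p ∧
        Ideal.map (algebraMap B (Localization.AtPrime q)) (Ideal.map (algebraMap A B) p) =
          IsLocalRing.maximalIdeal (Localization.AtPrime q)) :
    ∃ (g : A) (u : Aˣ), f = (u : A) * g ^ n := by
  classical
  have hn0 : 0 < n := by omega
  rcases eq_or_ne f 0 with rfl | hf0
  · exact ⟨0, 1, by rw [zero_pow hn0.ne', mul_zero]⟩
  haveI : Module.FaithfullyFlat A B := Module.FaithfullyFlat.of_flat_of_isLocalHom
  have hinj : Function.Injective (algebraMap A B) := FaithfulSMul.algebraMap_injective A B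
  have hfB : algebraMap A B f ≠ 0 := (map_ne_zero_iff _ hinj).mpr hf0
  have hh0 : h ≠ 0 := fun e => hfB (by rw [hf, e, zero_pow hn0.ne', mul_zero])
  -- the ideal of `x` with `x ^ n ∈ f A`
  let J : Ideal A :=
    { carrier := {x | f ∣ x ^ n}
      add_mem' := fun {a b} ha hb => by
        show f ∣ (a + b) ^ n
        rw [add_pow]
        refine Finset.dvd_sum fun i hi => Dvd.dvd.mul_right ?_ _
        refine dvd_of_pow_dvd_pow hn0 ?_
        rw [mul_pow, ← pow_mul, ← pow_mul, mul_comm i, mul_comm (n - i), pow_mul, pow_mul]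
        have := mul_dvd_mul (pow_dvd_pow_of_dvd ha i) (pow_dvd_pow_of_dvd hb (n - i))
        rwa [← pow_add, Nat.add_sub_cancel' (Nat.lt_succ_iff.mp (Finset.mem_range.mp hi))] at this
      zero_mem' := by show f ∣ 0 ^ n; rw [zero_pow hn0.ne']; exact dvd_zero _
      smul_mem' := fun a x hx => by show f ∣ (a * x) ^ n; rw [mul_pow]; exact Dvd.dvd.mul_left hx _ }
  obtain ⟨k, y, hy⟩ := Submodule.fg_iff_exists_fin_generating_family.mp (IsNoetherian.noetherian J)
  have hJh : ∀ x ∈ J, h ∣ algebraMap A B x := by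
    intro x hx
    obtain ⟨c, hc⟩ := (hx : f ∣ x ^ n)
    exact dvd_of_pow_dvd_pow hn0 ⟨w * algebraMap A B c, by rw [← map_pow, hc, map_mul, hf]; ring⟩
  have hyJ : ∀ i, f ∣ (y i) ^ n := fun i => (show y i ∈ J from hy ▸ Submodule.subset_span ⟨i, rfl⟩)
  let J' : Ideal A := (Ideal.span {f}).colon (J : Set A)
  have hJ' : ∀ z, z ∈ J' ↔ ∀ x ∈ J, f ∣ z * x := fun z => by
    simp only [J', Submodule.mem_colon, SetLike.mem_coe, smul_eq_mul, Ideal.mem_span_singleton]
  obtain ⟨r, z, hz⟩ := Submodule.fg_iff_exists_fin_generating_family.mp (IsNoetherian.noetherian J')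
  -- data at height one primes
  have data : ∀ (p : Ideal A) [p.IsPrime], p.height = 1 → ∃ (π s t : A) (m : ℕ), π ≠ 0 ∧ s ∉ p ∧ t ∉ p ∧
      t * (π ^ m) ^ n = s * f ∧ ∀ x ∈ J, ∃ σ ∉ p, π ^ m ∣ σ * x := by
    intro p _ hp
    obtain ⟨π, hπp, hπ0, hπ, hN⟩ := exists_uniformizer p hp
    obtain ⟨s, t, N, hs, ht, hst⟩ := hN f hf0
    obtain ⟨q, hqp, hq1, hqc, hqm⟩ := hram p hp
    haveI := hqp
    have hnq : ∀ a : A, a ∉ p → algebraMap A B a ∉ q := fun a ha hq => ha (hqc ▸ Ideal.mem_comap.mpr hq)
    obtain ⟨ρ, hρq, hρ0, -, hNB⟩ := exists_uniformizer q hq1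
    obtain ⟨a, b, m, ha, hb, hab⟩ := hNB h hh0
    let Lq := Localization.AtPrime q
    have hu : ∀ c : B, c ∉ q → IsUnit (algebraMap B Lq c) := fun c hc => IsLocalization.map_units Lq (⟨c, hc⟩ : q.primeCompl)
    have hπm : IsLocalRing.maximalIdeal Lq = Ideal.span {algebraMap B Lq (algebraMap A B π)} := by
      refine le_antisymm ?_ ?_
      · rw [← hqm, Ideal.map_map, Ideal.map_le_iff_le_comap]
        intro x hx
        obtain ⟨c, hc, hdvd⟩ := hπ x hx
        rw [Ideal.mem_comap, Ideal.mem_span_singleton, RingHom.comp_apply]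
        have := map_dvd ((algebraMap B Lq).comp (algebraMap A B)) hdvd
        rw [map_mul] at this
        exact (IsUnit.dvd_mul_left (hu _ (hnq c hc))).mp this
      · rw [Ideal.span_singleton_le_iff_mem, ← hqm]
        exact Ideal.mem_map_of_mem _ (Ideal.mem_map_of_mem _ hπp)
    have hLinj : Function.Injective (algebraMap B Lq) := IsLocalization.injective Lq q.primeCompl_le_nonZeroDivisors
    set P := algebraMap B Lq (algebraMap A B π) with hPdef
    set R' := algebraMap B Lq ρ with hRdef
    have hP0 : P ≠ 0 := (map_ne_zero_iff _ hLinj).mpr ((map_ne_zero_iff _ hinj).mpr hπ0)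
    have hPu : ¬IsUnit P := fun hu' => (IsLocalRing.mem_maximalIdeal _).mp (hπm ▸ Ideal.mem_span_singleton_self P) hu'
    have hRP : P ∣ R' := Ideal.mem_span_singleton.mp (hπm ▸
      (IsLocalization.AtPrime.to_map_mem_maximal_iff Lq q ρ).mpr hρq)
    -- express `h` as a unit times a power of `π`
    obtain ⟨m', v, hv, hv'⟩ : ∃ (m' : ℕ) (v : Lq), IsUnit v ∧ algebraMap B Lq h = v * P ^ m' := by
      by_contra! hcon
      have hall : ∀ j, P ^ j ∣ algebraMap B Lq h := by
        intro j
        induction j with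
        | zero => simp
        | succ j ih =>
          obtain ⟨v, hv⟩ := ih
          by_cases hvu : IsUnit v
          · exact absurd (hv.trans (mul_comm _ _)) (hcon j v hvu)
          · rw [hv, pow_succ]
            exact mul_dvd_mul_left _ (Ideal.mem_span_singleton.mp (hπm ▸ (IsLocalRing.mem_maximalIdeal v).mpr hvu))
      have : algebraMap B Lq h ∈ ⨅ j : ℕ, (IsLocalRing.maximalIdeal Lq) ^ j := by
        rw [Ideal.mem_iInf]
        intro j
        rw [hπm, Ideal.span_singleton_pow, Ideal.mem_span_singleton]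
        exact hall j
      rw [Ideal.iInf_pow_eq_bot_of_isLocalRing _ (Ideal.IsMaximal.ne_top inferInstance), Ideal.mem_bot] at this
      exact hh0 (hLinj (by rw [this, map_zero]))
    have hNm : N = m' * n := by
      have e := congrArg (fun c => algebraMap B Lq (algebraMap A B c)) hst
      simp only [map_mul, map_pow, hf, hv'] at e
      have hu1 : IsUnit (algebraMap B Lq (algebraMap A B s) * (algebraMap B Lq (w : B) * v ^ n)) :=
        (hu _ (hnq s hs)).mul (((w.isUnit).map _).mul (hv.pow n))
      have hu2 : IsUnit (algebraMap B Lq (algebraMap A B t)) := hu _ (hnq t ht)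
      have ea : P ^ N ∣ P ^ (m' * n) := by
        refine (hu1.dvd_mul_left).mp ⟨algebraMap B Lq (algebraMap A B t), ?_⟩
        rw [mul_comm (P ^ N), e]; ring
      have eb : P ^ (m' * n) ∣ P ^ N := by
        refine (hu2.dvd_mul_left).mp ⟨algebraMap B Lq (algebraMap A B s) * (algebraMap B Lq (w : B) * v ^ n), ?_⟩
        rw [e]; ring
      exact le_antisymm ((pow_dvd_pow_iff hP0 hPu).mp ea) ((pow_dvd_pow_iff hP0 hPu).mp eb)
    refine ⟨π, s, t, m', hπ0, hs, ht, by rw [← pow_mul, ← hNm, hst], fun x hx => ?_⟩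
    rcases eq_or_ne x 0 with rfl | hx0
    · exact ⟨1, fun h1 => (inferInstance : p.IsPrime).ne_top ((Ideal.eq_top_iff_one p).mpr h1), by simp⟩
    obtain ⟨s', t', i, hs', ht', hst'⟩ := hN x hx0
    refine ⟨s', hs', ?_⟩
    rw [← hst']
    refine Dvd.dvd.mul_left (pow_dvd_pow π ?_) t'
    -- compare exponents of `x ^ n` and `f`
    by_contra hlt
    rw [not_le] at hlt
    obtain ⟨c, hc⟩ := (hx : f ∣ x ^ n)
    have e : t' ^ n * s * π ^ (i * n) = s' ^ n * t * c * π ^ N := by
      calc t' ^ n * s * π ^ (i * n) = s * (t' * π ^ i) ^ n := by ring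
        _ = s' ^ n * c * (s * f) := by rw [hst', mul_pow, hc]; ring
        _ = s' ^ n * t * c * π ^ N := by rw [← hst]; ring
    obtain ⟨d, hd⟩ : ∃ d, N = i * n + d.succ := ⟨(m' - i) * n - 1, by
      rw [hNm]
      have : 0 < (m' - i) * n := Nat.mul_pos (by omega) hn0
      have e2 : (m' - i) * n + i * n = m' * n := by rw [← add_mul, Nat.sub_add_cancel hlt.le]
      omega⟩
    rw [hd, pow_add, pow_succ] at e
    have e' : t' ^ n * s = s' ^ n * t * c * (π ^ d * π) :=
      mul_right_cancel₀ (pow_ne_zero (i * n) hπ0) (e.trans (by ring))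
    have : t' ^ n * s ∈ p := e' ▸ Ideal.mul_mem_left _ _ (Ideal.mul_mem_left _ _ hπp)
    rcases (inferInstance : p.IsPrime).mem_or_mem this with h1 | h1
    · exact ht' ((inferInstance : p.IsPrime).mem_of_pow_mem _ h1)
    · exact hs h1
  -- `J` is the kernel
  have hker : LinearMap.ker (LinearMap.pi fun i => (Submodule.mkQ (Ideal.span {f})).comp (LinearMap.mulRight A (z i))) ≤ J := by
    intro x hx
    simp only [LinearMap.mem_ker, funext_iff, LinearMap.pi_apply, LinearMap.comp_apply, LinearMap.mulRight_apply,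
      Submodule.mkQ_apply, Pi.zero_apply, Submodule.Quotient.mk_eq_zero, Ideal.mem_span_singleton] at hx
    have hxJ' : ∀ v ∈ J', f ∣ x * v := by
      intro v hv
      rw [← hz] at hv
      induction hv using Submodule.span_induction with
      | mem v hv => obtain ⟨i, rfl⟩ := hv; exact hx i
      | zero => simp
      | add a b _ _ ha hb => rw [mul_add]; exact dvd_add ha hb
      | smul a b _ hb => rw [smul_eq_mul, mul_left_comm]; exact hb.mul_left a
    show f ∣ x ^ n
    let K := FractionRing A
    have hfK : algebraMap A K f ≠ 0 := (map_ne_zero_iff _ (IsFractionRing.injective A K)).mpr hf0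
    obtain ⟨c, hc⟩ := H1CAlg.mem_range_of_height_le_one (R := A) (algebraMap A K (x ^ n) / algebraMap A K f) (by
      intro p _ hp
      obtain ⟨π, s, t, m, hπ0, hs, ht, hst, hJπ⟩ := data p hp
      choose σ hσ b hb using fun i => hJπ (y i) (hyJ i)
      let v := (∏ i, σ i) * t * (π ^ m) ^ (n - 1)
      have hv : v ∈ J' := by
        rw [hJ']
        intro x' hx'
        rw [← hy] at hx'
        induction hx' using Submodule.span_induction with
        | mem x' hx' =>
          obtain ⟨i, rfl⟩ := hx'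
          refine ⟨(∏ i' ∈ Finset.univ.erase i, σ i') * b i * s, ?_⟩
          have hp' : ∏ i', σ i' = σ i * ∏ i' ∈ Finset.univ.erase i, σ i' :=
            (Finset.mul_prod_erase _ _ (Finset.mem_univ i)).symm
          have hpow : π ^ m * (π ^ m) ^ (n - 1) = (π ^ m) ^ n := by rw [← pow_succ', Nat.sub_add_cancel hn0]
          calc v * y i = (∏ i' ∈ Finset.univ.erase i, σ i') * t * (π ^ m) ^ (n - 1) * (σ i * y i) := by
                simp only [v, hp']; ring
            _ = (∏ i' ∈ Finset.univ.erase i, σ i') * b i * (t * (π ^ m * (π ^ m) ^ (n - 1))) := by rw [hb i]; ring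
            _ = f * ((∏ i' ∈ Finset.univ.erase i, σ i') * b i * s) := by rw [hpow, hst]; ring
        | zero => simp
        | add a b _ _ ha hb => rw [mul_add]; exact dvd_add ha hb
        | smul a b _ hb => rw [smul_eq_mul, mul_left_comm]; exact hb.mul_left a
      obtain ⟨e, he⟩ := hxJ' v hv
      let S := ∏ i, σ i
      have hS : S ∉ p := fun hc' => by
        obtain ⟨i, -, hi⟩ := Ideal.IsPrime.prod_mem_iff.mp hc'
        exact hσ i hi
      have hpow : π ^ m * (π ^ m) ^ (n - 1) = (π ^ m) ^ n := by rw [← pow_succ', Nat.sub_add_cancel hn0]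
      have h1 : f * (x * S * s) = f * (e * π ^ m) := by
        calc f * (x * S * s) = x * S * (t * (π ^ m * (π ^ m) ^ (n - 1))) := by rw [hpow, hst]; ring
          _ = (x * v) * π ^ m := by simp only [v, S]; ring
          _ = f * (e * π ^ m) := by rw [he]; ring
      have h2 : x * S * s = e * π ^ m := mul_left_cancel₀ hf0 h1
      refine ⟨(S * s) ^ n * t, fun hc' => ?_, e ^ n * s, ?_⟩
      · rcases (inferInstance : p.IsPrime).mem_or_mem hc' with h' | h'
        · exact ((inferInstance : p.IsPrime).mem_or_mem ((inferInstance : p.IsPrime).mem_of_pow_mem _ h')).elim hS hs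
        · exact ht h'
      · rw [mul_div_assoc', div_eq_iff hfK, ← map_mul, ← map_mul]
        congr 1
        calc (S * s) ^ n * t * x ^ n = t * (x * S * s) ^ n := by ring
          _ = e ^ n * (t * (π ^ m) ^ n) := by rw [h2]; ring
          _ = e ^ n * s * f := by rw [hst]; ring)
    exact ⟨c, IsFractionRing.injective A K (by rw [map_mul, hc, mul_div_cancel₀ _ hfK])⟩
  -- `h` lies in `J B`
  have hhJ : h ∈ Ideal.map (algebraMap A B) J := by
    refine Ideal.map_mono hker (mem_map_of_forall f z h fun i => ?_)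
    let K := FractionRing B
    have hfK : algebraMap B K (algebraMap A B f) ≠ 0 := (map_ne_zero_iff _ (IsFractionRing.injective B K)).mpr hfB
    obtain ⟨c, hc⟩ := H1CAlg.mem_range_of_height_le_one (R := B)
      (algebraMap B K (h * algebraMap A B (z i)) / algebraMap B K (algebraMap A B f)) (by
      intro q _ hq
      let p := q.comap (algebraMap A B)
      haveI : q.LiesOver p := ⟨rfl⟩
      haveI : Algebra.HasGoingDown A B := inferInstance
      have hp : p.height ≤ 1 := hq ▸ (Ideal.height_eq_height_add_of_liesOver_of_hasGoingDown p q).symm ▸ le_self_add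
      -- an element of `J` equal to `h` times a unit at `q`
      obtain ⟨x, hxJ, c, hc, hxc⟩ : ∃ x ∈ J, ∃ c ∉ q, algebraMap A B x = h * c := by
        rcases hp.lt_or_eq with h0 | h1
        · have hp0 : p = ⊥ := Ideal.height_eq_zero_iff_eq_bot.mp (ENat.lt_one_iff_eq_zero.mp h0)
          refine ⟨f, show f ∣ f ^ n from dvd_pow_self f hn0.ne', (w : B) * h ^ (n - 1), fun hc => hf0 ?_, ?_⟩
          · have : f ∈ p := by
              show algebraMap A B f ∈ q
              rw [hf, show (w : B) * h ^ n = h * ((w : B) * h ^ (n - 1)) by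
                conv_lhs => rw [← Nat.sub_add_cancel hn0, pow_succ]
                ring]
              exact q.mul_mem_left _ hc
            rwa [hp0, Ideal.mem_bot] at this
          · rw [hf]
            conv_lhs => rw [← Nat.sub_add_cancel hn0, pow_succ]
            ring
        · obtain ⟨π, s, t, m, hπ0, hs, ht, hst, -⟩ := data p h1
          have hxn : (t * π ^ m) ^ n = f * (t ^ (n - 1) * s) := by
            conv_lhs => rw [mul_pow, ← Nat.sub_add_cancel hn0, pow_succ t, Nat.sub_add_cancel hn0]
            rw [mul_assoc, hst]; ring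
          refine ⟨t * π ^ m, ⟨_, hxn⟩, ?_⟩
          obtain ⟨c, hc⟩ := hJh (t * π ^ m) ⟨_, hxn⟩
          refine ⟨c, fun hcq => ?_, hc⟩
          have e := congrArg (algebraMap A B) hxn
          rw [map_pow, hc, map_mul, hf, mul_pow, mul_comm (w : B), mul_assoc] at e
          have e' := mul_left_cancel₀ (pow_ne_zero n hh0) e
          have hmem : (w : B) * algebraMap A B (t ^ (n - 1) * s) ∈ q := e' ▸ Ideal.pow_mem_of_mem q hcq n hn0
          rcases (inferInstance : q.IsPrime).mem_or_mem hmem with hw | hts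
          · exact (inferInstance : q.IsPrime).ne_top (Ideal.eq_top_of_isUnit_mem _ hw w.isUnit)
          · rcases (inferInstance : p.IsPrime).mem_or_mem (show t ^ (n - 1) * s ∈ p from hts) with h' | h'
            · exact ht ((inferInstance : p.IsPrime).mem_of_pow_mem _ h')
            · exact hs h'
      obtain ⟨d, hd⟩ : f ∣ z i * x := (hJ' (z i)).mp (hz ▸ Submodule.subset_span ⟨i, rfl⟩) x hxJ
      refine ⟨c, hc, algebraMap A B d, ?_⟩
      rw [mul_div_assoc', div_eq_iff hfK, ← map_mul, ← map_mul]
      congr 1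
      calc c * (h * algebraMap A B (z i)) = algebraMap A B (z i * x) := by rw [map_mul, hxc]; ring
        _ = algebraMap A B d * algebraMap A B f := by rw [hd, map_mul]; ring)
    exact ⟨c, IsFractionRing.injective B K (by rw [map_mul (algebraMap B K) (algebraMap A B f), hc, mul_div_cancel₀ _ hfK])⟩
  -- `J` is principal
  rw [← hy] at hhJ
  change h ∈ Ideal.map (algebraMap A B) (Ideal.span (Set.range y)) at hhJ
  rw [Ideal.map_span, ← Set.range_comp] at hhJ
  obtain ⟨b, hb⟩ := (Ideal.mem_span_range_iff_exists_fun).mp hhJ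
  choose c hc using fun i => hJh (y i) (hyJ i)
  have hone : ∑ i, b i * c i = 1 := by
    apply mul_left_cancel₀ hh0
    rw [mul_one, Finset.mul_sum]
    conv_rhs => rw [← hb]
    exact Finset.sum_congr rfl fun i _ => by rw [Function.comp_apply, hc i]; ring
  obtain ⟨i, hi⟩ : ∃ i, IsUnit (c i) := by
    by_contra! hall
    exact (IsLocalRing.maximalIdeal.isMaximal B).ne_top ((Ideal.eq_top_iff_one _).mpr
      (hone ▸ Ideal.sum_mem _ fun i _ => Ideal.mul_mem_left _ _ ((IsLocalRing.mem_maximalIdeal _).mpr (hall i))))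
  obtain ⟨a, ha⟩ := hyJ i
  have hau : IsUnit (algebraMap A B a) := by
    have e := congrArg (algebraMap A B) ha
    rw [map_pow, hc i, map_mul, hf, mul_pow, mul_comm (w : B), mul_assoc] at e
    have e' := mul_left_cancel₀ (pow_ne_zero n hh0) e
    exact isUnit_of_mul_isUnit_right (e' ▸ hi.pow n)
  obtain ⟨u, hu⟩ := (isUnit_map_iff (algebraMap A B) a).mp hau
  exact ⟨y i, u⁻¹, by rw [ha, ← hu, mul_comm f, ← mul_assoc, Units.inv_mul, one_mul]⟩

end

/-- Let A and B be Noetherian local normal domains and A → B a flat homomorphism that is local, and let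
f in A, h in B, n > 1 and a unit w of B satisfy f = w·hⁿ in B. Assume that for every height-one
prime p of A there is a height-one prime q of B lying over p such that A_p ⊆ B_q is weakly
unramified, i.e. p generates the maximal ideal of B_q. Then f = u·gⁿ for some g in A and some unit u
of A. -/
theorem result (A B : Type u) [CommRing A] [IsDomain A]
    [IsNoetherianRing A] [IsLocalRing A] [IsIntegrallyClosed A] [CommRing B] [IsDomain B] [IsNoetherianRing B]
    [IsLocalRing B] [IsIntegrallyClosed B] [Algebra A B] [IsLocalHom (algebraMap A B)] [Module.Flat A B]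
    (f : A) (h : B) (n : ℕ) (hn : 1 < n) (w : Bˣ) (hf : algebraMap A B f = (w : B) * h ^ n)
    (hram : ∀ (p : Ideal A) [p.IsPrime], p.height = 1 →
      ∃ (q : Ideal B) (_ : q.IsPrime), q.height = 1 ∧ q.comap (algebraMap A B) = p ∧
        Ideal.map (algebraMap B (Localization.AtPrime q)) (Ideal.map (algebraMap A B) p) =
          IsLocalRing.maximalIdeal (Localization.AtPrime q)) :
    ∃ (g : A) (u : Aˣ), f = (u : A) * g ^ n := by
  exact main A B f h n hn w hf hram

end Groth.Agent.S7125
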