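import Groth.Statements.S7133
import Mathlib
-- import your own Groth.Agent.* helpers here

set_option autoImplicit false
universe u
open EtAlg

namespace Groth.Agent.S7133

/-- For an injective local homomorphism A → B of discrete valuation rings whose fields of fractions are
K ⊆ L: if K has characteristic p > 0 and L/K is purely inseparable, then the ramification index of B
over A is a power of p. -/
theorem result (A B K L : Type u) [CommRing A] [IsDomain A]
    [IsDiscreteValuationRing A] [CommRing B] [IsDomain B] [IsDiscreteValuationRing B] [Algebra A B]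
    (hinj : Function.Injective (algebraMap A B)) [IsLocalHom (algebraMap A B)]
    [Field K] [Field L] [Algebra A K] [IsFractionRing A K] [Algebra B L] [IsFractionRing B L]
    [Algebra K L] [Algebra A L] [IsScalarTower A K L] [IsScalarTower A B L]
    (p : ℕ) (hp : p.Prime) [CharP K p] [IsPurelyInseparable K L] :
    ∃ k : ℕ, Ideal.ramificationIdx' (IsLocalRing.maximalIdeal A) (IsLocalRing.maximalIdeal B) =
      p ^ k := by
  obtain ⟨a, ha⟩ := IsDiscreteValuationRing.exists_irreducible A
  obtain ⟨π, hπ⟩ := IsDiscreteValuationRing.exists_irreducible B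
  have hfa : algebraMap A B a ≠ 0 := (map_ne_zero_iff _ hinj).mpr ha.ne_zero
  obtain ⟨e, u, he⟩ := IsDiscreteValuationRing.eq_unit_mul_pow_irreducible hfa hπ
  have hset : Ideal.ramificationIdx' (IsLocalRing.maximalIdeal A) (IsLocalRing.maximalIdeal B) = e := by
    have : {n | Ideal.map (algebraMap A B) (IsLocalRing.maximalIdeal A) ≤
        IsLocalRing.maximalIdeal B ^ n} = Set.Iic e := by
      ext n
      rw [Set.mem_setOf_eq, Set.mem_Iic, ha.maximalIdeal_eq, Ideal.map_span, Set.image_singleton,
        hπ.maximalIdeal_eq, Ideal.span_singleton_pow, Ideal.span_singleton_le_span_singleton, he,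
        (Units.dvd_mul_left (u := u)), pow_dvd_pow_iff hπ.ne_zero hπ.not_isUnit]
    rw [Ideal.ramificationIdx', this, csSup_Iic]
  rw [hset]
  have : ExpChar K p := ExpChar.prime hp
  obtain ⟨m, x, hx⟩ := IsPurelyInseparable.pow_mem K p (algebraMap B L π)
  obtain ⟨a₁, a₂, ha₂, rfl⟩ := IsFractionRing.div_surjective (A := A) x
  have ha₂0 : a₂ ≠ 0 := nonZeroDivisors.ne_zero ha₂
  have key : π ^ p ^ m * algebraMap A B a₂ = algebraMap A B a₁ := by
    refine IsFractionRing.injective B L ?_
    rw [map_mul, map_pow, ← hx, map_div₀, ← IsScalarTower.algebraMap_apply A K L,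
      ← IsScalarTower.algebraMap_apply A K L, ← IsScalarTower.algebraMap_apply A B L,
      ← IsScalarTower.algebraMap_apply A B L]
    refine div_mul_cancel₀ _ ?_
    rw [IsScalarTower.algebraMap_apply A B L]
    exact (map_ne_zero_iff _ (IsFractionRing.injective B L)).mpr ((map_ne_zero_iff _ hinj).mpr ha₂0)
  have ha₁0 : a₁ ≠ 0 := by
    rintro rfl
    rw [map_zero, mul_eq_zero] at key
    exact key.elim (pow_ne_zero _ hπ.ne_zero) ((map_ne_zero_iff _ hinj).mpr ha₂0)
  obtain ⟨i, v, rfl⟩ := IsDiscreteValuationRing.eq_unit_mul_pow_irreducible ha₁0 ha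
  obtain ⟨j, w, rfl⟩ := IsDiscreteValuationRing.eq_unit_mul_pow_irreducible ha₂0 ha
  simp only [map_mul, map_pow, he] at key
  have key' : ((Units.map (algebraMap A B).toMonoidHom w * u ^ j : Bˣ) : B) * π ^ (p ^ m + e * j) =
      ((Units.map (algebraMap A B).toMonoidHom v * u ^ i : Bˣ) : B) * π ^ (e * i) := by
    simp only [Units.val_mul, Units.coe_map, Units.val_pow_eq_pow_val, pow_add, pow_mul]
    rw [show ((algebraMap A B).toMonoidHom (w : A)) = algebraMap A B w from rfl,
      show ((algebraMap A B).toMonoidHom (v : A)) = algebraMap A B v from rfl]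
    linear_combination (norm := ring) key
  have h3 := IsDiscreteValuationRing.unit_mul_pow_congr_pow hπ hπ _ _ _ _ key'
  exact ((Nat.dvd_prime_pow hp).mp ((Nat.dvd_add_left (dvd_mul_right e j)).mp
    (h3 ▸ dvd_mul_right e i))).imp fun k hk => hk.2

end Groth.Agent.S7133
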