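import Groth.Statements.S7134
import Groth.Agent.S2451
import Groth.Agent.H05EGA4.FSFlat
import Groth.Agent.H05EGA4.FlatFibreFS
import Groth.Agent.H05EGA4.FieldSmooth
import Groth.Agent.H05EGA4.FSBaseChange
import Groth.Agent.H4Depth.Regular

set_option autoImplicit false
universe u
open EtAlg

namespace Groth.Agent.S7134

/-- For an injective local homomorphism A → B of discrete valuation rings, A → B is formally smooth for
the adic topology of the maximal ideal of B if and only if A → B is weakly unramified and the
residue field of B is a separable (possibly transcendental, i.e. geometrically reduced) extension of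
the residue field of A. -/
theorem result (A B : Type u) [CommRing A]
    [IsDomain A] [IsDiscreteValuationRing A] [CommRing B] [IsDomain B] [IsDiscreteValuationRing B] [Algebra A B]
    (hinj : Function.Injective (algebraMap A B)) [IsLocalHom (algebraMap A B)] :
    CAlgX.IsAdicFormallySmooth A B (IsLocalRing.maximalIdeal B) ↔
      EtRam.IsWeaklyUnramified A B ∧
        Algebra.IsGeometricallyReduced (IsLocalRing.ResidueField A) (IsLocalRing.ResidueField B) := by
  let mA := IsLocalRing.maximalIdeal A
  let mB := IsLocalRing.maximalIdeal B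
  let I := mA.map (algebraMap A B)
  letI : Field (A ⧸ mA) := Ideal.Quotient.field mA
  have hIle : I ≤ mB := ((IsLocalRing.local_hom_TFAE (algebraMap A B)).out 0 2).mp ‹_›
  have hI0 : I ≠ ⊥ := fun h => IsDiscreteValuationRing.not_a_field A
    ((Ideal.map_eq_bot_iff_of_injective hinj).1 h)
  -- comparison of the fibre with the residue field
  have cmp : ∀ he : I = mB, Algebra.FormallySmooth (A ⧸ mA) (B ⧸ I) ↔
      Algebra.IsGeometricallyReduced (IsLocalRing.ResidueField A) (IsLocalRing.ResidueField B) := by
    intro he
    rw [← Groth.Agent.S2451.result]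
    let e : (B ⧸ I) ≃+* IsLocalRing.ResidueField B := Ideal.quotEquivOfEq he
    have hcomm : ∀ r : A ⧸ mA, e (algebraMap (A ⧸ mA) (B ⧸ I) r) =
        algebraMap (IsLocalRing.ResidueField A) (IsLocalRing.ResidueField B) r := by
      intro r
      obtain ⟨r, rfl⟩ := Ideal.Quotient.mk_surjective r
      rfl
    letI : Algebra (A ⧸ mA) (IsLocalRing.ResidueField B) :=
      (inferInstance : Algebra (IsLocalRing.ResidueField A) (IsLocalRing.ResidueField B))
    exact Algebra.FormallySmooth.iff_of_equiv (AlgEquiv.ofRingEquiv (f := e) hcomm)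
  constructor
  · intro h
    have hQ := Groth.Agent.H05EGA4.isAdicFormallySmooth_quotient_fibre mA mB h
    haveI : Nontrivial (B ⧸ I) := Ideal.Quotient.nontrivial_iff.mpr
      (ne_top_of_le_ne_top (IsLocalRing.maximalIdeal.isMaximal B).ne_top hIle)
    haveI : IsLocalRing (B ⧸ I) := .of_surjective' _ Ideal.Quotient.mk_surjective
    have hmax : mB.map (Ideal.Quotient.mk I) = IsLocalRing.maximalIdeal (B ⧸ I) :=
      ((IsLocalRing.map_maximalIdeal_of_surjective _ Ideal.Quotient.mk_surjective))
    have hQ' : CAlgX.IsAdicFormallySmooth (A ⧸ mA) (B ⧸ I) (IsLocalRing.maximalIdeal (B ⧸ I)) := hmax ▸ hQ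
    haveI : IsRegularLocalRing (B ⧸ I) :=
      (Groth.Agent.H05EGA4.isRegularLocalRing_of_isAdicFormallySmooth hQ').1
    haveI := Groth.Agent.H4Depth.isDomain_of_isRegularLocalRing (B ⧸ I)
    haveI : I.IsPrime := (Ideal.Quotient.isDomain_iff_prime I).1 inferInstance
    have he : I = mB := IsLocalRing.eq_maximalIdeal (IsPrime.to_maximal_ideal hI0)
    refine ⟨he, (cmp he).1 (Algebra.FormallySmooth.of_comp_surjective fun C _ _ J hJ ψ => ?_)⟩
    refine hQ C J hJ ψ ⟨1, fun x hx => ?_⟩
    have hx' : x ∈ I.map (Ideal.Quotient.mk I) := by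
      rw [pow_one] at hx
      exact Ideal.map_mono he.ge hx
    rw [Ideal.map_quotient_self, Ideal.mem_bot] at hx'
    rw [hx', map_zero]
  · rintro ⟨he, hr⟩
    haveI := (cmp he).2 hr
    haveI : FaithfulSMul A B := (faithfulSMul_iff_algebraMap_injective A B).2 hinj
    haveI : Module.Flat A B := by
      rw [Module.Flat.flat_iff_torsion_eq_bot_of_isBezout, ← Submodule.isTorsionFree_iff_torsion_eq_bot]
      infer_instance
    exact Groth.Agent.H05EGA4.isAdicFormallySmooth_of_flat_of_fibre
      (Groth.Agent.H05EGA4.isAdicFormallySmooth_of_formallySmooth _)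

end Groth.Agent.S7134
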