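import Groth.Statements.S7137
import Groth.Agent.H02CA.AuslanderBuchsbaum
import Groth.Agent.H8Props.FlatDepth

set_option autoImplicit false
universe u
open CategoryTheory
open CAlg

namespace Groth.Agent.S7137

/-- Take a Noetherian local ring R, an ideal I and a finite module E ≠ 0 over R/I. Suppose that R/I, as
an R-module, and E, as an R/I-module, both have finite projective dimension. Then E, as an R-module,
has finite projective dimension too, and it equals pd_R(R/I) + pd_{R/I}(E). -/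
theorem result (R : Type u) [CommRing R] [IsNoetherianRing R] [IsLocalRing R]
    (I : Ideal R) (E : Type u) [AddCommGroup E] [Module (R ⧸ I) E] [Module R E] [IsScalarTower R (R ⧸ I) E]
    [Module.Finite (R ⧸ I) E] [Nontrivial E]
    (h1 : projectiveDimension (ModuleCat.of R (R ⧸ I)) ≠ ⊤)
    (h2 : projectiveDimension (ModuleCat.of (R ⧸ I) E) ≠ ⊤) :
    projectiveDimension (ModuleCat.of R E) ≠ ⊤ ∧
      projectiveDimension (ModuleCat.of R E) =
        projectiveDimension (ModuleCat.of R (R ⧸ I)) + projectiveDimension (ModuleCat.of (R ⧸ I) E) := by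
  have : Nontrivial (R ⧸ I) := Module.nontrivial (R ⧸ I) E
  haveI : IsLocalRing (R ⧸ I) := .of_surjective' _ Ideal.Quotient.mk_surjective
  obtain ⟨a, ha⟩ := H02CA.AuslanderBuchsbaum.exists_pd_eq (A := R) (R ⧸ I) h1
  obtain ⟨b, hb⟩ := H02CA.AuslanderBuchsbaum.exists_pd_eq (A := R ⧸ I) E h2
  obtain ⟨ha1, ha2⟩ := H02CA.AuslanderBuchsbaum.pd_bounds_of_eq ha
  obtain ⟨hb1, hb2⟩ := H02CA.AuslanderBuchsbaum.pd_bounds_of_eq hb
  have h := H02CA.AuslanderBuchsbaum.hasProjectiveDimensionLT_restrict a ha1 b E hb1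
  have hne : projectiveDimension (ModuleCat.of R E) ≠ ⊤ :=
    (projectiveDimension_ne_top_iff _).mpr ⟨a + b, h⟩
  haveI : Module.Finite R E := Module.Finite.trans (R ⧸ I) E
  obtain ⟨c, hc⟩ := H02CA.AuslanderBuchsbaum.exists_pd_eq (A := R) E hne
  obtain ⟨hc1, hc2⟩ := H02CA.AuslanderBuchsbaum.pd_bounds_of_eq hc
  refine ⟨hne, ?_⟩
  have e1 := H02CA.AuslanderBuchsbaum.depth_eq_add a (R ⧸ I) ha1 ha2
  have e2 := H02CA.AuslanderBuchsbaum.depth_eq_add b E hb1 hb2
  have e3 := H02CA.AuslanderBuchsbaum.depth_eq_add c E hc1 hc2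
  have hs : Function.Surjective (algebraMap R (R ⧸ I)) := Ideal.Quotient.mk_surjective
  rw [H8Props.FlatDepth.depth_eq_of_surjective hs] at e2
  rw [H8Props.FlatDepth.depth_eq_of_surjective hs] at e2
  have hf1 : LocCoh.depth R E ≠ ⊤ := H4Depth.idealDepth_ne_top (H02CA.AuslanderBuchsbaum.smul_top_ne_top E)
  obtain ⟨t, ht⟩ := ENat.ne_top_iff_exists.mp hf1
  rw [e2, e3, ← ht] at e1
  norm_cast at e1
  rw [ha, hb, hc]
  norm_cast
  omega

end Groth.Agent.S7137
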