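import Groth.Statements.S7139
import Mathlib
import Groth.Agent.H9Ram.InertiaInvariants
import Groth.Agent.H9Hens.Local
-- import your own Groth.Agent.* helpers here

set_option autoImplicit false
universe u
open EtAlg
open scoped Pointwise TensorProduct

namespace Groth.Agent.S7139

/-- A is a discrete valuation ring, K its field of fractions, and L/K is finite Galois with Galois group
G. Write B for the integral closure of A in L, equipped with the induced G-action, m a maximal ideal
of B and I ⊆ G its inertia group. Denote by B' the integral closure of A inside the fixed field L^I,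
with a map to B compatible with L^I ⊆ L. Then the image of B' in B is the ring of invariants B^I,
and A → B'_{m'} is étale, where m' = m ∩ B'. -/
theorem result (A K L B : Type u) [CommRing A] [IsDomain A]
    [IsDiscreteValuationRing A] [Field K] [Field L] [Algebra A K] [IsFractionRing A K] [Algebra K L]
    [Algebra A L] [IsScalarTower A K L] [FiniteDimensional K L] [IsGalois K L]
    [CommRing B] [Algebra A B] [Algebra B L] [IsScalarTower A B L] [IsIntegralClosure B A L]
    [MulSemiringAction (L ≃ₐ[K] L) B]
    (hact : ∀ (σ : L ≃ₐ[K] L) (b : B), algebraMap B L (σ • b) = σ (algebraMap B L b))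
    (m : Ideal B) [m.IsMaximal]
    (B' : Type u) [CommRing B'] [Algebra A B'] [Algebra B' B] [IsScalarTower A B' B] [Algebra B' L]
    [IsScalarTower B' B L]
    [Algebra B' (IntermediateField.fixedField (m.inertia (L ≃ₐ[K] L)))]
    [IsScalarTower B' (IntermediateField.fixedField (m.inertia (L ≃ₐ[K] L))) L]
    [IsIntegralClosure B' A (IntermediateField.fixedField (m.inertia (L ≃ₐ[K] L)))] :
    (∀ b : B, (∀ σ ∈ m.inertia (L ≃ₐ[K] L), σ • b = b) ↔ b ∈ Set.range (algebraMap B' B)) ∧
      Algebra.Etale A (Localization.AtPrime (m.comap (algebraMap B' B))) := by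
  classical
  have hBL : Function.Injective (algebraMap B L) := IsIntegralClosure.algebraMap_injective B A L
  have hB'L' : Function.Injective (algebraMap B' (IntermediateField.fixedField (m.inertia (L ≃ₐ[K] L)))) := IsIntegralClosure.algebraMap_injective B' A (IntermediateField.fixedField (m.inertia (L ≃ₐ[K] L)))
  have hcomp : ∀ x : B', algebraMap B L (algebraMap B' B x) = ((algebraMap B' (IntermediateField.fixedField (m.inertia (L ≃ₐ[K] L))) x : (IntermediateField.fixedField (m.inertia (L ≃ₐ[K] L)))) : L) :=
    fun x => by
      rw [← IsScalarTower.algebraMap_apply B' B L, IsScalarTower.algebraMap_apply B' (IntermediateField.fixedField (m.inertia (L ≃ₐ[K] L))) L]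
      rfl
  have hinjB : Function.Injective (algebraMap B' B) := fun a b h => hB'L' (Subtype.ext (by
    rw [← hcomp, ← hcomp, h]))
  have hfix : ∀ (σ : (L ≃ₐ[K] L)), σ ∈ (m.inertia (L ≃ₐ[K] L)) → ∀ x : B', σ • algebraMap B' B x = algebraMap B' B x :=
    fun σ hσ x => hBL (by
      rw [hact, hcomp]
      exact (algebraMap B' (IntermediateField.fixedField (m.inertia (L ≃ₐ[K] L))) x).2 ⟨σ, hσ⟩)
  have : IsScalarTower A B' L := IsScalarTower.of_algebraMap_eq fun a => by
    rw [IsScalarTower.algebraMap_apply A B L, IsScalarTower.algebraMap_apply A B' B,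
      ← IsScalarTower.algebraMap_apply B' B L]
  have : IsScalarTower A B' (IntermediateField.fixedField (m.inertia (L ≃ₐ[K] L))) := IsScalarTower.of_algebraMap_eq fun a => Subtype.ext (by
    show algebraMap A L a = ((algebraMap B' (IntermediateField.fixedField (m.inertia (L ≃ₐ[K] L))) (algebraMap A B' a) : (IntermediateField.fixedField (m.inertia (L ≃ₐ[K] L)))) : L)
    rw [← hcomp, ← IsScalarTower.algebraMap_apply A B' B, ← IsScalarTower.algebraMap_apply A B L])
  have part1 : ∀ b : B, (∀ σ ∈ (m.inertia (L ≃ₐ[K] L)), σ • b = b) ↔ b ∈ Set.range (algebraMap B' B) := fun b => by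
    refine ⟨fun h => ?_, fun ⟨x, hx⟩ σ hσ => hx ▸ hfix σ hσ x⟩
    have hmem : algebraMap B L b ∈ (IntermediateField.fixedField (m.inertia (L ≃ₐ[K] L))) := fun σ => by
      show (σ : (L ≃ₐ[K] L)) (algebraMap B L b) = _
      rw [← hact, h σ σ.2]
    have hint : IsIntegral A (⟨algebraMap B L b, hmem⟩ : (IntermediateField.fixedField (m.inertia (L ≃ₐ[K] L)))) := by
      have h1 : IsIntegral A (algebraMap B L b) := IsIntegralClosure.isIntegral_iff.mpr ⟨b, rfl⟩
      exact (isIntegral_algHom_iff ((IntermediateField.fixedField (m.inertia (L ≃ₐ[K] L))).val.restrictScalars A) Subtype.val_injective).mp h1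
    obtain ⟨x, hx⟩ := (IsIntegralClosure.isIntegral_iff (A := B')).mp hint
    exact ⟨x, hBL (by rw [hcomp, hx])⟩
  refine ⟨part1, ?_⟩
  have : SMulCommClass (m.inertia (L ≃ₐ[K] L)) B' B := ⟨fun τ x b => by
    show (τ : (L ≃ₐ[K] L)) • (x • b) = x • ((τ : (L ≃ₐ[K] L)) • b)
    rw [Algebra.smul_def, Algebra.smul_def, smul_mul', hfix _ τ.2]⟩
  have : Algebra.IsInvariant B' B (m.inertia (L ≃ₐ[K] L)) :=
    ⟨fun b hb => (part1 b).mp fun σ hσ => hb ⟨σ, hσ⟩⟩
  have : IsDomain B' := hB'L'.isDomain _
  have hfin : Module.Finite A B' := IsIntegralClosure.finite A K (IntermediateField.fixedField (m.inertia (L ≃ₐ[K] L))) B'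
  have : IsDedekindDomain B' := IsIntegralClosure.isDedekindDomain A K (IntermediateField.fixedField (m.inertia (L ≃ₐ[K] L))) B'
  have hAB' : Function.Injective (algebraMap A B') := by
    have h : Function.Injective (algebraMap A L) := by
      rw [IsScalarTower.algebraMap_eq A K L]
      exact (algebraMap K L).injective.comp (IsFractionRing.injective A K)
    rw [IsScalarTower.algebraMap_eq A B' L] at h
    exact Function.Injective.of_comp h
  have : FaithfulSMul A B' := (faithfulSMul_iff_algebraMap_injective A B').mpr hAB'
  have : Module.Free A B' := inferInstance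
  have : Algebra.IsIntegral B' B := ⟨fun b =>
    have h1 : IsIntegral A b := (IsIntegralClosure.isIntegral_algebra A L).isIntegral b
    h1.tower_top⟩
  set p := m.comap (algebraMap B' B) with hp
  have hpmax : p.IsMaximal := Ideal.isMaximal_comap_of_isIntegral_of_isMaximal m
  let φ : {σ : (L ≃ₐ[K] L) // σ ∉ (m.inertia (L ≃ₐ[K] L))} → (B' →ₐ[A] B) := fun σ =>
    { toRingHom := (MulSemiringAction.toRingHom (L ≃ₐ[K] L) B σ.1).comp (algebraMap B' B)
      commutes' := fun a => hBL (by
        show algebraMap B L (σ.1 • algebraMap B' B (algebraMap A B' a)) = _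
        rw [hact, ← IsScalarTower.algebraMap_apply A B' B, ← IsScalarTower.algebraMap_apply A B L,
          IsScalarTower.algebraMap_apply A K L, AlgEquiv.commutes]) }
  have hunr : Algebra.FormallyUnramified A (Localization.AtPrime p) := by
    refine H9Ram.formallyUnramified_localization_of_separated φ (fun z hz1 hz => ?_) m fun σ => ?_
    · let e := Module.Free.chooseBasis A B'
      let eL : _ → L := fun j => algebraMap B L (algebraMap B' B (e j))
      have hind : LinearIndependent K eL := by
        rw [← LinearIndependent.iff_fractionRing A K]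
        exact e.linearIndependent.map' ((IsScalarTower.toAlgHom A B L).toLinearMap.comp
          (IsScalarTower.toAlgHom A B' B).toLinearMap)
          (LinearMap.ker_eq_bot.mpr (hBL.comp hinjB))
      obtain ⟨b, hb⟩ : ∃ b : _ → B, ∑ j, b j ⊗ₜ[A] e j = z := by
        clear hz1 hz
        induction z with
        | zero => exact ⟨0, by simp⟩
        | tmul x y => exact ⟨fun j => e.repr y j • x, by
            simp only [TensorProduct.smul_tmul]
            rw [← TensorProduct.tmul_sum, e.sum_repr]⟩
        | add a c ha hc =>
          obtain ⟨b₁, rfl⟩ := ha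
          obtain ⟨b₂, rfl⟩ := hc
          exact ⟨b₁ + b₂, by simp [TensorProduct.add_tmul, Finset.sum_add_distrib]⟩
      subst hb
      have hσ : ∀ σ : (L ≃ₐ[K] L), ∑ j, algebraMap B L (b j) * σ (eL j) = 0 := fun σ => by
        have key : ∑ j, b j * σ • algebraMap B' B (e j) = 0 := by
          by_cases hσ : σ ∈ (m.inertia (L ≃ₐ[K] L))
          · simp only [hfix σ hσ]
            simpa [map_sum, Algebra.TensorProduct.lift_tmul] using hz1
          · simpa [map_sum, Algebra.TensorProduct.lift_tmul, φ] using hz ⟨σ, hσ⟩
        simpa [eL, map_sum, map_mul, hact] using congrArg (algebraMap B L) key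
      refine Finset.sum_eq_zero fun j _ => ?_
      have h0 : algebraMap B L (b j) = 0 :=
        H9Ram.eq_zero_of_sum_mul_conj eL hind (fun j => algebraMap B L (b j)) hσ j
      rw [(map_eq_zero_iff _ hBL).mp h0, TensorProduct.zero_tmul]
    · by_contra hcon
      push_neg at hcon
      exact σ.2 (H9Ram.sub_mem_of_sub_mem_invariants (H := m.inertia (L ≃ₐ[K] L)) m (fun τ b => τ.2 b)
        (MulSemiringAction.toRingEquiv (L ≃ₐ[K] L) B σ.1) hcon)
  -- the localisation is a basic localisation
  have := H9Hens.finite_maximalSpectrum (R := A) B'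
  have := Fintype.ofFinite (MaximalSpectrum B')
  have hex : ∀ q : MaximalSpectrum B', ∃ g : B', g ∉ p ∧ (q.asIdeal ≠ p → g ∈ q.asIdeal) := fun q => by
    by_cases hq : q.asIdeal = p
    · exact ⟨1, fun h => hpmax.ne_top ((Ideal.eq_top_iff_one _).mpr h), fun h => absurd hq h⟩
    · obtain ⟨g, hg, hg'⟩ := SetLike.not_le_iff_exists.mp
        fun h => hq (q.isMaximal.eq_of_le hpmax.ne_top h)
      exact ⟨g, hg', fun _ => hg⟩
  choose g hg hg' using hex
  have hgp : ∏ q, g q ∈ p.primeCompl := fun h => by
    obtain ⟨q, -, hq⟩ := Ideal.IsPrime.prod_mem_iff.mp h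
    exact hg q hq
  have : IsLocalization.Away (∏ q, g q) (Localization.AtPrime p) := by
    have hkey : ∀ x ∈ p.primeCompl, IsUnit (algebraMap B' (Localization.Away (∏ q, g q)) x) := by
      intro x hx
      by_contra hnu
      obtain ⟨M, hM, hxM⟩ := exists_max_ideal_of_mem_nonunits hnu
      have hM' := (IsLocalization.isPrime_iff_isPrime_disjoint (Submonoid.powers (∏ q, g q)) _ M).mp
        hM.isPrime
      have hprime := hM'.1
      have hne : M.comap (algebraMap B' (Localization.Away (∏ q, g q))) ≠ ⊥ := fun h => hx (by
        have : x ∈ M.comap (algebraMap B' (Localization.Away (∏ q, g q))) := hxM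
        rw [h, Ideal.mem_bot] at this
        rw [this]; exact p.zero_mem)
      have hmax := hprime.isMaximal hne
      refine Set.disjoint_left.mp hM'.2 (Submonoid.mem_powers _) ?_
      by_cases hMp : M.comap (algebraMap B' (Localization.Away (∏ q, g q))) = p
      · exact absurd (hMp ▸ hxM : x ∈ p) hx
      · exact Ideal.mem_of_dvd _ (Finset.dvd_prod_of_mem g (Finset.mem_univ ⟨_, hmax⟩)) (hg' ⟨_, hmax⟩ hMp)
    have : IsLocalization p.primeCompl (Localization.Away (∏ q, g q)) :=
      IsLocalization.of_le (Submonoid.powers (∏ q, g q)) p.primeCompl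
        (Submonoid.powers_le.mpr hgp) hkey
    exact IsLocalization.isLocalization_of_algEquiv _
      (IsLocalization.algEquiv p.primeCompl (Localization.Away (∏ q, g q)) (Localization.AtPrime p))
  have : Algebra.FiniteType B' (Localization.AtPrime p) :=
    IsLocalization.finiteType_of_monoid_fg (Submonoid.powers (∏ q, g q)) _
  have : Algebra.FiniteType A (Localization.AtPrime p) :=
    Algebra.FiniteType.trans (S := B') inferInstance inferInstance
  have : Algebra.FinitePresentation A (Localization.AtPrime p) :=
    Algebra.FinitePresentation.of_finiteType.mp inferInstance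
  have : Module.Flat A (Localization.AtPrime p) := Module.Flat.trans A B' (Localization.AtPrime p)
  exact Algebra.Etale.of_formallyUnramified_of_flat

end Groth.Agent.S7139
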