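import Groth.Statements.S7140
import Mathlib.RingTheory.RootsOfUnity.Lemmas
import Mathlib.RingTheory.Polynomial.Cyclotomic.Roots
import Mathlib.NumberTheory.Wilson
import Mathlib.Data.Nat.Choose.Dvd
import Mathlib.RingTheory.AdjoinRoot
import Mathlib.RingTheory.Polynomial.GaussLemma
-- import your own Groth.Agent.* helpers here

set_option autoImplicit false
universe u
open EtAlg

namespace Groth.Agent.S7140


open Polynomial in
/-- The universal case. -/
theorem exists_poly_of_domain {p : ℕ} (hp : p.Prime) {R : Type} [CommRing R] [IsDomain R] [CharZero R] (ζ : R)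
    (hζ : (cyclotomic p R).IsRoot ζ) :
    ∃ (a : ℕ → R), (∀ i, a i ∈ Ideal.span {1 - ζ}) ∧
      C ((1 - ζ) ^ p) * (X ^ p - X + (Finset.Ioo 0 p).sum (fun i => C (a i) * X ^ i)) =
        (1 + C (1 - ζ) * X) ^ p - 1 := by
  classical
  haveI := Fact.mk hp
  have hprim : IsPrimitiveRoot ζ p := (isRoot_cyclotomic_iff_charZero hp.pos).1 hζ
  obtain ⟨q, rfl⟩ : ∃ q, p = q + 1 := Nat.exists_eq_succ_of_ne_zero hp.ne_zero
  set w := 1 - ζ with hw
  set u := ∏ k ∈ Finset.range q, ∑ j ∈ Finset.range (k + 1), ζ ^ j with hu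
  have hpu : ((q + 1 : ℕ) : R) = w ^ q * u := by
    rw [Nat.cast_add, Nat.cast_one, ← IsPrimitiveRoot.prod_one_sub_pow_eq_order hprim, hu,
      ← Finset.card_range q, ← Finset.prod_const, Finset.card_range, ← Finset.prod_mul_distrib]
    exact Finset.prod_congr rfl fun k _ => (mul_neg_geom_sum ζ (k + 1)).symm
  have hq : 1 ≤ q := by have := hp.two_le; omega
  have hu1 : u + 1 ∈ Ideal.span {w} := by
    have hz : Ideal.Quotient.mk (Ideal.span {w}) ζ = 1 := by
      rw [← map_one (Ideal.Quotient.mk (Ideal.span {w})), Ideal.Quotient.eq, Ideal.mem_span_singleton]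
      exact ⟨-1, by rw [hw]; ring⟩
    have h0 : Ideal.Quotient.mk (Ideal.span {w}) ((q + 1 : ℕ) : R) = 0 := by
      rw [Ideal.Quotient.eq_zero_iff_mem, hpu, Ideal.mem_span_singleton]
      exact Dvd.dvd.mul_right (dvd_pow_self w (by omega)) u
    have hdvd : (q + 1) ∣ Nat.factorial q + 1 := by
      refine (ZMod.natCast_eq_zero_iff _ _).1 ?_
      have := ZMod.wilsons_lemma (p := q + 1)
      rw [Nat.add_sub_cancel] at this
      rw [Nat.cast_add, this, Nat.cast_one, neg_add_cancel]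
    obtain ⟨c, hc⟩ := hdvd
    rw [← Ideal.Quotient.eq_zero_iff_mem, map_add, hu, map_prod]
    simp only [map_sum, map_pow, hz, one_pow, Finset.sum_const, Finset.card_range, nsmul_one, map_one]
    rw [← Nat.cast_prod, Finset.prod_range_add_one_eq_factorial, ← Nat.cast_one, ← Nat.cast_add, hc, Nat.cast_mul,
      ← map_natCast (Ideal.Quotient.mk (Ideal.span {w})) (q + 1), h0, zero_mul]
  let a : ℕ → R := fun i => if i = 1 then u + 1 else if 2 ≤ i ∧ i ≤ q then
    ((Nat.choose (q + 1) i / (q + 1) : ℕ) : R) * u * w ^ (i - 1) else 0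
  refine ⟨a, fun i => ?_, ?_⟩
  · simp only [a]
    split_ifs with h1 h2
    · exact hu1
    · exact Ideal.mem_span_singleton.2 (Dvd.dvd.mul_left (dvd_pow_self w (by omega)) _)
    · exact zero_mem _
  have hsplit : ∀ f : ℕ → R[X], (∑ m ∈ Finset.range (q + 1 + 1), f m) = f 0 + f (q + 1) + ∑ m ∈ Finset.Ioo 0 (q + 1), f m := fun f => by
    rw [Finset.sum_range_succ, Finset.range_eq_Ico, Finset.sum_eq_sum_Ico_succ_bot (by omega),
      show Finset.Ico (0 + 1) (q + 1) = Finset.Ioo 0 (q + 1) by ext m; simp [Nat.one_le_iff_ne_zero, Nat.pos_iff_ne_zero]]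
    ring
  rw [add_comm 1 (C w * X), add_pow, hsplit]
  simp only [one_pow, mul_one, pow_zero, Nat.choose_zero_right, Nat.choose_self, Nat.cast_one, mul_pow, ← C_pow]
  rw [mul_add, mul_sub, Finset.mul_sum]
  have h1 : 1 ∈ Finset.Ioo 0 (q + 1) := by simp; omega
  rw [← Finset.add_sum_erase _ _ h1, ← Finset.add_sum_erase _ _ h1]
  have hrest : ∀ i ∈ (Finset.Ioo 0 (q + 1)).erase 1, C (w ^ (q + 1)) * (C (a i) * X ^ i) =
      C (w ^ i) * X ^ i * (Nat.choose (q + 1) i : R[X]) := fun i hi => by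
    simp only [Finset.mem_erase, Finset.mem_Ioo] at hi
    have ha : a i = ((Nat.choose (q + 1) i / (q + 1) : ℕ) : R) * u * w ^ (i - 1) := by
      simp only [a]; rw [if_neg hi.1, if_pos ⟨by omega, by omega⟩]
    obtain ⟨c, hc⟩ := Nat.Prime.dvd_choose_self hp (k := i) (by omega) (by omega)
    have hc' : Nat.choose (q + 1) i / (q + 1) = c := by rw [hc]; exact Nat.mul_div_cancel_left _ (by omega)
    rw [ha, hc', hc, ← map_natCast (C : R →+* R[X]) ((q + 1) * c), ← mul_assoc, ← C_mul, mul_right_comm (C (w ^ i)), ← C_mul]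
    congr 2
    rw [Nat.cast_mul, hpu]
    have : w ^ (q + 1) * w ^ (i - 1) = w ^ i * w ^ q := by rw [← pow_add, ← pow_add]; congr 1; omega
    linear_combination (c : R) * u * this
  rw [Finset.sum_congr rfl hrest, show a 1 = u + 1 by simp [a], Nat.choose_one_right, pow_one, pow_one,
    ← map_natCast (C : R →+* R[X]) (q + 1), hpu]
  simp only [map_mul, map_add, map_pow, map_one]
  ring

open Polynomial in
/-- Let p be a prime and A a ring with an element ζ satisfying 1 + ζ + ... + ζ^(p-1) = 0 (so that A is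
an algebra over the ring of integers of the p-th cyclotomic field); set w = 1 - ζ. Then the
polynomial ((1 + wz)^p - 1)/w^p makes sense in A[z]: there is P in A[z] with w^p·P = (1 + wz)^p - 1,
of the form z^p - z + Σ_{0<i<p} a_i z^i with all a_i in the ideal (w), and P(z₁ + z₂ + w z₁ z₂) =
P(z₁) + P(z₂) + w^p P(z₁)P(z₂) for all z₁, z₂ in any A-algebra. (The published statement asks only
for a primitive p-th root of unity; this row asks that ζ be a root of the p-th cyclotomic
polynomial, the case its proof treats. With ζ only of multiplicative order p the published statement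
fails, for example for ζ = (1, e^{2πi/p}) in ℂ × ℂ.) -/
theorem result (p : ℕ) (hp : p.Prime) (A : Type u) [CommRing A] (ζ : A)
    (hζ : aeval ζ (cyclotomic p ℤ) = 0) :
    ∃ P : A[X], C ((1 - ζ) ^ p) * P = (1 + C (1 - ζ) * X) ^ p - 1 ∧
      (∃ a : ℕ → A, (∀ i, a i ∈ Ideal.span {1 - ζ}) ∧
        P = X ^ p - X + (Finset.Ioo 0 p).sum (fun i => C (a i) * X ^ i)) ∧
      ∀ (S : Type u) [CommRing S] [Algebra A S] (z₁ z₂ : S),
        aeval (z₁ + z₂ + algebraMap A S (1 - ζ) * z₁ * z₂) P =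
          aeval z₁ P + aeval z₂ P + algebraMap A S ((1 - ζ) ^ p) * aeval z₁ P * aeval z₂ P := by
  classical
  let R := AdjoinRoot (cyclotomic p ℤ)
  have hdeg : (cyclotomic p ℤ).degree ≠ 0 := (degree_cyclotomic_pos p ℤ hp.pos).ne'
  haveI : IsDomain R := AdjoinRoot.isDomain_of_prime (cyclotomic.irreducible hp.pos).prime
  haveI : CharZero R := charZero_of_injective_ringHom (AdjoinRoot.of.injective_of_degree_ne_zero hdeg)
  set r : R := AdjoinRoot.root (cyclotomic p ℤ) with hr
  obtain ⟨a, ha, hP⟩ := exists_poly_of_domain hp r (by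
    rw [← map_cyclotomic p (AdjoinRoot.of (cyclotomic p ℤ))]
    exact AdjoinRoot.isRoot_root _)
  set P₀ : R[X] := X ^ p - X + (Finset.Ioo 0 p).sum (fun i => C (a i) * X ^ i) with hP₀
  let φ : R →+* A := AdjoinRoot.lift (algebraMap ℤ A) ζ (by rw [← aeval_def]; exact hζ)
  have hφ : φ r = ζ := AdjoinRoot.lift_root _
  have hw : (1 - r) ≠ 0 := fun h => by
    have h1 : IsPrimitiveRoot r p := (isRoot_cyclotomic_iff_charZero hp.pos).1 (by
      rw [← map_cyclotomic p (AdjoinRoot.of (cyclotomic p ℤ))]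
      exact AdjoinRoot.isRoot_root _)
    exact h1.ne_one hp.one_lt (sub_eq_zero.1 h).symm
  refine ⟨P₀.map φ, ?_, ⟨fun i => φ (a i), fun i => ?_, ?_⟩, fun S _ _ z₁ z₂ => ?_⟩
  · have := congrArg (Polynomial.map φ) hP
    simpa [Polynomial.map_mul, Polynomial.map_pow, Polynomial.map_sub, Polynomial.map_add, hφ] using this
  · obtain ⟨c, hc⟩ := Ideal.mem_span_singleton.1 (ha i)
    exact Ideal.mem_span_singleton.2 ⟨φ c, by show φ (a i) = _; rw [hc, map_mul, map_sub, map_one, hφ]⟩
  · simp [hP₀, Polynomial.map_sum]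
  · letI : Algebra R A := φ.toAlgebra
    letI : Algebra R S := ((algebraMap A S).comp φ).toAlgebra
    haveI : IsScalarTower R A S := .of_algebraMap_eq' rfl
    have hev : ∀ z : S, aeval z (P₀.map φ) = aeval z P₀ := fun z => aeval_map_algebraMap A z P₀
    have halg : algebraMap A S (1 - ζ) = algebraMap R S (1 - r) := by
      show _ = algebraMap A S (φ (1 - r))
      rw [map_sub φ, map_one, hφ]
    rw [hev, hev, hev, map_pow, halg, ← map_pow]
    let Q := MvPolynomial (Fin 2) R
    let Z₀ : Q := MvPolynomial.X 0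
    let Z₁ : Q := MvPolynomial.X 1
    have key : aeval (Z₀ + Z₁ + algebraMap R Q (1 - r) * Z₀ * Z₁) P₀ =
        aeval Z₀ P₀ + aeval Z₁ P₀ + algebraMap R Q ((1 - r) ^ p) * aeval Z₀ P₀ * aeval Z₁ P₀ := by
      have hne : algebraMap R Q ((1 - r) ^ p) ≠ 0 := by
        rw [MvPolynomial.algebraMap_eq, Ne, MvPolynomial.C_eq_zero]
        exact pow_ne_zero _ hw
      refine mul_left_cancel₀ hne ?_
      have h : ∀ z : Q, algebraMap R Q ((1 - r) ^ p) * aeval z P₀ = (1 + algebraMap R Q (1 - r) * z) ^ p - 1 :=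
        fun z => by simpa using congrArg (aeval z) hP
      have h3 : 1 + algebraMap R Q (1 - r) * (Z₀ + Z₁ + algebraMap R Q (1 - r) * Z₀ * Z₁) =
          (1 + algebraMap R Q (1 - r) * Z₀) * (1 + algebraMap R Q (1 - r) * Z₁) := by ring
      have hs := h (Z₀ + Z₁ + algebraMap R Q (1 - r) * Z₀ * Z₁)
      rw [h3, mul_pow] at hs
      linear_combination hs - h Z₀ - h Z₁ - (algebraMap R Q ((1 - r) ^ p) * aeval Z₁ P₀) * h Z₀ -
        ((1 + algebraMap R Q (1 - r) * Z₀) ^ p - 1) * h Z₁
    have := congrArg (MvPolynomial.aeval ![z₁, z₂] : Q →ₐ[R] S) key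
    simpa [← aeval_algHom_apply, Z₀, Z₁, Q] using this

end Groth.Agent.S7140
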