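import Groth.Statements.S7141
import Groth.Agent.H9WE.Field
import Mathlib.Dynamics.Newton
-- import your own Groth.Agent.* helpers here

set_option autoImplicit false
universe u
open EtAlg

namespace Groth.Agent.S7141

/-- Let K be a field and, for a K-algebra A, let B_max(A) be its largest weakly étale K-subalgebra. (2)
For a K-subalgebra A' ⊆ A one has B_max(A') = B_max(A) ∩ A'. (4) The quotient map A → A_red =
A/nilradical restricts to a bijection B_max(A) → B_max(A_red). (6) If A ≠ 0 and its only idempotents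
are 0 and 1, then B_max(A) is a field, algebraic and separable over K. (The published statement
omits A ≠ 0; this row assumes it, since for A = 0 the largest weakly étale subalgebra is the zero
ring.) -/
theorem result (K : Type u) [Field K] (A : Type u) [CommRing A] [Algebra K A] :
    (∀ A' : Subalgebra K A,
      (EtAlgD.maxWeaklyEtale K A').map A'.val = EtAlgD.maxWeaklyEtale K A ⊓ A') ∧
    (Set.BijOn (Ideal.Quotient.mkₐ K (nilradical A)) (EtAlgD.maxWeaklyEtale K A)
      (EtAlgD.maxWeaklyEtale K (A ⧸ nilradical A))) ∧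
    ((∀ e : A, IsIdempotentElem e → e = 0 ∨ e = 1) → Nontrivial A →
      IsField (EtAlgD.maxWeaklyEtale K A) ∧ Algebra.IsSeparable K (EtAlgD.maxWeaklyEtale K A)) := by
  refine ⟨fun A' => ?_, ⟨fun x hx => ?_, fun x hx y hy h => ?_, fun z hz => ?_⟩, fun hidem hA => ?_⟩
  · ext x
    refine ⟨?_, fun ⟨h1, h2⟩ => ⟨⟨x, h2⟩, ?_, rfl⟩⟩
    · rintro ⟨y, hy, rfl⟩
      exact ⟨H9WE.mem_maxWeaklyEtale.mpr ((H9WE.mem_maxWeaklyEtale.mp hy).map A'.val), y.2⟩
    · exact H9WE.mem_maxWeaklyEtale.mpr
        (H9WE.IsSep.of_injective A'.val Subtype.val_injective (H9WE.mem_maxWeaklyEtale.mp h1))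
  · exact H9WE.mem_maxWeaklyEtale.mpr ((H9WE.mem_maxWeaklyEtale.mp hx).map _)
  · have h1 : x - y ∈ EtAlgD.maxWeaklyEtale K A := sub_mem hx hy
    have h2 : IsNilpotent (x - y) := Ideal.Quotient.eq.mp h
    obtain ⟨c, hc⟩ := (H9WE.isSep_of_mem_adjoin (s := (EtAlgD.maxWeaklyEtale K A : Set A))
      (fun b hb => H9WE.mem_maxWeaklyEtale.mp hb) (Algebra.subset_adjoin h1)).2
    obtain ⟨n, hn⟩ := h2
    have key : ∀ m : ℕ, x - y = (x - y) ^ (m + 1) * c ^ m := fun m => by
      induction m with
      | zero => simp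
      | succ m ih => calc x - y = (x - y) ^ (m + 1) * c ^ m := ih
          _ = (x - y) ^ m * ((x - y) * (x - y) * c) * c ^ m := by rw [← hc, pow_succ]
          _ = (x - y) ^ (m + 2) * c ^ (m + 1) := by ring
    exact sub_eq_zero.mp ((key n).trans (by rw [pow_succ, hn, zero_mul, zero_mul]))
  · obtain ⟨P, hP, hP0⟩ := H9WE.mem_maxWeaklyEtale.mp hz
    obtain ⟨a, rfl⟩ := Ideal.Quotient.mk_surjective z
    have hnil : IsNilpotent (Polynomial.aeval a P) := by
      refine mem_nilradical.mp (Ideal.Quotient.eq_zero_iff_mem.mp ?_)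
      show Ideal.Quotient.mkₐ K (nilradical A) (Polynomial.aeval a P) = 0
      rw [← Polynomial.aeval_algHom_apply]
      exact hP0
    have hu : IsUnit (Polynomial.aeval a (Polynomial.derivative P)) := by
      obtain ⟨u, v, huv⟩ := hP
      have h1 := congrArg (Polynomial.aeval a) huv
      rw [map_add, map_mul, map_mul, map_one] at h1
      have h2 : IsUnit (Polynomial.aeval a v * Polynomial.aeval a (Polynomial.derivative P)) := by
        rw [eq_sub_of_add_eq' h1]
        exact ((Commute.all _ _).isNilpotent_mul_left hnil).isUnit_one_sub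
      exact isUnit_of_mul_isUnit_right h2
    obtain ⟨r, ⟨hr1, hr2⟩, -⟩ := Polynomial.existsUnique_nilpotent_sub_and_aeval_eq_zero hnil hu
    exact ⟨r, H9WE.mem_maxWeaklyEtale.mpr ⟨P, hP, hr2⟩, Ideal.Quotient.eq.mpr
      (mem_nilradical.mpr (by rw [← neg_sub]; exact hr1.neg))⟩
  · haveI : Algebra.WeaklyEtale K (EtAlgD.maxWeaklyEtale K A) := by
      rw [H9WE.maxWeaklyEtale_eq]
      exact H9WE.weaklyEtale_subalgebra_iff.mpr le_rfl
    haveI : Nontrivial (EtAlgD.maxWeaklyEtale K A) := inferInstance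
    have hfield : IsField (EtAlgD.maxWeaklyEtale K A) := by
      refine ⟨⟨0, 1, zero_ne_one⟩, mul_comm, fun {a} ha => ?_⟩
      obtain ⟨c, hc⟩ := H9WE.vnr_of_weaklyEtale K _ a
      have hi : IsIdempotentElem ((a * c : EtAlgD.maxWeaklyEtale K A) : A) := by
        have : (a * c) * (a * c) = a * c := by
          rw [show (a * c) * (a * c) = (a * a * c) * c by ring, ← hc]
        exact congrArg Subtype.val this
      refine ⟨c, Subtype.ext ?_⟩
      rcases hidem _ hi with h | h
      · refine absurd ?_ ha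
        have h0 : a * c = 0 := Subtype.ext h
        rw [hc, mul_assoc, h0, mul_zero]
      · exact h
    refine ⟨hfield, ⟨fun x => ?_⟩⟩
    obtain ⟨P, hP, hP0⟩ := H9WE.isSep_of_weaklyEtale K x
    exact hP.of_dvd (minpoly.dvd _ _ hP0)

end Groth.Agent.S7141
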