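import Groth.Statements.S7144
import Mathlib.RingTheory.PrincipalIdealDomain

set_option autoImplicit false
universe u
open CAlg

namespace Groth.Agent.S7144

/-- (1) ⇔ (2): let R be a nonzero ring. Then for all a, b in R one of a, b divides the other if and only
if R is local and every finitely generated ideal of R is principal. (The further equivalence with
the total ordering of the set of ideals by inclusion is standard and not restated here.) -/
theorem result (R : Type u) [CommRing R] [Nontrivial R] :
    PreValuationRing R ↔ IsLocalRing R ∧ IsBezout R := by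
  constructor
  · intro h
    have hdiv : ∀ a b : R, a ∣ b ∨ b ∣ a := fun a b => by
      obtain ⟨c, hc⟩ := h.cond a b
      rcases hc with hc | hc
      · exact Or.inl ⟨c, hc.symm⟩
      · exact Or.inr ⟨c, hc.symm⟩
    refine ⟨IsLocalRing.of_nonunits_add ?_, IsBezout.iff_span_pair_isPrincipal.mpr ?_⟩
    · intro a b ha hb
      rcases hdiv a b with ⟨c, rfl⟩ | ⟨c, rfl⟩
      · intro hu
        rw [show a + a * c = a * (1 + c) by ring] at hu
        exact ha (isUnit_of_mul_isUnit_left hu)
      · intro hu
        rw [show b * c + b = b * (c + 1) by ring] at hu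
        exact hb (isUnit_of_mul_isUnit_left hu)
    · intro x y
      rcases hdiv x y with h | h
      · refine ⟨x, le_antisymm (Ideal.span_le.mpr ?_) (Ideal.span_mono (by simp))⟩
        rintro z (rfl | rfl)
        · exact Ideal.subset_span rfl
        · exact Ideal.mem_span_singleton.mpr h
      · refine ⟨y, le_antisymm (Ideal.span_le.mpr ?_) (Ideal.span_mono (by simp))⟩
        rintro z (rfl | rfl)
        · exact Ideal.mem_span_singleton.mpr h
        · exact Ideal.subset_span rfl
  · rintro ⟨_, _⟩
    refine ⟨fun a b => ?_⟩
    obtain ⟨d, hd⟩ := IsBezout.span_pair_isPrincipal a b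
    have hd' : Ideal.span {a, b} = Ideal.span {d} := hd
    obtain ⟨x, hx⟩ : d ∣ a := Ideal.mem_span_singleton.mp (hd' ▸ Ideal.subset_span (by simp))
    obtain ⟨y, hy⟩ : d ∣ b := Ideal.mem_span_singleton.mp (hd' ▸ Ideal.subset_span (by simp))
    obtain ⟨s, t, hst⟩ := Ideal.mem_span_pair.mp (hd' ▸ Ideal.mem_span_singleton_self d :
      d ∈ Ideal.span {a, b})
    have h0 : d * (1 - (s * x + t * y)) = 0 := by
      rw [hx, hy] at hst
      linear_combination -hst
    rcases IsLocalRing.isUnit_or_isUnit_of_isUnit_add
      (a := s * x + t * y) (b := 1 - (s * x + t * y)) (by simp) with h | h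
    · rcases IsLocalRing.isUnit_or_isUnit_of_isUnit_add h with h | h
      · obtain ⟨z, hz⟩ := isUnit_iff_exists_inv.mp (isUnit_of_mul_isUnit_right h)
        refine ⟨z * y, Or.inl ?_⟩
        rw [hx, hy]
        linear_combination (d * y) * hz
      · obtain ⟨z, hz⟩ := isUnit_iff_exists_inv.mp (isUnit_of_mul_isUnit_right h)
        refine ⟨z * x, Or.inr ?_⟩
        rw [hx, hy]
        linear_combination (d * x) * hz
    · have : d = 0 := h.mul_left_eq_zero.mp h0
      refine ⟨0, Or.inl ?_⟩
      rw [hy, this]; simp

end Groth.Agent.S7144
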