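import Groth.Statements.S7145
import Mathlib

set_option autoImplicit false
universe u
open CategoryTheory CategoryTheory.Limits
open CAlg

namespace Groth.Agent.S7145

/-- Let R be a ring and F a cochain complex of free R-modules that is zero in all sufficiently large
degrees. Given finitely many elements f_i of F, f_i lying in degree n_i, there is a subcomplex G of
F (a map of complexes G → F injective in every degree) through which every f_i passes, such that G
is zero outside a finite range of degrees and each term of G is a finitely generated free R-module. -/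
theorem result (R : Type u) [CommRing R]
    (F : CochainComplex (ModuleCat.{u} R) ℤ) (hfree : ∀ n : ℤ, Module.Free R (F.X n))
    (b : ℤ) (hb : ∀ n : ℤ, b < n → IsZero (F.X n))
    (N : ℕ) (deg : Fin N → ℤ) (f : ∀ i : Fin N, F.X (deg i)) :
    ∃ (G : CochainComplex (ModuleCat.{u} R) ℤ) (ι : G ⟶ F),
      (∀ n : ℤ, Function.Injective (ι.f n)) ∧
      (∃ a c : ℤ, ∀ n : ℤ, (n < a ∨ c < n) → IsZero (G.X n)) ∧
      (∀ n : ℤ, Module.Finite R (G.X n) ∧ Module.Free R (G.X n)) ∧
      ∀ i : Fin N, f i ∈ Set.range (ι.f (deg i)) := by
  classical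
  let Z : ℤ → Type u := fun n => Module.Free.ChooseBasisIndex R (F.X n)
  let β : ∀ n, Module.Basis (Z n) R (F.X n) := fun n => Module.Free.chooseBasis R (F.X n)
  let base : ∀ n, Finset (Z n) := fun n => Finset.univ.biUnion fun i : Fin N =>
    if h : deg i = n then ((β n).repr (h ▸ f i)).support else ∅
  let a : ℤ := (Finset.univ.image deg ∪ {b}).min' (by simp)
  have ha : ∀ i, a ≤ deg i := fun i => Finset.min'_le _ _ (by simp)
  have hbase : ∀ n, n < a → base n = ∅ := by
    intro n hn
    refine Finset.eq_empty_of_forall_notMem fun z hz => ?_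
    obtain ⟨i, -, hi⟩ := Finset.mem_biUnion.mp hz
    rw [dif_neg (fun h => absurd (ha i) (by omega))] at hi
    exact absurd hi (Finset.notMem_empty z)
  let step : (∀ n, Finset (Z n)) → ∀ n, Finset (Z n) := fun W n =>
    base n ∪ (W (n - 1)).biUnion fun z => ((β n).repr ((F.d (n - 1) n).hom (β (n - 1) z))).support
  let W : ℕ → ∀ n, Finset (Z n) := fun k => step^[k] base
  have hW : ∀ k n, W (k + 1) n = step (W k) n := fun k n => by
    show (step^[k + 1] base) n = _
    rw [Function.iterate_succ_apply']
  have hWempty : ∀ k n, n < a → W k n = ∅ := by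
    intro k
    induction k with
    | zero => exact hbase
    | succ k ih =>
      intro n hn
      rw [hW]
      simp only [step]
      rw [hbase n hn, ih (n - 1) (by omega)]
      simp
  have hstab : ∀ (k : ℕ) n, n < a + (k : ℤ) → W (k + 1) n = W k n := by
    intro k
    induction k with
    | zero => intro n hn; rw [hWempty 1 n (by omega), hWempty 0 n (by omega)]
    | succ k ih =>
      intro n hn
      rw [hW, hW]
      simp only [step]
      rw [ih (n - 1) (by omega)]
  have hbaseW : ∀ k n, base n ⊆ W k n := by
    intro k n
    cases k with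
    | zero => exact le_refl _
    | succ k => rw [hW]; exact Finset.subset_union_left
  let K : ℕ := (b - a + 1).toNat
  let B : ∀ n, Finset (Z n) := fun n => if n ≤ b then W K n else ∅
  let G' : ∀ n, Submodule R (F.X n) := fun n => Submodule.span R (β n '' (B n : Set (Z n)))
  have hsub : ∀ n, b < n → Subsingleton (F.X n) := fun n hn =>
    ModuleCat.subsingleton_of_isZero (hb n hn)
  have hmap : ∀ n, ∀ x ∈ G' n, (F.d n (n + 1)).hom x ∈ G' (n + 1) := by
    intro n x hx
    by_cases hn : n + 1 ≤ b
    swap
    · haveI := hsub (n + 1) (by omega)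
      rw [Subsingleton.elim ((F.d n (n + 1)).hom x) 0]
      exact zero_mem _
    refine (Submodule.span_le.mpr ?_ : G' n ≤ (G' (n + 1)).comap (F.d n (n + 1)).hom) hx
    rintro _ ⟨z, hz, rfl⟩
    rw [SetLike.mem_coe, Submodule.mem_comap, (β (n + 1)).mem_span_image]
    intro w hw
    simp only [B, if_pos hn, if_pos (show n ≤ b by omega), Finset.mem_coe] at hz ⊢
    rw [← hstab K (n + 1) (by simp only [K]; omega), hW]
    simp only [step]
    refine Finset.mem_union_right _ (Finset.mem_biUnion.mpr ?_)
    have key : ∀ m (hm : n = m), ∃ z' ∈ W K m,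
        w ∈ ((β (n + 1)).repr ((F.d m (n + 1)).hom (β m z'))).support := by
      rintro m rfl; exact ⟨z, hz, hw⟩
    exact key (n + 1 - 1) (by omega)
  let dG : ∀ n, ModuleCat.of R (G' n) ⟶ ModuleCat.of R (G' (n + 1)) := fun n =>
    ModuleCat.ofHom ((F.d n (n + 1)).hom.restrict (hmap n))
  have hsq : ∀ n, dG n ≫ dG (n + 1) = 0 := by
    intro n
    refine ModuleCat.hom_ext (LinearMap.ext fun x => Subtype.ext ?_)
    exact congr($(F.d_comp_d n (n + 1) (n + 1 + 1)) (x : F.X n))
  let G : CochainComplex (ModuleCat.{u} R) ℤ := CochainComplex.of _ dG hsq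
  let ι : G ⟶ F :=
    { f := fun n => ModuleCat.ofHom (G' n).subtype
      comm' := fun i j hij => by
        obtain rfl : i + 1 = j := hij
        simp only [G, CochainComplex.of_d]
        rfl }
  refine ⟨G, ι, fun n => Subtype.val_injective, ⟨a, b, fun n hn => ?_⟩, fun n => ⟨?_, ?_⟩, fun i => ?_⟩
  · have hBn : B n = ∅ := by
      rcases hn with h | h
      · simp only [B]
        split_ifs
        · exact hWempty K n h
        · rfl
      · exact if_neg (by omega)
    have : Subsingleton (G' n) := by
      have hbot : G' n = ⊥ := by simp [G', hBn]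
      rw [hbot]; infer_instance
    exact ModuleCat.isZero_of_subsingleton _
  · show Module.Finite R (G' n)
    exact Module.Finite.span_of_finite R ((B n).finite_toSet.image _)
  · show Module.Free R (G' n)
    have hli : LinearIndependent R fun z : (B n : Set (Z n)) => β n z :=
      (β n).linearIndependent.comp _ Subtype.val_injective
    have he : Submodule.span R (Set.range fun z : (B n : Set (Z n)) => β n z) = G' n := by
      simp only [G', Set.image_eq_range]
    exact Module.Free.of_basis ((Module.Basis.span hli).map (LinearEquiv.ofEq _ _ he))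
  · have hmem : f i ∈ G' (deg i) := by
      rw [(β (deg i)).mem_span_image]
      intro w hw
      have hle : deg i ≤ b := by
        by_contra h
        haveI := hsub (deg i) (by omega)
        rw [Subsingleton.elim (f i) 0, map_zero] at hw
        simp at hw
      simp only [B, if_pos hle, Finset.mem_coe]
      refine hbaseW K _ (Finset.mem_biUnion.mpr ⟨i, Finset.mem_univ _, ?_⟩)
      rw [dif_pos rfl]
      exact hw
    exact ⟨(⟨f i, hmem⟩ : G' (deg i)), rfl⟩

end Groth.Agent.S7145
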