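import Groth.Statements.S7146
import Groth.Agent.H02CA.SamuelBound

set_option autoImplicit false
universe u
open Filter
open CAlg

namespace Groth.Agent.S7146

/-- Let R be a Noetherian local ring of Krull dimension d and I the ideal generated by a system of
parameters g_1, ..., g_d (d elements of the maximal ideal generating an ideal with radical the
maximal ideal); let e_I be the multiplicity of I, i.e. d! times the top coefficient of the numerical
polynomial n ↦ length(R/I^(n+1)), equivalently the limit of d!·length(R/Iⁿ)/n^d. Then e_I ≤
length(R/I). (Stated for a natural number e equal to that limit.) -/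
theorem result (R : Type u) [CommRing R] [IsNoetherianRing R] [IsLocalRing R]
    (d : ℕ) (hd : ringKrullDim R = d) (g : Fin d → R) (hg : ∀ i, g i ∈ IsLocalRing.maximalIdeal R)
    (hsop : IsLocalRing.maximalIdeal R ≤ (Ideal.span (Set.range g)).radical) (e : ℕ)
    (he : Tendsto (fun n : ℕ => (d.factorial : ℝ) * ((Module.length R (R ⧸ Ideal.span (Set.range g) ^ n)).toNat : ℝ) / (n : ℝ) ^ d)
      atTop (nhds (e : ℝ))) :
    (e : ℕ∞) ≤ Module.length R (R ⧸ Ideal.span (Set.range g)) := by
  cases hL : Module.length R (R ⧸ Ideal.span (Set.range g)) with
  | top => exact le_top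
  | coe L =>
    exact Nat.cast_le.mpr (by exact_mod_cast Groth.Agent.H02CA.SamuelBound.le_of_tendsto_samuel g L hL (e : ℝ) he)

end Groth.Agent.S7146
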