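import Groth.Statements.S7147
import Groth.Agent.H02CA.SerreSplit
import Mathlib.Algebra.Module.FinitePresentation
import Mathlib.Algebra.Module.LocalizedModule.Basic
import Mathlib.LinearAlgebra.Matrix.Adjugate
import Mathlib.RingTheory.Localization.Away.Basic

set_option autoImplicit false
universe u
open CAlg

namespace Groth.Agent.S7147

open Groth.Agent.H02CA

/-- Let R be a ring, M a finitely presented R-module and x a maximal ideal of R with residue field κ(x);
write M(x) = M/xM and let B(x) ⊆ M(x) be the orthogonal of the image of Hom_R(M, R) in the dual of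
M(x), i.e. the classes of those m in M with φ(m) in x for every linear form φ on M, and V(x) =
M(x)/B(x). For s_1, ..., s_r in M the following are equivalent: (1) there is f in R, f not in x,
such that the map R_f^r → M_f given by the s_i is the inclusion of a direct summand; (2) the images
of s_1, ..., s_r in V(x) are linearly independent over κ(x). -/
theorem result (R : Type u) [CommRing R] (M : Type u)
    [AddCommGroup M] [Module R M] [Module.FinitePresentation R M] (x : Ideal R) [x.IsMaximal]
    (r : ℕ) (s : Fin r → M) :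
    let Mx := M ⧸ (x • ⊤ : Submodule R M)
    let Bx : Submodule (R ⧸ x) Mx :=
      Submodule.span (R ⧸ x) ((x • ⊤ : Submodule R M).mkQ '' {m : M | ∀ φ : M →ₗ[R] R, φ m ∈ x})
    (∃ f : R, f ∉ x ∧
      ∃ g : LocalizedModule (Submonoid.powers f) M →ₗ[Localization.Away f] (Fin r → Localization.Away f),
        g ∘ₗ Fintype.linearCombination (Localization.Away f)
            (fun i => LocalizedModule.mkLinearMap (Submonoid.powers f) M (s i)) = LinearMap.id) ↔
    LinearIndependent (R ⧸ x) (fun i => Bx.mkQ ((x • ⊤ : Submodule R M).mkQ (s i))) := by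
  intro Mx Bx
  classical
  let y : MaximalSpectrum R := ⟨x, inferInstance⟩
  have hp : x.IsPrime := inferInstance
  constructor
  · rintro ⟨f, hf, g, hg⟩
    let S := Submonoid.powers f
    let L := Localization.Away f
    have hlift : ∀ i, ∃ (φ : M →ₗ[R] R) (t : S), ∀ m, algebraMap R L (φ m) =
        (t : R) • g (LocalizedModule.mkLinearMap S M m) i := by
      intro i
      obtain ⟨φ, t, hφ⟩ := Module.FinitePresentation.exists_lift_of_isLocalizedModule S
        (Algebra.linearMap R L) ((LinearMap.proj i ∘ₗ g.restrictScalars R) ∘ₗ LocalizedModule.mkLinearMap S M)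
      exact ⟨φ, t, fun m ↦ LinearMap.congr_fun hφ m⟩
    choose φ t hφ using hlift
    have key : ∀ i j, algebraMap R L (φ i (s j)) = (t i : R) • (Pi.single j 1 : Fin r → L) i := by
      intro i j
      have h1 := LinearMap.congr_fun hg (Pi.single j 1)
      rw [LinearMap.comp_apply, Fintype.linearCombination_apply_single, one_smul] at h1
      rw [hφ i, h1]
      rfl
    have hnot : ∀ {a : R}, a ∈ S → a ∉ x := fun {a} ⟨k, hk⟩ hax ↦
      hf (hp.mem_of_pow_mem k ((show f ^ k = a from hk) ▸ hax))
    have hoff : ∀ i j, i ≠ j → φ i (s j) ∈ x := fun i j hij ↦ by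
      have h := key i j
      rw [Pi.single_eq_of_ne hij, smul_zero] at h
      obtain ⟨c, hc⟩ := (IsLocalization.map_eq_zero_iff S L _).mp h
      exact (hp.mem_or_mem (hc.symm ▸ x.zero_mem)).resolve_left (hnot c.2)
    have hdiag : ∀ i, φ i (s i) ∉ x := fun i hi ↦ by
      have h := key i i
      rw [Pi.single_eq_same, Algebra.smul_def, mul_one] at h
      obtain ⟨c, hc⟩ := (IsLocalization.eq_iff_exists S L).mp h
      exact (hp.mem_or_mem (show (c : R) * (t i : R) ∈ x from hc ▸ x.mul_mem_left _ hi)).elim
        (hnot c.2) (hnot (t i).2)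
    refine Fintype.linearIndependent_iff.mpr fun a ha i ↦ ?_
    choose c hc using fun j ↦ Ideal.Quotient.mk_surjective (a j)
    have h0 : SerreSplit.imq M y (∑ j, c j • s j) = 0 := by
      refine (map_sum _ _ _).trans (Eq.trans (Finset.sum_congr rfl fun j _ ↦ ?_) ha)
      rw [SerreSplit.imq_smul, hc]
      rfl
    have h1 : φ i (∑ j, c j • s j) ∈ x := (SerreSplit.imq_eq_zero_iff y _).mp h0 (φ i)
    rw [map_sum, ← Finset.add_sum_erase _ _ (Finset.mem_univ i),
      Submodule.add_mem_iff_left _ (sum_mem fun j hj ↦ by
        rw [map_smul]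
        exact x.mul_mem_left _ (hoff i j (Finset.ne_of_mem_erase hj).symm))] at h1
    rw [map_smul, smul_eq_mul] at h1
    rw [← hc i, Ideal.Quotient.eq_zero_iff_mem]
    exact (hp.mem_or_mem h1).resolve_right (hdiag i)
  · intro h
    obtain ⟨φ, hφ⟩ := SerreSplit.exists_dual r s y h
    let A : Matrix (Fin r) (Fin r) R := Matrix.of fun i j ↦ φ i (s j)
    have hA : A.map (Ideal.Quotient.mk x) = 1 := Matrix.ext fun i j ↦ by
      rw [Matrix.map_apply, Matrix.one_apply]
      refine (hφ i j).trans ?_
      simp [Pi.single_apply, eq_comm, y]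
    have hd : A.det ∉ x := fun hd ↦ by
      have h1 := Ideal.Quotient.eq_zero_iff_mem.mpr hd
      rw [RingHom.map_det, RingHom.mapMatrix_apply, hA, Matrix.det_one] at h1
      exact one_ne_zero h1
    refine ⟨A.det, hd, ?_⟩
    let S := Submonoid.powers A.det
    let L := Localization.Away A.det
    let ψ : Fin r → M →ₗ[R] R := fun i ↦ ∑ k, A.adjugate i k • φ k
    have hψ : ∀ i j, ψ i (s j) = if i = j then A.det else 0 := fun i j ↦ by
      have := congr_fun (congr_fun A.adjugate_mul i) j
      simp only [Matrix.mul_apply, Matrix.smul_apply, Matrix.one_apply, smul_eq_mul, mul_ite, mul_one,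
        mul_zero] at this
      simpa [ψ, A] using this
    obtain ⟨u, hu⟩ := (IsLocalization.map_units L (⟨A.det, Submonoid.mem_powers _⟩ : S)).exists_left_inv
    refine ⟨LinearMap.pi fun i ↦ u • IsLocalizedModule.mapExtendScalars S (LocalizedModule.mkLinearMap S M)
      (Algebra.linearMap R L) L (ψ i), ?_⟩
    refine LinearMap.pi_ext' fun j ↦ LinearMap.ext_ring ?_
    funext i
    simp only [LinearMap.comp_apply, LinearMap.pi_apply, LinearMap.single_apply, LinearMap.smul_apply,
      Fintype.linearCombination_apply_single, one_smul, LinearMap.id_apply]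
    rw [IsLocalizedModule.mapExtendScalars_apply_apply, IsLocalizedModule.map_apply,
      Algebra.linearMap_apply, hψ]
    by_cases hij : i = j
    · subst hij
      rw [if_pos rfl, Pi.single_eq_same, smul_eq_mul]
      exact hu
    · rw [if_neg hij, map_zero, smul_zero, Pi.single_eq_of_ne hij]

end Groth.Agent.S7147
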