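import Groth.Statements.S7148
import Mathlib.Algebra.Homology.DerivedCategory.Ext.EnoughProjectives
import Mathlib.Algebra.Homology.DerivedCategory.Ext.ExactSequences
import Mathlib.Algebra.Category.ModuleCat.Ext.HasExt
import Mathlib.Algebra.Category.ModuleCat.Projective
import Mathlib.Algebra.Homology.ShortComplex.ModuleCat
import Mathlib.RingTheory.Filtration

set_option autoImplicit false
universe u
open CategoryTheory
attribute [local instance] HasDerivedCategory.standard
open CAlg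

namespace Groth.Agent.S7148

open CategoryTheory CategoryTheory.Abelian

theorem exists_factor {A : Type u} [CommRing A] [IsNoetherianRing A] (I : Ideal A) (p : ℕ) :
    ∀ (M : Type u) [AddCommGroup M] [Module A M], Module.Finite A M → ∃ c : ℕ,
      ∀ (N : Type u) [AddCommGroup N] [Module A N] (n : ℕ), c ≤ n →
        ∀ e : Ext.{u} (ModuleCat.of A M) (ModuleCat.of A N) p,
          ∃ e' : Ext.{u} (ModuleCat.of A (I ^ n • ⊤ : Submodule A M))
              (ModuleCat.of A (I ^ (n - c) • ⊤ : Submodule A N)) p,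
            e'.comp (Ext.mk₀ (ModuleCat.ofHom (I ^ (n - c) • ⊤ : Submodule A N).subtype)) (add_zero p) =
              (Ext.mk₀ (ModuleCat.ofHom (I ^ n • ⊤ : Submodule A M).subtype)).comp e (zero_add p) := by
  induction p with
  | zero =>
    intro M _ _ _
    refine ⟨0, fun N _ _ n _ e ↦ ?_⟩
    obtain ⟨φ, rfl⟩ := (Ext.mk₀_bijective (ModuleCat.of A M) (ModuleCat.of A N)).2 e
    have hle : (I ^ n • ⊤ : Submodule A M) ≤ (I ^ (n - 0) • ⊤ : Submodule A N).comap φ.hom := by
      rw [← Submodule.map_le_iff_le_comap, Submodule.map_smul'']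
      exact smul_mono_right _ le_top
    refine ⟨Ext.mk₀ (ModuleCat.ofHom (φ.hom.restrict fun x hx ↦ hle hx)), ?_⟩
    rw [Ext.mk₀_comp_mk₀, Ext.mk₀_comp_mk₀]
    rfl
  | succ p ih =>
    intro M _ _ hM
    obtain ⟨r, π, hπ⟩ := Module.Finite.exists_fin' A M
    obtain ⟨c₁, hc₁⟩ := ih (LinearMap.ker π) inferInstance
    obtain ⟨c₂, hc₂⟩ := Ideal.exists_pow_inf_eq_pow_smul I (LinearMap.ker π)
    refine ⟨c₁ + c₂, fun N _ _ n hn e ↦ ?_⟩
    let S : ShortComplex (ModuleCat.{u} A) := ShortComplex.mk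
      (ModuleCat.ofHom (LinearMap.ker π).subtype) (ModuleCat.ofHom π)
      (ModuleCat.hom_ext (LinearMap.ext fun x ↦ x.2))
    have hS : S.ShortExact :=
      { exact := (ShortComplex.moduleCat_exact_iff S).2 fun x hx ↦ ⟨⟨x, hx⟩, rfl⟩
        mono_f := (ModuleCat.mono_iff_injective _).2 Subtype.val_injective
        epi_g := (ModuleCat.epi_iff_surjective _).2 hπ }
    have : Projective S.X₂ := (IsProjective.iff_projective (Fin r → A)).mp inferInstance
    obtain ⟨eK, heK⟩ := Ext.contravariant_sequence_exact₃ hS _ e (Ext.eq_zero_of_projective _)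
      (add_comm 1 p)
    obtain ⟨eK', heK'⟩ := hc₁ N (n - c₂) (by omega) eK
    let F₂ : Submodule A (Fin r → A) := I ^ n • ⊤
    let F₁ : Submodule A (LinearMap.ker π) := F₂.comap (LinearMap.ker π).subtype
    have hmap : Submodule.map π F₂ = (I ^ n • ⊤ : Submodule A M) := by
      rw [Submodule.map_smul'', Submodule.map_top, LinearMap.range_eq_top.mpr hπ]
    let T : ShortComplex (ModuleCat.{u} A) := ShortComplex.mk
      (ModuleCat.ofHom (X := F₁) (Y := F₂)
        ((LinearMap.ker π).subtype.restrict (p := F₁) (q := F₂) fun _ hx ↦ hx))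
      (ModuleCat.ofHom (X := F₂) (Y := (I ^ n • ⊤ : Submodule A M))
        (π.restrict (p := F₂) (q := (I ^ n • ⊤ : Submodule A M))
          fun (x : Fin r → A) hx ↦ hmap ▸ Submodule.mem_map_of_mem hx))
      (ModuleCat.hom_ext (LinearMap.ext fun x ↦ Subtype.ext x.1.2))
    have hT : T.ShortExact :=
      { exact := (ShortComplex.moduleCat_exact_iff T).2 fun x hx ↦
          ⟨⟨⟨x.1, congrArg Subtype.val hx⟩, x.2⟩, rfl⟩
        mono_f := (ModuleCat.mono_iff_injective _).2 fun x y hxy ↦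
          Subtype.ext (Subtype.ext (congrArg (fun z : F₂ ↦ z.1) hxy))
        epi_g := (ModuleCat.epi_iff_surjective _).2 fun y ↦ by
          obtain ⟨x, hx, hxy⟩ : y.1 ∈ Submodule.map π F₂ := by
            rw [hmap]
            exact y.2
          exact ⟨⟨x, hx⟩, Subtype.ext hxy⟩ }
    let ψ : T ⟶ S := ShortComplex.homMk (ModuleCat.ofHom F₁.subtype) (ModuleCat.ofHom F₂.subtype)
      (ModuleCat.ofHom (I ^ n • ⊤ : Submodule A M).subtype) rfl rfl
    have hF₁ : F₁ ≤ (I ^ (n - c₂) • ⊤ : Submodule A (LinearMap.ker π)) := fun x hx ↦ by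
      have h1 : x.1 ∈ (I ^ n • ⊤ : Submodule A (Fin r → A)) ⊓ LinearMap.ker π := ⟨hx, x.2⟩
      rw [hc₂ n (by omega)] at h1
      exact (Submodule.mem_smul_top_iff _ _ _).mpr
        (SetLike.le_def.mp (smul_mono_right _ inf_le_right) h1)
    have hle : (I ^ (n - c₂ - c₁) • ⊤ : Submodule A N) ≤ I ^ (n - (c₁ + c₂)) • ⊤ :=
      le_of_eq (by rw [show n - c₂ - c₁ = n - (c₁ + c₂) by omega])
    refine ⟨hT.extClass.comp (((Ext.mk₀ (ModuleCat.ofHom (Submodule.inclusion hF₁))).comp eK'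
      (zero_add p)).comp (Ext.mk₀ (ModuleCat.ofHom (Submodule.inclusion hle))) (add_zero p))
      (add_comm 1 p), ?_⟩
    rw [Ext.comp_assoc_of_third_deg_zero, Ext.comp_assoc_of_third_deg_zero, Ext.mk₀_comp_mk₀]
    rw [show (ModuleCat.ofHom (Submodule.inclusion hle) ≫
        ModuleCat.ofHom (I ^ (n - (c₁ + c₂)) • ⊤ : Submodule A N).subtype) =
        ModuleCat.ofHom (I ^ (n - c₂ - c₁) • ⊤ : Submodule A N).subtype from rfl,
      Ext.comp_assoc_of_third_deg_zero, heK', Ext.mk₀_comp_mk₀_assoc]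
    change hT.extClass.comp ((Ext.mk₀ ψ.τ₁).comp eK (zero_add p)) (add_comm 1 p) =
      (Ext.mk₀ ψ.τ₃).comp e (zero_add (p + 1))
    rw [← heK, ← Ext.comp_assoc (a₁₂ := 1) _ _ _ (add_zero 1) (zero_add p) (by omega),
      ShortComplex.ShortExact.extClass_naturality hT hS ψ,
      Ext.comp_assoc (a₂₃ := p + 1) _ _ _ (zero_add 1) (add_comm 1 p) (by omega)]

attribute [local instance] HasDerivedCategory.standard

/-- Let A be a Noetherian ring, I an ideal, M a finite A-module and N any A-module. For every p > 0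
there is c ≥ 0 such that for all n ≥ c the map Ext^p_A(M, N) → Ext^p_A(IⁿM, N) factors through
Ext^p_A(IⁿM, I^(n-c)N) → Ext^p_A(IⁿM, N). Here Ext^p(X, Y) is the group of morphisms X → Y[p] in
D(A). -/
theorem result (A : Type u) [CommRing A] [IsNoetherianRing A] (I : Ideal A)
    (M N : Type u) [AddCommGroup M] [Module A M] [Module.Finite A M] [AddCommGroup N] [Module A N]
    (p : ℕ) (hp : 0 < p) :
    ∃ c : ℕ, ∀ n : ℕ, c ≤ n →
      ∀ e : Dual.inD A M ⟶ (Dual.inD A N)⟦(p : ℤ)⟧,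
        ∃ e' : Dual.inD A ↥(I ^ n • ⊤ : Submodule A M) ⟶ (Dual.inD A ↥(I ^ (n - c) • ⊤ : Submodule A N))⟦(p : ℤ)⟧,
          e' ≫ ((DerivedCategory.singleFunctor (ModuleCat.{u} A) 0).map
                  (ModuleCat.ofHom (I ^ (n - c) • ⊤ : Submodule A N).subtype))⟦(p : ℤ)⟧' =
            (DerivedCategory.singleFunctor (ModuleCat.{u} A) 0).map
                (ModuleCat.ofHom (I ^ n • ⊤ : Submodule A M).subtype) ≫ e := by
  obtain ⟨c, hc⟩ := exists_factor I p M inferInstance
  refine ⟨c, fun n hn e ↦ ?_⟩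
  obtain ⟨e', he'⟩ := hc N n hn (Ext.homEquiv.symm e)
  refine ⟨e'.hom, ?_⟩
  have := congrArg (fun x : Ext.{u} _ _ p ↦ x.hom) he'
  simp only [Ext.comp_hom, Ext.mk₀_hom, ShiftedHom.comp_mk₀, ShiftedHom.mk₀_comp] at this
  refine this.trans (congrArg _ ?_)
  exact Ext.homEquiv.apply_symm_apply e

end Groth.Agent.S7148
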