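import Groth.Statements.S7149
import Groth.Agent.H02CA.PseudoExt

set_option autoImplicit false
universe u
open CategoryTheory
attribute [local instance] HasDerivedCategory.standard
open CAlg

namespace Groth.Agent.S7149

open Groth.Agent.H02CA CategoryTheory

/-- Let A be a Noetherian ring, I an ideal, K a pseudo-coherent object of D(A) and M a finite A-module.
For each integer p there is c such that for all n ≥ c the image of Ext^p_A(K, IⁿM) → Ext^p_A(K, M)
is contained in I^(n-c)·Ext^p_A(K, M); here Ext^p(K, X) = Hom_{D(A)}(K, X[p]) with its natural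
A-module structure. -/
theorem result (A : Type u) [CommRing A] [IsNoetherianRing A] (I : Ideal A)
    (K : Dual.D A) (hK : DRing.IsPseudoCoherent' A K) (M : Type u) [AddCommGroup M] [Module A M] [Module.Finite A M]
    (p : ℤ) :
    ∃ c : ℕ, ∀ n : ℕ, c ≤ n →
      ∀ e : K ⟶ (Dual.inD A ↥(I ^ n • ⊤ : Submodule A M))⟦p⟧,
        e ≫ ((DerivedCategory.singleFunctor (ModuleCat.{u} A) 0).map
              (ModuleCat.ofHom (I ^ n • ⊤ : Submodule A M).subtype))⟦p⟧' ∈
          (I ^ (n - c) • ⊤ : Submodule A (K ⟶ (Dual.inD A M)⟦p⟧)) := by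
  obtain ⟨E, b, hb, hf, ⟨e⟩⟩ := hK
  have := PseudoExt.isKProjective E b hb hf
  have := (hf (-p)).1
  have := (hf (-p)).2
  obtain ⟨c, hc⟩ := PseudoExt.exists_artinRees E (-p) M I (-p - 1)
  refine ⟨c, fun n hn φ ↦ ?_⟩
  obtain ⟨z, rfl⟩ := PseudoExt.Φ_surjective _ e (add_neg_cancel p) φ
  rw [← PseudoExt.Φ_naturality _ e (add_neg_cancel p)]
  have hmem := hc n hn _ (PseudoExt.comp_mem_ker E (-p) (I ^ n • ⊤ : Submodule A M).subtype z.2)
    (PseudoExt.mem_smul_top E (-p) M (I ^ n)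
      ((I ^ n • ⊤ : Submodule A M).subtype ∘ₗ z.1) fun x ↦ (z.1 x).2)
  have h2 : (⟨_, PseudoExt.comp_mem_ker E (-p) (I ^ n • ⊤ : Submodule A M).subtype z.2⟩ :
      LinearMap.ker (PseudoExt.pre E (-p - 1) (-p) M)) ∈ (I ^ (n - c) • ⊤ : Submodule A _) :=
    Submodule.mem_smul_top_iff _ _ _ |>.mpr hmem
  have h3 := Submodule.mem_map_of_mem (f := PseudoExt.Φ M e (add_neg_cancel p)) h2
  rw [Submodule.map_smul''] at h3
  exact SetLike.le_def.mp (smul_mono_right _ le_top) h3

end Groth.Agent.S7149
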