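import Groth.Statements.S7150
import Groth.Agent.H05EGA4.CohenSmooth
import Groth.Agent.H05EGA4.FieldSep
import Mathlib.Algebra.CharP.Algebra
-- import your own Groth.Agent.* helpers here

set_option autoImplicit false
universe u
open EtAlg

namespace Groth.Agent.S7150

/-- Suppose p is a prime with p·1 = 0 in the local ring A and some power of the maximal ideal of A is
zero. Then the residue map A → κ_A has a section σ : κ_A → A that is a ring map. If moreover A → A'
is a local homomorphism to another local ring whose maximal ideal has a vanishing power, and the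
residue field extension κ_{A'}/κ_A is separable (possibly transcendental, i.e. geometrically
reduced), then for any such σ there is a section σ' : κ_{A'} → A' compatible with σ. -/
theorem result (p : ℕ) (hp : p.Prime) (A : Type u) [CommRing A]
    [IsLocalRing A] [CharP A p] (hnil : ∃ n : ℕ, IsLocalRing.maximalIdeal A ^ n = ⊥) :
    (∃ σ : IsLocalRing.ResidueField A →+* A, (IsLocalRing.residue A).comp σ = RingHom.id _) ∧
    ∀ (A' : Type u) [CommRing A'] [IsLocalRing A'] [Algebra A A'] [IsLocalHom (algebraMap A A')],
      (∃ n : ℕ, IsLocalRing.maximalIdeal A' ^ n = ⊥) →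
      Algebra.IsGeometricallyReduced (IsLocalRing.ResidueField A) (IsLocalRing.ResidueField A') →
      ∀ σ : IsLocalRing.ResidueField A →+* A, (IsLocalRing.residue A).comp σ = RingHom.id _ →
        ∃ σ' : IsLocalRing.ResidueField A' →+* A', (IsLocalRing.residue A').comp σ' = RingHom.id _ ∧
          σ'.comp (IsLocalRing.ResidueField.map (algebraMap A A')) = (algebraMap A A').comp σ := by
  haveI := Fact.mk hp
  refine ⟨?_, fun A' _ _ _ _ hn hsep σ hσ => ?_⟩
  · letI : Algebra (ZMod p) A := ZMod.algebra A p
    letI : Algebra (ZMod p) (IsLocalRing.ResidueField A) := ((IsLocalRing.residue A).comp (algebraMap (ZMod p) A)).toAlgebra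
    haveI : Algebra.FormallySmooth (ZMod p) (IsLocalRing.ResidueField A) :=
      Groth.Agent.H05EGA4.formallySmooth_of_perfectField (ZMod p) (IsLocalRing.ResidueField A)
    let g : A →ₐ[ZMod p] IsLocalRing.ResidueField A := ⟨IsLocalRing.residue A, fun _ => rfl⟩
    have hg : IsNilpotent (RingHom.ker (g : A →+* IsLocalRing.ResidueField A)) := by
      rw [show (g : A →+* IsLocalRing.ResidueField A) = IsLocalRing.residue A from rfl, IsLocalRing.ker_residue]
      exact hnil
    let s := Algebra.FormallySmooth.liftOfSurjective (AlgHom.id (ZMod p) _) g IsLocalRing.residue_surjective hg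
    exact ⟨s.toRingHom, congrArg AlgHom.toRingHom
      (Algebra.FormallySmooth.comp_liftOfSurjective (AlgHom.id (ZMod p) _) g IsLocalRing.residue_surjective hg)⟩
  · letI : Algebra (IsLocalRing.ResidueField A) A' := ((algebraMap A A').comp σ).toAlgebra
    haveI : Algebra.FormallySmooth (IsLocalRing.ResidueField A) (IsLocalRing.ResidueField A') :=
      Groth.Agent.H05EGA4.FieldSep.formallySmooth_of_isGeometricallyReduced _ _
    let g : A' →ₐ[IsLocalRing.ResidueField A] IsLocalRing.ResidueField A' :=
      { IsLocalRing.residue A' with
        commutes' := fun x => by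
          show IsLocalRing.residue A' (algebraMap A A' (σ x)) = _
          conv_rhs => rw [← show IsLocalRing.residue A (σ x) = x from RingHom.congr_fun hσ x]
          exact (IsLocalRing.ResidueField.map_residue (algebraMap A A') (σ x)).symm }
    have hg : IsNilpotent (RingHom.ker (g : A' →+* IsLocalRing.ResidueField A')) := by
      rw [show (g : A' →+* IsLocalRing.ResidueField A') = IsLocalRing.residue A' from rfl, IsLocalRing.ker_residue]
      exact hn
    let s := Algebra.FormallySmooth.liftOfSurjective (AlgHom.id (IsLocalRing.ResidueField A) _) g IsLocalRing.residue_surjective hg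
    exact ⟨s.toRingHom, congrArg AlgHom.toRingHom
      (Algebra.FormallySmooth.comp_liftOfSurjective (AlgHom.id (IsLocalRing.ResidueField A) _) g IsLocalRing.residue_surjective hg),
      RingHom.ext fun x => s.commutes x⟩

end Groth.Agent.S7150
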