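import Groth.Statements.S7152
import Mathlib
-- import your own Groth.Agent.* helpers here

set_option autoImplicit false
universe u
open EtAlg

namespace Groth.Agent.S7152


theorem exists_uniform_denominator (A' A : Type u) [CommRing A'] [CommRing A] [Algebra A' A]
    [Module.Finite A' A] (f : A') (hf : algebraMap A' A f ∈ nonZeroDivisors A)
    (hloc : Function.Surjective (IsLocalization.Away.map (Localization.Away f)
      (Localization.Away (algebraMap A' A f)) (algebraMap A' A) f)) :
    ∃ c : ℕ, ∀ a : A, ∃ x : A', algebraMap A' A x = algebraMap A' A f ^ c * a := by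
  set F := algebraMap A' A f
  have h1 : ∀ a : A, ∃ (c : ℕ) (x : A'), algebraMap A' A x = F ^ c * a := by
    intro a
    obtain ⟨y, hy⟩ := hloc (algebraMap A (Localization.Away F) a)
    obtain ⟨⟨x, ⟨_, k, rfl⟩⟩, hx⟩ := IsLocalization.surj (Submonoid.powers f) y
    have h2 := congrArg (IsLocalization.Away.map (Localization.Away f) (Localization.Away F) (algebraMap A' A) f) hx
    have hcomp : ∀ z : A', IsLocalization.Away.map (Localization.Away f) (Localization.Away F) (algebraMap A' A) f
        (algebraMap A' (Localization.Away f) z) = algebraMap A (Localization.Away F) (algebraMap A' A z) := fun z =>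
      IsLocalization.map_eq _ z
    rw [map_mul, hy, hcomp, hcomp, ← map_mul] at h2
    obtain ⟨⟨_, l, rfl⟩, hl⟩ := IsLocalization.exists_of_eq (M := Submonoid.powers F) h2
    refine ⟨k, x, ((pow_mem hf l).1 _ ?_ : _) |> fun e => (sub_eq_zero.mp e).symm⟩
    have hk : algebraMap A' A (f ^ k) = F ^ k := map_pow _ _ _
    simp only [hk] at hl
    rw [mul_sub, sub_eq_zero, ← hl, mul_comm a]
  obtain ⟨s, hs⟩ := Module.Finite.fg_top (R := A') (M := A)
  choose c x hcx using h1
  refine ⟨s.sup c, fun a => ?_⟩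
  have ha : a ∈ Submodule.span A' (s : Set A) := hs ▸ Submodule.mem_top
  induction ha using Submodule.span_induction with
  | mem y hy => exact ⟨f ^ (s.sup c - c y) * x y, by
      rw [map_mul, map_pow, hcx, ← mul_assoc, ← pow_add, Nat.sub_add_cancel (Finset.le_sup hy)]⟩
  | zero => exact ⟨0, by simp⟩
  | add y z _ _ hy hz =>
    obtain ⟨u, hu⟩ := hy; obtain ⟨v, hv⟩ := hz
    exact ⟨u + v, by rw [map_add, hu, hv, mul_add]⟩
  | smul r y _ hy =>
    obtain ⟨u, hu⟩ := hy
    exact ⟨r * u, by rw [map_mul, hu, Algebra.smul_def]; ring⟩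

/-- Let A' ⊆ A be an extension of rings and f an element of A'. Assume A is finite over A', f is a
nonzerodivisor on A, and A'_f = A_f. Then there is n₀ > 0 such that for all n ≥ n₀ the following
holds: given a ring B', a nonzerodivisor g of B' and an isomorphism φ' : A'/fⁿA' → B'/gⁿB' sending
the class of f to the class of g, one can find a ring B containing B' as a subring and finite as a
B'-module, together with a ring isomorphism φ : A/fA → B/gB that agrees with φ' (i.e. the square
formed by the maps A'/fⁿA' → A/fA and B'/gⁿB' → B/gB commutes). -/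
theorem result (A' A : Type u) [CommRing A'] [CommRing A] [Algebra A' A]
    (hinj : Function.Injective (algebraMap A' A)) [Module.Finite A' A] (f : A')
    (hf : algebraMap A' A f ∈ nonZeroDivisors A)
    (hloc : Function.Bijective (IsLocalization.Away.map (Localization.Away f)
      (Localization.Away (algebraMap A' A f)) (algebraMap A' A) f)) :
    ∃ n₀ : ℕ, 0 < n₀ ∧ ∀ n : ℕ, n₀ ≤ n →
      ∀ (B' : Type u) [CommRing B'] (g : B'), g ∈ nonZeroDivisors B' →
        ∀ φ' : (A' ⧸ Ideal.span {f ^ n}) ≃+* (B' ⧸ Ideal.span {g ^ n}),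
        φ' (Ideal.Quotient.mk (Ideal.span {f ^ n}) f) = Ideal.Quotient.mk (Ideal.span {g ^ n}) g →
        ∃ (B : Type u) (_ : CommRing B) (_ : Algebra B' B),
          Function.Injective (algebraMap B' B) ∧ Module.Finite B' B ∧
          ∃ φ : (A ⧸ Ideal.span {algebraMap A' A f}) ≃+* (B ⧸ Ideal.span {algebraMap B' B g}),
            ∀ (a' : A') (b' : B'),
              φ' (Ideal.Quotient.mk (Ideal.span {f ^ n}) a') = Ideal.Quotient.mk (Ideal.span {g ^ n}) b' →
              φ (Ideal.Quotient.mk (Ideal.span {algebraMap A' A f}) (algebraMap A' A a')) =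
                Ideal.Quotient.mk (Ideal.span {algebraMap B' B g}) (algebraMap B' B b') := by
  classical
  obtain ⟨c, hc⟩ := exists_uniform_denominator A' A f hf hloc.2
  refine ⟨2 * c + 1, Nat.succ_pos _, fun n hn B' _ g hg φ' hφ => ?_⟩
  obtain ⟨m, rfl⟩ := Nat.exists_eq_add_of_le hn
  choose h hh using hc
  set F := algebraMap A' A f with hF
  generalize hndef : 2 * c + 1 + m = n at φ' hφ ⊢
  let L := Localization.Away g
  let ι : B' →+* L := algebraMap B' L
  have hι : Function.Injective ι :=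
    IsLocalization.injective L (Submonoid.powers_le.mpr hg)
  have hu : IsUnit (ι (g ^ c)) := by
    rw [map_pow]; exact (IsLocalization.Away.algebraMap_isUnit g).pow c
  let u : L := ↑hu.unit⁻¹
  have hug : ι (g ^ c) * u = 1 := hu.mul_val_inv
  choose X hX using fun a => Ideal.Quotient.mk_surjective (φ' (Ideal.Quotient.mk _ (h a)))
  choose ψ hψ using fun b' : B' => Ideal.Quotient.mk_surjective (φ'.symm (Ideal.Quotient.mk (Ideal.span {g ^ n}) b'))
  have hψ' : ∀ b', φ' (Ideal.Quotient.mk _ (ψ b')) = Ideal.Quotient.mk _ b' := fun b' => by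
    rw [hψ, φ'.apply_symm_apply]
  have hφk : ∀ k : ℕ, φ' (Ideal.Quotient.mk _ (f ^ k)) = Ideal.Quotient.mk _ (g ^ k) := fun k => by
    rw [map_pow, map_pow, hφ, map_pow]
  let bb : A → L := fun a => ι (X a) * u
  -- congruences in `B'`
  have keyB : ∀ x y : B', Ideal.Quotient.mk (Ideal.span {g ^ n}) x = Ideal.Quotient.mk _ y →
      ∃ z, x = y + g ^ n * z := fun x y e => by
    obtain ⟨z, hz⟩ := Ideal.mem_span_singleton'.mp (Ideal.Quotient.eq.mp e)
    exact ⟨z, by rw [mul_comm, hz]; abel⟩
  have hsplit : ∀ z, ι (g ^ n * z) * u = ι (g ^ (c + 1 + m) * z) := fun z => by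
    rw [show g ^ n * z = g ^ c * (g ^ (c + 1 + m) * z) by rw [← hndef]; ring, map_mul, mul_right_comm, hug, one_mul]
  have hhadd : ∀ a a', h (a + a') = h a + h a' := fun a a' => hinj (by rw [map_add, hh, hh, hh, mul_add])
  have hhalg : ∀ (r : A') (a : A), h (algebraMap A' A r * a) = r * h a := fun r a => hinj (by
    rw [map_mul, hh, hh]; ring)
  have hhmul : ∀ a a', h a * h a' = f ^ c * h (a * a') := fun a a' => hinj (by
    rw [map_mul, map_mul, map_pow, hh, hh, hh, ← hF]; ring)
  have hadd : ∀ a a', ∃ z, bb (a + a') = bb a + bb a' + ι (g ^ (c + 1 + m) * z) := fun a a' => by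
    obtain ⟨z, hz⟩ := keyB (X (a + a')) (X a + X a') (by
      rw [map_add, hX, hX, hX, hhadd, map_add, map_add])
    refine ⟨z, ?_⟩
    simp only [bb, hz, map_add, add_mul, hsplit]
  have hmul : ∀ a a', ∃ z, bb (a * a') = bb a * bb a' + ι (g ^ (1 + m) * z) := fun a a' => by
    obtain ⟨z, hz⟩ := keyB (g ^ c * X (a * a')) (X a * X a') (by
      rw [map_mul, map_mul, ← hφk, hX, hX, hX, ← map_mul, ← map_mul, ← map_mul, ← map_mul, hhmul])
    refine ⟨z, ?_⟩
    have h2 : ι (g ^ c * X (a * a')) * (u * u) = ι (X a) * ι (X a') * (u * u) + ι (g ^ n * z) * (u * u) := by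
      rw [hz, map_add, map_mul, add_mul]
    rw [← mul_assoc, map_mul, mul_right_comm (ι (g ^ c)), hug, one_mul, ← mul_assoc (ι (g ^ n * z)), hsplit,
      show g ^ (c + 1 + m) * z = g ^ c * (g ^ (1 + m) * z) by ring, map_mul _ (g ^ c), mul_right_comm (ι (g ^ c)), hug, one_mul] at h2
    show ι (X (a * a')) * u = ι (X a) * u * (ι (X a') * u) + ι (g ^ (1 + m) * z)
    rw [h2]; ring
  have hbase : ∀ b', ∃ z, bb (algebraMap A' A (ψ b')) = ι b' + ι (g ^ (c + 1 + m) * z) := fun b' => by
    obtain ⟨z, hz⟩ := keyB (X (algebraMap A' A (ψ b'))) (g ^ c * b') (by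
      rw [hX, show h (algebraMap A' A (ψ b')) = f ^ c * ψ b' from hinj (by rw [hh, map_mul, map_pow, ← hF]),
        map_mul, map_mul, map_mul, hφk, hψ'])
    refine ⟨z, ?_⟩
    show ι (X _) * u = _
    rw [hz, map_add, add_mul, hsplit, map_mul, mul_right_comm, hug, one_mul]
  have hclosed : ∀ a, ∀ b', ∃ a' y, ι b' * bb a = bb a' + ι y := fun a b' => by
    obtain ⟨z, hz⟩ := hbase b'
    obtain ⟨w, hw⟩ := hmul (algebraMap A' A (ψ b')) a
    refine ⟨algebraMap A' A (ψ b') * a, - (g ^ (1 + m) * w) - g ^ (1 + m) * z * X a, ?_⟩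
    rw [hw, hz, map_sub, map_neg]
    have e : ι (g ^ (c + 1 + m) * z) * bb a = ι (g ^ (1 + m) * z * X a) := by
      rw [show g ^ (c + 1 + m) * z = g ^ c * (g ^ (1 + m) * z) by ring, map_mul,
        show bb a = ι (X a) * u from rfl,
        show ι (g ^ c) * ι (g ^ (1 + m) * z) * (ι (X a) * u) = ι (g ^ (1 + m) * z) * ι (X a) * (ι (g ^ c) * u) by ring,
        hug, mul_one, ← map_mul]
    rw [add_mul, e]; ring
  have haddm : ∀ a₁ a₂ (y : B'), ∃ a y', bb a₁ + bb a₂ + ι y = bb a + ι y' := fun a₁ a₂ y => by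
    obtain ⟨z, hz⟩ := hadd a₁ a₂
    exact ⟨a₁ + a₂, y - g ^ (c + 1 + m) * z, by rw [hz, map_sub]; ring⟩
  have hι_mem : ∀ y : B', ∃ a y', ι y = bb a + ι y' := fun y => by
    obtain ⟨z, hz⟩ := hbase y
    exact ⟨algebraMap A' A (ψ y), - (g ^ (c + 1 + m) * z), by rw [hz, map_neg]; ring⟩
  let B : Subalgebra B' L :=
    { carrier := {b | ∃ a y, b = bb a + ι y}
      algebraMap_mem' := fun y => hι_mem y
      add_mem' := by
        rintro _ _ ⟨a, y, rfl⟩ ⟨a', y', rfl⟩
        obtain ⟨a'', y'', e⟩ := haddm a a' (y + y')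
        exact ⟨a'', y'', by rw [← e, map_add]; ring⟩
      mul_mem' := by
        rintro _ _ ⟨a, y, rfl⟩ ⟨a', y', rfl⟩
        obtain ⟨z, hz⟩ := hmul a a'
        obtain ⟨a₁, y₁, e₁⟩ := hclosed a' y
        obtain ⟨a₂, y₂, e₂⟩ := hclosed a y'
        obtain ⟨a₃, y₃, e₃⟩ := haddm (a * a') a₁ (- (g ^ (1 + m) * z) + y₁)
        obtain ⟨a₄, y₄, e₄⟩ := haddm a₃ a₂ (y₃ + y₂ + y * y')
        refine ⟨a₄, y₄, ?_⟩
        rw [← e₄, show (bb a + ι y) * (bb a' + ι y') = bb a * bb a' + ι y * bb a' + ι y' * bb a + ι y * ι y' by ring,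
          e₁, e₂, show bb a * bb a' = bb (a * a') - ι (g ^ (1 + m) * z) by rw [hz]; ring, map_add, map_add, map_mul]
        have e₃' := e₃
        rw [map_add, map_neg] at e₃'
        simp only [map_mul] at e₃' ⊢
        linear_combination e₃' }
  have hbbmem : ∀ a, bb a ∈ B := fun a => ⟨a, 0, by rw [map_zero, add_zero]⟩
  let G : Ideal B := Ideal.span {algebraMap B' B g}
  have hG : ∀ (k : ℕ) (z : B'), Ideal.Quotient.mk G (algebraMap B' B (g ^ (k + 1) * z)) = 0 := fun k z => by
    rw [Ideal.Quotient.eq_zero_iff_mem, Ideal.mem_span_singleton', pow_succ]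
    exact ⟨algebraMap B' B (g ^ k * z), by rw [← map_mul]; ring_nf⟩
  let χ : A → B ⧸ G := fun a => Ideal.Quotient.mk G ⟨bb a, hbbmem a⟩
  have hχbase : ∀ (a' : A') (b' : B'), φ' (Ideal.Quotient.mk (Ideal.span {f ^ n}) a') = Ideal.Quotient.mk _ b' →
      χ (algebraMap A' A a') = Ideal.Quotient.mk G (algebraMap B' B b') := by
    intro a' b' e
    obtain ⟨z, hz⟩ := keyB (X (algebraMap A' A a')) (g ^ c * b') (by
      rw [hX, show h (algebraMap A' A a') = f ^ c * a' from hinj (by rw [hh, map_mul, map_pow, ← hF]),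
        map_mul, map_mul, map_mul, hφk, e])
    have h3 : (⟨bb (algebraMap A' A a'), hbbmem _⟩ : B) = algebraMap B' B b' + algebraMap B' B (g ^ (c + m + 1) * z) := Subtype.ext (by
      show ι (X _) * u = ι b' + ι (g ^ (c + m + 1) * z)
      rw [hz, map_add, add_mul, hsplit, map_mul, mul_right_comm, hug, one_mul, add_right_comm c])
    show Ideal.Quotient.mk G _ = _
    rw [h3, map_add, hG, add_zero]
  let χhom : A →+* B ⧸ G :=
    { toFun := χ
      map_one' := by
        have := hχbase 1 1 (by rw [map_one, map_one, map_one])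
        rwa [map_one, map_one, map_one] at this
      map_zero' := by
        have := hχbase 0 0 (by rw [map_zero, map_zero, map_zero])
        rwa [map_zero, map_zero, map_zero] at this
      map_add' := fun a a' => by
        obtain ⟨z, hz⟩ := hadd a a'
        have h3 : (⟨bb (a + a'), hbbmem _⟩ : B) = ⟨bb a, hbbmem a⟩ + ⟨bb a', hbbmem a'⟩ + algebraMap B' B (g ^ (c + m + 1) * z) := Subtype.ext (by
          show bb (a + a') = bb a + bb a' + ι (g ^ (c + m + 1) * z)
          rw [hz, add_right_comm c])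
        show Ideal.Quotient.mk G _ = _
        rw [h3, map_add, map_add, hG, add_zero]
      map_mul' := fun a a' => by
        obtain ⟨z, hz⟩ := hmul a a'
        have h3 : (⟨bb (a * a'), hbbmem _⟩ : B) = ⟨bb a, hbbmem a⟩ * ⟨bb a', hbbmem a'⟩ + algebraMap B' B (g ^ (m + 1) * z) := Subtype.ext (by
          show bb (a * a') = bb a * bb a' + ι (g ^ (m + 1) * z)
          rw [hz, add_comm 1 m])
        show Ideal.Quotient.mk G _ = _
        rw [h3, map_add, map_mul, hG, add_zero] }
  have hsurj : Function.Surjective χhom := by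
    intro x
    obtain ⟨⟨_, a, y, rfl⟩, rfl⟩ := Ideal.Quotient.mk_surjective x
    refine ⟨a + algebraMap A' A (ψ y), ?_⟩
    rw [map_add]
    show χ a + χ (algebraMap A' A (ψ y)) = _
    rw [hχbase _ y (hψ' y)]
    exact (map_add _ _ _).symm
  have hker : RingHom.ker χhom = Ideal.span {F} := by
    refine le_antisymm (fun a ha => ?_) (Ideal.span_le.mpr (Set.singleton_subset_iff.mpr ?_))
    · have ha' : Ideal.Quotient.mk G (⟨bb a, hbbmem a⟩ : B) = 0 := ha
      obtain ⟨⟨_, a₁, y, rfl⟩, hb⟩ := Ideal.mem_span_singleton'.mp (Ideal.Quotient.eq_zero_iff_mem.mp ha')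
      have e : (bb a₁ + ι y) * ι g = ι (X a) * u := congrArg Subtype.val hb
      have e2 : X a = g * X a₁ + g * (g ^ c * y) := hι (by
        have := congrArg (ι (g ^ c) * ·) e
        simp only [bb] at this
        rw [show ι (g ^ c) * ((ι (X a₁) * u + ι y) * ι g) = (ι (g ^ c) * u) * ι (X a₁) * ι g + ι (g ^ c) * ι y * ι g by ring,
          show ι (g ^ c) * (ι (X a) * u) = (ι (g ^ c) * u) * ι (X a) by ring, hug, one_mul, one_mul] at this
        rw [← this, map_add, map_mul, map_mul, map_mul]; ring)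
      have e3 : Ideal.Quotient.mk (Ideal.span {f ^ n}) (h a) = Ideal.Quotient.mk _ (f * h a₁ + f * (f ^ c * ψ y)) := φ'.injective (by
        rw [← hX, e2]
        simp only [map_add, map_mul, hφk, hψ', hφ, hX])
      obtain ⟨w, hw⟩ := Ideal.mem_span_singleton'.mp (Ideal.Quotient.eq.mp e3)
      refine Ideal.mem_span_singleton'.mpr ⟨a₁ + algebraMap A' A (ψ y) + algebraMap A' A (w * f ^ (c + m)), ?_⟩
      have e4 := congrArg (algebraMap A' A) hw
      simp only [map_mul, map_sub, map_add, map_pow, hh, ← hF] at e4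
      refine sub_eq_zero.mp ((pow_mem hf c).1 _ ?_)
      rw [map_mul, map_pow, ← hF]
      have hn' : F ^ n = F ^ c * (F ^ (c + m) * F) := by rw [← hndef]; ring
      rw [hn'] at e4
      linear_combination e4
    · rw [SetLike.mem_coe, RingHom.mem_ker, hF]
      show χ _ = 0
      rw [hχbase f g hφ, Ideal.Quotient.eq_zero_iff_mem]
      exact Ideal.mem_span_singleton_self _
  refine ⟨B, inferInstance, inferInstance, fun x y e => hι (congrArg Subtype.val e), ?_,
    (Ideal.quotEquivOfEq hker.symm).trans (RingHom.quotientKerEquivOfSurjective hsurj), fun a' b' e => ?_⟩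
  · obtain ⟨s, hs⟩ := Module.Finite.fg_top (R := A') (M := A)
    let one : B := 1
    refine ⟨⟨insert one (s.image fun a => (⟨bb a, hbbmem a⟩ : B)), eq_top_iff.mpr fun b _ => ?_⟩⟩
    set T := Submodule.span B' ((insert one (s.image fun a => (⟨bb a, hbbmem a⟩ : B)) : Finset B) : Set B)
    have h1 : ∀ y : B', algebraMap B' B y ∈ T := fun y => by
      rw [Algebra.algebraMap_eq_smul_one]
      exact Submodule.smul_mem _ _ (Submodule.subset_span (Finset.mem_insert_self _ _))
    have h2 : ∀ a : A, (⟨bb a, hbbmem a⟩ : B) ∈ T := by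
      intro a
      have ha : a ∈ Submodule.span A' (s : Set A) := hs ▸ Submodule.mem_top
      induction ha using Submodule.span_induction with
      | mem x hx => exact Submodule.subset_span (Finset.mem_insert_of_mem (Finset.mem_image_of_mem _ hx))
      | zero =>
        obtain ⟨z, hz⟩ := hadd 0 0
        convert T.neg_mem (h1 (g ^ (c + 1 + m) * z)) using 1
        refine Subtype.ext ?_
        show bb 0 = -ι (g ^ (c + 1 + m) * z)
        rw [add_zero] at hz
        linear_combination -hz
      | add x y _ _ hx hy =>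
        obtain ⟨z, hz⟩ := hadd x y
        convert add_mem (add_mem hx hy) (h1 (g ^ (c + 1 + m) * z)) using 1
        exact Subtype.ext hz
      | smul r x _ hx =>
        obtain ⟨b', hb'⟩ := Ideal.Quotient.mk_surjective (φ' (Ideal.Quotient.mk _ r))
        obtain ⟨z, hz⟩ := keyB (X (r • x)) (b' * X x) (by
          rw [hX, Algebra.smul_def, hhalg, map_mul, map_mul, map_mul, hb', hX])
        convert add_mem (T.smul_mem b' hx) (h1 (g ^ (c + 1 + m) * z)) using 1
        refine Subtype.ext ?_
        show ι (X (r • x)) * u = b' • (ι (X x) * u) + ι (g ^ (c + 1 + m) * z)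
        rw [hz, map_add, add_mul, hsplit, map_mul, Algebra.smul_def, mul_assoc]
    obtain ⟨a, y, hay⟩ := b.2
    convert add_mem (h2 a) (h1 y) using 1
    exact Subtype.ext hay
  · exact hχbase a' b' e

end Groth.Agent.S7152
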