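import Groth.Statements.S7153
import Mathlib.RingTheory.Filtration
import Mathlib.RingTheory.Noetherian.Basic

set_option autoImplicit false
universe u
open CAlg

namespace Groth.Agent.S7153

theorem ar {A : Type u} [CommRing A] [IsNoetherianRing A] (I : Ideal A) {M : Type u} [AddCommGroup M] [Module A M]
    [Module.Finite A M] (N : Submodule A M) :
    ∃ c : ℕ, ∀ n : ℕ, (I ^ (n + c) • ⊤ ⊓ N : Submodule A M) ≤ I ^ n • N := by
  obtain ⟨k, hk⟩ := I.exists_pow_inf_eq_pow_smul N
  refine ⟨k, fun n => ?_⟩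
  rw [hk (n + k) (Nat.le_add_left k n), Nat.add_sub_cancel]
  exact Submodule.smul_mono le_rfl inf_le_right

/-- Let A be a Noetherian ring, I an ideal and K → L → M a complex of finite A-modules with maps α, β
and homology H = Ker β / Im α; for n ≥ 0 let H_n be the homology of the induced complex K/IⁿK →
L/IⁿL → M/IⁿM, which is β⁻¹(IⁿM)/(Im α + IⁿL). Then there is c > 0 such that for every n: (i) the
image of H_(n+c) → H_n is contained in, hence equal to, the image of H → H_n; (ii) the kernel and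
the cokernel of H/IⁿH → H_n are annihilated by I^c. Everything is phrased with representatives in L. -/
theorem result (A : Type u) [CommRing A] [IsNoetherianRing A] (I : Ideal A)
    (K L M : Type u) [AddCommGroup K] [Module A K] [Module.Finite A K] [AddCommGroup L] [Module A L]
    [Module.Finite A L] [AddCommGroup M] [Module A M] [Module.Finite A M]
    (α : K →ₗ[A] L) (β : L →ₗ[A] M) (hαβ : β ∘ₗ α = 0) :
    ∃ c : ℕ, 0 < c ∧ ∀ n : ℕ,
      (∀ y ∈ (I ^ (n + c) • ⊤ : Submodule A M).comap β,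
        ∃ z ∈ LinearMap.ker β, y - z ∈ LinearMap.range α ⊔ (I ^ n • ⊤ : Submodule A L)) ∧
      (∀ z ∈ LinearMap.ker β, z ∈ LinearMap.range α ⊔ (I ^ n • ⊤ : Submodule A L) →
        ∀ a ∈ I ^ c, a • z ∈ LinearMap.range α ⊔ I ^ n • LinearMap.ker β) ∧
      (∀ y ∈ (I ^ n • ⊤ : Submodule A M).comap β, ∀ a ∈ I ^ c,
        ∃ z ∈ LinearMap.ker β, a • y - z ∈ LinearMap.range α ⊔ (I ^ n • ⊤ : Submodule A L)) := by
  obtain ⟨c₁, h₁⟩ := ar I (LinearMap.range β)
  obtain ⟨c₂, h₂⟩ := ar I (LinearMap.ker β)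
  refine ⟨c₁ + c₂ + 1, by omega, fun n => ⟨?_, ?_, ?_⟩⟩
  · intro y hy
    have h : β y ∈ I ^ n • LinearMap.range β :=
      h₁ n ⟨Submodule.smul_mono (Ideal.pow_le_pow_right (by omega)) le_rfl hy, LinearMap.mem_range_self β y⟩
    rw [LinearMap.range_eq_map, ← Submodule.map_smul''] at h
    obtain ⟨w, hw, hwy⟩ := h
    refine ⟨y - w, by simp [hwy], ?_⟩
    rw [sub_sub_cancel]
    exact Submodule.mem_sup_right hw
  · intro z hz hzs a ha
    obtain ⟨_, ⟨k, rfl⟩, w, hw, rfl⟩ := Submodule.mem_sup.mp hzs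
    have hker : β (α k) = 0 := LinearMap.congr_fun hαβ k
    have hwk : w ∈ LinearMap.ker β := by simpa [hker] using hz
    rw [smul_add]
    refine add_mem (Submodule.mem_sup_left ((LinearMap.range α).smul_mem a (LinearMap.mem_range_self α k))) (Submodule.mem_sup_right ?_)
    rcases Nat.lt_or_ge n c₂ with hn | hn
    · exact Submodule.smul_mem_smul (Ideal.pow_le_pow_right (by omega) ha) hwk
    · have h3 := Submodule.smul_mem_smul ha (h₂ (n - c₂) ⟨by rwa [Nat.sub_add_cancel hn], hwk⟩)
      rw [← Submodule.smul_assoc, smul_eq_mul, ← pow_add] at h3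
      exact Submodule.smul_mono (Ideal.pow_le_pow_right (by omega)) le_rfl h3
  · intro y hy a ha
    have hay : β (a • y) ∈ (I ^ (n + c₁) • ⊤ : Submodule A M) := by
      have := Submodule.smul_mem_smul (Ideal.pow_le_pow_right (show c₁ ≤ c₁ + c₂ + 1 by omega) ha) (show β y ∈ (I ^ n • ⊤ : Submodule A M) from hy)
      rw [map_smul]
      rw [← Submodule.smul_assoc, smul_eq_mul, ← pow_add, add_comm] at this
      exact this
    have h := h₁ n ⟨hay, LinearMap.mem_range_self β _⟩
    rw [LinearMap.range_eq_map, ← Submodule.map_smul''] at h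
    obtain ⟨w, hw, hwy⟩ := h
    refine ⟨a • y - w, by simp [hwy], ?_⟩
    rw [sub_sub_cancel]
    exact Submodule.mem_sup_right hw

end Groth.Agent.S7153
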