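import Groth.Statements.S7157
import Groth.Agent.H9Ram.EisensteinExt
import Mathlib.RingTheory.Polynomial.Eisenstein.Basic
import Mathlib.FieldTheory.Separable
-- import your own Groth.Agent.* helpers here

set_option autoImplicit false
universe u
open EtAlg Polynomial

namespace Groth.Agent.S7157

/-- Let A be a discrete valuation ring, π a uniformizer, K its field of fractions, and suppose the
residue field of A has characteristic p > 0. For every n > 1 and every power q of p there is a
separable degree-q extension L/K that is totally ramified with respect to A and whose ring of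
integers B (the integral closure of A in L) contains elements π_B, b, b' with π_B^q = π + πⁿ·b and
π_B^q = π + π_B^(nq)·b' (π_B is then a uniformizer of B and the ramification index is q). -/
theorem result (p : ℕ) (hp : p.Prime) (A K : Type u)
    [CommRing A] [IsDomain A] [IsDiscreteValuationRing A] [Field K] [Algebra A K] [IsFractionRing A K]
    [CharP (IsLocalRing.ResidueField A) p] (π : A) (hπ : IsLocalRing.maximalIdeal A = Ideal.span {π})
    (n : ℕ) (hn : 1 < n) (k : ℕ) :
    ∃ (L : Type u) (_ : Field L) (_ : Algebra K L) (_ : Algebra A L) (_ : IsScalarTower A K L),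
      Module.finrank K L = p ^ k ∧ Algebra.IsSeparable K L ∧ EtRam.IsTotallyRamified A (algebraMap A L) ∧
      ∃ πB b b' : L, πB ∈ integralClosure A L ∧ b ∈ integralClosure A L ∧ b' ∈ integralClosure A L ∧
        πB ^ (p ^ k) = algebraMap A L π + algebraMap A L π ^ n * b ∧
        πB ^ (p ^ k) = algebraMap A L π + πB ^ (n * p ^ k) * b' := by
  have hirrπ : Irreducible π := (IsDiscreteValuationRing.irreducible_iff_uniformizer π).mpr hπ
  rcases Nat.eq_zero_or_pos k with rfl | hk
  · let : Algebra K K := Algebra.id K
    refine ⟨K, inferInstance, inferInstance, inferInstance, inferInstance, by rw [Module.finrank_self, pow_zero],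
      inferInstance, ⟨?_, fun V V' hV hV' => SetLike.ext fun x =>
        (H9Ram.Dom.mem_iff hV x).trans (H9Ram.Dom.mem_iff hV' x).symm, fun V hV z => ?_⟩,
      algebraMap A K π, 0, 0, isIntegral_algebraMap, zero_mem _, zero_mem _, by simp, by simp⟩
    · let V := (ValuationRing.valuation A K).valuationSubring
      have hmem : ∀ x : K, x ∈ V ↔ ∃ s : A, algebraMap A K s = x := fun x =>
        (Valuation.mem_valuationSubring_iff _ _).trans (ValuationRing.mem_integer_iff A K x)
      refine ⟨V, fun a => (hmem _).mpr ⟨_, rfl⟩, fun a ha => ?_⟩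
      show V.valuation ((⟨algebraMap A K a, (hmem _).mpr ⟨_, rfl⟩⟩ : V) : K) < 1
      rw [← ValuationSubring.valuation_lt_one_iff, IsLocalRing.mem_maximalIdeal]
      intro hu
      obtain ⟨w, hw⟩ := hu.exists_right_inv
      obtain ⟨t, ht⟩ := (hmem _).mp w.2
      refine (IsLocalRing.mem_maximalIdeal a).mp ha (IsUnit.of_mul_eq_one t (IsFractionRing.injective A K ?_))
      rw [map_mul, map_one, ht]
      exact congrArg Subtype.val hw
    · obtain ⟨w, rfl⟩ := IsLocalRing.residue_surjective z
      obtain ⟨a, ha⟩ := (H9Ram.Dom.mem_iff hV w).mp w.2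
      exact ⟨a, congrArg (IsLocalRing.residue V) (Subtype.ext ha)⟩
  set q := p ^ k
  have hq : 1 < q := Nat.one_lt_pow hk.ne' hp.one_lt
  let f : A[X] := X ^ q + (-(C (π ^ n) * X) - C π)
  have hdeg : (-(C (π ^ n) * X) - C π).degree < (q : WithBot ℕ) := by
    refine lt_of_le_of_lt (degree_sub_le _ _) (max_lt ?_ ?_)
    · rw [degree_neg]; exact lt_of_le_of_lt (degree_C_mul_X_le _) (by exact_mod_cast hq)
    · exact lt_of_le_of_lt degree_C_le (by exact_mod_cast (show 0 < q by omega))
  have hm : f.Monic := monic_X_pow_add hdeg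
  have hnd : f.natDegree = q := natDegree_eq_of_degree_eq_some
    ((degree_add_eq_left_of_degree_lt (by rwa [degree_X_pow])).trans (degree_X_pow q))
  have hcoeff : ∀ i, i < q → f.coeff i = if i = 0 then -π else if i = 1 then -π ^ n else 0 := fun i hi => by
    simp only [f, coeff_add, coeff_X_pow, if_neg hi.ne, zero_add, coeff_sub, coeff_neg, coeff_C_mul, coeff_C]
    rcases i with _ | _ | i <;> simp [coeff_X]
  have hirr : Irreducible f := by
    refine Polynomial.IsEisensteinAt.irreducible (𝓟 := IsLocalRing.maximalIdeal A) ⟨?_, fun {i} hi => ?_, ?_⟩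
      (IsLocalRing.maximalIdeal.isMaximal A).isPrime hm.isPrimitive (by omega)
    · rw [hm.leadingCoeff]
      exact fun h => (IsLocalRing.maximalIdeal.isMaximal A).ne_top ((Ideal.eq_top_iff_one _).mpr h)
    · rw [hcoeff i (hnd ▸ hi), hπ, Ideal.mem_span_singleton]
      split_ifs
      · exact dvd_neg.mpr dvd_rfl
      · exact dvd_neg.mpr (dvd_pow_self π (by omega))
      · exact dvd_zero π
    · rw [hcoeff 0 (by omega), if_pos rfl, hπ, Ideal.span_singleton_pow, Ideal.mem_span_singleton, dvd_neg]
      intro h
      have h2 : π ^ 2 ∣ π ^ 1 := by rwa [pow_one]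
      exact absurd ((pow_dvd_pow_iff hirrπ.ne_zero hirrπ.not_isUnit).mp h2) (by omega)
  have hirrK : Irreducible (f.map (algebraMap A K)) := hm.irreducible_iff_irreducible_map_fraction_map.mp hirr
  have : Fact (Irreducible (f.map (algebraMap A K))) := ⟨hirrK⟩
  have hsep : (f.map (algebraMap A K)).Separable := by
    refine (separable_iff_derivative_ne_zero hirrK).mpr fun h0 => ?_
    have h1 := congrArg (fun g => g.coeff 0) h0
    simp only [coeff_derivative, coeff_map, coeff_zero] at h1
    rw [hcoeff 1 hq, if_neg one_ne_zero, if_pos rfl] at h1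
    simp [hirrπ.ne_zero] at h1
  set r := AdjoinRoot.root f
  let c : AdjoinRoot f := algebraMap A _ (π ^ (n - 1))
  have hr : r ^ q = algebraMap A (AdjoinRoot f) π * (1 + r * c) := by
    have h := AdjoinRoot.eval₂_root f
    simp only [f, eval₂_add, eval₂_sub, eval₂_neg, eval₂_mul, eval₂_X_pow, eval₂_X, eval₂_C] at h
    simp only [map_pow] at h
    have hpn : AdjoinRoot.of f π * AdjoinRoot.of f π ^ (n - 1) = AdjoinRoot.of f π ^ n := by
      rw [← pow_succ', Nat.sub_add_cancel hn.le]
    simp only [c, map_pow, AdjoinRoot.algebraMap_eq]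
    linear_combination h - r * hpn
  obtain ⟨_, _, hmax, hw⟩ := H9Ram.EisensteinExt.isDVR hm hirr hirrπ (by omega : q ≠ 0) c hr
  let L := AdjoinRoot (f.map (algebraMap A K))
  let j : AdjoinRoot f →+* L := H9Ram.EisensteinExt.toField
  have hjA : ∀ a, j (algebraMap A _ a) = algebraMap A L a := fun a =>
    (H9Ram.EisensteinExt.toField_algebraMap a).trans (IsScalarTower.algebraMap_apply A K L a).symm
  have := hm.finite_adjoinRoot
  have hint : ∀ s, j s ∈ integralClosure A L := fun s => by
    let ja : AdjoinRoot f →ₐ[A] L := { j with commutes' := hjA }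
    exact (Algebra.IsIntegral.isIntegral (R := A) s).map ja
  have hpos : 0 < q := by omega
  refine ⟨L, inferInstance, inferInstance, inferInstance, inferInstance, ?_, ?_,
    (IsScalarTower.algebraMap_eq A K L).symm ▸ H9Ram.EisensteinExt.isTotallyRamified hirrπ (by omega) c hr hmax hm,
    j r, j r, j (((hw.unit⁻¹ : (AdjoinRoot f)ˣ) : AdjoinRoot f) ^ n * r), hint _, hint _, hint _, ?_, ?_⟩
  · show Module.finrank K (AdjoinRoot (f.map (algebraMap A K))) = q
    rw [(AdjoinRoot.powerBasis hirrK.ne_zero).finrank, AdjoinRoot.powerBasis_dim, hm.natDegree_map, hnd]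
  · have htop : IntermediateField.adjoin K ({AdjoinRoot.root (f.map (algebraMap A K))} : Set L) = ⊤ := by
      refine IntermediateField.toSubalgebra_injective ?_
      rw [IntermediateField.top_toSubalgebra, eq_top_iff, ← AdjoinRoot.adjoinRoot_eq_top]
      exact IntermediateField.algebra_adjoin_le_adjoin K _
    have hs : IsSeparable K (AdjoinRoot.root (f.map (algebraMap A K))) := by
      refine hsep.of_dvd (minpoly.dvd K _ ?_)
      rw [aeval_def]; exact AdjoinRoot.eval₂_root _
    have h1 := (IntermediateField.isSeparable_adjoin_simple_iff_isSeparable K L).mpr hs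
    rw [htop] at h1
    exact AlgEquiv.Algebra.isSeparable IntermediateField.topEquiv
  · rw [← map_pow, hr, ← hjA]
    simp only [c, ← map_mul, ← map_pow, ← map_add]
    congr 1
    rw [map_pow, map_pow]
    conv_rhs => rw [← Nat.sub_add_cancel hn.le, pow_succ']
    ring
  · rw [← map_pow, ← hjA, ← map_pow, ← map_mul, ← map_add]
    congr 1
    rw [mul_comm n q, pow_mul, hr, mul_pow, mul_assoc, ← mul_assoc ((1 + r * c) ^ n), ← mul_pow,
      hw.mul_val_inv, one_pow, one_mul]
    simp only [c, map_pow]
    conv_rhs => rw [← Nat.sub_add_cancel hn.le, pow_succ']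
    ring

end Groth.Agent.S7157
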