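import Groth.Statements.S7158
import Groth.Agent.H9Ram.PrimeDegreeCases
import Mathlib.Algebra.CharP.Algebra
import Mathlib.FieldTheory.Finite.Basic
-- import your own Groth.Agent.* helpers here

set_option autoImplicit false
universe u
open EtAlg Polynomial

namespace Groth.Agent.S7158

/-- Let A be a discrete valuation ring whose fraction field K has characteristic p > 0, let ξ be an
element of K and let L = K(z) be obtained by adjoining a root z of z^p - z = ξ. Then L/K is a Galois
extension, and it falls under one of four cases: (1) L = K; (2) L/K has degree p and is unramified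
with respect to A; (3) L/K has degree p and is totally ramified with respect to A (ramification
index p); (4) exactly one valuation ring of L dominates A (so B, the integral closure of A in L, is
itself a discrete valuation ring), the extension A → B is weakly unramified, and its residue field
extension is purely inseparable of degree p. Moreover, with π a uniformizer of A: (A) if ξ lies in
A, case (1) or (2) holds; (B) if ξ = π⁻ⁿa with n > 0 prime to p and a a unit of A, case (3) holds;
(C) if ξ = π⁻ⁿa with n > 0 divisible by p and the residue class of a not a p-th power, case (4)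
holds. -/
theorem result (p : ℕ) (hp : p.Prime) (A K L : Type u) [CommRing A] [IsDomain A]
    [IsDiscreteValuationRing A] [Field K] [Algebra A K] [IsFractionRing A K] [Field L] [Algebra K L] [Algebra A L]
    [IsScalarTower A K L] [CharP K p] (π : A) (hπ : IsLocalRing.maximalIdeal A = Ideal.span {π})
    (ξ : K) (z : L) (hz : z ^ p - z = algebraMap K L ξ) (hgen : IntermediateField.adjoin K {z} = ⊤) :
    let g : A →+* L := algebraMap A L
    let case1 : Prop := Module.finrank K L = 1
    let case2 : Prop := EtRam.IsUnramifiedExt A g ∧ Module.finrank K L = p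
    let case3 : Prop := EtRam.IsTotallyRamified A g ∧ Module.finrank K L = p
    let case4 : Prop := (∃ V : ValuationSubring L, EtRam.Dominates A g V) ∧
      (∀ V V' : ValuationSubring L, EtRam.Dominates A g V → EtRam.Dominates A g V' → V = V') ∧
      ∀ (V : ValuationSubring L) (h : EtRam.Dominates A g V),
        letI : Algebra A V := (RingHom.codRestrict g V h.1).toAlgebra
        ∀ [IsLocalHom (algebraMap A V)],
          EtRam.IsWeaklyUnramified A V ∧
            IsPurelyInseparable (IsLocalRing.ResidueField A) (IsLocalRing.ResidueField V) ∧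
            Module.finrank (IsLocalRing.ResidueField A) (IsLocalRing.ResidueField V) = p
    IsGalois K L ∧ (case1 ∨ case2 ∨ case3 ∨ case4) ∧
      ((∃ a : A, algebraMap A K a = ξ) → case1 ∨ case2) ∧
      (∀ (n : ℕ) (a : Aˣ), 0 < n → ¬ p ∣ n → ξ * algebraMap A K π ^ n = algebraMap A K a → case3) ∧
      (∀ (n : ℕ) (a : A), 0 < n → p ∣ n → (∀ r : A, IsLocalRing.residue A a ≠ IsLocalRing.residue A r ^ p) →
          ξ * algebraMap A K π ^ n = algebraMap A K a → case4) := by
  intro g case1 case2 case3 case4
  have hirr : Irreducible π := (IsDiscreteValuationRing.irreducible_iff_uniformizer π).mpr hπ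
  have : Fact p.Prime := ⟨hp⟩
  have : CharP L p := charP_of_injective_algebraMap (algebraMap K L).injective p
  have : CharP A p := RingHom.charP (algebraMap A K) (IsFractionRing.injective A K) p
  have : CharP (IsLocalRing.ResidueField A) p :=
    (CharP.charP_iff_prime_eq_zero hp).mpr (by rw [← map_natCast (IsLocalRing.residue A), CharP.cast_eq_zero, map_zero])
  have : ExpChar L p := ExpChar.prime hp
  let c : ZMod p →+* L := ZMod.castHom dvd_rfl L
  have hc : ∀ i, c i ^ p = c i := fun i => by rw [← map_pow, ZMod.pow_card]
  -- the fixed points of Frobenius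
  have hfix : ∀ x : L, x ^ p = x → ∃ i, c i = x := by
    intro x hx
    classical
    let f : L[X] := X ^ p - X
    have hdeg : f.natDegree = p := by
      rw [natDegree_sub_eq_left_of_natDegree_lt] <;> simp [hp.one_lt]
    have h0 : f ≠ 0 := fun h => hp.ne_zero (by rw [← hdeg, h, natDegree_zero])
    have hle : Finset.univ.image c ⊆ f.roots.toFinset := fun y hy => by
      obtain ⟨i, -, rfl⟩ := Finset.mem_image.mp hy
      simp [f, Multiset.mem_toFinset, mem_roots h0, hc i]
    have heq := Finset.eq_of_subset_of_card_le hle (by
      rw [Finset.card_image_of_injective _ c.injective, Finset.card_univ, ZMod.card]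
      exact (Multiset.toFinset_card_le _).trans ((card_roots' f).trans hdeg.le))
    have hxm : x ∈ f.roots.toFinset := by simp [f, Multiset.mem_toFinset, mem_roots h0, hx]
    rw [← heq] at hxm
    obtain ⟨i, -, hi⟩ := Finset.mem_image.mp hxm
    exact ⟨i, hi⟩
  let e : Fin p ≃ ZMod p := (ZMod.finEquiv p).toEquiv
  obtain ⟨hfin, hgal⟩ := H9Ram.PrimeDegree.isGalois_of_roots hgen (f := X ^ p - X - C ξ)
    (by
      rw [show (X ^ p - X - C ξ : K[X]) = X ^ p - (X + C ξ) by ring]
      exact (monic_X_pow p).sub_of_left (by
        rw [degree_X_pow]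
        exact lt_of_le_of_lt (degree_add_le _ _) (max_lt (by rw [degree_X]; exact_mod_cast hp.one_lt)
          (lt_of_le_of_lt degree_C_le (by exact_mod_cast hp.pos)))))
    (by simp [hz]) (d := p)
    (by
      have h1 : (X ^ p - X : K[X]).natDegree = p := by
        rw [natDegree_sub_eq_left_of_natDegree_lt] <;> simp [hp.one_lt]
      rw [natDegree_sub_C, h1])
    (r := fun i => z + c (e i))
    (fun i j h => e.injective (c.injective (add_left_cancel h)))
    (fun i => by
      simp [add_pow_char, hc]
      linear_combination hz)
  have hroot : ∀ σ : L ≃ₐ[K] L, ∃ i, c i = σ z - z := fun σ => hfix _ (by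
    have h1 := congrArg σ hz
    rw [map_sub, map_pow, AlgEquiv.commutes] at h1
    rw [sub_pow_char]
    linear_combination h1 - hz)
  choose χ hχ using hroot
  let ψ : (L ≃ₐ[K] L) →* Multiplicative (ZMod p) :=
    { toFun := fun σ => Multiplicative.ofAdd (χ σ)
      map_one' := by
        refine Multiplicative.toAdd.injective (c.injective ?_)
        show c (χ 1) = c 0
        rw [hχ, map_zero]; exact sub_self z
      map_mul' := fun σ τ => by
        refine Multiplicative.toAdd.injective (c.injective ?_)
        show c (χ (σ * τ)) = c (χ σ + χ τ)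
        rw [map_add, hχ, hχ, hχ]
        have h2 : σ (τ z - z) = τ z - z := by
          rw [← hχ τ]
          exact RingHom.congr_fun (RingHom.ext_zmod ((σ : L →+* L).comp c) c) (χ τ)
        rw [map_sub] at h2
        show σ (τ z) - z = _
        linear_combination h2 }
  have hψ : Function.Injective ψ := (injective_iff_map_eq_one _).mpr fun σ hσ => by
    have h1 : c (χ σ) = 0 := by rw [show χ σ = 0 from congrArg Multiplicative.toAdd hσ, map_zero]
    rw [hχ, sub_eq_zero] at h1
    refine AlgEquiv.ext fun x => ?_
    have hx : x ∈ IntermediateField.adjoin K {z} := hgen ▸ IntermediateField.mem_top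
    induction hx using IntermediateField.adjoin_induction with
    | mem y hy => rw [Set.mem_singleton_iff.mp hy]; exact h1
    | algebraMap a => exact σ.commutes a
    | add y w _ _ hy hw => rw [map_add, hy, hw]; rfl
    | inv y _ hy => rw [map_inv₀, hy]; rfl
    | mul y w _ _ hy hw => rw [map_mul, hy, hw]; rfl
  have hd := H9Ram.PrimeDegree.degree_cases hp (by rw [Nat.card_eq_fintype_card]; simp) ψ hψ
  obtain ⟨h1, h2, h3, h4⟩ := H9Ram.PrimeDegree.classify (A := A) hp hd (P := X ^ p - X)
    (by
      refine (monic_X_pow p).sub_of_left ?_
      rw [degree_X_pow, degree_X]; exact_mod_cast hp.one_lt)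
    (by rw [natDegree_sub_eq_left_of_natDegree_lt] <;> simp [hp.one_lt])
    hirr ⟨0, by simp [derivative_X_pow]⟩ (ξ := ξ) (z := z)
    (by rw [eval₂_sub, eval₂_X_pow, eval₂_X]; exact hz) hgen
  have hg : g = (algebraMap K L).comp (algebraMap A K) := IsScalarTower.algebraMap_eq A K L
  clear_value g
  subst hg
  exact ⟨hgal, h1, h2, h3, h4⟩

end Groth.Agent.S7158
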