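import Groth.Statements.S7159
import Groth.Agent.H9Ram.PrimeDegreeCases
import Mathlib.RingTheory.Polynomial.Cyclotomic.Roots
import Mathlib.RingTheory.RootsOfUnity.Lemmas
import Mathlib.NumberTheory.Wilson
-- import your own Groth.Agent.* helpers here

set_option autoImplicit false
universe u
open EtAlg Polynomial

namespace Groth.Agent.S7159

open Polynomial in
/-- Let A be a discrete valuation ring whose fraction field K has characteristic 0 and whose residue
field has characteristic p, and suppose A contains an element ζ with 1 + ζ + ... + ζ^(p-1) = 0 (a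
primitive p-th root of unity); set w = 1 - ζ and let P in A[t] be the polynomial with w^p·P(t) = (1
+ wt)^p - 1. Let ξ be an element of K and let L = K(z) be obtained by adjoining a root z of P(z) =
ξ. Then L/K is a Galois extension, and it falls under one of four cases: (1) L = K; (2) L/K has
degree p and is unramified with respect to A; (3) L/K has degree p and is totally ramified with
respect to A (ramification index p); (4) exactly one valuation ring of L dominates A (so B, the
integral closure of A in L, is itself a discrete valuation ring), the extension A → B is weakly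
unramified, and its residue field extension is purely inseparable of degree p. Moreover, with π a
uniformizer of A: (A) if ξ lies in A, case (1) or (2) holds; (B) if ξ = π⁻ⁿa with n > 0 prime to p
and a a unit of A, case (3) holds; (C) if ξ = π⁻ⁿa with n > 0 divisible by p and the residue class
of a not a p-th power, case (4) holds. -/
theorem result (p : ℕ) (hp : p.Prime) (A K L : Type u) [CommRing A] [IsDomain A]
    [IsDiscreteValuationRing A] [Field K] [Algebra A K] [IsFractionRing A K] [Field L] [Algebra K L] [Algebra A L]
    [IsScalarTower A K L] [CharZero K] [CharP (IsLocalRing.ResidueField A) p] (ζ : A)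
    (hζ : aeval ζ (cyclotomic p ℤ) = 0) (P : A[X]) (hP : C ((1 - ζ) ^ p) * P = (1 + C (1 - ζ) * X) ^ p - 1) (π : A) (hπ : IsLocalRing.maximalIdeal A = Ideal.span {π})
    (ξ : K) (z : L) (hz : aeval z P = algebraMap K L ξ) (hgen : IntermediateField.adjoin K {z} = ⊤) :
    let g : A →+* L := algebraMap A L
    let case1 : Prop := Module.finrank K L = 1
    let case2 : Prop := EtRam.IsUnramifiedExt A g ∧ Module.finrank K L = p
    let case3 : Prop := EtRam.IsTotallyRamified A g ∧ Module.finrank K L = p
    let case4 : Prop := (∃ V : ValuationSubring L, EtRam.Dominates A g V) ∧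
      (∀ V V' : ValuationSubring L, EtRam.Dominates A g V → EtRam.Dominates A g V' → V = V') ∧
      ∀ (V : ValuationSubring L) (h : EtRam.Dominates A g V),
        letI : Algebra A V := (RingHom.codRestrict g V h.1).toAlgebra
        ∀ [IsLocalHom (algebraMap A V)],
          EtRam.IsWeaklyUnramified A V ∧
            IsPurelyInseparable (IsLocalRing.ResidueField A) (IsLocalRing.ResidueField V) ∧
            Module.finrank (IsLocalRing.ResidueField A) (IsLocalRing.ResidueField V) = p
    IsGalois K L ∧ (case1 ∨ case2 ∨ case3 ∨ case4) ∧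
      ((∃ a : A, algebraMap A K a = ξ) → case1 ∨ case2) ∧
      (∀ (n : ℕ) (a : Aˣ), 0 < n → ¬ p ∣ n → ξ * algebraMap A K π ^ n = algebraMap A K a → case3) ∧
      (∀ (n : ℕ) (a : A), 0 < n → p ∣ n → (∀ r : A, IsLocalRing.residue A a ≠ IsLocalRing.residue A r ^ p) →
          ξ * algebraMap A K π ^ n = algebraMap A K a → case4) := by
  intro g case1 case2 case3 case4
  have hirr : Irreducible π := (IsDiscreteValuationRing.irreducible_iff_uniformizer π).mpr hπ
  have : Fact p.Prime := ⟨hp⟩
  have : NeZero p := ⟨hp.ne_zero⟩
  have : CharZero A := (algebraMap A K).charZero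
  have : CharZero L := charZero_of_injective_algebraMap (algebraMap K L).injective
  have hprim : IsPrimitiveRoot ζ p := by
    have : NeZero (p : A) := ⟨Nat.cast_ne_zero.mpr hp.ne_zero⟩
    rw [← isRoot_cyclotomic_iff, IsRoot.def, ← map_cyclotomic p (algebraMap ℤ A), eval_map, ← aeval_def]
    exact hζ
  set w : A := 1 - ζ with hwdef
  have hw0 : w ≠ 0 := sub_ne_zero.mpr (hprim.ne_one hp.one_lt).symm
  have hwm : IsLocalRing.residue A ζ = 1 := by
    have : ExpChar (IsLocalRing.ResidueField A) p := ExpChar.prime hp
    have h1 : (IsLocalRing.residue A ζ - 1) ^ p = 0 := by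
      rw [sub_pow_char, ← map_pow, hprim.pow_eq_one, map_one, one_pow, sub_self]
    exact sub_eq_zero.mp (eq_zero_of_pow_eq_zero h1)
  have hwres : IsLocalRing.residue A w = 0 := by rw [hwdef, map_sub, map_one, hwm, sub_self]
  let v : A := ∏ k ∈ Finset.range (p - 1), ∑ j ∈ Finset.range (k + 1), ζ ^ j
  have hpv : (p : A) = w ^ (p - 1) * v := by
    obtain ⟨m, hm⟩ : ∃ m, p = m + 1 := ⟨p - 1, (Nat.sub_add_cancel hp.one_le).symm⟩
    have h1 := IsPrimitiveRoot.prod_one_sub_pow_eq_order (hm ▸ hprim)
    have h2 : (p : A) = ∏ k ∈ Finset.range (p - 1), (1 - ζ ^ (k + 1)) := by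
      rw [show p - 1 = m by omega, h1, hm]
      push_cast
      rfl
    rw [h2, ← Finset.card_range (p - 1), ← Finset.prod_const, Finset.card_range, ← Finset.prod_mul_distrib]
    exact Finset.prod_congr rfl fun k _ => (mul_neg_geom_sum ζ (k + 1)).symm
  have hvres : IsLocalRing.residue A v = -1 := by
    rw [map_prod]
    simp only [map_sum, map_pow, hwm, one_pow, Finset.sum_const, Finset.card_range, nsmul_one]
    rw [← Nat.cast_prod, Finset.prod_range_add_one_eq_factorial,
      ← map_natCast (ZMod.castHom dvd_rfl (IsLocalRing.ResidueField A)), ZMod.wilsons_lemma, map_neg, map_one]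
  have hC0 : (C (w ^ p) : A[X]) ≠ 0 := C_ne_zero.mpr (pow_ne_zero _ hw0)
  have hlin : (1 + C w * X : A[X]) = C w * X + C 1 := by rw [C_1, add_comm]
  have hnat : ((1 + C w * X : A[X]) ^ p).natDegree = p := by
    rw [natDegree_pow, hlin, natDegree_linear hw0, mul_one]
  have hdeg : P.natDegree = p := by
    have h1 := congrArg natDegree hP
    rwa [natDegree_C_mul (pow_ne_zero _ hw0), ← C_1, natDegree_sub_C, C_1, hnat] at h1
  have hmon : P.Monic := by
    have h1 := congrArg (fun f : A[X] => f.coeff p) hP
    simp only [coeff_C_mul, coeff_sub, coeff_one, if_neg hp.ne_zero, sub_zero] at h1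
    have h2 : ((1 + C w * X : A[X]) ^ p).coeff p = w ^ p := by
      have h3 := (1 + C w * X : A[X]).leadingCoeff_pow p
      rw [leadingCoeff, hnat] at h3
      rw [h3, hlin, leadingCoeff_linear hw0]
    rw [h2] at h1
    show P.coeff P.natDegree = 1
    rw [hdeg]
    exact mul_left_cancel₀ (pow_ne_zero p hw0) (h1.trans (mul_one _).symm)
  have hder : ∃ Q, derivative P = -1 + C π * Q := by
    have h1 : derivative P = C v * (1 + C w * X) ^ (p - 1) := by
      refine mul_left_cancel₀ hC0 ?_
      have h2 := congrArg derivative hP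
      simp only [derivative_mul, derivative_C, zero_mul, zero_add, derivative_sub, derivative_one, sub_zero,
        derivative_pow, derivative_add, derivative_X, mul_one] at h2
      rw [h2, hpv, show w ^ p = w ^ (p - 1) * w by rw [← pow_succ, Nat.sub_add_cancel hp.one_le]]
      simp only [map_mul]
      ring
    suffices h : C π ∣ derivative P + 1 by
      obtain ⟨Q, hQ⟩ := h
      exact ⟨Q, by linear_combination hQ⟩
    rw [C_dvd_iff_dvd_coeff]
    intro i
    rw [← Ideal.mem_span_singleton, ← hπ, ← IsLocalRing.residue_eq_zero_iff, ← coeff_map, h1]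
    simp [hvres, hwres]
  let x : K := 1 + algebraMap A K w ^ p * ξ
  let u : L := 1 + algebraMap A L w * z
  have hu : u ^ p = algebraMap K L x := by
    have h1 := congrArg (aeval z) hP
    simp only [map_mul, map_sub, map_pow, map_add, map_one, aeval_C, aeval_X, hz] at h1
    show (1 + algebraMap A L w * z) ^ p = algebraMap K L (1 + algebraMap A K w ^ p * ξ)
    simp only [map_add, map_one, map_mul, map_pow, ← IsScalarTower.algebraMap_apply]
    linear_combination -h1
  have hwL : algebraMap A L w ≠ 0 := by
    rw [IsScalarTower.algebraMap_apply A K L]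
    exact (_root_.map_ne_zero _).mpr ((map_ne_zero_iff _ (IsFractionRing.injective A K)).mpr hw0)
  have hzu : z = (u - 1) / algebraMap A L w := by
    rw [eq_div_iff hwL]; simp [u]; ring
  have hev : eval₂ ((algebraMap K L).comp (algebraMap A K)) z P = algebraMap K L ξ := by
    rw [← IsScalarTower.algebraMap_eq, ← aeval_def]; exact hz
  suffices key : ∃ _ : FiniteDimensional K L, IsGalois K L ∧ (Module.finrank K L = 1 ∨ Module.finrank K L = p) by
    obtain ⟨_, hgal, hd⟩ := key
    obtain ⟨h1, h2, h3, h4⟩ := H9Ram.PrimeDegree.classify (A := A) hp hd hmon hdeg hirr hder hev hgen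
    have hg : g = (algebraMap K L).comp (algebraMap A K) := IsScalarTower.algebraMap_eq A K L
    clear_value g
    subst hg
    exact ⟨hgal, h1, h2, h3, h4⟩
  by_cases hu0 : u = 0
  · have hbot : (⊥ : IntermediateField K L) = ⊤ := by
      rw [← hgen, eq_comm, IntermediateField.adjoin_simple_eq_bot_iff]
      rw [hzu, hu0, IsScalarTower.algebraMap_apply A K L, ← map_one (algebraMap K L), zero_sub, ← map_neg, ← map_div₀]
      exact IntermediateField.algebraMap_mem _ _
    have hfin : FiniteDimensional K L := by
      have : FiniteDimensional K (⊥ : IntermediateField K L) := Module.finite_of_finrank_eq_succ IntermediateField.finrank_bot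
      rw [hbot] at this
      exact Module.Finite.equiv IntermediateField.topEquiv.toLinearEquiv
    have h1 : Module.finrank K L = 1 := by
      rw [← IntermediateField.finrank_top', ← hbot, IntermediateField.finrank_bot]
    refine ⟨hfin, (isGalois_iff_isGalois_top).mp ?_, Or.inl h1⟩
    rw [← hbot]
    exact isGalois_bot
  have hu' := hu
  let ζL : L := algebraMap A L ζ
  have hprimL : IsPrimitiveRoot ζL p := hprim.map_of_injective (by
    rw [IsScalarTower.algebraMap_eq A K L]
    exact (algebraMap K L).injective.comp (IsFractionRing.injective A K))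
  have hroot : ∀ y : L, (1 + algebraMap A L w * y) ^ p = u ^ p →
      aeval y (P.map (algebraMap A K) - C ξ) = 0 := by
    intro y hy
    have h1 := congrArg (aeval y) hP
    simp only [map_mul, map_sub, map_pow, map_add, map_one, aeval_C, aeval_X] at h1
    rw [hy] at h1
    rw [map_sub, aeval_C, aeval_map_algebraMap, ← sub_eq_zero.mpr (rfl : algebraMap K L ξ = algebraMap K L ξ)]
    congr 1
    refine mul_left_cancel₀ (pow_ne_zero p hwL) ?_
    rw [h1, hu]
    show algebraMap K L (1 + algebraMap A K w ^ p * ξ) - 1 = _
    rw [map_add, map_one, map_mul, map_pow (algebraMap K L), ← IsScalarTower.algebraMap_apply]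
    ring
  obtain ⟨hfin, hgal⟩ := H9Ram.PrimeDegree.isGalois_of_roots hgen (f := P.map (algebraMap A K) - C ξ)
    ((hmon.map _).sub_of_left (lt_of_le_of_lt degree_C_le (natDegree_pos_iff_degree_pos.mp (by
      rw [hmon.natDegree_map, hdeg]; exact hp.pos))))
    (hroot z rfl) (d := p) (by rw [natDegree_sub_C, hmon.natDegree_map, hdeg])
    (r := fun i : Fin p => (ζL ^ (i : ℕ) * u - 1) / algebraMap A L w)
    (fun i j h => by
      simp only [div_left_inj' hwL, sub_left_inj, mul_eq_mul_right_iff, hu0, or_false] at h
      exact Fin.ext (hprimL.pow_inj i.2 j.2 h))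
    (fun i => hroot _ (by
      rw [mul_div_cancel₀ _ hwL, add_sub_cancel, mul_pow, ← pow_mul, mul_comm (i : ℕ) p, pow_mul, hprimL.pow_eq_one,
        one_pow, one_mul]))
  refine ⟨hfin, hgal, ?_⟩
  have hσu : ∀ σ : L ≃ₐ[K] L, (σ u / u) ^ p = 1 := fun σ => by
    rw [div_pow, ← map_pow, hu, AlgEquiv.commutes, div_self]
    rw [← hu]; exact pow_ne_zero _ hu0
  let χ : (L ≃ₐ[K] L) →* rootsOfUnity p L :=
    { toFun := fun σ => rootsOfUnity.mkOfPowEq (σ u / u) (hσu σ)
      map_one' := by
        refine Subtype.ext (Units.ext ?_)
        show u / u = 1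
        exact div_self hu0
      map_mul' := fun σ τ => by
        refine Subtype.ext (Units.ext ?_)
        show σ (τ u) / u = σ u / u * (τ u / u)
        obtain ⟨i, -, hi⟩ := hprimL.eq_pow_of_pow_eq_one (hσu τ)
        have hfix : σ (τ u / u) = τ u / u := by
          rw [← hi, map_pow, show σ ζL = ζL by
            show σ (algebraMap A L ζ) = _
            rw [IsScalarTower.algebraMap_apply A K L, AlgEquiv.commutes, ← IsScalarTower.algebraMap_apply]]
        calc σ (τ u) / u = σ (τ u / u * u) / u := by rw [div_mul_cancel₀ _ hu0]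
          _ = σ u / u * (τ u / u) := by rw [map_mul, hfix]; ring }
  refine H9Ram.PrimeDegree.degree_cases hp (hprimL.card_rootsOfUnity) χ ((injective_iff_map_eq_one _).mpr fun σ hσ => ?_)
  have h1 : σ u / u = 1 := congrArg (fun r : rootsOfUnity p L => ((r : Lˣ) : L)) hσ
  rw [div_eq_one_iff_eq hu0] at h1
  refine AlgEquiv.ext fun y => ?_
  have hy : y ∈ IntermediateField.adjoin K {z} := hgen ▸ IntermediateField.mem_top
  induction hy using IntermediateField.adjoin_induction with
  | mem y hy =>
    rw [Set.mem_singleton_iff.mp hy, hzu, map_div₀, map_sub, map_one, h1, IsScalarTower.algebraMap_apply A K L, AlgEquiv.commutes]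
    rfl
  | algebraMap a => exact σ.commutes a
  | add y w' _ _ hy hw => rw [map_add, hy, hw]; rfl
  | inv y _ hy => rw [map_inv₀, hy]; rfl
  | mul y w' _ _ hy hw => rw [map_mul, hy, hw]; rfl

end Groth.Agent.S7159
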