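import Groth.Statements.S7160
import Mathlib.Algebra.Homology.DerivedCategory.HomologySequence
import Mathlib.Algebra.Homology.DerivedCategory.Linear
import Mathlib.Algebra.Homology.Linear
import Mathlib.Algebra.Homology.ShortComplex.Linear
import Mathlib.Algebra.Category.ModuleCat.EpiMono

set_option autoImplicit false
universe u
open CategoryTheory CategoryTheory.Pretriangulated
attribute [local instance] HasDerivedCategory.standard
open CAlg

namespace Groth.Agent.S7160

open CategoryTheory CategoryTheory.Pretriangulated CategoryTheory.Limits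

attribute [local instance] HasDerivedCategory.standard

theorem homology_map_smul_id (R : Type u) [CommRing R] (f : R) (M : Dual.D R) (i : ℤ) :
    (DerivedCategory.homologyFunctor (ModuleCat.{u} R) i).map (f • 𝟙 M) =
      f • 𝟙 ((DerivedCategory.homologyFunctor (ModuleCat.{u} R) i).obj M) := by
  let X := DerivedCategory.Q.objPreimage M
  let e : DerivedCategory.Q.obj X ≅ M := DerivedCategory.Q.objObjPreimageIso M
  let F := DerivedCategory.homologyFunctor (ModuleCat.{u} R) i
  let η := DerivedCategory.homologyFunctorFactors (ModuleCat.{u} R) i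
  have h1 : HomologicalComplex.homologyMap (f • 𝟙 X) i = f • 𝟙 (X.homology i) := by
    change ShortComplex.homologyMap ((HomologicalComplex.shortComplexFunctor _ _ i).map (f • 𝟙 X)) = _
    rw [show (HomologicalComplex.shortComplexFunctor _ _ i).map (f • 𝟙 X) =
      f • 𝟙 (X.sc i) from rfl, ShortComplex.homologyMap_smul, ShortComplex.homologyMap_id]
    rfl
  have h2 : F.map (DerivedCategory.Q.map (f • 𝟙 X)) = f • 𝟙 (F.obj (DerivedCategory.Q.obj X)) := by
    rw [← cancel_mono (η.hom.app X)]
    refine (η.hom.naturality (f • 𝟙 X)).trans ?_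
    change η.hom.app X ≫ HomologicalComplex.homologyMap (f • 𝟙 X) i = _
    rw [h1]
    change η.hom.app X ≫ (f • 𝟙 ((HomologicalComplex.homologyFunctor _ _ i).obj X)) = _
    rw [Linear.comp_smul, Linear.smul_comp, Category.id_comp, Category.comp_id]
  have h3 : f • 𝟙 M = e.inv ≫ DerivedCategory.Q.map (f • 𝟙 X) ≫ e.hom := by
    rw [DerivedCategory.Q.map_smul f (𝟙 X), DerivedCategory.Q.map_id, Linear.smul_comp,
      Category.id_comp, Linear.comp_smul, Iso.inv_hom_id]
  change F.map (f • 𝟙 M) = _
  rw [h3, Functor.map_comp, Functor.map_comp, h2, Linear.smul_comp, Category.id_comp,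
    Linear.comp_smul, ← Functor.map_comp, Iso.inv_hom_id, F.map_id]

/-- Let R be a ring, f an element of R, M an object of D(R) and C the cone of f : M → M. Suppose that
H^i(M)_f = 0 whenever i < 0 (every element of H^i(M) is killed by a power of f) and that H^i(C) = 0
whenever i < -1. Then H^i(M) vanishes for every i < 0. -/
theorem result (R : Type u) [CommRing R] (f : R) (M C : Dual.D R)
    (g : M ⟶ C) (h : C ⟶ M⟦(1 : ℤ)⟧) (hT : Triangle.mk (f • 𝟙 M) g h ∈ distinguishedTriangles)
    (hloc : ∀ i : ℤ, i < 0 → ∀ x : Dual.HD R M i, ∃ n : ℕ, f ^ n • x = 0)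
    (hC : ∀ i : ℤ, i < -1 → Subsingleton (Dual.HD R C i)) :
    ∀ i : ℤ, i < 0 → Subsingleton (Dual.HD R M i) := by
  intro i hi
  have hz : Limits.IsZero ((DerivedCategory.homologyFunctor (ModuleCat.{u} R) (i - 1)).obj C) :=
    ModuleCat.isZero_of_iff_subsingleton.mpr (hC (i - 1) (by omega))
  have hm : Mono ((DerivedCategory.homologyFunctor (ModuleCat.{u} R) i).map (f • 𝟙 M)) :=
    (DerivedCategory.HomologySequence.mono_homologyMap_mor₁_iff _ hT (i - 1) i (sub_add_cancel i 1)).mpr
      (hz.eq_of_src _ _)
  rw [homology_map_smul_id] at hm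
  have hinj := (ModuleCat.mono_iff_injective _).mp hm
  refine subsingleton_of_forall_eq 0 fun x ↦ ?_
  obtain ⟨n, hn⟩ := hloc i hi x
  induction n generalizing x with
  | zero => simpa using hn
  | succ n ih =>
    refine ih x (hinj ?_)
    change f • (f ^ n • x) = f • (0 : Dual.HD R M i)
    rw [smul_smul, ← pow_succ', hn, smul_zero]

end Groth.Agent.S7160
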