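import Groth.Statements.S7164
import Groth.Agent.H02CA.PseudoExt

set_option autoImplicit false
universe u
open CategoryTheory
attribute [local instance] HasDerivedCategory.standard
open CAlg

namespace Groth.Agent.S7164

open Groth.Agent.H02CA CategoryTheory

attribute [local instance] HasDerivedCategory.standard

theorem injective_part {A : Type u} [CommRing A] [IsNoetherianRing A] (E : DRing.Cx A) [E.IsKProjective]
    (hf : DRing.TermwiseFiniteFree E) {K : Dual.D A} (e : DRing.toD E ≅ K) (I : Ideal A)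
    (M : Type u) [AddCommGroup M] [Module A M] [Module.Finite A M] {p q : ℤ} (hpq : p + q = 0)
    (h : ∀ φ : K ⟶ (Dual.inD A M)⟦p⟧, ∃ n : ℕ, ∀ x ∈ I ^ n, x • φ = 0) :
    ∃ m : ℕ, ∀ z : LinearMap.ker (PseudoExt.pre E (q - 1) q M),
      PseudoExt.Φ _ e hpq ⟨(I ^ m • ⊤ : Submodule A M).mkQ ∘ₗ z.1,
        PseudoExt.comp_mem_ker E q _ z.2⟩ = 0 → PseudoExt.Φ M e hpq z = 0 := by
  have := (hf q).1
  have := (hf q).2
  have := (hf (q + 1)).1
  have := (hf (q + 1)).2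
  have : Module.Finite A (K ⟶ (Dual.inD A M)⟦p⟧) :=
    Module.Finite.of_surjective _ (PseudoExt.Φ_surjective M e hpq)
  obtain ⟨N, hN⟩ := PseudoExt.exists_pow_smul_eq_zero I h
  obtain ⟨c, hc⟩ := PseudoExt.exists_artinRees E q M I (q - 1)
  refine ⟨c + N, fun z hz ↦ ?_⟩
  obtain ⟨w', hw'⟩ := (PseudoExt.Φ_eq_zero_iff _ e hpq _).mp hz
  obtain ⟨w, rfl⟩ := Module.projective_lifting_property _ w' (Submodule.mkQ_surjective _)
  have hwk : w ∘ₗ (E.d q (q + 1)).hom ∈ LinearMap.ker (PseudoExt.pre E (q - 1) q M) :=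
    LinearMap.mem_ker.mpr (PseudoExt.pre_pre E _ _ _ w)
  let u : LinearMap.ker (PseudoExt.pre E (q - 1) q M) := z - ⟨_, hwk⟩
  have hu : u.1 ∈ (I ^ (c + N) • ⊤ : Submodule A _) := PseudoExt.mem_smul_top E q M _ _ fun x ↦ by
    refine (Submodule.Quotient.mk_eq_zero _).mp ?_
    change (I ^ (c + N) • ⊤ : Submodule A M).mkQ (z.1 x - w ((E.d q (q + 1)).hom x)) = 0
    rw [map_sub, sub_eq_zero]
    exact (LinearMap.congr_fun hw' x).symm
  have h2 : u ∈ (I ^ N • ⊤ : Submodule A _) := by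
    have := hc _ (Nat.le_add_right c N) u.1 u.2 hu
    rw [Nat.add_sub_cancel_left] at this
    exact (Submodule.mem_smul_top_iff _ _ _).mpr this
  have h3 : PseudoExt.Φ M e hpq u = 0 := by
    refine Submodule.smul_induction_on h2 (fun a ha v _ ↦ ?_) fun x y hx hy ↦ ?_
    · rw [map_smul]; exact hN a ha _
    · rw [map_add, hx, hy, add_zero]
  have h4 : PseudoExt.Φ M e hpq ⟨_, hwk⟩ = 0 := (PseudoExt.Φ_eq_zero_iff _ e hpq _).mpr ⟨w, rfl⟩
  rwa [map_sub, h4, sub_zero] at h3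

theorem range_part {A : Type u} [CommRing A] [IsNoetherianRing A] (E : DRing.Cx A) [E.IsKProjective]
    (hf : DRing.TermwiseFiniteFree E) {K : Dual.D A} (e : DRing.toD E ≅ K) (I : Ideal A)
    (M : Type u) [AddCommGroup M] [Module A M] [Module.Finite A M] {p q : ℤ} (hpq : p + q = 0)
    (h : ∀ φ : K ⟶ (Dual.inD A M)⟦p + 1⟧, ∃ n : ℕ, ∀ x ∈ I ^ n, x • φ = 0) (n : ℕ) :
    ∃ (m : ℕ) (hnm : n ≤ m), ∀ z : LinearMap.ker (PseudoExt.pre E (q - 1) q (M ⧸ (I ^ m • ⊤ : Submodule A M))),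
      ∃ z₀ : LinearMap.ker (PseudoExt.pre E (q - 1) q M),
        (I ^ n • ⊤ : Submodule A M).mkQ ∘ₗ z₀.1 =
          Submodule.mapQ (I ^ m • ⊤ : Submodule A M) (I ^ n • ⊤) (LinearMap.id : M →ₗ[A] M)
            (Submodule.smul_mono_left (Ideal.pow_le_pow_right hnm)) ∘ₗ z.1 := by
  have := (hf q).1
  have := (hf q).2
  have := (hf (q - 1)).1
  have := (hf (q - 1)).2
  have hpq' : (p + 1) + (q - 1) = 0 := by omega
  have : Module.Finite A (K ⟶ (Dual.inD A M)⟦p + 1⟧) :=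
    Module.Finite.of_surjective _ (PseudoExt.Φ_surjective M e hpq')
  obtain ⟨N, hN⟩ := PseudoExt.exists_pow_smul_eq_zero I h
  obtain ⟨c, hc⟩ := PseudoExt.exists_artinRees E (q - 1) M I (q - 1 - 1)
  refine ⟨n + N + c, by omega, fun z ↦ ?_⟩
  obtain ⟨z', hz'⟩ := Module.projective_lifting_property _ z.1 (Submodule.mkQ_surjective _)
  let v := PseudoExt.pre E (q - 1) q M z'
  have hv : v ∈ (I ^ (n + N + c) • ⊤ : Submodule A _) := PseudoExt.mem_smul_top E (q - 1) M _ _ fun x ↦ by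
    refine (Submodule.Quotient.mk_eq_zero _).mp ?_
    exact (LinearMap.congr_fun hz' _).trans (LinearMap.congr_fun (LinearMap.mem_ker.mp z.2) x)
  have h1 := hc _ (Nat.le_add_left c (n + N)) v (LinearMap.mem_ker.mpr (PseudoExt.pre_pre E _ _ _ z')) hv
  rw [Nat.add_sub_cancel_right, pow_add, ← smul_eq_mul, Submodule.smul_assoc] at h1
  have hD : I ^ N • LinearMap.ker (PseudoExt.pre E (q - 1 - 1) (q - 1) M) ≤
      LinearMap.range (PseudoExt.pre E (q - 1) q M) := Submodule.smul_le.mpr fun a ha y hy ↦ by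
    have := (PseudoExt.Φ_eq_zero_iff M e hpq' (a • ⟨y, hy⟩)).mp
      ((map_smul _ _ _).trans (hN a ha _))
    rwa [sub_add_cancel] at this
  have h2 := SetLike.le_def.mp (smul_mono_right (I ^ n) hD) h1
  rw [LinearMap.range_eq_map, ← Submodule.map_smul''] at h2
  obtain ⟨u, hu, huv⟩ := h2
  refine ⟨⟨z' - u, LinearMap.mem_ker.mpr (by rw [map_sub, huv, sub_self])⟩, LinearMap.ext fun x ↦ ?_⟩
  change (I ^ n • ⊤ : Submodule A M).mkQ (z' x - u x) = _
  rw [map_sub, Submodule.mkQ_apply, Submodule.mkQ_apply,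
    (Submodule.Quotient.mk_eq_zero _).mpr (PseudoExt.apply_mem_of_mem_smul_top M _ hu x),
    sub_zero, LinearMap.comp_apply, ← hz']
  rfl

/-- Let A be a Noetherian ring, I an ideal, K a pseudo-coherent object of D(A) and a an integer. Assume
that for every finite A-module M and every i ≥ a the module Ext^i_A(K, M) is I-power torsion. Then
for i ≥ a and M finite the inverse system (Ext^i_A(K, M/IⁿM))_n is essentially constant with value
Ext^i_A(K, M) (so that Ext^i_A(K, M) = lim Ext^i_A(K, M/IⁿM)): concretely, some comparison map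
Ext^i(K, M) → Ext^i(K, M/I^mM) is injective and for every n there is m' ≥ n such that the image of
the transition map Ext^i(K, M/I^(m')M) → Ext^i(K, M/IⁿM) is contained in the image of Ext^i(K, M).
Here Ext^i(K, X) = Hom_{D(A)}(K, X[i]). -/
theorem result (A : Type u) [CommRing A] [IsNoetherianRing A]
    (I : Ideal A) (K : Dual.D A) (hK : DRing.IsPseudoCoherent' A K) (a : ℤ)
    (htors : ∀ (M : Type u) [AddCommGroup M] [Module A M], Module.Finite A M → ∀ i : ℤ, a ≤ i →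
      ∀ e : K ⟶ (Dual.inD A M)⟦i⟧, ∃ n : ℕ, ∀ x ∈ I ^ n, x • e = 0)
    (M : Type u) [AddCommGroup M] [Module A M] [Module.Finite A M] (i : ℤ) (hi : a ≤ i) :
    let Mq : ℕ → Submodule A M := fun n => I ^ n • ⊤
    let c : ∀ n : ℕ, (K ⟶ (Dual.inD A M)⟦i⟧) → (K ⟶ (Dual.inD A (M ⧸ Mq n))⟦i⟧) :=
      fun n e => e ≫ ((DerivedCategory.singleFunctor (ModuleCat.{u} A) 0).map (ModuleCat.ofHom (Mq n).mkQ))⟦i⟧'
    let t : ∀ n m : ℕ, n ≤ m → (K ⟶ (Dual.inD A (M ⧸ Mq m))⟦i⟧) → (K ⟶ (Dual.inD A (M ⧸ Mq n))⟦i⟧) :=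
      fun n m hnm e => e ≫ ((DerivedCategory.singleFunctor (ModuleCat.{u} A) 0).map (ModuleCat.ofHom
        (Submodule.mapQ (Mq m) (Mq n) (LinearMap.id : M →ₗ[A] M) (Submodule.smul_mono_left (Ideal.pow_le_pow_right hnm)))))⟦i⟧'
    (∃ m : ℕ, Function.Injective (c m)) ∧
      ∀ n : ℕ, ∃ (m' : ℕ) (hnm : n ≤ m'), Set.range (t n m' hnm) ⊆ Set.range (c n) := by
  intro Mq c t
  obtain ⟨E, b, hb, hf, ⟨e⟩⟩ := hK
  have := PseudoExt.isKProjective E b hb hf
  refine ⟨?_, fun n ↦ ?_⟩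
  · obtain ⟨m, hm⟩ := injective_part E hf e I M (add_neg_cancel i) (htors M inferInstance i hi)
    refine ⟨m, fun x y hxy ↦ ?_⟩
    obtain ⟨z, hz⟩ := PseudoExt.Φ_surjective M e (add_neg_cancel i) (x - y)
    rw [← sub_eq_zero, ← hz]
    refine hm z ?_
    rw [PseudoExt.Φ_naturality, hz, Preadditive.sub_comp, sub_eq_zero]
    exact hxy
  · obtain ⟨m, hnm, hm⟩ := range_part E hf e I M (add_neg_cancel i)
      (htors M inferInstance (i + 1) (by omega)) n
    refine ⟨m, hnm, ?_⟩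
    rintro - ⟨φ, rfl⟩
    obtain ⟨z, rfl⟩ := PseudoExt.Φ_surjective _ e (add_neg_cancel i) φ
    obtain ⟨z₀, hz₀⟩ := hm z
    refine ⟨PseudoExt.Φ M e (add_neg_cancel i) z₀, ?_⟩
    refine (PseudoExt.Φ_naturality _ e (add_neg_cancel i) _ z₀).symm.trans ?_
    refine Eq.trans ?_ (PseudoExt.Φ_naturality _ e (add_neg_cancel i) _ z)
    exact congrArg _ (Subtype.ext hz₀)

end Groth.Agent.S7164
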