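import Groth.Statements.S7165
import Groth.Agent.H23Dom.NoethClosure

set_option autoImplicit false
universe u
open EtAlg

namespace Groth.Agent.S7165

open TensorProduct in
/-- Let A → B be an injective local homomorphism of discrete valuation rings whose fields of fractions
are K ⊆ L, the A-algebra B being essentially of finite type. Let K' ⊇ K be an algebraic extension
field for which A', the integral closure of A in K', is a Noetherian ring, and let L' = (L ⊗_K
K')_red. Then B', the integral closure of B in L', is a Noetherian ring. (The published statement
also asserts that Spec B' → Spec A' is surjective and that the residue field extensions are finitely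
generated; this row states only that B' is Noetherian.) -/
theorem result (A B K L : Type u) [CommRing A] [IsDomain A]
    [IsDiscreteValuationRing A] [CommRing B] [IsDomain B] [IsDiscreteValuationRing B] [Algebra A B]
    (hinj : Function.Injective (algebraMap A B)) [IsLocalHom (algebraMap A B)] [Algebra.EssFiniteType A B]
    [Field K] [Field L] [Algebra A K] [IsFractionRing A K] [Algebra B L] [IsFractionRing B L]
    [Algebra K L] [Algebra A L] [IsScalarTower A K L] [IsScalarTower A B L]
    (K' : Type u) [Field K'] [Algebra K K'] [Algebra A K'] [IsScalarTower A K K'] [Algebra.IsAlgebraic K K']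
    (hA' : IsNoetherianRing (integralClosure A K'))
    (L' : Type u) [CommRing L'] [IsReduced L'] [Algebra K L'] [Algebra L L'] [Algebra K' L'] [Algebra B L']
    [IsScalarTower K L L'] [IsScalarTower K K' L'] [IsScalarTower B L L']
    (q : L ⊗[K] K' →ₐ[K] L') (hq : Function.Surjective q) (hker : RingHom.ker q.toRingHom = nilradical (L ⊗[K] K'))
    (hqL : ∀ y : L, q (y ⊗ₜ 1) = algebraMap L L' y) (hqK : ∀ z : K', q (1 ⊗ₜ z) = algebraMap K' L' z) :
    IsNoetherianRing (integralClosure B L') := by
  exact H23Dom.noetherian_integralClosure (A := A) (K := K) hA' q hq hqL hqK

end Groth.Agent.S7165
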