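import Groth.Statements.S7168
import Groth.Agent.H8Props.PseudoCoh.Morphism

set_option autoImplicit false
universe u
attribute [local instance] HasDerivedCategory.standard
open FlatMor

namespace Groth.Agent.S7168

open AlgebraicGeometry CategoryTheory Limits in
/-- A pseudo-coherent morphism of schemes is locally of finite presentation. -/
theorem result {X S : Scheme.{u}} (f : X ⟶ S) (hf : MoreMor.IsPseudoCoherentMor f) :
    LocallyOfFinitePresentation f := by
  rw [HasRingHomProperty.eq_affineLocally @LocallyOfFinitePresentation,
    affineLocally_iff_affineOpens_le]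
  intro V U e
  letI := (f.appLE V.1 U.1 e).hom.toAlgebra
  exact Groth.Agent.H8Props.PseudoCoh.finitePresentation_of_isPseudoCoherentHom (hf U.1 V.1 U.2 V.2 e)

end Groth.Agent.S7168
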