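import Groth.Statements.S7170
import Groth.Agent.H8Props.PseudoCoh.Finite

set_option autoImplicit false
universe u
attribute [local instance] HasDerivedCategory.standard
open FlatMor

namespace Groth.Agent.S7170

open AlgebraicGeometry CategoryTheory Limits in
/-- For a finite morphism f : X → S, pseudo-coherence of f is equivalent to pseudo-coherence of the
O_S-module f_* O_X; as f is affine, the latter means that O_X(f⁻¹ V) is a pseudo-coherent
O_S(V)-module for every affine open V of S, the form used here. -/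
theorem result {X S : Scheme.{u}} (f : X ⟶ S) [IsFinite f] :
    MoreMor.IsPseudoCoherentMor f ↔ ∀ (V : S.Opens), IsAffineOpen V →
      (letI := (f.app V).hom.toAlgebra
       DRing.IsPseudoCoherentModule' Γ(S, V) Γ(X, f ⁻¹ᵁ V)) := by
  have key : ∀ (V : S.Opens), IsAffineOpen V →
      ((Groth.Agent.H8Props.PseudoCoh.PCRing (f.app V).hom) ↔ (letI := (f.app V).hom.toAlgebra
        DRing.IsPseudoCoherentModule' Γ(S, V) Γ(X, f ⁻¹ᵁ V))) := by
    intro V hV
    letI := (f.app V).hom.toAlgebra
    haveI : Module.Finite Γ(S, V) Γ(X, f ⁻¹ᵁ V) := IsFinite.finite_app f V hV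
    exact Groth.Agent.H8Props.PseudoCoh.isPseudoCoherentHom_iff_of_finite.trans Groth.Agent.H8Props.PseudoCoh.isPseudoCoherentModule'_iff.symm
  constructor
  · intro hf V hV
    refine (key V hV).mp ?_
    rw [Scheme.Hom.app_eq_appLE]
    exact HasRingHomProperty.appLE (P := @MoreMor.IsPseudoCoherentMor) f hf ⟨V, hV⟩
      ⟨f ⁻¹ᵁ V, hV.preimage f⟩ le_rfl
  · intro h
    rw [HasRingHomProperty.iff_exists_appLE (P := @MoreMor.IsPseudoCoherentMor)
      (fun R S T _ _ _ _ r _ g hg => (Groth.Agent.H8Props.PseudoCoh.pcRing_away r S).comp hg)]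
    intro x
    obtain ⟨_, ⟨V, hV, rfl⟩, hxV, -⟩ :=
      S.isBasis_affineOpens.exists_subset_of_mem_open (u := Set.univ) (Set.mem_univ (f x)) isOpen_univ
    refine ⟨⟨V, hV⟩, ⟨f ⁻¹ᵁ V, hV.preimage f⟩, hxV, le_rfl, ?_⟩
    have h1 := (key V hV).mpr (h V hV)
    rwa [Scheme.Hom.app_eq_appLE] at h1

end Groth.Agent.S7170
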