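import Groth.Statements.S7173
import Groth.Agent.H8Props.PseudoCoh.Regular

set_option autoImplicit false
universe u
attribute [local instance] HasDerivedCategory.standard
open FlatMor

namespace Groth.Agent.S7173

open AlgebraicGeometry CategoryTheory Limits in
/-- A morphism locally of finite type to a regular scheme S (locally Noetherian with all local rings
regular) whose affine opens have finite Krull dimension is perfect. (The published statement carries
no dimension hypothesis; its proof is the ring statement for a finite type algebra over a regular
ring of finite dimension, so finite Krull dimension of the affine opens of S is assumed here.) -/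
theorem result {X S : Scheme.{u}} (f : X ⟶ S) [LocallyOfFiniteType f] [IsLocallyNoetherian S]
    (hreg : ∀ s : S, IsRegularLocalRing (S.presheaf.stalk s))
    (hdim : ∀ V : S.Opens, IsAffineOpen V → ringKrullDim Γ(S, V) < ⊤) :
    MoreMor.IsPerfectMor f := by
  intro U V hU hV e
  letI := (f.appLE V U e).hom.toAlgebra
  haveI : IsNoetherianRing Γ(S, V) := IsLocallyNoetherian.component_noetherian ⟨V, hV⟩
  haveI : Algebra.FiniteType Γ(S, V) Γ(X, U) :=
    HasRingHomProperty.appLE (P := @LocallyOfFiniteType) f ‹_› ⟨V, hV⟩ ⟨U, hU⟩ e
  haveI : IsRegularRing Γ(S, V) := isRegularRing_iff.2 fun p hp => by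
    let q : PrimeSpectrum Γ(S, V) := ⟨p, hp⟩
    have hmem : hV.fromSpec q ∈ V := hV.range_fromSpec.le ⟨q, rfl⟩
    let x : V := ⟨hV.fromSpec q, hmem⟩
    letI := S.presheaf.algebra_section_stalk x
    haveI := hV.isLocalization_stalk x
    have hq : (hV.primeIdealOf x) = q :=
      hV.fromSpec.isOpenEmbedding.injective (hV.fromSpec_primeIdealOf x)
    haveI : IsLocalization.AtPrime (S.presheaf.stalk (x : S)) p := by
      have h1 := hV.isLocalization_stalk x
      rwa [hq] at h1
    haveI := hreg (x : S)
    exact IsRegularLocalRing.of_ringEquiv
      (IsLocalization.algEquiv p.primeCompl (S.presheaf.stalk (x : S)) (Localization.AtPrime p)).toRingEquiv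
  exact Groth.Agent.H8Props.PseudoCoh.isPerfectHom_of_isRegularRing (hdim V hV)

end Groth.Agent.S7173
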