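import Groth.Statements.S7176
import Groth.Agent.S9774
import Groth.Agent.S9773
import Groth.Agent.H17.RegQuasi
import Groth.Agent.H29Slice.KoszulReg
import Groth.Agent.H29Slice.H1Quasi

set_option autoImplicit false
universe u
attribute [local instance] HasDerivedCategory.standard
open FlatMor

namespace Groth.Agent.S7176

open AlgebraicGeometry CategoryTheory Limits in
/-- Let i : Z → Y and j : Y → X be immersions with X locally Noetherian, j ∘ i a regular immersion and i
perfect. Then i is a regular immersion and j is a regular immersion at every point i(z), z in Z.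
(The published statement concludes that j is a regular immersion outright; its proof works in the
local rings of X at points of Z, and for Z empty the hypotheses hold for every immersion j, so the
conclusion on j is stated at the points of i(Z) only.) Over a locally Noetherian scheme the four
kinds of regular immersion agree; the kind is a parameter here. -/
theorem result {Z Y X : Scheme.{u}} (i : Z ⟶ Y) (j : Y ⟶ X) [IsImmersion i] [IsImmersion j]
    [IsLocallyNoetherian X] (k : RegImm.Kind) (h : RegImm.IsRegularImmersion k (i ≫ j)) (hi : MoreMor.IsPerfectMor i) :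
    RegImm.IsRegularImmersion k i ∧ ∀ z : Z, RegImm.IsRegularImmersionAt k j (i z) := by
  have hup : ∀ (R : Type u) [CommRing R] (rs : List R),
      (RegImm.Kind.regular.Seq R rs → RegImm.Kind.koszul.Seq R rs) ∧
      (RegImm.Kind.koszul.Seq R rs → RegImm.Kind.h1.Seq R rs) ∧
      (RegImm.Kind.h1.Seq R rs → RegImm.Kind.quasi.Seq R rs) := fun R _ rs =>
    ⟨fun h => H29Slice.isKoszulRegular_of_isWeaklyRegular h.toIsWeaklyRegular,
      fun h => H29Slice.isH1Regular_of_isKoszulRegular h, fun h => H29Slice.isQuasiRegular_of_isH1Regular h⟩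
  have hat : ∀ {A B : Scheme.{u}} (m : A ⟶ B) (a : A) (k₁ k₂ : RegImm.Kind),
      (∀ (R : Type u) [CommRing R] (rs : List R), k₁.Seq R rs → k₂.Seq R rs) →
      RegImm.IsRegularImmersionAt k₁ m a → RegImm.IsRegularImmersionAt k₂ m a := by
    rintro A B m a k₁ k₂ hk ⟨U, hz, hcl, rs, hrs, hker⟩
    exact ⟨U, hz, hcl, rs, hk _ rs hrs, hker⟩
  have hto : ∀ {A B : Scheme.{u}} [IsLocallyNoetherian B] (m : A ⟶ B) (a : A) (k₁ : RegImm.Kind),
      RegImm.IsRegularImmersionAt k₁ m a → RegImm.IsRegularImmersionAt .koszul m a := by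
    intro A B _ m a k₁ ha
    cases k₁ with
    | regular => exact hat m a _ _ (fun R _ rs => (hup R rs).1) ha
    | koszul => exact ha
    | h1 => exact hat m a _ _ (fun R _ rs => (hup R rs).1) (H17.RegQuasi.regularImmersionAt_of_quasi m a (hat m a _ _ (fun R _ rs => (hup R rs).2.2) ha))
    | quasi => exact hat m a _ _ (fun R _ rs => (hup R rs).1) (H17.RegQuasi.regularImmersionAt_of_quasi m a ha)
  have hfrom : ∀ {A B : Scheme.{u}} [IsLocallyNoetherian B] (m : A ⟶ B) (a : A) (k₁ : RegImm.Kind),
      RegImm.IsRegularImmersionAt .koszul m a → RegImm.IsRegularImmersionAt k₁ m a := by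
    intro A B _ m a k₁ ha
    have hq : RegImm.IsRegularImmersionAt .quasi m a :=
      hat m a _ _ (fun R _ rs h => (hup R rs).2.2 ((hup R rs).2.1 h)) ha
    cases k₁ with
    | regular => exact H17.RegQuasi.regularImmersionAt_of_quasi m a hq
    | koszul => exact ha
    | h1 => exact hat m a _ _ (fun R _ rs => (hup R rs).2.1) ha
    | quasi => exact hq
  haveI : IsLocallyNoetherian Y := LocallyOfFiniteType.isLocallyNoetherian j
  obtain ⟨h₁, h₂⟩ := Groth.Agent.S9774.result i j hi fun z =>
    Groth.Agent.S9773.result (i ≫ j) .koszul (Or.inr rfl) ⟨inferInstance, fun z => hto _ z k (h.2 z)⟩ z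
  exact ⟨⟨inferInstance, fun z => hfrom _ z k
      (H8Props.KoszImm.regAt_of_isKoszulAt i i (𝟙 Y) (Category.comp_id i) z (h₁ z))⟩,
    fun z => hfrom _ _ k (H8Props.KoszImm.regAt_of_isKoszulAt j j (𝟙 X) (Category.comp_id j) (i z) (h₂ z))⟩

end Groth.Agent.S7176
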