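import Groth.Statements.S7179
import Groth.Agent.H8Props.WeakEtaleScheme
import Groth.Agent.H8Props.WeakEtaleReduced

set_option autoImplicit false
universe u
open FlatMor

namespace Groth.Agent.S7179

open AlgebraicGeometry CategoryTheory Limits in
/-- The source of a weakly étale morphism with reduced target is reduced. -/
theorem result {X Y : Scheme.{u}} (f : X ⟶ Y) [WeaklyEtale f] [IsReduced Y] : IsReduced X := by
  have : ∀ x : X, _root_.IsReduced (X.presheaf.stalk x) := fun x => by
    obtain ⟨_, ⟨V, hV, rfl⟩, hxV, -⟩ :=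
      Y.isBasis_affineOpens.exists_subset_of_mem_open (Set.mem_univ (f.base x)) isOpen_univ
    obtain ⟨_, ⟨U, hU, rfl⟩, hxU, e⟩ :=
      X.isBasis_affineOpens.exists_subset_of_mem_open hxV (f ⁻¹ᵁ V).2
    letI := (f.appLE V U e).hom.toAlgebra
    have := (Groth.Agent.H8Props.WeakEtaleScheme.weaklyEtale_iff_forall_affineOpens f).mp ‹_› U V hU hV e
    have : _root_.IsReduced Γ(X, U) :=
      Groth.Agent.H8Props.WeakEtaleReduced.isReduced_of_weaklyEtale Γ(Y, V) Γ(X, U)
    letI := TopCat.Presheaf.algebra_section_stalk X.presheaf ⟨x, hxU⟩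
    have := hU.isLocalization_stalk ⟨x, hxU⟩
    exact isReduced_localizationPreserves (hU.primeIdealOf ⟨x, hxU⟩).asIdeal.primeCompl (X.presheaf.stalk x) ‹_›
  exact isReduced_of_isReduced_stalk X

end Groth.Agent.S7179
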