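import Groth.Statements.S7183
import Groth.Agent.H8Props.PushoutProps.Fibred
-- import your own Groth.Agent.* helpers here

set_option autoImplicit false
universe u
open FlatMor

namespace Groth.Agent.S7183

open AlgebraicGeometry CategoryTheory Limits in
/-- Let i : Z → X, j : Z → Y be closed immersions with pushout P, let X' → X and Y' → Y be morphisms
whose base changes to Z are identified (a scheme Z' cartesian over both), let P' be the pushout of
Z' → X' and Z' → Y' and h : P' → P the induced morphism. Then h is locally of finite type (resp.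
flat, resp. flat and locally of finite presentation, resp. smooth, resp. étale) if and only if X' →
X and Y' → Y both are. -/
theorem result {X Y Z P X' Y' Z' P' : Scheme.{u}}
    (i : Z ⟶ X) (j : Z ⟶ Y) [IsClosedImmersion i] [IsClosedImmersion j] (a : X ⟶ P) (b : Y ⟶ P) (hP : IsPushout i j a b)
    (f : X' ⟶ X) (g : Y' ⟶ Y) (i' : Z' ⟶ X') (j' : Z' ⟶ Y') (c : Z' ⟶ Z) (hX : IsPullback i' c f i) (hY : IsPullback j' c g j)
    (a' : X' ⟶ P') (b' : Y' ⟶ P') (hP' : IsPushout i' j' a' b') (h : P' ⟶ P) (ha : a' ≫ h = f ≫ a) (hb : b' ≫ h = g ≫ b) :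
    (LocallyOfFiniteType h ↔ LocallyOfFiniteType f ∧ LocallyOfFiniteType g) ∧
    (Flat h ↔ Flat f ∧ Flat g) ∧
    ((Flat h ∧ LocallyOfFinitePresentation h) ↔ (Flat f ∧ LocallyOfFinitePresentation f) ∧ (Flat g ∧ LocallyOfFinitePresentation g)) ∧
    (Smooth h ↔ Smooth f ∧ Smooth g) ∧
    (Etale h ↔ Etale f ∧ Etale g) :=
  H8Props.PushoutProps.properties_iff i j a b hP f g i' j' c hX hY a' b' hP' h ha hb

end Groth.Agent.S7183
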