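import Groth.Statements.S7185


set_option autoImplicit false
universe u
open FlatMor

namespace Groth.Agent.S7185
open CategoryTheory AlgebraicGeometry in
theorem finSep_comp {U U' V : Scheme.{u}} (e : U ⟶ U') [IsIso e] (π : U' ⟶ V) (u : U) :
    (letI := (π.residueFieldMap (e u)).hom.toAlgebra;
      Field.finSepDegree (V.residueField (π (e u))) (U'.residueField (e u))) =
    (letI := ((e ≫ π).residueFieldMap u).hom.toAlgebra;
      Field.finSepDegree (V.residueField ((e ≫ π) u)) (U.residueField u)) := by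
  let := (π.residueFieldMap (e u)).hom.toAlgebra
  let := ((e ≫ π).residueFieldMap u).hom.toAlgebra
  let r : U'.residueField (e u) ≃+* U.residueField u :=
    (asIso (e.residueFieldMap u)).commRingCatIsoToRingEquiv
  let : Algebra (V.residueField (π (e u))) (U.residueField u) :=
    ((e ≫ π).residueFieldMap u).hom.toAlgebra
  refine Field.finSepDegree_eq_of_equiv (V.residueField (π (e u))) (U'.residueField (e u))
    (U.residueField u) (AlgEquiv.ofRingEquiv (f := r) fun x ↦ ?_)
  show (π.residueFieldMap (e u) ≫ e.residueFieldMap u).hom x = ((e ≫ π).residueFieldMap u).hom x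
  rw [Scheme.residueFieldMap_comp]; rfl

open CategoryTheory AlgebraicGeometry in
theorem fibreIntegral_iso {U U' V : Scheme.{u}} (e : U ≅ U') (π : U' ⟶ V) (w' : U' → ℤ) (w : U → ℤ)
    (hw : ∀ u, w' (e.hom u) = w u) (v : V) :
    MoreMor.fibreIntegral π w' v = MoreMor.fibreIntegral (e.hom ≫ π) w v := by
  let σ : {u : U // (e.hom ≫ π) u = v} ≃ {u : U' // π u = v} :=
    e.hom.homeomorph.toEquiv.subtypeEquiv fun u ↦ by rfl
  unfold MoreMor.fibreIntegral
  refine (finsum_eq_of_bijective σ σ.bijective fun u ↦ ?_).symm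
  rw [← hw]
  congr 2
  let := ((e.hom ≫ π).residueFieldMap u.1).hom.toAlgebra
  let := (π.residueFieldMap (σ u).1).hom.toAlgebra
  exact (finSep_comp e.hom π u.1).symm


open AlgebraicGeometry CategoryTheory Limits in
/-- The restriction of a weighting of a locally quasi-finite morphism f : X → Y (locally of finite type
with discrete fibres) to an open subscheme X' of X is a weighting of X' → Y. -/
theorem result {X Y : Scheme.{u}} (f : X ⟶ Y) [LocallyQuasiFinite f] [LocallyOfFiniteType f] (w : X → ℤ)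
    (hw : MoreMor.IsWeighting f w) (X' : X.Opens) : MoreMor.IsWeighting (X'.ι ≫ f) (fun x => w (X'.ι x)) := by
  intro V g _ U hfin
  let m : Limits.pullback (X'.ι ≫ f) g ⟶ Limits.pullback f g :=
    Limits.pullback.map _ _ _ _ X'.ι (𝟙 V) (𝟙 Y) (by simp) (by simp)
  have hm₁ : m ≫ Limits.pullback.fst f g = Limits.pullback.fst (X'.ι ≫ f) g ≫ X'.ι :=
    Limits.pullback.lift_fst _ _ _
  have hm₂ : m ≫ Limits.pullback.snd f g = Limits.pullback.snd (X'.ι ≫ f) g := by
    exact (Limits.pullback.lift_snd _ _ _).trans (Category.comp_id _)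
  let U' := m ''ᵁ U
  let e : (U : Scheme) ≅ U' := m.isoImage U
  have he : e.hom ≫ U'.ι = U.ι ≫ m := m.isoImage_hom_ι U
  let π := U.ι ≫ Limits.pullback.snd (X'.ι ≫ f) g
  let π' := U'.ι ≫ Limits.pullback.snd f g
  have hπ : e.hom ≫ π' = π := by
    show e.hom ≫ U'.ι ≫ _ = _
    rw [← Category.assoc, he, Category.assoc, hm₂]
  have hfin' : IsFinite π' := by
    have : IsFinite (e.hom ≫ π') := by rw [hπ]; exact hfin
    have h1 : IsFinite (e.inv ≫ e.hom ≫ π') := inferInstance
    rwa [Iso.inv_hom_id_assoc] at h1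
  have key := hw V g U' hfin'
  convert key using 1
  funext v
  show MoreMor.fibreIntegral π _ v = MoreMor.fibreIntegral π' _ v
  rw [← hπ]
  exact (fibreIntegral_iso e π' (fun u ↦ w (Limits.pullback.fst f g (U'.ι u))) _ (fun u ↦ by
    show w ((e.hom ≫ U'.ι ≫ Limits.pullback.fst f g) u) =
      w ((U.ι ≫ Limits.pullback.fst (X'.ι ≫ f) g ≫ X'.ι) u)
    rw [← Category.assoc e.hom, he, Category.assoc, hm₁]) v).symm

end Groth.Agent.S7185
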