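import Groth.Statements.S7186
import Groth.Agent.LeadStrat.VB.Main
import Groth.Agent.H19Grp.AntiAffine

set_option backward.isDefEq.respectTransparency false
set_option autoImplicit false
universe u
open FlatMor

namespace Groth.Agent.S7186

open AlgebraicGeometry CategoryTheory Limits in
/-- Let f : X → S be flat, proper and of finite presentation such that O_T → (f_T)_* O_{X_T} is an
isomorphism for every base change T → S. Suppose E is an O_X-module that is finite locally free and
whose restriction to each fibre X_s is free, and let S be reduced. Then E is isomorphic to the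
pullback of a finite locally free O_S-module. -/
theorem result {X S : Scheme.{u}} (f : X ⟶ S) [Flat f] [IsProper f] [LocallyOfFinitePresentation f]
    (hO : ∀ (T : Scheme.{u}) (g : T ⟶ S) (U : T.Opens), IsIso ((pullback.snd f g).app U))
    (E : X.Modules) (hE : FlatMod.IsFinLocFree E)
    (hfib : ∀ s : S, ∃ r : ℕ, Nonempty ((Scheme.Modules.pullback (f.fiberι s)).obj E ≅ FlatMod.freeMod (f.fiber s) r))
    [IsReduced S] :
    ∃ N : S.Modules, FlatMod.IsFinLocFree N ∧ Nonempty ((Scheme.Modules.pullback f).obj N ≅ E) := by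
  have hK : ∀ s : S, IsIso (f.fiberToSpecResidueField s).appTop := fun s =>
    hO _ (S.fromSpecResidueField s) ⊤
  have hconn : ∀ s : S, ConnectedSpace (f.fiber s) := fun s => by
    haveI := hK s
    haveI : Nonempty (f.fiber s) := by
      by_contra h
      haveI := not_nonempty_iff.1 h
      have hb := ConcreteCategory.bijective_of_isIso (f.fiberToSpecResidueField s).appTop
      haveI : Subsingleton Γ(Spec (S.residueField s), ⊤) := hb.1.subsingleton
      have hF := Groth.Agent.H19Grp.AntiAffine.isField_Γ_Spec (S.residueField s)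
      exact (not_subsingleton_iff_nontrivial.2 ⟨hF.exists_pair_ne⟩) this
    exact Groth.Agent.H19Grp.AntiAffine.connectedSpace_of_isIso_appTop (k := S.residueField s)
      (f.fiberToSpecResidueField s)
  obtain ⟨Z, ι, hι, -, -, hZ, hrange⟩ := Groth.Agent.LeadStrat.VB.exists_seesaw_vb f E hE hK hconn
  haveI := hι
  haveI : Surjective ι := ⟨fun s => by
    obtain ⟨r, hr⟩ := hfib s
    exact hrange.ge (show s ∈ {s : S | ∃ n : ℕ, Nonempty (CohIII.fiberMod f E s ≅ FlatMod.freeMod (f.fiber s) n)} from ⟨r, hr⟩)⟩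
  haveI : IsClosedImmersion ι := IsClosedImmersion.of_isPreimmersion ι (by
    rw [ι.surjective.range_eq]; exact isClosed_univ)
  haveI := isIso_of_isClosedImmersion_of_surjective ι
  obtain ⟨N, hN, ⟨φ⟩⟩ := Groth.Agent.LeadStrat.VB.exists_vb_of_locTrivAny _
    (Groth.Agent.LeadStrat.VB.bijective_app_baseChange' f hK (IsPullback.of_hasPullback f (𝟙 S)))
    ((hZ S (𝟙 S)).1 ⟨inv ι, IsIso.inv_hom_id ι⟩)
  refine ⟨N, hN, ⟨?_⟩⟩
  let i : X ⟶ pullback f (𝟙 S) := pullback.lift (𝟙 X) f (by simp)
  exact ((Scheme.Modules.pullbackCongr (pullback.lift_snd (𝟙 X) f (by simp) : i ≫ pullback.snd f (𝟙 S) = f)).symm).app N ≪≫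
    ((Scheme.Modules.pullbackComp i (pullback.snd f (𝟙 S))).app N).symm ≪≫
    (Scheme.Modules.pullback i).mapIso φ.symm ≪≫
    (Scheme.Modules.pullbackComp i (pullback.fst f (𝟙 S))).app E ≪≫
    (Scheme.Modules.pullbackCongr (pullback.lift_fst (𝟙 X) f (by simp) : i ≫ pullback.fst f (𝟙 S) = 𝟙 X)).app E ≪≫
    (Scheme.Modules.pullbackId X).app E

end Groth.Agent.S7186
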