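import Groth.Statements.S7187
import Groth.Agent.LeadR1.Main

set_option autoImplicit false
universe u
open FlatMor

namespace Groth.Agent.S7187

open AlgebraicGeometry CategoryTheory Limits in
/-- Let X and Y be Noetherian schemes and f : X → Y a proper morphism with O_Y → f_* O_X an isomorphism,
fibres of dimension at most 1, and H^1(X_y, O_{X_y}) = 0 for all y. Then f^* is injective on
isomorphism classes of invertible modules, and for every invertible O_X-module L whose restriction
to each fibre X_y is trivial the direct image f_* L is an invertible O_Y-module. (The published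
statement asserts moreover that such an L is isomorphic to f^* f_* L, so that f^* is a bijection
onto the classes of fibrewise trivial invertible modules; that last step is not stated here.) -/
theorem result {X Y : Scheme.{u}} (f : X ⟶ Y) [IsProper f] [IsNoetherian X] [IsNoetherian Y]
    (hO : ∀ U : Y.Opens, IsIso (f.app U))
    (hdim : ∀ y : Y, topologicalKrullDim ↥(f.fiber y) ≤ 1)
    (hH1 : ∀ y : Y, Subsingleton (Coh.HH (f.fiber y) (Coh.structureModule (f.fiber y)) 1)) :
    (∀ N N' : Y.Modules, PicF.IsInvertible N → PicF.IsInvertible N' →
        Nonempty ((Scheme.Modules.pullback f).obj N ≅ (Scheme.Modules.pullback f).obj N') → Nonempty (N ≅ N')) ∧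
    (∀ L : X.Modules, PicF.IsInvertible L →
        (∀ y : Y, Nonempty ((Scheme.Modules.pullback (f.fiberι y)).obj L ≅ Coh.structureModule (f.fiber y))) →
          PicF.IsInvertible ((Scheme.Modules.pushforward f).obj L)) := by
  exact ⟨fun N N' hN hN' h => LeadR1.injective_pullback f hO hN hN' h,
    fun L hL ht => LeadR1.isInvertible_push f hdim hH1 hO hL ht⟩

end Groth.Agent.S7187
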