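import Groth.Statements.S7188
import Groth.Agent.H12Pic.SeesawScheme
import Groth.Agent.H23Para.FlatDescent

set_option autoImplicit false
universe u
open FlatMor

namespace Groth.Agent.S7188

open AlgebraicGeometry CategoryTheory Limits in
/-- Let f : X → S be flat, proper and of finite presentation with O_T → (f_T)_* O_{X_T} an isomorphism
for every base change, let E be an invertible O_X-module, and let j : Z → S be the immersion of
finite presentation representing the locus of those T → S over which the pullback of E comes from a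
finite locally free O_T-module. If every geometric fibre of f is an integral scheme, j is a closed
immersion (the locus is a closed subscheme of S). -/
theorem result {X S Z : Scheme.{u}} (f : X ⟶ S) [Flat f] [IsProper f] [LocallyOfFinitePresentation f]
    (hO : ∀ (T : Scheme.{u}) (g : T ⟶ S) (U : T.Opens), IsIso ((pullback.snd f g).app U))
    (E : X.Modules) (hE : PicF.IsInvertible E)
    (j : Z ⟶ S) [IsImmersion j] [LocallyOfFinitePresentation j]
    (hZ : ∀ (T : Scheme.{u}) (g : T ⟶ S), (∃ g' : T ⟶ Z, g' ≫ j = g) ↔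
        ∃ N : T.Modules, FlatMod.IsFinLocFree N ∧
          Nonempty ((Scheme.Modules.pullback (pullback.snd f g)).obj N ≅ (Scheme.Modules.pullback (pullback.fst f g)).obj E))
    (hgeo : ∀ (K : Type u) [Field K] (x : Spec (CommRingCat.of K) ⟶ S), IsIntegral (pullback f x)) :
    IsClosedImmersion j := by
  have hK : ∀ s : S, IsIso (f.fiberToSpecResidueField s).appTop := fun s =>
    hO (Spec (S.residueField s)) (S.fromSpecResidueField s) ⊤
  have hint : ∀ s : S, IsIntegral (f.fiber s) := fun s => hgeo (S.residueField s) (S.fromSpecResidueField s)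
  haveI : Surjective f := ⟨fun s => by
    haveI := hint s
    obtain ⟨u⟩ := (inferInstance : Nonempty (f.fiber s))
    exact ⟨f.fiberι s u, (f.range_fiberι s).subset ⟨u, rfl⟩⟩⟩
  obtain ⟨Z', ι, hι, hZ'⟩ := H12Pic.exists_seesaw_subscheme f hint hK hE
  have key : ∀ (T : Scheme.{u}) (g : T ⟶ S), (∃ g' : T ⟶ Z, g' ≫ j = g) ↔ ∃ g' : T ⟶ Z', g' ≫ ι = g := by
    intro T g
    rw [hZ T g, hZ' T g]
    constructor
    · rintro ⟨N, hN, ⟨e⟩⟩
      haveI : N.IsQuasicoherent := H8Props.FinLocFree.isQCoh_of_isFinLocFree N hN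
      haveI : Flat (pullback.snd f g) := MorphismProperty.pullback_snd _ _ inferInstance
      haveI : IsProper (pullback.snd f g) := MorphismProperty.pullback_snd _ _ inferInstance
      haveI : Surjective (pullback.snd f g) := MorphismProperty.pullback_snd _ _ inferInstance
      exact ⟨N, H23Para.isInvertible_of_pullback (pullback.snd f g) N
        (H11Tilde.isInvertible_of_iso e.symm (H11Ample.isInvertible_pullback _ hE)), ⟨e.symm⟩⟩
    · rintro ⟨N, hN, ⟨e⟩⟩
      exact ⟨N, H28Pinch.isFinLocFree_of_isInvertible hN, ⟨e.symm⟩⟩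
  obtain ⟨a, ha⟩ := (key Z j).1 ⟨𝟙 Z, Category.id_comp j⟩
  obtain ⟨b, hb⟩ := (key Z' ι).2 ⟨𝟙 Z', Category.id_comp ι⟩
  haveI := hι
  have hab : a ≫ b = 𝟙 Z := by rw [← cancel_mono j, Category.assoc, hb, ha, Category.id_comp]
  have hba : b ≫ a = 𝟙 Z' := by rw [← cancel_mono ι, Category.assoc, ha, hb, Category.id_comp]
  haveI : IsIso a := ⟨b, hab, hba⟩
  rw [← ha]
  infer_instance

end Groth.Agent.S7188
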