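import Groth.Statements.S7189
import Groth.Agent.LeadTrivNhd

set_option autoImplicit false
universe u
open FlatMor

namespace Groth.Agent.S7189


section
open CategoryTheory CategoryTheory.Limits AlgebraicGeometry
open Groth.Agent.LeadBC.GenBC Groth.Agent.H12Pic.Cube

variable {X Y S : Scheme.{u}} (f : X ⟶ S) (g : Y ⟶ S)
  [Flat f] [IsProper f] [LocallyOfFinitePresentation f] [Flat g] [IsProper g] [LocallyOfFinitePresentation g]

theorem hK_prod (hKf : ∀ s : S, IsIso (f.fiberToSpecResidueField s).appTop)
    (hKg : ∀ s : S, IsIso (g.fiberToSpecResidueField s).appTop) (s : S) :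
    IsIso ((pullback.fst f g ≫ f).fiberToSpecResidueField s).appTop := by
  let t := S.fromSpecResidueField s
  let h₁ := pullback.fst f g
  have hh₁ := (IsPullback.of_hasPullback f g).flip
  let q' := pullback.snd h₁ (pullback.fst f t)
  have hq' := IsPullback.of_hasPullback h₁ (pullback.fst f t)
  haveI : IsProper h₁ := MorphismProperty.pullback_fst _ _ inferInstance
  haveI : Flat h₁ := MorphismProperty.pullback_fst _ _ inferInstance
  haveI : LocallyOfFinitePresentation h₁ := MorphismProperty.pullback_fst _ _ inferInstance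
  haveI : IsProper q' := MorphismProperty.pullback_snd _ _ inferInstance
  haveI : Flat q' := MorphismProperty.pullback_snd _ _ inferInstance
  haveI : LocallyOfFinitePresentation q' := MorphismProperty.pullback_snd _ _ inferInstance
  haveI : IsIso q'.appTop :=
    isIso_app_of_fibres q' (isIso_appTop_fibre_baseChange h₁ hq' (isIso_appTop_fibre_baseChange g hh₁ hKg)) ⊤
  haveI : IsIso (pullback.snd f t).appTop := hKf s
  have hpb : IsPullback (pullback.fst h₁ (pullback.fst f t)) (q' ≫ pullback.snd f t) (h₁ ≫ f) t :=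
    hq'.paste_vert (IsPullback.of_hasPullback f t)
  have e : (pullback.fst f g ≫ f).fiberToSpecResidueField s = hpb.isoPullback.inv ≫ q' ≫ pullback.snd f t :=
    (hpb.isoPullback_inv_snd).symm
  have i₁ : IsIso q'.appTop := inferInstance
  have i₂ : IsIso (pullback.snd f t).appTop := inferInstance
  rw [e, Scheme.Hom.comp_appTop, Scheme.Hom.comp_appTop]
  exact IsIso.comp_isIso' (IsIso.comp_isIso' i₂ i₁)
    (show IsIso (hpb.isoPullback.inv.app ⊤) from inferInstance)

theorem triv_of_cancel {P T T' : Scheme.{u}} {π : T' ⟶ T} {L : T.Modules} {l : P ⟶ T'}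
    (h : Triv (l ≫ π) L) : Triv l ((Scheme.Modules.pullback π).obj L) :=
  ⟨(Scheme.Modules.pullbackComp l π).app L ≪≫ h.some⟩

theorem triv_comp {P T T' : Scheme.{u}} {π : T' ⟶ T} {L : T.Modules} {l : P ⟶ T'}
    (h : Triv l ((Scheme.Modules.pullback π).obj L)) : Triv (l ≫ π) L :=
  ⟨((Scheme.Modules.pullbackComp l π).app L).symm ≪≫ h.some⟩

end

open Groth.Agent.H12Pic.Cube in
open AlgebraicGeometry CategoryTheory Limits in
/-- Let f : X → S and g : Y → S be flat, proper, of finite presentation, each with O_T → (·_T)_* O an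
isomorphism after every base change, with sections σ and τ; let s be a point of S and L an
invertible module on X ×_S Y. If L pulls back to a trivial module along X → X ×_S Y, x ↦ (x,
τ(f(x))) and along Y → X ×_S Y, y ↦ (σ(g(y)), y), and L is trivial on the fibre of X ×_S Y over s,
then there is an open neighbourhood U of s over whose preimage L is trivial. -/
theorem result {X Y S : Scheme.{u}} (f : X ⟶ S) (g : Y ⟶ S)
    [Flat f] [IsProper f] [LocallyOfFinitePresentation f] [Flat g] [IsProper g] [LocallyOfFinitePresentation g]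
    (hOf : ∀ (T : Scheme.{u}) (t : T ⟶ S) (U : T.Opens), IsIso ((pullback.snd f t).app U))
    (hOg : ∀ (T : Scheme.{u}) (t : T ⟶ S) (U : T.Opens), IsIso ((pullback.snd g t).app U))
    (σ : S ⟶ X) (hσ : σ ≫ f = 𝟙 S) (τ : S ⟶ Y) (hτ : τ ≫ g = 𝟙 S) (s : S)
    (L : (pullback f g).Modules) (hL : PicF.IsInvertible L)
    (u : X ⟶ pullback f g) (hu1 : u ≫ pullback.fst f g = 𝟙 X) (hu2 : u ≫ pullback.snd f g = f ≫ τ)
    (v : Y ⟶ pullback f g) (hv1 : v ≫ pullback.fst f g = g ≫ σ) (hv2 : v ≫ pullback.snd f g = 𝟙 Y)
    (h1 : Nonempty ((Scheme.Modules.pullback u).obj L ≅ Coh.structureModule X))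
    (h2 : Nonempty ((Scheme.Modules.pullback v).obj L ≅ Coh.structureModule Y))
    (h3 : Nonempty ((Scheme.Modules.pullback ((pullback.fst f g ≫ f).fiberι s)).obj L ≅ Coh.structureModule ((pullback.fst f g ≫ f).fiber s))) :
    ∃ U : S.Opens, s ∈ U ∧ Nonempty (L.restrict ((pullback.fst f g ≫ f) ⁻¹ᵁ U).ι ≅ Coh.structureModule ((pullback.fst f g ≫ f) ⁻¹ᵁ U).toScheme) := by
  have hKf : ∀ t : S, IsIso (f.fiberToSpecResidueField t).appTop := fun t => hOf _ (S.fromSpecResidueField t) ⊤
  have hKg : ∀ t : S, IsIso (g.fiberToSpecResidueField t).appTop := fun t => hOg _ (S.fromSpecResidueField t) ⊤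
  let q := pullback.fst f g ≫ f
  let π : T₃ f g (𝟙 S) ⟶ pullback f g := pullback.fst q (𝟙 S)
  have hπ : π ≫ q = q₃ f g (𝟙 S) := pullback.condition.trans (Category.comp_id _)
  have hT : pullback.snd f g ≫ g = q := pullback.condition.symm
  haveI : IsProper (pullback.fst f g) := MorphismProperty.pullback_fst _ _ inferInstance
  haveI : Flat (pullback.fst f g) := MorphismProperty.pullback_fst _ _ inferInstance
  haveI : LocallyOfFinitePresentation (pullback.fst f g) := MorphismProperty.pullback_fst _ _ inferInstance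
  have hy : ∀ {D : Scheme.{u}} (l : D ⟶ pullback f g),
      l ≫ pullback.snd f g = (l ≫ q) ≫ τ → Triv l L := fun {D} l hl => by
    refine (show Triv u L from h1).comp' (l ≫ pullback.fst f g) ?_
    apply pullback.hom_ext
    · simp only [Category.assoc, hu1, Category.comp_id]
    · simp only [Category.assoc, hu2, hl, q]
  have hx : ∀ {D : Scheme.{u}} (l : D ⟶ pullback f g),
      l ≫ pullback.fst f g = (l ≫ q) ≫ σ → Triv l L := fun {D} l hl => by
    refine (show Triv v L from h2).comp' (l ≫ pullback.snd f g) ?_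
    apply pullback.hom_ext
    · simp only [Category.assoc, hv1]
      rw [← Category.assoc (pullback.snd f g) g, hT, hl]
      simp only [Category.assoc, q]
    · simp only [Category.assoc, hv2, Category.comp_id]
  let D : RelData f g (𝟙 S) ((Scheme.Modules.pullback π).obj L) :=
    { hL := H11Ample.isInvertible_pullback π hL
      x := σ
      hx := hσ
      y := τ
      hy := hτ
      triv_x := fun l hl => triv_of_cancel (hx _ (by
        simp only [Category.assoc, hπ, Category.comp_id] at hl ⊢
        exact hl))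
      triv_y := fun l hl => triv_of_cancel (hy _ (by
        simp only [Category.assoc, hπ, Category.comp_id] at hl ⊢
        exact hl)) }
  haveI : IsIso π := inferInstance
  obtain ⟨U, hsU, hU⟩ := LeadTrivNhd.exists_triv_nhd q (hK_prod f g hKf hKg) hL (s := s) h3
    fun R _ _ r ε hεm hann h => by
      have e : ∀ {T : Scheme.{u}} (r : T ⟶ S), Triv (pullback.fst q r) L ↔
          Triv (pullback.fst (q₃ f g (𝟙 S)) r) ((Scheme.Modules.pullback π).obj L) := fun {T} r => by
        refine ⟨fun h => triv_of_cancel (h.comp' (pullback.lift (pullback.fst (q₃ f g (𝟙 S)) r ≫ π)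
            (pullback.snd _ r) ?_) (pullback.lift_fst _ _ _)),
          fun h => (triv_comp h).comp' (pullback.lift (pullback.fst q r ≫ inv π) (pullback.snd _ r) ?_) ?_⟩
        · rw [Category.assoc, hπ]; exact pullback.condition
        · rw [Category.assoc, ← hπ, IsIso.inv_hom_id_assoc]; exact pullback.condition
        · rw [← Category.assoc, pullback.lift_fst, Category.assoc, IsIso.inv_hom_id, Category.comp_id]
      exact (e r).2 (rel_step D hKf hKg R r ε hεm hann ((e _).1 h))
  exact ⟨U, hsU, ⟨(Scheme.Modules.restrictFunctorIsoPullback _).app L ≪≫ hU.some⟩⟩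

end Groth.Agent.S7189
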