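import Groth.Statements.S7191
import Groth.Agent.H8Props.CompDecomp.Descend
import Groth.Agent.H7Lim.Basic

set_option autoImplicit false
universe u
open CategoryTheory AlgebraicGeometry
open FlatMor

namespace Groth.Agent.S7191
open CategoryTheory.Limits Groth.Agent.H8Props.CompDecomp
set_option backward.isDefEq.respectTransparency false
set_option backward.defeqAttrib.useBackward true


/-- Let S = lim S_i be a cofiltered limit of schemes with affine transition morphisms, f₀ : X₀ → Y₀ a
morphism over some S_{i₀} with Y₀ quasi-compact and quasi-separated and f₀ locally of finite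
presentation, and f : X → Y its base change to S. If f is completely decomposed (every point of Y is
the image of a point of X with the same residue field), then some base change f_i : X_i → Y_i of f₀
to an S_i, i → i₀, is completely decomposed. -/
theorem result {I : Type u} [SmallCategory I] [IsCofiltered I]
    (D : I ⥤ Scheme.{u}) (c : Limits.Cone D) (hc : Limits.IsLimit c)
    [∀ (i j : I) (a : i ⟶ j), IsAffineHom (D.map a)]
    (i0 : I) {X0 Y0 X Y : Scheme.{u}} (f0 : X0 ⟶ Y0) (q0 : Y0 ⟶ D.obj i0) [CompactSpace ↥Y0] [QuasiSeparatedSpace ↥Y0]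
    [LocallyOfFinitePresentation f0]
    (f : X ⟶ Y) (q : Y ⟶ c.pt) (pY : Y ⟶ Y0) (pX : X ⟶ X0)
    (hY : IsPullback pY q q0 (c.π.app i0)) (hX : IsPullback pX f f0 pY)
    (hcd : ∀ y : Y, ∃ x : X, f x = y ∧ Function.Bijective (f.residueFieldMap x)) :
    ∃ (i : I) (a : i ⟶ i0) (Xi Yi : Scheme.{u}) (fi : Xi ⟶ Yi) (qi : Yi ⟶ D.obj i) (pYi : Yi ⟶ Y0) (pXi : Xi ⟶ X0),
      IsPullback pYi qi q0 (D.map a) ∧ IsPullback pXi fi f0 pYi ∧
      ∀ y : Yi, ∃ x : Xi, fi x = y ∧ Function.Bijective (fi.residueFieldMap x) := by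
    classical
    let i : Over i0 := Over.mk (𝟙 i0)
    let p : (H7Lim.pbDiagram D i0 q0).obj i ⟶ Y0 := pullback.fst _ _
    obtain ⟨j, φ, hφ⟩ := exists_stage_hasPoint f0 (H7Lim.isLimitPbCone D i0 q0 hc) i p (by
      intro y
      have e : (H7Lim.pbCone D c i0 q0).π.app i ≫ p = hY.isoPullback.inv ≫ pY := by
        rw [IsPullback.isoPullback_inv_fst]
        exact (pullback.lift_fst _ _ _).trans (Category.comp_id _)
      rw [e]
      refine hasPoint_comp f0 pY hY.isoPullback.inv y ?_
      obtain ⟨x, hx, hb⟩ := hcd (hY.isoPullback.inv y)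
      exact hx ▸ hasPoint_of_bijective f0 f pX pY hX.w x hb)
    refine ⟨j.left, j.hom, _, _, pullback.snd f0 (pullback.fst q0 (D.map j.hom)),
      pullback.snd q0 (D.map j.hom), pullback.fst q0 (D.map j.hom),
      pullback.fst f0 (pullback.fst q0 (D.map j.hom)), IsPullback.of_hasPullback _ _,
      IsPullback.of_hasPullback _ _, fun y => ?_⟩
    obtain ⟨σ, hσ⟩ := hφ y
    have e : (H7Lim.pbDiagram D i0 q0).map φ ≫ p = pullback.fst q0 (D.map j.hom) :=
      (pullback.lift_fst _ _ _).trans (Category.comp_id _)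
    rw [e] at hσ
    exact bijective_residueFieldMap_of_point _ y (pullback.lift σ _ hσ) (pullback.lift_snd _ _ _)

end Groth.Agent.S7191
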