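import Groth.Statements.S7192
import Groth.Agent.H8Props.WeightDescend.Main

set_option autoImplicit false
universe u
open CategoryTheory AlgebraicGeometry
open FlatMor

namespace Groth.Agent.S7192
open CategoryTheory.Limits Groth.Agent.H7Lim Groth.Agent.H8Props.WeightDescend
set_option backward.isDefEq.respectTransparency false
set_option backward.defeqAttrib.useBackward true
set_option linter.style.haveILetI false


/-- Let Y = lim Y_i be a cofiltered limit of affine schemes and f₀ : X₀ → Y_{i₀} a quasi-finite morphism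
of finite presentation between affine schemes, with base changes f : X → Y and f_i : X_i → Y_i. If w
is a weighting of f, then for some i → i₀ there is a weighting w_i of f_i which pulls back to w
along X → X_i. -/
theorem result {I : Type u} [SmallCategory I] [IsCofiltered I]
    (D : I ⥤ Scheme.{u}) (c : Limits.Cone D) (hc : Limits.IsLimit c) [∀ i, IsAffine (D.obj i)]
    (i0 : I) {X0 X : Scheme.{u}} [IsAffine X0] (f0 : X0 ⟶ D.obj i0) [LocallyQuasiFinite f0] [LocallyOfFinitePresentation f0] [QuasiCompact f0]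
    (f : X ⟶ c.pt) (pX : X ⟶ X0) (hX : IsPullback pX f f0 (c.π.app i0))
    (w : X → ℤ) (hw : MoreMor.IsWeighting f w) :
    ∃ (i : I) (a : i ⟶ i0) (Xi : Scheme.{u}) (fi : Xi ⟶ D.obj i) (pXi : Xi ⟶ X0) (g : X ⟶ Xi) (wi : Xi → ℤ),
      IsPullback pXi fi f0 (D.map a) ∧ g ≫ fi = f ≫ c.π.app i ∧ g ≫ pXi = pX ∧
      MoreMor.IsWeighting fi wi ∧ ∀ x : X, wi (g x) = w x := by
    haveI : ∀ (i j : I) (a : i ⟶ j), IsAffineHom (D.map a) := fun _ _ _ => isAffineHom_of_isAffine _
    haveI : IsAffineHom (c.π.app i0) := isAffineHom_π_app D c hc i0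
    haveI : IsAffine (((Functor.const I).obj c.pt).obj i0) := isAffine_of_isAffineHom (c.π.app i0)
    haveI : IsAffine c.pt := ‹IsAffine (((Functor.const I).obj c.pt).obj i0)›
    haveI : IsAffineHom f := MorphismProperty.of_isPullback hX (isAffineHom_of_isAffine f0)
    haveI : IsAffine X := isAffine_of_isAffineHom f
    haveI : LocallyQuasiFinite f := MorphismProperty.of_isPullback hX ‹LocallyQuasiFinite f0›
    haveI : LocallyOfFiniteType f :=
      MorphismProperty.of_isPullback hX (inferInstance : LocallyOfFiniteType f0)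
    haveI : IsAffineHom f0 := isAffineHom_of_isAffine f0
    let M₀ : FPDescent.Model c f i0 := ⟨X0, f0, inferInstance, inferInstance, inferInstance, pX, hX⟩
    obtain ⟨k, w₁, hlev, hw₁⟩ := exists_stage_function hc f M₀ w
      (H7Weight.finite_range_of_compactSpace hw) (H7Weight.isLocallyConstructible_levels hw)
    haveI : LocallyQuasiFinite (M₀.shift k.hom).p :=
      MorphismProperty.pullback_snd _ _ ‹LocallyQuasiFinite f0›
    obtain ⟨l, hl⟩ := exists_stage_isWeighting hc f (M₀.shift k.hom) hw w₁ hlev hw₁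
    let M₂ := (M₀.shift k.hom).shift l.hom
    refine ⟨l.left, l.hom ≫ k.hom, M₂.P, M₂.p,
      pullback.fst _ _ ≫ pullback.fst f0 (D.map k.hom), M₂.g, _, ?_, M₂.hpb.w, ?_, hl, fun x => ?_⟩
    · rw [D.map_comp]
      exact (IsPullback.of_hasPullback (M₀.shift k.hom).p (D.map l.hom)).paste_horiz
        (IsPullback.of_hasPullback f0 (D.map k.hom))
    · simp [M₂, M₀, FPDescent.Model.shift]
    · show w₁ ((M₂.g ≫ pullback.fst _ _) x) = w x
      rw [show M₂.g ≫ pullback.fst _ _ = (M₀.shift k.hom).g from pullback.lift_fst _ _ _]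
      exact hw₁ x

end Groth.Agent.S7192
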