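import Groth.Statements.S7193
import Groth.Agent.H8Props.WeilRes.Affine

set_option autoImplicit false
universe u
open CategoryTheory AlgebraicGeometry
open FlatMor

namespace Groth.Agent.S7193

/-- Let Z, X and S be affine schemes with morphisms Z → S and X → S, and suppose Γ(Z, O_Z) is a finite
free Γ(S, O_S)-module; then the functor Mor_S(Z, X) on schemes over S is represented by some scheme
W over S with W affine. -/
theorem result {Z X S : Scheme.{u}} [IsAffine Z] [IsAffine X] [IsAffine S] (g : Z ⟶ S) (f : X ⟶ S)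
    (hfree : letI := (g.appTop).hom.toAlgebra
      Module.Finite Γ(S, ⊤) Γ(Z, ⊤) ∧ Module.Free Γ(S, ⊤) Γ(Z, ⊤)) :
    ∃ W : Over S, IsAffine W.left ∧ Nonempty ((Flatn.morS g f).RepresentableBy W) := by
    classical
    letI := (g.appTop).hom.toAlgebra
    obtain ⟨hfin, hfr⟩ := hfree
    haveI : Module.Finite Γ(S, ⊤) Γ(Z, ⊤) := hfin
    haveI : Module.Free Γ(S, ⊤) Γ(Z, ⊤) := hfr
    let b := Module.Free.chooseBasis Γ(S, ⊤) Γ(Z, ⊤)
    haveI : Fintype (Module.Free.ChooseBasisIndex Γ(S, ⊤) Γ(Z, ⊤)) := Fintype.ofFinite _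
    refine Groth.Agent.H8Props.WeilRes.exists_representableBy g f (fun i => b i) ?_
    convert b.equivFun.symm.bijective using 1
    funext r
    rw [Module.Basis.equivFun_symm_apply]
    exact Finset.sum_congr rfl fun i _ => (Algebra.smul_def _ _).symm

end Groth.Agent.S7193
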