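import Groth.Statements.S7199
import Groth.Agent.H8Norm.GenericLinear

set_option autoImplicit false
universe u
open FlatMor

namespace Groth.Agent.S7199

/-- Take a field k, an integral domain A that is a finitely generated k-algebra, n ≥ 2 and g_1, …, g_n ∈
A, and suppose some irreducible component of the common zero locus of g_1 and g_2 in Spec A has
dimension dim A − 2. Then for suitable c_1, …, c_n ∈ k the n + 2 elements x_1, …, x_n, Σ g_i x_i, Σ
c_i g_i of the rational function field Frac(A)(x_1, …, x_n) form an algebraically independent family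
over k. -/
theorem result {k A : Type u} [Field k] [CommRing A] [IsDomain A] [Algebra k A]
    [Algebra.FiniteType k A] (m : ℕ) (g : Fin (m + 2) → A)
    (p : Ideal A) (hp : p ∈ (Ideal.span {g 0, g 1}).minimalPrimes) (hdim : ringKrullDim (A ⧸ p) + 2 = ringKrullDim A) :
    ∃ c : Fin (m + 2) → k,
      AlgebraicIndependent k
        (Sum.elim
          (fun i : Fin (m + 2) => algebraMap (MvPolynomial (Fin (m + 2)) (FractionRing A)) (FractionRing (MvPolynomial (Fin (m + 2)) (FractionRing A))) (MvPolynomial.X i))
          ![∑ i, algebraMap A (FractionRing (MvPolynomial (Fin (m + 2)) (FractionRing A))) (g i) *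
              algebraMap (MvPolynomial (Fin (m + 2)) (FractionRing A)) (FractionRing (MvPolynomial (Fin (m + 2)) (FractionRing A))) (MvPolynomial.X i),
            algebraMap A (FractionRing (MvPolynomial (Fin (m + 2)) (FractionRing A))) (∑ i, c i • g i)]) := by
  have h01 := H8Norm.algebraicIndependent_of_minimal_prime (k := k) ![g 0, g 1] p (by simpa using hp) hdim
  let K := FractionRing A
  have hK : AlgebraicIndependent k ![algebraMap A K (g 0), algebraMap A K (g 1)] := by
    have h := h01.map' (f := IsScalarTower.toAlgHom k A K) (IsFractionRing.injective A K)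
    convert h using 1
    ext i
    fin_cases i <;> rfl
  have hR := H8Norm.algebraicIndependent_linear (fun i : Fin (m + 2) => algebraMap A K (g i)) 0 _ hK
  have hL := hR.map' (f := IsScalarTower.toAlgHom k (MvPolynomial (Fin (m + 2)) K)
    (FractionRing (MvPolynomial (Fin (m + 2)) K))) (IsFractionRing.injective _ _)
  refine ⟨Pi.single 1 1, ?_⟩
  convert hL using 1
  funext j
  have hA : ∀ a : A, algebraMap A (FractionRing (MvPolynomial (Fin (m + 2)) K)) a =
      algebraMap (MvPolynomial (Fin (m + 2)) K) _ (MvPolynomial.C (algebraMap A K a)) := fun a => by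
    rw [IsScalarTower.algebraMap_apply A (MvPolynomial (Fin (m + 2)) K),
      IsScalarTower.algebraMap_apply A K (MvPolynomial (Fin (m + 2)) K), MvPolynomial.algebraMap_eq]
  rcases j with i | i
  · rfl
  · fin_cases i
    · simp [K, hA, map_sum]
    · simp [K, hA, Pi.single_apply, ite_smul]

end Groth.Agent.S7199
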