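import Groth.Statements.S7200
import Groth.Agent.H8Props.Bertini.RationalFunctions
import Groth.Agent.H8Props.Bertini.SepClosedAdjoin
import Groth.Agent.H06Geom.GaloisFibre
-- import your own Groth.Agent.* helpers here

set_option autoImplicit false
set_option linter.style.haveILetI false
universe u
open FlatMor

namespace Groth.Agent.S7200

section
open MvPolynomial

/-- Translation of the variables by invariant polynomials. -/
noncomputable def shiftEquiv {K : Type u} [CommRing K] {n : Type} (e : n → MvPolynomial n K)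
    (h₁ : ∀ i, aeval (fun j => X j + e j) (e i) = e i)
    (h₂ : ∀ i, aeval (fun j => X j - e j) (e i) = e i) :
    MvPolynomial n K ≃ₐ[K] MvPolynomial n K :=
  AlgEquiv.ofAlgHom (aeval fun j => X j + e j) (aeval fun j => X j - e j)
    (algHom_ext fun i => by simp only [AlgHom.comp_apply, aeval_X, map_sub, h₁, AlgHom.id_apply]; ring)
    (algHom_ext fun i => by simp only [AlgHom.comp_apply, aeval_X, map_add, h₂, AlgHom.id_apply]; ring)

end

open CategoryTheory Limits in
theorem irreducibleSpace_tensor {k K : Type u} [Field k] [Field K] [Algebra k K]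
    [h : AlgebraicGeometry.GeometricallyIrreducible
      (AlgebraicGeometry.Spec.map (CommRingCat.ofHom (algebraMap k K)))]
    (k' : Type u) [Field k'] [Algebra k k'] :
    IrreducibleSpace (PrimeSpectrum (TensorProduct k k' K)) := by
  have := (AlgebraicGeometry.geometrically_iff_of_isClosedUnderIsomorphisms.1 h.1) k'
    (AlgebraicGeometry.Spec.map (CommRingCat.ofHom (algebraMap k k')))
  exact (pullbackSymmetry _ _ ≪≫
    AlgebraicGeometry.pullbackSpecIso k k' K).hom.homeomorph.irreducibleSpace_iff.mp this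


open AlgebraicGeometry in
/-- Suppose K/k is a finitely generated field extension with K geometrically irreducible over k; let n ≥
1 and g_1, …, g_n ∈ K, and suppose some c ∈ kⁿ makes the n + 2 elements x_1, …, x_n, ξ = Σ g_i x_i,
Σ c_i g_i of Ω = K(x_1, …, x_n) algebraically independent over k. Then Ω remains geometrically
irreducible over its subfield generated over k by x_1, …, x_n and ξ. -/
theorem result {k K : Type u} [Field k] [Field K] [Algebra k K]
    (hfg : (⊤ : IntermediateField k K).FG)
    [GeometricallyIrreducible (Spec.map (CommRingCat.ofHom (algebraMap k K)))]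
    (m : ℕ) (g : Fin (m + 1) → K) (c : Fin (m + 1) → k)
    (hind : AlgebraicIndependent k
      (Sum.elim
        (fun i : Fin (m + 1) => algebraMap (MvPolynomial (Fin (m + 1)) K) (FractionRing (MvPolynomial (Fin (m + 1)) K)) (MvPolynomial.X i))
        ![∑ i, algebraMap K (FractionRing (MvPolynomial (Fin (m + 1)) K)) (g i) * algebraMap (MvPolynomial (Fin (m + 1)) K) (FractionRing (MvPolynomial (Fin (m + 1)) K)) (MvPolynomial.X i),
          algebraMap K (FractionRing (MvPolynomial (Fin (m + 1)) K)) (∑ i, c i • g i)])) :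
    GeometricallyIrreducible (Spec.map (CommRingCat.ofHom (algebraMap
      ↥(IntermediateField.adjoin k
        (Set.range (fun i : Fin (m + 1) => algebraMap (MvPolynomial (Fin (m + 1)) K) (FractionRing (MvPolynomial (Fin (m + 1)) K)) (MvPolynomial.X i)) ∪
          {∑ i, algebraMap K (FractionRing (MvPolynomial (Fin (m + 1)) K)) (g i) * algebraMap (MvPolynomial (Fin (m + 1)) K) (FractionRing (MvPolynomial (Fin (m + 1)) K)) (MvPolynomial.X i)}))
      (FractionRing (MvPolynomial (Fin (m + 1)) K))))) := by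
  classical
  haveI : Algebra.EssFiniteType k K := IntermediateField.fg_top_iff.1 hfg
  haveI : Algebra.EssFiniteType k (MvPolynomial (Fin (m + 1)) K) :=
    Algebra.EssFiniteType.comp k K _
  haveI : Algebra.EssFiniteType (MvPolynomial (Fin (m + 1)) K)
      (FractionRing (MvPolynomial (Fin (m + 1)) K)) :=
    Algebra.EssFiniteType.of_isLocalization _ (nonZeroDivisors _)
  haveI : Algebra.EssFiniteType k (FractionRing (MvPolynomial (Fin (m + 1)) K)) :=
    Algebra.EssFiniteType.comp k (MvPolynomial (Fin (m + 1)) K) _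
  let x : Fin (m + 1) → (FractionRing (MvPolynomial (Fin (m + 1)) K)) := fun i => algebraMap (MvPolynomial (Fin (m + 1)) K) (FractionRing (MvPolynomial (Fin (m + 1)) K)) (MvPolynomial.X i)
  let c' : Fin (m + 1) → K := fun i => algebraMap k K (c i)
  have haeval : MvPolynomial.aeval (R := K) x = IsScalarTower.toAlgHom K (MvPolynomial (Fin (m + 1)) K) (FractionRing (MvPolynomial (Fin (m + 1)) K)) :=
    MvPolynomial.algHom_ext fun i => by simp [x]
  have hx : AlgebraicIndependent K x := by
    show Function.Injective (MvPolynomial.aeval (R := K) x)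
    rw [haeval]; exact IsFractionRing.injective (MvPolynomial (Fin (m + 1)) K) (FractionRing (MvPolynomial (Fin (m + 1)) K))
  have hfrac : ∀ a : (FractionRing (MvPolynomial (Fin (m + 1)) K)), ∃ p q : (MvPolynomial (Fin (m + 1)) K), MvPolynomial.aeval x q ≠ 0 ∧
      a = MvPolynomial.aeval x p / MvPolynomial.aeval x q := by
    intro a
    obtain ⟨p, q, hq, rfl⟩ := IsFractionRing.div_surjective (MvPolynomial (Fin (m + 1)) K) a
    refine ⟨p, q, ?_, ?_⟩
    · rw [haeval]; exact IsFractionRing.to_map_ne_zero_of_mem_nonZeroDivisors hq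
    · rw [haeval]; rfl
  set L0 := IntermediateField.adjoin k (Set.range x)
  have hL0 : ∀ a : (FractionRing (MvPolynomial (Fin (m + 1)) K)), IsSeparable L0 a → a ∈ L0 := fun a ha =>
    Groth.Agent.H8Props.Bertini.mem_adjoin_range_of_isSeparable
      (fun k' _ _ => irreducibleSpace_tensor k') x hx hfrac ha
  let ξ : (FractionRing (MvPolynomial (Fin (m + 1)) K)) := ∑ i, algebraMap K (FractionRing (MvPolynomial (Fin (m + 1)) K)) (g i) * x i
  let η : (FractionRing (MvPolynomial (Fin (m + 1)) K)) := algebraMap K (FractionRing (MvPolynomial (Fin (m + 1)) K)) (∑ i, c i • g i)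
  obtain ⟨j, hj⟩ : ∃ j, c j ≠ 0 := by
    by_contra h
    push Not at h
    refine hind.ne_zero (Sum.inr 1) ?_
    simp [h]
  obtain ⟨i₀, hi₀⟩ : ∃ i₀, i₀ ≠ j := by
    by_contra h
    push Not at h
    have hm : m = 0 := by
      by_contra hm
      haveI : Nontrivial (Fin (m + 1)) := Fin.nontrivial_iff_two_le.2 (by omega)
      obtain ⟨a, ha⟩ := exists_ne j
      exact ha (h a)
    subst hm
    have h1 := hind.eq_zero_of_aeval_eq_zero
      (MvPolynomial.C (c j) * MvPolynomial.X (Sum.inr 0)
        - MvPolynomial.X (Sum.inr 1) * MvPolynomial.X (Sum.inl j)) ?_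
    · have h2 := congrArg (MvPolynomial.eval (Sum.elim (fun _ => (0 : k)) ![1, 0])) h1
      simp at h2
      exact hj h2
    · rw [Subsingleton.elim (α := Fin 1) j 0]
      simp [Algebra.smul_def, ← IsScalarTower.algebraMap_apply k K]
      ring
  let w : (MvPolynomial (Fin (m + 1)) K) := MvPolynomial.C (c' j) * MvPolynomial.X i₀ - MvPolynomial.C (c' i₀) * MvPolynomial.X j
  let e : ℕ → Fin (m + 1) → (MvPolynomial (Fin (m + 1)) K) := fun l i => MvPolynomial.C (c' i) * w ^ (l + 1)
  have hw₁ : ∀ l, MvPolynomial.aeval (fun i => MvPolynomial.X i + e l i) w = w := fun l => by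
    simp [w, e, MvPolynomial.algebraMap_eq]; ring
  have hw₂ : ∀ l, MvPolynomial.aeval (fun i => MvPolynomial.X i - e l i) w = w := fun l => by
    simp [w, e, MvPolynomial.algebraMap_eq]; ring
  let σ : ℕ → (MvPolynomial (Fin (m + 1)) K) ≃ₐ[K] (MvPolynomial (Fin (m + 1)) K) := fun l => shiftEquiv (e l)
    (fun i => by
      show MvPolynomial.aeval (fun j => MvPolynomial.X j + e l j) (MvPolynomial.C (c' i) * w ^ (l + 1)) = _
      rw [map_mul, map_pow, hw₁, MvPolynomial.aeval_C, MvPolynomial.algebraMap_eq])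
    (fun i => by
      show MvPolynomial.aeval (fun j => MvPolynomial.X j - e l j) (MvPolynomial.C (c' i) * w ^ (l + 1)) = _
      rw [map_mul, map_pow, hw₂, MvPolynomial.aeval_C, MvPolynomial.algebraMap_eq])
  let τK : ℕ → (FractionRing (MvPolynomial (Fin (m + 1)) K)) ≃ₐ[K] (FractionRing (MvPolynomial (Fin (m + 1)) K)) := fun l => IsFractionRing.algEquivOfAlgEquiv (σ l)
  let τ : ℕ → (FractionRing (MvPolynomial (Fin (m + 1)) K)) ≃ₐ[k] (FractionRing (MvPolynomial (Fin (m + 1)) K)) := fun l => (τK l).restrictScalars k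
  let φ : ℕ → (FractionRing (MvPolynomial (Fin (m + 1)) K)) := fun l => algebraMap (MvPolynomial (Fin (m + 1)) K) (FractionRing (MvPolynomial (Fin (m + 1)) K)) (w ^ (l + 1))
  have hcK : ∀ i, algebraMap K (FractionRing (MvPolynomial (Fin (m + 1)) K)) (c' i) = algebraMap k (FractionRing (MvPolynomial (Fin (m + 1)) K)) (c i) := fun i =>
    (IsScalarTower.algebraMap_apply k K (FractionRing (MvPolynomial (Fin (m + 1)) K)) (c i)).symm
  have hτx : ∀ l i, τ l (x i) = x i + algebraMap K (FractionRing (MvPolynomial (Fin (m + 1)) K)) (c' i) * φ l := fun l i => by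
    show τK l (x i) = _
    simp only [τK, x, IsFractionRing.algEquivOfAlgEquiv_algebraMap]
    show algebraMap (MvPolynomial (Fin (m + 1)) K) (FractionRing (MvPolynomial (Fin (m + 1)) K)) (MvPolynomial.aeval _ (MvPolynomial.X i)) = _
    rw [MvPolynomial.aeval_X, map_add, map_mul, ← MvPolynomial.algebraMap_eq,
      ← IsScalarTower.algebraMap_apply K (MvPolynomial (Fin (m + 1)) K) (FractionRing (MvPolynomial (Fin (m + 1)) K))]
  have hτφ : ∀ l l', τ l (φ l') = φ l' := fun l l' => by
    show τK l (φ l') = _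
    simp only [τK, φ, IsFractionRing.algEquivOfAlgEquiv_algebraMap]
    show algebraMap (MvPolynomial (Fin (m + 1)) K) (FractionRing (MvPolynomial (Fin (m + 1)) K)) (MvPolynomial.aeval _ (w ^ (l' + 1))) = _
    rw [map_pow, hw₁]
  have hτK : ∀ l (r : K), τ l (algebraMap K (FractionRing (MvPolynomial (Fin (m + 1)) K)) r) = algebraMap K (FractionRing (MvPolynomial (Fin (m + 1)) K)) r := fun l r => (τK l).commutes r
  have hτxs : ∀ l i, (τ l).symm (x i) = x i - algebraMap K (FractionRing (MvPolynomial (Fin (m + 1)) K)) (c' i) * φ l := fun l i => by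
    rw [AlgEquiv.symm_apply_eq, map_sub, map_mul, hτx, hτK, hτφ]; ring
  have hkL0 : ∀ i, algebraMap K (FractionRing (MvPolynomial (Fin (m + 1)) K)) (c' i) ∈ L0 := fun i => by
    rw [hcK]; exact L0.algebraMap_mem _
  have hxL0 : ∀ i, x i ∈ L0 := fun i => IntermediateField.subset_adjoin _ _ ⟨i, rfl⟩
  have hφL0 : ∀ l, φ l ∈ L0 := fun l => by
    show algebraMap (MvPolynomial (Fin (m + 1)) K) (FractionRing (MvPolynomial (Fin (m + 1)) K)) (w ^ (l + 1)) ∈ L0
    rw [map_pow]
    refine pow_mem ?_ _
    simp only [w, map_sub, map_mul]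
    rw [← MvPolynomial.algebraMap_eq, ← IsScalarTower.algebraMap_apply K (MvPolynomial (Fin (m + 1)) K) (FractionRing (MvPolynomial (Fin (m + 1)) K)),
      ← IsScalarTower.algebraMap_apply K (MvPolynomial (Fin (m + 1)) K) (FractionRing (MvPolynomial (Fin (m + 1)) K))]
    exact sub_mem (mul_mem (hkL0 j) (hxL0 i₀)) (mul_mem (hkL0 i₀) (hxL0 j))
  have hclosed : ∀ f : (FractionRing (MvPolynomial (Fin (m + 1)) K)) ≃ₐ[k] (FractionRing (MvPolynomial (Fin (m + 1)) K)), (∀ i, f (x i) ∈ L0) → ∀ a ∈ L0, f a ∈ L0 := by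
    intro f hf a ha
    have h1 : f a ∈ L0.map (f : (FractionRing (MvPolynomial (Fin (m + 1)) K)) →ₐ[k] (FractionRing (MvPolynomial (Fin (m + 1)) K))) := ⟨a, ha, rfl⟩
    rw [IntermediateField.adjoin_map] at h1
    refine IntermediateField.adjoin_le_iff.2 ?_ h1
    rintro _ ⟨_, ⟨i, rfl⟩, rfl⟩
    exact hf i
  have hη : Transcendental ↥(IntermediateField.adjoin L0 {ξ}) η := by
    have h1 := IntermediateField.transcendental_adjoin_iff.2
      (hind.transcendental_adjoin (s := {Sum.inr 1}ᶜ) (i := Sum.inr 1) (by simp))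
    have himage : (Sum.elim x ![ξ, η]) '' {Sum.inr 1}ᶜ = Set.range x ∪ {ξ} := by
      ext a
      constructor
      · rintro ⟨i | i, hi, rfl⟩
        · exact Or.inl ⟨i, rfl⟩
        · fin_cases i
          · exact Or.inr rfl
          · exact absurd rfl hi
      · rintro (⟨i, rfl⟩ | rfl)
        · exact ⟨Sum.inl i, by simp, rfl⟩
        · exact ⟨Sum.inr 0, by simp, rfl⟩
    change Transcendental ↥(IntermediateField.adjoin k ((Sum.elim x ![ξ, η]) '' {Sum.inr 1}ᶜ)) η at h1
    rw [himage, ← IntermediateField.adjoin_adjoin_left] at h1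
    exact h1
  have hφinj : Function.Injective φ := by
    intro a b hab
    have h1 := congrArg (MvPolynomial.aeval (Pi.single i₀ (Polynomial.X : Polynomial K)))
      (IsFractionRing.injective (MvPolynomial (Fin (m + 1)) K) (FractionRing (MvPolynomial (Fin (m + 1)) K)) hab)
    have h2 : MvPolynomial.aeval (Pi.single i₀ (Polynomial.X : Polynomial K)) w =
        Polynomial.C (c' j) * Polynomial.X := by
      simp [w, Pi.single_eq_of_ne hi₀.symm]
    rw [map_pow, map_pow, h2] at h1
    have h3 := congrArg Polynomial.natDegree h1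
    have hcj : c' j ≠ 0 := (map_ne_zero _).2 hj
    rw [Polynomial.natDegree_pow, Polynomial.natDegree_pow, Polynomial.natDegree_C_mul_X _ hcj] at h3
    omega
  refine Groth.Agent.H06Geom.geometricallyIrreducible_Spec ?_
  rw [eq_bot_iff]
  intro α hα
  have hα' := mem_separableClosure_iff.1 hα
  rw [IntermediateField.mem_bot]
  refine ⟨⟨α, ?_⟩, rfl⟩
  change α ∈ IntermediateField.adjoin k (Set.range x ∪ {ξ})
  change IsSeparable ↥(IntermediateField.adjoin k (Set.range x ∪ {ξ})) α at hα'
  rw [← IntermediateField.adjoin_adjoin_left] at hα' ⊢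
  refine Groth.Agent.H8Props.Bertini.mem_adjoin_of_translations (L0 := L0) hL0 ξ η hη τ φ hφL0
    hφinj (fun l a ha => ⟨hclosed (τ l) (fun i => by
        rw [hτx]; exact add_mem (hxL0 i) (mul_mem (hkL0 i) (hφL0 l))) a ha,
      hclosed (τ l).symm (fun i => by
        rw [hτxs]; exact sub_mem (hxL0 i) (mul_mem (hkL0 i) (hφL0 l))) a ha⟩)
    (fun l => ?_) (fun l => hτK l _) hτφ hα'
  simp only [ξ, η, map_sum, map_mul, hτK, hτx, Finset.mul_sum, ← Finset.sum_add_distrib,
    Algebra.smul_def]
  refine Finset.sum_congr rfl fun i _ => ?_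
  ring


end Groth.Agent.S7200
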