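import Groth.Statements.S7201
import Groth.Agent.H8Props.Approx.Scheme

set_option autoImplicit false
set_option linter.style.haveILetI false
universe u
open FlatMor

namespace Groth.Agent.S7201

open AlgebraicGeometry CategoryTheory Limits in
/-- Let h : T → S be a morphism of finite type between Noetherian schemes, t a point of T with image s,
and σ : O_{T,t} → O_{S,s}^∧ a local O_{S,s}-algebra map to the completion. For every N ≥ 1 there is
a morphism of finite type g : T' → T and a point t' over t such that σ factors through O_{T,t} →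
O_{T',t'}, and any local O_{S,s}-algebra map σ' : O_{T,t} → O_{S,s}^∧ factoring through O_{T,t} →
O_{T',t'} agrees with σ modulo m_s^N. -/
theorem result {T S : Scheme.{u}} [IsNoetherian T] [IsNoetherian S]
    (h : T ⟶ S) [LocallyOfFiniteType h] [QuasiCompact h] (t : T)
    (σ : ↑(T.presheaf.stalk t) →+* (AdicCompletion (IsLocalRing.maximalIdeal ↑(S.presheaf.stalk (h t))) ↑(S.presheaf.stalk (h t))))
    (hσ : σ.comp (h.stalkMap t).hom = algebraMap ↑(S.presheaf.stalk (h t)) (AdicCompletion (IsLocalRing.maximalIdeal ↑(S.presheaf.stalk (h t))) ↑(S.presheaf.stalk (h t))))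
    (hloc : ∀ a ∈ IsLocalRing.maximalIdeal ↑(T.presheaf.stalk t),
      σ a ∈ (IsLocalRing.maximalIdeal ↑(S.presheaf.stalk (h t))).map (algebraMap ↑(S.presheaf.stalk (h t)) (AdicCompletion (IsLocalRing.maximalIdeal ↑(S.presheaf.stalk (h t))) ↑(S.presheaf.stalk (h t)))))
    (N : ℕ) (hN : 1 ≤ N) :
    ∃ (T' : Scheme.{u}) (g : T' ⟶ T) (t' : T') (hg : g t' = t) (τ : ↑(T'.presheaf.stalk t') →+* (AdicCompletion (IsLocalRing.maximalIdeal ↑(S.presheaf.stalk (h t))) ↑(S.presheaf.stalk (h t)))),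
      LocallyOfFiniteType g ∧ QuasiCompact g ∧
      τ.comp ((g.stalkMap t').hom.comp (T.presheaf.stalkCongr (Inseparable.of_eq hg)).inv.hom) = σ ∧
      ∀ (σ' : ↑(T.presheaf.stalk t) →+* (AdicCompletion (IsLocalRing.maximalIdeal ↑(S.presheaf.stalk (h t))) ↑(S.presheaf.stalk (h t)))),
        σ'.comp (h.stalkMap t).hom = algebraMap ↑(S.presheaf.stalk (h t)) (AdicCompletion (IsLocalRing.maximalIdeal ↑(S.presheaf.stalk (h t))) ↑(S.presheaf.stalk (h t))) →
        (∀ a ∈ IsLocalRing.maximalIdeal ↑(T.presheaf.stalk t),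
          σ' a ∈ (IsLocalRing.maximalIdeal ↑(S.presheaf.stalk (h t))).map (algebraMap ↑(S.presheaf.stalk (h t)) (AdicCompletion (IsLocalRing.maximalIdeal ↑(S.presheaf.stalk (h t))) ↑(S.presheaf.stalk (h t))))) →
        (∃ τ' : ↑(T'.presheaf.stalk t') →+* (AdicCompletion (IsLocalRing.maximalIdeal ↑(S.presheaf.stalk (h t))) ↑(S.presheaf.stalk (h t))),
          τ'.comp ((g.stalkMap t').hom.comp (T.presheaf.stalkCongr (Inseparable.of_eq hg)).inv.hom) = σ') →
        ∀ a : ↑(T.presheaf.stalk t), σ a - σ' a ∈ (IsLocalRing.maximalIdeal ↑(S.presheaf.stalk (h t)) ^ N).map (algebraMap ↑(S.presheaf.stalk (h t)) (AdicCompletion (IsLocalRing.maximalIdeal ↑(S.presheaf.stalk (h t))) ↑(S.presheaf.stalk (h t)))) := by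
  let O := S.presheaf.stalk (h t)
  let L := AdicCompletion (IsLocalRing.maximalIdeal ↑O) ↑O
  obtain ⟨V, hV, hsV, -⟩ := TopologicalSpace.Opens.isBasis_iff_nbhd.mp S.isBasis_affineOpens
    (TopologicalSpace.Opens.mem_top (h t))
  obtain ⟨W, hW, htW, hWV⟩ := TopologicalSpace.Opens.isBasis_iff_nbhd.mp T.isBasis_affineOpens
    (show t ∈ h ⁻¹ᵁ V from hsV)
  let R := Γ(S, V)
  let B := Γ(T, W)
  haveI : IsNoetherianRing R := IsLocallyNoetherian.component_noetherian ⟨V, hV⟩
  haveI : IsNoetherianRing B := IsLocallyNoetherian.component_noetherian ⟨W, hW⟩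
  letI : Algebra R B := (h.appLE V W hWV).hom.toAlgebra
  haveI : Algebra.FiniteType R B :=
    HasRingHomProperty.appLE @LocallyOfFiniteType h inferInstance ⟨V, hV⟩ ⟨W, hW⟩ hWV
  letI : Algebra R ↑O := S.presheaf.algebra_section_stalk ⟨h t, hsV⟩
  haveI : IsLocalization.AtPrime ↑O (hV.primeIdealOf ⟨h t, hsV⟩).asIdeal := hV.isLocalization_stalk ⟨h t, hsV⟩
  letI : Algebra B ↑(T.presheaf.stalk t) := T.presheaf.algebra_section_stalk ⟨t, htW⟩
  haveI : IsLocalization.AtPrime ↑(T.presheaf.stalk t) (hW.primeIdealOf ⟨t, htW⟩).asIdeal :=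
    hW.isLocalization_stalk ⟨t, htW⟩
  set P := (hV.primeIdealOf ⟨h t, hsV⟩).asIdeal
  let σc : T.presheaf.stalk t ⟶ CommRingCat.of L := CommRingCat.ofHom σ
  -- compatibility with the base on affine charts
  have hgerm : h.appLE V W hWV ≫ T.presheaf.germ W t htW = S.presheaf.germ V (h t) hsV ≫ h.stalkMap t := by
    rw [Scheme.Hom.germ_stalkMap, Scheme.Hom.appLE, Category.assoc, TopCat.Presheaf.germ_res]
  have hRB : ∀ (σ₁ : ↑(T.presheaf.stalk t) →+* L), σ₁.comp (h.stalkMap t).hom = algebraMap ↑O L →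
      ∀ r : R, σ₁ (algebraMap B _ (algebraMap R B r)) = algebraMap ↑O L (algebraMap R ↑O r) := fun σ₁ h₁ r => by
    rw [← h₁]
    exact congrArg σ₁ (ConcreteCategory.congr_hom hgerm r)
  obtain ⟨n, π, hπ⟩ := Algebra.FiniteType.iff_quotient_mvPolynomial''.1 ‹Algebra.FiniteType R B›
  let b : Fin n → B := fun i => π (MvPolynomial.X i)
  obtain ⟨k, w, hw⟩ := Submodule.fg_iff_exists_fin_generating_family.1 (IsNoetherian.noetherian (P ^ N))
  have hmax : (P ^ N).map (algebraMap R L) = IsLocalRing.maximalIdeal L ^ N := by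
    rw [IsScalarTower.algebraMap_eq R ↑O L, ← Ideal.map_map, Ideal.map_pow, Ideal.map_pow,
      Groth.Agent.H8Props.Approx.maximalIdeal_completion]
    exact congrArg (fun I => I.map (algebraMap ↑O L) ^ N) (IsLocalization.AtPrime.map_eq_maximalIdeal P ↑O)
  -- the equations
  have hex : ∀ i, ∃ (r s : R) (z : Fin k → L), s ∉ P ∧
      algebraMap R L s * σ (algebraMap B _ (b i)) - algebraMap R L r = ∑ j, z j * algebraMap R L (w j) := by
    intro i
    obtain ⟨c, hc⟩ := Groth.Agent.H8Props.Approx.exists_evalₐ_eq N (σ (algebraMap B _ (b i)))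
    obtain ⟨r, ⟨s, hs⟩, rfl⟩ := IsLocalization.exists_mk'_eq P.primeCompl c
    have hmem : algebraMap R L s * σ (algebraMap B _ (b i)) - algebraMap R L r ∈
        Ideal.span (Set.range fun j => algebraMap R L (w j)) := by
      rw [← Ideal.submodule_span_eq, show Set.range (fun j => algebraMap R L (w j)) =
        algebraMap R L '' Set.range w from Set.range_comp _ _, Ideal.submodule_span_eq, ← Ideal.map_span,
        show Ideal.span (Set.range w) = P ^ N from hw, hmax,
        IsScalarTower.algebraMap_apply R ↑O L r, IsScalarTower.algebraMap_apply R ↑O L s,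
        ← IsLocalization.mk'_spec' ↑O r ⟨s, hs⟩, map_mul, ← mul_sub]
      exact Ideal.mul_mem_left _ _ hc
    obtain ⟨z, hz⟩ := Ideal.mem_span_range_iff_exists_fun.1 hmem
    exact ⟨r, s, z, hs, hz.symm⟩
  choose r s z hs hz using hex
  let E : Fin n → MvPolynomial (Fin n × Fin k) B := fun i =>
    MvPolynomial.C (algebraMap R B (s i) * b i - algebraMap R B (r i)) -
      ∑ j, MvPolynomial.X (i, j) * MvPolynomial.C (algebraMap R B (w j))
  let B' := MvPolynomial (Fin n × Fin k) B ⧸ Ideal.span (Set.range E)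
  have hRL : ∀ r : R, σ (algebraMap B _ (algebraMap R B r)) = algebraMap R L r := fun r => by
    rw [hRB σ hσ, ← IsScalarTower.algebraMap_apply]
  let τ₀ : B' →+* L := Ideal.Quotient.lift _
    (MvPolynomial.eval₂Hom (σ.comp (algebraMap B ↑(T.presheaf.stalk t))) fun ij => z ij.1 ij.2) (by
      intro x hx
      refine (Ideal.span_le.2 ?_ : Ideal.span (Set.range E) ≤ RingHom.ker _) hx
      rintro _ ⟨i, rfl⟩
      simp [E, RingHom.mem_ker, MvPolynomial.eval₂_sum, hRL, hz])
  let T' := Spec (CommRingCat.of B')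
  let g : T' ⟶ T := Spec.map (CommRingCat.ofHom (algebraMap B B')) ≫ hW.fromSpec
  let Ψ : Spec (CommRingCat.of L) ⟶ T' := Spec.map (CommRingCat.ofHom τ₀)
  haveI : IsLocalHom σc.hom := ((IsLocalRing.local_hom_TFAE σ).out 2 0).1
    (Ideal.map_le_iff_le_comap.2 fun a ha => by
      rw [Ideal.mem_comap, Groth.Agent.H8Props.Approx.maximalIdeal_completion]; exact hloc a ha)
  have hΨ : Ψ ≫ g = Spec.map σc ≫ T.fromSpecStalk t := by
    rw [← IsAffineOpen.fromSpecStalk_eq_fromSpecStalk hW htW, IsAffineOpen.fromSpecStalk, ← Category.assoc,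
      ← Category.assoc, ← Spec.map_comp, ← Spec.map_comp]
    congr 2
    refine CommRingCat.hom_ext (RingHom.ext fun a => ?_)
    show τ₀ (Ideal.Quotient.mk _ (MvPolynomial.C a)) = σ (algebraMap B _ a)
    rw [Ideal.Quotient.lift_mk, MvPolynomial.eval₂Hom_C]
    rfl
  let t' : T' := Ψ (IsLocalRing.closedPoint (CommRingCat.of L))
  have hg : g t' = t := by
    rw [← Scheme.Hom.comp_apply, hΨ, Scheme.Hom.comp_apply]
    rw [Groth.Agent.H8Props.Approx.closedPoint_SpecMap σc, Scheme.fromSpecStalk_closedPoint]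
  let τ : T'.presheaf.stalk t' ⟶ CommRingCat.of L := Scheme.stalkClosedPointTo (R := CommRingCat.of L) Ψ
  have hτ : Spec.map τ ≫ T'.fromSpecStalk t' = Ψ :=
    Scheme.Spec_stalkClosedPointTo_fromSpecStalk (R := CommRingCat.of L) Ψ
  have hτg : Groth.Agent.H8Props.Approx.stalkTo g t' hg ≫ τ = σc := by
    apply Spec.map_injective
    rw [← cancel_mono (T.fromSpecStalk t), Spec.map_comp, Category.assoc,
      Groth.Agent.H8Props.Approx.SpecMap_stalkTo, reassoc_of% hτ, hΨ]
  haveI : Algebra.FiniteType B B' := inferInstance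
  haveI : LocallyOfFiniteType (Spec.map (CommRingCat.ofHom (algebraMap B B'))) :=
    (HasRingHomProperty.Spec_iff (P := @LocallyOfFiniteType)).2 (RingHom.finiteType_algebraMap.2 ‹_›)
  refine ⟨T', g, t', hg, τ.hom, inferInstanceAs (LocallyOfFiniteType (_ ≫ _)),
    inferInstanceAs (QuasiCompact (_ ≫ _)), congrArg CommRingCat.Hom.hom hτg, ?_⟩
  intro σ' hσ' _ hτ'
  obtain ⟨τ', hτ'⟩ := hτ'
  have hR' : ∀ r : R, σ' (algebraMap B _ (algebraMap R B r)) = algebraMap R L r := fun r => by
    rw [hRB σ' hσ', ← IsScalarTower.algebraMap_apply]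
  let γ : B' →+* ↑(T'.presheaf.stalk t') :=
    (T'.presheaf.germ ⊤ t' trivial).hom.comp (Scheme.ΓSpecIso (CommRingCat.of B')).inv.hom
  have hγ : ∀ a : B, (Groth.Agent.H8Props.Approx.stalkTo g t' hg).hom (algebraMap B _ a) = γ (algebraMap B B' a) := by
    intro a
    have e : T.presheaf.germ W t htW ≫ Groth.Agent.H8Props.Approx.stalkTo g t' hg =
        CommRingCat.ofHom (algebraMap B B') ≫ CommRingCat.ofHom γ := by
      apply Spec.map_injective
      rw [← cancel_mono hW.fromSpec, Spec.map_comp, Category.assoc, ← IsAffineOpen.fromSpecStalk,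
        IsAffineOpen.fromSpecStalk_eq_fromSpecStalk hW htW, Groth.Agent.H8Props.Approx.SpecMap_stalkTo,
        Spec.map_comp, Category.assoc]
      congr 1
      exact AlgebraicGeometry.Spec.fromSpecStalk_eq (CommRingCat.of B') t'
    exact ConcreteCategory.congr_hom e a
  have hgen : ∀ i, σ (algebraMap B _ (b i)) - σ' (algebraMap B _ (b i)) ∈ IsLocalRing.maximalIdeal L ^ N := by
    intro i
    have h1 : τ' (γ (Ideal.Quotient.mk _ (E i))) = 0 := by
      rw [Ideal.Quotient.eq_zero_iff_mem.2 (Ideal.subset_span (Set.mem_range_self i) : E i ∈ Ideal.span (Set.range E)), map_zero, map_zero]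
    have hC : ∀ a : B, τ' (γ (Ideal.Quotient.mk _ (MvPolynomial.C a))) = σ' (algebraMap B _ a) := fun a =>
      (congrArg τ' (hγ a)).symm.trans (RingHom.congr_fun hτ' _)
    have h2 : algebraMap R L (s i) * σ' (algebraMap B _ (b i)) - algebraMap R L (r i) =
        ∑ j, τ' (γ (Ideal.Quotient.mk _ (MvPolynomial.X (i, j)))) * algebraMap R L (w j) := by
      have hE : E i = MvPolynomial.C (algebraMap R B (s i) * b i - algebraMap R B (r i)) -
          ∑ j, MvPolynomial.X (i, j) * MvPolynomial.C (algebraMap R B (w j)) := rfl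
      rw [hE] at h1
      simp only [map_sub, map_sum, map_mul, sub_eq_zero] at h1
      simp only [hC, map_mul, map_sub, hR'] at h1
      exact h1
    have hmem : ∀ c : Fin k → L, ∑ j, c j * algebraMap R L (w j) ∈ IsLocalRing.maximalIdeal L ^ N := fun c =>
      Ideal.sum_mem _ fun j _ => Ideal.mul_mem_left _ _ (hmax ▸ Ideal.mem_map_of_mem _
        (hw ▸ Submodule.subset_span ⟨j, rfl⟩))
    have h3 := sub_mem ((hz i).symm ▸ hmem (z i)) (h2.symm ▸ hmem _)
    rw [sub_sub_sub_cancel_right, ← mul_sub] at h3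
    have hu : IsUnit (algebraMap R L (s i)) := by
      rw [IsScalarTower.algebraMap_apply R ↑O L]
      exact (IsLocalization.map_units ↑O (⟨s i, hs i⟩ : P.primeCompl)).map _
    exact (Ideal.unit_mul_mem_iff_mem _ hu).1 h3
  have key : (Ideal.Quotient.mk (IsLocalRing.maximalIdeal L ^ N)).comp σ =
      (Ideal.Quotient.mk (IsLocalRing.maximalIdeal L ^ N)).comp σ' := by
    refine IsLocalization.ringHom_ext (hW.primeIdealOf ⟨t, htW⟩).asIdeal.primeCompl ?_
    refine (RingHom.cancel_right (f := π.toRingHom) hπ).1 (MvPolynomial.ringHom_ext (fun r => ?_) fun i => ?_)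
    · have : π (MvPolynomial.C r) = algebraMap R B r := π.commutes r
      show Ideal.Quotient.mk _ (σ (algebraMap B _ (π (MvPolynomial.C r)))) =
        Ideal.Quotient.mk _ (σ' (algebraMap B _ (π (MvPolynomial.C r))))
      rw [this]
      exact congrArg _ ((hRL r).trans (hR' r).symm)
    · exact Ideal.Quotient.eq.2 (hgen i)
  intro a
  rw [Ideal.map_pow, ← Groth.Agent.H8Props.Approx.maximalIdeal_completion]
  exact Ideal.Quotient.eq.1 (RingHom.congr_fun key a)

end Groth.Agent.S7201
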