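import Groth.Statements.S7204
-- import your own Groth.Agent.* helpers here

set_option autoImplicit false
universe w u
open FlatMor

namespace Groth.Agent.S7204

open AlgebraicGeometry CategoryTheory Limits in
/-- Let (X_i)_{i ∈ I} be a diagram of schemes and (W, X_i → W) a cocone under it. If there is an fpqc
covering {W_a → W} such that each W_a is the colimit (in schemes) of the base-changed diagram (X_i
×_W W_a), and each W_a ×_W W_b is the colimit of (X_i ×_W W_a ×_W W_b), then W is the colimit of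
(X_i) in the category of schemes. -/
theorem result {J : Type u} [SmallCategory J] (D : J ⥤ Scheme.{u}) (c : Cocone D)
    (F : PreZeroHypercover.{w} c.pt) (hF : F.presieve₀ ∈ Scheme.fpqcPrecoverage c.pt)
    (h1 : ∀ a : F.I₀, Nonempty (IsColimit ((Over.forgetCocone (F.X a)).whisker
      (D.toOver c.pt (fun j => c.ι.app j) (fun g => c.w g) ⋙ Over.pullback (F.f a)))))
    (h2 : ∀ a b : F.I₀, Nonempty (IsColimit ((Over.forgetCocone (pullback (F.f a) (F.f b))).whisker
      (D.toOver c.pt (fun j => c.ι.app j) (fun g => c.w g) ⋙ Over.pullback (pullback.fst (F.f a) (F.f b) ≫ F.f a))))) :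
    Nonempty (IsColimit c) := by
  have hsh : ∀ (T : Scheme.{u}) (W : Scheme.{u}) (R : Presieve W), R ∈ Scheme.fpqcPrecoverage W →
      Presieve.IsSheafFor (yoneda.obj T) R := fun T W R hR =>
    Presieve.IsSheaf.isSheafFor (J := Scheme.fpqcTopology) (P := yoneda.obj T)
      (GrothendieckTopology.Subcanonical.isSheaf_of_isRepresentable _) R
      (Precoverage.generate_mem_toGrothendieck hR)
  have hext : ∀ {T W : Scheme.{u}} {R : Presieve W}, R ∈ Scheme.fpqcPrecoverage W → ∀ (p q : W ⟶ T),
      (∀ ⦃V : Scheme.{u}⦄ (g : V ⟶ W), R g → g ≫ p = g ≫ q) → p = q := fun {T W R} hR p q h =>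
    (hsh T W R hR).isSeparatedFor.ext (fun V g hg => h g hg)
  let H1 := fun a => (h1 a).some
  let H2 := fun a b => (h2 a b).some
  refine ⟨IsColimit.ofExistsUnique fun s => ?_⟩
  -- the local morphisms
  let G := fun (W : Scheme.{u}) (g : W ⟶ c.pt) =>
    D.toOver c.pt (fun j => c.ι.app j) (fun g => c.w g) ⋙ Over.pullback g
  let sa : ∀ a, Cocone (G _ (F.f a) ⋙ Over.forget _) := fun a =>
    { pt := s.pt
      ι := { app := fun j => pullback.fst (c.ι.app j) (F.f a) ≫ s.ι.app j
             naturality := fun i j g => by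
              change pullback.lift _ _ _ ≫ pullback.fst (c.ι.app j) (F.f a) ≫ s.ι.app j =
                (pullback.fst (c.ι.app i) (F.f a) ≫ s.ι.app i) ≫ 𝟙 _
              rw [pullback.lift_fst_assoc, Category.comp_id]
              change (pullback.fst (c.ι.app i) (F.f a) ≫ D.map g) ≫ s.ι.app j = _
              rw [Category.assoc, s.w g] } }
  let u : ∀ a, F.X a ⟶ s.pt := fun a => (H1 a).desc (sa a)
  have hu : ∀ a j, pullback.snd (c.ι.app j) (F.f a) ≫ u a =
      pullback.fst (c.ι.app j) (F.f a) ≫ s.ι.app j := fun a j => (H1 a).fac (sa a) j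
  -- they agree on overlaps
  have hcomp : ∀ a b, pullback.fst (F.f a) (F.f b) ≫ u a = pullback.snd (F.f a) (F.f b) ≫ u b := by
    intro a b
    refine (H2 a b).hom_ext fun j => ?_
    change pullback.snd (c.ι.app j) (pullback.fst (F.f a) (F.f b) ≫ F.f a) ≫ _ =
      pullback.snd (c.ι.app j) (pullback.fst (F.f a) (F.f b) ≫ F.f a) ≫ _
    let qf := pullback.fst (c.ι.app j) (pullback.fst (F.f a) (F.f b) ≫ F.f a)
    let qs := pullback.snd (c.ι.app j) (pullback.fst (F.f a) (F.f b) ≫ F.f a)
    have hq : qf ≫ c.ι.app j = qs ≫ pullback.fst (F.f a) (F.f b) ≫ F.f a := pullback.condition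
    have ha : qf ≫ c.ι.app j = (qs ≫ pullback.fst (F.f a) (F.f b)) ≫ F.f a := by rw [hq, Category.assoc]
    have hb : qf ≫ c.ι.app j = (qs ≫ pullback.snd (F.f a) (F.f b)) ≫ F.f b :=
      hq.trans ((congrArg (qs ≫ ·) pullback.condition).trans (Category.assoc _ _ _).symm)
    have ea := congrArg (pullback.lift qf _ ha ≫ ·) (hu a j)
    have eb := congrArg (pullback.lift qf _ hb ≫ ·) (hu b j)
    simp only [pullback.lift_fst_assoc, pullback.lift_snd_assoc] at ea eb
    rw [← Category.assoc, ← Category.assoc]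
    simp only [Category.assoc] at ea eb ⊢
    exact ea.trans eb.symm
  -- glue
  obtain ⟨v, hv, hv'⟩ := (Presieve.isSheafFor_arrows_iff_pullbacks (yoneda.obj s.pt) F.f).1 (hsh s.pt c.pt _ hF) u hcomp
  refine ⟨v, fun j => ?_, fun m hm => hv' m fun a => ?_⟩
  · refine hext (Scheme.fpqcPrecoverage.mem_coverings_of_isPullback F.f hF (c.ι.app j)
      (fun a => pullback.snd (F.f a) (c.ι.app j))
      (fun a => pullback.fst (F.f a) (c.ι.app j))
      (fun a => (IsPullback.of_hasPullback _ _).flip)) _ _ ?_
    rintro V g ⟨a⟩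
    have e := congrArg ((pullbackSymmetry (F.f a) (c.ι.app j)).hom ≫ ·) (hu a j)
    simp only [pullbackSymmetry_hom_comp_fst_assoc, pullbackSymmetry_hom_comp_snd_assoc] at e
    rw [← Category.assoc, ← pullback.condition, Category.assoc]
    have hva : F.f a ≫ v = u a := hv a
    rw [hva]
    exact e
  · change F.f a ≫ m = u a
    refine (H1 a).hom_ext fun j => ?_
    change pullback.snd (c.ι.app j) (F.f a) ≫ _ = pullback.snd (c.ι.app j) (F.f a) ≫ _
    rw [hu a j, ← pullback.condition_assoc, hm j]

end Groth.Agent.S7204
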