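import Groth.Statements.S7207
import Groth.Agent.H8Props.RelPCLocal

set_option autoImplicit false
universe u
open CategoryTheory CategoryTheory.Limits AlgebraicGeometry Opposite TopologicalSpace
attribute [local instance] HasDerivedCategory.standard
open FlatMor

namespace Groth.Agent.S7207

/-- Let f : X ⟶ S be a morphism of schemes, U ⊆ X and V ⊆ S affine opens with f(U) ⊆ V, E an object of
D(O_X) and m an integer. Suppose that for one surjection φ : Γ(S, V)[x_1, …, x_n] → Γ(X, U)
compatible with f the direct image of E|_U along the associated closed immersion of U into affine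
n-space over V is m-pseudo-coherent. Then for every surjection ψ : Γ(S, V)[x_1, …, x_k] → Γ(X, U)
compatible with f the direct image of E|_U along the associated closed immersion into affine k-space
over V is m-pseudo-coherent as well. -/
theorem result {X S : Scheme.{u}} (f : X ⟶ S) (U : X.Opens) (hU : IsAffineOpen U)
    (V : S.Opens) (hV : IsAffineOpen V) (h : U ≤ f ⁻¹ᵁ V) (m : ℤ) (E : DCoh.D X)
    {n : ℕ} (φ : MvPolynomial (Fin n) Γ(S, V) →+* Γ(X, U)) (hφ : DerSch.IsChart f U V h φ)
    (hE : DerSch.ChartPC m E U V φ)
    {k : ℕ} (ψ : MvPolynomial (Fin k) Γ(S, V) →+* Γ(X, U)) (hψ : DerSch.IsChart f U V h ψ) :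
    DerSch.ChartPC m E U V ψ := by
  exact H8Props.RelPC.chartPC_congr_chart hU φ hφ.1 ψ hψ.1 (hφ.2.trans hψ.2.symm) m E hE

end Groth.Agent.S7207
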