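import Groth.Statements.S7217
import Groth.Agent.H8Props.RelPCCharts

set_option autoImplicit false
universe u
open CategoryTheory CategoryTheory.Limits AlgebraicGeometry Opposite TopologicalSpace
attribute [local instance] HasDerivedCategory.standard
open FlatMor

namespace Groth.Agent.S7217

/-- Let f : X ⟶ S be a morphism of schemes, U ⊆ X and V ⊆ S affine opens with f(U) ⊆ V such that Γ(S, V)
→ Γ(X, U) is of finite type, E an object of D(O_X), m an integer, and g_1, …, g_k ∈ Γ(X, U) elements
generating the unit ideal, so that the basic opens D(g_j) form a standard affine open covering of U.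
Then the following are equivalent: for every j there is a surjection from a polynomial ring Γ(S,
V)[x_1, …, x_n] onto Γ(X, D(g_j)), compatible with f, along whose closed immersion into affine space
over V the direct image of E restricted to D(g_j) is m-pseudo-coherent; there is such a surjection
onto Γ(X, U) along whose closed immersion the direct image of E|_U is m-pseudo-coherent. -/
theorem result {X S : Scheme.{u}} (f : X ⟶ S) (U : X.affineOpens)
    (V : S.affineOpens) (h : (U : X.Opens) ≤ f ⁻¹ᵁ (V : S.Opens))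
    (hft : (f.appLE (V : S.Opens) (U : X.Opens) h).hom.FiniteType) (m : ℤ) (E : DCoh.D X)
    {k : ℕ} (g : Fin k → Γ(X, (U : X.Opens))) (hg : Ideal.span (Set.range g) = ⊤) :
    (∀ j : Fin k, ∃ (n : ℕ) (φ : MvPolynomial (Fin n) Γ(S, (V : S.Opens)) →+* Γ(X, X.basicOpen (g j))),
        DerSch.IsChart f (X.basicOpen (g j)) (V : S.Opens) ((X.basicOpen_le (g j)).trans h) φ ∧
          DerSch.ChartPC m E (X.basicOpen (g j)) (V : S.Opens) φ) ↔
      ∃ (n : ℕ) (φ : MvPolynomial (Fin n) Γ(S, (V : S.Opens)) →+* Γ(X, (U : X.Opens))),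
        DerSch.IsChart f (U : X.Opens) (V : S.Opens) h φ ∧ DerSch.ChartPC m E (U : X.Opens) (V : S.Opens) φ := by
  constructor
  · intro hc
    obtain ⟨n, φ, hφ⟩ := H8Props.RelPC.exists_isChart f _ _ h hft
    refine ⟨n, φ, hφ, H8Props.RelPC.chartPC_of_cover U.2 φ hφ.1 m E fun u hu => ?_⟩
    have hcov : (U : X.Opens) ≤ ⨆ j, X.basicOpen (g j) := by
      have h1 := (U.2.self_le_iSup_basicOpen_iff (s := Set.range g)).2 hg
      refine h1.trans (iSup_le fun ⟨x, j, hj⟩ => ?_)
      subst hj
      exact le_iSup (fun j => X.basicOpen (g j)) j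
    obtain ⟨j, hj⟩ := TopologicalSpace.Opens.mem_iSup.1 (hcov hu)
    obtain ⟨k', ψ, hψ, hψc⟩ := hc j
    refine ⟨g j, hj, k', ψ, hψ.1, ?_, hψc⟩
    rw [hψ.2, hφ.2]
    exact (congrArg CommRingCat.Hom.hom (f.appLE_map h (homOfLE (X.basicOpen_le (g j))).op)).symm
  · rintro ⟨n, φ, hφ, hc⟩ j
    obtain ⟨ψ, hψ, hψc⟩ := H8Props.RelPC.exists_chart_basicOpen f U.2 h φ hφ (g j) rfl
      ((X.basicOpen_le (g j)).trans h)
    exact ⟨n + 1, ψ, hψ, hψc m E hc⟩

end Groth.Agent.S7217
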