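import Groth.Statements.S7219
import Groth.Agent.H8Props.NLH1.Sheaf

set_option autoImplicit false
universe u
open CategoryTheory CategoryTheory.Limits AlgebraicGeometry Opposite TopologicalSpace
attribute [local instance] HasDerivedCategory.standard
open FlatMor

namespace Groth.Agent.S7219

/-- Let f : X ⟶ Y be a morphism of schemes. In chart form: there is an O_X-module F together with, for
every affine open U of X mapping into an affine open V of Y, an identification of F(U) with the
module H^{-1} of the naive cotangent complex of Γ(X, U) over Γ(Y, V), compatible with the action of
Γ(X, U) and with restriction to smaller such pairs; in other words the cohomology sheaf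
H^{-1}(NL_{X/Y}) exists as an O_X-module with the expected sections over affine chart pairs.
Moreover every O_X-module carrying such identifications is quasi-coherent. (The published statement
also says that the cohomology sheaves vanish outside degrees −1 and 0 and that the one in degree 0
is Ω_{X/Y}; those parts are not asserted here.) -/
theorem result {X Y : Scheme.{u}} (f : X ⟶ Y) :
    (∃ F : X.Modules, Nonempty (NLCx.H1Sheaf f F)) ∧
      ∀ F : X.Modules, Nonempty (NLCx.H1Sheaf f F) → Coh.IsQCoh F := by
  exact ⟨⟨_, Groth.Agent.H8Props.NLH1.nonempty_h1Sheaf f⟩,
    fun F ⟨c⟩ => Groth.Agent.H8Props.NLH1.isQCoh_of_h1Sheaf f F c⟩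

end Groth.Agent.S7219
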