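import Groth.Statements.S7222
import Groth.Agent.H8Props.NLCx.Derived
import Groth.Agent.H4DR.TorAmp.Derived

set_option autoImplicit false
universe u
open CategoryTheory CategoryTheory.Limits TensorProduct
attribute [local instance] HasDerivedCategory.standard
open FlatMor

namespace Groth.Agent.S7222

/-- Let A → B and A → A' be ring homomorphisms and B' an algebra over A' and over B making the square
cocartesian, B' = B ⊗_A A'. If B is flat over A, then the canonical chain map NL_{B/A} ⊗_B B' →
NL_{B'/A'} (for the presentations by the polynomial algebras on all elements) is a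
quasi-isomorphism. If moreover NL_{B/A} has tor-amplitude in [-1, 0], then, the derived base change
functor along B → B' being assumed to exist, NL_{B/A} ⊗^L_B B' is isomorphic to NL_{B'/A'} in D(B')
(existence of an isomorphism only: the derived comparison map is not named here). -/
theorem result (A B A' B' : Type u) [CommRing A] [CommRing B]
    [CommRing A'] [CommRing B'] [Algebra A B] [Algebra A' B'] [Algebra A A'] [Algebra B B'] [Algebra A B']
    [IsScalarTower A A' B'] [IsScalarTower A B B'] [Algebra.IsPushout A A' B B'] [Module.Flat A B] :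
    QuasiIso (NLCx.bcMapSelf A B A' B') ∧
      (DRing.HasTorAmplitudeIn B (-1) 0 (LCI.NL A B) → ∀ [DRing.HasLBaseChange (algebraMap B B')],
        Nonempty ((DRing.LBaseChange (algebraMap B B')).obj (LCI.NL A B) ≅ LCI.NL A' B')) := by
  let G'' := Groth.Agent.H8Props.NLCx.selfBC A B A' B'
  let f := NLCx.sameVarsHom (Algebra.Generators.self A B) G''
    (Groth.Agent.H8Props.NLCx.selfBC_val A B A' B')
  let g := (G''.defaultHom (Algebra.Generators.self A' B')).toExtensionHom
  let g' := ((Algebra.Generators.self A' B').defaultHom G'').toExtensionHom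
  have : IsIso (NLCx.bcMap f.toExtensionHom) := Groth.Agent.H8Props.NLCx.isIso_bcMap _
    (Groth.Agent.H8Props.NLCx.liftBaseChange_cotangentMap_bijective_of_flat_target
      (Groth.Agent.H8Props.NLCx.selfBC_val A B A' B') f (fun _ => rfl))
    (Groth.Agent.H8Props.NLCx.liftBaseChange_cotangentSpaceMap_bijective f (fun _ => rfl))
  let e₀ := (HomotopyEquiv.ofIso (asIso (NLCx.bcMap f.toExtensionHom))).trans
    (Groth.Agent.H8Props.NLCx.mapHomotopyEquiv g g')
  have H : Homotopy (NLCx.bcMapSelf A B A' B') e₀.hom :=
    (Groth.Agent.H8Props.NLCx.bcMapHomotopy _ (g.comp f.toExtensionHom)).trans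
      (Homotopy.ofEq (Groth.Agent.H8Props.NLCx.bcMap_comp g f.toExtensionHom))
  let e : HomotopyEquiv _ _ := ⟨NLCx.bcMapSelf A B A' B', e₀.inv,
    (H.compRight e₀.inv).trans e₀.homotopyHomInvId,
    (H.compLeft e₀.inv).trans e₀.homotopyInvHomId⟩
  have hq : QuasiIso (NLCx.bcMapSelf A B A' B') := by
    constructor
    intro i
    rw [quasiIsoAt_iff_isIso_homologyMap]
    exact (e.toHomologyIso i).isIso_hom
  refine ⟨hq, fun hta _ => ?_⟩
  have hflat := Groth.Agent.H8Props.NLCx.termwiseFlat_cx (Algebra.Generators.self A B) hta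
  obtain ⟨E⟩ := Groth.Agent.H8Props.NLCx.nonempty_extendCx_iso_bcCx B'
    (Algebra.Generators.self A B).toExtension
  exact ⟨Groth.Agent.H4DR.TorAmp.lbaseObj (algebraMap B B') _
      (Groth.Agent.H4DR.TorAmp.isKFlat_of_flat (c := 0)
        (fun i hi => Groth.Agent.H8Props.NLCx.isZero_cx _ i (by omega) (by omega)) hflat) ≪≫
    DerivedCategory.Q.mapIso E ≪≫ @asIso _ _ _ _ (DerivedCategory.Q.map (NLCx.bcMapSelf A B A' B')) ((DerivedCategory.isIso_Q_map_iff_quasiIso _ _).2 hq)⟩

end Groth.Agent.S7222
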