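import Groth.Statements.S7225
import Groth.Agent.H8Props.NLCx.SelfBC

set_option autoImplicit false
universe u
open CategoryTheory CategoryTheory.Limits TensorProduct
attribute [local instance] HasDerivedCategory.standard
open FlatMor

namespace Groth.Agent.S7225

/-- Let A be a ring, M a submonoid of A, A' a localization of A at M and B an A'-algebra, viewed also as
an A-algebra. Let G be a presentation of B over A by a polynomial algebra and G' the presentation of
B over A' with the same generators (G'(i) = G(i), written through the identity algebra map of B).
Then the canonical chain map NL(G) → NL(G') from the naive cotangent complex of the presentation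
over A to that of the presentation over A' is an isomorphism of complexes (so that NL_{B/A} →
NL_{B/A'} is a homotopy equivalence). -/
theorem result (A A' B : Type u) [CommRing A] [CommRing A'] [CommRing B]
    [Algebra A A'] (M : Submonoid A) [IsLocalization M A'] [Algebra A' B] [Algebra A B] [IsScalarTower A A' B]
    {ι : Type u} (G : Algebra.Generators A B ι) (G' : Algebra.Generators A' B ι) (h : ∀ i, G'.val i = algebraMap B B (G.val i)) :
    IsIso (NLCx.map (NLCx.sameVarsHom (S' := B) G G' h).toExtensionHom) := by
  have : Module.Flat A A' := IsLocalization.flat A' M
  have : IsLocalization (Algebra.algebraMapSubmonoid B M) B :=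
    IsLocalization.of_le_isUnit (by
      rintro _ ⟨m, hm, rfl⟩
      rw [SetLike.mem_coe] at hm
      show IsUnit (algebraMap A B m)
      rw [IsScalarTower.algebraMap_apply A A' B]
      exact (IsLocalization.map_units A' ⟨m, hm⟩).map (algebraMap A' B))
  have : Algebra.IsPushout A A' B B := (Algebra.isPushout_of_isLocalization M A' B B).symm
  have hf : ∀ i, (NLCx.sameVarsHom (S' := B) G G' h).val i = MvPolynomial.X i := fun _ => rfl
  refine Groth.Agent.H8Props.NLCx.isIso_map _ ?_ ?_
  · have := Groth.Agent.H8Props.NLCx.liftBaseChange_cotangentMap_bijective_of_flat h _ hf
    convert this.comp (TensorProduct.lid B G.toExtension.Cotangent).symm.bijective using 1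
    ext x
    simp
  · have := Groth.Agent.H8Props.NLCx.liftBaseChange_cotangentSpaceMap_bijective _ hf
    convert this.comp (TensorProduct.lid B G.toExtension.CotangentSpace).symm.bijective using 1
    ext x
    simp

end Groth.Agent.S7225
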