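import Groth.Statements.S7237
import Mathlib.Algebra.TrivSqZeroExt.Basic

set_option autoImplicit false
universe u
open TensorProduct
open FlatMor

namespace Groth.Agent.S7237
open TensorProduct

/-- Let A be a ring and M a finitely generated A-module, and let C = Sym_A(M) be the symmetric algebra
of M with its canonical A-linear map ι : M → C. Then Ω_{C/A} = M ⊗_A C: the C-linear map C ⊗_A M →
Ω_{C/A} obtained by extending scalars in the A-linear map m ↦ d(ι m), d being the universal
A-derivation of C, is bijective. (The published lemma also computes the whole naive cotangent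
complex of the presentation of C attached to a surjection A^m → M with kernel K, namely as K ⊗_A C →
⊕_j C dy_j; only its consequence for Ω is asserted here.) -/
theorem result (A : Type u) [CommRing A] (M : Type u)
    [AddCommGroup M] [Module A M] [Module.Finite A M] :
    Function.Bijective (LinearMap.liftBaseChange (SymmetricAlgebra A M)
      ((KaehlerDifferential.D A (SymmetricAlgebra A M)).toLinearMap.restrictScalars A ∘ₗ SymmetricAlgebra.ι A M)) := by
  let L := LinearMap.liftBaseChange (SymmetricAlgebra A M)
      ((KaehlerDifferential.D A (SymmetricAlgebra A M)).toLinearMap.restrictScalars A ∘ₗ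
        SymmetricAlgebra.ι A M)
  let N := SymmetricAlgebra A M ⊗[A] M
  have hcs : IsCentralScalar (SymmetricAlgebra A M) N := ⟨fun s n ↦ by
    induction n using TensorProduct.induction_on with
    | zero => simp
    | tmul t m => rw [TensorProduct.smul_tmul', TensorProduct.smul_tmul', op_smul_eq_smul]
    | add y z hy hz => rw [smul_add, smul_add, hy, hz]⟩
  have : SMulCommClass (SymmetricAlgebra A M) (SymmetricAlgebra A M)ᵐᵒᵖ N :=
    ⟨fun s t n ↦ by
      obtain ⟨t, rfl⟩ := MulOpposite.op_surjective t
      rw [hcs.op_smul_eq_smul, hcs.op_smul_eq_smul, smul_smul, smul_smul, mul_comm]⟩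
  let F : SymmetricAlgebra A M →ₐ[A] TrivSqZeroExt (SymmetricAlgebra A M) N :=
    SymmetricAlgebra.lift (((TrivSqZeroExt.inrHom (SymmetricAlgebra A M) N).restrictScalars A) ∘ₗ
      TensorProduct.mk A (SymmetricAlgebra A M) M 1 +
      ((TrivSqZeroExt.inlAlgHom A (SymmetricAlgebra A M) N).toLinearMap) ∘ₗ SymmetricAlgebra.ι A M)
  have hFfst : ∀ s, (F s).fst = s := by
    intro s
    have : (TrivSqZeroExt.fstHom A (SymmetricAlgebra A M) N).comp F = AlgHom.id A _ := by
      apply SymmetricAlgebra.algHom_ext
      ext m
      simp [F]
    exact AlgHom.congr_fun this s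
  let D : Derivation A (SymmetricAlgebra A M) N :=
    { toFun := fun s ↦ (F s).snd
      map_add' := fun s t ↦ by simp
      map_smul' := fun a s ↦ by simp
      map_one_eq_zero' := by
        show (F 1).snd = 0
        rw [map_one]; rfl
      leibniz' := fun s t ↦ by
        show (F (s * t)).snd = s • (F t).snd + t • (F s).snd
        rw [map_mul, TrivSqZeroExt.snd_mul, hFfst, hFfst, op_smul_eq_smul] }
  have hD : ∀ m, D (SymmetricAlgebra.ι A M m) = (1 : SymmetricAlgebra A M) ⊗ₜ m := fun m ↦ by
    show (F (SymmetricAlgebra.ι A M m)).snd = _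
    simp [F]
    rfl
  let G := D.liftKaehlerDifferential
  have hGL : G ∘ₗ L = LinearMap.id := by
    ext m
    simp [L, G, hD]
  have hLG : ∀ s, L (D s) = KaehlerDifferential.D A (SymmetricAlgebra A M) s := by
    intro s
    induction s using SymmetricAlgebra.induction with
    | algebraMap r => simp
    | ι m => rw [hD]; simp [L]
    | mul a b ha hb => rw [Derivation.leibniz, Derivation.leibniz, map_add, map_smul, map_smul, ha, hb]
    | add a b ha hb => rw [map_add, map_add, map_add, ha, hb]
  refine ⟨fun x y h ↦ ?_, ?_⟩
  · have := congrArg G h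
    rwa [← LinearMap.comp_apply, ← LinearMap.comp_apply, hGL] at this
  · have : L ∘ₗ G = LinearMap.id := Derivation.liftKaehlerDifferential_unique _ _
      (Derivation.ext fun s ↦ by simp [G, hLG])
    exact fun ω ↦ ⟨G ω, LinearMap.congr_fun this ω⟩

end Groth.Agent.S7237
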