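import Groth.Statements.S7238
import Groth.Agent.H8Props.Approx.BaseChange
import Groth.Agent.H8Props.Approx.Charts
import Groth.Agent.H8Props.Approx.SpreadInt

set_option autoImplicit false
set_option linter.style.haveILetI false
universe u
open FlatMor

namespace Groth.Agent.S7238

open AlgebraicGeometry CategoryTheory Limits IsLocalRing TensorProduct

/-- An affine open of a scheme of finite type over the integers has sections of finite type. -/
theorem finiteType_int {T : Scheme.{u}} [LocallyOfFiniteType (specULiftZIsTerminal.from T)] {W : T.Opens}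
    (hW : IsAffineOpen W) : Algebra.FiniteType ℤ Γ(T, W) := by
  have h := HasRingHomProperty.appLE @LocallyOfFiniteType (specULiftZIsTerminal.from T) inferInstance
    ⟨⊤, isAffineOpen_top _⟩ ⟨W, hW⟩ (by simp)
  let e : Γ(Spec (CommRingCat.of (ULift.{u} ℤ)), ⊤) ≃+* ℤ :=
    (Scheme.ΓSpecIso (CommRingCat.of (ULift.{u} ℤ))).commRingCatIsoToRingEquiv.trans ULift.ringEquiv
  have h2 := h.comp (RingHom.FiniteType.of_surjective e.symm.toRingHom e.symm.surjective)
  rw [← RingHom.finiteType_algebraMap]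
  exact (RingHom.ext_int _ _ : algebraMap ℤ Γ(T, W) = _) ▸ h2

/-- The local rings of schemes of finite type over a complete local ring are G-rings. -/
theorem isGRing_stalk_over_completion {O : Type u} [CommRing O] [IsLocalRing O] [IsNoetherianRing O]
    {Z : Scheme.{u}} [IsLocallyNoetherian Z]
    (r : Z ⟶ Spec (CommRingCat.of (AdicCompletion (maximalIdeal O) O))) [LocallyOfFiniteType r] (z : Z) :
    CAlg.IsGRing ↑(Z.presheaf.stalk z) := by
  let L := AdicCompletion (maximalIdeal O) O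
  haveI : IsNoetherianRing L := H05EGA4.isNoetherianRing_adicCompletion O _
  haveI : IsAdicComplete (maximalIdeal L) L := by
    rw [H8Props.Approx.maximalIdeal_completion]
    exact AdicCompletion.isAdicComplete_self _ (IsNoetherian.noetherian _)
  let Oc := (Spec (CommRingCat.of L)).presheaf.stalk (r z)
  letI : Algebra ↑Oc ↑(Z.presheaf.stalk z) := (r.stalkMap z).hom.toAlgebra
  haveI : Algebra.EssFiniteType ↑Oc ↑(Z.presheaf.stalk z) := LocallyOfFiniteType.stalkMap r z
  refine H8Props.Approx.isGRing_of_essFiniteType (A := ↑Oc) ?_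
  haveI := (r z).isPrime
  letI : Algebra L ↑Oc := StructureSheaf.stalkAlgebra L (r z)
  haveI : IsLocalization (r z).asIdeal.primeCompl ↑Oc := StructureSheaf.IsLocalization.to_stalk L (r z)
  exact H05EGA4.isGRing_of_isLocalization (R := L) (S := ↑Oc) (r z).asIdeal.primeCompl
    (H05EGA4.isGRing_of_isAdicComplete L)

theorem fromSpec_residue {U : Scheme.{u}} {W : U.Opens} (hW : IsAffineOpen W) {u : U} (hu : u ∈ W) :
    Spec.map (U.presheaf.germ W u hu ≫ U.residue u) ≫ hW.fromSpec = U.fromSpecResidueField u := by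
  rw [Scheme.fromSpecResidueField, ← IsAffineOpen.fromSpecStalk_eq_fromSpecStalk hW hu,
    IsAffineOpen.fromSpecStalk, Spec.map_comp, Category.assoc]

/-- Let S be a locally Noetherian scheme and T a scheme of finite type over ℤ; let p : X ⟶ S and q : Y ⟶
T be locally of finite type; let x ∈ X with image s ∈ S such that O_{S,s} is a G-ring, and y ∈ Y
with image t ∈ T. Let σ : O_{T,t} → O_{S,s}^∧ be a local homomorphism into the completion, let Y_σ =
Y ×_T Spec(O_{S,s}^∧) be the base change of q along Spec(O_{S,s}^∧) → Spec(O_{T,t}) → T, let y_σ ∈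
Y_σ be a point lying over y and over the closed point of Spec(O_{S,s}^∧), and let φ : O_{X,x}^∧ ≅
O_{Y_σ,y_σ}^∧ be an isomorphism of completed local rings compatible with the two O_{S,s}-algebra
structures. Then there are: an elementary étale neighbourhood e : (V, v) ⟶ (S, s) (étale, v ↦ s,
trivial residue field extension) together with τ : V ⟶ T with τ(v) = t; an elementary étale
neighbourhood a : (W, w) ⟶ (X, x); and a morphism b : W ⟶ Y ×_{T,τ} V with W ⟶ X ⟶ S equal to W ⟶ Y
×_T V ⟶ V ⟶ S, such that b is étale and b(w) lies over y and over v with trivial residue field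
extension. (The published statement says more precisely that (W, w) is an elementary étale
neighbourhood of the point y_τ of Y ×_T V corresponding to y_σ under the identification of the fibre
of Y_σ over the closed point with the fibre of Y ×_T V over v; that identification is not expressed
here, only that b(w) lies over y and v.) -/
theorem result {X Y S T : Scheme.{u}} [IsLocallyNoetherian S]
    (p : X ⟶ S) (q : Y ⟶ T) [LocallyOfFiniteType p] [LocallyOfFiniteType q]
    [LocallyOfFiniteType (specULiftZIsTerminal.from T)] [CompactSpace T]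
    (x : X) (hG : CAlg.IsGRing ↑(S.presheaf.stalk (p x))) (y : Y)
    (σ : ↑(T.presheaf.stalk (q y)) →+*
      AdicCompletion (maximalIdeal ↑(S.presheaf.stalk (p x))) ↑(S.presheaf.stalk (p x)))
    [IsLocalHom σ]
    (yσ : ↑(pullback q (Spec.map (CommRingCat.ofHom σ) ≫ T.fromSpecStalk (q y))))
    (hyσ : (pullback.fst q (Spec.map (CommRingCat.ofHom σ) ≫ T.fromSpecStalk (q y))) yσ = y)
    (hyσc : (pullback.snd q (Spec.map (CommRingCat.ofHom σ) ≫ T.fromSpecStalk (q y))) yσ =
      closedPoint (AdicCompletion (maximalIdeal ↑(S.presheaf.stalk (p x))) ↑(S.presheaf.stalk (p x))))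
    (φ : AdicCompletion (maximalIdeal ↑(X.presheaf.stalk x)) ↑(X.presheaf.stalk x) ≃+*
      AdicCompletion (maximalIdeal ↑((pullback q (Spec.map (CommRingCat.ofHom σ) ≫ T.fromSpecStalk (q y))).presheaf.stalk yσ))
        ↑((pullback q (Spec.map (CommRingCat.ofHom σ) ≫ T.fromSpecStalk (q y))).presheaf.stalk yσ))
    (hφ : φ.toRingHom.comp ((algebraMap ↑(X.presheaf.stalk x)
        (AdicCompletion (maximalIdeal ↑(X.presheaf.stalk x)) ↑(X.presheaf.stalk x))).comp (p.stalkMap x).hom) =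
      ((algebraMap _ (AdicCompletion (maximalIdeal
          ↑((pullback q (Spec.map (CommRingCat.ofHom σ) ≫ T.fromSpecStalk (q y))).presheaf.stalk yσ)) _)).comp
        ((pullback.snd q (Spec.map (CommRingCat.ofHom σ) ≫ T.fromSpecStalk (q y))).stalkMap yσ).hom).comp
        ((((Spec (CommRingCat.of (AdicCompletion (maximalIdeal ↑(S.presheaf.stalk (p x))) ↑(S.presheaf.stalk (p x))))).presheaf.germ
            ⊤ ((pullback.snd q (Spec.map (CommRingCat.ofHom σ) ≫ T.fromSpecStalk (q y))) yσ) trivial).hom.comp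
          ((Scheme.ΓSpecIso (CommRingCat.of (AdicCompletion (maximalIdeal ↑(S.presheaf.stalk (p x)))
            ↑(S.presheaf.stalk (p x))))).inv.hom.comp
            (algebraMap ↑(S.presheaf.stalk (p x))
              (AdicCompletion (maximalIdeal ↑(S.presheaf.stalk (p x))) ↑(S.presheaf.stalk (p x)))))))) :
    ∃ (V : Scheme.{u}) (v : V) (e : V ⟶ S) (τ : V ⟶ T) (W : Scheme.{u}) (w : W) (a : W ⟶ X)
      (b : W ⟶ pullback q τ),
      Etale e ∧ e v = p x ∧ Function.Bijective (e.residueFieldMap v) ∧ τ v = q y ∧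
      Etale a ∧ a w = x ∧ Function.Bijective (a.residueFieldMap w) ∧
      a ≫ p = b ≫ pullback.snd q τ ≫ e ∧
      Etale b ∧ (pullback.fst q τ) (b w) = y ∧ (pullback.snd q τ) (b w) = v ∧
      Function.Bijective (b.residueFieldMap w) := by
  let Os := S.presheaf.stalk (p x)
  let L := AdicCompletion (maximalIdeal ↑Os) ↑Os
  let gσ := Spec.map (CommRingCat.ofHom σ) ≫ T.fromSpecStalk (q y)
  let gL := H8Props.Approx.fromSpecCompletion S (p x)
  haveI : IsNoetherianRing L := H05EGA4.isNoetherianRing_adicCompletion ↑Os _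
  haveI : IsLocallyNoetherian X := LocallyOfFiniteType.isLocallyNoetherian p
  haveI : IsLocallyNoetherian (pullback q gσ) := LocallyOfFiniteType.isLocallyNoetherian (pullback.snd q gσ)
  obtain ⟨U, u, g, h, hg, hh, hgh, hhu, hgu, hresh, hresg⟩ :=
    H8Props.Approx.exists_common_nbhd_completion p x (pullback.snd q gσ) yσ hyσc
      (isGRing_stalk_over_completion (O := ↑Os) (pullback.snd q gσ) yσ) φ hφ
  -- affine charts
  obtain ⟨US, hUS, hxUS, -⟩ := TopologicalSpace.Opens.isBasis_iff_nbhd.mp S.isBasis_affineOpens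
    (TopologicalSpace.Opens.mem_top (p x))
  obtain ⟨UA, hUA, hxUA, hUAS⟩ := TopologicalSpace.Opens.isBasis_iff_nbhd.mp X.isBasis_affineOpens
    (show x ∈ p ⁻¹ᵁ US from hxUS)
  obtain ⟨UT, hUT, hyUT, -⟩ := TopologicalSpace.Opens.isBasis_iff_nbhd.mp T.isBasis_affineOpens
    (TopologicalSpace.Opens.mem_top (q y))
  obtain ⟨UB, hUB, hyUB, hUBT⟩ := TopologicalSpace.Opens.isBasis_iff_nbhd.mp Y.isBasis_affineOpens
    (show y ∈ q ⁻¹ᵁ UT from hyUT)
  have hhy : (h ≫ pullback.fst q gσ) u = y := by rw [Scheme.Hom.comp_apply, hhu]; exact hyσ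
  obtain ⟨W0, hW0, huW0, hW0le⟩ := TopologicalSpace.Opens.isBasis_iff_nbhd.mp U.isBasis_affineOpens
    (show u ∈ (g ≫ pullback.fst p gL) ⁻¹ᵁ UA ⊓ (h ≫ pullback.fst q gσ) ⁻¹ᵁ UB from
      ⟨(show (g ≫ pullback.fst p gL) u ∈ UA by rw [hgu]; exact hxUA),
        (show (h ≫ pullback.fst q gσ) u ∈ UB by rw [hhy]; exact hyUB)⟩)
  haveI : IsNoetherianRing Γ(S, US) := IsLocallyNoetherian.component_noetherian ⟨US, hUS⟩
  letI : Algebra Γ(S, US) Γ(X, UA) := (p.appLE US UA hUAS).hom.toAlgebra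
  haveI : Algebra.FiniteType Γ(S, US) Γ(X, UA) :=
    HasRingHomProperty.appLE @LocallyOfFiniteType p inferInstance ⟨US, hUS⟩ ⟨UA, hUA⟩ hUAS
  letI : Algebra Γ(T, UT) Γ(Y, UB) := (q.appLE UT UB hUBT).hom.toAlgebra
  haveI : Algebra.FiniteType Γ(T, UT) Γ(Y, UB) :=
    HasRingHomProperty.appLE @LocallyOfFiniteType q inferInstance ⟨UT, hUT⟩ ⟨UB, hUB⟩ hUBT
  haveI : Algebra.FiniteType ℤ Γ(T, UT) := finiteType_int hUT
  letI : Algebra Γ(S, US) ↑Os := S.presheaf.algebra_section_stalk ⟨p x, hxUS⟩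
  haveI : IsLocalization.AtPrime ↑Os (hUS.primeIdealOf ⟨p x, hxUS⟩).asIdeal :=
    hUS.isLocalization_stalk ⟨p x, hxUS⟩
  letI : Algebra Γ(T, UT) L := (σ.comp (T.presheaf.germ UT (q y) hyUT).hom).toAlgebra
  have hgL : Spec.map (CommRingCat.ofHom (algebraMap Γ(S, US) L)) ≫ hUS.fromSpec = gL := by
    show _ = Spec.map (CommRingCat.ofHom (algebraMap ↑Os L)) ≫ S.fromSpecStalk (p x)
    rw [← IsAffineOpen.fromSpecStalk_eq_fromSpecStalk hUS hxUS, IsAffineOpen.fromSpecStalk, ← Category.assoc,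
      ← Spec.map_comp]
    rfl
  have hgσ : Spec.map (CommRingCat.ofHom (algebraMap Γ(T, UT) L)) ≫ hUT.fromSpec = gσ := by
    show _ = Spec.map (CommRingCat.ofHom σ) ≫ T.fromSpecStalk (q y)
    rw [← IsAffineOpen.fromSpecStalk_eq_fromSpecStalk hUT hyUT, IsAffineOpen.fromSpecStalk, ← Category.assoc,
      ← Spec.map_comp]
    rfl
  have hiA : Spec.map (CommRingCat.ofHom (algebraMap Γ(S, US) Γ(X, UA))) ≫ hUS.fromSpec = hUA.fromSpec ≫ p :=
    IsAffineOpen.SpecMap_appLE_fromSpec p hUS hUA hUAS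
  have hiB : Spec.map (CommRingCat.ofHom (algebraMap Γ(T, UT) Γ(Y, UB))) ≫ hUT.fromSpec = hUB.fromSpec ≫ q :=
    IsAffineOpen.SpecMap_appLE_fromSpec q hUT hUB hUBT
  have leA : W0 ≤ (g ≫ pullback.fst p gL) ⁻¹ᵁ UA := hW0le.trans inf_le_left
  have leB : W0 ≤ (h ≫ pullback.fst q gσ) ⁻¹ᵁ UB := hW0le.trans inf_le_right
  let αA := ((g ≫ pullback.fst p gL).appLE UA W0 leA).hom
  let αB := ((h ≫ pullback.fst q gσ).appLE UB W0 leB).hom
  let ι0 := hW0.fromSpec
  let lam : CommRingCat.of L ⟶ Γ(U, W0) := Spec.preimage (ι0 ≫ g ≫ pullback.snd p gL)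
  have hlam : Spec.map lam = ι0 ≫ g ≫ pullback.snd p gL := Spec.map_preimage _
  haveI := hg
  haveI := hh
  obtain ⟨eA, heA, heA1, heA2⟩ := H8Props.Approx.exists_etale_hom p hUS.fromSpec hUA.fromSpec hiA gL hgL
    (ι0 ≫ g) αA lam.hom
    (by rw [Category.assoc]; exact (IsAffineOpen.SpecMap_appLE_fromSpec _ hUA hW0 leA).symm)
    (by rw [Category.assoc]; exact hlam.symm)
  obtain ⟨eB, heB, heB1, heB2⟩ := H8Props.Approx.exists_etale_hom q hUT.fromSpec hUB.fromSpec hiB gσ hgσ
    (ι0 ≫ h) αB lam.hom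
    (by rw [Category.assoc]; exact (IsAffineOpen.SpecMap_appLE_fromSpec _ hUB hW0 leB).symm)
    (by rw [Category.assoc, ← hgh]; exact hlam.symm)
  -- the residue field
  let κ := U.residueField u
  let χ : Γ(U, W0) ⟶ κ := U.presheaf.germ W0 u huW0 ≫ U.residue u
  have hχ : Spec.map χ ≫ ι0 = U.fromSpecResidueField u := fromSpec_residue hW0 huW0
  have hlamχ : Spec.map (lam ≫ χ) = U.fromSpecResidueField u ≫ h ≫ pullback.snd q gσ := by
    rw [Spec.map_comp, hlam, reassoc_of% hχ, hgh]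
  have hker : ∀ l ∈ maximalIdeal L, χ.hom (lam.hom l) = 0 := fun l hl => by
    have h1 : Spec.map (lam ≫ χ) (closedPoint ↑κ) = closedPoint L := by
      rw [hlamχ, Scheme.Hom.comp_apply, Scheme.Hom.comp_apply]
      erw [Scheme.fromSpecResidueField_apply]
      rw [hhu]
      exact hyσc
    by_contra hne
    have h2 : l ∈ (Spec.map (lam ≫ χ) (closedPoint ↑κ)).asIdeal := by rw [h1]; exact hl
    exact (h2 : χ.hom (lam.hom l) ∈ maximalIdeal ↑κ) (isUnit_iff_ne_zero.2 hne)
  let kbar : L ⧸ maximalIdeal L →+* ↑κ := Ideal.Quotient.lift _ (χ.hom.comp lam.hom) hker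
  have hk : ∀ c : L ⧸ maximalIdeal L, ∃ r s : Γ(S, US),
      IsUnit (algebraMap Γ(S, US) (L ⧸ maximalIdeal L) s) ∧
      algebraMap Γ(S, US) (L ⧸ maximalIdeal L) s * c = algebraMap Γ(S, US) (L ⧸ maximalIdeal L) r := fun c => by
    obtain ⟨l, rfl⟩ := Ideal.Quotient.mk_surjective c
    obtain ⟨b, hb⟩ := H8Props.Approx.exists_evalₐ_eq 1 l
    obtain ⟨r, ⟨s, hs⟩, rfl⟩ := IsLocalization.exists_mk'_eq (hUS.primeIdealOf ⟨p x, hxUS⟩).asIdeal.primeCompl b
    refine ⟨r, s, ((IsLocalization.map_units ↑Os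
      (⟨s, hs⟩ : (hUS.primeIdealOf ⟨p x, hxUS⟩).asIdeal.primeCompl)).map (algebraMap ↑Os L)).map
      (Ideal.Quotient.mk _), ?_⟩
    show Ideal.Quotient.mk _ (algebraMap ↑Os L (algebraMap Γ(S, US) ↑Os s)) * Ideal.Quotient.mk _ l =
      Ideal.Quotient.mk _ (algebraMap ↑Os L (algebraMap Γ(S, US) ↑Os r))
    rw [pow_one] at hb
    rw [Ideal.Quotient.eq.2 hb, ← IsLocalization.mk'_spec' ↑Os r ⟨s, hs⟩, map_mul (algebraMap ↑Os L), map_mul]
  obtain ⟨R', _, _, _, hR', ψ, hψ, Wr, _, aR, bR, γ, haR, hbR, haγ, hbγ, ω, hωγ, hωa, hωb⟩ :=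
    H8Props.Approx.exists_etale_spread_int
      (H8Props.Approx.isRegularHom_completion (O := ↑Os) (hUS.primeIdealOf ⟨p x, hxUS⟩).asIdeal hG) hk eA eB
      heA heB (fun l => by rw [heA1, heB1]) χ.hom kbar (fun l => by rw [heA1]; rfl)
  -- the points
  letI : Field (L ⧸ maximalIdeal L) := Ideal.Quotient.field _
  let V := Spec (CommRingCat.of R')
  let v : V := Spec.map (CommRingCat.ofHom ψ.toRingHom) (closedPoint (L ⧸ maximalIdeal L))
  let e : V ⟶ S := Spec.map (CommRingCat.ofHom (algebraMap Γ(S, US) R')) ≫ hUS.fromSpec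
  let τ : V ⟶ T := Spec.map (CommRingCat.ofHom (algebraMap Γ(T, UT) R')) ≫ hUT.fromSpec
  let w : Spec (CommRingCat.of Wr) := Spec.map (CommRingCat.ofHom ω) (closedPoint ↑κ)
  let a : Spec (CommRingCat.of Wr) ⟶ X := Spec.map (CommRingCat.ofHom aR) ≫ hUA.fromSpec
  obtain ⟨m, hm, hm1, hm2⟩ := H8Props.Approx.exists_chart_pullback (L := R') q hUT.fromSpec hUB.fromSpec
    hiB τ rfl
  obtain ⟨mZ, hmZ, hmZ1, hmZ2⟩ := H8Props.Approx.exists_chart_pullback (L := L) q hUT.fromSpec hUB.fromSpec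
    hiB gσ hgσ
  haveI := hm
  haveI := hmZ
  let b : Spec (CommRingCat.of Wr) ⟶ pullback q τ := Spec.map (CommRingCat.ofHom bR) ≫ m
  let mk : CommRingCat.of L ⟶ CommRingCat.of (L ⧸ maximalIdeal L) :=
    CommRingCat.ofHom (Ideal.Quotient.mk (maximalIdeal L))
  haveI hmk : IsLocalHom mk.hom := ⟨fun l hl => by
    by_contra hn
    exact hl.ne_zero (Ideal.Quotient.eq_zero_iff_mem.2 hn)⟩
  have hmkpt : Spec.map mk (closedPoint (L ⧸ maximalIdeal L)) = closedPoint L := H8Props.Approx.closedPoint_SpecMap mk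
  haveI : IsLocalHom (CommRingCat.ofHom (algebraMap ↑Os L)).hom :=
    ((IsLocalRing.local_hom_TFAE (algebraMap ↑Os L)).out 2 0).1
      (H8Props.Approx.maximalIdeal_completion (O := ↑Os)).ge
  haveI : IsLocalHom (CommRingCat.ofHom σ).hom := ‹IsLocalHom σ›
  have hev : e v = p x := by
    have h1 : Spec.map (CommRingCat.ofHom ψ.toRingHom) ≫ e = Spec.map mk ≫ gL := by
      rw [← hgL]
      simp only [e, mk, ← Category.assoc, ← Spec.map_comp]
      congr 2
      ext r
      exact ψ.commutes r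
    show (Spec.map (CommRingCat.ofHom ψ.toRingHom) ≫ e) (closedPoint (L ⧸ maximalIdeal L)) = p x
    rw [h1, Scheme.Hom.comp_apply, hmkpt]
    show (Spec.map (CommRingCat.ofHom (algebraMap ↑Os L)) ≫ S.fromSpecStalk (p x)) (closedPoint L) = p x
    rw [Scheme.Hom.comp_apply, H8Props.Approx.closedPoint_SpecMap (CommRingCat.ofHom (algebraMap ↑Os L)),
      Scheme.fromSpecStalk_closedPoint]
  have hτv : τ v = q y := by
    have h1 : Spec.map (CommRingCat.ofHom ψ.toRingHom) ≫ τ = Spec.map mk ≫ gσ := by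
      rw [← hgσ]
      simp only [τ, mk, ← Category.assoc, ← Spec.map_comp]
      congr 2
      ext c
      exact hψ c
    show (Spec.map (CommRingCat.ofHom ψ.toRingHom) ≫ τ) (closedPoint (L ⧸ maximalIdeal L)) = q y
    rw [h1, Scheme.Hom.comp_apply, hmkpt]
    show (Spec.map (CommRingCat.ofHom σ) ≫ T.fromSpecStalk (q y)) (closedPoint L) = q y
    rw [Scheme.Hom.comp_apply, H8Props.Approx.closedPoint_SpecMap (CommRingCat.ofHom σ),
      Scheme.fromSpecStalk_closedPoint]
  have hfA : Spec.map (CommRingCat.ofHom (ω.comp aR)) ≫ hUA.fromSpec =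
      U.fromSpecResidueField u ≫ g ≫ pullback.fst p gL := by
    rw [← hχ, Category.assoc, ← IsAffineOpen.SpecMap_appLE_fromSpec (g ≫ pullback.fst p gL) hUA hW0 leA,
      ← Category.assoc, ← Spec.map_comp]
    congr 2
    ext c
    exact (hωa c).trans (congrArg χ.hom (heA2 c))
  let fB : L ⊗[Γ(T, UT)] Γ(Y, UB) →+* ↑κ := χ.hom.comp eB
  have hfB : Spec.map (CommRingCat.ofHom fB) ≫ mZ = U.fromSpecResidueField u ≫ h := by
    apply pullback.hom_ext
    · rw [Category.assoc, hmZ1, Category.assoc, ← hχ, Category.assoc,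
        ← IsAffineOpen.SpecMap_appLE_fromSpec (h ≫ pullback.fst q gσ) hUB hW0 leB]
      simp only [← Category.assoc, ← Spec.map_comp]
      congr 2
      ext c
      exact congrArg χ.hom (heB2 c)
    · rw [Category.assoc, hmZ2, Category.assoc, ← hlamχ, ← Spec.map_comp]
      congr 1
      ext l
      exact congrArg χ.hom (heB1 l)
  have hbw1 : Spec.map (CommRingCat.ofHom ω) ≫ b ≫ pullback.fst q τ =
      U.fromSpecResidueField u ≫ h ≫ pullback.fst q gσ := by
    rw [← reassoc_of% hfB, hmZ1]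
    simp only [b, Category.assoc, hm1]
    simp only [← Category.assoc, ← Spec.map_comp]
    congr 2
    ext c
    exact hωb c
  have hbw2 : Spec.map (CommRingCat.ofHom ω) ≫ b ≫ pullback.snd q τ =
      Spec.map (CommRingCat.ofHom kbar) ≫ Spec.map (CommRingCat.ofHom ψ.toRingHom) := by
    simp only [b, Category.assoc, hm2, ← Spec.map_comp]
    congr 1
    ext r
    exact (congrArg ω (hbγ r)).trans (hωγ r)
  haveI hkl : IsLocalHom (CommRingCat.ofHom kbar).hom := ⟨fun c hc => isUnit_iff_ne_zero.2 fun h0 => by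
    rw [h0] at hc
    exact hc.ne_zero (map_zero kbar)⟩
  have hEe : Etale (Spec.map (CommRingCat.ofHom (algebraMap Γ(S, US) R'))) := by
    rw [HasRingHomProperty.Spec_iff (P := @Etale)]
    exact RingHom.etale_algebraMap.mpr hR'
  have hEa : Etale (Spec.map (CommRingCat.ofHom aR)) := by
    rw [HasRingHomProperty.Spec_iff (P := @Etale)]
    exact haR
  have hEb : Etale (Spec.map (CommRingCat.ofHom bR)) := by
    rw [HasRingHomProperty.Spec_iff (P := @Etale)]
    exact hbR
  refine ⟨V, v, e, τ, Spec (CommRingCat.of Wr), w, a, b, inferInstanceAs (Etale (_ ≫ _)), hev, ?_, hτv,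
    inferInstanceAs (Etale (_ ≫ _)), ?_, ?_, ?_, inferInstanceAs (Etale (_ ≫ _)), ?_, ?_, ?_⟩
  · refine H8Props.Approx.residueFieldMap_bijective_of_chart (algebraMap Γ(S, US) R') ψ.toRingHom ?_ hUS.fromSpec
    refine eq_top_iff.2 fun c _ => ?_
    obtain ⟨r, s, hs, hc⟩ := hk c
    have e1 : ∀ r, ψ.toRingHom.comp (algebraMap Γ(S, US) R') r = algebraMap Γ(S, US) (L ⧸ maximalIdeal L) r :=
      fun r => ψ.commutes r
    rw [show c = algebraMap Γ(S, US) (L ⧸ maximalIdeal L) r / algebraMap Γ(S, US) (L ⧸ maximalIdeal L) s from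
      (eq_div_iff hs.ne_zero).2 (by rw [mul_comm]; exact hc), ← e1, ← e1]
    exact div_mem (Subfield.subset_closure ⟨r, rfl⟩) (Subfield.subset_closure ⟨s, rfl⟩)
  · show (Spec.map (CommRingCat.ofHom ω) ≫ Spec.map (CommRingCat.ofHom aR) ≫ hUA.fromSpec) (closedPoint ↑κ) = x
    rw [← Category.assoc, ← Spec.map_comp, ← CommRingCat.ofHom_comp, hfA, Scheme.Hom.comp_apply]
    erw [Scheme.fromSpecResidueField_apply]
    exact hgu
  · exact H8Props.Approx.residueFieldMap_bijective_of_chart aR ω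
      (H8Props.Approx.closure_range_eq_top _ u hUA.fromSpec hresg.2 _ hfA) hUA.fromSpec
  · simp only [a, b, e, Category.assoc, reassoc_of% hm2, ← hiA]
    simp only [← Category.assoc, ← Spec.map_comp]
    congr 2
    ext r
    exact (haγ r).trans (hbγ (algebraMap Γ(S, US) R' r)).symm
  · show (Spec.map (CommRingCat.ofHom ω) ≫ b ≫ pullback.fst q τ) (closedPoint ↑κ) = y
    rw [hbw1, Scheme.Hom.comp_apply]
    erw [Scheme.fromSpecResidueField_apply]
    exact hhy
  · show (Spec.map (CommRingCat.ofHom ω) ≫ b ≫ pullback.snd q τ) (closedPoint ↑κ) = v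
    rw [hbw2, Scheme.Hom.comp_apply, H8Props.Approx.closedPoint_SpecMap (CommRingCat.ofHom kbar)]
  · refine H8Props.Approx.residueFieldMap_bijective_of_chart bR ω ?_ m
    refine eq_top_iff.2 ((H8Props.Approx.closure_range_eq_top h u mZ hresh.2 fB hfB).ge.trans
      (Subfield.closure_le.2 ?_))
    rintro _ ⟨c, rfl⟩
    induction c using TensorProduct.induction_on with
    | zero => rw [map_zero]; exact zero_mem _
    | add c d hc hd => rw [map_add]; exact add_mem hc hd
    | tmul l d =>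
      have h1 : fB (l ⊗ₜ d) = kbar (Ideal.Quotient.mk _ l) * ω (bR (1 ⊗ₜ d)) := by
        show χ.hom (eB (l ⊗ₜ d)) = χ.hom (lam.hom l) * _
        rw [hωb, ← heB1, ← map_mul, ← map_mul, Algebra.TensorProduct.tmul_mul_tmul, mul_one, one_mul]
      obtain ⟨r, s, hs, hc⟩ := hk (Ideal.Quotient.mk _ l)
      have e1 : ∀ r, kbar (algebraMap Γ(S, US) (L ⧸ maximalIdeal L) r) =
          ω (bR (algebraMap Γ(S, US) R' r ⊗ₜ 1)) := fun r => by
        rw [hbγ, hωγ, ψ.commutes]
      have h2 : kbar (Ideal.Quotient.mk _ l) = kbar (algebraMap Γ(S, US) (L ⧸ maximalIdeal L) r) /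
          kbar (algebraMap Γ(S, US) (L ⧸ maximalIdeal L) s) := by
        rw [eq_div_iff (hs.map kbar).ne_zero, ← map_mul, mul_comm, hc]
      rw [h1, h2, e1, e1]
      exact mul_mem (div_mem (Subfield.subset_closure ⟨_, rfl⟩) (Subfield.subset_closure ⟨_, rfl⟩))
        (Subfield.subset_closure ⟨_, rfl⟩)

end Groth.Agent.S7238
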