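import Groth.Statements.S7242
import Groth.Agent.H16Derived.ResData.Descend

set_option autoImplicit false
universe u
open CategoryTheory CategoryTheory.Limits AlgebraicGeometry
attribute [local instance] HasDerivedCategory.standard
open Perf

namespace Groth.Agent.S7242

open Groth.Agent Groth.Agent.H16Derived.ResData

/-- Let X be a scheme, X = U_1 ∪ … ∪ U_m a finite covering by affine opens, and I_1, …, I_m
quasi-coherent ideal sheaves of finite type with V(I_j) = X ∖ U_j as sets. Then X has the resolution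
property (every quasi-coherent O_X-module of finite type is a quotient of a finite locally free
O_X-module) if and only if, for every j, the ideal sheaf I_j regarded as an O_X-module is a quotient
of a finite locally free O_X-module. -/
theorem result (X : Scheme.{u}) {m : ℕ} (U : Fin m → X.Opens)
    (hUaff : ∀ j, IsAffineOpen (U j)) (hcov : ⨆ j, U j = ⊤) (I : Fin m → X.IdealSheafData)
    (hIft : ∀ j, CohB1.IsFT (ClSub.idealMod (I j))) (hIsupp : ∀ j, ((I j).support : Set ↥X) = (U j : Set ↥X)ᶜ) :
    PerfAux.HasResolutionProperty X ↔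
      ∀ j, ∃ (E : X.Modules) (π : E ⟶ ClSub.idealMod (I j)), FlatMod.IsFinLocFree E ∧ Epi π := by
  have hI : ∀ j, Coh.IsQCoh (ClSub.idealMod (I j)) := fun j => H17.OmegaLocal.isQuasicoherent_idealMod (I j)
  refine ⟨fun h j => h (ClSub.idealMod (I j)) (hI j) (hIft j), fun h => ?_⟩
  choose E π hE hπ using h
  let κ : ∀ j, E j ⟶ Coh.structureModule X := fun j => π j ≫ ClSub.idealModι (I j)
  have hloc : ∀ j, loc (κ j) = U j := fun j => by
    haveI := hπ j
    refine (loc_epi_comp _ _).trans (TopologicalSpace.Opens.ext ?_)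
    rw [loc_idealModι, hIsupp j, compl_compl]
  have hmem : ∀ x : X, ∃ j, x ∈ U j := fun x =>
    TopologicalSpace.Opens.mem_iSup.1 (hcov.ge (show x ∈ (⊤ : X.Opens) from trivial))
  haveI : CompactSpace ↥X := ⟨by
    have e : (Set.univ : Set X) = ⋃ j, (U j : Set X) :=
      (Set.eq_univ_of_forall fun x => Set.mem_iUnion.2 (hmem x)).symm
    rw [e]
    exact isCompact_iUnion fun j => (hUaff j).isCompact⟩
  haveI : QuasiSeparatedSpace ↥X := by
    refine Scheme.quasiSeparatedSpace_of_isOpenCover U hcov hUaff fun i j => ?_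
    haveI : IsAffine (U i).toScheme := hUaff i
    have hEp := H8Props.FinLocFree.isFP_of_isFinLocFree _ (hE j)
    have hc := isCompact_loc (H29Fitt.isQCoh_pullback (U i).ι _ (H29Fitt.isQCoh_of_isFP _ hEp))
      (H29Fitt.isFT_pullback (U i).ι _ (H29Fitt.isQCoh_of_isFP _ hEp) (H29Fitt.isFT_of_isFP _ hEp))
      (pull (U i).ι (κ j))
    rw [loc_pull _ _ (H29Fitt.isQCoh_of_isFP _ hEp), hloc j] at hc
    have himg := hc.image (U i).ι.continuous
    convert himg using 1
    ext x
    exact ⟨fun ⟨hi, hj⟩ => ⟨⟨x, hi⟩, hj, rfl⟩, fun ⟨y, hy, e⟩ => e ▸ ⟨y.2, hy⟩⟩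
  exact hasResolutionProperty_of_hasData X
    ⟨m, E, κ, hE, fun j => (hloc j).symm ▸ hUaff j, fun x => (hmem x).imp fun j hj => (hloc j).symm ▸ hj⟩

end Groth.Agent.S7242
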