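import Groth.Statements.S7248
import Groth.Agent.H16Derived.KFlat.PerfNoeth

set_option autoImplicit false
universe u
open CategoryTheory CategoryTheory.Limits AlgebraicGeometry
attribute [local instance] HasDerivedCategory.standard
open Perf

namespace Groth.Agent.S7248

open Groth.Agent.H16Derived.KFlat.Stalk AlgebraicGeometry

theorem isFlatOver_of_isFlat {V S : Scheme.{u}} (g : V ⟶ S) [Flat g] {M : V.Modules}
    (h : FlatMod.IsFlat M) : FlatMod.IsFlatOver g M := fun x => by
  letI := (g.stalkMap x).hom.toAlgebra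
  letI := FlatMod.moduleStalkOver g M x
  haveI : IsScalarTower (S.presheaf.stalk (g.base x)) (V.presheaf.stalk x) (M.presheaf.stalk x) :=
    .of_algebraMap_smul fun _ _ => rfl
  haveI : Module.Flat (S.presheaf.stalk (g.base x)) (V.presheaf.stalk x) := Flat.stalkMap g x
  haveI : Module.Flat (V.presheaf.stalk x) (M.presheaf.stalk x) := h x
  exact Module.Flat.trans (S.presheaf.stalk (g.base x)) (V.presheaf.stalk x) (M.presheaf.stalk x)

/-- Let f : X ⟶ S be flat and locally of finite presentation. Then a perfect object E of D(O_X) is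
S-perfect, that is, E is pseudo-coherent (m-pseudo-coherent for every m) and, locally on X, the tor
dimension of E over the sheaf of rings f⁻¹O_S is finite (locally represented by a bounded complex of
O_X-modules flat over S). -/
theorem result {X S : Scheme.{u}} (f : X ⟶ S) [Flat f] [LocallyOfFinitePresentation f]
    (E : DCoh.D X) (hE : DCoh.IsPerfect E) :
    (∀ m : ℤ, DCoh.IsPseudoCoherentD m E) ∧ DCoh.LocHasFiniteRelTorDim f E := by
  refine ⟨isPseudoCoherentD_of_isPerfect hE, fun x => ?_⟩
  obtain ⟨V, hx, hV⟩ := (isPerfect_iff E).1 hE x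
  obtain ⟨P, hP, ⟨θ⟩⟩ := hV
  obtain ⟨a, b, hab⟩ := hP.1
  refine ⟨V, a, b, hx, fun F hF => ⟨P, hab, fun i => ?_,
    ⟨θ ≪≫ (rd V.ι).mapIso hF.some.symm ≪≫ (rdQ V.ι).app F⟩⟩⟩
  exact isFlatOver_of_isFlat (V.ι ≫ f) (isFlat_of_isFinLocFree (hP.2 i))

end Groth.Agent.S7248
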