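import Groth.Statements.S7251
import Groth.Agent.H16Derived.QCohD.Lpull

set_option autoImplicit false
universe u
open CategoryTheory CategoryTheory.Limits AlgebraicGeometry
attribute [local instance] HasDerivedCategory.standard
open Perf

namespace Groth.Agent.S7251

open CategoryTheory CategoryTheory.Limits AlgebraicGeometry
set_option backward.isDefEq.respectTransparency false

/-- Let f : X ⟶ Y be a quasi-compact and quasi-separated morphism of schemes. Assume Rf_* exists and
sends D_QCoh(O_X) into D_QCoh(O_Y), let an adjunction Lf^* ⊣ Rf_* be given as data, and assume the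
inclusion functors D_QCoh ⥤ D have (chosen) right adjoints DQ_X and DQ_Y. Then Rf_* ∘ DQ_X = DQ_Y ∘
Rf_*: for every K ∈ D(O_X) the comparison map Rf_*(DQ_X K) ⟶ DQ_Y(Rf_* K) in D_QCoh(O_Y),
corresponding under the adjunction to Rf_* applied to the counit DQ_X K ⟶ K, is an isomorphism. -/
theorem result {X Y : Scheme.{u}} (f : X ⟶ Y) [QuasiCompact f] [QuasiSeparated f]
    [DCoh.HasRpush f] (h : DCoh.RpushPreservesQCoh f) [DCoh.HasLpull f] (adj : DCoh.Lpull f ⊣ DCoh.Rpush f)
    [(ObjectProperty.ι (DCoh.IsQCohD (X := X))).IsLeftAdjoint] [(ObjectProperty.ι (DCoh.IsQCohD (X := Y))).IsLeftAdjoint]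
    (K : DCoh.D X) :
    IsIso ((Adjunction.ofIsLeftAdjoint (ObjectProperty.ι (DCoh.IsQCohD (X := Y)))).homEquiv
      (⟨(DCoh.Rpush f).obj (((ObjectProperty.ι (DCoh.IsQCohD (X := X))).rightAdjoint.obj K).obj),
        h _ (((ObjectProperty.ι (DCoh.IsQCohD (X := X))).rightAdjoint.obj K).property)⟩ : DCoh.DQCoh Y)
      ((DCoh.Rpush f).obj K)
      ((DCoh.Rpush f).map ((Adjunction.ofIsLeftAdjoint (ObjectProperty.ι (DCoh.IsQCohD (X := X)))).counit.app K))) := by
  let adjX := Adjunction.ofIsLeftAdjoint (ObjectProperty.ι (DCoh.IsQCohD (X := X)))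
  let adjY := Adjunction.ofIsLeftAdjoint (ObjectProperty.ι (DCoh.IsQCohD (X := Y)))
  let A : DCoh.DQCoh X := (ObjectProperty.ι (DCoh.IsQCohD (X := X))).rightAdjoint.obj K
  let R : DCoh.DQCoh Y := ⟨(DCoh.Rpush f).obj A.obj, h _ A.property⟩
  let φ := adjY.homEquiv R ((DCoh.Rpush f).obj K) ((DCoh.Rpush f).map (adjX.counit.app K))
  show IsIso φ
  -- postcomposition with `Rf_* ε` is bijective on maps from quasi-coherent objects
  have key : ∀ M : DCoh.DQCoh Y, Function.Bijective
      (fun t : M.obj ⟶ R.obj => t ≫ (DCoh.Rpush f).map (adjX.counit.app K)) := by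
    intro M
    let L : DCoh.DQCoh X := ⟨(DCoh.Lpull f).obj M.obj,
      Groth.Agent.H16Derived.QCohD.isQCohD_lpull f M.property⟩
    have hX : Function.Bijective (fun s : L.obj ⟶ A.obj => s ≫ adjX.counit.app K) := by
      have h2 : (fun s : L.obj ⟶ A.obj => s ≫ adjX.counit.app K) =
          fun s => (adjX.homEquiv L K).symm ((ObjectProperty.fullyFaithfulι _).homEquiv.symm s) := by
        funext s
        rw [Adjunction.homEquiv_counit]
        exact congrArg (· ≫ adjX.counit.app K)
          ((ObjectProperty.fullyFaithfulι (DCoh.IsQCohD (X := X))).map_preimage (X := L) (Y := A) s).symm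
      rw [h2]
      exact ((ObjectProperty.fullyFaithfulι _).homEquiv.symm.trans (adjX.homEquiv L K).symm).bijective
    have h3 : (fun t : M.obj ⟶ R.obj => t ≫ (DCoh.Rpush f).map (adjX.counit.app K)) =
        (adj.homEquiv M.obj K) ∘ (fun s : L.obj ⟶ A.obj => s ≫ adjX.counit.app K) ∘
          (adj.homEquiv M.obj A.obj).symm := by
      funext t
      show _ = adj.homEquiv M.obj K ((adj.homEquiv M.obj A.obj).symm t ≫ adjX.counit.app K)
      rw [Adjunction.homEquiv_naturality_right, Equiv.apply_symm_apply]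
    rw [h3]
    exact (adj.homEquiv _ _).bijective.comp (hX.comp (adj.homEquiv _ _).symm.bijective)
  refine (isIso_iff_isIso_yoneda_map φ).2 fun M => (isIso_iff_bijective _).2 ?_
  have h4 : ((fun t : M.obj ⟶ R.obj => t ≫ (DCoh.Rpush f).map (adjX.counit.app K)) ∘
      (ObjectProperty.fullyFaithfulι (DCoh.IsQCohD (X := Y))).homEquiv (X := M) (Y := R)) =
      fun t : M ⟶ R => (adjY.homEquiv M ((DCoh.Rpush f).obj K)).symm (t ≫ φ) := by
    funext t
    rw [Adjunction.homEquiv_naturality_left_symm]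
    exact congrArg (_ ≫ ·) (Equiv.symm_apply_apply _ _).symm
  have h5 : Function.Bijective ((fun t : M.obj ⟶ R.obj => t ≫ (DCoh.Rpush f).map (adjX.counit.app K)) ∘
      (ObjectProperty.fullyFaithfulι (DCoh.IsQCohD (X := Y))).homEquiv (X := M) (Y := R)) :=
    Function.Bijective.comp (key M) (Equiv.bijective _)
  rw [h4] at h5
  exact ((adjY.homEquiv M ((DCoh.Rpush f).obj K)).symm.bijective.of_comp_iff' _).1 h5

end Groth.Agent.S7251
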