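import Groth.Statements.S7256
import Groth.Agent.H16Derived.ProperSupp.Perfect

set_option autoImplicit false
universe u
open CategoryTheory CategoryTheory.Limits AlgebraicGeometry
attribute [local instance] HasDerivedCategory.standard
open Perf

namespace Groth.Agent.S7256

/-- Let S be a Noetherian scheme, f : X ⟶ S locally of finite type and E ∈ D(O_X), represented by a
cochain complex F, such that (1) E is bounded with coherent cohomology sheaves, (2) the support of
every Hⁱ(E) is proper over S, and (3) viewed in D(f⁻¹O_S), the object E is of finite tor dimension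
(stalkwise form: there is one interval [a, b] such that at every point of X the complex of stalks of
F has tor amplitude in [a, b] over the local ring of S). Assuming Rf_* exists, Rf_*E is a perfect
object of D(O_S). -/
theorem result {X S : Scheme.{u}} [IsNoetherian S]
    (f : X ⟶ S) [LocallyOfFiniteType f] [DCoh.HasRpush f] (F : CochainComplex X.Modules ℤ)
    (hcoh : DCoh.IsCohD (DCoh.toD X F)) (hbdd : ∃ a b : ℤ, ∀ i : ℤ, (i < a ∨ b < i) → IsZero (DCoh.HD (DCoh.toD X F) i))
    (hsupp : ∀ i : ℤ, ClSub.IsProperOver f (CohB1.support (DCoh.HD (DCoh.toD X F) i)))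
    (htor : DerSch.HasFiniteTorAmplitude f F) :
    DCoh.IsPerfect ((DCoh.Rpush f).obj (DCoh.toD X F)) := by
  obtain ⟨a, b, hF⟩ := htor
  exact H16Derived.ProperSupp.isPerfect_rpush f F ⟨hcoh, hsupp⟩ (le_max_left a b)
    fun x => H16Derived.TorTest.at_mono le_rfl (le_max_right a b) (hF x)

end Groth.Agent.S7256
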