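import Groth.Statements.S7259
import Groth.Agent.H16Derived.TorTest.RelTildeAmp

set_option autoImplicit false
universe u
open CategoryTheory CategoryTheory.Limits AlgebraicGeometry
attribute [local instance] HasDerivedCategory.standard
open Perf

namespace Groth.Agent.S7259

/-- Let R → A be a ring map, f : X = Spec A ⟶ S = Spec R the induced morphism, M an object of D(A), and
F a cochain complex of O_X-modules representing the associated object E = M~ of D(O_X) (tilde
recorded as exact). Then, viewed over f⁻¹O_S, the object E is of tor amplitude [a, b], in the
stalkwise form (at every x ∈ X the complex of stalks F_x has tor amplitude in [a, b] over the local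
ring O_{S, f(x)}), precisely when the R-module complex obtained from M is of tor amplitude [a, b]
(its restriction of scalars is isomorphic in D(R) to a complex of flat R-modules vanishing outside
[a, b]). -/
theorem result {R A : Type u} [CommRing R] [CommRing A] (φ : R →+* A)
    [PreservesFiniteLimits (tilde.functor (CommRingCat.of A))] (M : Dual.D A)
    (F : CochainComplex (Spec (CommRingCat.of A)).Modules ℤ)
    (hF : Nonempty (DCoh.toD (Spec (CommRingCat.of A)) F ≅ (DCoh.tildeD (CommRingCat.of A)).obj M)) (a b : ℤ) :
    DerSch.HasTorAmplitude (Spec.map (CommRingCat.ofHom φ)) a b F ↔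
      DRing.HasTorAmplitudeIn R a b ((DRing.restrictD φ).obj M) := by
  exact Groth.Agent.H16Derived.TorTest.hasTorAmplitude_tildeD_iff φ M F hF.some a b

end Groth.Agent.S7259
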