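import Groth.Statements.S7263
import Groth.Agent.H16Derived.DQLim.Main

set_option autoImplicit false
universe u
open CategoryTheory CategoryTheory.Limits AlgebraicGeometry
attribute [local instance] HasDerivedCategory.standard
open Perf

namespace Groth.Agent.S7263

/-- Let R be a ring, f : X ⟶ Spec R proper, flat and of finite presentation, and (M_n) an inverse system
of R-modules with surjective transition maps. The canonical map O_X ⊗_R (lim M_n) ⟶ lim (O_X ⊗_R
M_n), i.e. the comparison map c : f^*((lim M_n)~) ⟶ lim f^*(M_n~) of O_X-modules, induces an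
isomorphism from the source onto DQ_X of the target; equivalently (the form stated here), for every
Q ∈ D(O_X) with quasi-coherent cohomology sheaves, composition with c[0] is a bijection Hom(Q,
f^*((lim M_n)~)[0]) → Hom(Q, (lim f^*(M_n~))[0]). -/
theorem result (R : Type u) [CommRing R] {X : Scheme.{u}}
    (f : X ⟶ Spec (CommRingCat.of R)) [IsProper f] [Flat f] [LocallyOfFinitePresentation f]
    (M : ℕ → ModuleCat.{u} R) (t : ∀ n, M (n + 1) ⟶ M n) (ht : ∀ n, Epi (t n))
    (Q : DCoh.D X) (hQ : DCoh.IsQCohD Q) :
    Function.Bijective (fun φ : Q ⟶ DCoh.inD X ((tilde.functor (CommRingCat.of R) ⋙ Scheme.Modules.pullback f).obj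
        (Limits.limit (Functor.ofOpSequence t))) =>
      φ ≫ (DerivedCategory.singleFunctor X.Modules 0).map
        (Limits.limit.lift (Functor.ofOpSequence t ⋙ (tilde.functor (CommRingCat.of R) ⋙ Scheme.Modules.pullback f))
          ((tilde.functor (CommRingCat.of R) ⋙ Scheme.Modules.pullback f).mapCone
            (Limits.limit.cone (Functor.ofOpSequence t))))) := by
  exact Groth.Agent.H16Derived.DQLim.bijective_cmp f M t ht Q hQ

end Groth.Agent.S7263
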