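import Groth.Statements.S7264
import Groth.Agent.S1004
import Groth.Agent.H16Derived.TorTest.RelTildeAmp
import Groth.Agent.H16Derived.TorTest.RelTorLoc

set_option autoImplicit false
universe u
open CategoryTheory CategoryTheory.Limits AlgebraicGeometry
attribute [local instance] HasDerivedCategory.standard
open Perf

namespace Groth.Agent.S7264

/-- (1) ⇔ (2) in the affine case to which the proof reduces: let R → A be flat and of finite
presentation, f : X = Spec A ⟶ S = Spec R, M ∈ D(A) and E = M~ ∈ D(O_X) (tilde recorded as exact),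
so that RΓ(X, E) = M. Then E is S-perfect (pseudo-coherent, and locally on X represented by a
bounded complex of O_X-modules flat over S) if and only if M is R-perfect (pseudo-coherent as a
complex of A-modules and of finite tor dimension as a complex of R-modules). -/
theorem result (R A : Type u) [CommRing R] [CommRing A] [Algebra R A]
    [Module.Flat R A] [Algebra.FinitePresentation R A]
    [PreservesFiniteLimits (tilde.functor (CommRingCat.of A))] (M : Dual.D A) :
    ((∀ m : ℤ, DCoh.IsPseudoCoherentD m ((DCoh.tildeD (CommRingCat.of A)).obj M)) ∧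
      DCoh.LocHasFiniteRelTorDim (Spec.map (CommRingCat.ofHom (algebraMap R A))) ((DCoh.tildeD (CommRingCat.of A)).obj M)) ↔
    Dual2.IsRelPerfect R A M := by
  let f : (Spec (CommRingCat.of A) : Scheme.{u}) ⟶ Spec (CommRingCat.of R) :=
    Spec.map (CommRingCat.ofHom (algebraMap R A))
  haveI : Flat f := (HasRingHomProperty.Spec_iff (P := @Flat)).2 (RingHom.flat_algebraMap_iff.2 inferInstance)
  let T := (DCoh.tildeD (CommRingCat.of A)).obj M
  let F := DerivedCategory.Q.objPreimage T
  let eF : DCoh.toD _ F ≅ T := DerivedCategory.Q.objObjPreimageIso T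
  rw [Dual2.IsRelPerfect, Groth.Agent.H16Derived.TorTest.locHasFiniteRelTorDim_iff f eF]
  refine and_congr ((forall_congr' fun m => Groth.Agent.S1004.result A M m).trans Groth.Agent.H4DR.PCoh.pc'_iff.symm) ⟨fun h => ?_, fun ⟨a, b, h⟩ x => ?_⟩
  · choose V a b hx hV using h
    obtain ⟨s, hs⟩ := isCompact_univ.elim_finite_subcover (fun x => (V x : Set (Spec (CommRingCat.of A))))
      (fun x => (V x).2) (fun x _ => Set.mem_iUnion.2 ⟨x, hx x⟩)
    rcases s.eq_empty_or_nonempty with rfl | hne
    · exact ⟨0, 0, (Groth.Agent.H16Derived.TorTest.hasTorAmplitude_tildeD_iff (algebraMap R A) M F eF 0 0).1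
        fun x => (by simpa using hs (Set.mem_univ x))⟩
    refine ⟨s.inf' hne a, s.sup' hne b, (Groth.Agent.H16Derived.TorTest.hasTorAmplitude_tildeD_iff (algebraMap R A) M F eF _ _).1 fun x => ?_⟩
    obtain ⟨i, hi, hxi⟩ := Set.mem_iUnion₂.1 (hs (Set.mem_univ x))
    exact Groth.Agent.H16Derived.TorTest.at_mono (Finset.inf'_le _ hi) (Finset.le_sup' _ hi) (hV i x hxi)
  · exact ⟨⊤, a, b, trivial, fun x' _ =>
      (Groth.Agent.H16Derived.TorTest.hasTorAmplitude_tildeD_iff (algebraMap R A) M F eF a b).2 h x'⟩

end Groth.Agent.S7264
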