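import Groth.Statements.S7266
import Groth.Agent.H16Derived.Thomason.ApproxGlue

set_option autoImplicit false
universe u
open CategoryTheory CategoryTheory.Limits AlgebraicGeometry
attribute [local instance] HasDerivedCategory.standard
open Perf

namespace Groth.Agent.S7266

open Groth.Agent.H16Derived.Thomason Groth.Agent.H16Derived.KFlat Groth.Agent.H16Derived.KFlat.Stalk

/-- Let X be a scheme written as X = U ∪ V with U, V open, where V is affine and both U and the
intersection U ∩ V are quasi-compact. Suppose approximation by perfect complexes is valid on U; it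
is then also valid on X. Here 'approximation by perfect complexes holds on Y' means: for every
closed T ⊆ Y with retrocompact complement there is an integer r such that for every m ∈ ℤ and every
(m - r)-pseudo-coherent E ∈ D(O_Y) with quasi-coherent cohomology sheaves and Hⁱ(E) supported on T
for i ≥ m - r, there are a perfect P ∈ D(O_Y) supported on T and P ⟶ E inducing isomorphisms on Hⁱ
for i > m and a surjection on Hᵐ. -/
theorem result {X : Scheme.{u}} (U V : X.Opens)
    (hU : IsCompact (U : Set ↥X)) (hV : IsAffineOpen V) (hUV : IsCompact ((U ⊓ V : X.Opens) : Set ↥X)) (hcov : U ⊔ V = ⊤)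
    (hAU : (∀ (T : Set ↥(U : Scheme.{u})), IsClosed T → IsRetrocompact Tᶜ → ∃ r : ℤ, ∀ (m : ℤ) (E : DCoh.D (U : Scheme.{u})), DCoh.IsQCohD E →
        DCoh.IsPseudoCoherentD (m - r) E → (∀ i : ℤ, m - r ≤ i → CohB1.support (DCoh.HD E i) ⊆ T) →
        ∃ (P : DCoh.D (U : Scheme.{u})) (α : P ⟶ E), DCoh.IsPerfect P ∧ (∀ i : ℤ, CohB1.support (DCoh.HD P i) ⊆ T) ∧
          (∀ i : ℤ, m < i → IsIso ((DerivedCategory.homologyFunctor _ i).map α)) ∧
          Epi ((DerivedCategory.homologyFunctor _ m).map α))) :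
    (∀ (T : Set ↥X), IsClosed T → IsRetrocompact Tᶜ → ∃ r : ℤ, ∀ (m : ℤ) (E : DCoh.D X), DCoh.IsQCohD E →
        DCoh.IsPseudoCoherentD (m - r) E → (∀ i : ℤ, m - r ≤ i → CohB1.support (DCoh.HD E i) ⊆ T) →
        ∃ (P : DCoh.D X) (α : P ⟶ E), DCoh.IsPerfect P ∧ (∀ i : ℤ, CohB1.support (DCoh.HD P i) ⊆ T) ∧
          (∀ i : ℤ, m < i → IsIso ((DerivedCategory.homologyFunctor _ i).map α)) ∧
          Epi ((DerivedCategory.homologyFunctor _ m).map α)) := by
  intro T hT hTr
  haveI : CompactSpace ↥X := ⟨by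
    have h := hU.union hV.isCompact
    rwa [← TopologicalSpace.Opens.coe_sup, hcov, TopologicalSpace.Opens.coe_top] at h⟩
  haveI : IsAffine (V : Scheme.{u}) := hV
  have hUV' : ∀ x : X, x ∈ U ∨ x ∈ V := fun x => TopologicalSpace.Opens.mem_sup.1 (hcov ▸ trivial)
  have hTc : IsCompact (V.ι.base ⁻¹' Tᶜ) := by
    rw [V.ι.isOpenEmbedding.isInducing.isCompact_iff, Set.image_preimage_eq_inter_range, Scheme.Opens.range_ι,
      Set.inter_comm]
    rw [Set.inter_comm]
    exact hTr hV.isCompact V.isOpen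
  have hU' : IsCompact ((V.ι ⁻¹ᵁ U : (V : Scheme.{u}).Opens) : Set (V : Scheme.{u})) := by
    rw [V.ι.isOpenEmbedding.isInducing.isCompact_iff]
    show IsCompact (V.ι.base '' (V.ι.base ⁻¹' (U : Set X)))
    rw [Set.image_preimage_eq_inter_range, Scheme.Opens.range_ι]
    simpa using hUV
  have hTUr : IsRetrocompact (U.ι.base ⁻¹' T)ᶜ := by
    intro W hW hWo
    rw [U.ι.isOpenEmbedding.isInducing.isCompact_iff, ← Set.preimage_compl, Set.inter_comm, Set.image_inter_preimage,
      Set.inter_comm]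
    exact hTr (hW.image U.ι.continuous) (U.ι.isOpenEmbedding.isOpenMap _ hWo)
  obtain ⟨r, hr⟩ := hAU (U.ι.base ⁻¹' T) (hT.preimage U.ι.continuous) hTUr
  have hapU : HasAppr (U.ι.base ⁻¹' T) r.toNat := fun m E hq hpc hs => by
    obtain ⟨P, α, hP, hPT, hi, he⟩ := hr m E hq (isPseudoCoherentD_mono hpc (by omega))
      fun i hi => hs i (by omega)
    obtain ⟨C, p, w, hC⟩ := Pretriangulated.distinguished_cocone_triangle α
    exact ⟨P, C, α, p, w, hC, ⟨hP, hPT⟩, (approx_iff hC m).1 ⟨hi, he⟩⟩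
  obtain ⟨rV, hapV⟩ := exists_hasAppr_affine (V : Scheme.{u}) (V.ι.base ⁻¹' (T ∩ (U : Set X)ᶜ))
    ((hT.inter U.isOpen.isClosed_compl).preimage V.ι.continuous) (isCompact_compl_inter_compl hTc hU')
  have hap := hasAppr_glue U V hUV' hT hTc hU' hapU hapV
  refine ⟨((r.toNat + rV : ℕ) : ℤ), fun m E hq hpc hs => ?_⟩
  obtain ⟨P, C, α, p, w, hC, hP, hle⟩ := hap m E hq hpc hs
  obtain ⟨hi, he⟩ := (approx_iff hC m).2 hle
  exact ⟨P, α, hP.1, hP.2, hi, he⟩

end Groth.Agent.S7266
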