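import Groth.Statements.S7270
import Groth.Agent.H16Derived.DQCoh.Push

set_option autoImplicit false
universe u
open CategoryTheory CategoryTheory.Limits AlgebraicGeometry
attribute [local instance] HasDerivedCategory.standard
open Perf

namespace Groth.Agent.S7270

/-- Let f : X ⟶ Y be a morphism of schemes with X and Y quasi-compact and with affine diagonal (the
intersection of two affine opens is affine). Granting that quasi-coherent modules on X and on Y
contain zero and are closed under kernels, cokernels and finite products in all modules, with exact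
inclusions (true facts carried as instance hypotheses; they make QCoh an abelian category), that f_*
preserves quasi-coherence (hypothesis hf, true since f is then quasi-compact and quasi-separated),
and that the induced functor f_* : QCoh(O_X) ⥤ QCoh(O_Y) has a total right derived functor Φ :
D(QCoh(O_X)) ⥤ D(QCoh(O_Y)) (existence binder), the square formed by Φ, Rf_* and the canonical
functors D(QCoh) ⥤ D commutes: Φ followed by D(QCoh(O_Y)) ⥤ D(O_Y) is isomorphic to D(QCoh(O_X)) ⥤
D(O_X) followed by Rf_* (existence of a natural isomorphism only). -/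
theorem result {X Y : Scheme.{u}} [CompactSpace ↥X] [CompactSpace ↥Y]
    (hdX : ∀ U V : X.Opens, IsAffineOpen U → IsAffineOpen V → IsAffineOpen (U ⊓ V))
    (hdY : ∀ U V : Y.Opens, IsAffineOpen U → IsAffineOpen V → IsAffineOpen (U ⊓ V))
    (f : X ⟶ Y) [DCoh.HasRpush f]
    [ObjectProperty.ContainsZero (fun M : X.Modules => Coh.IsQCoh M)] [ObjectProperty.IsClosedUnderKernels (fun M : X.Modules => Coh.IsQCoh M)]
    [ObjectProperty.IsClosedUnderCokernels (fun M : X.Modules => Coh.IsQCoh M)] [ObjectProperty.IsClosedUnderFiniteProducts (fun M : X.Modules => Coh.IsQCoh M)]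
    [PreservesFiniteLimits (ObjectProperty.ι (fun M : X.Modules => Coh.IsQCoh M))] [PreservesFiniteColimits (ObjectProperty.ι (fun M : X.Modules => Coh.IsQCoh M))]
    [ObjectProperty.ContainsZero (fun M : Y.Modules => Coh.IsQCoh M)] [ObjectProperty.IsClosedUnderKernels (fun M : Y.Modules => Coh.IsQCoh M)]
    [ObjectProperty.IsClosedUnderCokernels (fun M : Y.Modules => Coh.IsQCoh M)] [ObjectProperty.IsClosedUnderFiniteProducts (fun M : Y.Modules => Coh.IsQCoh M)]
    [PreservesFiniteLimits (ObjectProperty.ι (fun M : Y.Modules => Coh.IsQCoh M))] [PreservesFiniteColimits (ObjectProperty.ι (fun M : Y.Modules => Coh.IsQCoh M))]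
    (hf : ∀ M : X.Modules, Coh.IsQCoh M → Coh.IsQCoh ((Scheme.Modules.pushforward f).obj M))
    [(ObjectProperty.lift (fun M : Y.Modules => Coh.IsQCoh M) (ObjectProperty.ι (fun M : X.Modules => Coh.IsQCoh M) ⋙ Scheme.Modules.pushforward f) (fun M => hf M.obj M.property)).Additive]
    [((ObjectProperty.lift (fun M : Y.Modules => Coh.IsQCoh M) (ObjectProperty.ι (fun M : X.Modules => Coh.IsQCoh M) ⋙ Scheme.Modules.pushforward f) (fun M => hf M.obj M.property)).mapHomotopyCategory (ComplexShape.up ℤ) ⋙ DerivedCategory.Qh).HasRightDerivedFunctor (HomotopyCategory.quasiIso (ObjectProperty.FullSubcategory (fun M : X.Modules => Coh.IsQCoh M)) (ComplexShape.up ℤ))] :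
    Nonempty (((ObjectProperty.lift (fun M : Y.Modules => Coh.IsQCoh M) (ObjectProperty.ι (fun M : X.Modules => Coh.IsQCoh M) ⋙ Scheme.Modules.pushforward f) (fun M => hf M.obj M.property)).mapHomotopyCategory (ComplexShape.up ℤ) ⋙ DerivedCategory.Qh).totalRightDerived DerivedCategory.Qh (HomotopyCategory.quasiIso (ObjectProperty.FullSubcategory (fun M : X.Modules => Coh.IsQCoh M)) (ComplexShape.up ℤ)) ⋙ (ObjectProperty.ι (fun M : Y.Modules => Coh.IsQCoh M)).mapDerivedCategory ≅
      (ObjectProperty.ι (fun M : X.Modules => Coh.IsQCoh M)).mapDerivedCategory ⋙ DCoh.Rpush f) := by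
  haveI : QuasiSeparatedSpace ↥X := quasiSeparatedSpace_iff_forall_affineOpens.mpr
    fun U V => (hdX _ _ U.2 V.2).isCompact
  haveI : QuasiSeparatedSpace ↥Y := quasiSeparatedSpace_iff_forall_affineOpens.mpr
    fun U V => (hdY _ _ U.2 V.2).isCompact
  haveI : QuasiCompact (f ≫ terminal.from Y) := by
    rw [terminalIsTerminal.hom_ext (f ≫ terminal.from Y) (terminal.from X)]
    infer_instance
  haveI : QuasiCompact f := QuasiCompact.of_comp f (terminal.from Y)
  refine Groth.Agent.H16Derived.DQCoh.nonempty_push_iso f hf fun J hJ i hi => ?_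
  obtain ⟨n, ⟨U⟩⟩ := Groth.Agent.H16Derived.DQCoh.exists_charts X hdX
  exact Groth.Agent.H16Derived.DQCoh.isZero_rpush_injective U f
    (fun k => Groth.Agent.H16Derived.DQCoh.isAffineHom_of_affine_source hdY _) J hJ i hi

end Groth.Agent.S7270
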