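import Groth.Statements.S7276
import Groth.Agent.H16Derived.Thomason.SuppKill

set_option autoImplicit false
universe u
open CategoryTheory CategoryTheory.Limits AlgebraicGeometry
attribute [local instance] HasDerivedCategory.standard
open Perf

namespace Groth.Agent.S7276

open Groth.Agent.H16Derived Groth.Agent.H16Derived.Thomason

/-- Let X be a quasi-compact and quasi-separated scheme over Spec A for a ring A, let a ∈ A with image ā
∈ Γ(X, O_X), and let α : E ⟶ E' be a morphism in D(O_X) where E is perfect and E' has quasi-coherent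
cohomology sheaves, all supported on the zero locus T = V(ā). Then aⁿ α = 0 for some n ≥ 0; here A
acts on morphisms of D(O_X) through A → Γ(X, O_X) (for A = Γ(X, O_X) over itself this is the
statement for a global function ā = a). -/
theorem result (A : Type u) [CommRing A] (X : Scheme.{u})
    [X.Over (Spec (CommRingCat.of A))] [CompactSpace ↥X] [QuasiSeparatedSpace ↥X] (a : A) {E E' : DCoh.D X}
    (hE : DCoh.IsPerfect E) (hE'q : DCoh.IsQCohD E')
    (hsupp : ∀ i : ℤ, CohB1.support (DCoh.HD E' i) ⊆
      (X.zeroLocus (U := ⊤) {Coh.toGlobal (X ↘ Spec (CommRingCat.of A)) a} : Set X))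
    (α : E ⟶ E') : ∃ n : ℕ, (a ^ n) • α = 0 := by
  refine exists_pow_smul_eq_zero_of_supp a hE ⟨hE'q, fun i x hx hxD => ?_⟩ α
  have h := hsupp i hx
  exact (Scheme.mem_zeroLocus_iff _ _ x).1 h _ (Set.mem_singleton _) hxD

end Groth.Agent.S7276
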