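import Groth.Statements.S7279
import Groth.Agent.H16Derived.Thomason.Consequences
import Groth.Agent.H16Derived.Dual.RestrictR
import Groth.Agent.LeadBrown.DetectIso
import Groth.Agent.S1114
import Groth.Agent.H16Derived.PnD.Unit
import Groth.Agent.S11112

set_option autoImplicit false
universe u
open CategoryTheory CategoryTheory.Limits AlgebraicGeometry
attribute [local instance] HasDerivedCategory.standard
open Perf

namespace Groth.Agent.S7279

set_option backward.isDefEq.respectTransparency false
open CategoryTheory.Pretriangulated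
open Groth.Agent.H16Derived Groth.Agent.H16Derived.Thomason Groth.Agent.H16Derived.KFlat.Stalk

/-- Let X be a quasi-compact and quasi-separated scheme, U ⊆ X a quasi-compact open with closed
complement T = X ∖ U, P a cochain complex of O_X-modules with quasi-coherent cohomology sheaves and
E ∈ D_QCoh(O_X) supported on T (every cohomology sheaf of E has support in T). Assume either (1) P
is perfect, or (2) P is pseudo-coherent and E is bounded below, and assume the derived functors -
⊗^L P and RHom(P, -) exist. Then for every morphism γ : O_X[0] ⊗^L P ⟶ E there exist a perfect I ∈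
D(O_X) and a morphism i : I ⟶ O_X[0] such that the composition of i ⊗^L P with γ is zero and the
restriction i|_U is an isomorphism. (The published statement is about a morphism α : P ⟶ E and the
induced map I ⊗^L P ⟶ E; composing with the unit isomorphism O_X[0] ⊗^L P ≅ P identifies morphisms α
with morphisms γ, so the present form, quantified over all γ, is the same assertion.) -/
theorem result (X : Scheme.{u}) [CompactSpace ↥X]
    [QuasiSeparatedSpace ↥X] (U : X.Opens) (hU : IsCompact (U : Set X))
    (P : CochainComplex X.Modules ℤ) (hPq : DCoh.IsQCohD (DCoh.toD X P)) [DCoh.HasLTensorCx P] [DCoh.HasRSheafHom P]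
    (E : DCoh.D X) (hEq : DCoh.IsQCohD E) (hEsupp : ∀ i : ℤ, CohB1.support (DCoh.HD E i) ⊆ (U : Set X)ᶜ)
    (h : DCoh.IsPerfect (DCoh.toD X P) ∨ ((∀ m : ℤ, DCoh.IsPseudoCoherentD m (DCoh.toD X P)) ∧ ∃ a : ℤ, E.IsGE a))
    (γ : (DCoh.LTensorCx P).obj (DCoh.inD X (Coh.structureModule X)) ⟶ E) :
    ∃ (I : DCoh.D X) (i : I ⟶ DCoh.inD X (Coh.structureModule X)), DCoh.IsPerfect I ∧
      (DCoh.LTensorCx P).map i ≫ γ = 0 ∧ IsIso ((DCoh.restrictD U.ι).map i) := by
  let O := DCoh.inD X (Coh.structureModule X)
  let T : Set X := (U : Set X)ᶜ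
  have hT : IsClosed T := U.isOpen.isClosed_compl
  have hTc : IsCompact Tᶜ := by rw [compl_compl]; exact hU
  let H := (DCoh.RSheafHom P).obj E
  have hHq : DCoh.IsQCohD H := by
    rcases h with hP | ⟨hP, a, ha⟩
    · exact Groth.Agent.S1114.result X P hP E hEq
    · intro j
      haveI := ha
      exact Groth.Agent.S11112.result X P (a - j - 1) (hP _) E hEq a
        (fun m hm => DerivedCategory.isZero_of_isGE E a m hm) j (by omega)
  have hHT : SuppIn T H := by
    rw [suppIn_compl_iff]
    haveI := hasLTensorCx ((DCoh.restrictCx U).obj P)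
    haveI := Groth.Agent.LeadBrown.hasRSheafHom ((DCoh.restrictCx U).obj P)
    obtain ⟨e⟩ := Dual.nonempty_restrictD_RSheafHom_iso U P E
    let A := DCoh.RSheafHomAdj ((DCoh.restrictCx U).obj P)
    haveI := A.isRightAdjoint
    refine IsZero.of_iso ?_ e
    refine (IsZero.iff_id_eq_zero _).2 ((A.homEquiv _ _).symm.injective ?_)
    exact ((suppIn_compl_iff U E).1 hEsupp).eq_of_tgt _ _
  have hO : DCoh.IsPerfect O := PnD.isPerfect_one X
  obtain ⟨R, hR, β, x', hx'⟩ := (good_pq (𝟭 (DCoh.D X)) (fun _ h => h) hT (hasGen T hT hTc)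
    (show PQ T H from ⟨hHq, hHT⟩)).surj O hO ((DCoh.RSheafHomAdj P).homEquiv O E γ)
  change O ⟶ R at x'
  change x' ≫ β = _ at hx'
  obtain ⟨I, i, w, hI⟩ := distinguished_cocone_triangle₁ x'
  refine ⟨I, i, (stages_pk (T := Set.univ) isClosed_univ).fib _ hI ⟨hO, suppIn_univ _⟩
    ⟨hR.1, suppIn_univ _⟩ |>.1, ?_,
    (Triangle.isZero₃_iff_isIso₁ _ ((DCoh.restrictD U.ι).map_distinguished _ hI)).1
      ((suppIn_compl_iff U R).1 hR.2)⟩
  apply ((DCoh.RSheafHomAdj P).homEquiv I E).injective
  rw [Adjunction.homEquiv_naturality_left, ← hx',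
    (DCoh.RSheafHomAdj P).homEquiv_unit, Functor.map_zero, comp_zero, ← Category.assoc]
  have hix : i ≫ x' = 0 := comp_distTriang_mor_zero₁₂ _ hI
  rw [hix, zero_comp]

end Groth.Agent.S7279
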