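import Groth.Statements.S7280
import Groth.Agent.H16Derived.RGammaZ.Push

set_option autoImplicit false
universe u
open CategoryTheory CategoryTheory.Limits AlgebraicGeometry
attribute [local instance] HasDerivedCategory.standard
open Perf

namespace Groth.Agent.S7280

/-- Let X be a scheme, j : U ⟶ X an open immersion which is quasi-compact, and T = X ∖ U (a closed
subset with retrocompact complement). Assuming the unbounded derived functor RΓ_T = i_* RH_T of
sections with support in T exists on D(O_X): for every family Eᵢ of objects of D_QCoh(O_X) indexed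
by a small type whose direct sums ∐ Eᵢ and ∐ RΓ_T(Eᵢ) exist in D(O_X), the canonical map ∐ RΓ_T(Eᵢ)
⟶ RΓ_T(∐ Eᵢ) is an isomorphism. (The published statement is RH_T(⊕ Eᵢ) = ⊕ RH_T(Eᵢ) in D(i⁻¹O_X) for
the inclusion i : T → X; since i_* identifies D(i⁻¹O_X) with the objects of D(O_X) supported on T
and commutes with direct sums, this is the same assertion for i_* RH_T = RΓ_T.) -/
theorem result {U X : Scheme.{u}} (j : U ⟶ X) [IsOpenImmersion j] [QuasiCompact j]
    [CxOX.HasRgammaZ j] {ι : Type u} (E : ι → DCoh.D X) (hE : ∀ i, DCoh.IsQCohD (E i)) [HasCoproduct E]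
    [HasCoproduct (fun i => (CxOX.RgammaZ j).obj (E i))] :
    IsIso (Sigma.desc (fun i => (CxOX.RgammaZ j).map (Sigma.ι E i))) := by
  exact Groth.Agent.H16Derived.RGammaZ.isIso_sigma j E hE

end Groth.Agent.S7280
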