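import Groth.Statements.S7282
import Groth.Agent.H1EpsS.Qcqs

set_option autoImplicit false
open CategoryTheory CategoryTheory.Limits AlgebraicGeometry Opposite
universe u
open ProEtS

namespace Groth.Agent.S7282

/-- Let X be a scheme and F an abelian sheaf on the small etale site of X. Let (Y_i) be a cofiltered
system of objects of the small pro-etale site of X, each quasi-compact and quasi-separated, with
affine transition morphisms, and let Y be a cone over it which is a limit of the Y_i as schemes.
Then the restriction maps exhibit the sections of the pro-etale pullback of F over Y as the colimit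
of its sections over the Y_i. (Continuity of the inclusion of the etale site into the pro-etale site
is carried as a binder.) -/
theorem result (X : Scheme.{u}) [ProEtS.EpsCont X]
    {I : Type u} [SmallCategory I] [IsCofiltered I] (D : I ⥤ X.ProEt)
    [∀ (i j : I) (a : i ⟶ j), IsAffineHom (D.map a).left]
    [∀ i, CompactSpace ↥(D.obj i).left] [∀ i, QuasiSeparatedSpace ↥(D.obj i).left]
    (c : Cone D) (hc : IsLimit ((Scheme.ProEt.forget X ⋙ Over.forget X).mapCone c))
    (F : EtCoh.Ab X) :
    Nonempty (IsColimit (((ProEtS.epsPull X).obj F).obj.mapCocone c.op)) := by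
  open Groth.Agent.H1EpsS in
  haveI : PreservesColimitsOfShape Iᵒᵖ (forget AddCommGrpCat.{u + 1}) := by
    haveI : IsFiltered (AsSmall.{u + 1} Iᵒᵖ) := IsFiltered.of_equivalence AsSmall.equiv
    exact preservesColimitsOfShape_of_equiv (AsSmall.equiv (C := Iᵒᵖ)).symm (forget AddCommGrpCat.{u + 1})
  haveI : ReflectsColimitsOfShape Iᵒᵖ (forget AddCommGrpCat.{u + 1}) :=
    reflectsColimitsOfShape_of_reflectsIsomorphisms
  have hD : Groth.Agent.H1EpsS.IsQcqsSys D :=
    ⟨fun i j f => inferInstance, fun i => inferInstance, fun i => inferInstance⟩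
  have hsurj := Groth.Agent.H1EpsS.lifts_of_qcqs
    (fun {U} S hS => Groth.Agent.H1EpsS.isSheaf_eps F S (Groth.Agent.H1EpsS.etTop_le _ hS))
    (Groth.Agent.H1EpsS.isLP_eps F) hc hD
  have hinj := Groth.Agent.H1EpsS.evEq_of_qcqs
    (fun {U} S hS => Groth.Agent.H1EpsS.isSheaf_eps F S (Groth.Agent.H1EpsS.etTop_le _ hS))
    (Groth.Agent.H1EpsS.isLP_eps F) hc hD
  refine ⟨isColimitOfReflects (forget AddCommGrpCat.{u + 1})
    (Types.FilteredColimit.isColimitOf' _ _ (fun x => ?_) fun i y y' h => ?_)⟩
  · obtain ⟨j, z, hz⟩ := hsurj x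
    exact ⟨op j, z, hz.symm⟩
  · obtain ⟨j, f, hf⟩ := hinj i.unop y y' h
    exact ⟨op j, f.op, hf⟩

end Groth.Agent.S7282
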