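import Groth.Statements.S7284
import Groth.Agent.H26ProEt.AffineSite
import Groth.Agent.H15Site.Deligne
import Mathlib.CategoryTheory.Sites.Point.Map

set_option autoImplicit false
open CategoryTheory CategoryTheory.Limits AlgebraicGeometry Opposite
universe u
open ProEtS

open CategoryTheory Groth.Agent.H26ProEt CategoryTheory.GrothendieckTopology.Point.ofIsCofiltered
namespace Groth.Agent.S7284

/-- For every scheme S the small pro-etale site of S has enough points, that is, it admits a small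
conservative family of points (fibre functors valued one universe up, the universe in which
pro-etale sheaves are valued). -/
theorem result (S : Scheme.{u}) :
    GrothendieckTopology.HasEnoughPoints.{u + 1} (Scheme.ProEt.topology S) := by
  let I := Σ U : S.affineOpens, Σ Y : Cat U.1, {T : Sieve Y // T ∉ top U.1 Y}
  have hpt : ∀ i : I, ∃ (Φ : GrothendieckTopology.Point.{u + 1} (top i.1.1)) (x : Φ.fiber.obj i.2.1),
      ∀ (Z : Cat i.1.1) (g : Z ⟶ i.2.1), i.2.2.1 g → ∀ z : Φ.fiber.obj Z, Φ.fiber.map g z ≠ x := by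
    intro i
    haveI := hasFiniteLimits_cat i.1.1 i.1.2
    choose n V g hg hcov using fun (Y : Cat i.1.1) (R : {R : Sieve Y // R ∈ top i.1.1 Y}) =>
      finitary i.1.1 Y R.1 R.2
    exact Groth.Agent.H15Site.Deligne.exists_point i.2.2.2 ⟨n, V, g, hg, hcov⟩
  choose Φ x hΦ using hpt
  refine ⟨ObjectProperty.ofObj fun i : I => (Φ i).map (incl i.1.1) (Scheme.ProEt.topology S),
    inferInstance, ObjectProperty.IsConservativeFamilyOfPoints.mk' ?_⟩
  intro X T hT
  have hloc : ∀ p : X.left, ∃ (U : S.affineOpens) (W : X.left.Opens),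
      p ∈ W ∧ IsAffineOpen W ∧ ∀ w ∈ W, X.hom w ∈ U.1 := by
    intro p
    obtain ⟨U, hU, hpU, -⟩ := TopologicalSpace.Opens.isBasis_iff_nbhd.1 S.isBasis_affineOpens
      (TopologicalSpace.Opens.mem_top (X.hom p))
    obtain ⟨W, hW, hpW, hWU⟩ := TopologicalSpace.Opens.isBasis_iff_nbhd.1 X.left.isBasis_affineOpens
      (show p ∈ X.hom ⁻¹ᵁ U from hpU)
    exact ⟨⟨U, hU⟩, W, hpW, hW, fun w hw => hWU hw⟩
  choose U W hpW hW hWU using hloc
  let A : X.left → S.ProEt := fun p => Scheme.ProEt.mk ((W p).ι ≫ X.hom)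
  let j : ∀ p, A p ⟶ X := fun p => MorphismProperty.Over.homMk (W p).ι (by rfl) trivial
  have hA : Sieve.ofArrows A j ∈ Scheme.ProEt.topology S X := by
    refine Precoverage.generate_mem_toGrothendieck ?_
    simp only [Scheme.ProEt.precoverage, Precoverage.mem_comap_iff, Presieve.map_ofArrows]
    apply Scheme.zariskiPrecoverage_le_propQCPrecoverage
    let E : PreZeroHypercover X.left := ⟨X.left, fun p => (W p : Scheme.{u}), fun p => (W p).ι⟩
    show E.presieve₀ ∈ Scheme.precoverage @IsOpenImmersion X.left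
    rw [Scheme.presieve₀_mem_precoverage_iff]
    exact ⟨fun p => ⟨p, ⟨⟨p, hpW p⟩, rfl⟩⟩, fun p => (inferInstance : IsOpenImmersion (W p).ι)⟩
  refine GrothendieckTopology.transitive _ hA T ?_
  rintro Z _ ⟨_, b, _, ⟨p⟩, rfl⟩
  rw [Sieve.pullback_comp]
  refine GrothendieckTopology.pullback_stable _ b ?_
  let Y₀ : Cat (U p).1 := ULiftHom.objUp ⟨A p, hW p, fun w => hWU p _ w.2⟩
  let T' : Sieve Y₀ := Sieve.functorPullback (X := Y₀) (incl (U p).1) (T.pullback (j p))
  suffices hmem : T' ∈ top (U p).1 Y₀ by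
    refine GrothendieckTopology.superset_covering _ ?_ (Functor.mem_restrictedTopology_iff.1 hmem)
    rintro Z _ ⟨Z', q, h, hq, rfl⟩
    exact (T.pullback (j p)).downward_closed hq h
  by_contra hn
  let i : I := ⟨U p, Y₀, T', hn⟩
  obtain ⟨Z', g, hg, z, hz⟩ := hT ⟨(Φ i).map (incl (U p).1) (Scheme.ProEt.topology S), .mk i⟩
    (fiberMk.{u + 1} (p := CategoryOfElements.π (Φ i).fiber ⋙ incl (U p).1)
      (U := (Φ i).fiber.elementsMk Y₀ (x i)) (j p))
  obtain ⟨v, a, rfl⟩ := fiberMk_jointly_surjective.{u + 1} (p := CategoryOfElements.π (Φ i).fiber ⋙ incl (U p).1) z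
  rw [show ((Φ i).map (incl (U p).1) (Scheme.ProEt.topology S)).fiber.map g (fiberMk.{u + 1} a) = fiberMk.{u + 1} (a ≫ g) from
    fiber_map_fiberMk.{u + 1} _ a g] at hz
  obtain ⟨w, q₁, q₂, -⟩ := IsCofilteredOrEmpty.cone_objs v ((Φ i).fiber.elementsMk Y₀ (x i))
  have hz' := ((fiberMk_map_comp.{u + 1} (CategoryOfElements.π (Φ i).fiber ⋙ incl (U p).1) q₁ (a ≫ g)).trans hz).trans
    (fiberMk_map_comp.{u + 1} (CategoryOfElements.π (Φ i).fiber ⋙ incl (U p).1)
      (U := (Φ i).fiber.elementsMk Y₀ (x i)) q₂ (j p)).symm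
  obtain ⟨w', r, hr⟩ := exists_of_fiberMk_eq_fiberMk.{u + 1} hz'
  refine hΦ i w'.1 (r ≫ q₂).1 ?_ w'.2 (r ≫ q₂).2
  show T ((incl (U p).1).map (r ≫ q₂).1 ≫ j p)
  have e : (incl (U p).1).map (r ≫ q₂).1 ≫ j p = (incl (U p).1).map (r ≫ q₁).1 ≫ a ≫ g := by
    change (incl (U p).1).map (r.1 ≫ q₂.1) ≫ j p = (incl (U p).1).map (r.1 ≫ q₁.1) ≫ a ≫ g
    rw [Functor.map_comp, Functor.map_comp, Category.assoc, Category.assoc]
    exact hr.symm
  rw [e, ← Category.assoc]
  exact T.downward_closed hg _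

end Groth.Agent.S7284
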