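import Groth.Statements.S7285
import Groth.Agent.H26ProEt.Coprod

set_option autoImplicit false
open CategoryTheory CategoryTheory.Limits AlgebraicGeometry Opposite
universe u
open ProEtS

namespace Groth.Agent.S7285

/-- Let f be a morphism of schemes from X to Y and F a sheaf of sets on the small pro-etale site of Y.
For an affine weakly contractible object W of the small pro-etale site of X, the value at W of the
pullback of F along f is the colimit of the values F(V) over morphisms from W to the base change of
V, V ranging over the pro-etale site of Y; equivalently, the left Kan extension presheaf of F along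
base change has the same sections over W as its sheafification. (Continuity of base change between
the small pro-etale sites is carried as a binder.) -/
theorem result {X Y : Scheme.{u}} (f : X ⟶ Y) [ProEtS.PCont f]
    (F : Sheaf (Scheme.ProEt.topology Y) (Type (u + 1))) (W : X.ProEt) [IsAffine W.left]
    (hW : ProEtS.IsWC W) :
    Function.Bijective
      ((toSheafify (Scheme.ProEt.topology X) ((ProEtS.bcP f).op.lan.obj F.obj)).app (op W)) := by
  haveI : PreservesFiniteLimits (ProEtS.bcP f) := by
    set_option backward.isDefEq.respectTransparency.types false in
    exact inferInstanceAs (PreservesFiniteLimits (MorphismProperty.Over.pullback (T := Scheme.{u}) @WeaklyEtale ⊤ f))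
  have href := Groth.Agent.H26ProEt.refines_of_splits (Groth.Agent.H26ProEt.splits_of_isWC hW)
  let K := Scheme.ProEt.topology X
  let L := (ProEtS.bcP f).op.lan.obj F.obj
  let η := toSheafify K L
  constructor
  · intro x y hxy
    obtain ⟨n, O, hO, hR⟩ := href _ (Presheaf.equalizerSieve_mem K η x y hxy)
    exact (Groth.Agent.H26ProEt.lan_existsUnique_glue f F hO fun k =>
      L.map (Groth.Agent.H26ProEt.pieceHom W (O k)).op y).unique hR fun k => rfl
  · intro s
    obtain ⟨n, O, hO, hR⟩ := href _ (Presheaf.imageSieve_mem K η s)
    choose t ht using hR
    obtain ⟨r, hr, -⟩ := Groth.Agent.H26ProEt.lan_existsUnique_glue f F hO t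
    have hs := (isSheaf_iff_isSheaf_of_type K _).1 ((presheafToSheaf K (Type (u + 1))).obj L).2
    refine ⟨r, (hO.existsUnique_section hs fun k => _).unique (fun k => ?_) fun k => rfl⟩
    refine Eq.trans ?_ (ht k)
    rw [← hr k]
    exact (NatTrans.naturality_apply η (Groth.Agent.H26ProEt.pieceHom W (O k)).op r).symm

end Groth.Agent.S7285
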