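import Groth.Statements.S7287
import Groth.Agent.H25Trdeg.FreeAmalgam
import Groth.Agent.H8Props.FunDescent.TrdegPoints

set_option autoImplicit false
open CategoryTheory CategoryTheory.Limits AlgebraicGeometry Opposite
universe u
open RelCyc

namespace Groth.Agent.S7287

open Groth.Agent.H25Trdeg Groth.Agent.H8Props.FunDescent

/-- The map of residue fields at a point with given image. -/
theorem exists_residueMap {X Y : Scheme.{u}} (h : X ⟶ Y) {x : X} {y : Y} (e : h.base x = y) :
    ∃ τ : Y.residueField y ⟶ X.residueField x,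
      Spec.map τ ≫ Y.fromSpecResidueField y = X.fromSpecResidueField x ≫ h := by
  subst e
  exact ⟨h.residueFieldMap x, Scheme.Hom.SpecMap_residueFieldMap_fromSpecResidueField h x⟩

theorem residueMap_unique {Y : Scheme.{u}} {K : CommRingCat.{u}} {y : Y} {a b : Y.residueField y ⟶ K}
    (h : Spec.map a ≫ Y.fromSpecResidueField y = Spec.map b ≫ Y.fromSpecResidueField y) : a = b :=
  Spec.map_injective ((cancel_mono _).mp h)

theorem exists_point_of_morphism {Y : Scheme.{u}} {K : Type u} [Field K] (h : Spec (.of K) ⟶ Y) :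
    ∃ (y : Y) (ψ : Y.residueField y ⟶ .of K), Spec.map ψ ≫ Y.fromSpecResidueField y = h ∧
      ∀ s, h.base s = y :=
  ⟨(Scheme.SpecToEquivOfField K Y h).1, (Scheme.SpecToEquivOfField K Y h).2,
    (Scheme.SpecToEquivOfField K Y).left_inv h, fun _ => congrArg h.base (Subsingleton.elim _ _)⟩

/-- The point `x₁` over `x` in a base change: its residue field is generated by those of the two images. -/
theorem residue_closure {X S S' X' : Scheme.{u}} {f : X ⟶ S} {g : S' ⟶ S} {f' : X' ⟶ S'} {g' : X' ⟶ X}
    (hX : IsPullback g' f' f g) {x₁ : X'} {x : X} (ρ : S.residueField (f.base x) ⟶ S'.residueField (f'.base x₁))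
    (β : X.residueField x ⟶ X'.residueField x₁)
    (hρ : Spec.map ρ ≫ S.fromSpecResidueField _ = S'.fromSpecResidueField _ ≫ g)
    (hβ : Spec.map β ≫ X.fromSpecResidueField _ = X'.fromSpecResidueField _ ≫ g')
    (hcomm : f.residueFieldMap x ≫ β = ρ ≫ f'.residueFieldMap x₁) :
    Subfield.closure (Set.range β.hom ∪ Set.range (f'.residueFieldMap x₁).hom) = ⊤ := by
  let L := Subfield.closure (Set.range β.hom ∪ Set.range (f'.residueFieldMap x₁).hom)
  let a : S'.residueField (f'.base x₁) ⟶ CommRingCat.of L :=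
    CommRingCat.ofHom ((f'.residueFieldMap x₁).hom.codRestrict L fun c =>
      Subfield.subset_closure (Or.inr ⟨c, rfl⟩))
  let b : X.residueField x ⟶ CommRingCat.of L :=
    CommRingCat.ofHom (β.hom.codRestrict L fun c => Subfield.subset_closure (Or.inl ⟨c, rfl⟩))
  let i : CommRingCat.of L ⟶ X'.residueField x₁ := CommRingCat.ofHom L.subtype
  have hb : b ≫ i = β := rfl
  have ha : a ≫ i = f'.residueFieldMap x₁ := rfl
  have hab : f.residueFieldMap x ≫ b = ρ ≫ a := by
    refine CommRingCat.hom_ext (RingHom.ext fun c => Subtype.ext ?_)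
    exact congr($(hcomm).hom c)
  let h := hX.lift (Spec.map b ≫ X.fromSpecResidueField x) (Spec.map a ≫ S'.fromSpecResidueField _) (by
    rw [Category.assoc, Category.assoc, ← Scheme.Hom.SpecMap_residueFieldMap_fromSpecResidueField,
      ← hρ, ← Spec.map_comp_assoc, ← Spec.map_comp_assoc, hab])
  have hi : Spec.map i ≫ h = X'.fromSpecResidueField x₁ := by
    apply hX.hom_ext
    · rw [Category.assoc, hX.lift_fst, ← Spec.map_comp_assoc, hb, hβ]
    · rw [Category.assoc, hX.lift_snd, ← Spec.map_comp_assoc, ha,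
        Scheme.Hom.SpecMap_residueFieldMap_fromSpecResidueField]
  obtain ⟨y, ψ, hψ, hy⟩ := exists_point_of_morphism h
  have e : y = x₁ := by
    let pt : Spec (X'.residueField x₁) := IsLocalRing.closedPoint (X'.residueField x₁)
    rw [← X'.fromSpecResidueField_apply x₁ pt, ← hi, Scheme.Hom.comp_apply]
    exact (hy _).symm
  subst e
  have key : ψ ≫ i = 𝟙 _ := residueMap_unique (by rw [Spec.map_id, Category.id_comp, Spec.map_comp_assoc, hψ, hi])
  rw [eq_top_iff]
  intro c _
  have hc : (ψ.hom c : L).1 = c := congr($(key).hom c)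
  rw [← hc]
  exact (ψ.hom c).2

/-- A transcendence basis of the residue field extension at `x` is one at a point over `x` of the same
transcendence degree. -/
theorem isTranscendenceBasis_baseChange {K Kx K1 L1 : Type u} [Field K] [Field Kx] [Field K1] [Field L1]
    [Algebra K Kx] [Algebra K K1] [Algebra Kx L1] [Algebra K1 L1] [Algebra K L1] [IsScalarTower K Kx L1]
    [IsScalarTower K K1 L1] {ι : Type u} [Finite ι] {t : ι → Kx} (ht : IsTranscendenceBasis K t)
    (hgen : Subfield.closure (Set.range (algebraMap Kx L1) ∪ Set.range (algebraMap K1 L1)) = ⊤)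
    (hle : Cardinal.mk ι ≤ Algebra.trdeg K1 L1) :
    IsTranscendenceBasis K1 (algebraMap Kx L1 ∘ t) := by
  let S := Algebra.adjoin K1 (Set.range (algebraMap Kx L1 ∘ t))
  let E : Subfield L1 :=
    { (Subalgebra.algebraicClosure S L1).toSubring with inv_mem' := fun x (hx : IsAlgebraic S x) => hx.inv }
  have hE : Subfield.closure (Set.range (algebraMap Kx L1) ∪ Set.range (algebraMap K1 L1)) ≤ E := by
    rw [Subfield.closure_le]
    rintro _ (⟨c, rfl⟩ | ⟨c, rfl⟩)
    · let f : Kx →ₐ[K] L1 := IsScalarTower.toAlgHom K Kx L1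
      let ψ : Algebra.adjoin K (Set.range t) →+* S := (f.toRingHom.comp
          (Algebra.adjoin K (Set.range t)).val.toRingHom).codRestrict S fun y => by
        obtain ⟨y, hy⟩ := y
        show f y ∈ S
        induction hy using Algebra.adjoin_induction with
        | mem x hx =>
          obtain ⟨i, rfl⟩ := hx
          exact Algebra.subset_adjoin ⟨i, rfl⟩
        | algebraMap c =>
          rw [f.commutes, IsScalarTower.algebraMap_apply K K1 L1]
          exact Subalgebra.algebraMap_mem _ _
        | add x y _ _ hx hy => rw [map_add]; exact add_mem hx hy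
        | mul x y _ _ hx hy => rw [map_mul]; exact mul_mem hx hy
      have hψ : Function.Injective ψ := fun y y' h =>
        Subtype.ext (f.toRingHom.injective (congr_arg Subtype.val h :))
      exact IsAlgebraic.ringHom_of_comp_eq (f := ψ) (g := f.toRingHom) (ht.isAlgebraic.isAlgebraic c) hψ
        (RingHom.ext fun _ => rfl)
    · exact isAlgebraic_algebraMap (⟨algebraMap K1 L1 c, Subalgebra.algebraMap_mem _ c⟩ : S)
  haveI : Algebra.IsAlgebraic S L1 := ⟨fun y => hE (hgen ▸ Subfield.mem_top y)⟩
  exact Algebra.IsAlgebraic.isTranscendenceBasis_of_le_trdeg_of_finite K1 _ hle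

/-- Let f from X to S be locally of finite type, r a natural number and g from S' to S a surjective
morphism. Let S'' be the fibre product of S' with itself over S (projections p, q), X' the base
change of X along g (structure map f', projection g' to X), and X'' the base change of X along S''
with structure map f'' and the two projections p', q' to X' lying over p and q and compatible with
the projections to X. Let x be a point of X whose residue field has transcendence degree r over that
of f(x). If x1 and x2 are points of X' mapping to x whose residue fields have transcendence degree r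
over those of their images in S', then there is a point of X'' whose residue field has transcendence
degree r over that of its image in S'' and whose two projections are x1 and x2. -/
theorem result {X S S' S'' X' X'' : Scheme.{u}}
    (f : X ⟶ S) [LocallyOfFiniteType f] (r : ℕ) (g : S' ⟶ S) [Surjective g]
    (p q : S'' ⟶ S') (hS : IsPullback p q g g)
    (f' : X' ⟶ S') (g' : X' ⟶ X) (hX : IsPullback g' f' f g)
    (f'' : X'' ⟶ S'') (p' q' : X'' ⟶ X') (hp : IsPullback p' f'' f' p) (hq : IsPullback q' f'' f' q)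
    (hpq : p' ≫ g' = q' ≫ g')
    (x : ↥X) (hx : Dual3.resTrdeg f x = r)
    (x₁ x₂ : ↥X') (h₁ : g'.base x₁ = x) (h₂ : g'.base x₂ = x)
    (hx₁ : Dual3.resTrdeg f' x₁ = r) (hx₂ : Dual3.resTrdeg f' x₂ = r) :
    ∃ x'' : ↥X'', Dual3.resTrdeg f'' x'' = r ∧ p'.base x'' = x₁ ∧ q'.base x'' = x₂ := by
  classical
  letI := (f.residueFieldMap x).hom.toAlgebra
  obtain ⟨ι, t, ht⟩ := exists_isTranscendenceBasis' (S.residueField (f.base x)) (X.residueField x)
  have hcard : Cardinal.mk ι = r := ht.cardinalMk_eq_trdeg.trans hx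
  haveI : Finite ι := Cardinal.mk_lt_aleph0_iff.mp (hcard ▸ Cardinal.natCast_lt_aleph0)
  obtain ⟨ρ₁, hρ₁⟩ := exists_residueMap g (x := f'.base x₁) (y := f.base x) (by
    rw [← h₁, ← Scheme.Hom.comp_apply, ← Scheme.Hom.comp_apply, hX.w])
  obtain ⟨ρ₂, hρ₂⟩ := exists_residueMap g (x := f'.base x₂) (y := f.base x) (by
    rw [← h₂, ← Scheme.Hom.comp_apply, ← Scheme.Hom.comp_apply, hX.w])
  obtain ⟨β₁, hβ₁⟩ := exists_residueMap g' h₁
  obtain ⟨β₂, hβ₂⟩ := exists_residueMap g' h₂
  have hcomm : ∀ (z : X') (ρ : S.residueField (f.base x) ⟶ S'.residueField (f'.base z))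
      (β : X.residueField x ⟶ X'.residueField z),
      Spec.map ρ ≫ S.fromSpecResidueField _ = S'.fromSpecResidueField _ ≫ g →
      Spec.map β ≫ X.fromSpecResidueField _ = X'.fromSpecResidueField _ ≫ g' →
      f.residueFieldMap x ≫ β = ρ ≫ f'.residueFieldMap z := fun z ρ β hρ hβ => residueMap_unique (by
    rw [Spec.map_comp_assoc, Scheme.Hom.SpecMap_residueFieldMap_fromSpecResidueField, reassoc_of% hβ,
      Spec.map_comp_assoc, hρ, Scheme.Hom.SpecMap_residueFieldMap_fromSpecResidueField_assoc, hX.w])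
  have c₁ := hcomm _ ρ₁ β₁ hρ₁ hβ₁
  have c₂ := hcomm _ ρ₂ β₂ hρ₂ hβ₂
  have g₁ := residue_closure hX ρ₁ β₁ hρ₁ hβ₁ c₁
  have g₂ := residue_closure hX ρ₂ β₂ hρ₂ hβ₂ c₂
  letI := β₁.hom.toAlgebra
  letI := β₂.hom.toAlgebra
  letI := (f'.residueFieldMap x₁).hom.toAlgebra
  letI := (f'.residueFieldMap x₂).hom.toAlgebra
  letI := ρ₁.hom.toAlgebra
  letI := ρ₂.hom.toAlgebra
  letI := (ρ₁ ≫ f'.residueFieldMap x₁).hom.toAlgebra
  letI := (ρ₂ ≫ f'.residueFieldMap x₂).hom.toAlgebra
  haveI : IsScalarTower (S.residueField (f.base x)) (X.residueField x) (X'.residueField x₁) :=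
    IsScalarTower.of_algebraMap_eq fun c => (congr($(c₁).hom c)).symm
  haveI : IsScalarTower (S.residueField (f.base x)) (X.residueField x) (X'.residueField x₂) :=
    IsScalarTower.of_algebraMap_eq fun c => (congr($(c₂).hom c)).symm
  haveI : IsScalarTower (S.residueField (f.base x)) (S'.residueField (f'.base x₁)) (X'.residueField x₁) :=
    IsScalarTower.of_algebraMap_eq fun c => rfl
  haveI : IsScalarTower (S.residueField (f.base x)) (S'.residueField (f'.base x₂)) (X'.residueField x₂) :=
    IsScalarTower.of_algebraMap_eq fun c => rfl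
  have ht₁ : IsTranscendenceBasis (S'.residueField (f'.base x₁))
      (algebraMap (X.residueField x) (X'.residueField x₁) ∘ t) :=
    isTranscendenceBasis_baseChange ht g₁ (hcard.trans hx₁.symm).le
  have ht₂ : IsTranscendenceBasis (S'.residueField (f'.base x₂))
      (algebraMap (X.residueField x) (X'.residueField x₂) ∘ t) :=
    isTranscendenceBasis_baseChange ht g₂ (hcard.trans hx₂.symm).le
  obtain ⟨M, _, φ₁, φ₂, E, hφ, hE₁, hE₂, hind⟩ := exists_free_amalgam ht ht₁ ht₂
  let F₁ : X'.residueField x₁ ⟶ CommRingCat.of M := CommRingCat.ofHom φ₁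
  let F₂ : X'.residueField x₂ ⟶ CommRingCat.of M := CommRingCat.ofHom φ₂
  let a₁ : S'.residueField (f'.base x₁) ⟶ CommRingCat.of E :=
    CommRingCat.ofHom ((φ₁.comp (f'.residueFieldMap x₁).hom).codRestrict E hE₁)
  let a₂ : S'.residueField (f'.base x₂) ⟶ CommRingCat.of E :=
    CommRingCat.ofHom ((φ₂.comp (f'.residueFieldMap x₂).hom).codRestrict E hE₂)
  let ε : CommRingCat.of E ⟶ CommRingCat.of M := CommRingCat.ofHom E.subtype
  have ha₁ : a₁ ≫ ε = f'.residueFieldMap x₁ ≫ F₁ := rfl
  have ha₂ : a₂ ≫ ε = f'.residueFieldMap x₂ ≫ F₂ := rfl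
  have hφ' : β₁ ≫ F₁ = β₂ ≫ F₂ := CommRingCat.hom_ext hφ
  have hK : ρ₁ ≫ a₁ = ρ₂ ≫ a₂ := by
    have h : (ρ₁ ≫ a₁) ≫ ε = (ρ₂ ≫ a₂) ≫ ε := by
      rw [Category.assoc, Category.assoc, ha₁, ha₂, ← Category.assoc, ← Category.assoc, ← c₁, ← c₂,
        Category.assoc, Category.assoc, hφ']
    exact CommRingCat.hom_ext (RingHom.ext fun c => Subtype.ext congr($(h).hom c))
  let e := hS.lift (Spec.map a₁ ≫ S'.fromSpecResidueField _) (Spec.map a₂ ≫ S'.fromSpecResidueField _) (by
    rw [Category.assoc, Category.assoc, ← hρ₁, ← hρ₂, ← Spec.map_comp_assoc, ← Spec.map_comp_assoc, hK])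
  let m := hp.lift (Spec.map F₁ ≫ X'.fromSpecResidueField x₁) (Spec.map ε ≫ e) (by
    rw [Category.assoc, Category.assoc, hS.lift_fst,
      ← Scheme.Hom.SpecMap_residueFieldMap_fromSpecResidueField, ← Spec.map_comp_assoc,
      ← Spec.map_comp_assoc, ha₁])
  have hm₂ : m ≫ q' = Spec.map F₂ ≫ X'.fromSpecResidueField x₂ := by
    apply hX.hom_ext
    · rw [Category.assoc, Category.assoc, ← hpq, hp.lift_fst_assoc, Category.assoc, ← hβ₁, ← hβ₂,
        ← Spec.map_comp_assoc, ← Spec.map_comp_assoc, hφ']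
    · rw [Category.assoc, Category.assoc, hq.w, hp.lift_snd_assoc, Category.assoc, hS.lift_snd,
        ← Scheme.Hom.SpecMap_residueFieldMap_fromSpecResidueField, ← Spec.map_comp_assoc,
        ← Spec.map_comp_assoc, ha₂]
  obtain ⟨x'', ψ, hψ, hxy⟩ := exists_point_of_morphism m
  obtain ⟨y, η, hη, hey⟩ := exists_point_of_morphism e
  let pt : Spec (CommRingCat.of M) := IsLocalRing.closedPoint M
  have hp₁ : p'.base x'' = x₁ := by
    rw [← hxy pt, ← Scheme.Hom.comp_apply, hp.lift_fst]
    simp
  have hq₂ : q'.base x'' = x₂ := by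
    rw [← hxy pt, ← Scheme.Hom.comp_apply, hm₂]
    simp
  have hy : f''.base x'' = y := by
    rw [← hxy pt, ← Scheme.Hom.comp_apply, hp.lift_snd]
    exact hey _
  subst hy
  have hres : f''.residueFieldMap x'' ≫ ψ = η ≫ ε := residueMap_unique (by
    rw [Spec.map_comp_assoc, Scheme.Hom.SpecMap_residueFieldMap_fromSpecResidueField, reassoc_of% hψ,
      hp.lift_snd, Spec.map_comp_assoc, hη])
  obtain ⟨τ, hτ⟩ := exists_residueMap (p' ≫ g') (x := x'') (y := x)
    (by rw [Scheme.Hom.comp_apply, hp₁, h₁])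
  have hτψ : τ ≫ ψ = β₁ ≫ F₁ := residueMap_unique (by
    rw [Spec.map_comp_assoc, hτ, reassoc_of% hψ, hp.lift_fst_assoc, Spec.map_comp_assoc, hβ₁,
      Category.assoc])
  haveI : LocallyOfFiniteType f' := MorphismProperty.of_isPullback hX ‹_›
  haveI : LocallyOfFiniteType f'' := MorphismProperty.of_isPullback hp ‹_›
  refine ⟨x'', le_antisymm ?_ ?_, hp₁, hq₂⟩
  · calc Dual3.resTrdeg f'' x'' ≤ Dual3.resTrdeg f' (p'.base x'') := pointTrdeg_le hp x''
      _ = r := by rw [hp₁]; exact hx₁
  · letI := (f''.residueFieldMap x'').hom.toAlgebra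
    rw [← hcard]
    have h3 : ψ.hom ∘ (τ.hom ∘ t) = φ₁ ∘ algebraMap (X.residueField x) (X'.residueField x₁) ∘ t :=
      funext fun i => congr($(hτψ).hom (t i))
    rw [← h3] at hind
    have hinj : Function.Injective η.hom := η.hom.injective
    exact (AlgebraicIndependent.of_ringHom_of_comp_eq (f := η.hom) (g := ψ.hom) hind hinj
      (RingHom.ext fun c => (congr($(hres).hom c)).symm)).cardinalMk_le_trdeg

end Groth.Agent.S7287
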