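import Groth.Statements.S7288
import Groth.Agent.H18EpsMod.Exact

set_option autoImplicit false
open CategoryTheory CategoryTheory.Limits AlgebraicGeometry Opposite
universe u
open EtModW

namespace Groth.Agent.S7288

/-- Let X be a scheme and Λ a ring. The essential image of the pullback functor from sheaves of
Λ-modules on the small etale site of X to sheaves of Λ-modules on the small pro-etale site is a weak
Serre subcategory: the kernel and the cokernel of a morphism between objects of the essential image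
lie in it, and an extension of two objects of the essential image lies in it. (Continuity of the
inclusion of the etale site into the pro-etale site is carried as a binder.) -/
theorem result (Λ : Type (u + 1)) [CommRing Λ] (X : Scheme.{u})
    [ProEtS.EpsCont X] :
    (∀ (F G : EtModW.ModP Λ X) (φ : F ⟶ G), (EtModW.epsPullMod Λ X).essImage F →
      (EtModW.epsPullMod Λ X).essImage G →
        (EtModW.epsPullMod Λ X).essImage (kernel φ) ∧ (EtModW.epsPullMod Λ X).essImage (cokernel φ)) ∧
    ∀ (T : ShortComplex (EtModW.ModP Λ X)), T.ShortExact →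
      (EtModW.epsPullMod Λ X).essImage T.X₁ → (EtModW.epsPullMod Λ X).essImage T.X₃ →
        (EtModW.epsPullMod Λ X).essImage T.X₂ := by
  haveI := H18EpsMod.preservesFiniteLimits_epsPullMod Λ X
  haveI := H18EpsMod.preservesFiniteColimits_epsPullMod Λ X
  haveI : (EtModW.epsPullMod Λ X).Additive := (H18EpsMod.adjMod Λ X).left_adjoint_additive
  refine ⟨fun F G φ hF hG => ?_, fun T hT h1 h3 => ?_⟩
  · obtain ⟨A, ⟨eA⟩⟩ := hF
    obtain ⟨B, ⟨eB⟩⟩ := hG
    obtain ⟨ψ, hψ⟩ := H18EpsMod.exists_preimage_hom Λ X (eA.hom ≫ φ ≫ eB.inv)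
    have hw : (EtModW.epsPullMod Λ X).map ψ ≫ eB.hom = eA.hom ≫ φ := by
      rw [hψ]; simp
    refine ⟨⟨kernel ψ, ⟨PreservesKernel.iso (EtModW.epsPullMod Λ X) ψ ≪≫ kernel.mapIso _ _ eA eB hw⟩⟩,
      ⟨cokernel ψ, ⟨PreservesCokernel.iso (EtModW.epsPullMod Λ X) ψ ≪≫ cokernel.mapIso _ _ eA eB hw⟩⟩⟩
  · obtain ⟨A, ⟨eA⟩⟩ := h1
    obtain ⟨B, ⟨eB⟩⟩ := h3
    obtain ⟨U, -, -, -, hU⟩ := H18EpsMod.exists_extension Λ X hT eA eB
    exact ⟨U.X₂, hU⟩

end Groth.Agent.S7288
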