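import Groth.Statements.S7291
import Groth.Agent.H18HTop.VCoverCrit
import Groth.Agent.H13Desc.Immersion
import Mathlib.AlgebraicGeometry.AffineTransitionLimit

set_option autoImplicit false
open CategoryTheory CategoryTheory.Limits AlgebraicGeometry Opposite
universe w u
open HTop

namespace Groth.Agent.S7291

set_option backward.isDefEq.respectTransparency false

/-- Let Y be an affine scheme and let X be the limit (as a scheme) of a cofiltered system of affine
schemes X_i over Y. Then the one-member family X over Y is a standard V covering exactly when, for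
every i, the one-member family X_i over Y is a standard V covering. -/
theorem result {Y : Scheme.{u}} [IsAffine Y]
    {I : Type u} [SmallCategory I] [IsCofiltered I] (D : I ⥤ Over Y) [∀ i, IsAffine (D.obj i).left]
    (c : Cone D) (hc : IsLimit ((Over.forget Y).mapCone c)) :
    HTop.IsStandardV (PreZeroHypercover.singleton.{w} c.pt.hom) ↔
      ∀ i, HTop.IsStandardV (PreZeroHypercover.singleton.{w} (D.obj i).hom) := by
  haveI : IsConnected I := IsCofiltered.isConnected I
  have hc' : IsLimit c := isLimitOfReflects (Over.forget Y) hc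
  haveI hlim : IsAffine c.pt.left := by
    haveI : ∀ i, IsAffine ((D ⋙ Over.forget Y).obj i) := fun i => inferInstanceAs (IsAffine (D.obj i).left)
    exact Scheme.isAffine_of_isLimit _ hc
  constructor
  · intro h i
    refine ⟨‹_›, inferInstanceAs (Finite PUnit), fun _ => inferInstanceAs (IsAffine (D.obj i).left), fun V _ _ v => ?_⟩
    obtain ⟨W, i1, i2, φ, hφ, j, v', hv'⟩ := h.lift V v
    refine ⟨W, i1, i2, φ, hφ, PUnit.unit, v' ≫ (c.π.app i).left, ?_⟩
    exact (Category.assoc _ _ _).trans ((congrArg (v' ≫ ·) (Over.w (c.π.app i))).trans hv')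
  intro h
  refine ⟨‹_›, inferInstanceAs (Finite PUnit), fun _ => hlim,
    H18HTop.hasValLift_of_specializes _ fun V _ _ g => ?_⟩
  let k : Spec (CommRingCat.of (FractionRing V)) ⟶ Spec V := Spec.map (CommRingCat.ofHom (algebraMap V (FractionRing V)))
  have hk : ∀ t, k t = (⊥ : PrimeSpectrum V) := fun (t : PrimeSpectrum (FractionRing V)) => PrimeSpectrum.ext (by
    show t.asIdeal.comap (algebraMap V (FractionRing V)) = ⊥
    rw [(Ideal.eq_bot_or_top t.asIdeal).resolve_right t.isPrime.ne_top]
    exact Ideal.comap_bot_of_injective _ (IsFractionRing.injective V (FractionRing V)))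
  have hP : IsLimit ((Over.pullback g ⋙ Over.forget _).mapCone c) :=
    isLimitOfPreserves (Over.pullback g ⋙ Over.forget _) hc'
  have hQ : IsLimit ((Over.pullback (k ≫ g) ⋙ Over.forget _).mapCone c) :=
    isLimitOfPreserves (Over.pullback (k ≫ g) ⋙ Over.forget _) hc'
  haveI hPaff : ∀ i, IsAffine ((D ⋙ Over.pullback g ⋙ Over.forget _).obj i) := fun i => by
    haveI : IsAffineHom (D.obj i).hom := isAffineHom_of_isAffine _
    haveI : IsAffineHom (pullback.snd (D.obj i).hom g) :=
      MorphismProperty.pullback_snd (P := @IsAffineHom) _ _ (inferInstanceAs (IsAffineHom (D.obj i).hom))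
    exact isAffine_of_isAffineHom (pullback.snd (D.obj i).hom g)
  haveI hQaff : ∀ i, IsAffine ((D ⋙ Over.pullback (k ≫ g) ⋙ Over.forget _).obj i) := fun i => by
    haveI : IsAffineHom (D.obj i).hom := isAffineHom_of_isAffine _
    haveI : IsAffineHom (pullback.snd (D.obj i).hom (k ≫ g)) :=
      MorphismProperty.pullback_snd (P := @IsAffineHom) _ _ (inferInstanceAs (IsAffineHom (D.obj i).hom))
    exact isAffine_of_isAffineHom (pullback.snd (D.obj i).hom (k ≫ g))
  let Z : ∀ i, Set ↑((D ⋙ Over.pullback g ⋙ Over.forget _).obj i) := fun i =>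
    (pullback.snd (D.obj i).hom g) ⁻¹' {IsLocalRing.closedPoint V} ∩
      closure ((pullback.snd (D.obj i).hom g) ⁻¹' {(⊥ : PrimeSpectrum V)})
  obtain ⟨z, hz⟩ := exists_mem_of_isClosed_of_nonempty (D ⋙ Over.pullback g ⋙ Over.forget _) _ hP Z
    (fun i => ((PrimeSpectrum.isClosed_singleton_iff_isMaximal _).2 (IsLocalRing.maximalIdeal.isMaximal V)).preimage
      (pullback.snd (D.obj i).hom g).continuous |>.inter isClosed_closure)
    (fun i => by
      obtain ⟨W, i1, i2, φ, hφ, _, v', hv'⟩ := (h i).lift V g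
      haveI := hφ.2
      let l : Spec W ⟶ pullback (D.obj i).hom g := pullback.lift v' (Spec.map φ) hv'
      have hl : ∀ w, pullback.snd (D.obj i).hom g (l w) = Spec.map φ w := fun w => by
        rw [← Scheme.Hom.comp_apply, pullback.lift_snd]
      refine ⟨l (IsLocalRing.closedPoint W), ?_, ?_⟩
      · exact (hl _).trans (IsLocalRing.comap_closedPoint φ.hom)
      · exact ((IsLocalRing.specializes_closedPoint _).map l.continuous).mem_closed isClosed_closure (subset_closure
          ((hl (⊥ : PrimeSpectrum W)).trans (PrimeSpectrum.ext (Ideal.comap_bot_of_injective _ hφ.1)))))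
    (fun i => (((PrimeSpectrum.isClosed_singleton_iff_isMaximal _).2 (IsLocalRing.maximalIdeal.isMaximal V)).preimage
      (pullback.snd (D.obj i).hom g).continuous |>.inter isClosed_closure).isCompact)
    (fun {i i'} a x hx => by
      let m : pullback (D.obj i).hom g ⟶ pullback (D.obj i').hom g := (D ⋙ Over.pullback g ⋙ Over.forget _).map a
      have hm : ∀ y, pullback.snd (D.obj i').hom g (m y) = pullback.snd (D.obj i).hom g y := fun y => by
        rw [← Scheme.Hom.comp_apply]
        exact congrArg (fun (r : pullback (D.obj i).hom g ⟶ Spec V) => r y) (pullback.lift_snd _ _ _)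
      refine ⟨(hm x).trans hx.1, ?_⟩
      refine map_mem_closure m.continuous hx.2 fun y hy => (hm y).trans hy)
  obtain ⟨i₀⟩ := IsCofiltered.nonempty (C := I)
  let π₀ : ∀ i, pullback c.pt.hom g ⟶ pullback (D.obj i).hom g := fun i =>
    ((Over.pullback g ⋙ Over.forget _).mapCone c).π.app i
  have hπ : ∀ i y, pullback.snd (D.obj i).hom g (π₀ i y) = pullback.snd c.pt.hom g y := fun i y => by
    rw [← Scheme.Hom.comp_apply]
    exact congrArg (fun (r : pullback c.pt.hom g ⟶ Spec V) => r y) (pullback.lift_snd _ _ _)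
  let z' : ↑(pullback c.pt.hom g) := z
  let q : pullback c.pt.hom (k ≫ g) ⟶ pullback c.pt.hom g := pullback.map _ _ _ _ (𝟙 _) k (𝟙 _) (by simp) (by simp)
  haveI : QuasiCompact q := by
    haveI : IsAffineHom c.pt.hom := isAffineHom_of_isAffine _
    haveI : IsAffineHom (pullback.snd c.pt.hom g) := MorphismProperty.pullback_snd _ _ ‹_›
    haveI : IsAffineHom (pullback.snd c.pt.hom (k ≫ g)) := MorphismProperty.pullback_snd _ _ ‹_›
    haveI : IsAffine (pullback c.pt.hom g) := isAffine_of_isAffineHom (pullback.snd c.pt.hom g)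
    haveI : IsAffine (pullback c.pt.hom (k ≫ g)) := isAffine_of_isAffineHom (pullback.snd c.pt.hom (k ≫ g))
    infer_instance
  have hzq : z' ∈ closure (Set.range q) := by
    rw [mem_closure_iff]
    intro O hO hzO
    obtain ⟨_, ⟨i, A, hA, rfl⟩, hzA, hAO⟩ := TopologicalSpace.Opens.isBasis_iff_nbhd.1
      (isBasis_preimage_isAffineOpen (D ⋙ Over.pullback g ⋙ Over.forget _) _ hP) (U := ⟨O, hO⟩) hzO
    by_contra hne
    let qi : pullback (D.obj i).hom (k ≫ g) ⟶ pullback (D.obj i).hom g :=
      pullback.map _ _ _ _ (𝟙 _) k (𝟙 _) (by simp) (by simp)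
    haveI : IsAffine (pullback (D.obj i).hom g) := hPaff i
    haveI : IsAffine (pullback (D.obj i).hom (k ≫ g)) := hQaff i
    have hbot : ((Over.pullback (k ≫ g) ⋙ Over.forget _).mapCone c).π.app i ⁻¹ᵁ (qi ⁻¹ᵁ A) =
        ((Over.pullback (k ≫ g) ⋙ Over.forget _).mapCone c).π.app i ⁻¹ᵁ ⊥ := by
      rw [Scheme.Hom.preimage_bot, eq_bot_iff]
      intro t ht
      refine hne ⟨q t, hAO ?_, t, rfl⟩
      have e : q ≫ π₀ i = ((Over.pullback (k ≫ g) ⋙ Over.forget _).mapCone c).π.app i ≫ qi := by
        apply pullback.hom_ext <;> simp [q, π₀, qi]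
      show π₀ i (q t) ∈ A
      rw [← Scheme.Hom.comp_apply, e]
      exact ht
    obtain ⟨j, a, hj⟩ := exists_map_preimage_eq_map_preimage (D ⋙ Over.pullback (k ≫ g) ⋙ Over.forget _) _ hQ
      (i := i) (U := qi ⁻¹ᵁ A) (V := ⊥) (hA.preimage qi).isCompact (by simp) hbot
    let m : pullback (D.obj j).hom g ⟶ pullback (D.obj i).hom g := (D ⋙ Over.pullback g ⋙ Over.forget _).map a
    have hzj : π₀ j z' ∈ m ⁻¹ᵁ A := by
      show m (π₀ j z') ∈ A
      rw [← Scheme.Hom.comp_apply]
      exact (congrArg (fun (r : pullback c.pt.hom g ⟶ pullback (D.obj i).hom g) => r z' ∈ A)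
        (((Over.pullback g ⋙ Over.forget _).mapCone c).w a)).mpr hzA
    obtain ⟨y, hyA, hyη⟩ := mem_closure_iff.1 (hz j).2 _ (m ⁻¹ᵁ A).2 hzj
    obtain ⟨t⟩ : Nonempty ↑(Spec (CommRingCat.of (FractionRing V))) := inferInstance
    obtain ⟨p, hp, -⟩ := Scheme.Pullback.exists_preimage_pullback (f := pullback.snd (D.obj j).hom g) (g := k)
      y t (by rw [hk]; exact hyη)
    let qj : pullback (D.obj j).hom (k ≫ g) ⟶ pullback (D.obj j).hom g :=
      pullback.map _ _ _ _ (𝟙 _) k (𝟙 _) (by simp) (by simp)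
    let ψ := (pullbackLeftPullbackSndIso (D.obj j).hom g k).hom
    have e1 : ψ ≫ qj = pullback.fst (pullback.snd (D.obj j).hom g) k := by
      apply pullback.hom_ext <;> simp [ψ, qj, pullback.condition]
    let mQ : pullback (D.obj j).hom (k ≫ g) ⟶ pullback (D.obj i).hom (k ≫ g) := (D ⋙ Over.pullback (k ≫ g) ⋙ Over.forget _).map a
    have e2 : mQ ≫ qi = qj ≫ m := by
      apply pullback.hom_ext <;> simp [mQ, qi, qj, m]
    have hmem : ψ p ∈ mQ ⁻¹ᵁ (qi ⁻¹ᵁ A) := by
      show qi (mQ (ψ p)) ∈ A
      rw [← Scheme.Hom.comp_apply, e2, Scheme.Hom.comp_apply, ← Scheme.Hom.comp_apply ψ qj, e1, hp]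
      exact hyA
    have := (SetLike.ext_iff.1 hj (ψ p)).1 hmem
    simp at this
  obtain ⟨r, hr⟩ := H13Desc.exists_specializes_of_mem_closure_range q z' hzq
  have hs : ∀ y : ↑(pullback c.pt.hom g),
      pullback.fst g c.pt.hom ((pullbackSymmetry c.pt.hom g).hom y) = pullback.snd c.pt.hom g y := fun y => by
    rw [← Scheme.Hom.comp_apply, pullbackSymmetry_hom_comp_fst]
  refine ⟨PUnit.unit, (pullbackSymmetry c.pt.hom g).hom (q r), (pullbackSymmetry c.pt.hom g).hom z',
    hr.map (pullbackSymmetry c.pt.hom g).hom.continuous, ?_, ?_⟩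
  · refine (hs (q r)).trans ?_
    rw [← Scheme.Hom.comp_apply, show q ≫ pullback.snd c.pt.hom g = pullback.snd _ _ ≫ k from pullback.lift_snd _ _ _,
      Scheme.Hom.comp_apply, hk]
  · exact (hs z').trans ((hπ i₀ z').symm.trans (hz i₀).1)

end Groth.Agent.S7291
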