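import Groth.Statements.S7292
import Groth.Agent.H18HTop.ValLimit
import Groth.Agent.S17885
import Groth.Agent.S8976
import Groth.Agent.H18HTop.VCoverCrit
import Groth.Agent.H18HTop.StandardPh

set_option autoImplicit false
open CategoryTheory CategoryTheory.Limits AlgebraicGeometry Opposite
universe w u
open HTop

namespace Groth.Agent.S7292

/-- Let f be a morphism of affine schemes from X to Y. The following are equivalent: (1) the one-member
family given by f is a standard V covering; (2) X (with f) is the limit, as a scheme over Y, of a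
cofiltered system of affine schemes X_i over Y such that each one-member family X_i over Y is a ph
covering; (3) the same with each X_i over Y an h covering. -/
theorem result {X Y : Scheme.{u}} [IsAffine X] [IsAffine Y] (f : X ⟶ Y) :
    List.TFAE
      [HTop.IsStandardV (PreZeroHypercover.singleton.{w} f),
       ∃ (I : Type u) (_ : SmallCategory I) (_ : IsCofiltered I) (D : I ⥤ Over Y) (c : Cone D)
          (_ : IsLimit ((Over.forget Y).mapCone c)) (_ : c.pt ≅ Over.mk f),
          (∀ i, IsAffine (D.obj i).left) ∧ ∀ i, HTop.IsPhCover (PreZeroHypercover.singleton.{w} (D.obj i).hom),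
       ∃ (I : Type u) (_ : SmallCategory I) (_ : IsCofiltered I) (D : I ⥤ Over Y) (c : Cone D)
          (_ : IsLimit ((Over.forget Y).mapCone c)) (_ : c.pt ≅ Over.mk f),
          (∀ i, IsAffine (D.obj i).left) ∧ ∀ i, HTop.IsHCover (PreZeroHypercover.singleton.{w} (D.obj i).hom)] := by
  tfae_have 1 → 3 := by
    intro h
    haveI : IsAffineHom f := inferInstance
    obtain ⟨I, _, _, D, c, hc, hD, ⟨e⟩⟩ := (Groth.Agent.S17885.result f).1 inferInstance
    haveI : ∀ i, IsAffine (D.obj i).left := fun i => by
      haveI := (hD i).1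
      exact isAffine_of_isAffineHom (D.obj i).hom
    refine ⟨Iᵒᵖ, inferInstance, inferInstance, D, c, isLimitOfPreserves (Over.forget Y) hc, e,
      inferInstance, fun i => ?_⟩
    refine ⟨fun _ => (hD i).2, Groth.Agent.H18HTop.isVCover_singleton_of_hasValLift _ ?_⟩
    refine Groth.Agent.H18HTop.ValLimit.hasValLift_map (Iso.refl Y) _ _ (fun _ => PUnit.unit)
      (fun _ => (e.inv ≫ c.π.app i).left) (fun _ => ?_) h.lift
    change (e.inv ≫ c.π.app i).left ≫ (D.obj i).hom = f ≫ 𝟙 Y
    rw [Over.w (e.inv ≫ c.π.app i), Category.comp_id]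
    rfl
  tfae_have 3 → 2 := by
    rintro ⟨I, i1, i2, D, c, hc, e, hA, hD⟩
    refine ⟨I, i1, i2, D, c, hc, e, hA, fun i => ?_⟩
    exact (Groth.Agent.S8976.result _ (hD i).1).2 (hD i).2
  tfae_have 2 → 1 := by
    rintro ⟨I, i1, i2, D, c, hc, e, hA, hD⟩
    refine ⟨inferInstance, inferInstanceAs (Finite PUnit), fun _ => inferInstanceAs (IsAffine X), ?_⟩
    haveI : Nonempty I := IsCofiltered.nonempty
    obtain ⟨i₀⟩ := ‹Nonempty I›
    let F := D ⋙ Over.forget Y
    haveI : ∀ i, IsAffine (F.obj i) := hA
    haveI : ∀ {i j} (a : i ⟶ j), IsAffineHom (F.map a) := fun a => inferInstance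
    obtain ⟨hcol⟩ := AlgebraicGeometry.nonempty_isColimit_Γ_mapCocone F _ hc
    haveI : IsIso e.hom.left := inferInstanceAs (IsIso ((Over.forget Y).map e.hom))
    haveI : IsIso e.inv.left := inferInstanceAs (IsIso ((Over.forget Y).map e.inv))
    haveI : IsAffine (Over.mk f).left := ‹IsAffine X›
    haveI : IsAffine c.pt.left := IsAffine.of_isIso e.hom.left
    let σ : ∀ j : Iᵒᵖ, Γ(Y, ⊤) ⟶ (F.op ⋙ Scheme.Γ).obj j := fun j => (D.obj j.unop).hom.appTop
    have hft : ∀ j, (σ j).hom.FiniteType := fun j => by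
      haveI : LocallyOfFiniteType (D.obj j.unop).hom := (hD j.unop).1 PUnit.unit
      haveI := hA j.unop
      exact (HasRingHomProperty.iff_of_isAffine (P := @LocallyOfFiniteType)).1 inferInstance
    have hv : ∀ i, HTop.HasValLift (PreZeroHypercover.singleton.{w} (D.obj i).hom) := fun i => by
      refine Groth.Agent.H18HTop.hasValLift_of_isVCover fun U => ?_
      obtain ⟨G, hG, hR⟩ := (hD i).2 U
      exact ⟨G, Groth.Agent.H18HTop.isStandardV_of_isStandardPh hG, hR⟩
    have key := Groth.Agent.H18HTop.ValLimit.hasValLift_colimit (F.op ⋙ Scheme.Γ) _ hcol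
      (Opposite.op i₀) σ c.pt.hom.appTop (fun j a => by
        change (D.obj i₀).hom.appTop ≫ (D.map a.unop).left.appTop = (D.obj j.unop).hom.appTop
        rw [← Scheme.Hom.comp_appTop, Over.w (D.map a.unop)])
      (by
        change (D.obj i₀).hom.appTop ≫ (c.π.app i₀).left.appTop = c.pt.hom.appTop
        rw [← Scheme.Hom.comp_appTop, Over.w (c.π.app i₀)]
        rfl) hft (fun j => by
        haveI : IsAffine (D.obj j.unop).left := hA j.unop
        have hh := Groth.Agent.H18HTop.ValLimit.hasValLift_toSpec (D.obj j.unop).hom (hv j.unop)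
        exact hh)
    refine Groth.Agent.H18HTop.ValLimit.hasValLift_map (Iso.refl Y) _ _ (fun _ => PUnit.unit)
      (fun _ => e.hom.left) (fun _ => ?_)
      (Groth.Agent.H18HTop.ValLimit.hasValLift_ofSpec.{_, w} c.pt.hom key)
    change e.hom.left ≫ f = c.pt.hom ≫ 𝟙 Y
    rw [Category.comp_id]
    exact Over.w e.hom
  tfae_finish

end Groth.Agent.S7292
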