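import Groth.Statements.S7293
import Groth.Agent.H18HTop.VSheafOver
import Groth.Agent.S7292

set_option autoImplicit false
open CategoryTheory CategoryTheory.Limits AlgebraicGeometry Opposite
universe w u
open HTop

namespace Groth.Agent.S7293

/-- Composition of maps of fibre squares. -/
theorem pbmap_comp {X Y Z T : Scheme.{u}} {f : X ⟶ T} {g : Y ⟶ T} {h : Z ⟶ T} (a : X ⟶ Y) (b : Y ⟶ Z)
    (c : X ⟶ Z) (hc : a ≫ b = c) (e₁ e₂ : f ≫ 𝟙 T = a ≫ g) (e₃ e₄ : g ≫ 𝟙 T = b ≫ h)
    (e₅ e₆ : f ≫ 𝟙 T = c ≫ h) :
    pullback.map f f g g a a (𝟙 T) e₁ e₂ ≫ pullback.map g g h h b b (𝟙 T) e₃ e₄ =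
      pullback.map f f h h c c (𝟙 T) e₅ e₆ := by
  subst hc
  apply pullback.hom_ext
  · exact (Category.assoc _ _ _).trans ((congrArg (_ ≫ ·) (pullback.lift_fst _ _ _)).trans
      ((Category.assoc _ _ _).symm.trans ((congrArg (· ≫ b) (pullback.lift_fst _ _ _)).trans
        ((Category.assoc _ _ _).trans (pullback.lift_fst _ _ _).symm))))
  · exact (Category.assoc _ _ _).trans ((congrArg (_ ≫ ·) (pullback.lift_snd _ _ _)).trans
      ((Category.assoc _ _ _).symm.trans ((congrArg (· ≫ b) (pullback.lift_snd _ _ _)).trans
        ((Category.assoc _ _ _).trans (pullback.lift_snd _ _ _).symm))))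

/-- Let S be a scheme and F a presheaf of sets on the category of schemes over S. Suppose F has the
sheaf property for every h covering and F is limit preserving: whenever T is the limit of a
cofiltered system of affine schemes T_i over S, the restriction maps exhibit F(T) as the colimit of
the F(T_i). Then F has the sheaf property for every V covering. -/
theorem result (S : Scheme.{u}) (F : (Over S)ᵒᵖ ⥤ Type w)
    (h1 : HTop.IsHSheafOver S F)
    (h2 : ∀ (I : Type u) [SmallCategory I] [IsCofiltered I] (D : I ⥤ Over S),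
      (∀ i, IsAffine (D.obj i).left) → ∀ (c : Cone D), IsLimit ((Over.forget S).mapCone c) →
        Nonempty (IsColimit (F.mapCocone c.op))) :
    HTop.IsVSheafOver S F := by
  refine Groth.Agent.H18HTop.VSheafOver.isVSheafOver_of_singleV (fun U V f hU hV hl => ?_)
    (Groth.Agent.H18HTop.VSheafOver.zariski_of_isHSheafOver h1)
  haveI := hU
  haveI := hV
  have hsv : HTop.IsStandardV (PreZeroHypercover.singleton.{0} f.left) :=
    ⟨hU, inferInstanceAs (Finite PUnit), fun _ => hV, hl⟩
  obtain ⟨I, i1, i2, D, c, hc, e, hA, hD⟩ :=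
    ((Groth.Agent.S7292.result f.left).out 0 2).1 hsv
  let D' : I ⥤ Over S := D ⋙ Over.map U.hom
  let c' : Cone D' := (Over.map U.hom).mapCone c
  have hc' : IsLimit ((Over.forget S).mapCone c') := by
    refine ⟨fun s => hc.lift ⟨s.pt, ⟨fun i => s.π.app i, fun i j a => s.π.naturality a⟩⟩,
      fun s i => hc.fac _ i, fun s m hm => hc.uniq ⟨s.pt, ⟨fun i => s.π.app i, fun i j a => s.π.naturality a⟩⟩ m hm⟩
  obtain ⟨hcol⟩ := h2 I D' hA c' hc'
  -- the projections to `U`
  let p : ∀ i, D'.obj i ⟶ U := fun i => Over.homMk (D.obj i).hom rfl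
  have hp : ∀ {i j} (a : i ⟶ j), D'.map a ≫ p j = p i := fun a =>
    Over.OverMorphism.ext (Over.w (D.map a))
  let q : c'.pt ⟶ V := Over.homMk e.hom.left (by
    change e.hom.left ≫ V.hom = c.pt.hom ≫ U.hom
    rw [← Over.w f, ← Category.assoc]
    exact congrArg (· ≫ U.hom) (Over.w e.hom))
  have hq : ∀ i, c'.π.app i ≫ p i = q ≫ f := fun i =>
    Over.OverMorphism.ext ((Over.w (c.π.app i)).trans (Over.w e.hom).symm)
  haveI : IsIso q.left := inferInstanceAs (IsIso ((Over.forget U.left).map e.hom))
  haveI : IsIso ((Over.forget S).map q) := ‹IsIso q.left›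
  haveI : IsIso q := isIso_of_reflects_iso q (Over.forget S)
  have hqi : Function.Injective (F.map q.op) := fun a b hab => by
    have := congrArg (F.map (inv q).op) hab
    rwa [← types_comp_apply (F.map q.op) (F.map (inv q).op), ← Functor.map_comp, ← op_comp,
      ← types_comp_apply (F.map q.op) (F.map (inv q).op), ← Functor.map_comp, ← op_comp,
      IsIso.inv_hom_id, op_id, F.map_id, types_id_apply, types_id_apply] at this
  have hsh : ∀ i, Presieve.IsSheafFor F (Presieve.singleton (p i)) := fun i => by
    refine h1 _ ?_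
    rw [Presieve.map_singleton]
    have hps : Presieve.singleton (D.obj i).hom ∈ hPrecoverage.coverings U.left := by
      have hh := (presieve₀_mem_hPrecoverage_iff
        (PreZeroHypercover.singleton.{0} (D.obj i).hom)).2 (by
          obtain ⟨hl', hv'⟩ := hD i
          exact ⟨fun _ => hl' PUnit.unit, Groth.Agent.H18HTop.isVCover_singleton_of_hasValLift _
            ((Groth.Agent.H18HTop.hasValLift_singleton_iff _).2
              ((Groth.Agent.H18HTop.hasValLift_singleton_iff _).1
                (Groth.Agent.H18HTop.hasValLift_of_isVCover hv')))⟩)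
      rw [PreZeroHypercover.presieve₀_singleton] at hh
      exact hh
    exact hps
  rw [Presieve.isSheafFor_singleton]
  intro x hx
  haveI : Nonempty I := IsCofiltered.nonempty
  refine existsUnique_of_exists_of_unique ?_ ?_
  · obtain ⟨⟨i⟩, xi, hxi⟩ := Types.jointly_surjective _ hcol (F.map q.op x)
    -- the system of fibre squares
    let P : I ⥤ Over S :=
      { obj := fun j => Over.mk (pullback.fst (D.obj j).hom (D.obj j).hom ≫ (D'.obj j).hom)
        map := fun {j k} a => Over.homMk (pullback.map _ _ _ _ (D.map a).left (D.map a).left (𝟙 _)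
          (by rw [Category.comp_id]; exact (Over.w (D.map a)).symm)
          (by rw [Category.comp_id]; exact (Over.w (D.map a)).symm)) (by
            change _ ≫ pullback.fst _ _ ≫ (D'.obj k).hom = pullback.fst _ _ ≫ (D'.obj j).hom
            rw [pullback.lift_fst_assoc, Category.assoc]
            exact congrArg (pullback.fst _ _ ≫ ·) (Over.w (D'.map a)))
        map_id := fun j => Over.OverMorphism.ext (pullback.hom_ext (by simp) (by simp))
        map_comp := fun {j k l} a b => by
          refine Over.OverMorphism.ext ?_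
          simp only [Over.homMk_left, Over.comp_left]
          refine Eq.symm ?_
          exact pbmap_comp (D.map a).left (D.map b).left (D.map (a ≫ b)).left
            (congrArg CommaMorphism.left (D.map_comp a b)).symm _ _ _ _ _ _ }
    let π₁ : ∀ j, P.obj j ⟶ D'.obj j := fun j => Over.homMk (pullback.fst _ _) rfl
    let π₂ : ∀ j, P.obj j ⟶ D'.obj j := fun j => Over.homMk (pullback.snd _ _) (by
      change pullback.snd _ _ ≫ (D.obj j).hom ≫ U.hom = pullback.fst _ _ ≫ (D.obj j).hom ≫ U.hom
      rw [pullback.condition_assoc])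
    have hP₁ : ∀ {j k} (a : j ⟶ k), P.map a ≫ π₁ k = π₁ j ≫ D'.map a := fun a =>
      Over.OverMorphism.ext (pullback.lift_fst _ _ _)
    have hP₂ : ∀ {j k} (a : j ⟶ k), P.map a ≫ π₂ k = π₂ j ≫ D'.map a := fun a =>
      Over.OverMorphism.ext (pullback.lift_snd _ _ _)
    let cP : Cone P :=
      { pt := Over.mk (pullback.fst c.pt.hom c.pt.hom ≫ c'.pt.hom)
        π :=
          { app := fun j => Over.homMk (pullback.map _ _ _ _ (c.π.app j).left (c.π.app j).left (𝟙 _)
              (by rw [Category.comp_id]; exact (Over.w (c.π.app j)).symm)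
              (by rw [Category.comp_id]; exact (Over.w (c.π.app j)).symm)) (by
                change _ ≫ pullback.fst _ _ ≫ (D'.obj j).hom = pullback.fst _ _ ≫ c'.pt.hom
                rw [pullback.lift_fst_assoc, Category.assoc]
                exact congrArg (pullback.fst _ _ ≫ ·) (Over.w (c'.π.app j)))
            naturality := fun j k a => by
              have h := congrArg CommaMorphism.left (c.w a)
              refine Over.OverMorphism.ext ?_
              refine (Category.id_comp _).trans ?_
              exact (pbmap_comp (c.π.app j).left (D.map a).left (c.π.app k).left h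
                (by rw [Category.comp_id]; exact (Over.w (c.π.app j)).symm)
                (by rw [Category.comp_id]; exact (Over.w (c.π.app j)).symm)
                (by rw [Category.comp_id]; exact (Over.w (D.map a)).symm)
                (by rw [Category.comp_id]; exact (Over.w (D.map a)).symm)
                (by rw [Category.comp_id]; exact (Over.w (c.π.app k)).symm)
                (by rw [Category.comp_id]; exact (Over.w (c.π.app k)).symm)).symm } }
    have hAP : ∀ j, IsAffine (P.obj j).left := fun j => by
      haveI := hA j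
      exact inferInstanceAs (IsAffine (pullback (D.obj j).hom (D.obj j).hom))
    have hcP : IsLimit ((Over.forget S).mapCone cP) := by
      have hw : ∀ (s : Cone (P ⋙ Over.forget S)) {j k : I} (a : j ⟶ k),
          s.π.app j ≫ (P.map a).left = s.π.app k := fun s _ _ a => s.w a
      let s₁ : Cone (P ⋙ Over.forget S) → Cone (D ⋙ Over.forget U.left) := fun s =>
        { pt := s.pt
          π := { app := fun j => s.π.app j ≫ pullback.fst (D.obj j).hom (D.obj j).hom
                 naturality := fun j k a => by
                  change 𝟙 _ ≫ _ = (_ ≫ _) ≫ (D.map a).left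
                  rw [Category.id_comp, ← hw s a]
                  exact (Category.assoc _ _ _).trans ((congrArg (s.π.app j ≫ ·)
                    (pullback.lift_fst _ _ _)).trans (Category.assoc _ _ _).symm) } }
      let s₂ : Cone (P ⋙ Over.forget S) → Cone (D ⋙ Over.forget U.left) := fun s =>
        { pt := s.pt
          π := { app := fun j => s.π.app j ≫ pullback.snd (D.obj j).hom (D.obj j).hom
                 naturality := fun j k a => by
                  change 𝟙 _ ≫ _ = (_ ≫ _) ≫ (D.map a).left
                  rw [Category.id_comp, ← hw s a]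
                  exact (Category.assoc _ _ _).trans ((congrArg (s.π.app j ≫ ·)
                    (pullback.lift_snd _ _ _)).trans (Category.assoc _ _ _).symm) } }
      have hlift : ∀ s, hc.lift (s₁ s) ≫ c.pt.hom = hc.lift (s₂ s) ≫ c.pt.hom := fun s => by
        obtain ⟨j⟩ := ‹Nonempty I›
        have hwj : (c.π.app j).left ≫ (D.obj j).hom = c.pt.hom := Over.w (c.π.app j)
        refine (congrArg (hc.lift (s₁ s) ≫ ·) hwj).symm.trans (Eq.trans ?_
          (congrArg (hc.lift (s₂ s) ≫ ·) hwj))
        refine (Category.assoc _ _ _).symm.trans ?_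
        refine Eq.trans ?_ (Category.assoc _ _ _)
        rw [show hc.lift (s₁ s) ≫ (c.π.app j).left = _ from hc.fac (s₁ s) j,
          show hc.lift (s₂ s) ≫ (c.π.app j).left = _ from hc.fac (s₂ s) j]
        exact ((Category.assoc _ _ _).trans (congrArg (s.π.app j ≫ ·) pullback.condition)).trans
          (Category.assoc _ _ _).symm
      refine ⟨fun s => pullback.lift _ _ (hlift s), fun s j => ?_, fun s m hm => ?_⟩
      · refine pullback.hom_ext ?_ ?_
        · exact (Category.assoc _ _ _).trans ((congrArg (_ ≫ ·) (pullback.lift_fst _ _ _)).trans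
            ((Category.assoc _ _ _).symm.trans ((congrArg (· ≫ _) (pullback.lift_fst _ _ _)).trans
              (hc.fac (s₁ s) j))))
        · exact (Category.assoc _ _ _).trans ((congrArg (_ ≫ ·) (pullback.lift_snd _ _ _)).trans
            ((Category.assoc _ _ _).symm.trans ((congrArg (· ≫ _) (pullback.lift_snd _ _ _)).trans
              (hc.fac (s₂ s) j))))
      · refine pullback.hom_ext ?_ ?_
        · rw [pullback.lift_fst]
          refine hc.uniq (s₁ s) _ fun j => ?_
          change (m ≫ pullback.fst _ _) ≫ (c.π.app j).left = s.π.app j ≫ pullback.fst _ _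
          rw [← hm j]
          exact (Category.assoc _ _ _).trans ((congrArg (m ≫ ·) (pullback.lift_fst _ _ _).symm).trans
            (Category.assoc _ _ _).symm)
        · rw [pullback.lift_snd]
          refine hc.uniq (s₂ s) _ fun j => ?_
          change (m ≫ pullback.snd _ _) ≫ (c.π.app j).left = s.π.app j ≫ pullback.snd _ _
          rw [← hm j]
          exact (Category.assoc _ _ _).trans ((congrArg (m ≫ ·) (pullback.lift_snd _ _ _).symm).trans
            (Category.assoc _ _ _).symm)
    obtain ⟨hcolP⟩ := h2 I P hAP cP hcP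
    let ρ₁ : cP.pt ⟶ c'.pt := Over.homMk (pullback.fst _ _) rfl
    let ρ₂ : cP.pt ⟶ c'.pt := Over.homMk (pullback.snd _ _) (by
      change pullback.snd _ _ ≫ c.pt.hom ≫ U.hom = pullback.fst _ _ ≫ c.pt.hom ≫ U.hom
      rw [pullback.condition_assoc])
    have hρ₁ : ∀ j, cP.π.app j ≫ π₁ j = ρ₁ ≫ c'.π.app j := fun j =>
      Over.OverMorphism.ext (pullback.lift_fst _ _ _)
    have hρ₂ : ∀ j, cP.π.app j ≫ π₂ j = ρ₂ ≫ c'.π.app j := fun j =>
      Over.OverMorphism.ext (pullback.lift_snd _ _ _)
    have hρ : (ρ₁ ≫ q) ≫ f = (ρ₂ ≫ q) ≫ f := by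
      refine Over.OverMorphism.ext ?_
      change (pullback.fst _ _ ≫ e.hom.left) ≫ f.left = (pullback.snd _ _ ≫ e.hom.left) ≫ f.left
      rw [Category.assoc, Category.assoc]
      erw [Over.w e.hom, pullback.condition]
    have hxi' : F.map (c'.π.app i).op xi = F.map q.op x := hxi
    have hkey : F.map (cP.π.app i).op (F.map (π₁ i).op xi) = F.map (cP.π.app i).op (F.map (π₂ i).op xi) := by
      have h := hx (ρ₁ ≫ q) (ρ₂ ≫ q) hρ
      simp only [op_comp, Functor.map_comp, types_comp_apply, ← hxi'] at h
      simp only [← types_comp_apply (F.map (π₁ i).op), ← types_comp_apply (F.map (π₂ i).op),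
        ← Functor.map_comp, ← op_comp, hρ₁, hρ₂]
      simp only [op_comp, Functor.map_comp, types_comp_apply]
      exact h
    obtain ⟨k, a, b, hab⟩ := (Types.FilteredColimit.isColimit_eq_iff _ hcolP).1 hkey
    obtain ⟨k', t, ht⟩ : ∃ (k' : Iᵒᵖ) (t : k ⟶ k'), a ≫ t = b ≫ t :=
      IsFilteredOrEmpty.cocone_maps a b
    let j := k'.unop
    let v : j ⟶ i := (a ≫ t).unop
    let xj : F.obj (op (D'.obj j)) := F.map (D'.map v).op xi
    have hxj : F.map (π₁ j).op xj = F.map (π₂ j).op xj := by
      have h := congrArg (F.map (P.map t.unop).op) hab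
      change F.map (P.map t.unop).op (F.map (P.map a.unop).op (F.map (π₁ i).op xi)) =
        F.map (P.map t.unop).op (F.map (P.map b.unop).op (F.map (π₂ i).op xi)) at h
      simp only [← types_comp_apply (F.map _), ← Functor.map_comp, ← op_comp, ← Category.assoc] at h
      rw [← unop_comp, ← unop_comp, ← ht, hP₁, hP₂] at h
      simp only [op_comp, Functor.map_comp, types_comp_apply] at h
      exact h
    obtain ⟨y, hy, -⟩ := (Presieve.isSheafFor_singleton.1 (hsh j)) xj (fun {Z} g₁ g₂ hg => by
      let w : Z ⟶ P.obj j := Over.homMk (pullback.lift g₁.left g₂.left (congrArg CommaMorphism.left hg)) (by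
        change pullback.lift _ _ _ ≫ pullback.fst _ _ ≫ (D'.obj j).hom = Z.hom
        rw [pullback.lift_fst_assoc, Over.w g₁])
      have h1' : w ≫ π₁ j = g₁ := Over.OverMorphism.ext (pullback.lift_fst _ _ _)
      have h2' : w ≫ π₂ j = g₂ := Over.OverMorphism.ext (pullback.lift_snd _ _ _)
      rw [← h1', ← h2', op_comp, op_comp, Functor.map_comp, Functor.map_comp, types_comp_apply,
        types_comp_apply, hxj])
    refine ⟨y, hqi ?_⟩
    rw [← hxi', ← types_comp_apply (F.map f.op) (F.map q.op), ← Functor.map_comp, ← op_comp, ← hq j,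
      op_comp, Functor.map_comp, types_comp_apply, hy]
    change F.map (c'.π.app j).op (F.map (D'.map v).op xi) = _
    rw [← types_comp_apply (F.map (D'.map v).op) (F.map (c'.π.app j).op), ← Functor.map_comp,
      ← op_comp, c'.w v]
  · intro y₁ y₂ h₁ h₂
    obtain ⟨i₀⟩ := ‹Nonempty I›
    have h : F.map (c'.π.app i₀).op (F.map (p i₀).op y₁) = F.map (c'.π.app i₀).op (F.map (p i₀).op y₂) := by
      simp only [← types_comp_apply (F.map (p i₀).op), ← Functor.map_comp, ← op_comp, hq]
      simp only [op_comp, Functor.map_comp, types_comp_apply, h₁, h₂]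
    obtain ⟨k, a, b, hab⟩ := (Types.FilteredColimit.isColimit_eq_iff _ hcol).1 h
    change F.map (D'.map a.unop).op (F.map (p i₀).op y₁) = F.map (D'.map b.unop).op (F.map (p i₀).op y₂) at hab
    simp only [← types_comp_apply (F.map (p i₀).op), ← Functor.map_comp, ← op_comp, hp] at hab
    exact (hsh k.unop).isSeparatedFor.ext (fun _ _ hh => by obtain ⟨⟩ := hh; exact hab)

end Groth.Agent.S7293
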