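import Groth.Statements.S7297
import Groth.Agent.H7Flat.CohDim.Fibre
import Groth.Agent.H05EGA4.BirationalSurface

set_option autoImplicit false
set_option backward.isDefEq.respectTransparency.types false
universe u
open CategoryTheory CategoryTheory.Limits AlgebraicGeometry
open Resolve

namespace Groth.Agent.S7297

/-- Let A be a local normal Nagata domain of dimension two defining a rational singularity, and f : X →
Spec A a proper morphism from an integral normal scheme which is an isomorphism over some nonempty
open of Spec A. Then H^p(X, F) = 0 for every quasi-coherent O_X-module F and every p ≥ 2. -/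
theorem result (A : Type u) [CommRing A] [IsDomain A] [IsLocalRing A] [IsNoetherianRing A]
    [IsIntegrallyClosed A] (hN : CAlg.IsNagata A) (hdim : ringKrullDim A = 2) (hA : Curv2.IsRationalSing A)
    (X : Scheme.{u}) (f : X ⟶ Spec (CommRingCat.of A)) [IsProper f] [IsIntegral X] (hXn : Pi1.IsNormalScheme X)
    (hbir : ∃ U : (Spec (CommRingCat.of A)).Opens, (U : Set (Spec (CommRingCat.of A))).Nonempty ∧ IsIso (f ∣_ U))
    (F : X.Modules) (hF : Coh.IsQCoh F) (p : ℕ) (hp : 2 ≤ p) : Subsingleton (Coh.HH X F p) := by
  haveI : Coh.IsQCoh F := hF
  exact Groth.Agent.H7Flat.CohDim.subsingleton_HH f 1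
    (fun y => Groth.Agent.H05EGA4.BirationalSurface.fiber_dim_le_one hdim.le f hbir y) F p (by omega)

end Groth.Agent.S7297
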