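import Groth.Statements.S7305
import Groth.Agent.H28Cpl.BcCpl

set_option autoImplicit false
universe u
open CategoryTheory CategoryTheory.Limits AlgebraicGeometry
open Resolve

namespace Groth.Agent.S7305

/-- Let (A, m) be a local ring with m finitely generated, f : X → Spec A a scheme over A, and Y = X
×_{Spec A} Spec(A^) the base change to the m-adic completion. Take a point q of Y whose image p in X
maps to the closed point of Spec A. Then the map of local rings O_{X,p} → O_{Y,q} becomes an
isomorphism after completing both sides: for every n ≥ 1 the induced map O_{X,p}/m_p^n →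
O_{Y,q}/m_q^n is bijective. -/
theorem result (A : Type u) [CommRing A] [IsLocalRing A]
    (hm : (IsLocalRing.maximalIdeal A).FG) (X : Scheme.{u}) (f : X ⟶ Spec (CommRingCat.of A))
    (q : ↥(Curv2.bcCpl A f)) (hq : f.base ((Curv2.bcCplFst A f).base q) = IsLocalRing.closedPoint A) (n : ℕ) (hn : 1 ≤ n)
    (h : IsLocalRing.maximalIdeal (X.presheaf.stalk ((Curv2.bcCplFst A f).base q)) ^ n ≤
      (IsLocalRing.maximalIdeal ((Curv2.bcCpl A f).presheaf.stalk q) ^ n).comap ((Curv2.bcCplFst A f).stalkMap q).hom) :
    Function.Bijective (Ideal.quotientMap (IsLocalRing.maximalIdeal ((Curv2.bcCpl A f).presheaf.stalk q) ^ n)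
      ((Curv2.bcCplFst A f).stalkMap q).hom h) := by
  exact Groth.Agent.H28Cpl.bijective_quotientMap_of_truncBij (Groth.Agent.H28Cpl.truncBij_stalkMap hm f q hq) n h

end Groth.Agent.S7305
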