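import Groth.Statements.S7319
import Groth.Agent.H28Contr.FiniteColength

set_option autoImplicit false
universe u
open CategoryTheory CategoryTheory.Limits AlgebraicGeometry
open Resolve

namespace Groth.Agent.S7319

/-- Let X be a Noetherian scheme, T ⊂ X a finite set of closed points such that O_{X,x} is regular of
dimension two for x ∈ T, and I a quasi-coherent ideal sheaf with O_X/I supported on T. Then there is
a sequence of blowings up at closed points lying over T after which I becomes invertible: a morphism
g : X' → X which is a finite composite of blowings up at closed points with regular two-dimensional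
local rings, is an isomorphism over the complement of T, and is such that the inverse image ideal
sheaf I O_{X'} is the ideal of an effective Cartier divisor. (The composite is expressed as a finite
composite of contractions of exceptional curves of the first kind.) -/
theorem result (X : Scheme.{u}) [IsNoetherian X] (T : Set X) (hTf : T.Finite)
    (hTc : IsClosed T) (hT : ∀ x ∈ T, IsClosed ({x} : Set X) ∧ IsRegularLocalRing (X.presheaf.stalk x) ∧ ringKrullDim (X.presheaf.stalk x) = 2)
    (I : X.IdealSheafData) (hI : (I.support : Set X) ⊆ T) :
    ∃ (X' : Scheme.{u}) (g : X' ⟶ X), Models.IsContractionSeq g ∧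
      IsIso (g ∣_ (⟨Tᶜ, hTc.isOpen_compl⟩ : X.Opens)) ∧ BlowUp.IsEffCartierIdeal (I.comap g) := by
  have hprin : ∀ x, x ∉ T → H28Contr.IsPrin _ (IntMult.stalkIdeal I x) := fun x hx =>
    ⟨1, one_mem _, by
      rw [Ideal.span_singleton_one]
      exact (H29Ref.stalkIdeal_eq_top_iff I x).2 fun h => hx (hI h)⟩
  obtain ⟨X', g, hg, hiso, hK⟩ := H28Contr.exists_principalisation (𝟙 X) (Models.IsContractionSeq.iso (Iso.refl X)) I T hTf
    (fun x hx => ⟨(hT x hx).1, (hT x hx).2.1, (hT x hx).2.2,
      H28Contr.exists_colBound_of_support I fun x' hx' hsp => ((hsp.mem_closed (hT x' (hI hx')).1 rfl) : x ∈ ({x'} : Set X)).symm⟩) hprin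
  rw [Category.comp_id] at hg
  exact ⟨X', g, hg, hiso _ (disjoint_compl_left), hK⟩

end Groth.Agent.S7319
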