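import Groth.Statements.S7320
import Groth.Agent.H28Contr.Dominate

set_option autoImplicit false
universe u
open CategoryTheory CategoryTheory.Limits AlgebraicGeometry
open Resolve

namespace Groth.Agent.S7320

/-- Let X be a Noetherian scheme, T ⊂ X a finite set of closed points x with O_{X,x} regular of
dimension two, and f : Y → X a proper morphism which is an isomorphism over U = X ∖ T. Then there
exist a morphism g : X' → X which is a finite composite of blowings up at closed points with regular
two-dimensional local rings (contractions of exceptional curves of the first kind) and an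
isomorphism over U, and a factorization of g through f. -/
theorem result (X : Scheme.{u}) [IsNoetherian X] (T : Set X) (hTf : T.Finite)
    (hTc : IsClosed T) (hT : ∀ x ∈ T, IsClosed ({x} : Set X) ∧ IsRegularLocalRing (X.presheaf.stalk x) ∧ ringKrullDim (X.presheaf.stalk x) = 2)
    {Y : Scheme.{u}} (f : Y ⟶ X) [IsProper f] (hf : IsIso (f ∣_ (⟨Tᶜ, hTc.isOpen_compl⟩ : X.Opens))) :
    ∃ (X' : Scheme.{u}) (g : X' ⟶ X), Models.IsContractionSeq g ∧
      IsIso (g ∣_ (⟨Tᶜ, hTc.isOpen_compl⟩ : X.Opens)) ∧ ∃ h : X' ⟶ Y, h ≫ f = g := by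
  set U : X.Opens := ⟨Tᶜ, hTc.isOpen_compl⟩
  haveI := hf
  have hinv : H28Contr.Inv U (𝟙 X) := by
    refine ⟨fun z hz => (hT z (not_not.1 hz)).2.1, fun z hz => (hT z (not_not.1 hz)).2.2.le, fun z hz P hP => ?_⟩
    obtain ⟨hzc, hzr, hzd⟩ := hT z (not_not.1 hz)
    haveI := H4Depth.isDomain_of_isRegularLocalRing (X.presheaf.stalk z)
    show X.fromSpecStalk z P ∈ Tᶜ
    intro hmem
    have hsp : X.fromSpecStalk z P ⤳ z := by
      have : X.fromSpecStalk z P ∈ Set.range (X.fromSpecStalk z) := Set.mem_range_self P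
      rwa [Scheme.range_fromSpecStalk] at this
    have he : z = X.fromSpecStalk z P := hsp.mem_closed (hT _ hmem).1 rfl
    have hPc : P = IsLocalRing.closedPoint (X.presheaf.stalk z) :=
      (X.fromSpecStalk z).isEmbedding.injective (he.symm.trans (Scheme.fromSpecStalk_closedPoint).symm)
    have hf : IsField (X.presheaf.stalk z) := by
      rw [IsLocalRing.isField_iff_maximalIdeal_eq, ← hP, hPc]
      rfl
    rw [ringKrullDim_eq_zero_of_isField hf] at hzd
    exact absurd hzd (by decide)
  obtain ⟨X', g, hg, hiso, h, hh, -⟩ := H28Contr.exists_dominate f U (inv (f ∣_ U) ≫ (f ⁻¹ᵁ U).ι)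
    (by rw [Category.assoc, ← morphismRestrict_ι, IsIso.inv_hom_id_assoc]) hinv
  exact ⟨X', g, hg, hiso, h, hh⟩

end Groth.Agent.S7320
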