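import Groth.Statements.S7321
-- import your own Groth.Agent.* helpers here
import Groth.Agent.H05EGA4.CurveNorm
import Groth.Agent.S7684
import Groth.Agent.S2351

set_option autoImplicit false
universe u
open CategoryTheory CategoryTheory.Limits AlgebraicGeometry
open Resolve

namespace Groth.Agent.S7321

/-- Let Y be an integral Noetherian scheme of dimension one. Then (1) there is an alteration X → Y with
X regular, if and only if (2) Y has a resolution of singularities, i.e. a proper morphism X → Y from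
an integral regular scheme which is an isomorphism over a nonempty open of Y; and (2) holds if and
only if (4) the normalization morphism of Y is finite. (A further equivalent condition, a finite
sequence of blowings up in closed points ending in a regular scheme, is stated separately. The
quasi-compactness and quasi-separatedness binders on Spec K(Y) → Y always hold; they are needed only
to form the normalization.) -/
theorem result (Y : Scheme.{u}) [IsIntegral Y] [IsNoetherian Y]
    (hdim : topologicalKrullDim Y = 1)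
    [QuasiCompact (Y.fromSpecStalk (genericPoint Y))] [QuasiSeparated (Y.fromSpecStalk (genericPoint Y))] :
    ((∃ (X : Scheme.{u}) (g : X ⟶ Y), Curv2.IsAlteration g ∧ ∀ x : X, IsRegularLocalRing (X.presheaf.stalk x)) ↔
      (∃ (X : Scheme.{u}) (g : X ⟶ Y), IsProper g ∧ IsIntegral X ∧
        (∃ V : Y.Opens, (V : Set Y).Nonempty ∧ IsIso (g ∣_ V)) ∧ ∀ x : X, IsRegularLocalRing (X.presheaf.stalk x))) ∧
    ((∃ (X : Scheme.{u}) (g : X ⟶ Y), IsProper g ∧ IsIntegral X ∧
        (∃ V : Y.Opens, (V : Set Y).Nonempty ∧ IsIso (g ∣_ V)) ∧ ∀ x : X, IsRegularLocalRing (X.presheaf.stalk x)) ↔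
      IsFinite (Curv2.normalizationι Y)) := by
  have h21 : (∃ (X : Scheme.{u}) (g : X ⟶ Y), IsProper g ∧ IsIntegral X ∧
        (∃ V : Y.Opens, (V : Set Y).Nonempty ∧ IsIso (g ∣_ V)) ∧ ∀ x : X, IsRegularLocalRing (X.presheaf.stalk x)) →
      ∃ (X : Scheme.{u}) (g : X ⟶ Y), Curv2.IsAlteration g ∧ ∀ x : X, IsRegularLocalRing (X.presheaf.stalk x) := by
    rintro ⟨X, g, hp, hX, ⟨V, hV, hi⟩, hreg⟩
    haveI := hi
    refine ⟨X, g, ⟨hp, hX, inferInstance, ⟨(V.2.dense hV).mono fun y hy => ?_⟩, V, hV, inferInstance⟩, hreg⟩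
    exact ⟨_, (congr($(morphismRestrict_ι g V) (inv (g ∣_ V) ⟨y, hy⟩))).symm.trans
      (congrArg V.ι (congr($(IsIso.inv_hom_id (g ∣_ V)) ⟨y, hy⟩)))⟩
  have h14 : (∃ (X : Scheme.{u}) (g : X ⟶ Y), Curv2.IsAlteration g ∧ ∀ x : X, IsRegularLocalRing (X.presheaf.stalk x)) →
      IsFinite (Curv2.normalizationι Y) := fun ⟨_, g, hg, hreg⟩ =>
      Groth.Agent.H05EGA4.CurveNorm.isFinite_normalizationι Y hdim.le g hg hreg
  have h42 : IsFinite (Curv2.normalizationι Y) → ∃ (X : Scheme.{u}) (g : X ⟶ Y), IsProper g ∧ IsIntegral X ∧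
      (∃ V : Y.Opens, (V : Set Y).Nonempty ∧ IsIso (g ∣_ V)) ∧ ∀ x : X, IsRegularLocalRing (X.presheaf.stalk x) := by
    intro hfin
    haveI := hfin
    obtain ⟨_, -, -, -⟩ := Groth.Agent.S2351.result Y
    obtain ⟨V, hV, hi⟩ := Groth.Agent.H05EGA4.CurveNorm.exists_isIso_open Y hfin
    obtain ⟨-, -, -, hded⟩ := Groth.Agent.S7684.result Y hdim
    refine ⟨_, Curv2.normalizationι Y, inferInstance, inferInstance, ⟨V, hV.nonempty, hi⟩, fun x => ?_⟩
    obtain ⟨W, hW, hxW, -⟩ := exists_isAffineOpen_mem_and_subset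
      (show x ∈ (⊤ : (Curv2.normalization Y).Opens) from trivial)
    haveI : IsDedekindDomain Γ(Curv2.normalization Y, W) := hded ⟨W, hW⟩ ⟨x, hxW⟩
    letI := TopCat.Presheaf.algebra_section_stalk (Curv2.normalization Y).presheaf ⟨x, hxW⟩
    haveI := hW.isLocalization_stalk ⟨x, hxW⟩
    haveI : IsPrincipalIdealRing ((Curv2.normalization Y).presheaf.stalk x) := by
      by_cases hp : (hW.primeIdealOf ⟨x, hxW⟩).asIdeal = ⊥
      · have hF : IsField ((Curv2.normalization Y).presheaf.stalk x) := by
          haveI : IsLocalization (hW.primeIdealOf ⟨x, hxW⟩).asIdeal.primeCompl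
            ((Curv2.normalization Y).presheaf.stalk x) := inferInstance
          rw [IsLocalRing.isField_iff_maximalIdeal_eq, ← IsLocalization.AtPrime.map_eq_maximalIdeal
            (hW.primeIdealOf ⟨x, hxW⟩).asIdeal ((Curv2.normalization Y).presheaf.stalk x), hp, Ideal.map_bot]
        letI := hF.toField
        infer_instance
      · haveI := IsLocalization.AtPrime.isDiscreteValuationRing_of_dedekind_domain Γ(Curv2.normalization Y, W) hp
          ((Curv2.normalization Y).presheaf.stalk x)
        infer_instance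
    infer_instance
  exact ⟨⟨fun h => h42 (h14 h), h21⟩, ⟨fun h => h14 (h21 h), h42⟩⟩

end Groth.Agent.S7321
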