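import Groth.Statements.S7322
import Groth.Agent.H28Contr.FiniteColength
import Groth.Agent.H05EGA4.DimFibre

set_option autoImplicit false
universe u
open CategoryTheory CategoryTheory.Limits AlgebraicGeometry
open Resolve

namespace Groth.Agent.S7322

/-- Let X be an integral Noetherian scheme which is regular of dimension two and Z ⊂ X a closed
subscheme, with ideal sheaf I, different from X. Then there is a sequence of blowings up in closed
points g : X' → X (a finite composite of blowings up at closed points with regular two-dimensional
local rings, i.e. of contractions of exceptional curves of the first kind) such that the inverse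
image of Z in X' is an effective Cartier divisor. (The published statement takes X any regular
scheme of dimension two; for X the disjoint union of a regular surface and a regular curve C and Z =
C no blowing up in closed points makes the inverse image of Z Cartier, so X is taken integral here,
as the proof's largest-Cartier-divisor step requires.) -/
theorem result (X : Scheme.{u}) [IsIntegral X] [IsNoetherian X]
    (hreg : ∀ x : X, IsRegularLocalRing (X.presheaf.stalk x)) (hdim : topologicalKrullDim X = 2)
    (I : X.IdealSheafData) (hI : I ≠ ⊥) :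
    ∃ (X' : Scheme.{u}) (g : X' ⟶ X), Models.IsContractionSeq g ∧ BlowUp.IsEffCartierIdeal (I.comap g) := by
  let S : Set X := {x | ¬ H28Contr.IsPrin _ (IntMult.stalkIdeal I x)}
  have hScl : IsClosed S := (H28Contr.isOpen_isPrin I).isClosed_compl
  have hco : ∀ x : X, Order.coheight x ≤ 2 := fun x => by
    have h1 : ringKrullDim (X.presheaf.stalk x) ≤ 2 := by
      rw [← hdim]; exact H05EGA4.DimFibre.stalkDim_le_top x
    rw [ringKrullDim_stalk_eq_coheight] at h1
    exact WithBot.coe_le_coe.1 h1
  have hpt : ∀ x ∈ S, IsClosed ({x} : Set X) ∧ ringKrullDim (X.presheaf.stalk x) = 2 := by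
    intro x hx
    haveI := hreg x
    haveI : IsDomain (X.presheaf.stalk x) := H4Depth.isDomain_of_isRegularLocalRing _
    have h2 : ¬ Order.coheight x ≤ 1 := fun h => hx (by
      haveI : Ring.KrullDimLE 1 (X.presheaf.stalk x) := krullDimLE_of_coheight_le h
      haveI : IsPrincipalIdealRing (X.presheaf.stalk x) := H28Contr.isPrincipalIdealRing_of_dim_le_one _
      obtain ⟨c, hc⟩ := (IsPrincipalIdealRing.principal (IntMult.stalkIdeal I x)).1
      exact ⟨c, mem_nonZeroDivisors_of_ne_zero fun h0 => H28Contr.stalkIdeal_ne_bot I hI x (by
        rw [hc, h0]; exact Ideal.span_singleton_eq_bot.2 rfl), hc⟩)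
    have h3 : Order.coheight x = 2 := le_antisymm (hco x) (by
      exact (show (2 : ℕ∞) = 1 + 1 from rfl).le.trans (Order.add_one_le_of_lt (not_le.1 h2)))
    refine ⟨?_, by rw [ringKrullDim_stalk_eq_coheight, h3]; rfl⟩
    rw [← closure_subset_iff_isClosed]
    intro z hz
    by_contra hne
    have hsp : x ⤳ z := specializes_iff_mem_closure.2 hz
    have hlt : z < x := lt_of_le_not_ge (Scheme.le_iff_specializes.2 hsp) fun h =>
      hne (hsp.antisymm (Scheme.le_iff_specializes.1 h)).eq.symm
    have h4 := Order.coheight_strictAnti hlt (by rw [h3]; exact ENat.coe_lt_top 2)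
    rw [h3] at h4
    exact absurd (hco z) (not_le.2 h4)
  obtain ⟨X', g, hg, -, hK⟩ := H28Contr.exists_principalisation (𝟙 X) (Models.IsContractionSeq.iso (Iso.refl X)) I S
    (H28Contr.finite_of_closed_points hScl fun x hx => (hpt x hx).1)
    (fun x hx => ⟨(hpt x hx).1, hreg x, (hpt x hx).2, by
      haveI := hreg x
      exact H28Contr.exists_colBound_of_regular _ (hpt x hx).2 _ (H28Contr.stalkIdeal_ne_bot I hI x)⟩)
    (fun x hx => not_not.1 hx)
  rw [Category.comp_id] at hg
  exact ⟨X', g, hg, hK⟩

end Groth.Agent.S7322
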