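import Groth.Statements.S7324
import Groth.Agent.H11PicBlow.Main
import Groth.Agent.H13CI.ExcSmooth
import Groth.Agent.H12Pic.OpenLine.Main
import Groth.Agent.H05EGA4.Regular
import Groth.Agent.H28Alg.RegularUFD
import Groth.Agent.S2348

set_option autoImplicit false
set_option linter.style.haveILetI false
universe u
open CategoryTheory CategoryTheory.Limits AlgebraicGeometry
open Resolve

namespace Groth.Agent.S7324

/-- Let (A, m) be a regular local ring of dimension two and b : X → Spec A the blowing up in m, with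
exceptional divisor E, ideal sheaf I = O_X(-E), and M = O_X(E) an inverse of I for the tensor
product. Then Pic(X) = Z generated by O_X(E): every invertible O_X-module is isomorphic to I^{⊗ n}
or to M^{⊗ n} for some n ≥ 0, and I^{⊗ n} is not isomorphic to O_X for n ≥ 1. -/
theorem result (A : Type u) [CommRing A] [IsRegularLocalRing A] (hA : ringKrullDim A = 2)
    (X : Scheme.{u}) (b : X ⟶ Spec (CommRingCat.of A)) (hb : BlowUp.IsBlowUp b (Curv2.idealSheaf A (IsLocalRing.maximalIdeal A)))
    (M : X.Modules) (hM : ClSub.IsInverseOf M (ClSub.idealMod (BlowUp.exceptional b (Curv2.idealSheaf A (IsLocalRing.maximalIdeal A))))) :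
    (∀ L : X.Modules, PicF.IsInvertible L → ∃ n : ℕ,
      Nonempty (L ≅ CohB1.tensorPow (ClSub.idealMod (BlowUp.exceptional b (Curv2.idealSheaf A (IsLocalRing.maximalIdeal A)))) n) ∨
        Nonempty (L ≅ CohB1.tensorPow M n)) ∧
    ∀ n : ℕ, 1 ≤ n →
      IsEmpty (CohB1.tensorPow (ClSub.idealMod (BlowUp.exceptional b (Curv2.idealSheaf A (IsLocalRing.maximalIdeal A)))) n ≅
        Coh.structureModule X) := by
  classical
  let R : CommRingCat.{u} := CommRingCat.of A
  haveI hR : IsRegularRing A := H05EGA4.isRegularRing_of_isRegularLocalRing A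
  haveI : IsDomain A := H4Depth.isDomain_of_isRegularLocalRing A
  haveI : UniqueFactorizationMonoid A := H28Alg.ufd_of_regular A
  haveI : IsNoetherianRing R := inferInstanceAs (IsNoetherianRing A)
  haveI : IsDomain R := inferInstanceAs (IsDomain A)
  haveI : UniqueFactorizationMonoid R := inferInstanceAs (UniqueFactorizationMonoid A)
  haveI : IsNoetherian (Spec R) := { }
  have hreg : ∀ x : Spec R, IsRegularLocalRing ((Spec R).presheaf.stalk x) := fun x =>
    IsRegularLocalRing.of_ringEquiv (R := Localization.AtPrime x.asIdeal)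
      (Spec.stalkIso R x).commRingCatIsoToRingEquiv.symm
  let K := A ⧸ IsLocalRing.maximalIdeal A
  letI : Field K := Ideal.Quotient.field _
  let i : Spec (CommRingCat.of K) ⟶ Spec R :=
    Spec.map (CommRingCat.ofHom (Ideal.Quotient.mk (IsLocalRing.maximalIdeal A)))
  haveI : IsClosedImmersion i := IsClosedImmersion.spec_of_surjective _ Ideal.Quotient.mk_surjective
  have hker : i.ker = Curv2.idealSheaf A (IsLocalRing.maximalIdeal A) :=
    H13CI.ExcSmooth.ker_SpecMap_mk (IsLocalRing.maximalIdeal A)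
  rw [← hker] at hb hM ⊢
  have hKreg : ∀ y : Spec (CommRingCat.of K), IsRegularLocalRing ((Spec (CommRingCat.of K)).presheaf.stalk y) :=
    fun y => IsRegularLocalRing.of_ringEquiv (R := Localization.AtPrime y.asIdeal)
      (Spec.stalkIso (CommRingCat.of K) y).commRingCatIsoToRingEquiv.symm
  have hclosed : ∀ x ∈ Set.range i, x = IsLocalRing.closedPoint A := by
    rintro x ⟨y, rfl⟩
    refine PrimeSpectrum.ext ?_
    show y.asIdeal.comap (Ideal.Quotient.mk (IsLocalRing.maximalIdeal A)) = IsLocalRing.maximalIdeal A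
    rw [(Ideal.eq_bot_or_top y.asIdeal).resolve_right y.2.ne_top]
    exact Ideal.mk_ker
  have hsupp : (i.ker.support : Set (Spec R)) = Set.range i := by
    rw [Scheme.Hom.support_ker, (Scheme.Hom.isClosedEmbedding i).isClosed_range.closure_eq]
  have hdim : ∀ x ∈ Set.range i, (2 : WithBot ℕ∞) ≤ ringKrullDim ((Spec R).presheaf.stalk x) := by
    intro x hx
    obtain rfl := hclosed x hx
    rw [ringKrullDim_eq_of_ringEquiv ((Spec.stalkIso R (IsLocalRing.closedPoint A)).commRingCatIsoToRingEquiv),
      IsLocalization.AtPrime.ringKrullDim_eq_height (IsLocalRing.closedPoint A).asIdeal (Localization.AtPrime (IsLocalRing.closedPoint A).asIdeal),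
      show (IsLocalRing.closedPoint A).asIdeal = IsLocalRing.maximalIdeal A from rfl,
      IsLocalRing.maximalIdeal_height_eq_ringKrullDim, hA]
  have hη : genericPoint (Spec R) ∉ Set.range i := fun h => by
    have h0 := hdim _ h
    rw [ringKrullDim_eq_zero_of_isField H29Ref.isField_generic] at h0
    exact absurd h0 (by decide)
  have hne0 : i.ker ≠ ⊥ := fun h => hη (by
    rw [← hsupp, h, Scheme.IdealSheafData.support_bot]; trivial)
  obtain ⟨hint, hgen, -⟩ := S2348.result i.ker hne0 b hb
  haveI := hint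
  haveI : IsProper b := H26Blow.isProper_of_isBlowUp hb fun x => by
    obtain ⟨U, hU, hxU, -⟩ := exists_isAffineOpen_mem_and_subset (U := ⊤) (x := x) trivial
    haveI : IsNoetherianRing Γ(Spec R, U) := IsLocallyNoetherian.component_noetherian ⟨U, hU⟩
    exact ⟨⟨U, hU⟩, hxU, IsNoetherian.noetherian _⟩
  haveI : IsLocallyNoetherian X := LocallyOfFiniteType.isLocallyNoetherian b
  have hreg' := fun z => H7Blow.isRegular_stalk_blowUp (Spec R) _ X hreg i hKreg b hb z
  have hsurj : Function.Surjective b := fun x =>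
    ((genericPoint_spec (Spec R)).specializes (Set.mem_univ x)).mem_closed b.isClosedMap.isClosed_range ⟨_, hgen⟩
  let U : (Spec R).Opens := ⟨(i.ker.support : Set (Spec R))ᶜ, i.ker.support.isClosed.isOpen_compl⟩
  haveI : IsIso (b ∣_ U) := H29Blow.isIso_morphismRestrict hb U fun x hx => hx
  obtain ⟨hξ, hbir⟩ := H28Vert.birational_of_isIso_restrict b U ⟨genericPoint (Spec R), fun h => hη (hsupp ▸ h)⟩
  have hdom := H28Pinch.bijective_app_of_birational b (H29Ref.isNormalScheme_of_regular hreg) hξ hbir ⊤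
  have hcodim : ∀ x ∈ i.ker.support, (2 : WithBot ℕ∞) ≤ ringKrullDim ((Spec R).presheaf.stalk x) :=
    fun x hx => hdim x (hsupp ▸ hx)
  have hE := H11PicBlow.isIntegral_exceptional i hreg hKreg
    (fun y U' hy hle => hη (hle (((genericPoint_spec (Spec R)).specializes (Set.mem_univ _)).mem_open U'.2 hy)))
    hb hsurj
  obtain ⟨u₁⟩ := H11Ample.nonempty_pullback_structureModule_iso b
  refine ⟨fun L hL => ?_, fun n hn => ⟨fun e => ?_⟩⟩
  · obtain ⟨L₀, hL₀, n, h⟩ := H11PicBlow.exists_decomposition hreg hreg' hb hE hL M hM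
    obtain ⟨t⟩ := H12Pic.OpenLine.nonempty_iso_of_ufd L₀ hL₀
    refine ⟨n, ?_⟩
    rcases h with ⟨⟨e⟩⟩ | ⟨⟨e⟩⟩
    · exact Or.inl ⟨e ≪≫ PicGrp.tensorModIso ((Scheme.Modules.pullback b).mapIso t ≪≫ u₁) (Iso.refl _) ≪≫
        H10Coh.Tw.leftUnitIso _⟩
    · exact Or.inr ⟨e ≪≫ PicGrp.tensorModIso ((Scheme.Modules.pullback b).mapIso t ≪≫ u₁) (Iso.refl _) ≪≫
        H10Coh.Tw.leftUnitIso _⟩
  · obtain ⟨z, hz⟩ := hsurj (i (IsLocalRing.closedPoint K))
    have hne : ((BlowUp.exceptional b i.ker).support : Set X).Nonempty := ⟨z, by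
      show z ∈ (i.ker.comap b).support
      rw [Scheme.IdealSheafData.support_comap]
      show b z ∈ (i.ker.support : Set (Spec R))
      rw [hsupp, hz]
      exact ⟨_, rfl⟩⟩
    have := H11PicBlow.pow_eq_zero hreg hb hcodim hdom hne e
    omega

end Groth.Agent.S7324
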