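import Groth.Statements.S7326
import Groth.Agent.H28Vert.PicVert2

set_option autoImplicit false
universe u
open CategoryTheory CategoryTheory.Limits AlgebraicGeometry
open Models

namespace Groth.Agent.S7326

/-- Let R be a discrete valuation ring with fraction field K, C a smooth proper curve over K with H^0(C,
O_C) = K, X a regular proper model of C, Γ_1, …, Γ_n the irreducible components of the closed fibre
with multiplicities m_i, d = gcd(m_i), and D = Σ (m_i/d) Γ_i the effective Cartier divisor with
ideal sheaf I_D = Π I(Γ_i)^{m_i/d}. Then O_X(D) (any L with L ⊗ I_D ≅ O_X) has order dividing d in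
Pic(X), i.e. L^{⊗ d} ≅ O_X, and the conormal sheaf I_D|_D, an invertible O_D-module, has order
dividing d in Pic(D). -/
theorem result (R : Type u) [CommRing R] [IsDomain R] [IsDiscreteValuationRing R]
    (C X : Scheme.{u}) (f : C ⟶ Spec (CommRingCat.of (FractionRing R))) (p : X ⟶ Spec (CommRingCat.of R))
    (hC : Curve.IsSmoothProperCurve (FractionRing R) C f) (hH0 : IsIso f.appTop)
    (hX : Models.IsRegularProperModel R X p C f)
    {n : ℕ} (Γ : Fin n → ArSurf.VertComp R (Over.mk p)) (hΓ : Models.IsComponentList R (Over.mk p) Γ)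
    (L : X.Modules)
    (hL : ClSub.IsInverseOf L (ClSub.idealMod (∏ i, (Γ i).ι.ker ^ (Models.mult R (Over.mk p) (Γ i) / Models.multGcd R (Over.mk p) Γ)))) :
    Nonempty (CohB1.tensorPow L (Models.multGcd R (Over.mk p) Γ) ≅ Coh.structureModule X) ∧
      Nonempty (CohB1.tensorPow ((Scheme.Modules.pullback
          (∏ i, (Γ i).ι.ker ^ (Models.mult R (Over.mk p) (Γ i) / Models.multGcd R (Over.mk p) Γ)).subschemeι).obj
          (ClSub.idealMod (∏ i, (Γ i).ι.ker ^ (Models.mult R (Over.mk p) (Γ i) / Models.multGcd R (Over.mk p) Γ))))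
          (Models.multGcd R (Over.mk p) Γ) ≅
        Coh.structureModule (∏ i, (Γ i).ι.ker ^ (Models.mult R (Over.mk p) (Γ i) / Models.multGcd R (Over.mk p) Γ)).subscheme) := by
  obtain ⟨⟨hfl, hlft, -⟩, hp, hreg⟩ := hX
  haveI : LocallyOfFiniteType p := hlft
  haveI : Flat (Over.mk p).hom := hfl
  haveI : IsLocallyNoetherian (Over.mk p).left := LocallyOfFiniteType.isLocallyNoetherian p
  exact Groth.Agent.H28Vert.tensorPow_multGcd_trivial hreg hΓ L hL

end Groth.Agent.S7326
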