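import Groth.Statements.S7339
import Groth.Agent.H11Blow.Vanish
import Groth.Agent.H22Alg.ESZPush
import Groth.Agent.H29RR.PnPic
import Groth.Agent.H11Ample.AmpleOn
import Groth.Agent.LeadPic.PnPic
import Groth.Agent.H10Coh.HHSeq

set_option autoImplicit false
universe u
open CategoryTheory CategoryTheory.Limits AlgebraicGeometry
open Resolve

namespace Groth.Agent.S7339


set_option linter.style.haveILetI false
set_option backward.isDefEq.respectTransparency.types false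

open Groth.Agent

/-- An isomorphism of projective lines preserves `O(1)`. -/
theorem nonempty_pullback_twist_one {k k' : Type u} [Field k] [Field k']
    (ψ : CohB1.ProjSpace 1 k ≅ CohB1.ProjSpace 1 k') :
    Nonempty ((Scheme.Modules.pullback ψ.hom).obj (Twist.twistProjSpace 1 k' 1) ≅ Twist.twistProjSpace 1 k 1) := by
  have h := H10Coh.Stab.isTwistFamily_projSpace 1 k
  have h' := H10Coh.Stab.isTwistFamily_projSpace 1 k'
  have deg : ∀ {k k' : Type u} [Field k] [Field k'] (ψ : CohB1.ProjSpace 1 k ≅ CohB1.ProjSpace 1 k'),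
      ∃ a : ℕ, Nonempty ((Scheme.Modules.pullback ψ.hom).obj (Twist.twistProjSpace 1 k' 1) ≅
        Twist.twistProjSpace 1 k (a : ℤ)) := by
    intro k k' _ _ ψ
    obtain ⟨a, ⟨e⟩⟩ := LeadPic.Pn.exists_iso_twist (n := 1) (R := k)
      (H11Ample.isInvertible_pullback ψ.hom ((H10Coh.Stab.isTwistFamily_projSpace 1 k').inv 1))
    have ha : 0 < a := (S10962.result k 1 le_rfl a).1 (H11Ample.isAmple_of_iso e
      ((H11Ample.isAmple_pullback_iso_iff ψ _).2 ((S10962.result k' 1 le_rfl 1).2 one_pos)))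
    obtain ⟨m, rfl⟩ := Int.eq_ofNat_of_zero_le ha.le
    exact ⟨m, ⟨e⟩⟩
  obtain ⟨a, ⟨e⟩⟩ := deg ψ
  obtain ⟨b, ⟨f⟩⟩ := deg ψ.symm
  obtain ⟨p₁⟩ := (h.pullback ψ.inv).nonempty_tensorPow a
  obtain ⟨p₂⟩ := h'.nonempty_tensorPow b
  obtain ⟨p₃⟩ := h'.nonempty_tensorPow (b * a)
  obtain ⟨q, -⟩ := H11Ample.exists_iso_mul (h'.inv 1) b a
  let θ : Twist.twistProjSpace 1 k' ((b * a : ℕ) : ℤ) ≅ Twist.twistProjSpace 1 k' ((1 : ℕ) : ℤ) :=
    p₃.symm ≪≫ q.symm ≪≫ H10Coh.Tw.tensorPowIso (p₂ ≪≫ f.symm) a ≪≫ p₁ ≪≫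
      (Scheme.Modules.pullback ψ.inv).mapIso e.symm ≪≫ (Scheme.Modules.pullbackComp ψ.inv ψ.hom).app _ ≪≫
      (Scheme.Modules.pullbackCongr ψ.inv_hom_id).app _ ≪≫ (Scheme.Modules.pullbackId _).app _
  have hab := H29RR.PnPic.twist_inj (n := 1) one_ne_zero θ
  obtain ⟨-, rfl⟩ := mul_eq_one.1 (show b * a = 1 by exact_mod_cast hab)
  exact ⟨e⟩

/-- Twists by the ideal of a closed copy of the projective line. -/
theorem nonempty_pullback_twisted {P X : Scheme.{u}} {O : ℤ → P.Modules} (hO : H10Coh.Stab.IsTwistFamily O)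
    (j : P ⟶ X) {J M : X.Modules} (hMinv : PicF.IsInvertible M) (hJ : PicF.IsInvertible J) (eJ : (Scheme.Modules.pullback j).obj J ≅ O 1)
    (eM : CohB1.tensorMod M J ≅ Coh.structureModule X) (i : ℕ) :
    Nonempty ((Scheme.Modules.pullback j).obj (CohB1.tensorPow M i) ≅ O (-(i : ℤ))) := by
  obtain ⟨τ⟩ := H11Ample.exists_iso_pullback_tensor j hMinv hJ
  obtain ⟨π⟩ := H11Ample.exists_iso_pullback_tensorPow j hMinv i
  let M' := (Scheme.Modules.pullback j).obj M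
  let c : CohB1.tensorMod M' (O 1) ≅ Coh.structureModule P :=
    PicGrp.tensorModIso (Iso.refl _) eJ.symm ≪≫ τ.symm ≪≫ (Scheme.Modules.pullback j).mapIso eM ≪≫
      H16Derived.KFlat.Stalk.structurePullbackIso j
  obtain ⟨c'⟩ := H10Coh.Tw.nonempty_tensorPow_inverse c (H11Ample.isInvertible_pullback j hMinv) (hO.inv 1) i
  obtain ⟨p⟩ := hO.nonempty_tensorPow i
  obtain ⟨s⟩ := hO.add (i : ℤ) (-(i : ℤ))
  obtain ⟨z⟩ := hO.zero
  exact ⟨π ≪≫ (H10Coh.Tw.rightUnitIso _).symm ≪≫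
    PicGrp.tensorModIso (Iso.refl _) (z.symm ≪≫ eqToIso (congrArg O (add_neg_cancel (i : ℤ)).symm) ≪≫ s.symm ≪≫
      PicGrp.tensorModIso p.symm (Iso.refl _)) ≪≫
    (H10Coh.Tw.assoc _ _ _).symm ≪≫ PicGrp.tensorModIso c' (Iso.refl _) ≪≫ H10Coh.Tw.leftUnitIso _⟩

/-- Let X be a Noetherian scheme, ι : E → X a closed immersion which is an exceptional curve of the
first kind, with ideal sheaf I and M = O_X(E) an inverse of I for the tensor product, and L an
invertible O_X-module whose pullback to E ≅ P^1_k (for some field k and isomorphism e : P^1_k ≅ E)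
is isomorphic to O(n). If H^1(X, L) = 0 and n ≥ 0, then H^1(X, L(iE)) = 0 for 0 ≤ i ≤ n + 1, where
L(iE) = L ⊗ M^{⊗ i}. (The published statement also asserts, for n ≤ 0, that H^1(X, L) → H^1(X, L(E))
is injective; this row states only the vanishing for n ≥ 0.) -/
theorem result {E X : Scheme.{u}} [IsNoetherian X] (ι : E ⟶ X) [IsClosedImmersion ι]
    (hE : Models.IsExcCurve ι) (M : X.Modules) (hM : ClSub.IsInverseOf M (ClSub.idealMod ι.ker))
    (L : X.Modules) (hL : PicF.IsInvertible L)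
    (k : Type u) [Field k] (e : CohB1.ProjSpace 1 k ≅ E) (n : ℕ)
    (hn : Nonempty ((Scheme.Modules.pullback (e.hom ≫ ι)).obj L ≅ Twist.twistProjSpace 1 k (n : ℤ)))
    (h1 : Subsingleton (Coh.HH X L 1)) (i : ℕ) (hi : i ≤ n + 1) :
    Subsingleton (Coh.HH X (CohB1.tensorMod L (CohB1.tensorPow M i)) 1) := by
  obtain ⟨hC, k', _, e', ⟨w⟩⟩ := hE
  obtain ⟨en⟩ := hn
  obtain ⟨eM⟩ := hM
  have hI := H29Blow.isInvertible_of_isEffCartierIdeal _ hC
  have hMinv : PicF.IsInvertible M := H17.InvertibleTensor.isInvertible_of_tensor_iso M _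
    eM
  let O := fun a : ℤ => Twist.twistProjSpace 1 k a
  have hO : H10Coh.Stab.IsTwistFamily O := H10Coh.Stab.isTwistFamily_projSpace 1 k
  obtain ⟨u⟩ := nonempty_pullback_twist_one (e ≪≫ e'.symm)
  let eJ : (Scheme.Modules.pullback (e.hom ≫ ι)).obj (ClSub.idealMod ι.ker) ≅ O 1 :=
    (Scheme.Modules.pullbackCongr (show e.hom ≫ ι = (e ≪≫ e'.symm).hom ≫ e'.hom ≫ ι by simp)).app _ ≪≫
      ((Scheme.Modules.pullbackComp (e ≪≫ e'.symm).hom (e'.hom ≫ ι)).app _).symm ≪≫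
      (Scheme.Modules.pullback (e ≪≫ e'.symm).hom).mapIso w ≪≫ u
  induction i with
  | zero =>
    exact H22Alg.ESZ.subsingleton_HH_iso (H10Coh.Tw.rightUnitIso L).symm h1
  | succ i ih =>
    let Mi := CohB1.tensorMod L (CohB1.tensorPow M (i + 1))
    have hMi : PicF.IsInvertible Mi := H11Ample.isInvertible_tensor hL (H11Ample.isInvertible_tensorPow hMinv _)
    obtain ⟨S, hS, ⟨a₁⟩, ⟨a₂⟩, ⟨a₃⟩⟩ := H11Blow.exists_seq ι.ker hMi
    refine H22Alg.ESZ.subsingleton_HH_iso a₂ (H10Coh.HHSeq.subsingleton₂ hS ?_ ?_)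
    · refine H22Alg.ESZ.subsingleton_HH_iso ?_ (ih (by omega))
      exact (H10Coh.Tw.rightUnitIso _).symm ≪≫ PicGrp.tensorModIso (Iso.refl _) eM.symm ≪≫
        H10Coh.Tw.assoc L _ _ ≪≫ PicGrp.tensorModIso (Iso.refl L)
          ((H10Coh.Tw.assoc (CohB1.tensorPow M i) M _).symm) ≪≫
        (H10Coh.Tw.assoc L _ _).symm ≪≫ H10Coh.Tw.commIso _ _ ≪≫ a₁.symm
    · obtain ⟨τ⟩ := H11Ample.exists_iso_pullback_tensor (e.hom ≫ ι) hL (H11Ample.isInvertible_tensorPow hMinv (i + 1))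
      obtain ⟨π⟩ := nonempty_pullback_twisted hO (e.hom ≫ ι) hMinv hI eJ eM (i + 1)
      obtain ⟨s⟩ := hO.add (n : ℤ) (-((i + 1 : ℕ) : ℤ))
      let c : CohB1.ProjSpace 1 k ⟶ ι.ker.subscheme := e.hom ≫ ι.toImage
      haveI : IsIso c := inferInstanceAs (IsIso (e.hom ≫ ι.toImage))
      have hc : c ≫ ι.ker.subschemeι = e.hom ≫ ι := by
        show (e.hom ≫ ι.toImage) ≫ ι.imageι = _
        rw [Category.assoc, Scheme.Hom.toImage_imageι]
      let φ : (Scheme.Modules.pullback c).obj ((Scheme.Modules.pullback ι.ker.subschemeι).obj Mi) ≅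
          O ((n : ℤ) + -((i + 1 : ℕ) : ℤ)) :=
        (Scheme.Modules.pullbackComp c ι.ker.subschemeι).app _ ≪≫ (Scheme.Modules.pullbackCongr hc).app _ ≪≫
          τ ≪≫ PicGrp.tensorModIso en π ≪≫ s
      refine H22Alg.ESZ.subsingleton_HH_iso a₃.symm (H22Alg.ESZ.fromM ?_)
      have hP := H11Ample.isInvertible_pullback ι.ker.subschemeι hMi
      haveI : ((Scheme.Modules.pullback ι.ker.subschemeι).obj Mi).IsQuasicoherent :=
        (H11Ample.isCoh_of_isInvertible hP).1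
      refine @Equiv.subsingleton _ _ (H10Coh.affineLerayEquiv ι.ker.subschemeι _ 1 ⊤).toEquiv ?_
      refine H10Coh.subsingleton_HnM_image c _ 1 ⊤ _ ((Scheme.Hom.image_top_eq_opensRange c).trans
        (Scheme.Hom.opensRange_of_isIso c)) ?_
      refine H10Coh.Tw.subsingleton_of_iso (φ.symm ≪≫ ((Scheme.Modules.restrictFunctorIsoPullback c).app _).symm) ?_
      exact H22Alg.ESZ.toM (H10Coh.Pn.subsingleton_HH_Od (n := 1) (R := k) (d := (n : ℤ) + -((i + 1 : ℕ) : ℤ)) 1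
        (by simp) (by push_cast; omega))

end Groth.Agent.S7339
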