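import Groth.Statements.S7340
import Groth.Agent.H28Alg.TraceCore

set_option autoImplicit false
universe u
open Polynomial
open Resolve

namespace Groth.Agent.S7340

/-- Let p be a prime number and R an F_p-algebra, a, b ∈ R, S_a = R[x]/(x^p - a) and S_b = R[y]/(y^p -
b). The trace Tr_x : Ω_{S_a/R} → Ω_R is the R-linear map with x^i dx ↦ 0 for 0 ≤ i ≤ p - 2 and
x^{p-1} dx ↦ da (these determine it, Ω_{S_a/R} being free over R on the x^i dx), and similarly Tr_y.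
Then for every R-algebra homomorphism φ : S_a → S_b one has Tr_x = Tr_y ∘ φ_*: for all s, t ∈ S_a,
Tr_x(s dt) = Tr_y(φ(s) dφ(t)). Here Ω_R is the module of absolute differentials Ω_{R/Z}. -/
theorem result (p : ℕ) [Fact p.Prime] (R : Type u) [CommRing R] [CharP R p] (a b : R)
    (φ : AdjoinRoot (X ^ p - C a : R[X]) →ₐ[R] AdjoinRoot (X ^ p - C b : R[X]))
    (Tx : Ω[AdjoinRoot (X ^ p - C a : R[X])⁄R] →ₗ[R] Ω[R⁄ℤ])
    (Ty : Ω[AdjoinRoot (X ^ p - C b : R[X])⁄R] →ₗ[R] Ω[R⁄ℤ])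
    (hTx : ∀ i : ℕ, i + 2 ≤ p →
      Tx (AdjoinRoot.root (X ^ p - C a) ^ i • KaehlerDifferential.D R _ (AdjoinRoot.root (X ^ p - C a))) = 0)
    (hTx' : Tx (AdjoinRoot.root (X ^ p - C a) ^ (p - 1) • KaehlerDifferential.D R _ (AdjoinRoot.root (X ^ p - C a))) =
      KaehlerDifferential.D ℤ R a)
    (hTy : ∀ i : ℕ, i + 2 ≤ p →
      Ty (AdjoinRoot.root (X ^ p - C b) ^ i • KaehlerDifferential.D R _ (AdjoinRoot.root (X ^ p - C b))) = 0)
    (hTy' : Ty (AdjoinRoot.root (X ^ p - C b) ^ (p - 1) • KaehlerDifferential.D R _ (AdjoinRoot.root (X ^ p - C b))) =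
      KaehlerDifferential.D ℤ R b)
    (s t : AdjoinRoot (X ^ p - C a : R[X])) :
    Tx (s • KaehlerDifferential.D R _ t) = Ty (φ s • KaehlerDifferential.D R _ (φ t)) := by
  have hp : p.Prime := Fact.out
  have : Nontrivial R := CharP.nontrivial_of_char_ne_one hp.ne_one
  refine H28Alg.trace_unique φ ⟨hTy, hTy'⟩ ⟨hTx, hTx'⟩ ?_ s t
  refine (injective_iff_map_eq_zero _).2 fun r hr => ?_
  rw [AdjoinRoot.algebraMap_eq, ← AdjoinRoot.mk_C, AdjoinRoot.mk_eq_zero] at hr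
  by_contra h
  refine (Polynomial.monic_X_pow_sub_C b hp.ne_zero).not_dvd_of_degree_lt (Polynomial.C_ne_zero.2 h) ?_ hr
  rw [Polynomial.degree_X_pow_sub_C hp.pos, Polynomial.degree_C h]
  exact_mod_cast hp.pos

end Groth.Agent.S7340
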