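import Groth.Statements.S7341
import Groth.Agent.H28NT.Rows

set_option autoImplicit false
open Finset
open Models Models.NumericalType

namespace Groth.Agent.S7341

/-- Classification of proper subgraphs which are chains of three vertices: let T be a numerical type on
n > 3 indices and i, j, k distinct (-2)-indices with a_ij > 0 and a_jk > 0. Then a_ik = 0 and, up to
reversing the order of i, j, k, one of the following holds for some integer w: (A3) w_i = w_j = w_k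
= w, a_ij = a_jk = w, with 2 m_i ≥ m_j, 2 m_j ≥ m_i + m_k, 2 m_k ≥ m_j; (C3) w_i = w_j = w, w_k =
2w, a_ij = w, a_jk = 2w, with 2 m_i ≥ m_j, 2 m_j ≥ m_i + 2 m_k, 2 m_k ≥ m_j; (B3) w_i = w_j = 2w,
w_k = w, a_ij = a_jk = 2w, with 2 m_i ≥ m_j, 2 m_j ≥ m_i + m_k, m_k ≥ m_j. -/
theorem result {n : ℕ} (T : Models.NumericalType n) (hn : 3 < n) (i j k : Fin n)
    (hij : i ≠ j) (hjk : j ≠ k) (hik : i ≠ k) (hi : T.IsMinusTwo i) (hj : T.IsMinusTwo j) (hk : T.IsMinusTwo k)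
    (h1 : 0 < T.a i j) (h2 : 0 < T.a j k) :
    T.a i k = 0 ∧ ∃ (i' k' : Fin n) (w : ℤ), ((i' = i ∧ k' = k) ∨ (i' = k ∧ k' = i)) ∧
      ((T.w i' = w ∧ T.w j = w ∧ T.w k' = w ∧ T.a i' j = w ∧ T.a j k' = w ∧
          T.m j ≤ 2 * T.m i' ∧ T.m i' + T.m k' ≤ 2 * T.m j ∧ T.m j ≤ 2 * T.m k') ∨
        (T.w i' = w ∧ T.w j = w ∧ T.w k' = 2 * w ∧ T.a i' j = w ∧ T.a j k' = 2 * w ∧
          T.m j ≤ 2 * T.m i' ∧ T.m i' + 2 * T.m k' ≤ 2 * T.m j ∧ T.m j ≤ 2 * T.m k') ∨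
        (T.w i' = 2 * w ∧ T.w j = 2 * w ∧ T.w k' = w ∧ T.a i' j = 2 * w ∧ T.a j k' = 2 * w ∧
          T.m j ≤ 2 * T.m i' ∧ T.m i' + T.m k' ≤ 2 * T.m j ∧ T.m j ≤ T.m k')) := by
  have cm := H28NT.a_comm T
  have h1' : T.a j i ≠ 0 := by rw [cm]; exact h1.ne'
  have h2' : T.a k j ≠ 0 := by rw [cm]; exact h2.ne'
  refine ⟨H28NT.chain3_zero T hn hij hjk hik hi hj hk h1.ne' h2.ne', ?_⟩
  -- the oriented statement
  have std : ∀ (i k : Fin n), i ≠ j → j ≠ k → i ≠ k → T.IsMinusTwo i → T.IsMinusTwo k →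
      T.a i j ≠ 0 → T.a j k ≠ 0 → T.a k j ≠ 0 → T.w i = T.w j → ∃ w : ℤ,
        ((T.w i = w ∧ T.w j = w ∧ T.w k = w ∧ T.a i j = w ∧ T.a j k = w ∧
            T.m j ≤ 2 * T.m i ∧ T.m i + T.m k ≤ 2 * T.m j ∧ T.m j ≤ 2 * T.m k) ∨
          (T.w i = w ∧ T.w j = w ∧ T.w k = 2 * w ∧ T.a i j = w ∧ T.a j k = 2 * w ∧
            T.m j ≤ 2 * T.m i ∧ T.m i + 2 * T.m k ≤ 2 * T.m j ∧ T.m j ≤ 2 * T.m k) ∨
          (T.w i = 2 * w ∧ T.w j = 2 * w ∧ T.w k = w ∧ T.a i j = 2 * w ∧ T.a j k = 2 * w ∧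
            T.m j ≤ 2 * T.m i ∧ T.m i + T.m k ≤ 2 * T.m j ∧ T.m j ≤ T.m k)) := by
    intro i k hij hjk hik hi hk h1 h2 h2' hw
    have hai : T.a i j = T.w j := (H28NT.a_eq_w T (by omega) hij hi hj h1 hw.symm).trans hw
    have haj : T.a j i = T.w j := by rw [cm]; exact hai
    rcases H28NT.chain_edge T hn hjk.symm hij.symm hik.symm hk hj hi h2' (by rw [cm]; exact h1)
      with ⟨b, a⟩ | ⟨b, a⟩ | ⟨b, a⟩
    · refine ⟨T.w j, .inl ⟨hw, rfl, b.symm, hai, by rw [cm, a, b], ?_, ?_, ?_⟩⟩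
      · linarith [H28NT.row1q T 1 1 (T.w_pos j) hij hi (by rw [hw, one_mul]) (by rw [hai, one_mul])]
      · linarith [H28NT.row2q T 1 1 1 (T.w_pos j) hij.symm hjk hik hj (one_mul _).symm (by rw [haj, one_mul]) (by rw [cm, a, b, one_mul])]
      · linarith [H28NT.row1q T 1 1 (T.w_pos j) hjk.symm hk (by rw [b, one_mul]) (by rw [a, b, one_mul])]
    · refine ⟨T.w k, .inr (.inr ⟨hw.trans b, b, rfl, hai.trans b, by rw [cm, a], ?_, ?_, ?_⟩)⟩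
      · linarith [H28NT.row1q T 2 2 (T.w_pos k) hij hi (by rw [hw, b]) (by rw [hai, b])]
      · linarith [H28NT.row2q T 2 2 2 (T.w_pos k) hij.symm hjk hik hj b (by rw [haj, b]) (by rw [cm, a])]
      · linarith [H28NT.row1q T 2 1 (T.w_pos k) hjk.symm hk (one_mul _).symm a]
    · refine ⟨T.w j, .inr (.inl ⟨hw, rfl, b, hai, by rw [cm, a], ?_, ?_, ?_⟩)⟩
      · linarith [H28NT.row1q T 1 1 (T.w_pos j) hij hi (by rw [hw, one_mul]) (by rw [hai, one_mul])]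
      · linarith [H28NT.row2q T 1 2 1 (T.w_pos j) hij.symm hjk hik hj (one_mul _).symm (by rw [haj, one_mul]) (by rw [cm, a])]
      · linarith [H28NT.row1q T 2 2 (T.w_pos j) hjk.symm hk b a]
  by_cases hw : T.w i = T.w j
  · obtain ⟨w, h⟩ := std i k hij hjk hik hi hk h1.ne' h2.ne' h2' hw
    exact ⟨i, k, w, .inl ⟨rfl, rfl⟩, h⟩
  · have hw' := H28NT.chain3_not_both T hn hij hjk hik hi hj hk h1.ne' h2.ne' hw
    obtain ⟨w, h⟩ := std k i hjk.symm hij.symm hik.symm hk hi h2' h1' h1.ne' hw'.symm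
    exact ⟨k, i, w, .inr ⟨rfl, rfl⟩, h⟩

end Groth.Agent.S7341
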