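import Groth.Statements.S7342
import Groth.Agent.H28NT.Tree

set_option autoImplicit false
open Finset
open Models Models.NumericalType

namespace Groth.Agent.S7342

/-- Let T be a numerical type on n indices, t ≥ 4 and n > t + 2. Then no t + 2 (-2)-indices of T,
pairwise distinct and numbered i_0, …, i_{t+1}, satisfy: a_{i_j i_{j+1}} > 0 for 1 ≤ j ≤ t - 1,
a_{i_0 i_2} > 0 and a_{i_{t-1} i_{t+1}} > 0. -/
theorem result {n : ℕ} (T : Models.NumericalType n) (t : ℕ) (ht : 4 ≤ t) (hn : t + 2 < n)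
    (v : Fin (t + 2) ↪ Fin n) (hv : ∀ j, T.IsMinusTwo (v j))
    (hchain : ∀ j j' : Fin (t + 2), 1 ≤ j.val → j.val + 1 ≤ t → j'.val = j.val + 1 → 0 < T.a (v j) (v j'))
    (h02 : ∀ j j' : Fin (t + 2), j.val = 0 → j'.val = 2 → 0 < T.a (v j) (v j'))
    (hlast : ∀ j j' : Fin (t + 2), j.val = t - 1 → j'.val = t + 1 → 0 < T.a (v j) (v j')) : False := by
  obtain ⟨r, rfl⟩ : ∃ r, t = r + 4 := ⟨t - 4, by omega⟩
  have hc : ∀ p < r + 3, T.a (H28NT.vN v (p + 1)) (H28NT.vN v (p + 2)) ≠ 0 := fun p hp => by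
    rw [H28NT.vN_of_lt v (show p + 1 < r + 4 + 2 by omega), H28NT.vN_of_lt v (show p + 2 < r + 4 + 2 by omega)]
    exact (hchain _ _ (by simp) (by simp; omega) (by simp)).ne'
  have h0 : T.a (H28NT.vN v 0) (H28NT.vN v 2) ≠ 0 := by
    rw [H28NT.vN_of_lt v (show 0 < r + 4 + 2 by omega), H28NT.vN_of_lt v (show 2 < r + 4 + 2 by omega)]
    exact (h02 _ _ rfl rfl).ne'
  have hl : T.a (H28NT.vN v (r + 3)) (H28NT.vN v (r + 5)) ≠ 0 := by
    rw [H28NT.vN_of_lt v (show r + 3 < r + 4 + 2 by omega), H28NT.vN_of_lt v (show r + 5 < r + 4 + 2 by omega)]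
    exact (hlast _ _ (by simp) (by simp)).ne'
  let c : ℕ → ℝ := fun p => if 2 ≤ p ∧ p ≤ r + 3 then 2 else 1
  refine H28NT.key_false T (H28NT.vN v) c hn (H28NT.vN_injOn v) (H28NT.vN_minusTwo T hv) ?_
    ⟨0, by omega, by simp [c]⟩
    (insert (0, 2) (insert (r + 3, r + 5) ((range (r + 3)).image fun p => (p + 1, p + 2)))) ?_
    (fun _ => 1) ?_ ?_
  · intro p _
    simp only [c]; split_ifs <;> norm_num
  · intro pq hpq
    simp only [Finset.mem_insert, Finset.mem_image, Finset.mem_range, not_or, not_exists, not_and, Prod.ext_iff] at hpq ⊢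
    rcases hpq with h | h | ⟨p, hp, h⟩ <;>
      (refine ⟨by omega, by omega, by omega, by omega, by omega, fun _ _ => by omega⟩)
  · intro pq hpq
    simp only [Finset.mem_insert, Finset.mem_image, Finset.mem_range] at hpq
    have hne : ∀ a b, a < r + 4 + 2 → b < r + 4 + 2 → a ≠ b → H28NT.vN v a ≠ H28NT.vN v b :=
      fun a b ha hb hab h => hab (H28NT.vN_injOn v ha hb h)
    rcases hpq with rfl | rfl | ⟨p, hp, rfl⟩
    · exact H28NT.one_le_e T (hne _ _ (by omega) (by omega) (by omega)) h0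
    · exact H28NT.one_le_e T (hne _ _ (by omega) (by omega) (by omega)) hl
    · exact H28NT.one_le_e T (hne _ _ (by omega) (by omega) (by omega)) (hc p hp)
  · rw [Finset.sum_insert (by simp), Finset.sum_insert (by simp),
      Finset.sum_image (fun a _ b _ h => by simpa using h)]
    simp only [one_mul]
    have hs1 : ∑ k ∈ range (r + 2), c (k + 1 + 1) ^ 2 = (r + 2 : ℕ) * 4 := by
      rw [Finset.sum_congr rfl (fun x hx => ?_), Finset.sum_const, Finset.card_range, nsmul_eq_mul]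
      simp at hx
      simp [c, show x + 1 + 1 ≤ r + 3 by omega]; norm_num
    have hs2 : ∑ k ∈ range (r + 1), c (k + 1 + 1) * c (k + 1 + 2) = (r + 1 : ℕ) * 4 := by
      rw [Finset.sum_congr rfl (fun x hx => ?_), Finset.sum_const, Finset.card_range, nsmul_eq_mul]
      simp at hx
      simp [c, show x + 1 + 1 ≤ r + 3 by omega, show x + 1 + 2 ≤ r + 3 by omega]; norm_num
    have hS : ∑ k ∈ range (r + 4 + 2), c k ^ 2 = (r + 2 : ℕ) * 4 + c 1 ^ 2 + c 0 ^ 2 + c (r + 4) ^ 2 + c (r + 5) ^ 2 := by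
      rw [Finset.sum_range_succ, Finset.sum_range_succ, Finset.sum_range_succ', Finset.sum_range_succ', hs1]
    have hT : ∑ k ∈ range (r + 1 + 1 + 1), c (k + 1) * c (k + 2) =
        (r + 1 : ℕ) * 4 + c 1 * c 2 + c (r + 3) * c (r + 4) := by
      rw [Finset.sum_range_succ, Finset.sum_range_succ', hs2]
    rw [hS, show r + 3 = r + 1 + 1 + 1 from rfl, hT]
    simp [c]
    linarith

end Groth.Agent.S7342
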