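import Groth.Statements.S7343
import Groth.Agent.H28NT.Tree

set_option autoImplicit false
open Finset
open Models Models.NumericalType

namespace Groth.Agent.S7343

/-- Let T be a numerical type on n > 7 indices. Then no seven (-2)-indices of T, pairwise distinct and
named f, g, h, i, j, k, l, have a_fg, a_gh, a_ij, a_jh, a_kl and a_lh all nonzero (three chains of
length two attached to h). -/
theorem result {n : ℕ} (T : Models.NumericalType n) (hn : 7 < n)
    (v : Fin 7 ↪ Fin n) (hv : ∀ j, T.IsMinusTwo (v j))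
    (h01 : T.a (v 0) (v 1) ≠ 0) (h12 : T.a (v 1) (v 2) ≠ 0) (h34 : T.a (v 3) (v 4) ≠ 0)
    (h42 : T.a (v 4) (v 2) ≠ 0) (h56 : T.a (v 5) (v 6) ≠ 0) (h62 : T.a (v 6) (v 2) ≠ 0) : False := by
  exact H28NT.affine_false T (v := v) hn hv [1, 2, 3, 1, 2, 1, 2]
    {(0, 1), (1, 2), (3, 4), (4, 2), (5, 6), (6, 2)} (by decide)
    (by simp only [Finset.mem_insert, Finset.mem_singleton, forall_eq_or_imp, forall_eq]
        exact ⟨h01, h12, h34, h42, h56, h62⟩)
    (by decide) (by decide)

end Groth.Agent.S7343
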