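import Groth.Statements.S7346
import Groth.Agent.H28NT.Tree

set_option autoImplicit false
open Finset
open Models Models.NumericalType

namespace Groth.Agent.S7346

/-- Classification of proper subgraphs of type D4 (one vertex joined to three others): let T be a
numerical type on n > 4 indices and i_1, …, i_4 distinct (-2)-indices with a_{12}, a_{13}, a_{14}
nonzero. Then for some integer w all w_{i_j} equal w, these intersection numbers equal w, all other
a_{i_j i_k} (j ≠ k) vanish, and 2 m_1 ≥ m_2 + m_3 + m_4, 2 m_2 ≥ m_1, 2 m_3 ≥ m_1, 2 m_4 ≥ m_1. -/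
theorem result {n : ℕ} (T : Models.NumericalType n) (hn : 4 < n)
    (v : Fin 4 ↪ Fin n) (hv : ∀ j, T.IsMinusTwo (v j)) (h01 : T.a (v 0) (v 1) ≠ 0) (h02 : T.a (v 0) (v 2) ≠ 0) (h03 : T.a (v 0) (v 3) ≠ 0) :
    ∃ w : ℤ, (∀ j : Fin 4, T.w (v j) = w) ∧
      T.a (v 0) (v 1) = w ∧
      T.a (v 0) (v 2) = w ∧
      T.a (v 0) (v 3) = w ∧
      T.a (v 1) (v 2) = 0 ∧
      T.a (v 1) (v 3) = 0 ∧
      T.a (v 2) (v 3) = 0 ∧
      T.m (v 1) + T.m (v 2) + T.m (v 3) ≤ 2 * T.m (v 0) ∧
      T.m (v 0) ≤ 2 * T.m (v 1) ∧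
      T.m (v 0) ≤ 2 * T.m (v 2) ∧
      T.m (v 0) ≤ 2 * T.m (v 3) := by
  have hne : ∀ p q : Fin 4, p ≠ q → v p ≠ v q := fun p q h h' => h (v.injective h')
  have c01 : T.a (v 1) (v 0) ≠ 0 := by rw [H28NT.a_comm]; exact h01
  have c02 : T.a (v 2) (v 0) ≠ 0 := by rw [H28NT.a_comm]; exact h02
  have c03 : T.a (v 3) (v 0) ≠ 0 := by rw [H28NT.a_comm]; exact h03
  have e01 : T.w (v 1) = T.w (v 0) := by
    have h := H28NT.branch_list T (v := v) hn hv [1, 0, 2, 3] (by decide) (by decide) (by decide)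
      (fun p hp => by
        have hp' : p < 1 := hp
        interval_cases p <;> assumption)
      h02 h03
    exact h
  have e02 : T.w (v 2) = T.w (v 0) := by
    have h := H28NT.branch_list T (v := v) hn hv [2, 0, 1, 3] (by decide) (by decide) (by decide)
      (fun p hp => by
        have hp' : p < 1 := hp
        interval_cases p <;> assumption)
      h01 h03
    exact h
  have e03 : T.w (v 3) = T.w (v 0) := by
    have h := H28NT.branch_list T (v := v) hn hv [3, 0, 1, 2] (by decide) (by decide) (by decide)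
      (fun p hp => by
        have hp' : p < 1 := hp
        interval_cases p <;> assumption)
      h01 h02
    exact h
  have w1 : T.w (v 1) = T.w (v 0) := e01
  have w2 : T.w (v 2) = T.w (v 0) := e02
  have w3 : T.w (v 3) = T.w (v 0) := e03
  have w0 : T.w (v 0) = T.w (v 0) := rfl
  have a01 : T.a (v 0) (v 1) = T.w (v 0) :=
    (H28NT.a_eq_w T (by omega) (hne 0 1 (by decide)) (hv _) (hv _) h01 e01).trans w0
  have b01 : T.a (v 1) (v 0) = T.w (v 0) := by rw [H28NT.a_comm]; exact a01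
  have a02 : T.a (v 0) (v 2) = T.w (v 0) :=
    (H28NT.a_eq_w T (by omega) (hne 0 2 (by decide)) (hv _) (hv _) h02 e02).trans w0
  have b02 : T.a (v 2) (v 0) = T.w (v 0) := by rw [H28NT.a_comm]; exact a02
  have a03 : T.a (v 0) (v 3) = T.w (v 0) :=
    (H28NT.a_eq_w T (by omega) (hne 0 3 (by decide)) (hv _) (hv _) h03 e03).trans w0
  have b03 : T.a (v 3) (v 0) = T.w (v 0) := by rw [H28NT.a_comm]; exact a03
  have hz : ∀ p < 4, ∀ q < 4, p ≠ q → (p, q) ∉ ({(0, 1), (0, 2), (0, 3)} : Finset (ℕ × ℕ)) →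
      (q, p) ∉ ({(0, 1), (0, 2), (0, 3)} : Finset (ℕ × ℕ)) → T.a (H28NT.vN v p) (H28NT.vN v q) = 0 :=
    fun p hp q hq hpq h1 h2 => H28NT.no_other_edge T hn (H28NT.vN_injOn v)
      (H28NT.vN_minusTwo T hv) {(0, 1), (0, 2), (0, 3)} (by decide)
      (by simp only [Finset.mem_insert, Finset.mem_singleton, forall_eq_or_imp, forall_eq]
          exact ⟨h01, h02, h03⟩)
      (by decide) hp hq hpq h1 h2
  refine ⟨T.w (v 0), fun j => by fin_cases j <;> assumption,
    a01,
    a02,
    a03,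
    hz 1 (by decide) 2 (by decide) (by decide) (by decide) (by decide),
    hz 1 (by decide) 3 (by decide) (by decide) (by decide) (by decide),
    hz 2 (by decide) 3 (by decide) (by decide) (by decide) (by decide),
    H28NT.m_le_three T (hne 0 1 (by decide)) (hne 0 2 (by decide)) (hne 0 3 (by decide)) (hne 1 2 (by decide)) (hne 1 3 (by decide)) (hne 2 3 (by decide)) (hv _) w0 a01 a02 a03,
    H28NT.m_le_one T (hne 1 0 (by decide)) (hv _) w1 b01,
    H28NT.m_le_one T (hne 2 0 (by decide)) (hv _) w2 b02,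
    H28NT.m_le_one T (hne 3 0 (by decide)) (hv _) w3 b03⟩

end Groth.Agent.S7346
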