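import Groth.Statements.S7347
import Groth.Agent.H28NT.Tree

set_option autoImplicit false
open Finset
open Models Models.NumericalType

namespace Groth.Agent.S7347

/-- Classification of proper subgraphs of type D5 (a chain i_1 i_2 i_3 with i_4 and i_5 both joined to
i_3): let T be a numerical type on n > 5 indices and i_1, …, i_5 distinct (-2)-indices with a_{12},
a_{23}, a_{34}, a_{35} nonzero. Then for some integer w all w_{i_j} equal w, these intersection
numbers equal w, all other a_{i_j i_k} (j ≠ k) vanish, and 2 m_1 ≥ m_2, 2 m_2 ≥ m_1 + m_3, 2 m_3 ≥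
m_2 + m_4 + m_5, 2 m_4 ≥ m_3, 2 m_5 ≥ m_3. -/
theorem result {n : ℕ} (T : Models.NumericalType n) (hn : 5 < n)
    (v : Fin 5 ↪ Fin n) (hv : ∀ j, T.IsMinusTwo (v j)) (h01 : T.a (v 0) (v 1) ≠ 0) (h12 : T.a (v 1) (v 2) ≠ 0) (h23 : T.a (v 2) (v 3) ≠ 0) (h24 : T.a (v 2) (v 4) ≠ 0) :
    ∃ w : ℤ, (∀ j : Fin 5, T.w (v j) = w) ∧
      T.a (v 0) (v 1) = w ∧
      T.a (v 1) (v 2) = w ∧
      T.a (v 2) (v 3) = w ∧
      T.a (v 2) (v 4) = w ∧
      T.a (v 0) (v 2) = 0 ∧
      T.a (v 0) (v 3) = 0 ∧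
      T.a (v 0) (v 4) = 0 ∧
      T.a (v 1) (v 3) = 0 ∧
      T.a (v 1) (v 4) = 0 ∧
      T.a (v 3) (v 4) = 0 ∧
      T.m (v 1) ≤ 2 * T.m (v 0) ∧
      T.m (v 0) + T.m (v 2) ≤ 2 * T.m (v 1) ∧
      T.m (v 1) + T.m (v 3) + T.m (v 4) ≤ 2 * T.m (v 2) ∧
      T.m (v 2) ≤ 2 * T.m (v 3) ∧
      T.m (v 2) ≤ 2 * T.m (v 4) := by
  have hne : ∀ p q : Fin 5, p ≠ q → v p ≠ v q := fun p q h h' => h (v.injective h')
  have c01 : T.a (v 1) (v 0) ≠ 0 := by rw [H28NT.a_comm]; exact h01
  have c12 : T.a (v 2) (v 1) ≠ 0 := by rw [H28NT.a_comm]; exact h12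
  have c23 : T.a (v 3) (v 2) ≠ 0 := by rw [H28NT.a_comm]; exact h23
  have c24 : T.a (v 4) (v 2) ≠ 0 := by rw [H28NT.a_comm]; exact h24
  have e01 : T.w (v 1) = T.w (v 0) := by
    have h := H28NT.branch_list T (v := v) hn hv [0, 1, 2, 3, 4] (by decide) (by decide) (by decide)
      (fun p hp => by
        have hp' : p < 2 := hp
        interval_cases p <;> assumption)
      h23 h24
    exact h.symm
  have e12 : T.w (v 2) = T.w (v 1) := by
    have h := H28NT.branch_list T (v := v) hn hv [1, 2, 3, 4] (by decide) (by decide) (by decide)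
      (fun p hp => by
        have hp' : p < 1 := hp
        interval_cases p <;> assumption)
      h23 h24
    exact h.symm
  have e23 : T.w (v 3) = T.w (v 2) := by
    have h := H28NT.branch_list T (v := v) hn hv [3, 2, 1, 4] (by decide) (by decide) (by decide)
      (fun p hp => by
        have hp' : p < 1 := hp
        interval_cases p <;> assumption)
      c12 h24
    exact h
  have e24 : T.w (v 4) = T.w (v 2) := by
    have h := H28NT.branch_list T (v := v) hn hv [4, 2, 1, 3] (by decide) (by decide) (by decide)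
      (fun p hp => by
        have hp' : p < 1 := hp
        interval_cases p <;> assumption)
      c12 h23
    exact h
  have w1 : T.w (v 1) = T.w (v 0) := e01
  have w2 : T.w (v 2) = T.w (v 0) := e12.trans w1
  have w3 : T.w (v 3) = T.w (v 0) := e23.trans w2
  have w4 : T.w (v 4) = T.w (v 0) := e24.trans w2
  have w0 : T.w (v 0) = T.w (v 0) := rfl
  have a01 : T.a (v 0) (v 1) = T.w (v 0) :=
    (H28NT.a_eq_w T (by omega) (hne 0 1 (by decide)) (hv _) (hv _) h01 e01).trans w0
  have b01 : T.a (v 1) (v 0) = T.w (v 0) := by rw [H28NT.a_comm]; exact a01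
  have a12 : T.a (v 1) (v 2) = T.w (v 0) :=
    (H28NT.a_eq_w T (by omega) (hne 1 2 (by decide)) (hv _) (hv _) h12 e12).trans w1
  have b12 : T.a (v 2) (v 1) = T.w (v 0) := by rw [H28NT.a_comm]; exact a12
  have a23 : T.a (v 2) (v 3) = T.w (v 0) :=
    (H28NT.a_eq_w T (by omega) (hne 2 3 (by decide)) (hv _) (hv _) h23 e23).trans w2
  have b23 : T.a (v 3) (v 2) = T.w (v 0) := by rw [H28NT.a_comm]; exact a23
  have a24 : T.a (v 2) (v 4) = T.w (v 0) :=
    (H28NT.a_eq_w T (by omega) (hne 2 4 (by decide)) (hv _) (hv _) h24 e24).trans w2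
  have b24 : T.a (v 4) (v 2) = T.w (v 0) := by rw [H28NT.a_comm]; exact a24
  have hz : ∀ p < 5, ∀ q < 5, p ≠ q → (p, q) ∉ ({(0, 1), (1, 2), (2, 3), (2, 4)} : Finset (ℕ × ℕ)) →
      (q, p) ∉ ({(0, 1), (1, 2), (2, 3), (2, 4)} : Finset (ℕ × ℕ)) → T.a (H28NT.vN v p) (H28NT.vN v q) = 0 :=
    fun p hp q hq hpq h1 h2 => H28NT.no_other_edge T hn (H28NT.vN_injOn v)
      (H28NT.vN_minusTwo T hv) {(0, 1), (1, 2), (2, 3), (2, 4)} (by decide)
      (by simp only [Finset.mem_insert, Finset.mem_singleton, forall_eq_or_imp, forall_eq]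
          exact ⟨h01, h12, h23, h24⟩)
      (by decide) hp hq hpq h1 h2
  refine ⟨T.w (v 0), fun j => by fin_cases j <;> assumption,
    a01,
    a12,
    a23,
    a24,
    hz 0 (by decide) 2 (by decide) (by decide) (by decide) (by decide),
    hz 0 (by decide) 3 (by decide) (by decide) (by decide) (by decide),
    hz 0 (by decide) 4 (by decide) (by decide) (by decide) (by decide),
    hz 1 (by decide) 3 (by decide) (by decide) (by decide) (by decide),
    hz 1 (by decide) 4 (by decide) (by decide) (by decide) (by decide),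
    hz 3 (by decide) 4 (by decide) (by decide) (by decide) (by decide),
    H28NT.m_le_one T (hne 0 1 (by decide)) (hv _) w0 a01,
    H28NT.m_le_two T (hne 1 0 (by decide)) (hne 1 2 (by decide)) (hne 0 2 (by decide)) (hv _) w1 b01 a12,
    H28NT.m_le_three T (hne 2 1 (by decide)) (hne 2 3 (by decide)) (hne 2 4 (by decide)) (hne 1 3 (by decide)) (hne 1 4 (by decide)) (hne 3 4 (by decide)) (hv _) w2 b12 a23 a24,
    H28NT.m_le_one T (hne 3 2 (by decide)) (hv _) w3 b23,
    H28NT.m_le_one T (hne 4 2 (by decide)) (hv _) w4 b24⟩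

end Groth.Agent.S7347
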