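import Groth.Statements.S7348
import Groth.Agent.H28NT.Tree

set_option autoImplicit false
open Finset
open Models Models.NumericalType

namespace Groth.Agent.S7348

/-- Classification of proper subgraphs of type E6 (a chain i_1 … i_5 with i_6 joined to i_3): let T be a
numerical type on n > 6 indices and i_1, …, i_6 distinct (-2)-indices with a_{12}, a_{23}, a_{34},
a_{45}, a_{36} nonzero. Then for some integer w all w_{i_j} equal w, these intersection numbers
equal w, all other a_{i_j i_k} (j ≠ k) vanish, and 2 m_1 ≥ m_2, 2 m_2 ≥ m_1 + m_3, 2 m_3 ≥ m_2 + m_4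
+ m_6, 2 m_4 ≥ m_3 + m_5, 2 m_5 ≥ m_4, 2 m_6 ≥ m_3. (The published list of inequalities has 2 m_5 ≥
m_3 where the intersection matrix gives 2 m_5 ≥ m_4; the former fails for the extended E8
configuration of multiplicities 4, 5, 6, 4, 2 with 3 attached to the third vertex, so 2 m_5 ≥ m_4 is
stated.) -/
theorem result {n : ℕ} (T : Models.NumericalType n) (hn : 6 < n)
    (v : Fin 6 ↪ Fin n) (hv : ∀ j, T.IsMinusTwo (v j)) (h01 : T.a (v 0) (v 1) ≠ 0) (h12 : T.a (v 1) (v 2) ≠ 0) (h23 : T.a (v 2) (v 3) ≠ 0) (h34 : T.a (v 3) (v 4) ≠ 0) (h25 : T.a (v 2) (v 5) ≠ 0) :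
    ∃ w : ℤ, (∀ j : Fin 6, T.w (v j) = w) ∧
      T.a (v 0) (v 1) = w ∧
      T.a (v 1) (v 2) = w ∧
      T.a (v 2) (v 3) = w ∧
      T.a (v 3) (v 4) = w ∧
      T.a (v 2) (v 5) = w ∧
      T.a (v 0) (v 2) = 0 ∧
      T.a (v 0) (v 3) = 0 ∧
      T.a (v 0) (v 4) = 0 ∧
      T.a (v 0) (v 5) = 0 ∧
      T.a (v 1) (v 3) = 0 ∧
      T.a (v 1) (v 4) = 0 ∧
      T.a (v 1) (v 5) = 0 ∧
      T.a (v 2) (v 4) = 0 ∧
      T.a (v 3) (v 5) = 0 ∧
      T.a (v 4) (v 5) = 0 ∧
      T.m (v 1) ≤ 2 * T.m (v 0) ∧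
      T.m (v 0) + T.m (v 2) ≤ 2 * T.m (v 1) ∧
      T.m (v 1) + T.m (v 3) + T.m (v 5) ≤ 2 * T.m (v 2) ∧
      T.m (v 2) + T.m (v 4) ≤ 2 * T.m (v 3) ∧
      T.m (v 3) ≤ 2 * T.m (v 4) ∧
      T.m (v 2) ≤ 2 * T.m (v 5) := by
  have hne : ∀ p q : Fin 6, p ≠ q → v p ≠ v q := fun p q h h' => h (v.injective h')
  have c01 : T.a (v 1) (v 0) ≠ 0 := by rw [H28NT.a_comm]; exact h01
  have c12 : T.a (v 2) (v 1) ≠ 0 := by rw [H28NT.a_comm]; exact h12
  have c23 : T.a (v 3) (v 2) ≠ 0 := by rw [H28NT.a_comm]; exact h23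
  have c34 : T.a (v 4) (v 3) ≠ 0 := by rw [H28NT.a_comm]; exact h34
  have c25 : T.a (v 5) (v 2) ≠ 0 := by rw [H28NT.a_comm]; exact h25
  have e01 : T.w (v 1) = T.w (v 0) := by
    have h := H28NT.branch_list T (v := v) hn hv [0, 1, 2, 3, 5] (by decide) (by decide) (by decide)
      (fun p hp => by
        have hp' : p < 2 := hp
        interval_cases p <;> assumption)
      h23 h25
    exact h.symm
  have e12 : T.w (v 2) = T.w (v 1) := by
    have h := H28NT.branch_list T (v := v) hn hv [1, 2, 3, 5] (by decide) (by decide) (by decide)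
      (fun p hp => by
        have hp' : p < 1 := hp
        interval_cases p <;> assumption)
      h23 h25
    exact h.symm
  have e23 : T.w (v 3) = T.w (v 2) := by
    have h := H28NT.branch_list T (v := v) hn hv [3, 2, 1, 5] (by decide) (by decide) (by decide)
      (fun p hp => by
        have hp' : p < 1 := hp
        interval_cases p <;> assumption)
      c12 h25
    exact h
  have e34 : T.w (v 4) = T.w (v 3) := by
    have h := H28NT.branch_list T (v := v) hn hv [4, 3, 2, 1, 5] (by decide) (by decide) (by decide)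
      (fun p hp => by
        have hp' : p < 2 := hp
        interval_cases p <;> assumption)
      c12 h25
    exact h
  have e25 : T.w (v 5) = T.w (v 2) := by
    have h := H28NT.branch_list T (v := v) hn hv [5, 2, 1, 3] (by decide) (by decide) (by decide)
      (fun p hp => by
        have hp' : p < 1 := hp
        interval_cases p <;> assumption)
      c12 h23
    exact h
  have w1 : T.w (v 1) = T.w (v 0) := e01
  have w2 : T.w (v 2) = T.w (v 0) := e12.trans w1
  have w3 : T.w (v 3) = T.w (v 0) := e23.trans w2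
  have w4 : T.w (v 4) = T.w (v 0) := e34.trans w3
  have w5 : T.w (v 5) = T.w (v 0) := e25.trans w2
  have w0 : T.w (v 0) = T.w (v 0) := rfl
  have a01 : T.a (v 0) (v 1) = T.w (v 0) :=
    (H28NT.a_eq_w T (by omega) (hne 0 1 (by decide)) (hv _) (hv _) h01 e01).trans w0
  have b01 : T.a (v 1) (v 0) = T.w (v 0) := by rw [H28NT.a_comm]; exact a01
  have a12 : T.a (v 1) (v 2) = T.w (v 0) :=
    (H28NT.a_eq_w T (by omega) (hne 1 2 (by decide)) (hv _) (hv _) h12 e12).trans w1
  have b12 : T.a (v 2) (v 1) = T.w (v 0) := by rw [H28NT.a_comm]; exact a12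
  have a23 : T.a (v 2) (v 3) = T.w (v 0) :=
    (H28NT.a_eq_w T (by omega) (hne 2 3 (by decide)) (hv _) (hv _) h23 e23).trans w2
  have b23 : T.a (v 3) (v 2) = T.w (v 0) := by rw [H28NT.a_comm]; exact a23
  have a34 : T.a (v 3) (v 4) = T.w (v 0) :=
    (H28NT.a_eq_w T (by omega) (hne 3 4 (by decide)) (hv _) (hv _) h34 e34).trans w3
  have b34 : T.a (v 4) (v 3) = T.w (v 0) := by rw [H28NT.a_comm]; exact a34
  have a25 : T.a (v 2) (v 5) = T.w (v 0) :=
    (H28NT.a_eq_w T (by omega) (hne 2 5 (by decide)) (hv _) (hv _) h25 e25).trans w2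
  have b25 : T.a (v 5) (v 2) = T.w (v 0) := by rw [H28NT.a_comm]; exact a25
  have hz : ∀ p < 6, ∀ q < 6, p ≠ q → (p, q) ∉ ({(0, 1), (1, 2), (2, 3), (3, 4), (2, 5)} : Finset (ℕ × ℕ)) →
      (q, p) ∉ ({(0, 1), (1, 2), (2, 3), (3, 4), (2, 5)} : Finset (ℕ × ℕ)) → T.a (H28NT.vN v p) (H28NT.vN v q) = 0 :=
    fun p hp q hq hpq h1 h2 => H28NT.no_other_edge T hn (H28NT.vN_injOn v)
      (H28NT.vN_minusTwo T hv) {(0, 1), (1, 2), (2, 3), (3, 4), (2, 5)} (by decide)
      (by simp only [Finset.mem_insert, Finset.mem_singleton, forall_eq_or_imp, forall_eq]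
          exact ⟨h01, h12, h23, h34, h25⟩)
      (by decide) hp hq hpq h1 h2
  refine ⟨T.w (v 0), fun j => by fin_cases j <;> assumption,
    a01,
    a12,
    a23,
    a34,
    a25,
    hz 0 (by decide) 2 (by decide) (by decide) (by decide) (by decide),
    hz 0 (by decide) 3 (by decide) (by decide) (by decide) (by decide),
    hz 0 (by decide) 4 (by decide) (by decide) (by decide) (by decide),
    hz 0 (by decide) 5 (by decide) (by decide) (by decide) (by decide),
    hz 1 (by decide) 3 (by decide) (by decide) (by decide) (by decide),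
    hz 1 (by decide) 4 (by decide) (by decide) (by decide) (by decide),
    hz 1 (by decide) 5 (by decide) (by decide) (by decide) (by decide),
    hz 2 (by decide) 4 (by decide) (by decide) (by decide) (by decide),
    hz 3 (by decide) 5 (by decide) (by decide) (by decide) (by decide),
    hz 4 (by decide) 5 (by decide) (by decide) (by decide) (by decide),
    H28NT.m_le_one T (hne 0 1 (by decide)) (hv _) w0 a01,
    H28NT.m_le_two T (hne 1 0 (by decide)) (hne 1 2 (by decide)) (hne 0 2 (by decide)) (hv _) w1 b01 a12,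
    H28NT.m_le_three T (hne 2 1 (by decide)) (hne 2 3 (by decide)) (hne 2 5 (by decide)) (hne 1 3 (by decide)) (hne 1 5 (by decide)) (hne 3 5 (by decide)) (hv _) w2 b12 a23 a25,
    H28NT.m_le_two T (hne 3 2 (by decide)) (hne 3 4 (by decide)) (hne 2 4 (by decide)) (hv _) w3 b23 a34,
    H28NT.m_le_one T (hne 4 3 (by decide)) (hv _) w4 b34,
    H28NT.m_le_one T (hne 5 2 (by decide)) (hv _) w5 b25⟩

end Groth.Agent.S7348
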