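import Groth.Statements.S7350
import Groth.Agent.H28NT.Tree

set_option autoImplicit false
open Finset
open Models Models.NumericalType

namespace Groth.Agent.S7350

/-- Classification of proper subgraphs of type E8 (a chain i_1 … i_7 with i_8 joined to i_5): let T be a
numerical type on n > 8 indices and i_1, …, i_8 distinct (-2)-indices with a_{12}, a_{23}, a_{34},
a_{45}, a_{56}, a_{67}, a_{58} nonzero. Then for some integer w all w_{i_j} equal w, these
intersection numbers equal w, all other a_{i_j i_k} (j ≠ k) vanish, and 2 m_1 ≥ m_2, 2 m_2 ≥ m_1 +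
m_3, 2 m_3 ≥ m_2 + m_4, 2 m_4 ≥ m_3 + m_5, 2 m_5 ≥ m_4 + m_6 + m_8, 2 m_6 ≥ m_5 + m_7, 2 m_7 ≥ m_6,
2 m_8 ≥ m_5. (The published statement lists a_{65} and a_{57} among the nonzero entries, which
contradicts its own conclusion a_{57} = 0; this row uses the edges of the E8 graph, a_{67} and
a_{58}, as the pictured graph and the matrix give them.) -/
theorem result {n : ℕ} (T : Models.NumericalType n) (hn : 8 < n)
    (v : Fin 8 ↪ Fin n) (hv : ∀ j, T.IsMinusTwo (v j)) (h01 : T.a (v 0) (v 1) ≠ 0) (h12 : T.a (v 1) (v 2) ≠ 0) (h23 : T.a (v 2) (v 3) ≠ 0) (h34 : T.a (v 3) (v 4) ≠ 0) (h45 : T.a (v 4) (v 5) ≠ 0) (h56 : T.a (v 5) (v 6) ≠ 0) (h47 : T.a (v 4) (v 7) ≠ 0) :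
    ∃ w : ℤ, (∀ j : Fin 8, T.w (v j) = w) ∧
      T.a (v 0) (v 1) = w ∧
      T.a (v 1) (v 2) = w ∧
      T.a (v 2) (v 3) = w ∧
      T.a (v 3) (v 4) = w ∧
      T.a (v 4) (v 5) = w ∧
      T.a (v 5) (v 6) = w ∧
      T.a (v 4) (v 7) = w ∧
      T.a (v 0) (v 2) = 0 ∧
      T.a (v 0) (v 3) = 0 ∧
      T.a (v 0) (v 4) = 0 ∧
      T.a (v 0) (v 5) = 0 ∧
      T.a (v 0) (v 6) = 0 ∧
      T.a (v 0) (v 7) = 0 ∧
      T.a (v 1) (v 3) = 0 ∧
      T.a (v 1) (v 4) = 0 ∧
      T.a (v 1) (v 5) = 0 ∧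
      T.a (v 1) (v 6) = 0 ∧
      T.a (v 1) (v 7) = 0 ∧
      T.a (v 2) (v 4) = 0 ∧
      T.a (v 2) (v 5) = 0 ∧
      T.a (v 2) (v 6) = 0 ∧
      T.a (v 2) (v 7) = 0 ∧
      T.a (v 3) (v 5) = 0 ∧
      T.a (v 3) (v 6) = 0 ∧
      T.a (v 3) (v 7) = 0 ∧
      T.a (v 4) (v 6) = 0 ∧
      T.a (v 5) (v 7) = 0 ∧
      T.a (v 6) (v 7) = 0 ∧
      T.m (v 1) ≤ 2 * T.m (v 0) ∧
      T.m (v 0) + T.m (v 2) ≤ 2 * T.m (v 1) ∧
      T.m (v 1) + T.m (v 3) ≤ 2 * T.m (v 2) ∧
      T.m (v 2) + T.m (v 4) ≤ 2 * T.m (v 3) ∧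
      T.m (v 3) + T.m (v 5) + T.m (v 7) ≤ 2 * T.m (v 4) ∧
      T.m (v 4) + T.m (v 6) ≤ 2 * T.m (v 5) ∧
      T.m (v 5) ≤ 2 * T.m (v 6) ∧
      T.m (v 4) ≤ 2 * T.m (v 7) := by
  have hne : ∀ p q : Fin 8, p ≠ q → v p ≠ v q := fun p q h h' => h (v.injective h')
  have c01 : T.a (v 1) (v 0) ≠ 0 := by rw [H28NT.a_comm]; exact h01
  have c12 : T.a (v 2) (v 1) ≠ 0 := by rw [H28NT.a_comm]; exact h12
  have c23 : T.a (v 3) (v 2) ≠ 0 := by rw [H28NT.a_comm]; exact h23
  have c34 : T.a (v 4) (v 3) ≠ 0 := by rw [H28NT.a_comm]; exact h34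
  have c45 : T.a (v 5) (v 4) ≠ 0 := by rw [H28NT.a_comm]; exact h45
  have c56 : T.a (v 6) (v 5) ≠ 0 := by rw [H28NT.a_comm]; exact h56
  have c47 : T.a (v 7) (v 4) ≠ 0 := by rw [H28NT.a_comm]; exact h47
  have e01 : T.w (v 1) = T.w (v 0) := by
    have h := H28NT.branch_list T (v := v) hn hv [0, 1, 2, 3, 4, 5, 7] (by decide) (by decide) (by decide)
      (fun p hp => by
        have hp' : p < 4 := hp
        interval_cases p <;> assumption)
      h45 h47
    exact h.symm
  have e12 : T.w (v 2) = T.w (v 1) := by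
    have h := H28NT.branch_list T (v := v) hn hv [1, 2, 3, 4, 5, 7] (by decide) (by decide) (by decide)
      (fun p hp => by
        have hp' : p < 3 := hp
        interval_cases p <;> assumption)
      h45 h47
    exact h.symm
  have e23 : T.w (v 3) = T.w (v 2) := by
    have h := H28NT.branch_list T (v := v) hn hv [2, 3, 4, 5, 7] (by decide) (by decide) (by decide)
      (fun p hp => by
        have hp' : p < 2 := hp
        interval_cases p <;> assumption)
      h45 h47
    exact h.symm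
  have e34 : T.w (v 4) = T.w (v 3) := by
    have h := H28NT.branch_list T (v := v) hn hv [3, 4, 5, 7] (by decide) (by decide) (by decide)
      (fun p hp => by
        have hp' : p < 1 := hp
        interval_cases p <;> assumption)
      h45 h47
    exact h.symm
  have e45 : T.w (v 5) = T.w (v 4) := by
    have h := H28NT.branch_list T (v := v) hn hv [5, 4, 3, 7] (by decide) (by decide) (by decide)
      (fun p hp => by
        have hp' : p < 1 := hp
        interval_cases p <;> assumption)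
      c34 h47
    exact h
  have e56 : T.w (v 6) = T.w (v 5) := by
    have h := H28NT.branch_list T (v := v) hn hv [6, 5, 4, 3, 7] (by decide) (by decide) (by decide)
      (fun p hp => by
        have hp' : p < 2 := hp
        interval_cases p <;> assumption)
      c34 h47
    exact h
  have e47 : T.w (v 7) = T.w (v 4) := by
    have h := H28NT.branch_list T (v := v) hn hv [7, 4, 3, 5] (by decide) (by decide) (by decide)
      (fun p hp => by
        have hp' : p < 1 := hp
        interval_cases p <;> assumption)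
      c34 h45
    exact h
  have w1 : T.w (v 1) = T.w (v 0) := e01
  have w2 : T.w (v 2) = T.w (v 0) := e12.trans w1
  have w3 : T.w (v 3) = T.w (v 0) := e23.trans w2
  have w4 : T.w (v 4) = T.w (v 0) := e34.trans w3
  have w5 : T.w (v 5) = T.w (v 0) := e45.trans w4
  have w6 : T.w (v 6) = T.w (v 0) := e56.trans w5
  have w7 : T.w (v 7) = T.w (v 0) := e47.trans w4
  have w0 : T.w (v 0) = T.w (v 0) := rfl
  have a01 : T.a (v 0) (v 1) = T.w (v 0) :=
    (H28NT.a_eq_w T (by omega) (hne 0 1 (by decide)) (hv _) (hv _) h01 e01).trans w0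
  have b01 : T.a (v 1) (v 0) = T.w (v 0) := by rw [H28NT.a_comm]; exact a01
  have a12 : T.a (v 1) (v 2) = T.w (v 0) :=
    (H28NT.a_eq_w T (by omega) (hne 1 2 (by decide)) (hv _) (hv _) h12 e12).trans w1
  have b12 : T.a (v 2) (v 1) = T.w (v 0) := by rw [H28NT.a_comm]; exact a12
  have a23 : T.a (v 2) (v 3) = T.w (v 0) :=
    (H28NT.a_eq_w T (by omega) (hne 2 3 (by decide)) (hv _) (hv _) h23 e23).trans w2
  have b23 : T.a (v 3) (v 2) = T.w (v 0) := by rw [H28NT.a_comm]; exact a23
  have a34 : T.a (v 3) (v 4) = T.w (v 0) :=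
    (H28NT.a_eq_w T (by omega) (hne 3 4 (by decide)) (hv _) (hv _) h34 e34).trans w3
  have b34 : T.a (v 4) (v 3) = T.w (v 0) := by rw [H28NT.a_comm]; exact a34
  have a45 : T.a (v 4) (v 5) = T.w (v 0) :=
    (H28NT.a_eq_w T (by omega) (hne 4 5 (by decide)) (hv _) (hv _) h45 e45).trans w4
  have b45 : T.a (v 5) (v 4) = T.w (v 0) := by rw [H28NT.a_comm]; exact a45
  have a56 : T.a (v 5) (v 6) = T.w (v 0) :=
    (H28NT.a_eq_w T (by omega) (hne 5 6 (by decide)) (hv _) (hv _) h56 e56).trans w5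
  have b56 : T.a (v 6) (v 5) = T.w (v 0) := by rw [H28NT.a_comm]; exact a56
  have a47 : T.a (v 4) (v 7) = T.w (v 0) :=
    (H28NT.a_eq_w T (by omega) (hne 4 7 (by decide)) (hv _) (hv _) h47 e47).trans w4
  have b47 : T.a (v 7) (v 4) = T.w (v 0) := by rw [H28NT.a_comm]; exact a47
  have hz : ∀ p < 8, ∀ q < 8, p ≠ q → (p, q) ∉ ({(0, 1), (1, 2), (2, 3), (3, 4), (4, 5), (5, 6), (4, 7)} : Finset (ℕ × ℕ)) →
      (q, p) ∉ ({(0, 1), (1, 2), (2, 3), (3, 4), (4, 5), (5, 6), (4, 7)} : Finset (ℕ × ℕ)) → T.a (H28NT.vN v p) (H28NT.vN v q) = 0 :=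
    fun p hp q hq hpq h1 h2 => H28NT.no_other_edge T hn (H28NT.vN_injOn v)
      (H28NT.vN_minusTwo T hv) {(0, 1), (1, 2), (2, 3), (3, 4), (4, 5), (5, 6), (4, 7)} (by decide)
      (by simp only [Finset.mem_insert, Finset.mem_singleton, forall_eq_or_imp, forall_eq]
          exact ⟨h01, h12, h23, h34, h45, h56, h47⟩)
      (by decide) hp hq hpq h1 h2
  refine ⟨T.w (v 0), fun j => by fin_cases j <;> assumption,
    a01,
    a12,
    a23,
    a34,
    a45,
    a56,
    a47,
    hz 0 (by decide) 2 (by decide) (by decide) (by decide) (by decide),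
    hz 0 (by decide) 3 (by decide) (by decide) (by decide) (by decide),
    hz 0 (by decide) 4 (by decide) (by decide) (by decide) (by decide),
    hz 0 (by decide) 5 (by decide) (by decide) (by decide) (by decide),
    hz 0 (by decide) 6 (by decide) (by decide) (by decide) (by decide),
    hz 0 (by decide) 7 (by decide) (by decide) (by decide) (by decide),
    hz 1 (by decide) 3 (by decide) (by decide) (by decide) (by decide),
    hz 1 (by decide) 4 (by decide) (by decide) (by decide) (by decide),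
    hz 1 (by decide) 5 (by decide) (by decide) (by decide) (by decide),
    hz 1 (by decide) 6 (by decide) (by decide) (by decide) (by decide),
    hz 1 (by decide) 7 (by decide) (by decide) (by decide) (by decide),
    hz 2 (by decide) 4 (by decide) (by decide) (by decide) (by decide),
    hz 2 (by decide) 5 (by decide) (by decide) (by decide) (by decide),
    hz 2 (by decide) 6 (by decide) (by decide) (by decide) (by decide),
    hz 2 (by decide) 7 (by decide) (by decide) (by decide) (by decide),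
    hz 3 (by decide) 5 (by decide) (by decide) (by decide) (by decide),
    hz 3 (by decide) 6 (by decide) (by decide) (by decide) (by decide),
    hz 3 (by decide) 7 (by decide) (by decide) (by decide) (by decide),
    hz 4 (by decide) 6 (by decide) (by decide) (by decide) (by decide),
    hz 5 (by decide) 7 (by decide) (by decide) (by decide) (by decide),
    hz 6 (by decide) 7 (by decide) (by decide) (by decide) (by decide),
    H28NT.m_le_one T (hne 0 1 (by decide)) (hv _) w0 a01,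
    H28NT.m_le_two T (hne 1 0 (by decide)) (hne 1 2 (by decide)) (hne 0 2 (by decide)) (hv _) w1 b01 a12,
    H28NT.m_le_two T (hne 2 1 (by decide)) (hne 2 3 (by decide)) (hne 1 3 (by decide)) (hv _) w2 b12 a23,
    H28NT.m_le_two T (hne 3 2 (by decide)) (hne 3 4 (by decide)) (hne 2 4 (by decide)) (hv _) w3 b23 a34,
    H28NT.m_le_three T (hne 4 3 (by decide)) (hne 4 5 (by decide)) (hne 4 7 (by decide)) (hne 3 5 (by decide)) (hne 3 7 (by decide)) (hne 5 7 (by decide)) (hv _) w4 b34 a45 a47,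
    H28NT.m_le_two T (hne 5 4 (by decide)) (hne 5 6 (by decide)) (hne 4 6 (by decide)) (hv _) w5 b45 a56,
    H28NT.m_le_one T (hne 6 5 (by decide)) (hv _) w6 b56,
    H28NT.m_le_one T (hne 7 4 (by decide)) (hv _) w7 b47⟩

end Groth.Agent.S7350
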