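import Groth.Statements.S7352
import Groth.Agent.H28NT.Rows

set_option autoImplicit false
open Finset
open Models Models.NumericalType

namespace Groth.Agent.S7352

/-- Classification of proper subgraphs which are chains of four vertices: let T be a numerical type on n
> 4 indices and i_1, …, i_4 distinct (-2)-indices with a_{i_j i_{j+1}} nonzero for j < 4. Then
a_{i_j i_l} = 0 for |j - l| ≥ 2 and, after possibly reversing the order of the indices, for some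
integer w one of the following holds: (A4) w = (w, w, w, w), consecutive a = (w, w, w), with 2m_1 ≥
m_2, 2m_2 ≥ m_1 + m_3, 2m_3 ≥ m_2 + m_4, 2m_4 ≥ m_3; (C4) w = (w, w, w, 2w), consecutive a = (w, w,
2w), with 2m_1 ≥ m_2, 2m_2 ≥ m_1 + m_3, 2m_3 ≥ m_2 + 2m_4, 2m_4 ≥ m_3; (B4) w = (2w, 2w, 2w, w),
consecutive a = (2w, 2w, 2w), with 2m_1 ≥ m_2, 2m_2 ≥ m_1 + m_3, 2m_3 ≥ m_2 + m_4, m_4 ≥ m_3; (F4) w
= (w, w, 2w, 2w), consecutive a = (w, 2w, 2w), with 2m_1 ≥ m_2, 2m_2 ≥ m_1 + 2m_3, 2m_3 ≥ m_2 + m_4,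
2m_4 ≥ m_3. -/
theorem result {n : ℕ} (T : Models.NumericalType n) (hn : 4 < n)
    (v : Fin 4 ↪ Fin n) (hv : ∀ j, T.IsMinusTwo (v j)) (h01 : T.a (v 0) (v 1) ≠ 0) (h12 : T.a (v 1) (v 2) ≠ 0) (h23 : T.a (v 2) (v 3) ≠ 0) :
    (T.a (v 0) (v 2) = 0 ∧ T.a (v 0) (v 3) = 0 ∧ T.a (v 1) (v 3) = 0) ∧
    ∃ (u : Fin 4 → Fin n) (w : ℤ), ((∀ j, u j = v j) ∨ (∀ j, u j = v (Fin.rev j))) ∧
      ((T.w (u 0) = w ∧ T.w (u 1) = w ∧ T.w (u 2) = w ∧ T.w (u 3) = w ∧ T.a (u 0) (u 1) = w ∧ T.a (u 1) (u 2) = w ∧ T.a (u 2) (u 3) = w ∧ T.m (u 1) ≤ 2 * T.m (u 0) ∧ T.m (u 0) + T.m (u 2) ≤ 2 * T.m (u 1) ∧ T.m (u 1) + T.m (u 3) ≤ 2 * T.m (u 2) ∧ T.m (u 2) ≤ 2 * T.m (u 3)) ∨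
      (T.w (u 0) = w ∧ T.w (u 1) = w ∧ T.w (u 2) = w ∧ T.w (u 3) = 2 * w ∧ T.a (u 0) (u 1) = w ∧ T.a (u 1) (u 2) = w ∧ T.a (u 2) (u 3) = 2 * w ∧ T.m (u 1) ≤ 2 * T.m (u 0) ∧ T.m (u 0) + T.m (u 2) ≤ 2 * T.m (u 1) ∧ T.m (u 1) + 2 * T.m (u 3) ≤ 2 * T.m (u 2) ∧ T.m (u 2) ≤ 2 * T.m (u 3)) ∨
      (T.w (u 0) = 2 * w ∧ T.w (u 1) = 2 * w ∧ T.w (u 2) = 2 * w ∧ T.w (u 3) = w ∧ T.a (u 0) (u 1) = 2 * w ∧ T.a (u 1) (u 2) = 2 * w ∧ T.a (u 2) (u 3) = 2 * w ∧ T.m (u 1) ≤ 2 * T.m (u 0) ∧ T.m (u 0) + T.m (u 2) ≤ 2 * T.m (u 1) ∧ T.m (u 1) + T.m (u 3) ≤ 2 * T.m (u 2) ∧ T.m (u 2) ≤ T.m (u 3)) ∨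
      (T.w (u 0) = w ∧ T.w (u 1) = w ∧ T.w (u 2) = 2 * w ∧ T.w (u 3) = 2 * w ∧ T.a (u 0) (u 1) = w ∧ T.a (u 1) (u 2) = 2 * w ∧ T.a (u 2) (u 3) = 2 * w ∧ T.m (u 1) ≤ 2 * T.m (u 0) ∧ T.m (u 0) + 2 * T.m (u 2) ≤ 2 * T.m (u 1) ∧ T.m (u 1) + T.m (u 3) ≤ 2 * T.m (u 2) ∧ T.m (u 2) ≤ 2 * T.m (u 3))) := by
  have cm := H28NT.a_comm T
  have c10 : T.a (v 1) (v 0) ≠ 0 := by rw [cm]; exact h01
  have c21 : T.a (v 2) (v 1) ≠ 0 := by rw [cm]; exact h12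
  have c32 : T.a (v 3) (v 2) ≠ 0 := by rw [cm]; exact h23
  have hne : ∀ p q : Fin 4, p ≠ q → v p ≠ v q := fun p q h h' => h (v.injective h')
  have hz : ∀ p < 4, ∀ q < 4, p ≠ q → (p, q) ∉ ({(0, 1), (1, 2), (2, 3)} : Finset (ℕ × ℕ)) →
      (q, p) ∉ ({(0, 1), (1, 2), (2, 3)} : Finset (ℕ × ℕ)) → T.a (H28NT.vN v p) (H28NT.vN v q) = 0 :=
    fun p hp q hq hpq h1 h2 => H28NT.no_other_edge T hn (H28NT.vN_injOn v)
      (H28NT.vN_minusTwo T hv) {(0, 1), (1, 2), (2, 3)} (by decide)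
      (by simp only [Finset.mem_insert, Finset.mem_singleton, forall_eq_or_imp, forall_eq]
          exact ⟨h01, h12, h23⟩)
      (by decide) hp hq hpq h1 h2
  refine ⟨⟨hz 0 (by decide) 2 (by decide) (by decide) (by decide) (by decide),
    hz 0 (by decide) 3 (by decide) (by decide) (by decide) (by decide),
    hz 1 (by decide) 3 (by decide) (by decide) (by decide) (by decide)⟩, ?_⟩
  -- oriented statement
  have std : ∀ u : Fin 4 → Fin n, (∀ p q, p ≠ q → u p ≠ u q) → (∀ p, T.IsMinusTwo (u p)) →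
      T.a (u 0) (u 1) ≠ 0 → T.a (u 1) (u 2) ≠ 0 → T.a (u 2) (u 3) ≠ 0 →
      T.w (u 0) = T.w (u 1) → (T.w (u 2) = 2 * T.w (u 1) ∧ T.w (u 3) = T.w (u 2) ∨ T.w (u 2) = T.w (u 1) ∧
        (T.w (u 3) = T.w (u 2) ∨ T.w (u 3) = 2 * T.w (u 2) ∨ T.w (u 2) = 2 * T.w (u 3))) → ∃ w : ℤ,
        ((T.w (u 0) = w ∧ T.w (u 1) = w ∧ T.w (u 2) = w ∧ T.w (u 3) = w ∧ T.a (u 0) (u 1) = w ∧ T.a (u 1) (u 2) = w ∧ T.a (u 2) (u 3) = w ∧ T.m (u 1) ≤ 2 * T.m (u 0) ∧ T.m (u 0) + T.m (u 2) ≤ 2 * T.m (u 1) ∧ T.m (u 1) + T.m (u 3) ≤ 2 * T.m (u 2) ∧ T.m (u 2) ≤ 2 * T.m (u 3)) ∨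
        (T.w (u 0) = w ∧ T.w (u 1) = w ∧ T.w (u 2) = w ∧ T.w (u 3) = 2 * w ∧ T.a (u 0) (u 1) = w ∧ T.a (u 1) (u 2) = w ∧ T.a (u 2) (u 3) = 2 * w ∧ T.m (u 1) ≤ 2 * T.m (u 0) ∧ T.m (u 0) + T.m (u 2) ≤ 2 * T.m (u 1) ∧ T.m (u 1) + 2 * T.m (u 3) ≤ 2 * T.m (u 2) ∧ T.m (u 2) ≤ 2 * T.m (u 3)) ∨
        (T.w (u 0) = 2 * w ∧ T.w (u 1) = 2 * w ∧ T.w (u 2) = 2 * w ∧ T.w (u 3) = w ∧ T.a (u 0) (u 1) = 2 * w ∧ T.a (u 1) (u 2) = 2 * w ∧ T.a (u 2) (u 3) = 2 * w ∧ T.m (u 1) ≤ 2 * T.m (u 0) ∧ T.m (u 0) + T.m (u 2) ≤ 2 * T.m (u 1) ∧ T.m (u 1) + T.m (u 3) ≤ 2 * T.m (u 2) ∧ T.m (u 2) ≤ T.m (u 3)) ∨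
        (T.w (u 0) = w ∧ T.w (u 1) = w ∧ T.w (u 2) = 2 * w ∧ T.w (u 3) = 2 * w ∧ T.a (u 0) (u 1) = w ∧ T.a (u 1) (u 2) = 2 * w ∧ T.a (u 2) (u 3) = 2 * w ∧ T.m (u 1) ≤ 2 * T.m (u 0) ∧ T.m (u 0) + 2 * T.m (u 2) ≤ 2 * T.m (u 1) ∧ T.m (u 1) + T.m (u 3) ≤ 2 * T.m (u 2) ∧ T.m (u 2) ≤ 2 * T.m (u 3))) := by
    intro u hu hv' e01 e12 e23 w01 hcase
    have A01 := H28NT.a_eq_max T (by omega) (hu 0 1 (by decide)) (hv' _) (hv' _) e01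
    have A12 := H28NT.a_eq_max T (by omega) (hu 1 2 (by decide)) (hv' _) (hv' _) e12
    have A23 := H28NT.a_eq_max T (by omega) (hu 2 3 (by decide)) (hv' _) (hv' _) e23
    have A10 := cm (u 1) (u 0)
    have A21 := cm (u 2) (u 1)
    have A32 := cm (u 3) (u 2)
    have p1 := T.w_pos (u 1)
    have p3 := T.w_pos (u 3)
    rcases hcase with ⟨a, b⟩ | ⟨a, b | b | b⟩
    · refine ⟨T.w (u 1), .inr (.inr (.inr ⟨w01, rfl, a, b.trans a, by omega, by omega, by omega, ?_, ?_, ?_, ?_⟩))⟩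
      · linarith [H28NT.row1q T 1 1 p1 (hu 0 1 (by decide)) (hv' 0) (by omega) (by omega)]
      · linarith [H28NT.row2q T 1 2 1 p1 (hu 1 0 (by decide)) (hu 1 2 (by decide)) (hu 0 2 (by decide)) (hv' 1) (by omega) (by omega) (by omega)]
      · linarith [H28NT.row2q T 2 2 2 p1 (hu 2 1 (by decide)) (hu 2 3 (by decide)) (hu 1 3 (by decide)) (hv' 2) (by omega) (by omega) (by omega)]
      · linarith [H28NT.row1q T 2 2 p1 (hu 3 2 (by decide)) (hv' 3) (by omega) (by omega)]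
    · refine ⟨T.w (u 1), .inl ⟨w01, rfl, a, b.trans a, by omega, by omega, by omega, ?_, ?_, ?_, ?_⟩⟩
      · linarith [H28NT.row1q T 1 1 p1 (hu 0 1 (by decide)) (hv' 0) (by omega) (by omega)]
      · linarith [H28NT.row2q T 1 1 1 p1 (hu 1 0 (by decide)) (hu 1 2 (by decide)) (hu 0 2 (by decide)) (hv' 1) (by omega) (by omega) (by omega)]
      · linarith [H28NT.row2q T 1 1 1 p1 (hu 2 1 (by decide)) (hu 2 3 (by decide)) (hu 1 3 (by decide)) (hv' 2) (by omega) (by omega) (by omega)]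
      · linarith [H28NT.row1q T 1 1 p1 (hu 3 2 (by decide)) (hv' 3) (by omega) (by omega)]
    · refine ⟨T.w (u 1), .inr (.inl ⟨w01, rfl, a, by omega, by omega, by omega, by omega, ?_, ?_, ?_, ?_⟩)⟩
      · linarith [H28NT.row1q T 1 1 p1 (hu 0 1 (by decide)) (hv' 0) (by omega) (by omega)]
      · linarith [H28NT.row2q T 1 1 1 p1 (hu 1 0 (by decide)) (hu 1 2 (by decide)) (hu 0 2 (by decide)) (hv' 1) (by omega) (by omega) (by omega)]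
      · linarith [H28NT.row2q T 1 2 1 p1 (hu 2 1 (by decide)) (hu 2 3 (by decide)) (hu 1 3 (by decide)) (hv' 2) (by omega) (by omega) (by omega)]
      · linarith [H28NT.row1q T 2 2 p1 (hu 3 2 (by decide)) (hv' 3) (by omega) (by omega)]
    · refine ⟨T.w (u 3), .inr (.inr (.inl ⟨by omega, by omega, b, rfl, by omega, by omega, by omega, ?_, ?_, ?_, ?_⟩))⟩
      · linarith [H28NT.row1q T 2 2 p3 (hu 0 1 (by decide)) (hv' 0) (by omega) (by omega)]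
      · linarith [H28NT.row2q T 2 2 2 p3 (hu 1 0 (by decide)) (hu 1 2 (by decide)) (hu 0 2 (by decide)) (hv' 1) (by omega) (by omega) (by omega)]
      · linarith [H28NT.row2q T 2 2 2 p3 (hu 2 1 (by decide)) (hu 2 3 (by decide)) (hu 1 3 (by decide)) (hv' 2) (by omega) (by omega) (by omega)]
      · linarith [H28NT.row1q T 2 1 p3 (hu 3 2 (by decide)) (hv' 3) (by omega) (by omega)]
  have n01 := hne 0 1 (by decide); have n02 := hne 0 2 (by decide); have n12 := hne 1 2 (by decide)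
  have n13 := hne 1 3 (by decide); have n23 := hne 2 3 (by decide)
  have N1 := H28NT.chain3_not_both T (by omega) n01 n12 n02 (hv 0) (hv 1) (hv 2) h01 h12
  have N2 := H28NT.chain3_not_both T (by omega) n12 n23 n13 (hv 1) (hv 2) (hv 3) h12 h23
  have N3 : T.w (v 0) ≠ T.w (v 1) → T.w (v 2) = T.w (v 3) :=
    H28NT.not_both_ends T (k := 1) (v := H28NT.vN v) hn (H28NT.vN_injOn v) (H28NT.vN_minusTwo T hv)
      (fun p hp => by interval_cases p <;> assumption)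
  have E01 := H28NT.chain_edge T (by omega) n01 n12 n02 (hv 0) (hv 1) (hv 2) h01 h12
  have E12 := H28NT.chain_edge T (by omega) n12 n23 n13 (hv 1) (hv 2) (hv 3) h12 h23
  have E23 := H28NT.chain_edge T (by omega) n23.symm n12.symm n13.symm (hv 3) (hv 2) (hv 1) c32 c21
  have hrev : (∀ p q : Fin 4, p ≠ q → v (Fin.rev p) ≠ v (Fin.rev q)) :=
    fun p q h => hne _ _ fun h' => h (Fin.rev_injective h')
  by_cases hw : T.w (v 0) = T.w (v 1) ∧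
      (T.w (v 2) = 2 * T.w (v 1) ∧ T.w (v 3) = T.w (v 2) ∨ T.w (v 2) = T.w (v 1) ∧
        (T.w (v 3) = T.w (v 2) ∨ T.w (v 3) = 2 * T.w (v 2) ∨ T.w (v 2) = 2 * T.w (v 3)))
  · obtain ⟨w, h⟩ := std v hne hv h01 h12 h23 hw.1 hw.2
    exact ⟨v, w, .inl fun j => rfl, h⟩
  · obtain ⟨w, h⟩ := std (fun j => v (Fin.rev j)) hrev (fun p => hv _) c32 c21 c10
      (show T.w (v 3) = T.w (v 2) by omega)
      (show T.w (v 1) = 2 * T.w (v 2) ∧ T.w (v 0) = T.w (v 1) ∨ T.w (v 1) = T.w (v 2) ∧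
        (T.w (v 0) = T.w (v 1) ∨ T.w (v 0) = 2 * T.w (v 1) ∨ T.w (v 1) = 2 * T.w (v 0)) by omega)
    exact ⟨fun j => v (Fin.rev j), w, .inr fun j => rfl, h⟩

end Groth.Agent.S7352
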