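import Groth.Statements.S7353
import Groth.Agent.H28NT.Rows

set_option autoImplicit false
open Finset
open Models Models.NumericalType

namespace Groth.Agent.S7353

/-- Classification of proper subgraphs which are chains of five vertices: let T be a numerical type on n
> 5 indices and i_1, …, i_5 distinct (-2)-indices with a_{i_j i_{j+1}} nonzero for j < 5. Then
a_{i_j i_l} = 0 for |j - l| ≥ 2 and, after possibly reversing the order of the indices, for some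
integer w one of the following holds: (A5) w = (w, w, w, w, w), consecutive a = (w, w, w, w), with
2m_1 ≥ m_2, 2m_2 ≥ m_1 + m_3, 2m_3 ≥ m_2 + m_4, 2m_4 ≥ m_3 + m_5, 2m_5 ≥ m_4; (C5) w = (w, w, w, w,
2w), consecutive a = (w, w, w, 2w), with 2m_1 ≥ m_2, 2m_2 ≥ m_1 + m_3, 2m_3 ≥ m_2 + m_4, 2m_4 ≥ m_3
+ 2m_5, 2m_5 ≥ m_4; (B5) w = (2w, 2w, 2w, 2w, w), consecutive a = (2w, 2w, 2w, 2w), with 2m_1 ≥ m_2,
2m_2 ≥ m_1 + m_3, 2m_3 ≥ m_2 + m_4, 2m_4 ≥ m_3 + m_5, m_5 ≥ m_4. (The inequalities are those given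
by the rows Σ_l a_{kl} m_l = 0 of the displayed matrices; the published text has 2m_3 ≥ m_2 + 2m_4
and 2m_4 ≥ m_3 + m_5 in case C5 and m_4 ≥ m_3 in case B5, of which the first does not follow — for
the numerical type with six indices, weights (1,1,1,1,2,1), chain intersection numbers (1,1,1,2)
plus a_{16} = 1, a_{66} = -1 and multiplicities (2,2,2,2,1,2) one has 2m_3 = 4 < m_2 + 2m_4 = 6 — so
the matrix inequalities are stated.) -/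
theorem result {n : ℕ} (T : Models.NumericalType n) (hn : 5 < n)
    (v : Fin 5 ↪ Fin n) (hv : ∀ j, T.IsMinusTwo (v j)) (h01 : T.a (v 0) (v 1) ≠ 0) (h12 : T.a (v 1) (v 2) ≠ 0) (h23 : T.a (v 2) (v 3) ≠ 0) (h34 : T.a (v 3) (v 4) ≠ 0) :
    (T.a (v 0) (v 2) = 0 ∧ T.a (v 0) (v 3) = 0 ∧ T.a (v 0) (v 4) = 0 ∧ T.a (v 1) (v 3) = 0 ∧ T.a (v 1) (v 4) = 0 ∧ T.a (v 2) (v 4) = 0) ∧
    ∃ (u : Fin 5 → Fin n) (w : ℤ), ((∀ j, u j = v j) ∨ (∀ j, u j = v (Fin.rev j))) ∧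
      ((T.w (u 0) = w ∧ T.w (u 1) = w ∧ T.w (u 2) = w ∧ T.w (u 3) = w ∧ T.w (u 4) = w ∧ T.a (u 0) (u 1) = w ∧ T.a (u 1) (u 2) = w ∧ T.a (u 2) (u 3) = w ∧ T.a (u 3) (u 4) = w ∧ T.m (u 1) ≤ 2 * T.m (u 0) ∧ T.m (u 0) + T.m (u 2) ≤ 2 * T.m (u 1) ∧ T.m (u 1) + T.m (u 3) ≤ 2 * T.m (u 2) ∧ T.m (u 2) + T.m (u 4) ≤ 2 * T.m (u 3) ∧ T.m (u 3) ≤ 2 * T.m (u 4)) ∨
      (T.w (u 0) = w ∧ T.w (u 1) = w ∧ T.w (u 2) = w ∧ T.w (u 3) = w ∧ T.w (u 4) = 2 * w ∧ T.a (u 0) (u 1) = w ∧ T.a (u 1) (u 2) = w ∧ T.a (u 2) (u 3) = w ∧ T.a (u 3) (u 4) = 2 * w ∧ T.m (u 1) ≤ 2 * T.m (u 0) ∧ T.m (u 0) + T.m (u 2) ≤ 2 * T.m (u 1) ∧ T.m (u 1) + T.m (u 3) ≤ 2 * T.m (u 2) ∧ T.m (u 2) + 2 * T.m (u 4) ≤ 2 * T.m (u 3) ∧ T.m (u 3) ≤ 2 * T.m (u 4)) ∨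
      (T.w (u 0) = 2 * w ∧ T.w (u 1) = 2 * w ∧ T.w (u 2) = 2 * w ∧ T.w (u 3) = 2 * w ∧ T.w (u 4) = w ∧ T.a (u 0) (u 1) = 2 * w ∧ T.a (u 1) (u 2) = 2 * w ∧ T.a (u 2) (u 3) = 2 * w ∧ T.a (u 3) (u 4) = 2 * w ∧ T.m (u 1) ≤ 2 * T.m (u 0) ∧ T.m (u 0) + T.m (u 2) ≤ 2 * T.m (u 1) ∧ T.m (u 1) + T.m (u 3) ≤ 2 * T.m (u 2) ∧ T.m (u 2) + T.m (u 4) ≤ 2 * T.m (u 3) ∧ T.m (u 3) ≤ T.m (u 4))) := by
  have cm := H28NT.a_comm T
  have c10 : T.a (v 1) (v 0) ≠ 0 := by rw [cm]; exact h01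
  have c21 : T.a (v 2) (v 1) ≠ 0 := by rw [cm]; exact h12
  have c32 : T.a (v 3) (v 2) ≠ 0 := by rw [cm]; exact h23
  have c43 : T.a (v 4) (v 3) ≠ 0 := by rw [cm]; exact h34
  have hne : ∀ p q : Fin 5, p ≠ q → v p ≠ v q := fun p q h h' => h (v.injective h')
  have hz : ∀ p < 5, ∀ q < 5, p ≠ q → (p, q) ∉ ({(0, 1), (1, 2), (2, 3), (3, 4)} : Finset (ℕ × ℕ)) →
      (q, p) ∉ ({(0, 1), (1, 2), (2, 3), (3, 4)} : Finset (ℕ × ℕ)) → T.a (H28NT.vN v p) (H28NT.vN v q) = 0 :=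
    fun p hp q hq hpq h1 h2 => H28NT.no_other_edge T hn (H28NT.vN_injOn v)
      (H28NT.vN_minusTwo T hv) {(0, 1), (1, 2), (2, 3), (3, 4)} (by decide)
      (by simp only [Finset.mem_insert, Finset.mem_singleton, forall_eq_or_imp, forall_eq]
          exact ⟨h01, h12, h23, h34⟩)
      (by decide) hp hq hpq h1 h2
  refine ⟨⟨hz 0 (by decide) 2 (by decide) (by decide) (by decide) (by decide),
    hz 0 (by decide) 3 (by decide) (by decide) (by decide) (by decide),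
    hz 0 (by decide) 4 (by decide) (by decide) (by decide) (by decide),
    hz 1 (by decide) 3 (by decide) (by decide) (by decide) (by decide),
    hz 1 (by decide) 4 (by decide) (by decide) (by decide) (by decide),
    hz 2 (by decide) 4 (by decide) (by decide) (by decide) (by decide)⟩, ?_⟩
  have std : ∀ u : Fin 5 → Fin n, (∀ p q, p ≠ q → u p ≠ u q) → (∀ p, T.IsMinusTwo (u p)) →
      T.a (u 0) (u 1) ≠ 0 → T.a (u 1) (u 2) ≠ 0 → T.a (u 2) (u 3) ≠ 0 → T.a (u 3) (u 4) ≠ 0 →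
      T.w (u 0) = T.w (u 1) → T.w (u 2) = T.w (u 1) → T.w (u 3) = T.w (u 1) →
      (T.w (u 4) = T.w (u 3) ∨ T.w (u 4) = 2 * T.w (u 3) ∨ T.w (u 3) = 2 * T.w (u 4)) → ∃ w : ℤ,
        ((T.w (u 0) = w ∧ T.w (u 1) = w ∧ T.w (u 2) = w ∧ T.w (u 3) = w ∧ T.w (u 4) = w ∧ T.a (u 0) (u 1) = w ∧ T.a (u 1) (u 2) = w ∧ T.a (u 2) (u 3) = w ∧ T.a (u 3) (u 4) = w ∧ T.m (u 1) ≤ 2 * T.m (u 0) ∧ T.m (u 0) + T.m (u 2) ≤ 2 * T.m (u 1) ∧ T.m (u 1) + T.m (u 3) ≤ 2 * T.m (u 2) ∧ T.m (u 2) + T.m (u 4) ≤ 2 * T.m (u 3) ∧ T.m (u 3) ≤ 2 * T.m (u 4)) ∨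
        (T.w (u 0) = w ∧ T.w (u 1) = w ∧ T.w (u 2) = w ∧ T.w (u 3) = w ∧ T.w (u 4) = 2 * w ∧ T.a (u 0) (u 1) = w ∧ T.a (u 1) (u 2) = w ∧ T.a (u 2) (u 3) = w ∧ T.a (u 3) (u 4) = 2 * w ∧ T.m (u 1) ≤ 2 * T.m (u 0) ∧ T.m (u 0) + T.m (u 2) ≤ 2 * T.m (u 1) ∧ T.m (u 1) + T.m (u 3) ≤ 2 * T.m (u 2) ∧ T.m (u 2) + 2 * T.m (u 4) ≤ 2 * T.m (u 3) ∧ T.m (u 3) ≤ 2 * T.m (u 4)) ∨
        (T.w (u 0) = 2 * w ∧ T.w (u 1) = 2 * w ∧ T.w (u 2) = 2 * w ∧ T.w (u 3) = 2 * w ∧ T.w (u 4) = w ∧ T.a (u 0) (u 1) = 2 * w ∧ T.a (u 1) (u 2) = 2 * w ∧ T.a (u 2) (u 3) = 2 * w ∧ T.a (u 3) (u 4) = 2 * w ∧ T.m (u 1) ≤ 2 * T.m (u 0) ∧ T.m (u 0) + T.m (u 2) ≤ 2 * T.m (u 1) ∧ T.m (u 1) + T.m (u 3) ≤ 2 * T.m (u 2) ∧ T.m (u 2) + T.m (u 4) ≤ 2 * T.m (u 3) ∧ T.m (u 3) ≤ T.m (u 4))) := by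
    intro u hu hv' e01 e12 e23 e34 w01 w12 w13 hcase
    have A01 := H28NT.a_eq_max T (by omega) (hu 0 1 (by decide)) (hv' _) (hv' _) e01
    have A12 := H28NT.a_eq_max T (by omega) (hu 1 2 (by decide)) (hv' _) (hv' _) e12
    have A23 := H28NT.a_eq_max T (by omega) (hu 2 3 (by decide)) (hv' _) (hv' _) e23
    have A34 := H28NT.a_eq_max T (by omega) (hu 3 4 (by decide)) (hv' _) (hv' _) e34
    have A10 := cm (u 1) (u 0)
    have A21 := cm (u 2) (u 1)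
    have A32 := cm (u 3) (u 2)
    have A43 := cm (u 4) (u 3)
    have p1 := T.w_pos (u 1)
    have p4 := T.w_pos (u 4)
    rcases hcase with b | b | b
    · refine ⟨T.w (u 1), .inl ⟨w01, rfl, w12, w13, by omega, by omega, by omega, by omega, by omega, ?_, ?_, ?_, ?_, ?_⟩⟩
      · linarith [H28NT.row1q T 1 1 p1 (hu 0 1 (by decide)) (hv' 0) (by omega) (by omega)]
      · linarith [H28NT.row2q T 1 1 1 p1 (hu 1 0 (by decide)) (hu 1 2 (by decide)) (hu 0 2 (by decide)) (hv' 1) (by omega) (by omega) (by omega)]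
      · linarith [H28NT.row2q T 1 1 1 p1 (hu 2 1 (by decide)) (hu 2 3 (by decide)) (hu 1 3 (by decide)) (hv' 2) (by omega) (by omega) (by omega)]
      · linarith [H28NT.row2q T 1 1 1 p1 (hu 3 2 (by decide)) (hu 3 4 (by decide)) (hu 2 4 (by decide)) (hv' 3) (by omega) (by omega) (by omega)]
      · linarith [H28NT.row1q T 1 1 p1 (hu 4 3 (by decide)) (hv' 4) (by omega) (by omega)]
    · refine ⟨T.w (u 1), .inr (.inl ⟨w01, rfl, w12, w13, by omega, by omega, by omega, by omega, by omega, ?_, ?_, ?_, ?_, ?_⟩)⟩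
      · linarith [H28NT.row1q T 1 1 p1 (hu 0 1 (by decide)) (hv' 0) (by omega) (by omega)]
      · linarith [H28NT.row2q T 1 1 1 p1 (hu 1 0 (by decide)) (hu 1 2 (by decide)) (hu 0 2 (by decide)) (hv' 1) (by omega) (by omega) (by omega)]
      · linarith [H28NT.row2q T 1 1 1 p1 (hu 2 1 (by decide)) (hu 2 3 (by decide)) (hu 1 3 (by decide)) (hv' 2) (by omega) (by omega) (by omega)]
      · linarith [H28NT.row2q T 1 2 1 p1 (hu 3 2 (by decide)) (hu 3 4 (by decide)) (hu 2 4 (by decide)) (hv' 3) (by omega) (by omega) (by omega)]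
      · linarith [H28NT.row1q T 2 2 p1 (hu 4 3 (by decide)) (hv' 4) (by omega) (by omega)]
    · refine ⟨T.w (u 4), .inr (.inr ⟨by omega, by omega, by omega, b, rfl, by omega, by omega, by omega, by omega, ?_, ?_, ?_, ?_, ?_⟩)⟩
      · linarith [H28NT.row1q T 2 2 p4 (hu 0 1 (by decide)) (hv' 0) (by omega) (by omega)]
      · linarith [H28NT.row2q T 2 2 2 p4 (hu 1 0 (by decide)) (hu 1 2 (by decide)) (hu 0 2 (by decide)) (hv' 1) (by omega) (by omega) (by omega)]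
      · linarith [H28NT.row2q T 2 2 2 p4 (hu 2 1 (by decide)) (hu 2 3 (by decide)) (hu 1 3 (by decide)) (hv' 2) (by omega) (by omega) (by omega)]
      · linarith [H28NT.row2q T 2 2 2 p4 (hu 3 2 (by decide)) (hu 3 4 (by decide)) (hu 2 4 (by decide)) (hv' 3) (by omega) (by omega) (by omega)]
      · linarith [H28NT.row1q T 2 1 p4 (hu 4 3 (by decide)) (hv' 4) (by omega) (by omega)]
  have inj := H28NT.vN_injOn v
  have M1 : T.w (v 1) = T.w (v 2) :=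
    H28NT.inner_edge_simple T (v := H28NT.vN v) hn inj (H28NT.vN_minusTwo T hv)
      (fun p hp => by interval_cases p <;> assumption)
  have M2 : T.w (v 3) = T.w (v 2) :=
    H28NT.inner_edge_simple T (v := fun p => H28NT.vN v ([4, 3, 2, 1, 0].getD p 0)) hn
      (H28NT.list_inj v [4, 3, 2, 1, 0] (by decide) (by decide))
      (fun p hp => by interval_cases p <;> exact hv _)
      (fun p hp => by interval_cases p <;> assumption)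
  have N3 : T.w (v 0) ≠ T.w (v 1) → T.w (v 3) = T.w (v 4) :=
    H28NT.not_both_ends T (k := 2) (v := H28NT.vN v) hn inj (H28NT.vN_minusTwo T hv)
      (fun p hp => by interval_cases p <;> assumption)
  have E01 := H28NT.chain_edge T (by omega) (hne 0 1 (by decide)) (hne 1 2 (by decide)) (hne 0 2 (by decide)) (hv 0) (hv 1) (hv 2) h01 h12
  have E34 := H28NT.chain_edge T (by omega) (hne 4 3 (by decide)) (hne 3 2 (by decide)) (hne 4 2 (by decide)) (hv 4) (hv 3) (hv 2) c43 c32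
  by_cases hw : T.w (v 0) = T.w (v 1)
  · obtain ⟨w, h⟩ := std v hne hv h01 h12 h23 h34 hw M1.symm (by omega) (by omega)
    exact ⟨v, w, .inl fun j => rfl, h⟩
  · obtain ⟨w, h⟩ := std (fun j => v (Fin.rev j)) (fun p q h => hne _ _ fun h' => h (Fin.rev_injective h'))
      (fun p => hv _) c43 c32 c21 c10 (show T.w (v 4) = T.w (v 3) by omega)
      (show T.w (v 2) = T.w (v 3) by omega) (show T.w (v 1) = T.w (v 3) by omega)
      (show T.w (v 0) = T.w (v 1) ∨ T.w (v 0) = 2 * T.w (v 1) ∨ T.w (v 1) = 2 * T.w (v 0) by omega)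
    exact ⟨fun j => v (Fin.rev j), w, .inr fun j => rfl, h⟩

end Groth.Agent.S7353
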