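import Groth.Statements.S7354
import Groth.Agent.H28NT.Rows

set_option autoImplicit false
open Finset
open Models Models.NumericalType

namespace Groth.Agent.S7354

/-- Let T be a numerical type on n indices, t > 5 with n > t, and i_1, …, i_t distinct (-2)-indices with
a_{i_j i_{j+1}} nonzero for j = 1, …, t - 1. Then, after possibly reversing the order of the
indices, for some integer w either (A) w_{i_1} = … = w_{i_t} = w and a_{i_j i_{j+1}} = w for all j;
or (C) w_{i_1} = … = w_{i_{t-1}} = w, w_{i_t} = 2w, a_{i_j i_{j+1}} = w for j < t - 1 and a_{i_{t-1}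
i_t} = 2w; or (B) w_{i_1} = … = w_{i_{t-1}} = 2w, w_{i_t} = w and a_{i_j i_{j+1}} = 2w for all j;
and in every case a_{i_j i_k} = 0 whenever k > j + 1. -/
theorem result {n : ℕ} (T : Models.NumericalType n) (t : ℕ) (ht : 5 < t) (hn : t < n)
    (v : Fin t ↪ Fin n) (hv : ∀ j, T.IsMinusTwo (v j))
    (hchain : ∀ j j' : Fin t, j'.val = j.val + 1 → T.a (v j) (v j') ≠ 0) :
    ∃ (u : Fin t → Fin n) (w : ℤ), ((∀ j, u j = v j) ∨ (∀ j, u j = v (Fin.rev j))) ∧
      (∀ j k : Fin t, j.val + 1 < k.val → T.a (u j) (u k) = 0) ∧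
      ((∀ j : Fin t, T.w (u j) = w) ∧ (∀ j j' : Fin t, j'.val = j.val + 1 → T.a (u j) (u j') = w) ∨
        ((∀ j : Fin t, j.val + 1 < t → T.w (u j) = w) ∧ (∀ j : Fin t, j.val + 1 = t → T.w (u j) = 2 * w) ∧
          (∀ j j' : Fin t, j'.val = j.val + 1 → j'.val + 1 < t → T.a (u j) (u j') = w) ∧
          (∀ j j' : Fin t, j'.val = j.val + 1 → j'.val + 1 = t → T.a (u j) (u j') = 2 * w)) ∨
        ((∀ j : Fin t, j.val + 1 < t → T.w (u j) = 2 * w) ∧ (∀ j : Fin t, j.val + 1 = t → T.w (u j) = w) ∧
          (∀ j j' : Fin t, j'.val = j.val + 1 → T.a (u j) (u j') = 2 * w))) := by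
  haveI : NeZero t := ⟨by omega⟩
  obtain ⟨k, rfl⟩ : ∃ k, t = k + 6 := ⟨t - 6, by omega⟩
  have hinj := H28NT.vN_injOn v
  have hmt := H28NT.vN_minusTwo T hv
  have hc : ∀ p < k + 5, T.a (H28NT.vN v p) (H28NT.vN v (p + 1)) ≠ 0 := fun p hp => by
    rw [H28NT.vN_of_lt v (show p < k + 6 by omega), H28NT.vN_of_lt v (show p + 1 < k + 6 by omega)]
    exact hchain _ _ rfl
  have hne : ∀ a b, a < k + 6 → b < k + 6 → a ≠ b → H28NT.vN v a ≠ H28NT.vN v b :=
    fun a b ha hb hab h => hab (hinj ha hb h)
  have step : ∀ p, 1 ≤ p → p ≤ k + 3 → T.w (H28NT.vN v p) = T.w (H28NT.vN v (p + 1)) := by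
    intro p hp1 hp2
    obtain ⟨p, rfl⟩ : ∃ q, p = q + 1 := ⟨p - 1, by omega⟩
    by_cases hsm : p ≤ k + 1
    · refine H28NT.inner_edge_simple T (v := fun q => H28NT.vN v (p + q)) (by omega) ?_ ?_ ?_
      · intro a ha b hb h
        simp only [Set.mem_Iio] at ha hb
        have := hinj (show p + a < k + 6 by omega) (show p + b < k + 6 by omega) h
        omega
      · exact fun q hq => hmt _ (by omega)
      · exact fun q hq => hc _ (by omega)
    · have h := H28NT.inner_edge_simple T (v := fun q => H28NT.vN v (p + 3 - q)) (by omega) ?_ ?_ ?_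
      · simpa [show p + 3 - 1 = p + 2 by omega, show p + 3 - 2 = p + 1 by omega] using h.symm
      · intro a ha b hb h
        simp only [Set.mem_Iio] at ha hb
        have := hinj (show p + 3 - a < k + 6 by omega) (show p + 3 - b < k + 6 by omega) h
        omega
      · exact fun q hq => hmt _ (by omega)
      · intro q hq
        rw [H28NT.a_comm, show p + 3 - q = p + 3 - (q + 1) + 1 by omega]
        exact hc _ (by omega)
  have mid : ∀ p, 1 ≤ p → p ≤ k + 4 → T.w (H28NT.vN v p) = T.w (H28NT.vN v 1) := by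
    intro p hp1
    induction p, hp1 using Nat.le_induction with
    | base => simp
    | succ p hp1 ih => intro hp2; rw [← step p hp1 (by omega)]; exact ih (by omega)
  have N : T.w (H28NT.vN v 0) ≠ T.w (H28NT.vN v 1) → T.w (H28NT.vN v (k + 4)) = T.w (H28NT.vN v (k + 5)) :=
    H28NT.not_both_ends T (k := k + 3) (v := H28NT.vN v) hn hinj hmt hc
  have E0 := H28NT.chain_edge T (by omega) (hne 0 1 (by omega) (by omega) (by omega)) (hne 1 2 (by omega) (by omega) (by omega))
    (hne 0 2 (by omega) (by omega) (by omega)) (hmt 0 (by omega)) (hmt 1 (by omega)) (hmt 2 (by omega)) (hc 0 (by omega)) (hc 1 (by omega))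
  have E1 := H28NT.chain_edge T (by omega) (hne (k + 5) (k + 4) (by omega) (by omega) (by omega)) (hne (k + 4) (k + 3) (by omega) (by omega) (by omega))
    (hne (k + 5) (k + 3) (by omega) (by omega) (by omega)) (hmt (k + 5) (by omega)) (hmt (k + 4) (by omega)) (hmt (k + 3) (by omega))
    (by rw [H28NT.a_comm]; exact hc (k + 4) (by omega)) (by rw [H28NT.a_comm]; exact hc (k + 3) (by omega))
  have m4 := mid (k + 4) (by omega) le_rfl
  -- oriented statement
  have std : ∀ u : Fin (k + 6) → Fin n, Function.Injective u → (∀ j, T.IsMinusTwo (u j)) →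
      (∀ j j' : Fin (k + 6), j'.val = j.val + 1 → T.a (u j) (u j') ≠ 0) →
      (∀ j : Fin (k + 6), j.val < k + 5 → T.w (u j) = T.w (u 0)) →
      (∀ j : Fin (k + 6), j.val = k + 5 → T.w (u j) = T.w (u 0) ∨ T.w (u j) = 2 * T.w (u 0) ∨ T.w (u 0) = 2 * T.w (u j)) →
      ∃ w : ℤ, (∀ j l : Fin (k + 6), j.val + 1 < l.val → T.a (u j) (u l) = 0) ∧
        ((∀ j : Fin (k + 6), T.w (u j) = w) ∧ (∀ j j' : Fin (k + 6), j'.val = j.val + 1 → T.a (u j) (u j') = w) ∨
          ((∀ j : Fin (k + 6), j.val + 1 < k + 6 → T.w (u j) = w) ∧ (∀ j : Fin (k + 6), j.val + 1 = k + 6 → T.w (u j) = 2 * w) ∧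
            (∀ j j' : Fin (k + 6), j'.val = j.val + 1 → j'.val + 1 < k + 6 → T.a (u j) (u j') = w) ∧
            (∀ j j' : Fin (k + 6), j'.val = j.val + 1 → j'.val + 1 = k + 6 → T.a (u j) (u j') = 2 * w)) ∨
          ((∀ j : Fin (k + 6), j.val + 1 < k + 6 → T.w (u j) = 2 * w) ∧ (∀ j : Fin (k + 6), j.val + 1 = k + 6 → T.w (u j) = w) ∧
            (∀ j j' : Fin (k + 6), j'.val = j.val + 1 → T.a (u j) (u j') = 2 * w))) := by
    intro u hu hv' huc hlow hlast
    have A : ∀ j j' : Fin (k + 6), j'.val = j.val + 1 → T.a (u j) (u j') = max (T.w (u j)) (T.w (u j')) :=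
      fun j j' h => H28NT.a_eq_max T (by omega) (fun e => by have := congrArg Fin.val (hu e); omega) (hv' _) (hv' _) (huc j j' h)
    have hz : ∀ j l : Fin (k + 6), j.val + 1 < l.val → T.a (u j) (u l) = 0 := by
      intro j l hjl
      let u' : Fin (k + 6) ↪ Fin n := ⟨u, hu⟩
      have := H28NT.no_other_edge T hn (H28NT.vN_injOn u') (H28NT.vN_minusTwo T (v := u') hv')
        ((range (k + 5)).image fun p => (p, p + 1)) ?_ ?_ ?_ (p := j.val) (q := l.val) j.2 l.2 (by omega) ?_ ?_
      · rwa [H28NT.vN_val, H28NT.vN_val] at this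
      · intro pq hpq
        simp only [Finset.mem_image, Finset.mem_range, not_exists, not_and, Prod.ext_iff] at hpq ⊢
        obtain ⟨p, hp, h⟩ := hpq
        exact ⟨by omega, by omega, by omega, fun _ _ => by omega⟩
      · intro pq hpq
        simp only [Finset.mem_image, Finset.mem_range] at hpq
        obtain ⟨p, hp, rfl⟩ := hpq
        rw [H28NT.vN_of_lt u' (show p < k + 6 by omega), H28NT.vN_of_lt u' (show p + 1 < k + 6 by omega)]
        exact huc _ _ rfl
      · rw [Finset.card_image_of_injective _ (fun a b h => (Prod.ext_iff.1 h).1), Finset.card_range]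
      · simp only [Finset.mem_image, Finset.mem_range, not_exists, not_and, Prod.ext_iff]
        exact fun _ _ => by omega
      · simp only [Finset.mem_image, Finset.mem_range, not_exists, not_and, Prod.ext_iff]
        exact fun _ _ => by omega
    have hpos := T.w_pos (u 0)
    have hp' := T.w_pos (u (Fin.last (k + 5)))
    have hlast' : ∀ j : Fin (k + 6), j.val = k + 5 → T.w (u j) = T.w (u (Fin.last (k + 5))) :=
      fun j hj => by rw [show j = Fin.last (k + 5) from Fin.ext hj]
    rcases hlast (Fin.last (k + 5)) rfl with b | b | b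
    · refine ⟨T.w (u 0), hz, .inl ⟨fun j => ?_, fun j j' h => ?_⟩⟩
      · by_cases hj : j.val < k + 5
        · exact hlow j hj
        · rw [hlast' j (by omega), b]
      · have := A j j' h
        have := hlow j (by omega)
        by_cases hj : j'.val < k + 5
        · have := hlow j' hj; omega
        · have := hlast' j' (by omega); omega
    · refine ⟨T.w (u 0), hz, .inr (.inl ⟨fun j hj => hlow j (by omega), fun j hj => ?_, fun j j' h hj => ?_, fun j j' h hj => ?_⟩)⟩
      · rw [hlast' j (by omega), b]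
      · have := A j j' h; have := hlow j (by omega); have := hlow j' (by omega); omega
      · have := A j j' h; have := hlow j (by omega); have := hlast' j' (by omega); omega
    · refine ⟨T.w (u (Fin.last (k + 5))), hz, .inr (.inr ⟨fun j hj => (hlow j (by omega)).trans b, fun j hj => hlast' j (by omega), fun j j' h => ?_⟩)⟩
      have := A j j' h
      have := hlow j (by omega)
      by_cases hj : j'.val < k + 5
      · have := hlow j' hj; omega
      · have := hlast' j' (by omega); omega
  have z0 : T.w (v 0) = T.w (H28NT.vN v 0) := congrArg T.w (H28NT.vN_of_lt v (p := 0) (by omega)).symm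
  by_cases hw : T.w (H28NT.vN v 0) = T.w (H28NT.vN v 1)
  · refine (std v v.injective hv hchain (fun j hj => ?_) (fun j hj => ?_)).elim
      fun w h => ⟨v, w, .inl fun j => rfl, h.1, h.2⟩
    · rw [z0, ← H28NT.vN_val v j]
      rcases Nat.eq_zero_or_pos j.val with h | h
      · rw [h]
      · rw [mid _ h (by omega), hw]
    · rw [z0, ← H28NT.vN_val v j, hj]; omega
  · have hN := N hw
    have r0 : T.w (v (Fin.rev 0)) = T.w (H28NT.vN v (k + 5)) := by
      rw [← H28NT.vN_val v (Fin.rev 0)]; simp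
    refine (std (fun j => v (Fin.rev j)) (v.injective.comp Fin.rev_injective) (fun j => hv _)
      (fun j j' h => ?_) (fun j hj => ?_) (fun j hj => ?_)).elim
      fun w h => ⟨_, w, .inr fun j => rfl, h.1, h.2⟩
    · rw [H28NT.a_comm]
      exact hchain _ _ (by simp [Fin.val_rev]; omega)
    · show T.w (v (Fin.rev j)) = T.w (v (Fin.rev 0))
      rw [r0, ← H28NT.vN_val v (Fin.rev j)]
      rcases Nat.eq_zero_or_pos j.val with h | h
      · simp [Fin.val_rev, h]
      · rw [mid _ (by simp [Fin.val_rev]; omega) (by simp [Fin.val_rev]; omega)]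
        omega
    · show T.w (v (Fin.rev j)) = T.w (v (Fin.rev 0)) ∨ T.w (v (Fin.rev j)) = 2 * T.w (v (Fin.rev 0)) ∨
        T.w (v (Fin.rev 0)) = 2 * T.w (v (Fin.rev j))
      rw [r0, ← H28NT.vN_val v (Fin.rev j), show ((Fin.rev j : Fin (k + 6)) : ℕ) = 0 by simp [Fin.val_rev]; omega]
      omega

end Groth.Agent.S7354
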