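import Groth.Statements.S7355
import Groth.Agent.H28NT.Tree

set_option autoImplicit false
open Finset
open Models Models.NumericalType

namespace Groth.Agent.S7355

/-- Classification of proper subgraphs of type D: let T be a numerical type on n indices, t > 4 with n >
t + 1, and i_1, …, i_{t+1} distinct (-2)-indices such that a_{i_j i_{j+1}} is nonzero for j = 1, …,
t - 1 and a_{i_{t-1} i_{t+1}} is nonzero. Then for some integer w one has w_{i_1} = … = w_{i_{t+1}}
= w, a_{i_j i_{j+1}} = w for j < t, a_{i_{t-1} i_{t+1}} = w, and a_{i_j i_k} = 0 for all other pairs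
j ≠ k. -/
theorem result {n : ℕ} (T : Models.NumericalType n) (t : ℕ) (ht : 4 < t) (hn : t + 1 < n)
    (v : Fin (t + 1) ↪ Fin n) (hv : ∀ j, T.IsMinusTwo (v j))
    (hchain : ∀ j j' : Fin (t + 1), j'.val = j.val + 1 → j'.val < t → T.a (v j) (v j') ≠ 0)
    (hbranch : ∀ j j' : Fin (t + 1), j.val + 2 = t → j'.val = t → T.a (v j) (v j') ≠ 0) :
    ∃ w : ℤ, (∀ j : Fin (t + 1), T.w (v j) = w) ∧
      (∀ j j' : Fin (t + 1), j'.val = j.val + 1 → j'.val < t → T.a (v j) (v j') = w) ∧
      (∀ j j' : Fin (t + 1), j.val + 2 = t → j'.val = t → T.a (v j) (v j') = w) ∧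
      (∀ j k : Fin (t + 1), j.val < k.val → ¬ (k.val = j.val + 1 ∧ k.val < t) → ¬ (j.val + 2 = t ∧ k.val = t) →
        T.a (v j) (v k) = 0) := by
  obtain ⟨r, rfl⟩ : ∃ r, t = r + 5 := ⟨t - 5, by omega⟩
  have hc : ∀ p < r + 4, T.a (H28NT.vN v p) (H28NT.vN v (p + 1)) ≠ 0 := fun p hp => by
    rw [H28NT.vN_of_lt v (show p < r + 5 + 1 by omega), H28NT.vN_of_lt v (show p + 1 < r + 5 + 1 by omega)]
    exact hchain _ _ (by simp) (by simp; omega)
  have hb : T.a (H28NT.vN v (r + 3)) (H28NT.vN v (r + 5)) ≠ 0 := by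
    rw [H28NT.vN_of_lt v (show r + 3 < r + 5 + 1 by omega), H28NT.vN_of_lt v (show r + 5 < r + 5 + 1 by omega)]
    exact hbranch _ _ (by simp) (by simp)
  have hinj := H28NT.vN_injOn v
  have hmt := H28NT.vN_minusTwo T hv
  have hc' : ∀ p < r + 4, T.a (H28NT.vN v (p + 1)) (H28NT.vN v p) ≠ 0 := fun p hp => by
    rw [H28NT.a_comm]; exact hc p hp
  have hne : ∀ a b, a < r + 5 + 1 → b < r + 5 + 1 → a ≠ b → H28NT.vN v a ≠ H28NT.vN v b :=
    fun a b ha hb hab h => hab (hinj ha hb h)
  have step : ∀ p < r + 3, T.w (H28NT.vN v p) = T.w (H28NT.vN v (p + 1)) := by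
    intro p hp
    obtain ⟨k, hk⟩ : ∃ k, r + 3 = p + k := ⟨r + 3 - p, by omega⟩
    refine H28NT.branch_w T (k := k) (v := fun q => H28NT.vN v (p + q)) (by omega) (by omega) ?_ ?_ ?_ ?_ ?_
    · intro a ha b hb h
      simp only [Set.mem_Iio] at ha hb
      have := hinj (show p + a < r + 5 + 1 by omega) (show p + b < r + 5 + 1 by omega) h
      omega
    · exact fun q hq => hmt _ (by omega)
    · exact fun q hq => hc _ (by omega)
    · exact hc _ (by omega)
    · show T.a (H28NT.vN v (p + k)) (H28NT.vN v (p + (k + 2))) ≠ 0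
      rw [show p + (k + 2) = r + 5 by omega, ← hk]
      exact hb
  have e4 : T.w (H28NT.vN v (r + 4)) = T.w (H28NT.vN v (r + 3)) := by
    refine H28NT.branch_w T (k := 1)
      (v := fun q => H28NT.vN v (if q = 0 then r + 4 else if q = 1 then r + 3 else if q = 2 then r + 2 else r + 5))
      le_rfl (by omega) ?_ ?_ ?_ ?_ ?_
    · intro a ha b hb h
      simp only [Set.mem_Iio] at ha hb
      have h2 := hinj (show _ < r + 5 + 1 by split_ifs <;> omega) (show _ < r + 5 + 1 by split_ifs <;> omega) h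
      interval_cases a <;> interval_cases b <;> simp at h2 <;> rfl
    · exact fun q hq => hmt _ (by split_ifs <;> omega)
    · intro q hq
      obtain rfl : q = 0 := by omega
      exact hc' (r + 3) (by omega)
    · exact hc' (r + 2) (by omega)
    · exact hb
  have e5 : T.w (H28NT.vN v (r + 5)) = T.w (H28NT.vN v (r + 3)) := by
    refine H28NT.branch_w T (k := 1)
      (v := fun q => H28NT.vN v (if q = 0 then r + 5 else if q = 1 then r + 3 else if q = 2 then r + 2 else r + 4))
      le_rfl (by omega) ?_ ?_ ?_ ?_ ?_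
    · intro a ha b hb h
      simp only [Set.mem_Iio] at ha hb
      have h2 := hinj (show _ < r + 5 + 1 by split_ifs <;> omega) (show _ < r + 5 + 1 by split_ifs <;> omega) h
      interval_cases a <;> interval_cases b <;> simp at h2 <;> rfl
    · exact fun q hq => hmt _ (by split_ifs <;> omega)
    · intro q hq
      obtain rfl : q = 0 := by omega
      show T.a (H28NT.vN v (r + 5)) (H28NT.vN v (r + 3)) ≠ 0
      rw [H28NT.a_comm]; exact hb
    · exact hc' (r + 2) (by omega)
    · exact hc (r + 3) (by omega)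
  have low : ∀ p ≤ r + 3, T.w (H28NT.vN v p) = T.w (H28NT.vN v 0) := by
    intro p
    induction p with
    | zero => simp
    | succ p ih => intro hp; rw [← step p (by omega)]; exact ih (by omega)
  have allw : ∀ p < r + 5 + 1, T.w (H28NT.vN v p) = T.w (H28NT.vN v 0) := by
    intro p hp
    rcases show p ≤ r + 3 ∨ p = r + 4 ∨ p = r + 5 by omega with h | rfl | rfl
    · exact low p h
    · rw [e4, low _ le_rfl]
    · rw [e5, low _ le_rfl]
  have ha : ∀ p q, p < r + 5 + 1 → q < r + 5 + 1 → p ≠ q → T.a (H28NT.vN v p) (H28NT.vN v q) ≠ 0 →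
      T.a (H28NT.vN v p) (H28NT.vN v q) = T.w (H28NT.vN v 0) := fun p q hp hq hpq h =>
    (H28NT.a_eq_w T (by omega) (hne p q hp hq hpq) (hmt p hp) (hmt q hq) h
      (by rw [allw p hp, allw q hq])).trans (allw p hp)
  refine ⟨T.w (H28NT.vN v 0), fun j => ?_, ?_, ?_, ?_⟩
  · rw [← H28NT.vN_val v j]; exact allw _ j.2
  · intro j j' h1 h2
    rw [← H28NT.vN_val v j, ← H28NT.vN_val v j']
    refine ha _ _ j.2 j'.2 (by omega) ?_
    rw [H28NT.vN_val, H28NT.vN_val]; exact hchain j j' h1 h2
  · intro j j' h1 h2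
    rw [← H28NT.vN_val v j, ← H28NT.vN_val v j']
    refine ha _ _ j.2 j'.2 (by omega) ?_
    rw [H28NT.vN_val, H28NT.vN_val]; exact hbranch j j' h1 h2
  · intro j k hjk h1 h2
    rw [← H28NT.vN_val v j, ← H28NT.vN_val v k]
    refine H28NT.no_other_edge T hn hinj hmt
      (insert (r + 3, r + 5) ((range (r + 4)).image fun p => (p, p + 1))) ?_ ?_ ?_ j.2 k.2 (by omega) ?_ ?_
    · intro pq hpq
      simp only [Finset.mem_insert, Finset.mem_image, Finset.mem_range, not_or, not_exists, not_and, Prod.ext_iff] at hpq ⊢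
      rcases hpq with h | ⟨p, hp, h⟩ <;>
        (refine ⟨by omega, by omega, by omega, by omega, fun _ _ => by omega⟩)
    · intro pq hpq
      simp only [Finset.mem_insert, Finset.mem_image, Finset.mem_range] at hpq
      rcases hpq with rfl | ⟨p, hp, rfl⟩
      · exact hb
      · exact hc p hp
    · rw [Finset.card_insert_of_notMem (by simp), Finset.card_image_of_injective _ (fun a b h => (Prod.ext_iff.1 h).1),
        Finset.card_range]
    · simp only [Finset.mem_insert, Finset.mem_image, Finset.mem_range, not_or, not_exists, not_and, Prod.ext_iff]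
      exact ⟨by omega, fun _ _ => by omega⟩
    · simp only [Finset.mem_insert, Finset.mem_image, Finset.mem_range, not_or, not_exists, not_and, Prod.ext_iff]
      exact ⟨by omega, fun _ _ => by omega⟩

end Groth.Agent.S7355
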