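import Groth.Statements.S7362
import Groth.Agent.H28NT.Genus

set_option autoImplicit false
open Finset
open Models Models.NumericalType

namespace Groth.Agent.S7362

/-- Genus one classification: case n = 2: let T be a minimal numerical type of genus 1 on two indices.
Then for some ordering i, j of the indices and some integers m, w, either m_i = m_j = m, a_ii = a_jj
= -2w, a_ij = 2w, w_i = w_j = w, g_i = g_j = 0; or m_i = 2m, m_j = m, a_ii = -2w, a_ij = 4w, a_jj =
-8w, w_i = w, w_j = 4w, g_i = g_j = 0. Only the classification direction is stated. -/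
theorem result (T : Models.NumericalType 2) (hmin : T.IsMinimal) (hg : T.genus = 1) :
    ∃ (i j : Fin 2) (m w : ℤ), i ≠ j ∧ T.g i = 0 ∧ T.g j = 0 ∧
      ((T.m i = m ∧ T.m j = m ∧ T.a i i = -2 * w ∧ T.a i j = 2 * w ∧ T.a j j = -2 * w ∧ T.w i = w ∧ T.w j = w) ∨
        (T.m i = 2 * m ∧ T.m j = m ∧ T.a i i = -2 * w ∧ T.a i j = 4 * w ∧ T.a j j = -8 * w ∧ T.w i = w ∧ T.w j = 4 * w)) := by
  have hv := H28NT.all_minusTwo T (by norm_num) hmin hg
  have e0 := H28NT.row_eq T 0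
  have e1 := H28NT.row_eq T 1
  rw [Fin.sum_univ_two] at e0 e1
  rw [H28NT.a_comm T 1 0, (hv 1).2] at e1
  rw [(hv 0).2] at e0
  obtain ⟨p, hp⟩ := T.w_dvd 0 1
  obtain ⟨q, hq⟩ : T.w 1 ∣ T.a 0 1 := H28NT.a_comm T 0 1 ▸ T.w_dvd 1 0
  have w0 := T.w_pos 0
  have w1 := T.w_pos 1
  have m0 := T.m_pos 0
  have m1 := T.m_pos 1
  have f0 : p * T.m 1 = 2 * T.m 0 := by
    refine mul_left_cancel₀ w0.ne' ?_
    rw [hp] at e0; linarith
  have f1 : q * T.m 0 = 2 * T.m 1 := by
    refine mul_left_cancel₀ w1.ne' ?_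
    rw [hq] at e1; linarith
  have hp0 : 0 < p := pos_of_mul_pos_left (f0 ▸ (by linarith : 0 < 2 * T.m 0)) m1.le
  have hq0 : 0 < q := pos_of_mul_pos_left (f1 ▸ (by linarith : 0 < 2 * T.m 1)) m0.le
  have hpq : p * q = 4 := by
    refine mul_right_cancel₀ (mul_pos m0 m1).ne' ?_
    calc p * q * (T.m 0 * T.m 1) = (p * T.m 1) * (q * T.m 0) := by ring
      _ = _ := by rw [f0, f1]; ring
  have hp4 : p ≤ 4 := by nlinarith
  have a10 := H28NT.a_comm T 1 0
  have a0 := (hv 0).2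
  have a1 := (hv 1).2
  have g0 := (hv 0).1
  have g1 := (hv 1).1
  interval_cases p
  · obtain rfl : q = 4 := by omega
    exact ⟨1, 0, T.m 0, T.w 1, by decide, g1, g0,
      .inr ⟨by omega, rfl, a1, by omega, by omega, rfl, by omega⟩⟩
  · obtain rfl : q = 2 := by omega
    exact ⟨0, 1, T.m 1, T.w 0, by decide, g0, g1,
      .inl ⟨by omega, rfl, a0, by omega, by omega, rfl, by omega⟩⟩
  · omega
  · obtain rfl : q = 1 := by omega
    exact ⟨0, 1, T.m 1, T.w 0, by decide, g0, g1,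
      .inr ⟨by omega, rfl, a0, by omega, by omega, rfl, by omega⟩⟩

end Groth.Agent.S7362
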