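import Groth.Statements.S7364
import Groth.Agent.H28NT.ShapePerm

set_option autoImplicit false
open Finset
open Models Models.NumericalType

namespace Groth.Agent.S7364

/-- Genus one classification: case n = 4: let T be a minimal numerical type of genus 1 on 4 indices.
Then all g_i = 0 and, for some permutation σ of the indices and some integers m, w, the
multiplicities, weights and intersection matrix (m_{σ(i)}, w_{σ(i)}, a_{σ(i)σ(j)}) are those of one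
of the following 6 types: [four cycle] m = (m, m, m, m), w = (w, w, w, w), a = (-2 * w w 0 w / w -2
* w w 0 / 0 w -2 * w w / w 0 w -2 * w); [up equal up] m = (2 * m, 2 * m, 2 * m, m), w = (w, 2 * w, 2
* w, 4 * w), a = (-2 * w 2 * w 0 0 / 2 * w -4 * w 2 * w 0 / 0 2 * w -4 * w 4 * w / 0 0 4 * w -8 *
w); [up equal down] m = (m, m, m, m), w = (w, 2 * w, 2 * w, w), a = (-2 * w 2 * w 0 0 / 2 * w -4 * w
2 * w 0 / 0 2 * w -4 * w 2 * w / 0 0 2 * w -2 * w); [down equal up] m = (m, 2 * m, 2 * m, m), w = (2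
* w, w, w, 2 * w), a = (-4 * w 2 * w 0 0 / 2 * w -2 * w w 0 / 0 w -2 * w 2 * w / 0 0 2 * w -4 * w);
[triple with up] m = (2 * m, m, m, m), w = (w, w, w, 2 * w), a = (-2 * w w w 2 * w / w -2 * w 0 0 /
w 0 -2 * w 0 / 2 * w 0 0 -4 * w); [triple with down] m = (2 * m, m, m, 2 * m), w = (2 * w, 2 * w, 2
* w, w), a = (-4 * w 2 * w 2 * w 2 * w / 2 * w -4 * w 0 0 / 2 * w 0 -4 * w 0 / 2 * w 0 0 -2 * w).
Only the classification direction is stated. -/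
theorem result (T : Models.NumericalType 4) (hmin : T.IsMinimal) (hg : T.genus = 1) :
    (∀ i, T.g i = 0) ∧ ∃ (σ : Equiv.Perm (Fin 4)) (m w : ℤ),
      ((T.m (σ 0) = m ∧ T.m (σ 1) = m ∧ T.m (σ 2) = m ∧ T.m (σ 3) = m ∧ T.w (σ 0) = w ∧ T.w (σ 1) = w ∧ T.w (σ 2) = w ∧ T.w (σ 3) = w ∧ T.a (σ 0) (σ 0) = -2 * w ∧ T.a (σ 0) (σ 1) = w ∧ T.a (σ 0) (σ 2) = 0 ∧ T.a (σ 0) (σ 3) = w ∧ T.a (σ 1) (σ 1) = -2 * w ∧ T.a (σ 1) (σ 2) = w ∧ T.a (σ 1) (σ 3) = 0 ∧ T.a (σ 2) (σ 2) = -2 * w ∧ T.a (σ 2) (σ 3) = w ∧ T.a (σ 3) (σ 3) = -2 * w) ∨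
      (T.m (σ 0) = 2 * m ∧ T.m (σ 1) = 2 * m ∧ T.m (σ 2) = 2 * m ∧ T.m (σ 3) = m ∧ T.w (σ 0) = w ∧ T.w (σ 1) = 2 * w ∧ T.w (σ 2) = 2 * w ∧ T.w (σ 3) = 4 * w ∧ T.a (σ 0) (σ 0) = -2 * w ∧ T.a (σ 0) (σ 1) = 2 * w ∧ T.a (σ 0) (σ 2) = 0 ∧ T.a (σ 0) (σ 3) = 0 ∧ T.a (σ 1) (σ 1) = -4 * w ∧ T.a (σ 1) (σ 2) = 2 * w ∧ T.a (σ 1) (σ 3) = 0 ∧ T.a (σ 2) (σ 2) = -4 * w ∧ T.a (σ 2) (σ 3) = 4 * w ∧ T.a (σ 3) (σ 3) = -8 * w) ∨
      (T.m (σ 0) = m ∧ T.m (σ 1) = m ∧ T.m (σ 2) = m ∧ T.m (σ 3) = m ∧ T.w (σ 0) = w ∧ T.w (σ 1) = 2 * w ∧ T.w (σ 2) = 2 * w ∧ T.w (σ 3) = w ∧ T.a (σ 0) (σ 0) = -2 * w ∧ T.a (σ 0) (σ 1) = 2 * w ∧ T.a (σ 0) (σ 2) = 0 ∧ T.a (σ 0) (σ 3) = 0 ∧ T.a (σ 1) (σ 1) = -4 * w ∧ T.a (σ 1) (σ 2) = 2 * w ∧ T.a (σ 1) (σ 3) = 0 ∧ T.a (σ 2) (σ 2) = -4 * w ∧ T.a (σ 2) (σ 3) = 2 * w ∧ T.a (σ 3) (σ 3) = -2 * w) ∨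
      (T.m (σ 0) = m ∧ T.m (σ 1) = 2 * m ∧ T.m (σ 2) = 2 * m ∧ T.m (σ 3) = m ∧ T.w (σ 0) = 2 * w ∧ T.w (σ 1) = w ∧ T.w (σ 2) = w ∧ T.w (σ 3) = 2 * w ∧ T.a (σ 0) (σ 0) = -4 * w ∧ T.a (σ 0) (σ 1) = 2 * w ∧ T.a (σ 0) (σ 2) = 0 ∧ T.a (σ 0) (σ 3) = 0 ∧ T.a (σ 1) (σ 1) = -2 * w ∧ T.a (σ 1) (σ 2) = w ∧ T.a (σ 1) (σ 3) = 0 ∧ T.a (σ 2) (σ 2) = -2 * w ∧ T.a (σ 2) (σ 3) = 2 * w ∧ T.a (σ 3) (σ 3) = -4 * w) ∨
      (T.m (σ 0) = 2 * m ∧ T.m (σ 1) = m ∧ T.m (σ 2) = m ∧ T.m (σ 3) = m ∧ T.w (σ 0) = w ∧ T.w (σ 1) = w ∧ T.w (σ 2) = w ∧ T.w (σ 3) = 2 * w ∧ T.a (σ 0) (σ 0) = -2 * w ∧ T.a (σ 0) (σ 1) = w ∧ T.a (σ 0) (σ 2) = w ∧ T.a (σ 0) (σ 3) = 2 * w ∧ T.a (σ 1) (σ 1) = -2 * w ∧ T.a (σ 1) (σ 2) = 0 ∧ T.a (σ 1) (σ 3) = 0 ∧ T.a (σ 2) (σ 2) = -2 * w ∧ T.a (σ 2) (σ 3) = 0 ∧ T.a (σ 3) (σ 3) = -4 * w) ∨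
      (T.m (σ 0) = 2 * m ∧ T.m (σ 1) = m ∧ T.m (σ 2) = m ∧ T.m (σ 3) = 2 * m ∧ T.w (σ 0) = 2 * w ∧ T.w (σ 1) = 2 * w ∧ T.w (σ 2) = 2 * w ∧ T.w (σ 3) = w ∧ T.a (σ 0) (σ 0) = -4 * w ∧ T.a (σ 0) (σ 1) = 2 * w ∧ T.a (σ 0) (σ 2) = 2 * w ∧ T.a (σ 0) (σ 3) = 2 * w ∧ T.a (σ 1) (σ 1) = -4 * w ∧ T.a (σ 1) (σ 2) = 0 ∧ T.a (σ 1) (σ 3) = 0 ∧ T.a (σ 2) (σ 2) = -4 * w ∧ T.a (σ 2) (σ 3) = 0 ∧ T.a (σ 3) (σ 3) = -2 * w)) := by
  have hv' := H28NT.all_minusTwo T (by norm_num) hmin hg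
  refine ⟨fun i => (hv' i).1, ?_⟩
  rcases H28NT.affine hv' (by norm_num) with ⟨hn, h⟩ | ⟨hn, h⟩ | ⟨hn, h⟩ | ⟨hn, h⟩ | ⟨hn, h⟩ | ⟨hn, h⟩ | ⟨hn, h⟩ | ⟨hn, h⟩ | ⟨hn, h⟩ | ⟨hn, h⟩ | ⟨hn, h⟩ | ⟨hn, h⟩ | ⟨hn, h⟩ | ⟨hn, h⟩
  · obtain ⟨σ, m, w, hm, hw, ha⟩ := H28NT.shape_perm hv' h ![0, 1, 2, 3] (by decide) (by decide)
    exact ⟨σ, m, w, Or.inl ⟨
      H28NT.e_one (hm 0) (by decide),
      H28NT.e_one (hm 1) (by decide),
      H28NT.e_one (hm 2) (by decide),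
      H28NT.e_one (hm 3) (by decide),
      H28NT.e_one (hw 0) (by decide),
      H28NT.e_one (hw 1) (by decide),
      H28NT.e_one (hw 2) (by decide),
      H28NT.e_one (hw 3) (by decide),
      H28NT.e_k (ha 0 0) (by decide),
      H28NT.e_one (ha 0 1) (by decide),
      H28NT.e_zero (ha 0 2) (by decide),
      H28NT.e_one (ha 0 3) (by decide),
      H28NT.e_k (ha 1 1) (by decide),
      H28NT.e_one (ha 1 2) (by decide),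
      H28NT.e_zero (ha 1 3) (by decide),
      H28NT.e_k (ha 2 2) (by decide),
      H28NT.e_one (ha 2 3) (by decide),
      H28NT.e_k (ha 3 3) (by decide)⟩⟩
  · omega
  · omega
  · omega
  · omega
  · obtain ⟨σ, m, w, hm, hw, ha⟩ := H28NT.shape_perm hv' h ![1, 2, 3, 0] (by decide) (by decide)
    exact ⟨σ, m, w, Or.inr (Or.inr (Or.inr (Or.inr (Or.inl ⟨
      H28NT.e_k (hm 0) (by decide),
      H28NT.e_one (hm 1) (by decide),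
      H28NT.e_one (hm 2) (by decide),
      H28NT.e_one (hm 3) (by decide),
      H28NT.e_one (hw 0) (by decide),
      H28NT.e_one (hw 1) (by decide),
      H28NT.e_one (hw 2) (by decide),
      H28NT.e_k (hw 3) (by decide),
      H28NT.e_k (ha 0 0) (by decide),
      H28NT.e_one (ha 0 1) (by decide),
      H28NT.e_one (ha 0 2) (by decide),
      H28NT.e_k (ha 0 3) (by decide),
      H28NT.e_k (ha 1 1) (by decide),
      H28NT.e_zero (ha 1 2) (by decide),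
      H28NT.e_zero (ha 1 3) (by decide),
      H28NT.e_k (ha 2 2) (by decide),
      H28NT.e_zero (ha 2 3) (by decide),
      H28NT.e_k (ha 3 3) (by decide)⟩))))⟩
  · obtain ⟨σ, m, w, hm, hw, ha⟩ := H28NT.shape_perm hv' h ![1, 2, 3, 0] (by decide) (by decide)
    exact ⟨σ, m, w, Or.inr (Or.inr (Or.inr (Or.inr (Or.inr (⟨
      H28NT.e_k (hm 0) (by decide),
      H28NT.e_one (hm 1) (by decide),
      H28NT.e_one (hm 2) (by decide),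
      H28NT.e_k (hm 3) (by decide),
      H28NT.e_k (hw 0) (by decide),
      H28NT.e_k (hw 1) (by decide),
      H28NT.e_k (hw 2) (by decide),
      H28NT.e_one (hw 3) (by decide),
      H28NT.e_k (ha 0 0) (by decide),
      H28NT.e_k (ha 0 1) (by decide),
      H28NT.e_k (ha 0 2) (by decide),
      H28NT.e_k (ha 0 3) (by decide),
      H28NT.e_k (ha 1 1) (by decide),
      H28NT.e_zero (ha 1 2) (by decide),
      H28NT.e_zero (ha 1 3) (by decide),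
      H28NT.e_k (ha 2 2) (by decide),
      H28NT.e_zero (ha 2 3) (by decide),
      H28NT.e_k (ha 3 3) (by decide)⟩)))))⟩
  · obtain ⟨σ, m, w, hm, hw, ha⟩ := H28NT.shape_perm hv' h ![0, 1, 2, 3] (by decide) (by decide)
    exact ⟨σ, m, w, Or.inr (Or.inl ⟨
      H28NT.e_k (hm 0) (by decide),
      H28NT.e_k (hm 1) (by decide),
      H28NT.e_k (hm 2) (by decide),
      H28NT.e_one (hm 3) (by decide),
      H28NT.e_one (hw 0) (by decide),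
      H28NT.e_k (hw 1) (by decide),
      H28NT.e_k (hw 2) (by decide),
      H28NT.e_k (hw 3) (by decide),
      H28NT.e_k (ha 0 0) (by decide),
      H28NT.e_k (ha 0 1) (by decide),
      H28NT.e_zero (ha 0 2) (by decide),
      H28NT.e_zero (ha 0 3) (by decide),
      H28NT.e_k (ha 1 1) (by decide),
      H28NT.e_k (ha 1 2) (by decide),
      H28NT.e_zero (ha 1 3) (by decide),
      H28NT.e_k (ha 2 2) (by decide),
      H28NT.e_k (ha 2 3) (by decide),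
      H28NT.e_k (ha 3 3) (by decide)⟩)⟩
  · obtain ⟨σ, m, w, hm, hw, ha⟩ := H28NT.shape_perm hv' h ![0, 1, 2, 3] (by decide) (by decide)
    exact ⟨σ, m, w, Or.inr (Or.inr (Or.inl ⟨
      H28NT.e_one (hm 0) (by decide),
      H28NT.e_one (hm 1) (by decide),
      H28NT.e_one (hm 2) (by decide),
      H28NT.e_one (hm 3) (by decide),
      H28NT.e_one (hw 0) (by decide),
      H28NT.e_k (hw 1) (by decide),
      H28NT.e_k (hw 2) (by decide),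
      H28NT.e_one (hw 3) (by decide),
      H28NT.e_k (ha 0 0) (by decide),
      H28NT.e_k (ha 0 1) (by decide),
      H28NT.e_zero (ha 0 2) (by decide),
      H28NT.e_zero (ha 0 3) (by decide),
      H28NT.e_k (ha 1 1) (by decide),
      H28NT.e_k (ha 1 2) (by decide),
      H28NT.e_zero (ha 1 3) (by decide),
      H28NT.e_k (ha 2 2) (by decide),
      H28NT.e_k (ha 2 3) (by decide),
      H28NT.e_k (ha 3 3) (by decide)⟩))⟩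
  · obtain ⟨σ, m, w, hm, hw, ha⟩ := H28NT.shape_perm hv' h ![0, 1, 2, 3] (by decide) (by decide)
    exact ⟨σ, m, w, Or.inr (Or.inr (Or.inr (Or.inl ⟨
      H28NT.e_one (hm 0) (by decide),
      H28NT.e_k (hm 1) (by decide),
      H28NT.e_k (hm 2) (by decide),
      H28NT.e_one (hm 3) (by decide),
      H28NT.e_k (hw 0) (by decide),
      H28NT.e_one (hw 1) (by decide),
      H28NT.e_one (hw 2) (by decide),
      H28NT.e_k (hw 3) (by decide),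
      H28NT.e_k (ha 0 0) (by decide),
      H28NT.e_k (ha 0 1) (by decide),
      H28NT.e_zero (ha 0 2) (by decide),
      H28NT.e_zero (ha 0 3) (by decide),
      H28NT.e_k (ha 1 1) (by decide),
      H28NT.e_one (ha 1 2) (by decide),
      H28NT.e_zero (ha 1 3) (by decide),
      H28NT.e_k (ha 2 2) (by decide),
      H28NT.e_k (ha 2 3) (by decide),
      H28NT.e_k (ha 3 3) (by decide)⟩)))⟩
  · omega
  · omega
  · omega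
  · omega

end Groth.Agent.S7364
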