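import Groth.Statements.S7371
import Groth.Agent.H28NT.ShapePerm

set_option autoImplicit false
set_option maxHeartbeats 1000000
open Finset
open Models Models.NumericalType

namespace Groth.Agent.S7371

/-- Genus one classification: cases n ≥ 10: let T be a minimal numerical type of genus 1 on n ≥ 10
indices. Then all g_i = 0, a_{ii} = -2 w_i, and for some permutation σ of the indices and integers
m, w the type is one of: the n-cycle (all m_i = m, all w_i = w, a_{i,i+1} = a_{1n} = w); the chain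
with m = (2m,…,2m,m), w = (w,2w,…,2w,4w), a_{i,i+1} = 2w except a_{n-1,n} = 4w; the chain with all
m_i = m, w = (w,2w,…,2w,w), a_{i,i+1} = 2w; the chain with m = (m,2m,…,2m,m), w = (2w,w,…,w,2w),
a_{12} = a_{n-1,n} = 2w and a_{i,i+1} = w otherwise; the D-type graph (chain 1 … n-1 with n attached
to n-2) with m = (m,2m,…,2m,m,m), w = (2w,w,…,w), a_{12} = 2w, other edges w; the same D-type graph
with m = (2m,…,2m,m,m), w = (w,2w,…,2w), all edges 2w; the double fork (1, 2 attached to 3; chain 3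
… n-2; n-1, n attached to n-2) with m = (m,m,2m,…,2m,m,m), all w_i = w, all edges w; all
intersection numbers not listed are zero. (Indices are written 0, …, n-1 in the formal statement.
For n ≥ 10 the exceptional completed E6, E7, E8 types do not occur, so only the infinite families
remain. In the family with weights (w,2w,…,2w,w) the consecutive intersection numbers are 2w, as
divisibility by the weights forces; the published list prints w there, and omits m_{n-2} = 2m in the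
two D-type families.) Only the classification direction is stated. -/
theorem result {n : ℕ} (T : Models.NumericalType n) (hn : 10 ≤ n) (hmin : T.IsMinimal) (hg : T.genus = 1) :
    (∀ i, T.g i = 0) ∧ (∀ i, T.a i i = -2 * T.w i) ∧ ∃ (σ : Equiv.Perm (Fin n)) (m w : ℤ),
      (((∀ i : Fin n, T.m (σ i) = m) ∧
        (∀ i : Fin n, T.w (σ i) = w) ∧
        (∀ i j : Fin n, i.val < j.val → j.val = i.val + 1 → T.a (σ i) (σ j) = w) ∧
        (∀ i j : Fin n, i.val < j.val → i.val = 0 ∧ j.val + 1 = n → T.a (σ i) (σ j) = w) ∧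
        (∀ i j : Fin n, i.val < j.val → ¬ (j.val = i.val + 1) → ¬ (i.val = 0 ∧ j.val + 1 = n) → T.a (σ i) (σ j) = 0)) ∨
      ((∀ i : Fin n, i.val + 1 < n → T.m (σ i) = 2 * m) ∧
        (∀ i : Fin n, i.val + 1 = n → T.m (σ i) = m) ∧
        (∀ i : Fin n, i.val = 0 → T.w (σ i) = w) ∧
        (∀ i : Fin n, 0 < i.val ∧ i.val + 1 < n → T.w (σ i) = 2 * w) ∧
        (∀ i : Fin n, i.val + 1 = n → T.w (σ i) = 4 * w) ∧
        (∀ i j : Fin n, i.val < j.val → j.val = i.val + 1 ∧ j.val + 1 < n → T.a (σ i) (σ j) = 2 * w) ∧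
        (∀ i j : Fin n, i.val < j.val → j.val = i.val + 1 ∧ j.val + 1 = n → T.a (σ i) (σ j) = 4 * w) ∧
        (∀ i j : Fin n, i.val < j.val → ¬ (j.val = i.val + 1 ∧ j.val + 1 < n) → ¬ (j.val = i.val + 1 ∧ j.val + 1 = n) → T.a (σ i) (σ j) = 0)) ∨
      ((∀ i : Fin n, T.m (σ i) = m) ∧
        (∀ i : Fin n, i.val = 0 → T.w (σ i) = w) ∧
        (∀ i : Fin n, 0 < i.val ∧ i.val + 1 < n → T.w (σ i) = 2 * w) ∧
        (∀ i : Fin n, i.val + 1 = n → T.w (σ i) = w) ∧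
        (∀ i j : Fin n, i.val < j.val → j.val = i.val + 1 → T.a (σ i) (σ j) = 2 * w) ∧
        (∀ i j : Fin n, i.val < j.val → ¬ (j.val = i.val + 1) → T.a (σ i) (σ j) = 0)) ∨
      ((∀ i : Fin n, i.val = 0 → T.m (σ i) = m) ∧
        (∀ i : Fin n, 0 < i.val ∧ i.val + 1 < n → T.m (σ i) = 2 * m) ∧
        (∀ i : Fin n, i.val + 1 = n → T.m (σ i) = m) ∧
        (∀ i : Fin n, i.val = 0 → T.w (σ i) = 2 * w) ∧
        (∀ i : Fin n, 0 < i.val ∧ i.val + 1 < n → T.w (σ i) = w) ∧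
        (∀ i : Fin n, i.val + 1 = n → T.w (σ i) = 2 * w) ∧
        (∀ i j : Fin n, i.val < j.val → i.val = 0 ∧ j.val = 1 → T.a (σ i) (σ j) = 2 * w) ∧
        (∀ i j : Fin n, i.val < j.val → j.val = i.val + 1 ∧ 1 ≤ i.val ∧ j.val + 2 ≤ n → T.a (σ i) (σ j) = w) ∧
        (∀ i j : Fin n, i.val < j.val → j.val = i.val + 1 ∧ j.val + 1 = n → T.a (σ i) (σ j) = 2 * w) ∧
        (∀ i j : Fin n, i.val < j.val → ¬ (i.val = 0 ∧ j.val = 1) → ¬ (j.val = i.val + 1 ∧ 1 ≤ i.val ∧ j.val + 2 ≤ n) → ¬ (j.val = i.val + 1 ∧ j.val + 1 = n) → T.a (σ i) (σ j) = 0)) ∨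
      ((∀ i : Fin n, i.val = 0 → T.m (σ i) = m) ∧
        (∀ i : Fin n, 1 ≤ i.val ∧ i.val + 2 < n → T.m (σ i) = 2 * m) ∧
        (∀ i : Fin n, n ≤ i.val + 2 → T.m (σ i) = m) ∧
        (∀ i : Fin n, i.val = 0 → T.w (σ i) = 2 * w) ∧
        (∀ i : Fin n, 0 < i.val → T.w (σ i) = w) ∧
        (∀ i j : Fin n, i.val < j.val → i.val = 0 ∧ j.val = 1 → T.a (σ i) (σ j) = 2 * w) ∧
        (∀ i j : Fin n, i.val < j.val → j.val = i.val + 1 ∧ 1 ≤ i.val ∧ j.val + 2 ≤ n → T.a (σ i) (σ j) = w) ∧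
        (∀ i j : Fin n, i.val < j.val → i.val + 3 = n ∧ j.val + 1 = n → T.a (σ i) (σ j) = w) ∧
        (∀ i j : Fin n, i.val < j.val → ¬ (i.val = 0 ∧ j.val = 1) → ¬ (j.val = i.val + 1 ∧ 1 ≤ i.val ∧ j.val + 2 ≤ n) → ¬ (i.val + 3 = n ∧ j.val + 1 = n) → T.a (σ i) (σ j) = 0)) ∨
      ((∀ i : Fin n, i.val + 2 < n → T.m (σ i) = 2 * m) ∧
        (∀ i : Fin n, n ≤ i.val + 2 → T.m (σ i) = m) ∧
        (∀ i : Fin n, i.val = 0 → T.w (σ i) = w) ∧
        (∀ i : Fin n, 0 < i.val → T.w (σ i) = 2 * w) ∧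
        (∀ i j : Fin n, i.val < j.val → j.val = i.val + 1 ∧ j.val + 2 ≤ n → T.a (σ i) (σ j) = 2 * w) ∧
        (∀ i j : Fin n, i.val < j.val → i.val + 3 = n ∧ j.val + 1 = n → T.a (σ i) (σ j) = 2 * w) ∧
        (∀ i j : Fin n, i.val < j.val → ¬ (j.val = i.val + 1 ∧ j.val + 2 ≤ n) → ¬ (i.val + 3 = n ∧ j.val + 1 = n) → T.a (σ i) (σ j) = 0)) ∨
      ((∀ i : Fin n, i.val ≤ 1 → T.m (σ i) = m) ∧
        (∀ i : Fin n, 2 ≤ i.val ∧ i.val + 2 < n → T.m (σ i) = 2 * m) ∧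
        (∀ i : Fin n, n ≤ i.val + 2 → T.m (σ i) = m) ∧
        (∀ i : Fin n, T.w (σ i) = w) ∧
        (∀ i j : Fin n, i.val < j.val → i.val = 0 ∧ j.val = 2 → T.a (σ i) (σ j) = w) ∧
        (∀ i j : Fin n, i.val < j.val → i.val = 1 ∧ j.val = 2 → T.a (σ i) (σ j) = w) ∧
        (∀ i j : Fin n, i.val < j.val → j.val = i.val + 1 ∧ 2 ≤ i.val ∧ j.val + 2 ≤ n → T.a (σ i) (σ j) = w) ∧
        (∀ i j : Fin n, i.val < j.val → i.val + 3 = n ∧ j.val + 1 = n → T.a (σ i) (σ j) = w) ∧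
        (∀ i j : Fin n, i.val < j.val → ¬ (i.val = 0 ∧ j.val = 2) → ¬ (i.val = 1 ∧ j.val = 2) → ¬ (j.val = i.val + 1 ∧ 2 ≤ i.val ∧ j.val + 2 ≤ n) → ¬ (i.val + 3 = n ∧ j.val + 1 = n) → T.a (σ i) (σ j) = 0))) := by
  have hv' := H28NT.all_minusTwo T (by omega) hmin hg
  refine ⟨fun i => (hv' i).1, fun i => (hv' i).2, ?_⟩
  have exi : ∀ k i j : ℕ, (∃ a, a < k ∧ a + 2 = i ∧ a + 3 = j) ↔ (2 ≤ i ∧ i < k + 2 ∧ j = i + 1) :=
    fun k i j => ⟨fun ⟨a, h1, h2, h3⟩ => by omega, fun h => ⟨i - 2, by omega, by omega, by omega⟩⟩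
  rcases H28NT.affine hv' (by omega) with ⟨hn', h⟩ | ⟨hn', h⟩ | ⟨hn', h⟩ | ⟨hn', h⟩ | ⟨hn', h⟩ | ⟨hn', h⟩ | ⟨hn', h⟩ | ⟨hn', h⟩ | ⟨hn', h⟩ | ⟨hn', h⟩ | ⟨hn', h⟩ | ⟨hn', h⟩ | ⟨hn', h⟩ | ⟨hn', h⟩
  case' inl => obtain ⟨σ, m, w, hm, hw, ha⟩ := H28NT.shape_perm hv' h Fin.val (fun i => i.2) Fin.val_injective; refine ⟨σ, m, w, Or.inl ?_⟩
  case' inr.inl => obtain ⟨σ, m, w, hm, hw, ha⟩ := H28NT.shape_perm hv' h Fin.val (fun i => i.2) Fin.val_injective; refine ⟨σ, m, w, Or.inr (Or.inr (Or.inr (Or.inr (Or.inr (Or.inr ?_)))))⟩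
  case' inr.inr.inr.inr.inr.inl => obtain ⟨σ, m, w, hm, hw, ha⟩ := H28NT.shape_perm hv' h Fin.val (fun i => i.2) Fin.val_injective; refine ⟨σ, m, w, Or.inr (Or.inr (Or.inr (Or.inr (Or.inl ?_))))⟩
  case' inr.inr.inr.inr.inr.inr.inl => obtain ⟨σ, m, w, hm, hw, ha⟩ := H28NT.shape_perm hv' h Fin.val (fun i => i.2) Fin.val_injective; refine ⟨σ, m, w, Or.inr (Or.inr (Or.inr (Or.inr (Or.inr (Or.inl ?_)))))⟩
  case' inr.inr.inr.inr.inr.inr.inr.inl => obtain ⟨σ, m, w, hm, hw, ha⟩ := H28NT.shape_perm hv' h Fin.val (fun i => i.2) Fin.val_injective; refine ⟨σ, m, w, Or.inr (Or.inl ?_)⟩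
  case' inr.inr.inr.inr.inr.inr.inr.inr.inl => obtain ⟨σ, m, w, hm, hw, ha⟩ := H28NT.shape_perm hv' h Fin.val (fun i => i.2) Fin.val_injective; refine ⟨σ, m, w, Or.inr (Or.inr (Or.inl ?_))⟩
  case' inr.inr.inr.inr.inr.inr.inr.inr.inr.inl => obtain ⟨σ, m, w, hm, hw, ha⟩ := H28NT.shape_perm hv' h Fin.val (fun i => i.2) Fin.val_injective; refine ⟨σ, m, w, Or.inr (Or.inr (Or.inr (Or.inl ?_)))⟩
  all_goals try (exfalso; omega)
  all_goals simp only [H28NT.AF, H28NT.cycE, H28NT.ddE, H28NT.bdE, Finset.mem_insert, H28NT.mem_chainE,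
    Finset.mem_image, Finset.mem_range, Prod.mk.injEq, exi] at ha
  all_goals simp only [H28NT.one', H28NT.ddM, H28NT.bdMa, H28NT.bdWa, H28NT.bdMb, H28NT.bdWb, H28NT.cMa,
    H28NT.cWa, H28NT.cWb, H28NT.cMc, H28NT.cWc] at hm hw ha
  all_goals refine ⟨?_, ?_⟩
  all_goals repeat' apply And.intro
  all_goals intro i
  all_goals try intro hi
  all_goals first
    | (rw [hm i]; split_ifs <;> first | omega | (exfalso; omega))
    | (rw [hm i]; omega)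
    | (rw [hw i]; split_ifs <;> first | omega | (exfalso; omega))
    | (rw [hw i]; omega)
    | skip
  all_goals (revert hi; intro j; intros)
  all_goals rw [ha i j]
  all_goals split_ifs with h1 h2 <;> first
    | omega
    | (exfalso; omega)
    | (norm_num; done)
    | skip

end Groth.Agent.S7371
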