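import Groth.Statements.S7374
import Groth.Agent.H05EGA4.CurveSeparate

set_option autoImplicit false
set_option linter.style.haveILetI false
universe u
open CategoryTheory CategoryTheory.Limits AlgebraicGeometry
open Resolve

namespace Groth.Agent.S7374

open TopologicalSpace Groth.Agent

theorem ker_subschemeι_eq_of_range {X : Scheme.{u}} (I : X.IdealSheafData) [IsReduced I.subscheme] :
    I = Scheme.IdealSheafData.vanishingIdeal I.support := by
  conv_lhs => rw [← I.ker_subschemeι, ← Scheme.IdealSheafData.map_bot]
  rw [show (⊥ : I.subscheme.IdealSheafData) = Scheme.IdealSheafData.vanishingIdeal ⊤ by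
      rw [Scheme.IdealSheafData.vanishingIdeal_top, Scheme.nilradical_eq_bot],
    Scheme.IdealSheafData.map_vanishingIdeal]
  congr 1
  refine TopologicalSpace.Closeds.ext ?_
  rw [TopologicalSpace.Closeds.coe_closure, TopologicalSpace.Closeds.coe_top, Set.image_univ,
    Scheme.IdealSheafData.range_subschemeι]
  exact I.support.isClosed.closure_eq

/-- Let X be a Noetherian scheme and Y_1, …, Y_n ⊂ X integral closed subschemes of dimension one (ideal
sheaves I_i), pairwise distinct, each with finite normalization morphism. Then there is a finite
sequence of blowings up in closed points g : X' → X such that the strict transforms Y'_i ⊂ X' —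
integral closed subschemes (ideals I'_i) mapped by g into Y_i, isomorphically over a nonempty open
of Y_i — are pairwise disjoint and have regular local rings. (The quasi-compactness and
quasi-separatedness binders always hold. The published statement does not say the Y_i are distinct;
for Y_1 = Y_2 the strict transforms coincide and cannot be disjoint, so distinctness is assumed
here, as the proof's use of the intersection multiplicities m_p(Y_i ∩ Y_j) requires.) -/
theorem result (X : Scheme.{u}) [IsNoetherian X] {n : ℕ}
    (I : Fin n → X.IdealSheafData) [∀ i, IsIntegral (I i).subscheme] (hdim : ∀ i, topologicalKrullDim ↥(I i).subscheme = 1)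
    [∀ i, QuasiCompact ((I i).subscheme.fromSpecStalk (genericPoint ↥(I i).subscheme))]
    [∀ i, QuasiSeparated ((I i).subscheme.fromSpecStalk (genericPoint ↥(I i).subscheme))]
    (hfin : ∀ i, IsFinite (Curv2.normalizationι (I i).subscheme)) (hdist : Function.Injective I) :
    ∃ (X' : Scheme.{u}) (g : X' ⟶ X), Resolve.IsPtBlowupSeq g ∧
      ∃ (I' : Fin n → X'.IdealSheafData) (g' : ∀ i, (I' i).subscheme ⟶ (I i).subscheme),
        (∀ i, IsIntegral (I' i).subscheme ∧ g' i ≫ (I i).subschemeι = (I' i).subschemeι ≫ g ∧
          (∃ V : (I i).subscheme.Opens, (V : Set ↥(I i).subscheme).Nonempty ∧ IsIso (g' i ∣_ V)) ∧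
          ∀ y : ↥(I' i).subscheme, IsRegularLocalRing ((I' i).subscheme.presheaf.stalk y)) ∧
        ∀ i j, i ≠ j → Disjoint ((I' i).support : Set X') ((I' j).support : Set X') := by
  haveI hY : ∀ i, IsNoetherian (I i).subscheme := fun i => by
    haveI : CompactSpace (I i).subscheme := QuasiCompact.compactSpace_of_compactSpace (I i).subschemeι
    haveI : IsLocallyNoetherian (I i).subscheme := LocallyOfFiniteType.isLocallyNoetherian (I i).subschemeι
    exact ⟨⟩
  have hη : ∀ i, ¬ IsClosed ({genericPoint (I i).subscheme} : Set (I i).subscheme) := fun i h => by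
    haveI : Subsingleton (I i).subscheme := ⟨fun a b => by
      have key : ∀ c : (I i).subscheme, c = genericPoint (I i).subscheme := fun c => by
        have h1 := specializes_iff_mem_closure.1 ((genericPoint_spec (I i).subscheme).specializes (y := c) trivial)
        rwa [h.closure_eq] at h1
      rw [key a, key b]⟩
    have := topologicalKrullDim_zero_of_discreteTopology (I i).subscheme
    rw [hdim i] at this
    exact absurd this (by decide)
  have hgen : ∀ i, ∃ hN : IsIntegral (Curv2.normalization (I i).subscheme),
      Curv2.normalizationι (I i).subscheme (genericPoint (Curv2.normalization (I i).subscheme)) =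
        genericPoint (I i).subscheme ∧
      ∀ U : (Curv2.normalization (I i).subscheme).affineOpens, (U.1 : Set (Curv2.normalization (I i).subscheme)).Nonempty →
        IsDedekindDomain Γ(Curv2.normalization (I i).subscheme, U.1) := fun i => by
    obtain ⟨hi, -, -, hg, -⟩ := S2351.result (I i).subscheme
    obtain ⟨-, -, -, hded⟩ := S7684.result (I i).subscheme (hdim i)
    exact ⟨hi, hg, hded⟩
  choose hint hgenpt hded using hgen
  haveI := hint
  haveI := hfin
  have hsep : ∀ i j, i ≠ j →
      (I i).subschemeι (genericPoint (I i).subscheme) ∉ Set.range (I j).subschemeι.base := by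
    rintro i j hij ⟨w, hw⟩
    by_cases hwη : w = genericPoint (I j).subscheme
    · refine hij (hdist ?_)
      rw [ker_subschemeι_eq_of_range (I i), ker_subschemeι_eq_of_range (I j)]
      congr 1
      refine TopologicalSpace.Closeds.ext ?_
      have key : ∀ l, ((I l).support : Set X) = closure {(I l).subschemeι (genericPoint (I l).subscheme)} := fun l => by
        have h1 := (genericPoint_spec (I l).subscheme).image (I l).subschemeι.continuous
        rw [Set.image_univ, Scheme.IdealSheafData.range_subschemeι, (I l).support.isClosed.closure_eq] at h1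
        exact h1.symm
      rw [key i, key j, ← hw, hwη]
    · refine hη i ?_
      have hwc := S7372.isClosed_of_ne_generic (𝟙 (I j).subscheme) (hdim j).le (hgenpt j)
        (h := Curv2.normalizationι (I j).subscheme) (Category.comp_id _) (hgenpt j) hwη
      have h2 : IsClosed ({(I i).subschemeι (genericPoint (I i).subscheme)} : Set X) := by
        rw [← hw, ← Set.image_singleton]
        exact (I j).subschemeι.isClosedEmbedding.isClosedMap _ hwc
      have h3 := h2.preimage (I i).subschemeι.continuous
      rwa [← Set.image_singleton, (I i).subschemeι.isClosedEmbedding.injective.preimage_image] at h3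
  obtain ⟨X', G, D, k, g, ⟨hG, hk, hkG, hmod⟩, hreg, hdis⟩ :=
    H05EGA4.CurveSeparate.exists_disjoint (fun i => (I i).subschemeι) (fun i => (hdim i).le) hη
      (fun i => Curv2.normalizationι (I i).subscheme) hgenpt hded (fun i => inferInstance) hsep
  haveI := hk
  refine ⟨X', G, hG, fun i => (k i).ker, fun i => inv (k i).toImage ≫ g i, fun i => ?_, fun i j hij => ?_⟩
  · haveI := (hmod i).1
    refine ⟨?_, ?_, ?_, fun y => ?_⟩
    · haveI : Nonempty (k i).ker.subscheme := ⟨(k i).toImage (genericPoint (D i))⟩
      exact isIntegral_of_isOpenImmersion (inv (k i).toImage)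
    · have h1 : (k i).toImage ≫ (k i).ker.subschemeι = k i := (k i).toImage_imageι
      rw [Category.assoc, ← hkG i, IsIso.inv_comp_eq]
      exact (congrArg (· ≫ G) h1).symm.trans (Category.assoc _ _ _)
    · obtain ⟨-, -, -, -, ⟨V, hV, hiso⟩, -⟩ := hmod i
      refine ⟨V, hV, ?_⟩
      haveI := hiso
      rw [morphismRestrict_comp]
      exact IsIso.comp_isIso' (IsZariskiLocalAtTarget.restrict (P := MorphismProperty.isomorphisms Scheme)
        (f := inv (k i).toImage) (inferInstanceAs (IsIso (inv (k i).toImage))) _) hiso
    · haveI := hreg i ((inv (k i).toImage) y)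
      exact IsRegularLocalRing.of_ringEquiv (asIso ((inv (k i).toImage).stalkMap y)).commRingCatIsoToRingEquiv
  · rw [Scheme.Hom.support_ker, Scheme.Hom.support_ker, (k i).isClosedEmbedding.isClosed_range.closure_eq,
      (k j).isClosedEmbedding.isClosed_range.closure_eq]
    exact hdis i j hij

end Groth.Agent.S7374
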