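-- statement Lim.GrothFrozen.S7379 (Groth/Statements/S7379.lean; the theorem Lim.closedImmersion_isLimit_closedImmersions_finitePresentation);
import Groth.Statements.S7379
import Groth.Agent.H7Lim.IdealSystem

set_option autoImplicit false
universe u
open CategoryTheory AlgebraicGeometry
open Lim

namespace Groth.Agent.S7379

/-- Let `ι : X → Y` be a closed immersion with `Y` quasi-compact and quasi-separated. Then, in the
category of schemes over `Y`, `X` is the limit of a nonempty directed inverse system whose objects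
`X_i → Y` are closed immersions of finite presentation. -/
theorem result {X Y : Scheme.{u}} (ι : X ⟶ Y)
    [IsClosedImmersion ι] [CompactSpace Y] [QuasiSeparatedSpace Y] :
    ∃ (I : Type u) (_ : Preorder I) (_ : IsDirected I (fun a b => a ≤ b)) (_ : Nonempty I)
      (D : Iᵒᵖ ⥤ Over Y) (c : Limits.Cone D) (_ : Limits.IsLimit c),
      (∀ i, IsClosedImmersion (D.obj i).hom ∧ LocallyOfFinitePresentation (D.obj i).hom) ∧
      Nonempty (c.pt ≅ Over.mk ι) := by
  refine ⟨Groth.Agent.H7Lim.FTIdeal ι.ker, inferInstance, inferInstance, inferInstance,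
    Groth.Agent.H7Lim.ftSystemOver ι.ker, Groth.Agent.H7Lim.ftConeOver ι.ker,
    Groth.Agent.H7Lim.isLimitFtConeOver ι.ker, fun i => ⟨inferInstance, ?_⟩, ⟨?_⟩⟩
  · haveI : IsClosedImmersion ((Groth.Agent.H7Lim.ftSystemOver ι.ker).obj i).hom := inferInstance
    refine Groth.Agent.H7Lim.locallyOfFinitePresentation_of_ker_fg _ fun U => ?_
    show ((Scheme.Hom.ker i.unop.1.subschemeι).ideal U).FG
    rw [Scheme.IdealSheafData.ker_subschemeι]
    exact i.unop.2.2 U
  · exact Over.isoMk (asIso ι.toImage).symm (by
      show inv ι.toImage ≫ ι = ι.ker.subschemeι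
      rw [IsIso.inv_comp_eq]; exact ι.toImage_imageι.symm)

end Groth.Agent.S7379
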