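-- statement Lim.GrothFrozen.S7380 (Groth/Statements/S7380.lean; the theorem Lim.isLimit_finitePresentation_closedImmersion_transitions_of_locallyOfFiniteType);
import Groth.Statements.S7380
import Groth.Agent.H7Lim.Approx.Consequences

set_option autoImplicit false
universe u
open CategoryTheory AlgebraicGeometry
open Lim

namespace Groth.Agent.S7380
set_option backward.isDefEq.respectTransparency false

/-- Let `f : X → S` be locally of finite type with `X` quasi-compact and quasi-separated and `S`
quasi-separated. Then, in the category of schemes over `S`, `X` is the limit of a nonempty directed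
inverse system of schemes `X_i → S` of finite presentation (locally of finite presentation,
quasi-compact and quasi-separated), each `X_i` being a quasi-compact and quasi-separated scheme,
whose transition morphisms are closed immersions. -/
theorem result {X S : Scheme.{u}}
    (f : X ⟶ S) [LocallyOfFiniteType f] [CompactSpace X] [QuasiSeparatedSpace X] [QuasiSeparatedSpace S] :
    ∃ (I : Type u) (_ : Preorder I) (_ : IsDirected I (fun a b => a ≤ b)) (_ : Nonempty I)
      (D : Iᵒᵖ ⥤ Over S) (c : Limits.Cone D) (_ : Limits.IsLimit c),
      (∀ i, LocallyOfFinitePresentation (D.obj i).hom ∧ QuasiCompact (D.obj i).hom ∧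
        QuasiSeparated (D.obj i).hom ∧ CompactSpace (D.obj i).left ∧ QuasiSeparatedSpace (D.obj i).left) ∧
      (∀ (i j : Iᵒᵖ) (a : i ⟶ j), IsClosedImmersion (D.map a).left) ∧
      Nonempty (c.pt ≅ Over.mk f) := by
  exact Groth.Agent.H7Lim.Approx.exists_closedImmersion_system f

end Groth.Agent.S7380
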