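-- statement Lim.GrothFrozen.S7381 (Groth/Statements/S7381.lean; the theorem Lim.isLimit_finite_finitePresentation_of_isFinite);
import Groth.Statements.S7381
import Groth.Agent.H7Lim.IntegralApprox
import Groth.Agent.H7Lim.IdealSystem

set_option autoImplicit false
set_option backward.isDefEq.respectTransparency false
universe u
open CategoryTheory AlgebraicGeometry
open Lim

namespace Groth.Agent.S7381

/-- Let `f : X → S` be finite with `S` quasi-compact and quasi-separated. Then, in the category of
schemes over `S`, `X` is the limit of a nonempty directed inverse system of schemes `X_i → S` that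
are finite and locally of finite presentation, with closed immersions as transition morphisms. -/
theorem result {X S : Scheme.{u}} (f : X ⟶ S) [IsFinite f]
    [CompactSpace S] [QuasiSeparatedSpace S] :
    ∃ (I : Type u) (_ : Preorder I) (_ : IsDirected I (fun a b => a ≤ b)) (_ : Nonempty I)
      (D : Iᵒᵖ ⥤ Over S) (c : Limits.Cone D) (_ : Limits.IsLimit c),
      (∀ i, IsFinite (D.obj i).hom ∧ LocallyOfFinitePresentation (D.obj i).hom) ∧
      (∀ (i j : Iᵒᵖ) (a : i ⟶ j), IsClosedImmersion (D.map a).left) ∧
      Nonempty (c.pt ≅ Over.mk f) := by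
  obtain ⟨P, p, a, hp, ha, hap⟩ := Groth.Agent.H7Lim.exists_isClosedImmersion_finFp (f := f)
  haveI := hp.1; haveI := hp.2
  haveI : CompactSpace P := QuasiCompact.compactSpace_of_compactSpace p
  haveI : QuasiSeparatedSpace P := quasiSeparatedSpace_of_quasiSeparated p
  let K := a.ker
  let D := Groth.Agent.H7Lim.ftSystemOver K ⋙ Over.map p
  let c : Limits.Cone D := (Over.map p).mapCone (Groth.Agent.H7Lim.ftConeOver K)
  let J₀ : (Groth.Agent.H7Lim.FTIdeal K)ᵒᵖ := Opposite.op ⟨⊥, bot_le, fun _ => Submodule.fg_bot⟩
  let toS : ∀ (s : Limits.Cone D), Limits.Cone (Groth.Agent.H7Lim.ftSystem K) := fun s =>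
    { pt := s.pt.left
      π :=
      { app := fun J => (s.π.app J).left
        naturality := fun i j φ => by
          have := congrArg CommaMorphism.left (s.π.naturality φ)
          exact this } }
  let hl := Groth.Agent.H7Lim.isLimitFtCone K
  let hc : Limits.IsLimit c :=
    { lift := fun s => Over.homMk (hl.lift (toS s)) (by
        show hl.lift (toS s) ≫ K.subschemeι ≫ p = s.pt.hom
        have h1 : hl.lift (toS s) ≫ Scheme.IdealSheafData.inclusion J₀.unop.2.1 = (s.π.app J₀).left :=
          hl.fac (toS s) J₀
        rw [← Scheme.IdealSheafData.inclusion_subschemeι J₀.unop.2.1, Category.assoc]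
        exact ((reassoc_of% h1) _).trans (Over.w (s.π.app J₀)))
      fac := fun s J => Over.OverMorphism.ext (hl.fac (toS s) J)
      uniq := fun s m hm => Over.OverMorphism.ext
        (hl.uniq (toS s) m.left fun J => congrArg CommaMorphism.left (hm J)) }
  refine ⟨_, inferInstance, inferInstance, inferInstance, D, c, hc, fun J => ?_, fun i j φ => ?_, ?_⟩
  · show IsFinite (J.unop.1.subschemeι ≫ p) ∧ LocallyOfFinitePresentation (J.unop.1.subschemeι ≫ p)
    haveI : LocallyOfFinitePresentation J.unop.1.subschemeι :=
      Groth.Agent.H7Lim.locallyOfFinitePresentation_of_ker_fg _ fun U => by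
        rw [Scheme.IdealSheafData.ker_subschemeι]; exact J.unop.2.2 U
    exact ⟨inferInstance, inferInstance⟩
  · exact Groth.Agent.H7Lim.isClosedImmersion_ftSystem_map K φ
  · haveI := ha
    refine ⟨(Over.isoMk (asIso a.toImage) ?_).symm⟩
    show a.toImage ≫ a.imageι ≫ p = f
    rw [Scheme.Hom.toImage_imageι_assoc, hap]

end Groth.Agent.S7381
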