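-- statement Lim.GrothFrozen.S7383 (Groth/Statements/S7383.lean; the theorem Lim.isLimit_finitePresentation_affine_transitions_of_qcqs);
import Groth.Statements.S7383
import Groth.Agent.H7Lim.Approx.Consequences

set_option autoImplicit false
universe u
open CategoryTheory AlgebraicGeometry
open Lim

namespace Groth.Agent.S7383
set_option backward.isDefEq.respectTransparency false

/-- Let `f : X → S` be a morphism with `X` quasi-compact and quasi-separated and `S` quasi-separated.
Then, in the category of schemes over `S`, `X` is the limit of a nonempty directed inverse system of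
schemes `X_i → S` of finite presentation (locally of finite presentation, quasi-compact and
quasi-separated) with affine transition morphisms. -/
theorem result {X S : Scheme.{u}} (f : X ⟶ S)
    [CompactSpace X] [QuasiSeparatedSpace X] [QuasiSeparatedSpace S] :
    ∃ (I : Type u) (_ : Preorder I) (_ : IsDirected I (fun a b => a ≤ b)) (_ : Nonempty I)
      (D : Iᵒᵖ ⥤ Over S) (c : Limits.Cone D) (_ : Limits.IsLimit c),
      (∀ i, LocallyOfFinitePresentation (D.obj i).hom ∧ QuasiCompact (D.obj i).hom ∧
        QuasiSeparated (D.obj i).hom) ∧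
      (∀ (i j : Iᵒᵖ) (a : i ⟶ j), IsAffineHom (D.map a).left) ∧
      Nonempty (c.pt ≅ Over.mk f) := by
  obtain ⟨I, h1, h2, h3, D, c, hc, hfin, haff, he⟩ := Groth.Agent.H7Lim.Approx.exists_fp_system f
  exact ⟨I, h1, h2, h3, D, c, hc, fun i => ⟨(hfin i).1, (hfin i).2.1, (hfin i).2.2.1⟩, haff, he⟩

end Groth.Agent.S7383
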