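-- statement Lim.GrothFrozen.S7384 (Groth/Statements/S7384.lean; the theorem Lim.isLimit_arrow_finiteType_over_int_of_qcqs);
import Groth.Statements.S7384
import Groth.Agent.H7Lim.Approx.Pair

set_option autoImplicit false
universe u
open CategoryTheory AlgebraicGeometry
open Lim

namespace Groth.Agent.S7384
set_option backward.isDefEq.respectTransparency false

/-- Let `f : X → S` be a morphism of quasi-compact quasi-separated schemes. Then `f` is a limit of
morphisms `f_i : X_i → S_i` indexed by a nonempty directed set: there are inverse systems `X_i`,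
`S_i` of quasi-compact schemes locally of finite type over `ℤ` with affine transition morphisms, a
compatible family of morphisms `f_i`, and limit cones identified with `X` and `S` compatibly with
`f`. -/
theorem result {X S : Scheme.{u}} (f : X ⟶ S) [CompactSpace X]
    [QuasiSeparatedSpace X] [CompactSpace S] [QuasiSeparatedSpace S] :
    ∃ (I : Type u) (_ : Preorder I) (_ : IsDirected I (fun a b => a ≤ b)) (_ : Nonempty I)
      (DX DS : Iᵒᵖ ⥤ Scheme.{u}) (φ : DX ⟶ DS)
      (cX : Limits.Cone DX) (cS : Limits.Cone DS) (_ : Limits.IsLimit cX) (_ : Limits.IsLimit cS)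
      (eX : cX.pt ≅ X) (eS : cS.pt ≅ S),
      (∀ (i j : Iᵒᵖ) (a : i ⟶ j), IsAffineHom (DX.map a) ∧ IsAffineHom (DS.map a)) ∧
      (∀ i, CompactSpace (DX.obj i) ∧ CompactSpace (DS.obj i) ∧
        LocallyOfFiniteType (Limits.IsTerminal.from specULiftZIsTerminal (DX.obj i)) ∧
        LocallyOfFiniteType (Limits.IsTerminal.from specULiftZIsTerminal (DS.obj i))) ∧
      (∀ i, cX.π.app i ≫ φ.app i = eX.hom ≫ f ≫ eS.inv ≫ cS.π.app i) := by
  obtain ⟨S₀, g, hg, hS₀, hS₀t⟩ := Groth.Agent.H7Lim.Approx.exists_affineHom_finiteType S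
  obtain ⟨X₁, a, φ₀, ha, hX₁, hX₁t, w⟩ :=
    Groth.Agent.H7Lim.Approx.exists_factor_finiteType (f ≫ g)
  haveI := Groth.Agent.H7Lim.Approx.quasiSeparatedSpace_of_toZ S₀
  haveI := Groth.Agent.H7Lim.Approx.quasiSeparatedSpace_of_toZ X₁
  exact Groth.Agent.H7Lim.Approx.exists_pair_system f a g φ₀ w

end Groth.Agent.S7384
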