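import Groth.Statements.S7387
import Groth.Agent.S2263
import Mathlib.AlgebraicGeometry.ZariskisMainTheorem

set_option autoImplicit false
universe u
open CategoryTheory AlgebraicGeometry
open Mor

namespace Groth.Agent.S7387

open CategoryTheory Limits AlgebraicGeometry TopologicalSpace

/-- A quasi-compact scheme has a dense open subscheme which is separated. -/
theorem result (X : Scheme.{u}) [CompactSpace X] :
    ∃ V : X.Opens, Dense (V : Set X) ∧ (V : Scheme.{u}).IsSeparated := by
  obtain ⟨s, hs, h⟩ := isCompact_iff_finite_and_eq_biUnion_affineOpens.mp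
    (show IsCompact ((⊤ : X.Opens) : Set X) from isCompact_univ)
  obtain ⟨n, ⟨e⟩⟩ := Finite.exists_equiv_fin s (h := hs.to_subtype)
  let U : Fin n → X.Opens := fun k => (e.symm k).1
  let C : Fin n → Set X := fun k => closure (⋃ j : {j : Fin n // j < k}, (U j.1 : Set X))
  let W : Fin n → X.Opens := fun k => ⟨(U k : Set X) ∩ (C k)ᶜ, (U k).2.inter isClosed_closure.isOpen_compl⟩
  let V : X.Opens := ⨆ k, W k
  have hdisj : ∀ i j, i < j → ∀ x, x ∈ W i → x ∉ W j := fun i j hij x hi hj =>
    hj.2 (subset_closure (Set.mem_iUnion.mpr ⟨⟨i, hij⟩, hi.1⟩))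
  refine ⟨V, ?_, ?_⟩
  · intro x
    refine mem_closure_iff.mpr fun O hO hxO => ?_
    classical
    have hx : ∃ k, (O ∩ (U k : Set X)).Nonempty := by
      have : x ∈ (⊤ : X.Opens) := trivial
      rw [h] at this
      simp only [Opens.mem_iSup] at this
      obtain ⟨u, hu, hxu⟩ := this
      exact ⟨e ⟨u, hu⟩, x, hxO, by simpa [U] using hxu⟩
    let P := Finset.univ.filter fun k => (O ∩ (U k : Set X)).Nonempty
    have hP : P.Nonempty := ⟨hx.choose, by simpa [P] using hx.choose_spec⟩
    obtain ⟨y, hyO, hyU⟩ := (Finset.mem_filter.mp (P.min'_mem hP)).2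
    refine ⟨y, hyO, Opens.mem_iSup.mpr ⟨P.min' hP, hyU, fun hyC => ?_⟩⟩
    obtain ⟨z, hzO, hz⟩ := mem_closure_iff.mp hyC O hO hyO
    obtain ⟨⟨j, hj⟩, hzj⟩ := Set.mem_iUnion.mp hz
    exact (P.min'_le j (by simpa [P] using ⟨z, hzO, hzj⟩)).not_gt hj
  · refine ⟨?_⟩
    have hle : ∀ k, W k ≤ V := le_iSup W
    have hcl : ∀ k, IsClosedImmersion (X.homOfLE (hle k)) := fun k => by
      refine .of_isPreimmersion _ ?_
      have : Set.range (X.homOfLE (hle k)) = {v : V.toScheme | v.1 ∈ W k} := by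
        ext v
        constructor
        · rintro ⟨w, rfl⟩
          show (X.homOfLE (hle k) ≫ V.ι) w ∈ W k
          rw [X.homOfLE_ι]; exact w.2
        · intro hv
          refine ⟨⟨v.1, hv⟩, Subtype.ext ?_⟩
          show (X.homOfLE (hle k) ≫ V.ι) _ = _
          rw [X.homOfLE_ι]; rfl
      rw [this]
      have hc : {v : V.toScheme | v.1 ∈ W k}ᶜ = Subtype.val ⁻¹' (⋃ j : {j // j ≠ k}, (W j.1 : Set X)) := by
        ext v
        show ¬ v.1 ∈ W k ↔ v.1 ∈ ⋃ j : {j // j ≠ k}, (W j.1 : Set X)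
        rw [Set.mem_iUnion]
        constructor
        · intro hv
          obtain ⟨j, hj⟩ := Opens.mem_iSup.mp v.2
          exact ⟨⟨j, fun e => hv (e ▸ hj)⟩, hj⟩
        · rintro ⟨⟨j, hjk⟩, hj⟩ hk
          rcases lt_or_gt_of_ne hjk with h | h
          · exact hdisj _ _ h _ hj hk
          · exact hdisj _ _ h _ hk hj
      exact ⟨hc ▸ (isOpen_iUnion fun j : {j // j ≠ k} => (W j.1).2).preimage continuous_subtype_val⟩
    have hsep : ∀ k, IsSeparated (X.homOfLE (hle k) ≫ terminal.from V.toScheme) := fun k => by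
      have hWU : W k ≤ U k := fun z hz => hz.1
      have : IsAffine (U k).toScheme := (e.symm k).1.2
      rw [show X.homOfLE (hle k) ≫ terminal.from V.toScheme = X.homOfLE hWU ≫ terminal.from (U k).toScheme from
        Subsingleton.elim _ _]
      infer_instance
    exact (Groth.Agent.S2263.result (terminal.from V.toScheme) (fun k => (W k).toScheme)
      (fun k => X.homOfLE (hle k)) fun v => by
        obtain ⟨k, hk⟩ := Opens.mem_iSup.mp v.2
        refine ⟨k, ⟨v.1, hk⟩, Subtype.ext ?_⟩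
        show (X.homOfLE (hle k) ≫ V.ι) _ = _
        rw [X.homOfLE_ι]; rfl).mpr hsep

end Groth.Agent.S7387
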