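import Groth.Statements.S7388
import Groth.Agent.H17.Imports
import Mathlib.AlgebraicGeometry.ProjectiveSpectrum.Basic
import Mathlib.AlgebraicGeometry.Morphisms.Etale
import Mathlib.RingTheory.Smooth.StandardSmoothOfFree
import Mathlib.RingTheory.Unramified.LocalStructure

set_option autoImplicit false
universe u
open CategoryTheory AlgebraicGeometry
open Mor

namespace Groth.Agent.S7388

open CategoryTheory Limits AlgebraicGeometry TopologicalSpace

/-- Let `X` be a scheme admitting an immersion into `Proj S` for some graded ring `S`. Then any finite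
set of points of `X` is contained in an affine open of `X`. -/
theorem result {R A : Type u} [CommRing R] [CommRing A] [Algebra R A]
    (𝒜 : ℕ → Submodule R A) [GradedAlgebra 𝒜] {X : Scheme.{u}} (ι : X ⟶ Proj 𝒜) [IsImmersion ι]
    (E : Set X) (hE : E.Finite) :
    ∃ U : X.Opens, IsAffineOpen U ∧ E ⊆ U := by
  classical
  let C := ι.coborderRange
  have hcomp : ∀ (p : ProjectiveSpectrum 𝒜) (a : A), a ∈ p.asHomogeneousIdeal → ∀ i, (GradedRing.proj 𝒜 i a) ∈ p.asHomogeneousIdeal :=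
    fun p a ha i => p.asHomogeneousIdeal.isHomogeneous i ha
  have hnot : ∀ (p : ProjectiveSpectrum 𝒜) (a : A), a ∉ p.asHomogeneousIdeal → ∃ i, (GradedRing.proj 𝒜 i a) ∉ p.asHomogeneousIdeal := by
    intro p a ha
    by_contra! h
    apply ha
    rw [← DirectSum.sum_support_decompose 𝒜 a]
    exact sum_mem fun i _ => h i
  have hirr : ∀ p : ProjectiveSpectrum 𝒜, ∃ (m : ℕ) (g : A), 0 < m ∧ g ∈ 𝒜 m ∧ g ∉ p.asHomogeneousIdeal := by
    intro p
    obtain ⟨a, ha, hap⟩ := SetLike.not_le_iff_exists.mp p.not_irrelevant_le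
    obtain ⟨i, hi⟩ := hnot p a hap
    refine ⟨i, _, Nat.pos_of_ne_zero ?_, SetLike.coe_mem _, hi⟩
    rintro rfl
    rw [HomogeneousIdeal.mem_irrelevant_iff] at ha
    exact hi (ha ▸ zero_mem _)
  have key : ∀ S : Finset (ProjectiveSpectrum 𝒜), (∀ p ∈ S, p ∈ (C : Set (Proj 𝒜))) →
      ∃ (d : ℕ) (g : A), 0 < d ∧ g ∈ 𝒜 d ∧ Proj.basicOpen 𝒜 g ≤ C ∧ ∀ p ∈ S, g ∉ p.asHomogeneousIdeal := by
    intro S
    induction S using Finset.strongInduction with
    | _ S ih =>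
    intro hS
    rcases S.eq_empty_or_nonempty with rfl | hne
    · exact ⟨1, 0, one_pos, zero_mem _, by simp, by simp⟩
    obtain ⟨p₀, hp₀min⟩ := S.exists_minimal hne
    have hp₀ : p₀ ∈ S := hp₀min.1
    obtain ⟨d, g, hd, hg, hgC, hgS⟩ := ih (S.erase p₀) (Finset.erase_ssubset hp₀) fun p hp => hS p (Finset.mem_of_mem_erase hp)
    by_cases hgp : g ∈ p₀.asHomogeneousIdeal
    swap
    · refine ⟨d, g, hd, hg, hgC, fun p hp => ?_⟩
      by_cases h : p = p₀
      · exact h ▸ hgp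
      · exact hgS p (Finset.mem_erase.mpr ⟨h, hp⟩)
    obtain ⟨_, ⟨h, rfl⟩, hp₀h, hhC⟩ := (ProjectiveSpectrum.isTopologicalBasis_basic_opens 𝒜).exists_subset_of_mem_open (hS p₀ hp₀) C.2
    obtain ⟨i, hi⟩ := hnot p₀ h hp₀h
    obtain ⟨m, b, hm, hb, hbp⟩ := hirr p₀
    have hq : ∀ p ∈ S.erase p₀, ∃ (n : ℕ) (q : A), q ∈ 𝒜 n ∧ q ∈ p.asHomogeneousIdeal ∧ q ∉ p₀.asHomogeneousIdeal := by
      intro p hp
      obtain ⟨hne', hpS⟩ := Finset.mem_erase.mp hp
      obtain ⟨a, ha, hap⟩ := SetLike.not_le_iff_exists.mp (fun hle : p.asHomogeneousIdeal ≤ p₀.asHomogeneousIdeal =>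
        hne' (le_antisymm hle (hp₀min.2 hpS hle)))
      obtain ⟨j, hj⟩ := hnot p₀ a hap
      exact ⟨j, _, SetLike.coe_mem _, hcomp p a ha j, hj⟩
    choose! n q hqn hqp hqp₀ using hq
    let N := i + m + ∑ p ∈ S.erase p₀, n p
    let G := GradedRing.proj 𝒜 i h * b * ∏ p ∈ S.erase p₀, q p
    have hN : 0 < N := by positivity
    have hG : G ∈ 𝒜 N := SetLike.mul_mem_graded (SetLike.mul_mem_graded (SetLike.coe_mem _) hb) (SetLike.prod_mem_graded _ n q hqn)
    have hGp₀ : G ∉ p₀.asHomogeneousIdeal := by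
      intro hmem
      rcases p₀.isPrime.mem_or_mem hmem with hmem | hmem
      · exact (p₀.isPrime.mem_or_mem hmem).elim hi hbp
      · obtain ⟨p, hp, hmem⟩ := p₀.isPrime.prod_mem_iff.mp hmem
        exact hqp₀ p hp hmem
    have hGC : Proj.basicOpen 𝒜 G ≤ C := by
      refine le_trans ?_ (show Proj.basicOpen 𝒜 h ≤ C from hhC)
      refine (Proj.basicOpen_mono 𝒜 _ _ ((dvd_mul_right _ b).trans (dvd_mul_right _ _))).trans ?_
      rw [Proj.basicOpen_eq_iSup_proj 𝒜 h]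
      exact le_iSup (fun i => Proj.basicOpen 𝒜 (GradedRing.proj 𝒜 i h)) i
    refine ⟨N * d, g ^ N + G ^ d, Nat.mul_pos hN hd, ?_, ?_, fun p hp => ?_⟩
    · refine add_mem ?_ ?_
      · simpa using SetLike.pow_mem_graded N hg
      · have := SetLike.pow_mem_graded d hG
        rwa [smul_eq_mul, mul_comm] at this
    · intro z hz
      rw [Proj.mem_basicOpen] at hz
      by_cases hz1 : g ∈ z.asHomogeneousIdeal
      · refine hGC ((Proj.mem_basicOpen _ _ _).mpr fun hz2 => hz ?_)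
        exact add_mem (Ideal.pow_mem_of_mem _ hz1 N hN) (Ideal.pow_mem_of_mem _ hz2 d hd)
      · exact hgC ((Proj.mem_basicOpen _ _ _).mpr hz1)
    · intro hmem
      by_cases hpe : p = p₀
      · subst hpe
        have : G ^ d ∈ p.asHomogeneousIdeal := (add_mem_cancel_left (Ideal.pow_mem_of_mem p.asHomogeneousIdeal.toIdeal hgp N hN)).mp hmem
        exact hGp₀ (p.isPrime.mem_of_pow_mem d this)
      · have hp' := Finset.mem_erase.mpr ⟨hpe, hp⟩
        have hGp : G ∈ p.asHomogeneousIdeal.toIdeal :=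
          Ideal.mul_mem_left _ _ (Ideal.prod_mem _ hp' (hqp p hp'))
        have : g ^ N ∈ p.asHomogeneousIdeal := (add_mem_cancel_right (Ideal.pow_mem_of_mem _ hGp d hd)).mp hmem
        exact hgS p hp' (p.isPrime.mem_of_pow_mem N this)
  obtain ⟨d, g, hd, hg, hgC, hgS⟩ := key ((hE.image ι).toFinset) fun p hp => by
    obtain ⟨e, -, rfl⟩ := (hE.image ι).mem_toFinset.mp hp
    exact subset_coborder ⟨e, rfl⟩
  have hU : IsAffineOpen (C.ι ⁻¹ᵁ Proj.basicOpen 𝒜 g) :=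
    (Proj.isAffineOpen_basicOpen 𝒜 g hg hd).preimage_of_isOpenImmersion C.ι (by rw [Scheme.Opens.opensRange_ι]; exact hgC)
  refine ⟨ι.liftCoborder ⁻¹ᵁ C.ι ⁻¹ᵁ Proj.basicOpen 𝒜 g, hU.preimage ι.liftCoborder, fun e he => ?_⟩
  show C.ι (ι.liftCoborder e) ∈ Proj.basicOpen 𝒜 g
  rw [← Scheme.Hom.comp_apply, ι.liftCoborder_ι, Proj.mem_basicOpen]
  exact hgS _ ((hE.image ι).mem_toFinset.mpr ⟨e, he, rfl⟩)

end Groth.Agent.S7388
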