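import Groth.Statements.S7389
import Groth.Agent.H17.Imports
import Mathlib.AlgebraicGeometry.Normalization

set_option autoImplicit false
universe u
open CategoryTheory AlgebraicGeometry
open Mor

namespace Groth.Agent.S7389

open CategoryTheory Limits AlgebraicGeometry TopologicalSpace

/-- Let `X` be a scheme admitting an immersion into an affine scheme. Then any finite set of points of
`X` is contained in an affine open of `X`. -/
theorem result {X Y : Scheme.{u}} [IsAffine Y] (ι : X ⟶ Y)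
    [IsImmersion ι] (E : Set X) (hE : E.Finite) :
    ∃ U : X.Opens, IsAffineOpen U ∧ E ⊆ U := by
  classical
  let C := ι.coborderRange
  let I := Scheme.IdealSheafData.vanishingIdeal (X := Y) ⟨(C : Set Y)ᶜ, C.2.isClosed_compl⟩
  let T : Y.affineOpens := ⟨⊤, isAffineOpen_top Y⟩
  let p : X → Ideal Γ(Y, ⊤) := fun e => ((isAffineOpen_top Y).primeIdealOf ⟨ι e, trivial⟩).asIdeal
  have hnle : ∀ e, ¬ (I.ideal T ≤ p e) := by
    intro e hle
    have hm : ι e ∈ (I.support : Set Y) ∩ (T.1 : Set Y) := by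
      rw [Scheme.IdealSheafData.coe_support_inter, ← T.2.fromSpec_image_zeroLocus]
      exact ⟨_, hle, T.2.fromSpec_primeIdealOf ⟨ι e, trivial⟩⟩
    rw [Scheme.IdealSheafData.coe_support_vanishingIdeal] at hm
    exact hm.1 (subset_coborder ⟨e, rfl⟩)
  obtain ⟨f, hfI, hf⟩ : ∃ f ∈ I.ideal T, ∀ e ∈ E, f ∉ p e := by
    by_contra! hcon
    have hsub : (I.ideal T : Set Γ(Y, ⊤)) ⊆ ⋃ e ∈ (↑hE.toFinset : Set X), (p e : Set Γ(Y, ⊤)) := by
      intro f hf
      obtain ⟨e, he, hfe⟩ := hcon f hf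
      exact Set.mem_biUnion (hE.mem_toFinset.mpr he) hfe
    rcases hE.toFinset.eq_empty_or_nonempty with he | ⟨a, -⟩
    · rw [he] at hsub
      simpa using hsub (zero_mem _)
    · obtain ⟨e, -, hle⟩ := (Ideal.subset_union_prime a a fun e _ _ _ => PrimeSpectrum.isPrime _).mp hsub
      exact hnle e hle
  have hle : Y.basicOpen f ≤ C := by
    intro y hy
    by_contra hyC
    have hm : y ∈ (I.support : Set Y) ∩ (T.1 : Set Y) := by
      rw [Scheme.IdealSheafData.coe_support_vanishingIdeal]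
      exact ⟨hyC, trivial⟩
    rw [Scheme.IdealSheafData.coe_support_inter] at hm
    exact (Scheme.mem_zeroLocus_iff _ _ _).mp hm.1 f hfI hy
  have hU : IsAffineOpen (C.ι ⁻¹ᵁ Y.basicOpen f) :=
    ((isAffineOpen_top Y).basicOpen f).preimage_of_isOpenImmersion C.ι (by rw [Scheme.Opens.opensRange_ι]; exact hle)
  refine ⟨ι.liftCoborder ⁻¹ᵁ C.ι ⁻¹ᵁ Y.basicOpen f, hU.preimage ι.liftCoborder, fun e he => ?_⟩
  show C.ι (ι.liftCoborder e) ∈ Y.basicOpen f
  rw [← Scheme.Hom.comp_apply, ι.liftCoborder_ι]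
  have := hf e he
  change (isAffineOpen_top Y).primeIdealOf ⟨ι e, trivial⟩ ∈ PrimeSpectrum.basicOpen f at this
  rw [← (isAffineOpen_top Y).fromSpec_preimage_basicOpen] at this
  have h' : (isAffineOpen_top Y).fromSpec ((isAffineOpen_top Y).primeIdealOf ⟨ι e, trivial⟩) ∈ Y.basicOpen f := this
  rwa [(isAffineOpen_top Y).fromSpec_primeIdealOf ⟨ι e, trivial⟩] at h'

end Groth.Agent.S7389
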