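import Groth.Statements.S7391
import Groth.Agent.H17.LocProj
-- import your own Groth.Agent.* helpers here

set_option autoImplicit false
universe u
open CategoryTheory AlgebraicGeometry
open Opposite
open Mor

namespace Groth.Agent.S7391

/-- Let `F` be a quasi-coherent `O_X`-module on a scheme `X`. Then `F(U)` is a projective
`O_X(U)`-module for every affine open `U` (that is, `F` is locally projective) if and only if `X`
has a covering by affine opens `U_i` with `F(U_i)` projective over `O_X(U_i)`. -/
theorem result (X : Scheme.{u}) (F : X.Modules) [Coh.IsQCoh F] :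
    (∀ U : X.Opens, IsAffineOpen U → Module.Projective (X.ringCatSheaf.obj.obj (op U)) (F.val.obj (op U))) ↔
      ∃ (I : Type u) (U : I → X.Opens), (⨆ i, U i) = ⊤ ∧ ∀ i, IsAffineOpen (U i) ∧
        Module.Projective (X.ringCatSheaf.obj.obj (op (U i))) (F.val.obj (op (U i))) := by
  refine ⟨fun h => ⟨X.affineOpens, fun U => U.1, iSup_affineOpens_eq_top X, fun U => ⟨U.2, h U.1 U.2⟩⟩, ?_⟩
  rintro ⟨I, U, hcov, hP⟩ V hV
  exact Groth.Agent.H17.LocProj.projAt_of_affine_cover F inferInstance U (fun i => (hP i).1) hcov (fun i => (hP i).2) hV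

end Groth.Agent.S7391
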