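import Groth.Statements.S7392
import Groth.Agent.H17.LocProj
-- import your own Groth.Agent.* helpers here

set_option autoImplicit false
universe u
open CategoryTheory AlgebraicGeometry
open Opposite
open Mor

namespace Groth.Agent.S7392

/-- For a ring `A` and an `A`-module `M`, the module `M~` on `Spec A` is locally projective (projective
sections over every affine open) if and only if `M` is a projective `A`-module. -/
theorem result (A : CommRingCat.{u}) (M : ModuleCat.{u} A) :
    (∀ U : (Spec A).Opens, IsAffineOpen U →
      Module.Projective ((Spec A).ringCatSheaf.obj.obj (op U)) ((tilde M).val.obj (op U))) ↔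
      Module.Projective A M := by
  have e0 : Function.Bijective (tilde.toOpen M ⊤).hom := ConcreteCategory.bijective_of_isIso (tilde.toOpen M ⊤)
  let σ : A ≃+* Γ(Spec A, ⊤) := (Scheme.ΓSpecIso A).symm.commRingCatIsoToRingEquiv
  letI i1 : RingHomInvPair σ.toRingHom σ.symm.toRingHom := RingHomInvPair.of_ringEquiv σ
  letI i2 : RingHomInvPair σ.symm.toRingHom σ.toRingHom := RingHomInvPair.of_ringEquiv σ.symm
  let e : M ≃ₛₗ[σ.toRingHom] Γ(tilde M, ⊤) :=
    { AddEquiv.ofBijective (tilde.toOpen M ⊤).hom.toAddMonoidHom e0 with
      map_smul' := fun r m => by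
        show (show Γ(tilde M, ⊤) from (tilde.toOpen M ⊤).hom (r • m)) =
          σ r • (show Γ(tilde M, ⊤) from (tilde.toOpen M ⊤).hom m)
        rw [map_smul]
        refine (Scheme.Modules.smul_Spec_def r _).trans ?_
        rw [show (⊤ : (Spec A).Opens).leTop = 𝟙 _ from rfl, op_id, CategoryTheory.Functor.map_id]
        rfl }
  constructor
  · intro h
    haveI : Module.Projective Γ(Spec A, ⊤) Γ(tilde M, ⊤) := h ⊤ (isAffineOpen_top _)
    exact Module.Projective.of_equiv e.symm
  · intro h U hU
    refine Groth.Agent.H17.LocProj.projAt_of_affine_cover (tilde M) inferInstance (fun _ : Unit => ⊤)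
      (fun _ => isAffineOpen_top _) (by simp) (fun _ => ?_) hU
    exact Module.Projective.of_equiv e

end Groth.Agent.S7392
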