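import Groth.Statements.S7393
import Groth.Agent.H05EGA4.GRingPoly
import Groth.Agent.H05EGA4.Points
-- import your own Groth.Agent.* helpers here

set_option autoImplicit false
universe u
open CategoryTheory AlgebraicGeometry
open Mor

namespace Groth.Agent.S7393

/-- A scheme `X` is a G-scheme (every point has an affine open neighbourhood whose coordinate ring is a
G-ring) if and only if `X` is locally Noetherian and, for every closed point `x`, the completion map
of the local ring `O_{X,x} → O_{X,x}^∧` is a regular ring map. -/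
theorem result (X : Scheme.{u}) :
    (∀ x : X, ∃ U : X.Opens, x ∈ U ∧ IsAffineOpen U ∧ CAlg.IsGRing Γ(X, U)) ↔
      IsLocallyNoetherian X ∧ ∀ x : X, IsClosed ({x} : Set X) →
        CAlg.IsRegularHom (X.presheaf.stalk x)
          (AdicCompletion (IsLocalRing.maximalIdeal (X.presheaf.stalk x)) (X.presheaf.stalk x)) := by
  open H05EGA4 in
  have transfer : ∀ {A B : Type u} [CommRing A] [CommRing B] [IsLocalRing A] [IsLocalRing B] [IsNoetherianRing A]
      [IsNoetherianRing B] (e : A ≃+* B),
      CAlg.IsRegularHom A (EGA4.Cpl A) → CAlg.IsRegularHom B (EGA4.Cpl B) := by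
    intro A B _ _ _ _ _ _ e h
    haveI := isNoetherianRing_cpl B
    exact isRegularHom_iff_grsHom.mpr (GRSHom.cpl_of_surjective e.toRingHom e.surjective (grsHom_of_isRegularHom h))
  constructor
  · intro h
    choose W hxW hW hG using h
    haveI : IsLocallyNoetherian X := by
      refine (isLocallyNoetherian_iff_of_iSup_eq_top (S := fun x => ⟨W x, hW x⟩) ?_).2 fun x => (hG x).1
      exact top_le_iff.mp fun x _ => TopologicalSpace.Opens.mem_iSup.mpr ⟨x, hxW x⟩
    refine ⟨inferInstance, fun x _ => ?_⟩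
    letI := TopCat.Presheaf.algebra_section_stalk X.presheaf (⟨x, hxW x⟩ : W x)
    haveI : IsLocalization.AtPrime (X.presheaf.stalk x) ((hW x).primeIdealOf ⟨x, hxW x⟩).asIdeal :=
      (hW x).isLocalization_stalk ⟨x, hxW x⟩
    haveI := (hG x).1
    haveI : IsNoetherianRing (X.presheaf.stalk x) :=
      IsLocalization.isNoetherianRing ((hW x).primeIdealOf ⟨x, hxW x⟩).asIdeal.primeCompl _ inferInstance
    haveI : IsNoetherianRing (Localization.AtPrime ((hW x).primeIdealOf ⟨x, hxW x⟩).asIdeal) :=
      IsLocalization.isNoetherianRing ((hW x).primeIdealOf ⟨x, hxW x⟩).asIdeal.primeCompl _ inferInstance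
    exact transfer (IsLocalization.algEquiv ((hW x).primeIdealOf ⟨x, hxW x⟩).asIdeal.primeCompl
      (Localization.AtPrime ((hW x).primeIdealOf ⟨x, hxW x⟩).asIdeal) (X.presheaf.stalk x)).toRingEquiv ((hG x).2 _)
  · rintro ⟨hX, h⟩ x
    obtain ⟨U, hU, hxU, -⟩ := exists_isAffineOpen_mem_and_subset (X := X) (x := x) (U := ⊤) trivial
    haveI : IsNoetherianRing Γ(X, U) := IsLocallyNoetherian.component_noetherian ⟨U, hU⟩
    refine ⟨U, hxU, hU, isGRing_of_maximal fun m _ => ?_⟩
    let p : PrimeSpectrum Γ(X, U) := ⟨m, inferInstance⟩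
    have hyU : hU.fromSpec p ∈ U := hU.range_fromSpec.le (Set.mem_range_self p)
    obtain ⟨z, hz, hzc⟩ := exists_closedPoint X (closure {hU.fromSpec p}) isClosed_closure ⟨_, subset_closure rfl⟩
    have hyz : hU.fromSpec p ⤳ z := specializes_iff_mem_closure.2 hz
    obtain ⟨W, hW, hzW, -⟩ := exists_isAffineOpen_mem_and_subset (X := X) (x := z) (U := ⊤) trivial
    have hyW : hU.fromSpec p ∈ W := hyz.mem_open W.2 hzW
    haveI : IsNoetherianRing Γ(X, W) := IsLocallyNoetherian.component_noetherian ⟨W, hW⟩
    -- the two local rings at p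
    letI := TopCat.Presheaf.algebra_section_stalk X.presheaf (⟨_, hyU⟩ : U)
    haveI : IsLocalization.AtPrime (X.presheaf.stalk (hU.fromSpec p)) p.asIdeal := hU.isLocalization_stalk' p hyU
    haveI : IsNoetherianRing (X.presheaf.stalk (hU.fromSpec p)) :=
      IsLocalization.isNoetherianRing p.asIdeal.primeCompl _ inferInstance
    haveI : IsNoetherianRing (Localization.AtPrime m) :=
      IsLocalization.isNoetherianRing m.primeCompl _ inferInstance
    refine transfer (IsLocalization.algEquiv p.asIdeal.primeCompl (X.presheaf.stalk (hU.fromSpec p))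
      (Localization.AtPrime m)).toRingEquiv ?_
    -- from the closed point z
    letI algz := TopCat.Presheaf.algebra_section_stalk X.presheaf (⟨z, hzW⟩ : W)
    letI algy := TopCat.Presheaf.algebra_section_stalk X.presheaf (⟨_, hyW⟩ : W)
    haveI : IsLocalization.AtPrime (X.presheaf.stalk z) (hW.primeIdealOf ⟨z, hzW⟩).asIdeal :=
      hW.isLocalization_stalk ⟨z, hzW⟩
    haveI : IsLocalization.AtPrime (X.presheaf.stalk (hU.fromSpec p)) (hW.primeIdealOf ⟨_, hyW⟩).asIdeal :=
      hW.isLocalization_stalk ⟨_, hyW⟩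
    letI : Algebra (X.presheaf.stalk z) (X.presheaf.stalk (hU.fromSpec p)) :=
      (X.presheaf.stalkSpecializes hyz).hom.toAlgebra
    haveI : IsScalarTower Γ(X, W) (X.presheaf.stalk z) (X.presheaf.stalk (hU.fromSpec p)) :=
      IsScalarTower.of_algebraMap_eq' (congrArg CommRingCat.Hom.hom (X.presheaf.germ_stalkSpecializes hzW hyz)).symm
    haveI : Algebra.EssFiniteType Γ(X, W) (X.presheaf.stalk (hU.fromSpec p)) :=
      Algebra.EssFiniteType.of_isLocalization _ (hW.primeIdealOf ⟨_, hyW⟩).asIdeal.primeCompl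
    haveI : Algebra.EssFiniteType (X.presheaf.stalk z) (X.presheaf.stalk (hU.fromSpec p)) :=
      Algebra.EssFiniteType.of_comp Γ(X, W) _ _
    haveI : IsNoetherianRing (X.presheaf.stalk z) :=
      IsLocalization.isNoetherianRing (hW.primeIdealOf ⟨z, hzW⟩).asIdeal.primeCompl _ inferInstance
    haveI := isNoetherianRing_cpl (X.presheaf.stalk (hU.fromSpec p))
    exact isRegularHom_iff_grsHom.mpr
      (GRSHom.cpl_essFiniteType (grsHom_of_isRegularHom (h z hzc)) (X.presheaf.stalk (hU.fromSpec p)))

end Groth.Agent.S7393
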