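-- statement Lim.GrothFrozen.S7394 (Groth/Statements/S7394.lean; the theorem Lim.surjective_of_isLimit_fan_of_affine_surjective);
import Groth.Statements.S7394
import Groth.Agent.H7Lim.Compositum

set_option autoImplicit false
universe u
open CategoryTheory AlgebraicGeometry
open Lim

namespace Groth.Agent.S7394

/-- Let `S` be a scheme and `T_i → S`, `i ∈ I`, surjective affine morphisms. Then any product of the
`T_i` in the category of schemes over `S` maps surjectively onto `S`. -/
theorem result {S : Scheme.{u}} {I : Type u} (T : I → Over S)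
    (hT : ∀ i, IsAffineHom (T i).hom ∧ Surjective (T i).hom) (c : Limits.Fan T) (hc : Limits.IsLimit c) :
    Surjective c.pt.hom := by
  refine ⟨fun s ↦ ?_⟩
  choose z hz using fun i ↦ Scheme.Pullback.exists_preimage_pullback
    (f := (T i).hom) (g := S.fromSpecResidueField s) ((hT i).2.surj s).choose
    (IsLocalRing.closedPoint (S.residueField s)) (by
      exact ((hT i).2.surj s).choose_spec.trans (S.fromSpecResidueField_apply s _).symm)
  let Z (i : I) := Limits.pullback (T i).hom (S.fromSpecResidueField s)
  let q (i : I) : Spec ((Z i).residueField (z i)) ⟶ Spec (S.residueField s) :=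
    (Z i).fromSpecResidueField (z i) ≫ Limits.pullback.snd _ _
  choose φ hφ using fun i ↦ Spec.map_surjective (q i)
  obtain ⟨Ω, _, ψ, hΩ⟩ := Groth.Agent.H7Lim.exists_field_of_family
    (fun i ↦ ((Z i).residueField (z i) : Type u)) (fun i ↦ (φ i).hom)
  choose a ha using hΩ
  let w : Spec (CommRingCat.of Ω) ⟶ S := Spec.map (CommRingCat.ofHom ψ) ≫ S.fromSpecResidueField s
  let l (i : I) : Spec (CommRingCat.of Ω) ⟶ (T i).left :=
    Spec.map (CommRingCat.ofHom (a i)) ≫ (Z i).fromSpecResidueField (z i) ≫ Limits.pullback.fst _ _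
  have hl (i : I) : l i ≫ (T i).hom = w := by
    simp only [l, w, Category.assoc, Limits.pullback.condition]
    rw [← Category.assoc ((Z i).fromSpecResidueField (z i))]
    show Spec.map (CommRingCat.ofHom (a i)) ≫ q i ≫ _ = _
    rw [← hφ i, ← Category.assoc, ← Spec.map_comp]
    congr 2
    exact CommRingCat.hom_ext (ha i)
  let L := Limits.Fan.IsLimit.lift hc (A := Over.mk w) fun i ↦ Over.homMk (l i) (hl i)
  refine ⟨L.left (default : PrimeSpectrum Ω), ?_⟩
  have h : L.left ≫ c.pt.hom = w := Over.w L
  refine (congr($h (default : PrimeSpectrum Ω))).trans ?_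
  exact S.fromSpecResidueField_apply s _

end Groth.Agent.S7394
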