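-- statement Lim.GrothFrozen.S7396 (Groth/Statements/S7396.lean; the theorem Lim.exists_isClosedImmersion_into_finite_finitePresentation);
import Groth.Statements.S7396
import Groth.Agent.H7Lim.IntegralApprox

set_option autoImplicit false
universe u
open CategoryTheory AlgebraicGeometry
open Lim

namespace Groth.Agent.S7396

/-- Let `f : X → S` be finite with `S` quasi-compact and quasi-separated. Then there are a morphism `f'
: X' → S` which is finite and of finite presentation and a closed immersion `X → X'` over `S`. -/
theorem result {X S : Scheme.{u}} (f : X ⟶ S) [IsFinite f]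
    [CompactSpace S] [QuasiSeparatedSpace S] :
    ∃ (X' : Scheme.{u}) (f' : X' ⟶ S) (j : X ⟶ X'), IsFinite f' ∧ LocallyOfFinitePresentation f' ∧
      IsClosedImmersion j ∧ j ≫ f' = f := by
  obtain ⟨P, p, a, hp, ha, hap⟩ := Groth.Agent.H7Lim.exists_isClosedImmersion_finFp (f := f)
  exact ⟨P, p, a, hp.1, hp.2, ha, hap⟩

end Groth.Agent.S7396
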