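import Groth.Statements.S7397
import Groth.Agent.H17.Imports

set_option autoImplicit false
universe u
open Mor

namespace Groth.Agent.S7397

/-- Let `A ⊆ B` be a ring extension and `b ∈ B`, `b ∉ A`, with `b^n, b^(n+1) ∈ A` for some `n ≥ 2`. Then
some `b' ∈ B` with `b' ∉ A` has `b'^2 ∈ A` and `b'^3 ∈ A`. -/
theorem result {B : Type u} [CommRing B] (A : Subring B) (b : B) (hb : b ∉ A)
    (n : ℕ) (hn : 2 ≤ n) (h1 : b ^ n ∈ A) (h2 : b ^ (n + 1) ∈ A) :
    ∃ b' : B, b' ∉ A ∧ b' ^ 2 ∈ A ∧ b' ^ 3 ∈ A := by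
  have hall : ∀ m, n*n ≤ m → b ^ m ∈ A := by
    intro m hm
    have hq : n ≤ m / n := (Nat.le_div_iff_mul_le (by omega)).mpr hm
    have hr : m % n ≤ m / n := le_trans (Nat.mod_lt _ (by omega)).le hq
    have : m = n * (m / n - m % n) + (n+1) * (m % n) := by
      zify [hr]; have := Nat.div_add_mod m n; push_cast [← @Nat.cast_inj ℤ] at this; linarith
    rw [this, pow_add, pow_mul, pow_mul]
    exact mul_mem (pow_mem h1 _) (pow_mem h2 _)
  classical
  let P : ℕ → Prop := fun k => ∀ m, k ≤ m → b ^ m ∈ A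
  have hP : ∃ k, P k := ⟨_, hall⟩
  have hk2 : 2 ≤ Nat.find hP := by
    by_contra h; exact hb (by simpa using Nat.find_spec hP 1 (by omega))
  refine ⟨b ^ (Nat.find hP - 1), fun h => Nat.find_min hP (m := Nat.find hP - 1) (by omega) fun m hm => ?_,
    ?_, ?_⟩
  · rcases eq_or_lt_of_le hm with rfl | hm
    · exact h
    · exact Nat.find_spec hP m (by omega)
  all_goals rw [← pow_mul]; exact Nat.find_spec hP _ (by omega)

end Groth.Agent.S7397
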