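import Groth.Statements.S7398
import Groth.Agent.H17.Cusp
import Mathlib.AlgebraicGeometry.Morphisms.Preimmersion

set_option autoImplicit false
universe u
open CategoryTheory AlgebraicGeometry
open Mor

namespace Groth.Agent.S7398

open CategoryTheory AlgebraicGeometry
open Groth.Agent.H17 Groth.Agent.H17.UnivHomeoAlg

/-- Let `A ⊆ B` be a ring extension with `A ≠ B` such that `Spec B → Spec A` is a universal
homeomorphism whose residue field extensions are all trivial. Then some `b ∈ B` with `b ∉ A` has
`b^2 ∈ A` and `b^3 ∈ A`. (Here `A → B` is an injective, non-surjective ring map and membership in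
`A` means membership in its image.) -/
theorem result {A B : Type u} [CommRing A] [CommRing B]
    (φ : A →+* B) (hinj : Function.Injective φ) (hns : ¬ Function.Surjective φ)
    (hU : FlatMor.IsUnivHomeo (Spec.map (CommRingCat.ofHom φ)))
    (hres : ∀ x : Spec (CommRingCat.of B), Function.Surjective ((Spec.map (CommRingCat.ofHom φ)).residueFieldMap x)) :
    ∃ b : B, b ∉ φ.range ∧ b ^ 2 ∈ φ.range ∧ b ^ 3 ∈ φ.range := by
  let := φ.toAlgebra
  obtain ⟨hi, hu, -⟩ := isUnivHomeo_iff.mp (show FlatMor.IsUnivHomeo (Spec.map (CommRingCat.ofHom (algebraMap A B))) from hU)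
  rcases Cusp.exists_elementary hu hns with h | ⟨-, h⟩
  · exact h
  · exact absurd (rg_iff.mp (show ∀ x : Spec (CommRingCat.of B), Function.Surjective
      ((Spec.map (CommRingCat.ofHom (algebraMap A B))).residueFieldMap x) from hres)) h

end Groth.Agent.S7398
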