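import Groth.Statements.S7400
import Groth.Agent.H17.Tower

set_option autoImplicit false
universe u
open CategoryTheory AlgebraicGeometry
open Mor

namespace Groth.Agent.S7400

open CategoryTheory AlgebraicGeometry
open Groth.Agent.H17 Groth.Agent.H17.UnivHomeoAlg

/-- Let `A ⊆ B` be a ring extension. The morphism `Spec B → Spec A` is a universal homeomorphism with
all residue field extensions trivial exactly when each finite subset of `B` is contained in some
`A[b_1, …, b_n] ⊆ B` such that `b_i^2` and `b_i^3` lie in `A[b_1, …, b_{i-1}]` for every `i`. (Here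
`A → B` is an injective ring map and `A[b_1, …, b_{i-1}]` is the `A`-subalgebra generated by the
earlier entries.) -/
theorem result {A B : Type u} [CommRing A] [CommRing B] [Algebra A B]
    (hinj : Function.Injective (algebraMap A B)) :
    (FlatMor.IsUnivHomeo (Spec.map (CommRingCat.ofHom (algebraMap A B))) ∧
      ∀ x : Spec (CommRingCat.of B),
        Function.Surjective ((Spec.map (CommRingCat.ofHom (algebraMap A B))).residueFieldMap x)) ↔
    ∀ E : Finset B, ∃ l : List B, (↑E : Set B) ⊆ Algebra.adjoin A {b : B | b ∈ l} ∧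
      ∀ i : Fin l.length, l.get i ^ 2 ∈ Algebra.adjoin A {b : B | ∃ j : Fin l.length, j < i ∧ b = l.get j} ∧
        l.get i ^ 3 ∈ Algebra.adjoin A {b : B | ∃ j : Fin l.length, j < i ∧ b = l.get j} := by
  constructor
  · rintro ⟨h, hr⟩ E
    obtain ⟨hi, hu, -⟩ := isUnivHomeo_iff.mp h
    have htop := Tower.reached_eq_top (P := Tower.SqCube) Tower.sqCube_mono Tower.sqCube_fin fun S hS => by
      obtain ⟨b, hb, -, hb'⟩ := Tower.exists_step hi hu S hS
      exact ⟨b, hb, hb' (rg_iff.mp hr)⟩
    exact Tower.exists_tower_finset E fun b _ => htop ▸ Algebra.mem_top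
  · intro H
    have H' : ∀ b : B, ∃ l, Tower.IsTower (Tower.SqCube (A := A)) l ∧ b ∈ Algebra.adjoin A {c : B | c ∈ l} :=
      fun b => by
        classical
        obtain ⟨l, h1, h2⟩ := H {b}
        exact ⟨l, h2, h1 (by simp)⟩
    obtain ⟨hi, hu⟩ := Tower.properties_of_towers (A := A) fun b => by
      obtain ⟨l, hl, hb⟩ := H' b
      exact ⟨l, fun i => Or.inl (hl i), hb⟩
    exact ⟨isUnivHomeo_iff.mpr ⟨hi, hu, lf_of_integral fun a ha => ⟨1, by
      rw [pow_one]; exact hinj (ha.trans (map_zero _).symm)⟩⟩, rg_iff.mpr (Tower.rg_of_towers H')⟩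

end Groth.Agent.S7400
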