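import Groth.Statements.S7401
import Groth.Agent.H17.Tower

set_option autoImplicit false
universe u
open CategoryTheory AlgebraicGeometry
open Mor

namespace Groth.Agent.S7401

open CategoryTheory AlgebraicGeometry
open Groth.Agent.H17 Groth.Agent.H17.UnivHomeoAlg

/-- Let `A ⊆ B` be a ring extension. Then `Spec B → Spec A` is a universal homeomorphism if and only if
every finite subset of `B` lies in a subextension `A[b_1, …, b_n]` such that for each `i` either
`b_i^2, b_i^3 ∈ A[b_1, …, b_{i-1}]` or there is a prime number `p` with `p b_i, b_i^p ∈ A[b_1, …,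
b_{i-1}]`. -/
theorem result {A B : Type u} [CommRing A] [CommRing B] [Algebra A B]
    (hinj : Function.Injective (algebraMap A B)) :
    FlatMor.IsUnivHomeo (Spec.map (CommRingCat.ofHom (algebraMap A B))) ↔
    ∀ E : Finset B, ∃ l : List B, (↑E : Set B) ⊆ Algebra.adjoin A {b : B | b ∈ l} ∧
      ∀ i : Fin l.length,
        (l.get i ^ 2 ∈ Algebra.adjoin A {b : B | ∃ j : Fin l.length, j < i ∧ b = l.get j} ∧
          l.get i ^ 3 ∈ Algebra.adjoin A {b : B | ∃ j : Fin l.length, j < i ∧ b = l.get j}) ∨
        ∃ p : ℕ, p.Prime ∧ (p : B) * l.get i ∈ Algebra.adjoin A {b : B | ∃ j : Fin l.length, j < i ∧ b = l.get j} ∧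
          l.get i ^ p ∈ Algebra.adjoin A {b : B | ∃ j : Fin l.length, j < i ∧ b = l.get j} := by
  constructor
  · intro h E
    obtain ⟨hi, hu, -⟩ := isUnivHomeo_iff.mp h
    have htop := Tower.reached_eq_top (P := Tower.PRoot) Tower.pRoot_mono Tower.pRoot_fin fun S hS => by
      obtain ⟨b, hb, hb', -⟩ := Tower.exists_step hi hu S hS
      exact ⟨b, hb, hb'⟩
    exact Tower.exists_tower_finset E fun b _ => htop ▸ Algebra.mem_top
  · intro H
    obtain ⟨hi, hu⟩ := Tower.properties_of_towers (A := A) fun b => by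
      classical
      obtain ⟨l, h1, h2⟩ := H {b}
      exact ⟨l, h2, h1 (by simp)⟩
    exact isUnivHomeo_iff.mpr ⟨hi, hu, lf_of_integral fun a ha => ⟨1, by
      rw [pow_one]; exact hinj (ha.trans (map_zero _).symm)⟩⟩

end Groth.Agent.S7401
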