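import Groth.Statements.S7402
import Groth.Agent.H17.FieldPoints
import Mathlib.RingTheory.IntegralClosure.IsIntegralClosure.Basic
import Mathlib.FieldTheory.IsAlgClosed.Basic

set_option autoImplicit false
universe u
open CategoryTheory AlgebraicGeometry
open Polynomial
open Mor

namespace Groth.Agent.S7402

open CategoryTheory AlgebraicGeometry Polynomial
open Groth.Agent.H17

/-- Let `A` be a ring and `x, y ∈ A` with `x^3 = y^2`. Then `A → B = A[t]/(t^2 - x, t^3 - y)` induces a
universal homeomorphism on spectra and isomorphisms on residue fields. -/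
theorem result (A : Type u) [CommRing A] (x y : A) (h : x ^ 3 = y ^ 2) :
    FlatMor.IsUnivHomeo (Spec.map (CommRingCat.ofHom (algebraMap A
      (A[X] ⧸ Ideal.span ({X ^ 2 - C x, X ^ 3 - C y} : Set A[X]))))) ∧
    ∀ q : Spec (CommRingCat.of (A[X] ⧸ Ideal.span ({X ^ 2 - C x, X ^ 3 - C y} : Set A[X]))),
      Function.Surjective ((Spec.map (CommRingCat.ofHom (algebraMap A
        (A[X] ⧸ Ideal.span ({X ^ 2 - C x, X ^ 3 - C y} : Set A[X]))))).residueFieldMap q) := by
  let I := Ideal.span ({X ^ 2 - C x, X ^ 3 - C y} : Set A[X])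
  let t : A[X] ⧸ I := Ideal.Quotient.mk I X
  have r2 : t ^ 2 = algebraMap A (A[X] ⧸ I) x := by
    rw [← map_pow]; exact Ideal.Quotient.mk_eq_mk_iff_sub_mem _ _ |>.mpr (Ideal.subset_span (Or.inl rfl))
  have r3 : t ^ 3 = algebraMap A (A[X] ⧸ I) y := by
    rw [← map_pow]; exact Ideal.Quotient.mk_eq_mk_iff_sub_mem _ _ |>.mpr (Ideal.subset_span (Or.inr rfl))
  have : Algebra.IsIntegral A (A[X] ⧸ I) := ⟨fun b => by
    obtain ⟨P, rfl⟩ := Ideal.Quotient.mk_surjective b
    have ht : IsIntegral A t := .of_pow (n := 2) two_pos (r2 ▸ isIntegral_algebraMap)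
    induction P using Polynomial.induction_on' with
    | add P Q hP hQ => rw [map_add]; exact hP.add hQ
    | monomial n a =>
      rw [← C_mul_X_pow_eq_monomial, map_mul, map_pow]
      exact (isIntegral_algebraMap (R := A) (x := a)).mul (ht.pow n)⟩
  have hu : ∀ (K : Type u) [Field K] (ψ ψ' : A[X] ⧸ I →+* K),
      ψ.comp (algebraMap A _) = ψ'.comp (algebraMap A _) → ψ = ψ' := by
    intro K _ ψ ψ' he
    have hx : ψ t ^ 2 = ψ' t ^ 2 := by
      refine (map_pow ψ t 2).symm.trans (Eq.trans ?_ (map_pow ψ' t 2))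
      rw [r2]; exact congr($he x)
    have hy : ψ t ^ 3 = ψ' t ^ 3 := by
      refine (map_pow ψ t 3).symm.trans (Eq.trans ?_ (map_pow ψ' t 3))
      rw [r3]; exact congr($he y)
    have : ψ t = ψ' t := by
      by_cases h0 : ψ t = 0
      · rw [h0] at hx ⊢
        rw [zero_pow two_ne_zero, eq_comm, pow_eq_zero_iff two_ne_zero] at hx
        exact hx.symm
      · exact mul_left_cancel₀ (pow_ne_zero 2 h0) (by linear_combination hy - ψ' t * hx)
    exact Ideal.Quotient.ringHom_ext (Polynomial.ringHom_ext (fun a => congr($he a)) this)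
  have he : ∀ (K : Type u) [Field K] (φ : A →+* K), ∃ ψ : A[X] ⧸ I →+* K, ψ.comp (algebraMap A _) = φ := by
    intro K _ φ
    have hxy : φ x ^ 3 = φ y ^ 2 := by rw [← map_pow, ← map_pow, h]
    obtain ⟨s, h2, h3⟩ : ∃ s : K, s ^ 2 = φ x ∧ s ^ 3 = φ y := by
      by_cases hx : φ x = 0
      · refine ⟨0, by simp [hx], ?_⟩
        have : φ y ^ 2 = 0 := by rw [← hxy, hx]; simp
        rw [pow_eq_zero_iff two_ne_zero] at this
        simp [this]
      · refine ⟨φ y / φ x, ?_, ?_⟩
        · field_simp; linear_combination -hxy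
        · field_simp; linear_combination -(φ y) * hxy
    refine ⟨Ideal.Quotient.lift I (Polynomial.eval₂RingHom φ s) fun P hP => ?_, ?_⟩
    · have : I ≤ RingHom.ker (Polynomial.eval₂RingHom φ s) := Ideal.span_le.mpr (by
        rintro _ (rfl | rfl) <;> simp [h2, h3])
      exact this hP
    · ext a
      rw [RingHom.comp_apply, show algebraMap A (A[X] ⧸ I) a = Ideal.Quotient.mk I (C a) from rfl,
        Ideal.Quotient.lift_mk]
      simp
  exact ⟨FieldPoints.isUnivHomeo_of_points A _ hu (fun K _ _ => he K),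
    FieldPoints.surjective_residueFieldMap_of_points A _ hu he⟩

end Groth.Agent.S7402
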