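import Groth.Statements.S7403
import Groth.Agent.H17.FieldPoints
import Mathlib.RingTheory.IntegralClosure.IsIntegralClosure.Basic
import Mathlib.FieldTheory.IsAlgClosed.Basic

set_option autoImplicit false
universe u
open CategoryTheory AlgebraicGeometry
open Polynomial
open Mor

namespace Groth.Agent.S7403

open CategoryTheory AlgebraicGeometry Polynomial
open Groth.Agent.H17

/-- Let `A` be a ring, `p` a prime number and `x, y ∈ A` with `p^p x = y^p`. Then `A → B = A[t]/(t^p -
x, p t - y)` induces a universal homeomorphism on spectra. -/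
theorem result (A : Type u) [CommRing A] (p : ℕ) (hp : p.Prime) (x y : A)
    (h : (p : A) ^ p * x = y ^ p) :
    FlatMor.IsUnivHomeo (Spec.map (CommRingCat.ofHom (algebraMap A
      (A[X] ⧸ Ideal.span ({X ^ p - C x, C (p : A) * X - C y} : Set A[X]))))) := by
  let I := Ideal.span ({X ^ p - C x, C (p : A) * X - C y} : Set A[X])
  let t : A[X] ⧸ I := Ideal.Quotient.mk I X
  have r2 : t ^ p = algebraMap A (A[X] ⧸ I) x := by
    rw [← map_pow]; exact Ideal.Quotient.mk_eq_mk_iff_sub_mem _ _ |>.mpr (Ideal.subset_span (Or.inl rfl))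
  have r3 : algebraMap A (A[X] ⧸ I) (p : A) * t = algebraMap A (A[X] ⧸ I) y := by
    show Ideal.Quotient.mk I (C (p : A)) * Ideal.Quotient.mk I X = Ideal.Quotient.mk I (C y)
    rw [← map_mul]
    exact Ideal.Quotient.mk_eq_mk_iff_sub_mem _ _ |>.mpr (Ideal.subset_span (Or.inr rfl))
  have : Algebra.IsIntegral A (A[X] ⧸ I) := ⟨fun b => by
    obtain ⟨P, rfl⟩ := Ideal.Quotient.mk_surjective b
    have ht : IsIntegral A t := .of_pow (n := p) hp.pos (r2 ▸ isIntegral_algebraMap)
    induction P using Polynomial.induction_on' with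
    | add P Q hP hQ => rw [map_add]; exact hP.add hQ
    | monomial n a =>
      rw [← C_mul_X_pow_eq_monomial, map_mul, map_pow]
      exact (isIntegral_algebraMap (R := A) (x := a)).mul (ht.pow n)⟩
  have hu : ∀ (K : Type u) [Field K] (ψ ψ' : A[X] ⧸ I →+* K),
      ψ.comp (algebraMap A _) = ψ'.comp (algebraMap A _) → ψ = ψ' := by
    intro K _ ψ ψ' he
    have : ψ t = ψ' t := by
      by_cases hK : (p : K) = 0
      · have : CharP K p := CharP.charP_iff_prime_eq_zero hp |>.mpr hK
        have : Fact p.Prime := ⟨hp⟩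
        have hx : ψ t ^ p = ψ' t ^ p := by
          refine (map_pow ψ t p).symm.trans (Eq.trans ?_ (map_pow ψ' t p))
          rw [r2]; exact congr($he x)
        exact frobenius_inj K p hx
      · have hy : ψ (algebraMap A _ (p : A)) * ψ t = ψ' (algebraMap A _ (p : A)) * ψ' t := by
          rw [← map_mul, ← map_mul, r3]; exact congr($he y)
        simp only [map_natCast] at hy
        exact mul_left_cancel₀ hK hy
    exact Ideal.Quotient.ringHom_ext (Polynomial.ringHom_ext (fun a => congr($he a)) this)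
  refine FieldPoints.isUnivHomeo_of_points A _ hu fun K _ _ φ => ?_
  have hxy : (p : K) ^ p * φ x = φ y ^ p := by
    rw [← map_pow, ← h, map_mul, map_pow, map_natCast]
  obtain ⟨s, h2, h3⟩ : ∃ s : K, s ^ p = φ x ∧ (p : K) * s = φ y := by
    by_cases hK : (p : K) = 0
    · obtain ⟨s, hs⟩ := IsAlgClosed.exists_pow_nat_eq (φ x) hp.pos
      refine ⟨s, hs, ?_⟩
      have : φ y ^ p = 0 := by rw [← hxy, hK]; simp [hp.ne_zero]
      rw [pow_eq_zero_iff hp.ne_zero] at this
      simp [hK, this]
    · refine ⟨φ y / p, ?_, ?_⟩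
      · rw [div_pow, ← hxy]; field_simp
      · field_simp
  refine ⟨Ideal.Quotient.lift I (Polynomial.eval₂RingHom φ s) fun P hP => ?_, ?_⟩
  · have : I ≤ RingHom.ker (Polynomial.eval₂RingHom φ s) := Ideal.span_le.mpr (by
      rintro _ (rfl | rfl) <;> simp [h2, h3])
    exact this hP
  · ext a
    rw [RingHom.comp_apply, show algebraMap A (A[X] ⧸ I) a = Ideal.Quotient.mk I (C a) from rfl,
      Ideal.Quotient.lift_mk]
    simp

end Groth.Agent.S7403
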