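import Groth.Statements.S7404
import Groth.Agent.H17.Cusp
import Mathlib.AlgebraicGeometry.Morphisms.Preimmersion

set_option autoImplicit false
universe u
open CategoryTheory AlgebraicGeometry
open Mor

namespace Groth.Agent.S7404

open CategoryTheory AlgebraicGeometry
open Groth.Agent.H17 Groth.Agent.H17.UnivHomeoAlg

/-- Let `A → B` be a ring map and `B' ⊆ B` an `A`-subalgebra, with `f : Spec B → Spec A` and `f' : Spec
B' → Spec A` the induced morphisms. Each of the following properties passes from `f` to `f'`: being
a universal homeomorphism; being a universal homeomorphism with trivial residue field extensions;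
being universally closed; being both universally closed and universally injective. -/
theorem result {A B : Type u} [CommRing A] [CommRing B] [Algebra A B]
    (B' : Subalgebra A B) :
    (FlatMor.IsUnivHomeo (Spec.map (CommRingCat.ofHom (algebraMap A B))) →
      FlatMor.IsUnivHomeo (Spec.map (CommRingCat.ofHom (algebraMap A B')))) ∧
    ((FlatMor.IsUnivHomeo (Spec.map (CommRingCat.ofHom (algebraMap A B))) ∧
      ∀ x : Spec (CommRingCat.of B),
        Function.Surjective ((Spec.map (CommRingCat.ofHom (algebraMap A B))).residueFieldMap x)) →
      FlatMor.IsUnivHomeo (Spec.map (CommRingCat.ofHom (algebraMap A B'))) ∧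
      ∀ x : Spec (CommRingCat.of B'),
        Function.Surjective ((Spec.map (CommRingCat.ofHom (algebraMap A B'))).residueFieldMap x)) ∧
    (UniversallyClosed (Spec.map (CommRingCat.ofHom (algebraMap A B))) →
      UniversallyClosed (Spec.map (CommRingCat.ofHom (algebraMap A B')))) ∧
    (UniversallyClosed (Spec.map (CommRingCat.ofHom (algebraMap A B))) →
      UniversallyInjective (Spec.map (CommRingCat.ofHom (algebraMap A B))) →
      UniversallyClosed (Spec.map (CommRingCat.ofHom (algebraMap A B'))) ∧
      UniversallyInjective (Spec.map (CommRingCat.ofHom (algebraMap A B')))) := by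
  have hint : Algebra.IsIntegral A B → Algebra.IsIntegral A B' := fun _ =>
    Algebra.IsIntegral.of_injective B'.val Subtype.val_injective
  have hUH : FlatMor.IsUnivHomeo (Spec.map (CommRingCat.ofHom (algebraMap A B))) →
      FlatMor.IsUnivHomeo (Spec.map (CommRingCat.ofHom (algebraMap A B'))) := fun h => by
    obtain ⟨hi, hu, hl⟩ := isUnivHomeo_iff.mp h
    exact isUnivHomeo_iff.mpr ⟨hint hi, uq_subalgebra B' hu, lf_subalgebra B' hl⟩
  refine ⟨hUH, fun h => ⟨hUH h.1, ?_⟩, fun h => universallyClosed_iff.mpr (hint (universallyClosed_iff.mp h)),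
    fun h h' => ⟨universallyClosed_iff.mpr (hint (universallyClosed_iff.mp h)), ?_⟩⟩
  · have := (isUnivHomeo_iff.mp h.1).1
    exact rg_iff.mpr (rg_subalgebra B' (rg_iff.mp h.2))
  · have := universallyClosed_iff.mp h
    exact universallyInjective_of_uq (uq_subalgebra B' (uq_of_universallyInjective h'))

end Groth.Agent.S7404
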