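import Groth.Statements.S7405
import Groth.Agent.H17.UnivHomeoAlg
import Mathlib.Algebra.Category.Ring.FilteredColimits
import Mathlib.CategoryTheory.Limits.Constructions.Over.Connected
import Mathlib.CategoryTheory.Filtered.Connected

set_option autoImplicit false
universe u
open CategoryTheory AlgebraicGeometry
open Mor

namespace Groth.Agent.S7405

open CategoryTheory AlgebraicGeometry
open Groth.Agent.H17 Groth.Agent.H17.UnivHomeoAlg

/-- Let `A` be a ring and `B` the colimit of a filtered diagram `j ↦ B_j` of `A`-algebras. Each of the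
following properties, when it holds for every `Spec B_j → Spec A`, holds for `Spec B → Spec A`:
being a universal homeomorphism; being a universal homeomorphism with trivial residue field
extensions; being universally closed; being both universally closed and universally injective. -/
theorem result (A : CommRingCat.{u}) {J : Type u} [SmallCategory J]
    [IsFiltered J] (F : J ⥤ Under A) (c : Limits.Cocone F) (hc : Limits.IsColimit c) :
    ((∀ j, FlatMor.IsUnivHomeo (Spec.map (F.obj j).hom)) → FlatMor.IsUnivHomeo (Spec.map c.pt.hom)) ∧
    ((∀ j, FlatMor.IsUnivHomeo (Spec.map (F.obj j).hom) ∧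
        ∀ x : Spec (F.obj j).right, Function.Surjective ((Spec.map (F.obj j).hom).residueFieldMap x)) →
      FlatMor.IsUnivHomeo (Spec.map c.pt.hom) ∧
        ∀ x : Spec c.pt.right, Function.Surjective ((Spec.map c.pt.hom).residueFieldMap x)) ∧
    ((∀ j, UniversallyClosed (Spec.map (F.obj j).hom)) → UniversallyClosed (Spec.map c.pt.hom)) ∧
    ((∀ j, UniversallyClosed (Spec.map (F.obj j).hom) ∧ UniversallyInjective (Spec.map (F.obj j).hom)) →
      UniversallyClosed (Spec.map c.pt.hom) ∧ UniversallyInjective (Spec.map c.pt.hom)) := by
  letI (j : J) : Algebra A (F.obj j).right := (F.obj j).hom.hom.toAlgebra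
  let := c.pt.hom.hom.toAlgebra
  have : IsConnected J := IsFiltered.isConnected J
  have hrep : ∀ z : c.pt.right, ∃ (j : J) (y : (F.obj j).right), (c.ι.app j).right y = z := fun z =>
    Limits.Concrete.isColimit_exists_rep (F ⋙ Under.forget A) (Limits.isColimitOfPreserves (Under.forget A) hc) z
  have hw : ∀ (j : J) (a : A), (c.ι.app j).right (algebraMap A (F.obj j).right a) = algebraMap A c.pt.right a :=
    fun j a => congr($(Under.w (c.ι.app j)) a)
  have hint : (∀ j, Algebra.IsIntegral A (F.obj j).right) → Algebra.IsIntegral A c.pt.right := fun h => ⟨fun z => by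
    obtain ⟨j, y, rfl⟩ := hrep z
    obtain ⟨P, hP, hP0⟩ := (h j).isIntegral y
    refine ⟨P, hP, ?_⟩
    rw [show algebraMap A c.pt.right = (c.ι.app j).right.hom.comp (algebraMap A (F.obj j).right) from
      RingHom.ext fun a => (hw j a).symm]
    exact (Polynomial.hom_eval₂ P (algebraMap A (F.obj j).right) (c.ι.app j).right.hom y).symm.trans
      ((congrArg _ hP0).trans (map_zero _))⟩
  have huq : (∀ j, Uq A (F.obj j).right) → Uq A c.pt.right := fun h L _ ψ ψ' he => RingHom.ext fun z => by
    obtain ⟨j, y, rfl⟩ := hrep z
    exact congr($(h j L (ψ.comp (c.ι.app j).right.hom) (ψ'.comp (c.ι.app j).right.hom) (RingHom.ext fun a => by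
      show ψ ((c.ι.app j).right (algebraMap A (F.obj j).right a)) = ψ' ((c.ι.app j).right (algebraMap A (F.obj j).right a))
      rw [hw]; exact congr($he a))) y)
  have hrg : (∀ j, Rg A (F.obj j).right) → Rg A c.pt.right := fun h L _ ψ F' hF z => by
    obtain ⟨j, y, rfl⟩ := hrep z
    exact h j L (ψ.comp (c.ι.app j).right.hom) F' (fun a => by
      show ψ ((c.ι.app j).right (algebraMap A (F.obj j).right a)) ∈ F'
      rw [hw]; exact hF a) y
  have hlf : (∀ j, Uq A (F.obj j).right) → (∀ j, Lf A (F.obj j).right) → Lf A c.pt.right := by
    intro h hl K _ _ φ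
    choose χ hχ using fun j => hl j K φ
    let d : Limits.Cocone F :=
      { pt := Under.mk (CommRingCat.ofHom φ)
        ι :=
          { app := fun j => Under.homMk (CommRingCat.ofHom (χ j)) (by ext a; exact congr($(hχ j) a))
            naturality := fun i j g => by
              ext y
              exact congr($(h i K ((χ j).comp (F.map g).right.hom) (χ i) (RingHom.ext fun a => by
                show χ j ((F.map g).right (algebraMap A (F.obj i).right a)) = χ i (algebraMap A (F.obj i).right a)
                rw [show (F.map g).right (algebraMap A (F.obj i).right a) = algebraMap A (F.obj j).right a from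
                  congr($(Under.w (F.map g)) a)]
                exact (congr($(hχ j) a)).trans (congr($(hχ i) a)).symm)) y) } }
    exact ⟨(hc.desc d).right.hom, RingHom.ext fun a => congr($(Under.w (hc.desc d)) a)⟩
  have hUH : (∀ j, FlatMor.IsUnivHomeo (Spec.map (F.obj j).hom)) → FlatMor.IsUnivHomeo (Spec.map c.pt.hom) := by
    intro h
    have h' := fun j => isUnivHomeo_iff.mp
      (show FlatMor.IsUnivHomeo (Spec.map (CommRingCat.ofHom (algebraMap A (F.obj j).right))) from h j)
    exact (isUnivHomeo_iff (A := A) (B := c.pt.right)).mpr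
      ⟨hint fun j => (h' j).1, huq fun j => (h' j).2.1, hlf (fun j => (h' j).2.1) fun j => (h' j).2.2⟩
  have huc : (∀ j, UniversallyClosed (Spec.map (F.obj j).hom)) → UniversallyClosed (Spec.map c.pt.hom) := fun h =>
    (universallyClosed_iff (A := A) (B := c.pt.right)).mpr
      (hint fun j => (universallyClosed_iff (A := A) (B := (F.obj j).right)).mp (h j))
  refine ⟨hUH, fun h => ⟨hUH fun j => (h j).1, ?_⟩, huc, fun h => ⟨huc fun j => (h j).1, ?_⟩⟩
  · exact (rg_iff (A := A) (B := c.pt.right)).mpr
      (hrg fun j => (rg_iff (A := A) (B := (F.obj j).right)).mp (h j).2)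
  · exact universallyInjective_of_uq (A := A) (B := c.pt.right)
      (huq fun j => uq_of_universallyInjective (A := A) (B := (F.obj j).right) (h j).2)

end Groth.Agent.S7405
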