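import Groth.Statements.S7407
import Groth.Agent.H13Desc.EtaleFibre

set_option autoImplicit false
universe u
open CategoryTheory AlgebraicGeometry
open Desc

namespace Groth.Agent.S7407

/-- The transcendence degree of the residue field extension `κ(x)/κ(s)` of a morphism of germs `(X, x) →
(S, s)` is étale local on the source-and-target: for a commutative square with horizontal maps `h' :
U' → V'`, `h : U → V`, étale vertical maps `a : U' → U`, `b : V' → V` and `u' ∈ U'` with `u =
a(u')`, the transcendence degree of `κ(u)` over `κ(h(u))` equals that of `κ(u')` over `κ(h'(u'))`. -/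
theorem result {U U' V V' : Scheme.{u}} (h : U ⟶ V) (h' : U' ⟶ V') (a : U' ⟶ U)
    (b : V' ⟶ V) [Etale a] [Etale b] (comm : h' ≫ b = a ≫ h) (u' : U') :
    @Algebra.trdeg (V.residueField (h (a u'))) (U.residueField (a u')) _ _ (h.residueFieldMap (a u')).hom.toAlgebra =
      @Algebra.trdeg (V'.residueField (h' u')) (U'.residueField u') _ _ (h'.residueFieldMap u').hom.toAlgebra := by
  have h1 := H13Desc.resTrdeg'_comp a h u'
  have h2 := H13Desc.resTrdeg'_comp h' b u'
  rw [comm, H13Desc.resTrdeg'_of_etale b, zero_add, h1, H13Desc.resTrdeg'_of_etale a, add_zero] at h2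
  exact h2

end Groth.Agent.S7407
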