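import Groth.Statements.S7408
import Groth.Agent.H13Desc.EtaleFibre
import Groth.Agent.H12AlgSp.EtDim

set_option autoImplicit false
universe u
open CategoryTheory AlgebraicGeometry
open Desc

namespace Groth.Agent.S7408

/-- The local dimension of the fibre at a point is étale local on the source-and-target: for a
commutative square with horizontal maps `h' : U' → V'`, `h : U → V`, étale vertical maps `a : U' →
U`, `b : V' → V` and `u' ∈ U'`, the local dimension at `a(u')` of the fibre of `h` equals the local
dimension at `u'` of the fibre of `h'`. -/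
theorem result {U U' V V' : Scheme.{u}} (h : U ⟶ V) (h' : U' ⟶ V') (a : U' ⟶ U)
    (b : V' ⟶ V) [Etale a] [Etale b] (comm : h' ≫ b = a ≫ h) (u' : U') :
    FlatMor.fibreDimAt h (a u') = FlatMor.fibreDimAt h' u' := by
  have e : b (h' u') = h (a u') := congrArg (fun k => k u') comm
  have gen : ∀ (v : V) (x : h.fiber v), h.fiberι v x = a u' →
      FlatMor.fibreDimAt h (a u') = FlatMor.localDim ↥(h.fiber v) x := by
    intro v x hx
    have hm : h (h.fiberι v x) = v := by
      have := Set.mem_range_self (f := h.fiberι v) x
      rw [h.range_fiberι v] at this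
      exact this
    rw [hx] at hm
    subst hm
    rw [show x = h.asFiber (a u') from
      (h.fiberι (h (a u'))).isEmbedding.injective (hx.trans (h.fiberι_asFiber (a u')).symm)]
    rfl
  have w : (h'.fiberι (h' u') ≫ a) ≫ h =
      (h'.fiberToSpecResidueField (h' u') ≫ Spec.map (b.residueFieldMap (h' u'))) ≫ V.fromSpecResidueField (b (h' u')) := by
    have hb := Scheme.Hom.SpecMap_residueFieldMap_fromSpecResidueField b (h' u')
    rw [Category.assoc, ← comm, Category.assoc, hb, ← Category.assoc, ← Category.assoc]
    exact congrArg (· ≫ b) CategoryTheory.Limits.pullback.condition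
  let φ : h'.fiber (h' u') ⟶ h.fiber (b (h' u')) := CategoryTheory.Limits.pullback.lift _ _ w
  have h1 : φ ≫ h.fiberι (b (h' u')) = h'.fiberι (h' u') ≫ a := CategoryTheory.Limits.pullback.lift_fst _ _ _
  have := H13Desc.etale_fiberMap h h' a b comm (h' u') φ h1 (CategoryTheory.Limits.pullback.lift_snd _ _ _)
  rw [gen _ (φ (h'.asFiber u')) ((congrArg (fun k => k (h'.asFiber u')) h1).trans
    (congrArg a (h'.fiberι_asFiber u')))]
  exact (H12AlgSp.localDim_eq_of_etale φ (h'.asFiber u')).symm

end Groth.Agent.S7408
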