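import Groth.Statements.S7411
import Groth.Agent.H7Flat.CohDim.Fibre

set_option autoImplicit false
universe u
open Lim

namespace Groth.Agent.S7411

open AlgebraicGeometry CategoryTheory CategoryTheory.Limits Groth.Agent.H10Coh Groth.Agent.H7Flat
attribute [local instance 10000] hasSheafifyAb hasWeakSheafifyAb hasExtAb enoughInjAb
attribute [local instance] enoughInjMod
set_option linter.style.haveILetI false
set_option backward.isDefEq.respectTransparency.types false

open AlgebraicGeometry CategoryTheory in
/-- Let `f : X → Y` be proper and `y ∈ Y` a point whose fibre `X_y` has dimension at most `d`. Then for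
every quasi-coherent `O_X`-module `F` and every `i > d` the stalk `(R^i f_* F)_y` vanishes. (The
published statement assumes that the fibre has dimension exactly `d`; this row assumes dimension at
most `d`.) -/
theorem result {X Y : Scheme.{u}} (f : X ⟶ Y) [IsProper f]
    (y : Y) (d : ℕ) (hd : topologicalKrullDim ↥(f.fiber y) ≤ d) (M : X.Modules) [Coh.IsQCoh M] (i : ℕ)
    (hi : d < i) :
    Limits.IsZero (TopCat.Presheaf.stalk ((Coh.RpushAb f i).obj (Coh.toAb M)).obj y) := by
  haveI := CohDim.subsingleton_stalk f y d hd M i hi
  have h0 : IsZero (((Coh.Rpush f i).obj M).presheaf.stalk y) := AddCommGrpCat.isZero_of_subsingleton _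
  exact h0.of_iso ((TopCat.Presheaf.stalkFunctor AddCommGrpCat y).mapIso
    ((sheafToPresheaf _ _).mapIso (nonempty_toAb_rpush f M i).some)).symm

end Groth.Agent.S7411
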