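import Groth.Statements.S7413
import Groth.Agent.H17.LocProj
-- import your own Groth.Agent.* helpers here

set_option autoImplicit false
universe u
open CategoryTheory AlgebraicGeometry
open Opposite
open Mor

namespace Groth.Agent.S7413

/-- Let `f : X → Y` be a morphism of schemes and `G` a quasi-coherent, locally projective `O_Y`-module
(projective sections over every affine open). Then `f^* G` is locally projective on `X`. -/
theorem result {X Y : Scheme.{u}} (f : X ⟶ Y) (G : Y.Modules) [Coh.IsQCoh G]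
    (hG : ∀ V : Y.Opens, IsAffineOpen V → Module.Projective (Y.ringCatSheaf.obj.obj (op V)) (G.val.obj (op V)))
    (U : X.Opens) (hU : IsAffineOpen U) :
    Module.Projective (X.ringCatSheaf.obj.obj (op U)) (((Scheme.Modules.pullback f).obj G).val.obj (op U)) := by
  classical
  haveI hq : ((Scheme.Modules.pullback f).obj G).IsQuasicoherent :=
    Groth.Agent.H29Fitt.isQCoh_pullback f G inferInstance
  let I := {p : Y.affineOpens × X.affineOpens // p.2.1 ≤ f ⁻¹ᵁ p.1.1}
  refine Groth.Agent.H17.LocProj.projAt_of_affine_cover _ hq (fun p : I => p.1.2.1) (fun p => p.1.2.2)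
    (top_le_iff.mp fun x _ => ?_) (fun ⟨⟨V, W⟩, hle⟩ => ?_) hU
  · obtain ⟨V, hV, hxV, -⟩ := exists_isAffineOpen_mem_and_subset (TopologicalSpace.Opens.mem_top (f x))
    obtain ⟨W, hW, hxW, hWV⟩ := exists_isAffineOpen_mem_and_subset (U := f ⁻¹ᵁ V) (x := x) hxV
    exact TopologicalSpace.Opens.mem_iSup.mpr ⟨⟨(⟨V, hV⟩, ⟨W, hW⟩), hWV⟩, hxW⟩
  · letI := (f.appLE V.1 W.1 hle).hom.toAlgebra
    letI := Module.compHom Γ((Scheme.Modules.pullback f).obj G, W.1) (f.appLE V.1 W.1 hle).hom
    haveI : IsScalarTower Γ(Y, V.1) Γ(X, W.1) Γ((Scheme.Modules.pullback f).obj G, W.1) :=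
      .of_algebraMap_smul fun _ _ => rfl
    haveI : Module.Projective Γ(Y, V.1) Γ(G, V.1) := hG V.1 V.2
    exact Module.Projective.of_equiv (Groth.Agent.H8Props.PullSections.isBaseChange_pullLin f G hle inferInstance V.2 W.2).equiv

end Groth.Agent.S7413
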