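import Groth.Statements.S7414
import Groth.Agent.H05EGA4.GRingPoly
-- import your own Groth.Agent.* helpers here

set_option autoImplicit false
universe u
open CategoryTheory AlgebraicGeometry
open Mor

namespace Groth.Agent.S7414

/-- A scheme `X` is a G-scheme (every point has an affine open neighbourhood with G-ring coordinate
ring) if and only if `O_X(U)` is a G-ring for every affine open `U ⊆ X`. -/
theorem result (X : Scheme.{u}) :
    (∀ x : X, ∃ U : X.Opens, x ∈ U ∧ IsAffineOpen U ∧ CAlg.IsGRing Γ(X, U)) ↔
      ∀ U : X.Opens, IsAffineOpen U → CAlg.IsGRing Γ(X, U) := by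
  refine ⟨fun h U hU => ?_, fun h x => ?_⟩
  · choose W hxW hW hG using h
    let P : X.affineOpens → Prop := fun V => CAlg.IsGRing Γ(X, V.1)
    refine of_affine_open_cover (P := P) (fun x => ⟨W x, hW x⟩) ?_ ⟨U, hU⟩ ?_ ?_ hG
    · exact top_le_iff.mp fun x _ => TopologicalSpace.Opens.mem_iSup.mpr ⟨x, hxW x⟩
    · intro V f hV
      have := V.2.isLocalization_basicOpen f
      show CAlg.IsGRing Γ(X, X.basicOpen f)
      exact Groth.Agent.H05EGA4.isGRing_of_isLocalization (Submonoid.powers f) hV
    · intro V s hs hall
      let R := Γ(X, V.1)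
      have hG' : ∀ f : s, CAlg.IsGRing (Localization.Away f.1) := fun f => by
        have := V.2.isLocalization_basicOpen f.1
        let e := (IsLocalization.algEquiv (Submonoid.powers f.1) Γ(X, X.basicOpen f.1) (Localization.Away f.1))
        exact Groth.Agent.H05EGA4.isGRing_of_surjective e.toRingEquiv.toRingHom e.surjective (hall f)
      haveI : IsNoetherianRing R := isNoetherianRing_of_away (↑s) hs (fun f => (hG' f).1)
      refine Groth.Agent.H05EGA4.isGRing_of_maximal fun m _ => ?_
      obtain ⟨f, hf, hfm⟩ : ∃ f ∈ s, f ∉ m := by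
        by_contra! h
        exact Ideal.IsPrime.ne_top' (top_le_iff.mp (hs ▸ Ideal.span_le.mpr h))
      have hd : Disjoint (Submonoid.powers f : Set R) m := by
        rw [Set.disjoint_left]
        rintro _ ⟨n, rfl⟩ hn
        exact hfm (Ideal.IsPrime.mem_of_pow_mem inferInstance n hn)
      haveI := IsLocalization.isPrime_of_isPrime_disjoint (Submonoid.powers f) (Localization.Away f) m inferInstance hd
      let m' := m.map (algebraMap R (Localization.Away f))
      have hloc := IsLocalization.isLocalization_isLocalization_atPrime_isLocalization (Submonoid.powers f) (Localization.AtPrime m') m'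
      have key : ∀ (q : Ideal R) [q.IsPrime], q = m → IsLocalization.AtPrime (Localization.AtPrime m') q →
          CAlg.IsRegularHom (Localization.AtPrime m) (EGA4.Cpl (Localization.AtPrime m)) := by
        intro q _ hq H
        subst hq
        haveI : IsNoetherianRing (Localization.AtPrime m') := IsLocalization.isNoetherianRing m'.primeCompl _ (hG' ⟨f, hf⟩).1
        haveI : IsNoetherianRing (Localization.AtPrime q) := IsLocalization.isNoetherianRing q.primeCompl _ inferInstance
        haveI := Groth.Agent.H05EGA4.isNoetherianRing_cpl (Localization.AtPrime q)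
        exact Groth.Agent.H05EGA4.isRegularHom_iff_grsHom.mpr (Groth.Agent.H05EGA4.GRSHom.cpl_of_surjective
          (IsLocalization.algEquiv q.primeCompl (Localization.AtPrime m') (Localization.AtPrime q)).toRingEquiv.toRingHom
          (AlgEquiv.surjective _) (Groth.Agent.H05EGA4.grsHom_of_isRegularHom ((hG' ⟨f, hf⟩).2 m')))
      exact key _ (IsLocalization.under_map_of_isPrime_disjoint (Submonoid.powers f) (Localization.Away f) inferInstance hd) hloc
  · obtain ⟨U, hU, hxU, -⟩ := exists_isAffineOpen_mem_and_subset (X := X) (x := x) (U := ⊤) trivial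
    exact ⟨U, hxU, hU, h U hU⟩

end Groth.Agent.S7414
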