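import Groth.Statements.S7415
import Groth.Agent.H17.Fibre
import Groth.Agent.H17.PointLocal

set_option autoImplicit false
universe u
open CategoryTheory AlgebraicGeometry
open Mor

namespace Groth.Agent.S7415

open CategoryTheory Limits AlgebraicGeometry TopologicalSpace

/-- Let `X` be a reduced scheme with finitely many irreducible components and `x ∈ X`. Then `x` has an
affine open neighbourhood `U` such that `O_X(U) → O_{X,x}` is injective. -/
theorem result (X : Scheme.{u}) [AlgebraicGeometry.IsReduced X]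
    (hirr : (irreducibleComponents (X : Type u)).Finite) (x : X) : X.IsGermInjectiveAt x := by
  obtain ⟨U, hU, hxU, -, hUg⟩ := Groth.Agent.H17.exists_affine_nhd_forall_generic_specializes x ⊤ trivial
    ((genericPoints.finite hirr).inter_of_left _)
  refine ⟨U, hxU, hU, ?_⟩
  let p := hU.primeIdealOf ⟨x, hxU⟩
  let := TopCat.Presheaf.algebra_section_stalk X.presheaf ⟨x, hxU⟩
  have hloc := hU.isLocalization_stalk ⟨x, hxU⟩
  rw [injective_iff_map_eq_zero]
  intro a ha
  obtain ⟨⟨s, hs⟩, h⟩ := (IsLocalization.map_eq_zero_iff p.asIdeal.primeCompl (X.presheaf.stalk x) a).mp ha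
  have : a ∈ nilradical Γ(X, U) := by
    rw [nilradical_eq_sInf, Ideal.mem_sInf]
    intro P hP
    let P' : PrimeSpectrum Γ(X, U) := ⟨P, hP⟩
    obtain ⟨g, hg, hgP⟩ := Groth.Agent.H17.exists_genericPoint_specializes (hU.fromSpec P')
    have hmem : hU.fromSpec P' ∈ (U : Set X) := by
      rw [← hU.range_fromSpec]; exact Set.mem_range_self _
    have hgx := hUg _ hmem g hg hgP
    obtain ⟨(q : PrimeSpectrum Γ(X, U)), rfl⟩ : g ∈ Set.range hU.fromSpec := by
      rw [hU.range_fromSpec]; exact hgx.mem_open U.2 hxU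
    have h1 : (q : PrimeSpectrum Γ(X, U)) ≤ P' :=
      (PrimeSpectrum.le_iff_specializes _ _).mpr (hU.fromSpec.isEmbedding.isInducing.specializes_iff.mp hgP)
    have h2 : (q : PrimeSpectrum Γ(X, U)) ≤ p :=
      (PrimeSpectrum.le_iff_specializes _ _).mpr (hU.fromSpec.isEmbedding.isInducing.specializes_iff.mp
        (hgx.trans (specializes_of_eq (hU.fromSpec_primeIdealOf ⟨x, hxU⟩).symm)))
    exact h1 ((q.isPrime.mem_or_mem (h.symm ▸ q.asIdeal.zero_mem)).resolve_left fun hsq => hs (h2 hsq))
  exact (mem_nilradical.mp this).eq_zero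

end Groth.Agent.S7415
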