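import Groth.Statements.S7416
import Groth.Agent.H17.Imports

set_option autoImplicit false
universe u
open CategoryTheory AlgebraicGeometry
open Mor

namespace Groth.Agent.S7416

open CategoryTheory Limits AlgebraicGeometry TopologicalSpace

/-- Let `U`, `V` be affine schemes and `W → U`, `W → V` open immersions. Then every `w ∈ W` has an open
neighbourhood `W' ⊆ W` whose images in `U` and in `V` are standard opens `D(f) ⊆ U`, `D(g) ⊆ V` (in
particular `W'` is affine). -/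
theorem result {U V W : Scheme.{u}} [IsAffine U]
    [IsAffine V] (i : W ⟶ U) (j : W ⟶ V) [IsOpenImmersion i] [IsOpenImmersion j] (w : W) :
    ∃ (W' : W.Opens) (f : Γ(U, ⊤)) (g : Γ(V, ⊤)), w ∈ W' ∧ i ''ᵁ W' = U.basicOpen f ∧ j ''ᵁ W' = V.basicOpen g := by
  obtain ⟨f, hf, hwf⟩ := (isAffineOpen_top U).exists_basicOpen_le (V := i.opensRange)
    ⟨i w, ⟨w, rfl⟩⟩ trivial
  obtain ⟨g, hg, hwg⟩ := (isAffineOpen_top V).exists_basicOpen_le (V := j ''ᵁ (i ⁻¹ᵁ U.basicOpen f))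
    ⟨j w, ⟨w, hwf, rfl⟩⟩ trivial
  refine ⟨j ⁻¹ᵁ V.basicOpen g, ?_⟩
  have h1 : j ⁻¹ᵁ V.basicOpen g ≤ i ⁻¹ᵁ U.basicOpen f := by
    intro x hx
    obtain ⟨y, hy, e⟩ := hg hx
    rwa [j.isOpenEmbedding.injective e] at hy
  have h2 : i ''ᵁ (i ⁻¹ᵁ U.basicOpen f) = U.basicOpen f := by
    rw [Scheme.Hom.image_preimage_eq_opensRange_inf, inf_eq_right.mpr hf]
  let r := W.presheaf.map (homOfLE (le_top : i ⁻¹ᵁ U.basicOpen f ≤ ⊤)).op (j.appTop g)
  have h3 : W.basicOpen r = j ⁻¹ᵁ V.basicOpen g := by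
    rw [Scheme.basicOpen_res, ← Scheme.preimage_basicOpen_top, inf_eq_right.mpr h1]
  have h4 : i ''ᵁ (j ⁻¹ᵁ V.basicOpen g) = U.basicOpen
      (U.presheaf.map (eqToHom h2.symm).op ((i.appIso (i ⁻¹ᵁ U.basicOpen f)).inv r)) := by
    rw [Scheme.basicOpen_res_eq, ← Scheme.image_basicOpen, h3]
  obtain ⟨f', hf'⟩ := (isAffineOpen_top U).basicOpen_basicOpen_is_basicOpen f
    (U.presheaf.map (eqToHom h2.symm).op ((i.appIso (i ⁻¹ᵁ U.basicOpen f)).inv r))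
  refine ⟨f', g, hwg, h4.trans hf'.symm, ?_⟩
  rw [Scheme.Hom.image_preimage_eq_opensRange_inf]
  refine inf_eq_right.mpr fun x hx => ?_
  obtain ⟨y, -, e⟩ := hg hx
  exact ⟨y, e⟩

end Groth.Agent.S7416
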