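import Groth.Statements.S7418
import Groth.Agent.H18Subint.Local

set_option autoImplicit false
universe u
open CategoryTheory AlgebraicGeometry
open HTop

namespace Groth.Agent.S7418

/-- Being seminormal is a local property of rings: it passes to the localizations `A_f`, and if `f_1, …,
f_n` generate the unit ideal of `A` and each `A_{f_i}` is seminormal then `A` is seminormal. -/
theorem result :
    (∀ (A : Type u) [CommRing A] (f : A), HTop.IsSeminormalRing A → HTop.IsSeminormalRing (Localization.Away f)) ∧
    ∀ (A : Type u) [CommRing A] (s : Finset A), Ideal.span (s : Set A) = ⊤ →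
      (∀ f ∈ s, HTop.IsSeminormalRing (Localization.Away f)) → HTop.IsSeminormalRing A := by
  exact ⟨fun A _ f h => Groth.Agent.H18Subint.sn_localization (Submonoid.powers f) h,
    fun A _ s hs h => Groth.Agent.H18Subint.sn_of_span s hs h⟩

end Groth.Agent.S7418
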