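import Groth.Statements.S7423
import Groth.Agent.H18Subint.Rings

set_option autoImplicit false
universe u
open CategoryTheory AlgebraicGeometry
open HTop

namespace Groth.Agent.S7423

/-- Let `φ : A → A^awn` be an absolute weak normalization and `ψ : A → B` a ring map inducing a
universal homeomorphism on spectra. Then `B` is absolutely weakly normal exactly when the induced
map `χ : B → A^awn` with `χ ∘ ψ = φ` is an isomorphism. -/
theorem result {A B W : Type u} [CommRing A] [CommRing B] [CommRing W]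
    (φ : A →+* W) (hφ : HTop.IsRingAWN φ) (ψ : A →+* B)
    (hψ : FlatMor.IsUnivHomeo (Spec.map (CommRingCat.ofHom ψ))) (χ : B →+* W) (hχ : χ.comp ψ = φ) :
    Function.Bijective χ ↔ HTop.IsAWNRing B := by
  constructor
  · intro hbij
    -- transport along the bijection
    let e := (RingEquiv.ofBijective χ hbij).symm
    have hW := Groth.Agent.H18Subint.isAWNRing_of_isRingAWN hφ
    have tr : ∀ x : B, x = e (χ x) := fun x => ((RingEquiv.ofBijective χ hbij).symm_apply_apply x).symm
    refine ⟨fun x y h => ?_, fun p hp x y h => ?_⟩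
    · obtain ⟨a, ⟨h1, h2⟩, hu⟩ := hW.1 (χ x) (χ y) (by rw [← map_pow, h, map_pow])
      refine ⟨e a, ⟨by rw [← map_pow, ← h1, ← tr], by rw [← map_pow, ← h2, ← tr]⟩, fun b hb => ?_⟩
      exact (tr b).trans (congrArg e (hu (χ b) ⟨by rw [hb.1, map_pow], by rw [hb.2, map_pow]⟩))
    · obtain ⟨a, ⟨h1, h2⟩, hu⟩ := hW.2 p hp (χ x) (χ y) (by
        rw [← map_natCast χ p, ← map_pow, ← map_mul, h, map_pow])
      refine ⟨e a, ⟨by rw [← map_pow, ← h1, ← tr], ?_⟩, fun b hb => ?_⟩
      · rw [← map_natCast e p, ← map_mul, ← h2, ← tr]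
      · exact (tr b).trans (congrArg e (hu (χ b) ⟨by rw [hb.1, map_pow],
          by rw [hb.2, map_mul, map_natCast]⟩))
  · intro hB
    obtain ⟨-, hu, hl⟩ := (Groth.Agent.H18Subint.isUnivHomeo_iff' φ).mp hφ.1
    obtain ⟨-, huψ, hlψ⟩ := (Groth.Agent.H18Subint.isUnivHomeo_iff' ψ).mp hψ
    haveI := Groth.Agent.H18Subint.isReduced_of_sn hB.1
    haveI : _root_.IsReduced W := Groth.Agent.H18Subint.isReduced_of_sn
      (Groth.Agent.H18Subint.isAWNRing_of_isRingAWN hφ).1
    have hB' := (Groth.Agent.H18Subint.isRingAWN_of_isAWNRing ψ hψ hB).2 W φ hφ.1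
    obtain ⟨θ, hθ, -⟩ := hB'
    obtain ⟨ι, -, hι⟩ := hφ.2 W φ hφ.1
    have h1 : χ.comp θ = RingHom.id W := (hι _ (show (χ.comp θ).comp φ = φ by
      rw [RingHom.comp_assoc, hθ, hχ])).trans (hι _ (RingHom.id_comp φ)).symm
    have h2 : θ.comp χ = RingHom.id B := by
      letI := ψ.toAlgebra
      refine Groth.Agent.H18Subint.ringHom_ext_of_uq huψ ?_
      show (θ.comp χ).comp ψ = (RingHom.id B).comp ψ
      rw [RingHom.comp_assoc, hχ, hθ, RingHom.id_comp]
    exact ⟨Function.LeftInverse.injective (g := θ) (DFunLike.congr_fun h2),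
      fun w => ⟨θ w, DFunLike.congr_fun h1 w⟩⟩

end Groth.Agent.S7423
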