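import Groth.Statements.S7428
import Groth.Agent.H17.Tower

set_option autoImplicit false
universe u
open CategoryTheory AlgebraicGeometry
open Mor

namespace Groth.Agent.S7428

open CategoryTheory AlgebraicGeometry
open Groth.Agent.H17 Groth.Agent.H17.UnivHomeoAlg

/-- Let `A → B` be a ring map with `Spec B → Spec A` dominant. Then some `A`-subalgebra `B' ⊆ B` has
`Spec B' → Spec A` a universal homeomorphism with trivial residue field extensions and contains the
image of `C → B` for every `A`-algebra `C` with an `A`-algebra map `C → B` such that `Spec C → Spec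
A` is a universal homeomorphism with trivial residue field extensions. (Trivial residue field
extensions: every residue field map of the morphism of spectra is surjective. The test algebras `C`
range over the universe of `A` and `B`.) -/
theorem result {A B : Type u} [CommRing A] [CommRing B] [Algebra A B]
    [IsDominant (Spec.map (CommRingCat.ofHom (algebraMap A B)))] :
    ∃ B' : Subalgebra A B, (FlatMor.IsUnivHomeo (Spec.map (CommRingCat.ofHom (algebraMap A B'))) ∧
      ∀ x : Spec (CommRingCat.of B'),
        Function.Surjective ((Spec.map (CommRingCat.ofHom (algebraMap A B'))).residueFieldMap x)) ∧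
      ∀ (C : Type u) [CommRing C] [Algebra A C] (g : C →ₐ[A] B),
        FlatMor.IsUnivHomeo (Spec.map (CommRingCat.ofHom (algebraMap A C))) →
        (∀ x : Spec (CommRingCat.of C),
          Function.Surjective ((Spec.map (CommRingCat.ofHom (algebraMap A C))).residueFieldMap x)) →
        g.range ≤ B' := by
  obtain ⟨B', ⟨a, b, c, d⟩, hmax⟩ := (Tower.exists_maximal (A := A) (B := B) Tower.isNilpotent_of_isDominant).2
  refine ⟨B', ⟨isUnivHomeo_iff.mpr ⟨a, b, c⟩, rg_iff.mpr d⟩, fun C _ _ g h hr => ?_⟩
  obtain ⟨hi, hu, -⟩ := isUnivHomeo_iff.mp h
  exact hmax _ (Tower.isIntegral_range g hi) (Tower.uq_range g hu) (Tower.rg_range g (rg_iff.mp hr))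

end Groth.Agent.S7428
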