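-- statement Lim.GrothFrozen.S7431 (Groth/Statements/S7431.lean; the theorem Lim.isOpenImmersion_of_cartesian_ring_square_basicOpens);
import Groth.Statements.S7431
import Mathlib

set_option autoImplicit false
universe u
open CategoryTheory AlgebraicGeometry
open Lim

namespace Groth.Agent.S7431
set_option backward.isDefEq.respectTransparency false

/-- Let `B' = B ×_R R'` be a cartesian square of rings with maps `s : B → R`, `t : R' → R`, and let `W'
= D(f_1) ∪ … ∪ D(f_n) ⊆ Spec R'` with `t(f_i) = s(g_i)` for elements `g_i ∈ B` such that `B_{g_i} →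
R_{s(g_i)}` is an isomorphism for each `i`. Then the composite `W' → Spec R' → Spec B'`, the second
map coming from `B' → R'`, is an open immersion. -/
theorem result {B B' R R' : Type u} [CommRing B] [CommRing B']
    [CommRing R] [CommRing R'] (s : B →+* R) (t : R' →+* R) (p : B' →+* B) (q : B' →+* R')
    (hsq : IsPullback (CommRingCat.ofHom p) (CommRingCat.ofHom q) (CommRingCat.ofHom s) (CommRingCat.ofHom t))
    {n : ℕ} (f : Fin n → R') (g : Fin n → B) (hfg : ∀ i, t (f i) = s (g i))
    (hiso : ∀ i, Function.Bijective (Localization.awayMap s (g i))) :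
    IsOpenImmersion (Scheme.Opens.ι (X := Spec (CommRingCat.of R')) (⨆ i, PrimeSpectrum.basicOpen (f i)) ≫
      Spec.map (CommRingCat.ofHom q)) := by
  have hT := (Limits.Types.isPullback_iff _ _ _ _).mp (hsq.map (forget CommRingCat))
  have hext : ∀ a b : B', p a = p b → q a = q b → a = b := fun a b h1 h2 => hT.2.1 a b ⟨h1, h2⟩
  have hlift : ∀ (x : B) (y : R'), s x = t y → ∃ a, p a = x ∧ q a = y := fun x y h => hT.2.2 x y h
  choose h hp hq using fun i => hlift (g i) (f i) (hfg i).symm
  have hst : ∀ a, s (p a) = t (q a) := fun a => ConcreteCategory.congr_hom hsq.w a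
  have hbij : ∀ i, Function.Bijective (Localization.awayMap q (h i)) := by
    intro i
    constructor
    · rw [Localization.awayMap_injective_iff]
      intro a ha
      obtain ⟨n, hn⟩ := Localization.awayMap_injective_iff.mp (hiso i).1 (p a) (by rw [hst, ha, map_zero])
      refine ⟨n, hext _ _ ?_ ?_⟩
      · rw [map_mul, map_pow, hp, hn, map_zero]
      · rw [map_mul, ha, mul_zero, map_zero]
    · rw [Localization.awayMap_surjective_iff]
      intro r
      obtain ⟨b, m, hb⟩ := Localization.awayMap_surjective_iff.mp (hiso i).2 (t r)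
      obtain ⟨a, -, ha⟩ := hlift b (f i ^ m * r) (by rw [hb, map_mul, map_pow, hfg])
      exact ⟨a, m, by rw [hq, ha]⟩
  let W : (Spec (CommRingCat.of R')).Opens := ⨆ i, PrimeSpectrum.basicOpen (f i)
  let V : (Spec (CommRingCat.of B')).Opens := ⨆ i, PrimeSpectrum.basicOpen (h i)
  let ψ := Spec.map (CommRingCat.ofHom q)
  have hpre : ∀ i, ψ ⁻¹ᵁ PrimeSpectrum.basicOpen (h i) = PrimeSpectrum.basicOpen (f i) := fun i => by
    rw [SpecMap_preimage_basicOpen]
    exact congrArg PrimeSpectrum.basicOpen (hq i)
  have hW : ψ ⁻¹ᵁ V = W := by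
    rw [Scheme.Hom.preimage_iSup]
    exact iSup_congr hpre
  have hres : ∀ i, IsOpenImmersion (ψ ∣_ PrimeSpectrum.basicOpen (h i)) := by
    intro i
    let ιR := Spec.map (CommRingCat.ofHom (algebraMap R' (Localization.Away (q (h i)))))
    let ιB := Spec.map (CommRingCat.ofHom (algebraMap B' (Localization.Away (h i))))
    have : IsOpenImmersion ιR := IsOpenImmersion.of_isLocalization (q (h i))
    have : IsOpenImmersion ιB := IsOpenImmersion.of_isLocalization (h i)
    have : IsIso (CommRingCat.ofHom (Localization.awayMap q (h i))) :=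
      (ConcreteCategory.isIso_iff_bijective _).mpr (hbij i)
    have hcomp : ιR ≫ ψ = Spec.map (CommRingCat.ofHom (Localization.awayMap q (h i))) ≫ ιB := by
      rw [← Spec.map_comp, ← Spec.map_comp, ← CommRingCat.ofHom_comp, ← CommRingCat.ofHom_comp]
      congr 2
      exact (IsLocalization.map_comp _).symm
    have : IsOpenImmersion (ιR ≫ ψ) := by rw [hcomp]; infer_instance
    have hr : Set.range (ψ ⁻¹ᵁ PrimeSpectrum.basicOpen (h i)).ι = Set.range ιR := by
      rw [Scheme.Opens.range_ι, SpecMap_preimage_basicOpen]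
      exact (PrimeSpectrum.localization_away_comap_range (Localization.Away (q (h i))) (q (h i))).symm
    have : IsOpenImmersion ((ψ ⁻¹ᵁ PrimeSpectrum.basicOpen (h i)).ι ≫ ψ) := by
      rw [← IsOpenImmersion.isoOfRangeEq_hom_fac (ψ ⁻¹ᵁ PrimeSpectrum.basicOpen (h i)).ι ιR hr,
        Category.assoc]
      infer_instance
    have : IsOpenImmersion ((ψ ∣_ PrimeSpectrum.basicOpen (h i)) ≫ Scheme.Opens.ι _) := by
      rw [morphismRestrict_ι]; infer_instance
    exact IsOpenImmersion.of_comp _ (Scheme.Opens.ι (X := Spec (CommRingCat.of B')) (PrimeSpectrum.basicOpen (h i)))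
  have hV : IsOpenImmersion (ψ ∣_ V) := by
    refine IsZariskiLocalAtTarget.of_iSup_eq_top
      (fun i => V.ι ⁻¹ᵁ PrimeSpectrum.basicOpen (h i)) ?_ fun i => ?_
    · rw [← Scheme.Hom.preimage_iSup]
      exact eq_top_iff.mpr fun x _ => x.2
    · rw [MorphismProperty.arrow_mk_iso_iff @IsOpenImmersion (morphismRestrictRestrict ψ V _),
        MorphismProperty.arrow_mk_iso_iff @IsOpenImmersion (morphismRestrictEq ψ (V := PrimeSpectrum.basicOpen (h i)) (by
          rw [Scheme.Hom.image_preimage_eq_opensRange_inf, Scheme.Opens.opensRange_ι]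
          exact inf_eq_right.mpr (le_iSup (fun i => PrimeSpectrum.basicOpen (h i)) i)))]
      exact hres i
  have : IsOpenImmersion ((ψ ∣_ V) ≫ V.ι) := inferInstance
  rw [morphismRestrict_ι] at this
  show IsOpenImmersion (W.ι ≫ ψ)
  rw [← hW]
  exact this

end Groth.Agent.S7431
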