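import Groth.Statements.S7432
import Groth.Agent.H7Flat.CohDim.Top

set_option autoImplicit false
universe u
open Lim

namespace Groth.Agent.S7432

open AlgebraicGeometry CategoryTheory CategoryTheory.Limits Opposite TopologicalSpace Groth.Agent.H10Coh Groth.Agent.H7Flat
attribute [local instance 10000] hasSheafifyAb hasWeakSheafifyAb hasExtAb enoughInjAb
set_option linter.style.haveILetI false
set_option backward.isDefEq.respectTransparency false


open AlgebraicGeometry CategoryTheory in
/-- Assume `f : X → Y` is a proper morphism whose fibres all have dimension no greater than `d`, and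
consider an `O_X`-module `F` that is quasi-coherent and of finite type. Then `R^d f_* F` is again an
`O_Y`-module that is quasi-coherent and of finite type. (Being 'quasi-coherent of finite type' is
expressed via the prelude's predicate `Coh.IsCoh`, which on an arbitrary scheme means precisely
this; `R^d f_*` denotes the right derived functor of `f_*` on `O`-modules, defined under the
instance binder asserting that `O_X`-modules admit injective resolutions.) -/
theorem result {X Y : Scheme.{u}} (f : X ⟶ Y) [IsProper f] (d : ℕ)
    (hd : ∀ y : Y, topologicalKrullDim ↥(f.fiber y) ≤ d) [HasInjectiveResolutions X.Modules] (M : X.Modules)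
    (hM : Coh.IsCoh M) : Coh.IsCoh ((Coh.Rpush f d).obj M) := by
  haveI : M.IsQuasicoherent := hM.1
  refine (isCoh_iff_finite_sections _).2 ⟨isQuasicoherent_rpush f M d, fun V hV => ?_⟩
  let A := Γ(Y, V)
  letI := LeadBC.preOver f hV
  let XV := (f ⁻¹ᵁ V).toScheme
  let fV : XV ⟶ Spec A := XV ↘ Spec (CommRingCat.of A)
  have hbig : IsPullback (f ⁻¹ᵁ V).ι fV f hV.fromSpec :=
    (isPullback_morphismRestrict f V).flip.of_iso (Iso.refl _) (Iso.refl _) hV.isoSpec (Iso.refl _)
      (by simp) rfl (by simp) (by simp)
  haveI : IsProper fV := MorphismProperty.of_isPullback hbig ‹IsProper f›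
  haveI : IsProper (XV ↘ Spec (CommRingCat.of A)) := ‹IsProper fV›
  haveI : Module.Finite A (Coh.HH XV (M.restrict (f ⁻¹ᵁ V).ι) d) :=
    CohDim.finite_HH_top (X := XV) (A := A) d
      (fun s => by rw [CohDim.dim_fiber_eq hbig s]; exact hd _) _ (isCoh_restrict _ M hM)
  obtain ⟨e, he⟩ := LeadBC.exists_rpushEquiv f hV M d
  let el : Coh.HH XV (M.restrict (f ⁻¹ᵁ V).ι) d ≃ₗ[A] Γ((Coh.Rpush f d).obj M, V) := { e with map_smul' := he }
  exact Module.Finite.equiv el

end Groth.Agent.S7432
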