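import Groth.Statements.S7439
import Groth.Agent.H26BddFib.Basic
import Mathlib.AlgebraicGeometry.Morphisms.Immersion

set_option autoImplicit false
universe u
open CategoryTheory AlgebraicGeometry
open BddFib

namespace Groth.Agent.S7439

/-- Every immersion has universally bounded fibres, with `1` as a bound for the degrees of its fibres. -/
theorem result {X Y : Scheme.{u}} (f : X ⟶ Y) [IsImmersion f] :
    BddFib.FibreDegLE f 1 := by
  intro y
  letI : Field (Y.residueField y) := (Groth.Agent.H26BddFib.isField_residueField y).toField
  set p := f.fiberToSpecResidueField y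
  haveI : IsImmersion p := MorphismProperty.pullback_snd _ _ ‹_›
  haveI : Subsingleton (Spec (Y.residueField y)) := inferInstanceAs (Subsingleton (PrimeSpectrum (Y.residueField y)))
  haveI : IsClosedImmersion p := IsClosedImmersion.of_isPreimmersion p (isClosed_discrete _)
  obtain ⟨ha, hs⟩ := (HasAffineProperty.iff_of_isAffine (P := @IsClosedImmersion) (f := p)).1 ‹_›
  letI : Algebra (Y.residueField y) Γ(f.fiber y, ⊤) := BddFib.secAlgebra _ p
  have hsurj : Function.Surjective (Algebra.linearMap (Y.residueField y) Γ(f.fiber y, ⊤)) :=
    hs.comp (ConcreteCategory.bijective_of_isIso (Scheme.ΓSpecIso (Y.residueField y)).inv).2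
  refine ⟨ha, Module.Finite.of_surjective _ hsurj, ?_⟩
  have h1 := (Algebra.linearMap (Y.residueField y) Γ(f.fiber y, ⊤)).finrank_range_le
  rw [LinearMap.range_eq_top.2 hsurj, finrank_top, Module.finrank_self] at h1
  exact h1

end Groth.Agent.S7439
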