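import Groth.Statements.S7440
import Groth.Agent.H26BddFib.Comp
import Mathlib.AlgebraicGeometry.Morphisms.Etale
import Mathlib.AlgebraicGeometry.AlgClosed.Basic
import Mathlib.RingTheory.Etale.Field
import Mathlib.FieldTheory.IsAlgClosed.AlgebraicClosure

set_option autoImplicit false
universe u
open CategoryTheory AlgebraicGeometry
open BddFib

namespace Groth.Agent.S7440

/-- Let `f : X → Y` be étale and `n ≥ 0`. If for every field `k` and every `Spec k → Y` the base change
`X_k = Spec k ×_Y X` has finitely many, and at most `n`, points, then `n` bounds the degrees of the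
fibres of `f`. (The converse implication holds for every morphism of schemes, étale or not, and is
not restated here.) -/
theorem result {X Y : Scheme.{u}} (f : X ⟶ Y) [Etale f] (n : ℕ)
    (h : ∀ (k : Type u) [Field k] (g : Spec (CommRingCat.of k) ⟶ Y),
      Finite ↥(Limits.pullback f g) ∧ Nat.card ↥(Limits.pullback f g) ≤ n) :
    BddFib.FibreDegLE f n := by
  rw [H26BddFib.fibreDegLE_iff]
  intro k _ g
  set e : Spec (CommRingCat.of (AlgebraicClosure k)) ⟶ Spec (CommRingCat.of k) :=
    Spec.map (CommRingCat.ofHom (algebraMap k (AlgebraicClosure k)))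
  obtain ⟨hfin, hcard⟩ := h (AlgebraicClosure k) (e ≫ g)
  have sq : IsPullback (Limits.pullback.lift (Limits.pullback.fst f (e ≫ g)) (Limits.pullback.snd f (e ≫ g) ≫ e)
      (by simpa using Limits.pullback.condition (f := f) (g := e ≫ g)))
      (Limits.pullback.snd f (e ≫ g)) (Limits.pullback.snd f g) e :=
    .of_right (by rw [Limits.pullback.lift_fst]; exact IsPullback.of_hasPullback f (e ≫ g))
      (Limits.pullback.lift_snd _ _ _) (IsPullback.of_hasPullback f g)
  refine (H26BddFib.of_isPullback (Field.toIsField k) (Field.toIsField _) _ _ _ _ sq n).2 ?_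
  set P := Limits.pullback f (e ≫ g)
  set p : P ⟶ Spec (CommRingCat.of (AlgebraicClosure k)) := Limits.pullback.snd f (e ≫ g)
  haveI : JacobsonSpace ↥P := LocallyOfFiniteType.jacobsonSpace p
  haveI : DiscreteTopology ↥P := inferInstance
  haveI : IsAffine P := inferInstance
  letI := BddFib.secAlgebra (CommRingCat.of (AlgebraicClosure k)) p
  show IsAffine P ∧ Module.Finite (AlgebraicClosure k) Γ(P, ⊤) ∧ Module.finrank (AlgebraicClosure k) Γ(P, ⊤) ≤ n
  haveI : Algebra.Etale (AlgebraicClosure k) Γ(P, ⊤) := by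
    rw [← RingHom.etale_algebraMap]
    exact RingHom.Etale.respectsIso.2 p.appTop.hom (Scheme.ΓSpecIso (CommRingCat.of (AlgebraicClosure k))).symm.commRingCatIsoToRingEquiv
      ((HasRingHomProperty.iff_of_isAffine (P := @Etale)).1 inferInstance)
  obtain ⟨I, _, Ai, _, _, a, hAi⟩ := (Algebra.Etale.iff_exists_algEquiv_prod (K := AlgebraicClosure k) (A := Γ(P, ⊤))).1 inferInstance
  haveI := Fintype.ofFinite I
  haveI := fun i => (hAi i).1
  haveI : Module.Finite (AlgebraicClosure k) Γ(P, ⊤) := Module.Finite.equiv a.symm.toLinearEquiv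
  refine ⟨inferInstance, inferInstance, ?_⟩
  have h1 : ∀ i, Module.finrank (AlgebraicClosure k) (Ai i) = 1 := fun i =>
    (LinearEquiv.ofBijective (Algebra.linearMap (AlgebraicClosure k) (Ai i))
      IsAlgClosed.algebraMap_bijective_of_isIntegral).finrank_eq.symm.trans (Module.finrank_self _)
  rw [a.toLinearEquiv.finrank_eq, Module.finrank_pi_fintype, Finset.sum_congr rfl fun i _ => h1 i,
    Finset.sum_const, Finset.card_univ, smul_eq_mul, mul_one, ← Nat.card_eq_fintype_card]
  refine le_trans ?_ hcard
  let ι : I → ↥P := fun i => P.isoSpec.inv ((PrimeSpectrum.comap a.toAlgHom.toRingHom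
    (PrimeSpectrum.sigmaToPi Ai ⟨i, ⟨⊥, Ideal.isPrime_bot⟩⟩) :) : ↥(Spec Γ(P, ⊤)))
  refine Nat.card_le_card_of_injective ι fun i j hij => ?_
  exact congrArg Sigma.fst (PrimeSpectrum.sigmaToPi_injective Ai
    (PrimeSpectrum.comap_injective_of_surjective _ a.surjective (P.isoSpec.inv.homeomorph.injective hij)))

end Groth.Agent.S7440
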