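import Groth.Statements.S7441
import Groth.Agent.H26BddFib.Cover
import Groth.Agent.S7439

set_option autoImplicit false
universe u
open CategoryTheory AlgebraicGeometry
open BddFib

namespace Groth.Agent.S7441

/-- Let `f : X → Y` be locally quasi-finite (locally of finite type with discrete fibres) with `X`
quasi-compact. Then the fibres of `f` are universally bounded. -/
theorem result {X Y : Scheme.{u}} (f : X ⟶ Y) [LocallyQuasiFinite f]
    [LocallyOfFiniteType f] [CompactSpace X] : BddFib.UnivBounded f := by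
  have h1 : ∀ {U V : Scheme.{u}} (j : U ⟶ V) [IsOpenImmersion j], BddFib.FibreDegLE j 1 :=
    fun j _ => Groth.Agent.S7439.result j
  have loc : ∀ x : X, ∃ W : X.Opens, x ∈ W ∧ ∃ N : ℕ, BddFib.FibreDegLE (W.ι ≫ f) N := by
    intro x
    obtain ⟨_, ⟨V, hV, rfl⟩, hxV, -⟩ := Y.isBasis_affineOpens.exists_subset_of_mem_open (Set.mem_univ (f x)) isOpen_univ
    obtain ⟨_, ⟨U, hU, rfl⟩, hxU, hUV⟩ :=
      X.isBasis_affineOpens.exists_subset_of_mem_open (show x ∈ f ⁻¹ᵁ V from hxV) (f ⁻¹ᵁ V).2
    algebraize [(f.appLE V U hUV).hom]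
    haveI : Algebra.FiniteType Γ(Y, V) Γ(X, U) := f.finiteType_appLE hV hU hUV
    haveI : Algebra.QuasiFinite Γ(Y, V) Γ(X, U) := LocallyQuasiFinite.quasiFinite_appLE hV hU hUV
    obtain ⟨r, hr, N, hN⟩ := H26BddFib.exists_local_bound (B := Γ(Y, V)) (hU.primeIdealOf ⟨x, hxU⟩).asIdeal h1
    haveI : IsOpenImmersion (Spec.map (CommRingCat.ofHom (algebraMap Γ(X, U) (Localization.Away r)))) :=
      IsOpenImmersion.of_isLocalization r
    let j : Spec (CommRingCat.of (Localization.Away r)) ⟶ X :=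
      Spec.map (CommRingCat.ofHom (algebraMap Γ(X, U) (Localization.Away r))) ≫ hU.fromSpec
    refine ⟨j.opensRange, ?_, 1 * (N * 1), ?_⟩
    · have hx' : hU.primeIdealOf ⟨x, hxU⟩ ∈
          Set.range (Spec.map (CommRingCat.ofHom (algebraMap Γ(X, U) (Localization.Away r)))) := by
        show _ ∈ Set.range (PrimeSpectrum.comap (algebraMap Γ(X, U) (Localization.Away r)))
        rw [PrimeSpectrum.localization_away_comap_range (Localization.Away r) r]
        exact hr
      obtain ⟨z, hz⟩ := hx'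
      refine ⟨z, ?_⟩
      show hU.fromSpec (Spec.map _ z) = x
      rw [hz]
      exact hU.fromSpec_primeIdealOf _
    · rw [← Scheme.Hom.isoOpensRange_inv_comp j, Category.assoc]
      refine H26BddFib.comp (h1 _) ?_
      rw [show j ≫ f = (Spec.map (CommRingCat.ofHom (algebraMap Γ(X, U) (Localization.Away r))) ≫
        Spec.map (f.appLE V U hUV)) ≫ hV.fromSpec by
          simp only [j, Category.assoc, IsAffineOpen.SpecMap_appLE_fromSpec f hV hU hUV]]
      exact H26BddFib.comp hN (h1 _)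
  choose W hxW N hN using loc
  obtain ⟨t, ht⟩ := isCompact_univ.elim_finite_subcover (fun x => (W x : Set X)) (fun x => (W x).2)
    (fun x _ => Set.mem_iUnion.2 ⟨x, hxW x⟩)
  refine ⟨_, H26BddFib.of_openCover f (fun x : t => W x) ?_ (fun x : t => N x) fun x => hN x⟩
  refine eq_top_iff.2 fun x hx => ?_
  obtain ⟨i, hi, hxi⟩ := Set.mem_iUnion₂.1 (ht (Set.mem_univ x))
  exact TopologicalSpace.Opens.mem_iSup.2 ⟨⟨i, hi⟩, hxi⟩

end Groth.Agent.S7441
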