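import Groth.Statements.S7442
import Groth.Agent.H26BddFib.Comp
import Mathlib.AlgebraicGeometry.Morphisms.UniversallyOpen
import Mathlib.RingTheory.RingHom.FaithfullyFlat

set_option autoImplicit false
universe u
open CategoryTheory AlgebraicGeometry
open BddFib

namespace Groth.Agent.S7442

/-- Let `f : X → Y` and `h : Y → Z` with `g = h ∘ f`. If `f` is flat and surjective and `n` bounds the
degrees of the fibres of `g`, then `n` bounds the degrees of the fibres of `h`. -/
theorem result {X Y Z : Scheme.{u}} (f : X ⟶ Y) (h : Y ⟶ Z) [Flat f] [Surjective f]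
    (n : ℕ) (hg : BddFib.FibreDegLE (f ≫ h) n) : BddFib.FibreDegLE h n := by
  rw [H26BddFib.fibreDegLE_iff] at hg ⊢
  intro k _ a
  have sq := (IsPullback.of_hasPullback f (Limits.pullback.fst h a)).paste_vert (IsPullback.of_hasPullback h a)
  have hT : BddFib.FiniteOfDegLE (CommRingCat.of k)
      (Limits.pullback.snd f (Limits.pullback.fst h a) ≫ Limits.pullback.snd h a) n := by
    rw [← sq.isoPullback_hom_snd]
    exact H26BddFib.of_iso (Field.toIsField k) _ _ (hg k a)
  set fT := Limits.pullback.snd f (Limits.pullback.fst h a)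
  haveI := H26BddFib.discrete_of_finiteOfDegLE hT
  haveI := (H26BddFib.finite_and_sum_le _ hT).1
  haveI : Finite ↥(Limits.pullback h a) := Finite.of_surjective _ fT.surjective
  haveI : T1Space ↥(Limits.pullback h a) := by
    refine t1Space_iff_specializes_imp_eq.2 fun x y hxy => ?_
    obtain ⟨t, rfl⟩ := fT.surjective y
    obtain ⟨t', ht', rfl⟩ := Flat.generalizingMap fT hxy
    rw [specializes_iff_eq.1 ht']
  haveI : DiscreteTopology ↥(Limits.pullback h a) := Finite.instDiscreteTopology
  haveI : IsAffine (Limits.pullback h a) := inferInstance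
  letI := BddFib.secAlgebra (CommRingCat.of k) (Limits.pullback.snd h a)
  letI := BddFib.secAlgebra (CommRingCat.of k) (fT ≫ Limits.pullback.snd h a)
  obtain ⟨ha, hf', hn⟩ : IsAffine (Limits.pullback f (Limits.pullback.fst h a)) ∧
      Module.Finite k Γ(Limits.pullback f (Limits.pullback.fst h a), ⊤) ∧
      Module.finrank k Γ(Limits.pullback f (Limits.pullback.fst h a), ⊤) ≤ n := hT
  show IsAffine (Limits.pullback h a) ∧
      Module.Finite k Γ(Limits.pullback h a, ⊤) ∧ Module.finrank k Γ(Limits.pullback h a, ⊤) ≤ n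
  let φ : Γ(Limits.pullback h a, ⊤) →ₗ[k] Γ(Limits.pullback f (Limits.pullback.fst h a), ⊤) :=
    (AlgHom.mk fT.appTop.hom (fun r => rfl)).toLinearMap
  have hφ : Function.Injective φ := by
    show Function.Injective fT.appTop.hom
    refine RingHom.FaithfullyFlat.injective ?_
    rw [RingHom.FaithfullyFlat.iff_flat_and_comap_surjective]
    refine ⟨(HasRingHomProperty.iff_of_isAffine (P := @Flat)).1 inferInstance, ?_⟩
    have h1 : Surjective (Spec.map fT.appTop) := by
      have e : Spec.map fT.appTop = (Scheme.isoSpec _).inv ≫ fT ≫ (Scheme.isoSpec _).hom := by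
        rw [← Scheme.isoSpec_hom_naturality, Iso.inv_hom_id_assoc]
      rw [e]
      infer_instance
    exact h1.surj
  exact ⟨inferInstance, Module.Finite.of_injective φ hφ, (LinearMap.finrank_le_finrank_of_injective hφ).trans hn⟩

end Groth.Agent.S7442
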