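import Groth.Statements.S7448
import Groth.Agent.H7Flat.CohDim.H1Apps

set_option autoImplicit false
universe u
open Lim

namespace Groth.Agent.S7448

open AlgebraicGeometry CategoryTheory CategoryTheory.Limits Opposite TopologicalSpace Groth.Agent.H10Coh Groth.Agent.H7Flat
attribute [local instance 10000] hasSheafifyAb hasWeakSheafifyAb hasExtAb enoughInjAb
attribute [local instance] enoughInjMod
set_option linter.style.haveILetI false
set_option backward.isDefEq.respectTransparency false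


open AlgebraicGeometry CategoryTheory in
/-- Let `f : X → Y` be a morphism with `X`, `Y` quasi-compact and quasi-separated, and `d ≥ 0` such that
`R^i f_* F = 0` for all `i > d` and all quasi-coherent `F`. Then for every cartesian square with
base change `f' : X' → Y'` of `f`, `R^i f'_* F' = 0` for all `i > d` and all quasi-coherent
`O_{X'}`-modules `F'`. -/
theorem result {X Y X' Y' : Scheme.{u}} (f : X ⟶ Y) [CompactSpace X]
    [QuasiSeparatedSpace X] [CompactSpace Y] [QuasiSeparatedSpace Y] (d : ℕ)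
    (hvan : ∀ (M : X.Modules) (i : ℕ), Coh.IsQCoh M → d < i → Limits.IsZero ((Coh.RpushAb f i).obj (Coh.toAb M)))
    (g : Y' ⟶ Y) (f' : X' ⟶ Y') (g' : X' ⟶ X) (sq : IsPullback g' f' f g) (M' : X'.Modules) [Coh.IsQCoh M']
    (i : ℕ) (hi : d < i) : Limits.IsZero ((Coh.RpushAb f' i).obj (Coh.toAb M')) := by
  obtain ⟨n, rfl⟩ : ∃ n, i = n + 1 := ⟨i - 1, by omega⟩
  haveI : QuasiCompact f := inferInstance
  haveI : QuasiSeparated f := inferInstance
  haveI : QuasiCompact f' := MorphismProperty.of_isPullback sq inferInstance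
  haveI : QuasiSeparated f' := MorphismProperty.of_isPullback sq inferInstance
  let B : Set Y'.Opens := {W | IsAffineOpen W ∧ ∃ V : Y.Opens, IsAffineOpen V ∧ W ≤ g ⁻¹ᵁ V}
  have hB : Opens.IsBasis B := Opens.isBasis_iff_nbhd.2 fun {U x} hx => by
    obtain ⟨V, hV, hxV, -⟩ := Opens.isBasis_iff_nbhd.1 Y.isBasis_affineOpens (show g x ∈ (⊤ : Y.Opens) from trivial)
    obtain ⟨W, hW, hxW, hWU⟩ := Opens.isBasis_iff_nbhd.1 Y'.isBasis_affineOpens (show x ∈ U ⊓ g ⁻¹ᵁ V from ⟨hx, hxV⟩)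
    exact ⟨W, ⟨hW, V, hV, hWU.trans inf_le_right⟩, hxW, hWU.trans inf_le_left⟩
  refine isZero_rpush_of_vanishing f'.base (Coh.toAb M') n B hB fun (W : Y'.Opens) ⟨hW, V, hV, hWV⟩ => ?_
  haveI : IsAffine W.toScheme := hW
  haveI : IsAffine V.toScheme := hV
  let r : (f' ⁻¹ᵁ W).toScheme ⟶ (f ⁻¹ᵁ V).toScheme := g'.resLE (f ⁻¹ᵁ V) (f' ⁻¹ᵁ W) (by
    intro z hz
    show f (g' z) ∈ V
    rw [← Scheme.Hom.comp_apply, sq.w, Scheme.Hom.comp_apply]
    exact hWV hz)
  have hpb : IsPullback r (f' ∣_ W) (f ∣_ V) (g.resLE V W hWV) := by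
    refine IsPullback.of_right (h₁₂ := (f ⁻¹ᵁ V).ι) (v₁₃ := f) (h₂₂ := V.ι) ?_ ?_ (isPullback_morphismRestrict f V).flip
    · rw [Scheme.Hom.resLE_comp_ι, Scheme.Hom.resLE_comp_ι]
      exact (isPullback_morphismRestrict f' W).flip.paste_horiz sq
    · rw [← cancel_mono V.ι]
      simp [r, sq.w]
  haveI : IsAffineHom (g.resLE V W hWV) := isAffineHom_of_isAffine _
  haveI : IsAffineHom r := MorphismProperty.of_isPullback hpb.flip ‹IsAffineHom (g.resLE V W hWV)›
  let M'' := M'.restrict (f' ⁻¹ᵁ W).ι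
  haveI : M''.IsQuasicoherent := Scheme.Modules.isQuasicoherent_restrictFunctor _ M'
  let N := (Coh.push r).obj M''
  haveI : N.IsQuasicoherent := isQuasicoherent_pushforward_of_isAffineHom r _
  let j := (f ⁻¹ᵁ V).ι
  haveI : CompactSpace (f ⁻¹ᵁ V).toScheme :=
    isCompact_iff_compactSpace.1 (QuasiCompact.isCompact_preimage _ V.isOpen hV.isCompact)
  haveI : QuasiCompact j := quasiCompact_of_compactSpace j
  let M := (Scheme.Modules.pushforward j).obj N
  haveI hM : M.IsQuasicoherent := isQuasicoherent_pushforward j N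
  have hz := hvan M (n + 1) hM hi
  obtain ⟨e⟩ := nonempty_sections_rpushAb f M hV (n + 1)
  haveI : Subsingleton (((Coh.RpushAb f (n + 1)).obj (Coh.toAb M)).obj.obj (op V)) :=
    AddCommGrpCat.subsingleton_of_isZero (((sheafToPresheaf _ _).map_isZero hz).obj _)
  haveI h1 : Subsingleton (HnM M (n + 1) (f ⁻¹ᵁ V)) := e.toEquiv.subsingleton
  haveI h2 : Subsingleton (HnM M (n + 1) (j ''ᵁ ⊤)) := by rwa [show j ''ᵁ ⊤ = f ⁻¹ᵁ V from Scheme.Opens.ι_image_top _]
  haveI : Subsingleton (HnM (M.restrict j) (n + 1) ⊤) := (restrEquivM j M (n + 1) ⊤).symm.toEquiv.subsingleton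
  haveI : Subsingleton (Coh.HH _ (M.restrict j) (n + 1)) := (topEquiv (sh (M.restrict j)) (n + 1)).toEquiv.subsingleton
  haveI : Subsingleton (Coh.HH _ N (n + 1)) :=
    CohDim.subsingleton_HH_of_iso ((Scheme.Modules.restrictFunctorAdjCounitIso j).app N) (n + 1) ‹_›
  haveI : Subsingleton (Coh.HH _ M'' (n + 1)) := (CohDim.lerayHH r M'' (n + 1)).symm.toEquiv.subsingleton
  haveI : Subsingleton (HnM M'' (n + 1) ⊤) := (topEquiv (sh M'') (n + 1)).symm.toEquiv.subsingleton
  exact subsingleton_HnM_image (f' ⁻¹ᵁ W).ι M' (n + 1) ⊤ _ (Scheme.Opens.ι_image_top _) this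

end Groth.Agent.S7448
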