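import Groth.Statements.S7453
import Groth.Agent.H19Grp.Components

set_option autoImplicit false
universe u
open CategoryTheory CategoryTheory.Limits AlgebraicGeometry
open Grpd

namespace Groth.Agent.S7453

/-- Let (U, R, s, t, c) be a groupoid scheme over S with U the spectrum of a field. Then R is a
separated scheme. (A groupoid scheme carries U, R, s, t, c, e, i over S with the groupoid axioms on
T-points; c is defined on the fibre product of s and t and sends a pair (a, b) with s(a) = t(b) to a
composed with b.) -/
theorem result (S : Scheme.{u}) (G : Grpd.GroupoidScheme S) (k : Type u) [Field k] (eU : G.U ≅ Spec (CommRingCat.of k)) : G.R.IsSeparated := by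
  haveI := Groth.Agent.H19Grp.subsingleton_U G eU
  haveI := Groth.Agent.H19Grp.isAffine_U G eU
  exact Groth.Agent.H19Grp.isSeparated_grpd G

end Groth.Agent.S7453
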