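import Groth.Statements.S7454
import Groth.Agent.H19Grp.GrpdSmooth
import Groth.Agent.H19Grp.GrpdTangent
import Groth.Agent.H17.PointLocal

set_option autoImplicit false
universe u
open CategoryTheory CategoryTheory.Limits AlgebraicGeometry
open Grpd

namespace Groth.Agent.S7454

/-- Let (U, R, s, t, c) be a groupoid scheme over S with U the spectrum of a field of characteristic
zero and s, t locally of finite type. Then s and t are smooth. (A groupoid scheme carries U, R, s,
t, c, e, i over S with the groupoid axioms on T-points; c is defined on the fibre product of s and t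
and sends a pair (a, b) with s(a) = t(b) to a composed with b.) -/
theorem result (S : Scheme.{u}) (G : Grpd.GroupoidScheme S) (k : Type u) [Field k] [CharZero k] (eU : G.U ≅ Spec (CommRingCat.of k)) [LocallyOfFiniteType G.s] [LocallyOfFiniteType G.t] : Smooth G.s ∧ Smooth G.t := by
  haveI := Groth.Agent.H19Grp.isIntegral_U G eU
  haveI := Groth.Agent.H19Grp.subsingleton_U G eU
  haveI : IsLocallyNoetherian G.U := LocallyOfFiniteType.isLocallyNoetherian eU.hom
  let f := G.s ≫ eU.hom
  haveI : IsLocallyNoetherian G.R := LocallyOfFiniteType.isLocallyNoetherian f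
  haveI := Groth.Agent.H19Grp.isDomain_stalk_grpdUnit G eU
  obtain ⟨U, hpU, hU⟩ := H17.exists_reduced_nhd ((eU.inv ≫ G.e) (IsLocalRing.closedPoint k))
  haveI := hU
  haveI : Nonempty (U : Scheme.{u}) := ⟨⟨_, hpU⟩⟩
  let g := U.ι ≫ f
  haveI : LocallyOfFinitePresentation g := inferInstanceAs (LocallyOfFinitePresentation (U.ι ≫ G.s ≫ eU.hom))
  obtain ⟨w, hw⟩ := (g.dense_smoothLocus_of_perfectField).nonempty
  have hwf : U.ι w ∈ f.smoothLocus := by
    rw [← Scheme.Hom.mem_preimage, Scheme.Hom.preimage_smoothLocus_eq]; exact hw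
  haveI : Smooth (f.smoothLocus.ι ≫ G.s) := by
    have h := H17.LocusBC.smooth_restrict_smoothLocus f
    have : f.smoothLocus.ι ≫ G.s = (f.smoothLocus.ι ≫ f) ≫ eU.inv := by simp [f]
    rw [this]
    infer_instance
  have hw' : U.ι w ∈ G.s.smoothLocus :=
    H17.LocusBC.subset_smoothLocus_of_smooth G.s f.smoothLocus hwf
  haveI := Groth.Agent.H19Grp.smooth_s_of_mem_smoothLocus G hw'
  exact ⟨this, Groth.Agent.H19Grp.smooth_t_of_smooth_s G⟩

end Groth.Agent.S7454
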