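import Groth.Statements.S7455
import Groth.Agent.H19Grp.GrpdSmooth

set_option autoImplicit false
universe u
open CategoryTheory CategoryTheory.Limits AlgebraicGeometry
open Grpd

namespace Groth.Agent.S7455

/-- Let (U, R, s, t, c) be a groupoid scheme over S with U the spectrum of a perfect field, s and t
locally of finite type, and R reduced. Then s and t are smooth. (A groupoid scheme carries U, R, s,
t, c, e, i over S with the groupoid axioms on T-points; c is defined on the fibre product of s and t
and sends a pair (a, b) with s(a) = t(b) to a composed with b.) -/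
theorem result (S : Scheme.{u}) (G : Grpd.GroupoidScheme S) (k : Type u) [Field k] [PerfectField k] (eU : G.U ≅ Spec (CommRingCat.of k)) [LocallyOfFiniteType G.s] [LocallyOfFiniteType G.t] [IsReduced G.R] : Smooth G.s ∧ Smooth G.t := by
  haveI := Groth.Agent.H19Grp.isIntegral_U G eU
  haveI := Groth.Agent.H19Grp.subsingleton_U G eU
  haveI : IsLocallyNoetherian G.U := LocallyOfFiniteType.isLocallyNoetherian eU.hom
  haveI : Nonempty G.R := ⟨G.e (eU.inv (IsLocalRing.closedPoint k))⟩
  let f := G.s ≫ eU.hom
  haveI : LocallyOfFinitePresentation f := inferInstanceAs (LocallyOfFinitePresentation (G.s ≫ eU.hom))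
  obtain ⟨w, hw⟩ := (f.dense_smoothLocus_of_perfectField).nonempty
  haveI : Smooth (f.smoothLocus.ι ≫ G.s) := by
    have h := H17.LocusBC.smooth_restrict_smoothLocus f
    have : f.smoothLocus.ι ≫ G.s = (f.smoothLocus.ι ≫ f) ≫ eU.inv := by simp [f]
    rw [this]
    infer_instance
  have hw' : w ∈ G.s.smoothLocus := H17.LocusBC.subset_smoothLocus_of_smooth G.s f.smoothLocus hw
  haveI := Groth.Agent.H19Grp.smooth_s_of_mem_smoothLocus G hw'
  exact ⟨this, Groth.Agent.H19Grp.smooth_t_of_smooth_s G⟩

end Groth.Agent.S7455
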