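import Groth.Statements.S7456
import Groth.Agent.H19Grp.GrpdBasic
import Mathlib.AlgebraicGeometry.Morphisms.QuasiCompact

set_option autoImplicit false
universe u
open CategoryTheory CategoryTheory.Limits AlgebraicGeometry
open Grpd

namespace Groth.Agent.S7456

/-- Let (U, R, s, t, c) be a groupoid scheme over S. For every subset W of U, the subset t(s^{-1}(W)) is
set-theoretically R-invariant: its preimages under s and t coincide. If moreover s and t are open
maps and quasi-compact, then U is covered by R-invariant quasi-compact open subsets. (The published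
statement also asserts that this set is open when W is open and s, t are open maps; this row omits
that clause.) (A groupoid scheme carries U, R, s, t, c, e, i over S with the groupoid axioms on
T-points; c is defined on the fibre product of s and t and sends a pair (a, b) with s(a) = t(b) to a
composed with b.) -/
theorem result (S : Scheme.{u}) (G : Grpd.GroupoidScheme S) : (∀ W : Set G.U, ⇑G.s ⁻¹' (⇑G.t '' (⇑G.s ⁻¹' W)) = ⇑G.t ⁻¹' (⇑G.t '' (⇑G.s ⁻¹' W))) ∧ (IsOpenMap ⇑G.s → IsOpenMap ⇑G.t → QuasiCompact G.s → QuasiCompact G.t → ∀ u : G.U, ∃ W : G.U.Opens, IsCompact (W : Set G.U) ∧ u ∈ W ∧ G.s ⁻¹ᵁ W = G.t ⁻¹ᵁ W) := by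
  have key : ∀ W : Set G.U, ⇑G.s ⁻¹' (⇑G.t '' (⇑G.s ⁻¹' W)) = ⇑G.t ⁻¹' (⇑G.t '' (⇑G.s ⁻¹' W)) := by
    intro W
    ext r
    constructor
    · rintro ⟨q, hq, hqr⟩
      obtain ⟨p, hp1, hp2⟩ := Scheme.Pullback.exists_preimage_pullback (f := G.s) (g := G.t) r q
        hqr.symm
      refine ⟨G.c p, ?_, ?_⟩
      · show G.s (G.c p) ∈ W
        rw [← Scheme.Hom.comp_apply, Groth.Agent.H19Grp.c_s, Scheme.Hom.comp_apply, hp2]
        exact hq
      · rw [← Scheme.Hom.comp_apply, Groth.Agent.H19Grp.c_t, Scheme.Hom.comp_apply, hp1]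
    · rintro ⟨q, hq, hqr⟩
      obtain ⟨p, hp1, hp2⟩ := Scheme.Pullback.exists_preimage_pullback (f := G.s) (g := G.t)
        (G.i r) q (by rw [← Scheme.Hom.comp_apply, G.i_s, hqr])
      refine ⟨G.c p, ?_, ?_⟩
      · show G.s (G.c p) ∈ W
        rw [← Scheme.Hom.comp_apply, Groth.Agent.H19Grp.c_s, Scheme.Hom.comp_apply, hp2]
        exact hq
      · rw [← Scheme.Hom.comp_apply, Groth.Agent.H19Grp.c_t, Scheme.Hom.comp_apply, hp1,
          ← Scheme.Hom.comp_apply, G.i_t]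
  refine ⟨key, fun hs ht hqs hqt u => ?_⟩
  obtain ⟨W₀, hW₀, hu, -⟩ : ∃ W₀ : G.U.Opens, IsAffineOpen W₀ ∧ u ∈ W₀ ∧ W₀ ≤ ⊤ :=
    TopologicalSpace.Opens.isBasis_iff_nbhd.mp G.U.isBasis_affineOpens (U := ⊤) trivial
  let W : G.U.Opens :=
    ⟨⇑G.t '' (⇑G.s ⁻¹' (W₀ : Set G.U)), ht _ (W₀.2.preimage G.s.continuous)⟩
  refine ⟨W, (G.s.isCompact_preimage hW₀.isCompact).image G.t.continuous, ⟨G.e u, ?_, ?_⟩, ?_⟩
  · show G.s (G.e u) ∈ W₀
    rw [← Scheme.Hom.comp_apply, G.e_s]
    exact hu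
  · rw [← Scheme.Hom.comp_apply, G.e_t]
    rfl
  · exact TopologicalSpace.Opens.ext (key (W₀ : Set G.U))

end Groth.Agent.S7456
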