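import Groth.Statements.S7457
import Groth.Agent.H19Grp.GrpdShear

set_option autoImplicit false
universe u
open CategoryTheory CategoryTheory.Limits AlgebraicGeometry
open Grpd

namespace Groth.Agent.S7457

/-- Let (U, R, s, t, c) be a groupoid scheme over S. Let φ : R x_(t,U,t) R -> R x_(s,U,t) R be the
morphism sending a pair (a, b) with the same target to (a, a^{-1} composed with b), that is, the
morphism whose first component is the first projection and whose second component is c applied to (i
composed after the first projection, second projection). Then φ is an isomorphism and composed with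
c it gives the second projection. Moreover the square with sides c, the second projection R
x_(s,U,t) R -> R, s and s is cartesian. (A groupoid scheme carries U, R, s, t, c, e, i over S with
the groupoid axioms on T-points; c is defined on the fibre product of s and t and sends a pair (a,
b) with s(a) = t(b) to a composed with b.) -/
theorem result (S : Scheme.{u}) (G : Grpd.GroupoidScheme S) : (∀ φ : pullback G.t G.t ⟶ pullback G.s G.t, φ ≫ pullback.fst G.s G.t = pullback.fst G.t G.t → φ ≫ pullback.snd G.s G.t = pullback.lift (pullback.fst G.t G.t ≫ G.i) (pullback.snd G.t G.t) ((Category.assoc _ _ _).trans ((congrArg (fun x => pullback.fst G.t G.t ≫ x) G.i_s).trans pullback.condition)) ≫ G.c → IsIso φ ∧ φ ≫ G.c = pullback.snd G.t G.t) ∧ IsPullback G.c (pullback.snd G.s G.t) G.s G.s := by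
  refine ⟨fun φ h1 h2 => ?_, Groth.Agent.H19Grp.isPullback_c_snd G⟩
  let a := pullback.fst G.t G.t
  let b := pullback.snd G.t G.t
  have hab : a ≫ G.t = b ≫ G.t := pullback.condition
  have h2' : φ ≫ pullback.snd G.s G.t =
      Groth.Agent.H19Grp.mulR G (Groth.Agent.H19Grp.invR G a) b
        ((Groth.Agent.H19Grp.invR_s G a).trans hab) := h2
  let p := pullback.fst G.s G.t
  let q := pullback.snd G.s G.t
  have hpq : p ≫ G.s = q ≫ G.t := pullback.condition
  let ψ : pullback G.s G.t ⟶ pullback G.t G.t :=
    pullback.lift p G.c (Groth.Agent.H19Grp.c_t G).symm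
  refine ⟨⟨⟨ψ, ?_, ?_⟩⟩, ?_⟩
  · apply pullback.hom_ext
    · rw [Category.assoc, pullback.lift_fst, Category.id_comp, h1]
    · rw [Category.assoc, pullback.lift_snd, Category.id_comp, Groth.Agent.H19Grp.c_eq G,
        Groth.Agent.H19Grp.comp_mulR]
      refine (Groth.Agent.H19Grp.mulR_congr G h1 h2' _).trans ?_
      exact Groth.Agent.H19Grp.mulR_invR_cancel G a b hab
  · apply pullback.hom_ext
    · rw [Category.assoc, h1, pullback.lift_fst, Category.id_comp]
    · rw [Category.assoc, h2', Category.id_comp, Groth.Agent.H19Grp.comp_mulR]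
      refine (Groth.Agent.H19Grp.mulR_congr G
        (show ψ ≫ Groth.Agent.H19Grp.invR G a = Groth.Agent.H19Grp.invR G p by
          rw [Groth.Agent.H19Grp.comp_invR, pullback.lift_fst])
        (show ψ ≫ b = Groth.Agent.H19Grp.mulR G p q hpq by
          rw [pullback.lift_snd, Groth.Agent.H19Grp.c_eq G]) _).trans ?_
      exact Groth.Agent.H19Grp.invR_mulR_cancel G p q hpq
  · rw [Groth.Agent.H19Grp.c_eq G, Groth.Agent.H19Grp.comp_mulR]
    refine (Groth.Agent.H19Grp.mulR_congr G h1 h2' _).trans ?_
    exact Groth.Agent.H19Grp.mulR_invR_cancel G a b hab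

end Groth.Agent.S7457
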