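import Groth.Statements.S7459
import Groth.Agent.H19Grp.Basic

set_option autoImplicit false
universe u
open CategoryTheory MonoidalCategory CartesianMonoidalCategory MonObj GrpObj AlgebraicGeometry
open GrpSch

namespace Groth.Agent.S7459

/-- Let G be a group scheme over a field k, W an open subscheme of G and f : T -> G a morphism of
schemes (T becomes a k-scheme through f). Then the image of the composition T x_k W -> G x_k G -> G,
the second map being the multiplication, is open. -/
theorem result (K : Type u) [Field K] (G : Over (Spec (CommRingCat.of K))) [GrpObj G] (W : G.left.Opens) (T : Scheme.{u}) (f : T ⟶ G.left) : IsOpen (Set.range ⇑(((Over.homMk f rfl : Over.mk (f ≫ G.hom) ⟶ G) ⊗ₘ (Over.homMk W.ι rfl : Over.mk (W.ι ≫ G.hom) ⟶ G)) ≫ μ[G]).left) := by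
  have h1 : UniversallyOpen
      (((Over.homMk f rfl : Over.mk (f ≫ G.hom) ⟶ G) ▷ G) ≫ μ[G]).left :=
    Groth.Agent.H19Grp.whiskerRight_act_left_of
      (Groth.Agent.H19Grp.selfAction G) _ @UniversallyOpen inferInstance
  have h2 : IsOpenImmersion
      ((Over.mk (f ≫ G.hom)) ◁ (Over.homMk W.ι rfl : Over.mk (W.ι ≫ G.hom) ⟶ G)).left := by
    rw [Over.whiskerLeft_left]
    exact MorphismProperty.pullbackMap (P := @IsOpenImmersion)
      (inferInstanceAs (IsOpenImmersion (𝟙 T))) (inferInstanceAs (IsOpenImmersion W.ι))
      (Category.id_comp _).symm rfl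
  rw [MonoidalCategory.tensorHom_def', Category.assoc, Over.comp_left]
  have := h1
  have := h2
  exact (Scheme.Hom.isOpenMap _).isOpen_range

end Groth.Agent.S7459
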