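import Groth.Statements.S7460
import Mathlib.AlgebraicGeometry.PullbackCarrier

set_option autoImplicit false
set_option maxHeartbeats 1000000
set_option synthInstance.maxHeartbeats 100000
set_option linter.style.haveILetI false
set_option backward.isDefEq.respectTransparency false
universe u
open CategoryTheory CategoryTheory.Limits AlgebraicGeometry
open GrpSch

namespace Groth.Agent.S7460

open scoped TensorProduct

/-- Modulo a prime every element is a constant, witnessed by an element off the prime. -/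
lemma exists_scalar {k : Type u} [Field k] {A : Type u} [CommRing A] [Algebra k A]
    (hA : ∀ s : Finset A, ∃ (B : Subalgebra k A) (n : ℕ), (↑s : Set A) ⊆ (B : Set A) ∧ Nonempty (B ≃ₐ[k] (Fin n → k)))
    (P : Ideal A) [P.IsPrime] (a : A) : ∃ (c : k) (e : A), e ∉ P ∧ e * a = c • e := by
  classical
  obtain ⟨B, n, hB, ⟨φ⟩⟩ := hA {a}
  have ha : a ∈ B := hB (by simp)
  have h1 : (∑ i, (φ.symm (Pi.single i 1) : B)) = 1 := by
    rw [← map_sum, Finset.univ_sum_single fun _ => (1 : k)]
    exact map_one φ.symm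
  obtain ⟨i, hi⟩ : ∃ i, (φ.symm (Pi.single i 1) : A) ∉ P := by
    by_contra! h
    exact Ideal.IsPrime.ne_top ‹_› ((Ideal.eq_top_iff_one _).2 (by
      have := congrArg (fun b : B => (b : A)) h1
      simp only [AddSubmonoidClass.coe_finset_sum, OneMemClass.coe_one] at this
      rw [← this]
      exact Ideal.sum_mem _ fun i _ => h i))
  refine ⟨φ ⟨a, ha⟩ i, _, hi, ?_⟩
  have : φ.symm (Pi.single i 1) * ⟨a, ha⟩ = φ ⟨a, ha⟩ i • φ.symm (Pi.single i 1) := by
    apply φ.injective
    ext j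
    by_cases h : j = i
    · subst h; simp
    · simp [h]
  simpa using congrArg (fun b : B => (b : A)) this

/-- Near a prime every tensor is a pure tensor. -/
lemma exists_pure {k : Type u} [Field k] {A B : Type u} [CommRing A] [Algebra k A] [CommRing B] [Algebra k B]
    (hA : ∀ s : Finset A, ∃ (C : Subalgebra k A) (n : ℕ), (↑s : Set A) ⊆ (C : Set A) ∧ Nonempty (C ≃ₐ[k] (Fin n → k)))
    (P : Ideal A) [hP : P.IsPrime] (t : A ⊗[k] B) : ∃ (e : A) (b : B), e ∉ P ∧ (e ⊗ₜ[k] (1 : B)) * t = e ⊗ₜ[k] b := by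
  induction t using TensorProduct.induction_on with
  | zero => exact ⟨1, 0, (Ideal.ne_top_iff_one _).1 hP.ne_top, by simp⟩
  | tmul a b =>
    obtain ⟨c, e, he, h⟩ := exists_scalar hA P a
    exact ⟨e, c • b, he, by rw [Algebra.TensorProduct.tmul_mul_tmul, h, one_mul, TensorProduct.smul_tmul]⟩
  | add t₁ t₂ h₁ h₂ =>
    obtain ⟨e₁, b₁, he₁, h₁⟩ := h₁
    obtain ⟨e₂, b₂, he₂, h₂⟩ := h₂
    refine ⟨e₁ * e₂, b₁ + b₂, fun h => (hP.mem_or_mem h).elim he₁ he₂, ?_⟩
    have e : (e₁ * e₂) ⊗ₜ[k] (1 : B) = (e₁ ⊗ₜ[k] (1 : B)) * (e₂ ⊗ₜ[k] (1 : B)) := by simp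
    rw [mul_add, TensorProduct.tmul_add]
    congr 1
    · rw [e, mul_comm (e₁ ⊗ₜ[k] (1 : B)), mul_assoc, h₁]
      simp [mul_comm]
    · rw [e, mul_assoc, h₂]
      simp


/-- Let k be a field and A a k-algebra such that every finite subset of A is contained in a k-subalgebra
isomorphic to a finite product of copies of k (that is, A is a directed colimit of finite products
of copies of k). Let X be a scheme over k. Then the map from the underlying space of Spec A x_k X to
the product of the underlying spaces of Spec A and X, given by the two projections, is a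
homeomorphism. -/
theorem result (k : Type u) [Field k] (A : Type u) [CommRing A] [Algebra k A] (hA : ∀ s : Finset A, ∃ (B : Subalgebra k A) (n : ℕ), (↑s : Set A) ⊆ (B : Set A) ∧ Nonempty (B ≃ₐ[k] (Fin n → k))) (X : Scheme.{u}) (f : X ⟶ Spec (CommRingCat.of k)) : IsHomeomorph (fun p : ↑(pullback (Spec.map (CommRingCat.ofHom (algebraMap k A))) f) => (pullback.fst (Spec.map (CommRingCat.ofHom (algebraMap k A))) f p, pullback.snd (Spec.map (CommRingCat.ofHom (algebraMap k A))) f p)) := by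
  let g := Spec.map (CommRingCat.ofHom (algebraMap k A))
  -- points of `Spec A` are rational
  have hsec : ∀ x : Spec (CommRingCat.of A), ∃ s : Spec (CommRingCat.of k) ⟶ Spec (CommRingCat.of A),
      s ≫ g = 𝟙 _ ∧ ∀ q, s q = x := by
    intro x
    let P := x.asIdeal
    have hbij : Function.Bijective (algebraMap k (A ⧸ P)) := by
      refine ⟨(algebraMap k (A ⧸ P)).injective, fun z => ?_⟩
      obtain ⟨a, rfl⟩ := Ideal.Quotient.mk_surjective z
      obtain ⟨c, e, he, h⟩ := exists_scalar hA P a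
      refine ⟨c, (Ideal.Quotient.eq.2 ?_).symm⟩
      refine (x.isPrime.mem_or_mem (show e * (a - algebraMap k A c) ∈ P from ?_)).resolve_left he
      rw [mul_sub, h, Algebra.smul_def, mul_comm, sub_self]
      exact P.zero_mem
    let χ := (RingEquiv.ofBijective _ hbij).symm.toRingHom.comp (Ideal.Quotient.mk P)
    refine ⟨Spec.map (CommRingCat.ofHom χ), ?_, fun q => ?_⟩
    · rw [← Spec.map_comp, ← CommRingCat.ofHom_comp]
      convert Spec.map_id (CommRingCat.of k) using 2
      apply CommRingCat.hom_ext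
      refine RingHom.ext fun c => ?_
      exact (RingEquiv.ofBijective _ hbij).symm_apply_apply c
    · apply PrimeSpectrum.ext
      have hq : q.asIdeal = ⊥ := (Ideal.eq_bot_or_top q.asIdeal).resolve_right q.isPrime.ne_top
      show Ideal.comap χ q.asIdeal = P
      rw [hq]
      show RingHom.ker χ = P
      rw [RingHom.ker_equiv_comp, Ideal.mk_ker]
  have hinj : ∀ p p' : ↑(pullback g f), pullback.fst g f p = pullback.fst g f p' →
      pullback.snd g f p = pullback.snd g f p' → p = p' := by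
    intro p p' h₁ h₂
    obtain ⟨s, hs, hsx⟩ := hsec (pullback.fst g f p)
    let σ : X ⟶ pullback g f := pullback.lift (f ≫ s) (𝟙 X) (by rw [Category.assoc, hs, Category.comp_id, Category.id_comp])
    have hσ : IsPullback σ f (pullback.fst g f) s := by
      refine IsPullback.of_right ?_ (pullback.lift_fst _ _ _) (IsPullback.of_hasPullback g f).flip
      rw [pullback.lift_snd, hs]
      exact IsPullback.of_horiz_isIso ⟨by simp⟩
    have key : ∀ r : ↑(pullback g f), pullback.fst g f r = pullback.fst g f p → r = σ (pullback.snd g f r) := by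
      intro r hr
      obtain ⟨z, hz, -⟩ := Scheme.exists_preimage_of_isPullback hσ r default (hr.trans (hsx _).symm)
      have hz' : σ z = r := hz
      rw [← hz', ← Scheme.Hom.comp_apply σ, pullback.lift_snd, Scheme.Hom.id_base]
      rfl
    rw [key p rfl, key p' h₁.symm, h₂]
  refine ⟨(pullback.fst g f).continuous.prodMk (pullback.snd g f).continuous, ?_, ?_, ?_⟩
  · -- openness
    intro W hW
    rw [isOpen_iff_mem_nhds]
    rintro _ ⟨p, hp, rfl⟩
    obtain ⟨V, hV, hyV, -⟩ := exists_isAffineOpen_mem_and_subset (U := (⊤ : X.Opens)) (x := pullback.snd g f p) trivial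
    let φ := Spec.preimage (hV.fromSpec ≫ f)
    letI : Algebra k Γ(X, V) := φ.hom.toAlgebra
    let gB := Spec.map (CommRingCat.ofHom (algebraMap k Γ(X, V)))
    have hgB : hV.fromSpec ≫ f = gB := (Spec.map_preimage _).symm
    let j : pullback g gB ⟶ pullback g f := pullback.map g gB g f (𝟙 _) hV.fromSpec (𝟙 _) (by simp)
      (by rw [Category.comp_id, hgB])
    let ψ : Spec (CommRingCat.of (A ⊗[k] Γ(X, V))) ⟶ pullback g f := (pullbackSpecIso k A Γ(X, V)).inv ≫ j
    have hψ₁ : ψ ≫ pullback.fst g f = Spec.map (CommRingCat.ofHom (Algebra.TensorProduct.includeLeftRingHom)) := by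
      simp [ψ, j, g, gB]
    have hψ₂ : ψ ≫ pullback.snd g f =
        Spec.map (CommRingCat.ofHom (Algebra.TensorProduct.includeRight : Γ(X, V) →ₐ[k] A ⊗[k] Γ(X, V)).toRingHom) ≫
          hV.fromSpec := by
      simp [ψ, j, g, gB]
    have c₁ : ∀ r, pullback.fst g f (ψ r) = Spec.map (CommRingCat.ofHom (Algebra.TensorProduct.includeLeftRingHom)) r :=
      fun r => congr($hψ₁ r)
    have c₂ : ∀ r, pullback.snd g f (ψ r) = hV.fromSpec
        (Spec.map (CommRingCat.ofHom (Algebra.TensorProduct.includeRight : Γ(X, V) →ₐ[k] A ⊗[k] Γ(X, V)).toRingHom) r) :=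
      fun r => congr($hψ₂ r)
    have hsurj : ∀ (x : Spec (CommRingCat.of A)) (y : Spec Γ(X, V)), ∃ r, pullback.fst g f (ψ r) = x ∧
        pullback.snd g f (ψ r) = hV.fromSpec y := by
      intro x y
      obtain ⟨r, hr₁, hr₂⟩ := Scheme.Pullback.exists_preimage_pullback (f := g) (g := gB) x y (Subsingleton.elim _ _)
      have hj₁ : j ≫ pullback.fst g f = pullback.fst g gB := by simp [j]
      have hj₂ : j ≫ pullback.snd g f = pullback.snd g gB ≫ hV.fromSpec := by simp [j]
      have hψj : ψ ((pullbackSpecIso k A Γ(X, V)).hom r) = j r := by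
        rw [← Scheme.Hom.comp_apply]; simp [ψ]; rfl
      refine ⟨(pullbackSpecIso k A Γ(X, V)).hom r, ?_, ?_⟩
      · rw [hψj]; exact congr($hj₁ r).trans hr₁
      · rw [hψj]; exact congr($hj₂ r).trans (by rw [Scheme.Hom.comp_apply, hr₂]; rfl)
    obtain ⟨y₀, hy₀⟩ : pullback.snd g f p ∈ Set.range hV.fromSpec := by rw [hV.range_fromSpec]; exact hyV
    obtain ⟨r₀, hr₁, hr₂⟩ := hsurj (pullback.fst g f p) y₀
    have hr₀ : ψ r₀ = p := hinj _ _ hr₁ (hr₂.trans hy₀)
    obtain ⟨_, ⟨t, rfl⟩, ht, htW⟩ := PrimeSpectrum.isTopologicalBasis_basic_opens.exists_subset_of_mem_open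
      (show r₀ ∈ ψ ⁻¹' W by rw [Set.mem_preimage, hr₀]; exact hp) (hW.preimage ψ.continuous)
    obtain ⟨e, b, he, heb⟩ := exists_pure hA (r₀.asIdeal.comap Algebra.TensorProduct.includeLeftRingHom) t
    have key : ∀ r : Spec (CommRingCat.of (A ⊗[k] Γ(X, V))), e ⊗ₜ[k] (1 : Γ(X, V)) ∉ r.asIdeal →
        ((1 : A) ⊗ₜ[k] b ∈ r.asIdeal ↔ t ∈ r.asIdeal) := by
      intro r hr
      have e1 : (e ⊗ₜ[k] (1 : Γ(X, V))) * t = (e ⊗ₜ[k] (1 : Γ(X, V))) * ((1 : A) ⊗ₜ[k] b) := by rw [heb]; simp
      constructor <;> intro h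
      · exact (r.isPrime.mem_or_mem (e1 ▸ r.asIdeal.mul_mem_left _ h)).resolve_left hr
      · exact (r.isPrime.mem_or_mem (e1 ▸ r.asIdeal.mul_mem_left _ h)).resolve_left hr
    have hb : (1 : A) ⊗ₜ[k] b ∉ r₀.asIdeal := fun h => ht ((key r₀ he).1 h)
    refine mem_nhds_iff.2 ⟨(PrimeSpectrum.basicOpen e : Set (PrimeSpectrum A)) ×ˢ
      (hV.fromSpec '' (PrimeSpectrum.basicOpen b : Set (PrimeSpectrum Γ(X, V)))), ?_, ?_, ?_⟩
    · rintro ⟨x, _⟩ ⟨hx, y, hy, rfl⟩
      obtain ⟨r, h₁, h₂⟩ := hsurj x y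
      refine ⟨ψ r, htW ?_, Prod.ext h₁ h₂⟩
      have hxe : x = Spec.map (CommRingCat.ofHom Algebra.TensorProduct.includeLeftRingHom) r := h₁.symm.trans (c₁ r)
      have hye : y = Spec.map (CommRingCat.ofHom
          (Algebra.TensorProduct.includeRight : Γ(X, V) →ₐ[k] A ⊗[k] Γ(X, V)).toRingHom) r :=
        hV.fromSpec.isOpenEmbedding.injective (h₂.symm.trans (c₂ r))
      subst hxe hye
      exact fun h => hy ((key r hx).2 h)
    · exact (PrimeSpectrum.basicOpen e).isOpen.prod (hV.fromSpec.isOpenEmbedding.isOpenMap _ (PrimeSpectrum.basicOpen b).isOpen)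
    · refine ⟨?_, ⟨Spec.map (CommRingCat.ofHom
          (Algebra.TensorProduct.includeRight : Γ(X, V) →ₐ[k] A ⊗[k] Γ(X, V)).toRingHom) r₀, hb, ?_⟩⟩
      · show pullback.fst g f p ∈ _
        rw [← hr₀, c₁]
        exact he
      · show _ = pullback.snd g f p
        rw [← hr₀, c₂]
  · intro p p' h
    exact hinj p p' (congrArg Prod.fst h) (congrArg Prod.snd h)
  · rintro ⟨x, y⟩
    obtain ⟨p, h₁, h₂⟩ := Scheme.Pullback.exists_preimage_pullback (f := g) (g := f) x y (Subsingleton.elim _ _)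
    exact ⟨p, Prod.ext h₁ h₂⟩

end Groth.Agent.S7460
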