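import Groth.Statements.S7461
import Mathlib

set_option autoImplicit false
set_option linter.style.haveILetI false
set_option backward.isDefEq.respectTransparency false
universe u
open CategoryTheory CategoryTheory.Limits AlgebraicGeometry
open Grpd

namespace Groth.Agent.S7461

theorem lift_congr {S : Scheme.{u}} (G : Grpd.GroupoidScheme S) {T : Scheme.{u}} {α α' β β' : T ⟶ G.R}
    (h : α ≫ G.s = β ≫ G.t) (h' : α' ≫ G.s = β' ≫ G.t) (e₁ : α = α') (e₂ : β = β') :
    pullback.lift α β h ≫ G.c = pullback.lift α' β' h' ≫ G.c := by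
  subst e₁ e₂; rfl

theorem i_i {S : Scheme.{u}} (G : Grpd.GroupoidScheme S) : G.i ≫ G.i = 𝟙 G.R := by
  have h₁ : (G.i ≫ G.i) ≫ G.s = G.i ≫ G.t := by rw [Category.assoc, G.i_s]
  have h₂ : G.i ≫ G.s = 𝟙 G.R ≫ G.t := by rw [Category.id_comp, G.i_s]
  have e := G.assoc (G.i ≫ G.i) G.i (𝟙 G.R) h₁ h₂
  have c₁ : pullback.lift (G.i ≫ G.i) G.i h₁ ≫ G.c = G.i ≫ G.s ≫ G.e := G.i_comp G.i
  have c₂ : pullback.lift G.i (𝟙 G.R) h₂ ≫ G.c = G.s ≫ G.e :=
    (lift_congr G _ (by rw [Category.id_comp, Category.id_comp, G.i_s]) (Category.id_comp _).symm rfl).trans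
      ((G.i_comp (𝟙 G.R)).trans (Category.id_comp _))
  rw [lift_congr G _ (show (𝟙 G.R ≫ G.t ≫ G.e) ≫ G.s = 𝟙 G.R ≫ G.t by
      simp only [Category.assoc, Category.id_comp, G.e_s, Category.comp_id])
    (c₁.trans (by rw [← Category.assoc, G.i_s, Category.id_comp])) rfl, G.e_comp] at e
  rw [lift_congr G _ (show (G.i ≫ G.i) ≫ G.s = ((G.i ≫ G.i) ≫ G.s ≫ G.e) ≫ G.t by
      simp only [Category.assoc, G.e_t, Category.comp_id]) rfl
    (c₂.trans (by
      rw [show (G.i ≫ G.i) ≫ G.s ≫ G.e = G.i ≫ (G.i ≫ G.s) ≫ G.e by simp only [Category.assoc],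
        G.i_s, ← Category.assoc, G.i_t])), G.comp_e] at e
  exact e.symm

theorem isIso_i {S : Scheme.{u}} (G : Grpd.GroupoidScheme S) : IsIso G.i :=
  ⟨G.i, i_i G, i_i G⟩

theorem c_s {S : Scheme.{u}} (G : Grpd.GroupoidScheme S) : G.c ≫ G.s = pullback.snd G.s G.t ≫ G.s := by
  have h := G.comp_s (pullback.fst G.s G.t) (pullback.snd G.s G.t) pullback.condition
  rwa [show pullback.lift (pullback.fst G.s G.t) (pullback.snd G.s G.t) pullback.condition = 𝟙 _ by
    apply pullback.hom_ext <;> simp, Category.id_comp] at h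

theorem isIso_trans {S : Scheme.{u}} (G : Grpd.GroupoidScheme S) :
    IsIso (pullback.lift G.c (pullback.snd G.s G.t) (c_s G) : pullback G.s G.t ⟶ pullback G.s G.s) := by
  let p := pullback.fst G.s G.s
  let q := pullback.snd G.s G.s
  have hpq : p ≫ G.s = (q ≫ G.i) ≫ G.t := by rw [Category.assoc, G.i_t]; exact pullback.condition
  let γ := pullback.lift p (q ≫ G.i) hpq ≫ G.c
  have hγ : γ ≫ G.s = q ≫ G.t := by rw [G.comp_s, Category.assoc, G.i_s]
  refine ⟨pullback.lift γ q hγ, ?_, ?_⟩
  · set α := pullback.fst G.s G.t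
    let β := pullback.snd G.s G.t
    have hαβ : α ≫ G.s = β ≫ G.t := pullback.condition
    have hc : pullback.lift α β hαβ ≫ G.c = G.c := by
      rw [show pullback.lift α β hαβ = 𝟙 _ by apply pullback.hom_ext <;> simp [α, β], Category.id_comp]
    apply pullback.hom_ext
    · rw [Category.assoc, pullback.lift_fst, Category.id_comp]
      simp only [γ]
      rw [← Category.assoc]
      have hβi : β ≫ G.s = (β ≫ G.i) ≫ G.t := by rw [Category.assoc, G.i_t]
      have e := G.assoc α β (β ≫ G.i) hαβ hβi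
      have hA : α ≫ G.s = (β ≫ G.t ≫ G.e) ≫ G.t := by
        simp only [Category.assoc, G.e_t, Category.comp_id]; exact hαβ
      have hB : α ≫ G.s = (α ≫ G.s ≫ G.e) ≫ G.t := by
        simp only [Category.assoc, G.e_t, Category.comp_id]
      have hBA : β ≫ G.t ≫ G.e = α ≫ G.s ≫ G.e := by
        rw [← Category.assoc β, ← hαβ, Category.assoc]
      replace e := e.trans ((lift_congr G _ hA rfl (G.comp_i β)).trans
        ((lift_congr G hA hB rfl hBA).trans (G.comp_e α)))
      refine Eq.trans (congrArg (· ≫ G.c) ?_) e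
      apply pullback.hom_ext <;> simp [p, q, hc, β]
    · rw [Category.assoc, pullback.lift_snd]
      simp [q]
  · apply pullback.hom_ext
    · rw [Category.assoc, pullback.lift_fst, Category.id_comp]
      show pullback.lift γ q hγ ≫ G.c = p
      have hqi : (q ≫ G.i) ≫ G.s = q ≫ G.t := by rw [Category.assoc, G.i_s]
      have e := G.assoc p (q ≫ G.i) q hpq hqi
      have hA : p ≫ G.s = (q ≫ G.s ≫ G.e) ≫ G.t := by
        simp only [Category.assoc, G.e_t, Category.comp_id]; exact pullback.condition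
      have hB : p ≫ G.s = (p ≫ G.s ≫ G.e) ≫ G.t := by
        simp only [Category.assoc, G.e_t, Category.comp_id]
      have hBA : q ≫ G.s ≫ G.e = p ≫ G.s ≫ G.e := by
        rw [← Category.assoc q, ← pullback.condition, Category.assoc]
      replace e := e.trans ((lift_congr G _ hA rfl (G.i_comp q)).trans
        ((lift_congr G hA hB rfl hBA).trans (G.comp_e p)))
      exact e
    · rw [Category.assoc, pullback.lift_snd, pullback.lift_snd, Category.id_comp]


/-- Let (U, R, s, t, c) be a groupoid scheme over S with s and t finite locally free. Then U is a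
disjoint union of R-invariant open subschemes U_r, r = 1, 2, 3, ..., such that s and t restricted
over U_r are finite locally free of rank r. Here the decomposition is indexed by all natural numbers
with U_0 empty, R-invariance of U_r means s^{-1}(U_r) = t^{-1}(U_r), and 'finite locally free of
rank r' means finite, flat, locally of finite presentation with rank function constant equal to r.
(A groupoid scheme carries U, R, s, t, c, e, i over S with the groupoid axioms on T-points; c is
defined on the fibre product of s and t and sends a pair (a, b) with s(a) = t(b) to a composed with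
b.) -/
theorem result (S : Scheme.{u}) (G : Grpd.GroupoidScheme S) [IsFinite G.s] [Flat G.s] [LocallyOfFinitePresentation G.s] [IsFinite G.t] [Flat G.t] [LocallyOfFinitePresentation G.t] : ∃ V : ℕ → G.U.Opens, V 0 = ⊥ ∧ (∀ r r', r ≠ r' → Disjoint (V r) (V r')) ∧ (⨆ r, V r) = ⊤ ∧ ∀ r, G.s ⁻¹ᵁ V r = G.t ⁻¹ᵁ V r ∧ Mor2.IsFinLocFreeOfDeg r (G.s ∣_ V r) ∧ Mor2.IsFinLocFreeOfDeg r (G.t ∣_ V r) := by
  haveI := isIso_i G
  have hs : G.t.finrank = G.s.finrank := by
    conv_lhs => rw [← G.i_s]
    exact Scheme.Hom.finrank_comp_left_of_isIso G.i G.s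
  have hinv : ∀ r : G.R, G.s.finrank (G.t r) = G.s.finrank (G.s r) := by
    intro r
    haveI := isIso_trans G
    have h : IsPullback (pullback.fst G.s G.t) (pullback.snd G.s G.t) G.s G.t := .of_hasPullback _ _
    rw [← Scheme.Hom.finrank_of_isPullback _ _ _ _ h, ← Scheme.Hom.finrank_pullback_snd G.s G.s,
      ← Scheme.Hom.finrank_comp_left_of_isIso (pullback.lift G.c (pullback.snd G.s G.t) _)
        (pullback.snd G.s G.s), pullback.lift_snd]
  let V : ℕ → G.U.Opens := fun r => ⟨G.s.finrank ⁻¹' {r}, G.s.isLocallyConstant_finrank.isOpen_fiber r⟩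
  have hmem : ∀ r (x : G.U), x ∈ V r ↔ G.s.finrank x = r := fun r x => Iff.rfl
  refine ⟨V, ?_, ?_, ?_, fun r => ⟨?_, ?_, ?_⟩⟩
  · refine TopologicalSpace.Opens.ext (Set.eq_empty_iff_forall_notMem.2 fun x hx => ?_)
    have h1 := Scheme.Hom.one_le_finrank_map G.s (G.e x)
    rw [← Scheme.Hom.comp_apply, G.e_s] at h1
    change 1 ≤ G.s.finrank x at h1
    rw [show G.s.finrank x = 0 from hx] at h1
    omega
  · intro r r' h
    rw [← TopologicalSpace.Opens.coe_disjoint]
    exact Set.disjoint_left.2 fun x hx hx' => h (hx.symm.trans hx')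
  · exact eq_top_iff.2 fun x _ => TopologicalSpace.Opens.mem_iSup.2 ⟨G.s.finrank x, rfl⟩
  · ext x
    show G.s.finrank (G.s x) = r ↔ G.s.finrank (G.t x) = r
    rw [hinv]
  · refine ⟨⟨inferInstance, inferInstance, inferInstance⟩, fun y => ?_⟩
    rw [Scheme.Hom.finrank_of_isPullback _ _ _ _ (isPullback_morphismRestrict G.s (V r)).flip]
    exact y.2
  · refine ⟨⟨inferInstance, inferInstance, inferInstance⟩, fun y => ?_⟩
    rw [Scheme.Hom.finrank_of_isPullback _ _ _ _ (isPullback_morphismRestrict G.t (V r)).flip, hs]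
    exact y.2

end Groth.Agent.S7461
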