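import Groth.Statements.S7462
import Groth.Agent.H19Grp.SubgrpClosed

set_option autoImplicit false
universe u
open CategoryTheory CategoryTheory.Limits AlgebraicGeometry
open Grpd

namespace Groth.Agent.S7462

/-- Consider two groupoid schemes (U, R_1, s_1, t_1, c_1) and (U, R_2, s_2, t_2, c_2) over S, where U is
the spectrum of a field, together with a map a : R_1 -> R_2 respecting source, target and
composition (in the Lean: a morphism of groupoid schemes whose object-scheme component is an
isomorphism). Write Z for the closure in R_2 of the image of a. Then, as a map of sets, c_2 sends Z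
x_(s_2,U,t_2) Z into Z: any point of R_2 x_(s_2,U,t_2) R_2 with both projections in Z has its
c_2-image in Z. (Here a groupoid scheme over S consists of U, R, s, t, c, e, i satisfying the
groupoid axioms on T-points; c lives on the fibre product of s and t and takes a pair (a, b) with
s(a) = t(b) to the composite of a with b.) -/
theorem result (S : Scheme.{u}) (G₁ G₂ : Grpd.GroupoidScheme S) (f : Grpd.GroupoidScheme.Hom G₁ G₂) [IsIso f.fU] (k : Type u) [Field k] (eU : G₂.U ≅ Spec (CommRingCat.of k)) (p : ↑(pullback G₂.s G₂.t)) (h₁ : pullback.fst G₂.s G₂.t p ∈ closure (Set.range ⇑f.fR)) (h₂ : pullback.snd G₂.s G₂.t p ∈ closure (Set.range ⇑f.fR)) : G₂.c p ∈ closure (Set.range ⇑f.fR) := by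
  haveI := Groth.Agent.H19Grp.isIntegral_U G₂ eU
  haveI := Groth.Agent.H19Grp.subsingleton_U G₂ eU
  have hc : ∀ w, pullback.fst G₂.s G₂.t w ∈ Set.range f.fR →
      pullback.snd G₂.s G₂.t w ∈ Set.range f.fR → G₂.c w ∈ Set.range f.fR := by
    intro w a b
    let M : pullback G₁.s G₁.t ⟶ pullback G₂.s G₂.t :=
      pullback.map _ _ _ _ f.fR f.fR f.fU f.comm_s.symm f.comm_t.symm
    obtain ⟨v, rfl⟩ : w ∈ Set.range M := by
      rw [Scheme.Pullback.range_map]
      exact ⟨a, b⟩
    refine ⟨G₁.c v, ?_⟩
    have hM : G₁.c ≫ f.fR = M ≫ G₂.c := by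
      have := Groth.Agent.H19Grp.mulR_map f (pullback.fst G₁.s G₁.t) (pullback.snd G₁.s G₁.t)
        pullback.condition
      rw [← Groth.Agent.H19Grp.c_eq] at this
      exact this
    rw [← Scheme.Hom.comp_apply, hM, Scheme.Hom.comp_apply]
  obtain ⟨ZK, jK, hjK⟩ : ∃ (Z : Scheme.{u}) (j : Z ⟶ G₂.R),
      Set.range j = closure (Set.range f.fR) :=
    ⟨_, _, H17.range_vanishingIdeal_subschemeι ⟨closure (Set.range f.fR), isClosed_closure⟩⟩
  have s1 : p ∈ closure (pullback.fst G₂.s G₂.t ⁻¹' closure (Set.range f.fR) ∩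
      pullback.snd G₂.s G₂.t ⁻¹' Set.range f.fR) := by
    refine closure_mono ?_ (Groth.Agent.H19Grp.preimage_closure_inter_range_subset' G₂.s G₂.t jK
      (Set.range f.fR) ⟨h₂, show pullback.fst G₂.s G₂.t p ∈ Set.range jK by rw [hjK]; exact h₁⟩)
    rintro v ⟨hv, hv'⟩
    rw [hjK] at hv'
    exact ⟨hv', hv⟩
  exact map_mem_closure G₂.c.continuous
    (closure_minimal (Groth.Agent.H19Grp.preimage_closure_inter_range_subset G₂.s G₂.t f.fR
      (Set.range f.fR)) isClosed_closure s1)
    (fun v hv => hc v hv.1 hv.2)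

end Groth.Agent.S7462
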