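import Groth.Statements.S7463
import Groth.Agent.H19Grp.SubgrpClosed

set_option autoImplicit false
universe u
open CategoryTheory CategoryTheory.Limits AlgebraicGeometry
open Grpd

namespace Groth.Agent.S7463

/-- Consider a groupoid scheme (U, R, s, t, c) over S in which U is the spectrum of a field, and write Z
for the closure of the image of the morphism j = (t, s) : R -> U x_S U. Then, set-theoretically,
pr_02 carries Z x_(pr_1,U,pr_0) Z into Z: given the morphism pr_02 from (U x_S U) x_(pr_1,U,pr_0) (U
x_S U) to U x_S U, whose components are pr_0 of the first factor and pr_1 of the second, any point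
both of whose projections land in Z is mapped to a point of Z. (A groupoid scheme consists of U, R,
s, t, c, e, i over S satisfying the groupoid axioms on T-points; c is defined on the fibre product
of s and t and takes a pair (a, b) with s(a) = t(b) to the composite of a with b.) -/
theorem result (S : Scheme.{u}) (G : Grpd.GroupoidScheme S) (k : Type u) [Field k] (eU : G.U ≅ Spec (CommRingCat.of k)) (pr02 : pullback (pullback.snd G.pU G.pU) (pullback.fst G.pU G.pU) ⟶ pullback G.pU G.pU) (h0 : pr02 ≫ pullback.fst G.pU G.pU = pullback.fst (pullback.snd G.pU G.pU) (pullback.fst G.pU G.pU) ≫ pullback.fst G.pU G.pU) (h1 : pr02 ≫ pullback.snd G.pU G.pU = pullback.snd (pullback.snd G.pU G.pU) (pullback.fst G.pU G.pU) ≫ pullback.snd G.pU G.pU) (p : ↑(pullback (pullback.snd G.pU G.pU) (pullback.fst G.pU G.pU))) (h₁ : pullback.fst (pullback.snd G.pU G.pU) (pullback.fst G.pU G.pU) p ∈ closure (Set.range ⇑G.j)) (h₂ : pullback.snd (pullback.snd G.pU G.pU) (pullback.fst G.pU G.pU) p ∈ closure (Set.range ⇑G.j)) : pr02 p ∈ closure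 (Set.range ⇑G.j) := by
  haveI := Groth.Agent.H19Grp.isIntegral_U G eU
  haveI := Groth.Agent.H19Grp.subsingleton_U G eU
  set q₁ := pullback.fst (pullback.snd G.pU G.pU) (pullback.fst G.pU G.pU)
  set q₂ := pullback.snd (pullback.snd G.pU G.pU) (pullback.fst G.pU G.pU)
  have hc : ∀ w, q₁ w ∈ Set.range G.j → q₂ w ∈ Set.range G.j → pr02 w ∈ Set.range G.j := by
    intro w a b
    let M : pullback G.s G.t ⟶ pullback (pullback.snd G.pU G.pU) (pullback.fst G.pU G.pU) :=
      pullback.map _ _ _ _ G.j G.j (𝟙 _)
        (by rw [Category.comp_id, Grpd.GroupoidScheme.j, pullback.lift_snd])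
        (by rw [Category.comp_id, Grpd.GroupoidScheme.j, pullback.lift_fst])
    obtain ⟨v, rfl⟩ : w ∈ Set.range M := by
      rw [Scheme.Pullback.range_map]
      exact ⟨a, b⟩
    refine ⟨G.c v, ?_⟩
    have hM : G.c ≫ G.j = M ≫ pr02 := by
      have f1 : M ≫ q₁ = pullback.fst G.s G.t ≫ G.j := pullback.lift_fst _ _ _
      have f2 : M ≫ q₂ = pullback.snd G.s G.t ≫ G.j := pullback.lift_snd _ _ _
      apply pullback.hom_ext
      · rw [Category.assoc, Category.assoc, h0, reassoc_of% f1, Grpd.GroupoidScheme.j,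
          pullback.lift_fst, Groth.Agent.H19Grp.c_t]
      · rw [Category.assoc, Category.assoc, h1, reassoc_of% f2, Grpd.GroupoidScheme.j,
          pullback.lift_snd, Groth.Agent.H19Grp.c_s]
    rw [← Scheme.Hom.comp_apply, hM, Scheme.Hom.comp_apply]
  obtain ⟨ZK, jK, hjK⟩ : ∃ (Z : Scheme.{u}) (j : Z ⟶ pullback G.pU G.pU),
      Set.range j = closure (Set.range G.j) :=
    ⟨_, _, H17.range_vanishingIdeal_subschemeι ⟨closure (Set.range G.j), isClosed_closure⟩⟩
  have s1 : p ∈ closure (q₁ ⁻¹' closure (Set.range G.j) ∩ q₂ ⁻¹' Set.range G.j) := by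
    refine closure_mono ?_ (Groth.Agent.H19Grp.preimage_closure_inter_range_subset'
      (pullback.snd G.pU G.pU) (pullback.fst G.pU G.pU) jK (Set.range G.j)
      ⟨h₂, show q₁ p ∈ Set.range jK by rw [hjK]; exact h₁⟩)
    rintro v ⟨hv, hv'⟩
    rw [hjK] at hv'
    exact ⟨hv', hv⟩
  exact map_mem_closure pr02.continuous
    (closure_minimal (Groth.Agent.H19Grp.preimage_closure_inter_range_subset
      (pullback.snd G.pU G.pU) (pullback.fst G.pU G.pU) G.j (Set.range G.j)) isClosed_closure s1)
    (fun v hv => hc v hv.1 hv.2)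

end Groth.Agent.S7463
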