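import Groth.Statements.S7475
import Groth.Agent.H18HTop.VSheaf

set_option autoImplicit false
universe w u
open HTop

namespace Groth.Agent.S7475

open CategoryTheory CategoryTheory.Limits AlgebraicGeometry in
/-- Variant with a single arrow: a presheaf of sets on all schemes has the sheaf property for every V
covering family exactly when it is a Zariski sheaf and has the sheaf property for every morphism V
-> U of affine schemes that on its own forms a standard V covering. -/
theorem result (F : Scheme.{u}ᵒᵖ ⥤ Type w) : HTop.IsVSheaf F ↔ (Presieve.IsSheaf Scheme.zariskiTopology F ∧ ∀ (U V : Scheme.{u}) (f : V ⟶ U), HTop.IsStandardV (PreZeroHypercover.singleton f) → Presieve.IsSheafFor F (Presieve.singleton f)) := by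
  refine ⟨fun h => ⟨H18HTop.zariski_of_isVSheaf h, fun U V f hf => ?_⟩,
    fun h => H18HTop.isVSheaf_of_singleV F h.1 fun U V f hU hV hl => ?_⟩
  · have h' := H18HTop.isSheafFor_of_isVSheaf h (H18HTop.isVCover_of_isStandardV hf)
    rwa [PreZeroHypercover.presieve₀_singleton] at h'
  · exact h.2 U V f ⟨hU, inferInstanceAs (Finite PUnit), fun _ => hV,
      (H18HTop.hasValLift_singleton_iff f).2 ((H18HTop.hasValLift_singleton_iff f).1 hl)⟩

end Groth.Agent.S7475
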