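import Groth.Statements.S7477
import Groth.Agent.H18HTop.VCover

set_option autoImplicit false
universe w u
open HTop

namespace Groth.Agent.S7477

open CategoryTheory CategoryTheory.Limits AlgebraicGeometry in
/-- If {f_i : X_i -> X} is a V covering (indexed by a type in the universe of X), then the morphism from
the coproduct of the X_i to X induced by the f_i is universally submersive. -/
theorem result {X : Scheme.{u}} (E : PreZeroHypercover.{u} X) (hE : HTop.IsVCover E) : SGA1.UnivSubmersive (Sigma.desc E.f) := by
  exact H18HTop.univSubmersive_sigmaDesc E hE

end Groth.Agent.S7477
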