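import Groth.Statements.S7479
import Groth.Agent.H18HTop.PhBind

set_option autoImplicit false
universe w u
open HTop

namespace Groth.Agent.S7479

open CategoryTheory CategoryTheory.Limits AlgebraicGeometry in
/-- Let T be an affine scheme. (1) For every open covering of T there is a standard ph covering of T
that refines it. (2) If E is a standard ph covering of T and, for each member U_j of E, F_j is a
standard ph covering of U_j, then some standard ph covering of T refines the composite family of all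
W_ji -> T. -/
theorem result {T : Scheme.{u}} [IsAffine T] : (∀ 𝒰 : T.OpenCover, ∃ F : PreZeroHypercover.{0} T, HTop.IsStandardPh F ∧ Nonempty (F.Hom 𝒰.toPreZeroHypercover)) ∧ (∀ (E : PreZeroHypercover.{w} T), HTop.IsStandardPh E → ∀ F : ∀ j, PreZeroHypercover.{w} (E.X j), (∀ j, HTop.IsStandardPh (F j)) → ∃ F' : PreZeroHypercover.{0} T, HTop.IsStandardPh F' ∧ Nonempty (F'.Hom (E.bind F))) := by
  refine ⟨fun 𝒰 => ?_, fun E hE F hF => ?_⟩
  · obtain ⟨F, hF, hR⟩ := Groth.Agent.H18HTop.exists_standardPh_of_proper (𝟙 T) (𝟙 T) 𝒰.toPreZeroHypercover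
      fun z => ⟨_, 𝒰.f (𝒰.idx z), 𝒰.map_prop _, 𝒰.covers z, 𝒰.idx z, 𝟙 _, by
        rw [Category.id_comp, Category.comp_id, Category.comp_id]⟩
    choose i l hl using hR
    exact ⟨F, hF, ⟨{ s₀ := i, h₀ := l, w₀ := fun j => (hl j).trans (Category.comp_id _) }⟩⟩
  · obtain ⟨F', hF', hR⟩ := Groth.Agent.H18HTop.exists_standardPh_bind (𝟙 T) (E.bind F) hE hF
      fun j k => ⟨⟨j, k⟩, 𝟙 _, (Category.id_comp _).trans (congrArg ((F j).f k ≫ ·) (Category.comp_id (E.f j)).symm)⟩
    choose i l hl using hR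
    exact ⟨F', hF', ⟨{ s₀ := i, h₀ := l, w₀ := fun j => (hl j).trans (Category.comp_id _) }⟩⟩

end Groth.Agent.S7479
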