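import Groth.Statements.S7484
import Groth.Agent.H13Desc.Eff.FinLocFreeApps

set_option autoImplicit false
open CategoryTheory CategoryTheory.Limits AlgebraicGeometry
universe u
open Desc

namespace Groth.Agent.S7484

/-- Let p : X -> Y be a surjective finite locally free morphism and d a positive integer such that for
every algebraically closed field k and every k-point of Y there are at most d k-points of X over it.
Let V be a scheme over X such that any d points of V (not necessarily distinct) lying over one point
of Y are contained in an affine open of V. Then every descent datum on V relative to p is effective.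
(Descent data are taken in functor-of-points form.) -/
theorem result {X Y : Scheme.{u}} (p : X ⟶ Y) [Surjective p] [IsFinite p] [Flat p] [LocallyOfFinitePresentation p] (d : ℕ) (hd : 0 < d) (hfib : ∀ (k : Type u) [Field k] [IsAlgClosed k] (y : Spec (CommRingCat.of k) ⟶ Y), Set.encard {x : Spec (CommRingCat.of k) ⟶ X | x ≫ p = y} ≤ d) (D : Desc.SchDD p) (hV : ∀ (y : Y) (v : Fin d → ↑(D.obj.left)), (∀ i, p (D.obj.hom (v i)) = y) → ∃ U : D.obj.left.Opens, IsAffineOpen U ∧ ∀ i, v i ∈ U) : ∃ W : Over Y, Nonempty ((Desc.toDD p).obj W ≅ D) := by
  exact Groth.Agent.H13Desc.Eff.isEffective_finLocFree_of_bound D hfib hV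

end Groth.Agent.S7484
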