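import Groth.Statements.S7487
import Groth.Agent.H13Grpd.AffRankPoly
import Groth.Agent.H13Grpd.OfScheme
import Mathlib.RingTheory.Spectrum.Prime.RingHom
import Mathlib.RingTheory.Ideal.GoingUp
import Mathlib.RingTheory.Flat.FaithfullyFlat.Basic

set_option autoImplicit false
set_option maxHeartbeats 1000000
set_option synthInstance.maxHeartbeats 100000
set_option linter.style.haveILetI false
set_option backward.isDefEq.respectTransparency false
universe u
open CategoryTheory CategoryTheory.Limits AlgebraicGeometry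
open Grpd

namespace Groth.Agent.S7487

open Groth.Agent.H13Grpd Polynomial TensorProduct

/-- A common exponent turns an idempotent combination of powers into a single power. -/
theorem sum_mul_pow_sum_pow {T : Type u} [CommRing T] (s : Finset ℕ) (e : ℕ → T)
    (he : ∀ k l, e k * e l = if k = l then e k else 0) (g : T) (m : ℕ → ℕ) (M : ℕ)
    (h1 : ∑ k ∈ s, e k = 1) (hm : ∀ k ∈ s, e k = 0 ∨ k * m k = M) :
    ∑ k ∈ s, e k * (∑ l ∈ s, e l * g ^ l) ^ m k = g ^ M := by
  calc ∑ k ∈ s, e k * (∑ l ∈ s, e l * g ^ l) ^ m k = ∑ k ∈ s, e k * g ^ M := by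
        refine Finset.sum_congr rfl fun k hk => ?_
        have hk1 : e k * (∑ l ∈ s, e l * g ^ l) = e k * g ^ k := by
          rw [Finset.mul_sum, Finset.sum_eq_single k (fun l _ hl => by rw [← mul_assoc, he, if_neg (Ne.symm hl), zero_mul])
            (fun h => absurd hk h), ← mul_assoc, he, if_pos rfl]
        have hk2 : ∀ j : ℕ, e k * (∑ l ∈ s, e l * g ^ l) ^ j = e k * g ^ (k * j) := fun j => by
          induction j with
          | zero => simp
          | succ j ih =>
            rw [pow_succ, ← mul_assoc, ih, mul_assoc, mul_comm (g ^ (k * j)), ← mul_assoc, hk1, mul_assoc,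
              ← pow_add, Nat.mul_succ, Nat.add_comm]
        rw [hk2]
        rcases hm k hk with h | h
        · rw [h, zero_mul, zero_mul]
        · rw [h]
    _ = g ^ M := by rw [← Finset.sum_mul, h1, one_mul]


/-- Let (U, R, s, t, c) be a groupoid scheme over S with U = Spec A and R = Spec B affine and s, t
finite locally free; let C be the subring of R-invariant functions of A and C -> C' a ring map. Put
A' = A (x)_C C' and B' = B (x)_C C' (B a C-algebra through s^#) and let C^1 be the subring of A'
where the two maps s^# (x) 1, t^# (x) 1 : A' -> B' agree; the structure map C' -> A' lands in C^1,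
giving φ : C' -> C^1. Then: (a) for every f in C^1 there are n > 0 and a polynomial P over C' whose
image in A'[x] is (x - f)^n; (b) every element of the kernel of φ is nilpotent; (c) if C -> C' is
flat then φ is bijective, that is C' -> A' is injective with image C^1. (The published statement
also asserts that the base change is again a groupoid scheme; this row omits that clause.) (A
groupoid scheme carries U, R, s, t, c, e, i over S with the groupoid axioms on T-points; c is
defined on the fibre product of s and t and sends a pair (a, b) with s(a) = t(b) to a composed with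
b.) -/
theorem result (S : Scheme.{u}) (G : Grpd.GroupoidScheme S) [IsAffine G.U] [IsAffine G.R] [IsFinite G.s] [Flat G.s] [LocallyOfFinitePresentation G.s] [IsFinite G.t] [Flat G.t] [LocallyOfFinitePresentation G.t] (C' : Type u) [CommRing C'] [Algebra G.invariants C'] : letI : Algebra G.invariants Γ(G.R, ⊤) := (G.s.appTop.hom.comp G.invariants.subtype).toAlgebra; ∀ (sT tT : TensorProduct G.invariants Γ(G.U, ⊤) C' →ₐ[G.invariants] TensorProduct G.invariants Γ(G.R, ⊤) C'), (∀ (a : Γ(G.U, ⊤)) (c : C'), sT (a ⊗ₜ c) = G.s.appTop.hom a ⊗ₜ c) → (∀ (a : Γ(G.U, ⊤)) (c : C'), tT (a ⊗ₜ c) = G.t.appTop.hom a ⊗ₜ c) → (∀ f : TensorProduct G.invariants Γ(G.U, ⊤) C', sT f = tT f → ∃ (n : ℕ) (P : Polynomial C'), 0 < n ∧ Polynomial.map (Algebra.TensorProduct.includeRight : C' →ₐ[G.invariants] TensorProduct G.invariants Γ(G.U, ⊤) C').toRingHom P = (Polynomial.X - Polynomial.C f) ^ n) ∧ (∀ c : C', (Algebra.TensorProduct.includeRight : C' →ₐ[G.invariants] TensorProduct G.invariants Γ(G.U, ⊤) C') c = 0 → IsNilpotent c) ∧ (Module.Flat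 G.invariants C' → Function.Injective (Algebra.TensorProduct.includeRight : C' →ₐ[G.invariants] TensorProduct G.invariants Γ(G.U, ⊤) C') ∧ ∀ f : TensorProduct G.invariants Γ(G.U, ⊤) C', sT f = tT f → f ∈ Set.range (Algebra.TensorProduct.includeRight : C' →ₐ[G.invariants] TensorProduct G.invariants Γ(G.U, ⊤) C')) := by
  classical
  let GA := affRel G
  letI : Algebra G.invariants Γ(G.R, ⊤) := (G.s.appTop.hom.comp G.invariants.subtype).toAlgebra
  intro sT tT hsT htT
  let T := TensorProduct G.invariants Γ(G.U, ⊤) C'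
  let incR : C' →+* T := (Algebra.TensorProduct.includeRight :
    C' →ₐ[G.invariants] TensorProduct G.invariants Γ(G.U, ⊤) C').toRingHom
  let incL : Γ(G.U, ⊤) →+* T := Algebra.TensorProduct.includeLeftRingHom
  have hT : IsPushout GA.incl (CommRingCat.ofHom (algebraMap G.invariants C') : CommRingCat.of GA.invariants ⟶ _)
      (CommRingCat.ofHom incL) (CommRingCat.ofHom incR) :=
    CommRingCat.isPushout_tensorProduct G.invariants Γ(G.U, ⊤) C'
  -- base change along a ring under `C'`, and the comparison with the tensor product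
  have key : ∀ {D : CommRingCat.{u}} (d : CommRingCat.of GA.invariants ⟶ D) (v : CommRingCat.of C' ⟶ D)
      (hv : CommRingCat.ofHom (algebraMap G.invariants C') ≫ v = d),
      ∃ θ : CommRingCat.of T ⟶ (GA.bc d).A, CommRingCat.ofHom incL ≫ θ = GA.bcA d ∧
        CommRingCat.ofHom incR ≫ θ = v ≫ GA.bcR d ∧
        ∀ f, sT f = tT f → (GA.bc d).σ (θ f) = (GA.bc d).τ (θ f) := by
    intro D d v hv
    have hw : GA.incl ≫ GA.bcA d = CommRingCat.ofHom (algebraMap G.invariants C') ≫ v ≫ GA.bcR d := by
      rw [← Category.assoc, hv, (GA.isPushout_bcA d).w]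
    let θ := hT.desc (GA.bcA d) (v ≫ GA.bcR d) hw
    have hTB : IsPushout GA.inclB (CommRingCat.ofHom (algebraMap G.invariants C') : CommRingCat.of GA.invariants ⟶ _)
        (CommRingCat.ofHom (Algebra.TensorProduct.includeLeftRingHom :
          Γ(G.R, ⊤) →+* TensorProduct G.invariants Γ(G.R, ⊤) C'))
        (CommRingCat.ofHom (Algebra.TensorProduct.includeRight :
          C' →ₐ[G.invariants] TensorProduct G.invariants Γ(G.R, ⊤) C').toRingHom) :=
      CommRingCat.isPushout_tensorProduct G.invariants Γ(G.R, ⊤) C'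
    let θB := hTB.desc (GA.bcB d) (v ≫ GA.bcRB d) (by rw [← Category.assoc, hv, (GA.isPushout_bcB d).w])
    have h1 : θ ≫ (GA.bc d).σ = CommRingCat.ofHom sT.toRingHom ≫ θB := by
      refine hT.hom_ext ?_ ?_
      · rw [hT.inl_desc_assoc, AffRel.bcA_σ]
        refine CommRingCat.hom_ext (RingHom.ext fun a => ?_)
        show GA.bcB d (GA.σ a) = θB (sT (a ⊗ₜ 1))
        rw [hsT]
        exact (congr($(hTB.inl_desc (GA.bcB d) (v ≫ GA.bcRB d) _) (GA.σ a))).symm
      · rw [hT.inr_desc_assoc, Category.assoc, AffRel.bcR_σ]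
        refine CommRingCat.hom_ext (RingHom.ext fun c => ?_)
        show GA.bcRB d (v c) = θB (sT (1 ⊗ₜ c))
        rw [hsT, map_one]
        exact (congr($(hTB.inr_desc (GA.bcB d) (v ≫ GA.bcRB d) _) c)).symm
    have h2 : θ ≫ (GA.bc d).τ = CommRingCat.ofHom tT.toRingHom ≫ θB := by
      refine hT.hom_ext ?_ ?_
      · rw [hT.inl_desc_assoc, AffRel.bcA_τ]
        refine CommRingCat.hom_ext (RingHom.ext fun a => ?_)
        show GA.bcB d (GA.τ a) = θB (tT (a ⊗ₜ 1))
        rw [htT]
        exact (congr($(hTB.inl_desc (GA.bcB d) (v ≫ GA.bcRB d) _) (GA.τ a))).symm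
      · rw [hT.inr_desc_assoc, Category.assoc, AffRel.bcR_τ]
        refine CommRingCat.hom_ext (RingHom.ext fun c => ?_)
        show GA.bcRB d (v c) = θB (tT (1 ⊗ₜ c))
        rw [htT, map_one]
        exact (congr($(hTB.inr_desc (GA.bcB d) (v ≫ GA.bcRB d) _) c)).symm
    refine ⟨θ, hT.inl_desc _ _ _, hT.inr_desc _ _ _, fun f hf => ?_⟩
    exact (congr($h1 f)).trans ((congrArg θB hf).trans (congr($h2 f)).symm)
  refine ⟨fun f hf => ?_, fun c hc => ?_, fun hflat => ⟨?_, fun f hf => ?_⟩⟩
  · obtain ⟨N, e, he, he1, he0, hnorm⟩ := GA.exists_norm_bc_eq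
    let D : CommRingCat.{u} := CommRingCat.of C'[X]
    let d : CommRingCat.of GA.invariants ⟶ D :=
      CommRingCat.ofHom ((Polynomial.C : C' →+* C'[X]).comp (algebraMap G.invariants C'))
    obtain ⟨θ, hθL, hθR, hθ⟩ := key d (CommRingCat.ofHom Polynomial.C) rfl
    let φ : (GA.bc d).A ⟶ CommRingCat.of T[X] := (GA.isPushout_bcA d).desc
      (CommRingCat.ofHom ((Polynomial.C : T →+* T[X]).comp incL)) (CommRingCat.ofHom (Polynomial.mapRingHom incR))
      (CommRingCat.hom_ext (RingHom.ext fun x => by
        show Polynomial.C (incL (GA.incl x)) = (Polynomial.C (algebraMap G.invariants C' x)).map incR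
        rw [Polynomial.map_C]
        exact congrArg Polynomial.C congr($(hT.w) x)))
    have hφL' : GA.bcA d ≫ φ = CommRingCat.ofHom ((Polynomial.C : T →+* T[X]).comp incL) :=
      (GA.isPushout_bcA d).inl_desc _ _ _
    have hφR' : GA.bcR d ≫ φ = CommRingCat.ofHom (Polynomial.mapRingHom incR) :=
      (GA.isPushout_bcA d).inr_desc _ _ _
    have hφL : ∀ a, φ (GA.bcA d a) = Polynomial.C (incL a) := fun a => congr($hφL' a)
    have hφR : ∀ p : C'[X], φ (GA.bcR d p) = p.map incR := fun p => congr($hφR' p)
    have hφθ : θ ≫ φ = CommRingCat.ofHom (Polynomial.C : T →+* T[X]) := by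
      refine hT.hom_ext ?_ ?_
      · rw [← Category.assoc, hθL]; exact CommRingCat.hom_ext (RingHom.ext hφL)
      · rw [← Category.assoc, hθR, Category.assoc]
        exact CommRingCat.hom_ext (RingHom.ext fun c => (hφR (Polynomial.C c)).trans (Polynomial.map_C _))
    have hinv : ∀ z, (GA.bc d).σ (GA.bcR d z) = (GA.bc d).τ (GA.bcR d z) := fun z =>
      (congr($(GA.bcR_σ d) z)).trans (congr($(GA.bcR_τ d) z)).symm
    obtain ⟨p, hp⟩ := hnorm d (GA.bcR d Polynomial.X - θ f) (by rw [map_sub, map_sub, hinv, hθ f hf])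
    obtain ⟨p₀, hp₀⟩ := hnorm d (GA.bcR d Polynomial.X) (hinv _)
    let ε : ℕ → T := fun k => incL (e k)
    have hp' : p.map incR = ∑ k ∈ Finset.range (N + 1), Polynomial.C (ε k) * (Polynomial.X - Polynomial.C f) ^ k := by
      rw [← hφR, show GA.bcR d p = _ from hp, map_sum]
      refine Finset.sum_congr rfl fun k _ => ?_
      rw [map_mul, hφL, map_pow, map_sub, hφR, Polynomial.map_X,
        show φ (θ f) = Polynomial.C f from congr($hφθ f)]
    have hp₀' : p₀.map incR = ∑ k ∈ Finset.range (N + 1), Polynomial.C (ε k) * Polynomial.X ^ k := by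
      rw [← hφR, show GA.bcR d p₀ = _ from hp₀, map_sum]
      refine Finset.sum_congr rfl fun k _ => ?_
      rw [map_mul, hφL, map_pow, hφR, Polynomial.map_X]
    have hc : ∀ k ∈ Finset.range (N + 1), incR (p₀.coeff k) = ε k := fun k hk => by
      rw [← Polynomial.coeff_map, hp₀', Polynomial.finsetSum_coeff, Finset.sum_eq_single k
        (fun l _ hl => by rw [Polynomial.coeff_C_mul_X_pow, if_neg (Ne.symm hl)]) (fun h => absurd hk h),
        Polynomial.coeff_C_mul_X_pow, if_pos rfl]
    let m : ℕ → ℕ := fun k => Nat.factorial (N + 1) / k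
    refine ⟨Nat.factorial (N + 1), ∑ k ∈ Finset.range (N + 1), Polynomial.C (p₀.coeff k) * p ^ m k,
      Nat.factorial_pos _, ?_⟩
    show Polynomial.map incR _ = _
    rw [Polynomial.map_sum]
    rw [Finset.sum_congr rfl fun k hk => show (Polynomial.C (p₀.coeff k) * p ^ m k).map incR =
      Polynomial.C (ε k) * (∑ l ∈ Finset.range (N + 1), Polynomial.C (ε l) * (Polynomial.X - Polynomial.C f) ^ l) ^ m k
      by rw [Polynomial.map_mul, Polynomial.map_C, hc k hk, Polynomial.map_pow, hp']]
    refine sum_mul_pow_sum_pow _ (fun k => Polynomial.C (ε k)) (fun k l => ?_) _ m _ ?_ fun k hk => ?_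
    · show Polynomial.C (ε k) * Polynomial.C (ε l) = _
      rw [← map_mul, ← map_mul, he]
      split_ifs <;> simp [ε]
    · simp only [ε]; rw [← map_sum, ← map_sum, he1, map_one, map_one]
    · rcases Nat.eq_zero_or_pos k with rfl | hk0
      · exact Or.inl (by simp [ε, he0])
      · exact Or.inr (Nat.mul_div_cancel' (Nat.dvd_factorial hk0 (by simp at hk; omega)))
  · rw [nilpotent_iff_mem_prime]
    intro q hq
    by_contra hcq
    let pC := q.comap (algebraMap G.invariants C')
    haveI : pC.IsPrime := hq.comap _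
    have hsurj : (⟨pC, ‹_›⟩ : PrimeSpectrum G.invariants) ∈
        Set.range (PrimeSpectrum.comap (algebraMap G.invariants Γ(G.U, ⊤))) := by
      haveI : Algebra.IsIntegral G.invariants Γ(G.U, ⊤) := ⟨GA.isIntegral⟩
      obtain ⟨Q, -, hQ, hQc⟩ := Ideal.exists_ideal_over_prime_of_isIntegral (S := Γ(G.U, ⊤)) pC ⊥ (fun x hx => by
        rw [show x = 0 from GA.injective_incl ((Ideal.mem_bot.1 hx).trans (map_zero GA.incl.hom).symm)]
        exact zero_mem _)
      exact ⟨⟨Q, hQ⟩, PrimeSpectrum.ext hQc⟩
    haveI := (PrimeSpectrum.nontrivial_iff_mem_rangeComap (S := Γ(G.U, ⊤)) ⟨pC, ‹_›⟩).2 hsurj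
    letI : Algebra pC.ResidueField q.ResidueField :=
      (Ideal.ResidueField.mapₐ pC q (Algebra.ofId G.invariants C') rfl).toRingHom.toAlgebra
    haveI : IsScalarTower G.invariants pC.ResidueField q.ResidueField := IsScalarTower.of_algebraMap_eq fun x =>
      ((Ideal.ResidueField.mapₐ pC q (Algebra.ofId G.invariants C') rfl).commutes x).symm
    haveI : Module.Free pC.ResidueField q.ResidueField := Module.Free.of_divisionRing _ _
    haveI : Module.FaithfullyFlat pC.ResidueField q.ResidueField :=
      Module.FaithfullyFlat.of_linearEquiv _ _ (Module.Free.chooseBasis pC.ResidueField q.ResidueField).repr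
    haveI : Nontrivial (q.ResidueField ⊗[G.invariants] Γ(G.U, ⊤)) :=
      (TensorProduct.AlgebraTensorModule.cancelBaseChange G.invariants pC.ResidueField q.ResidueField
        q.ResidueField Γ(G.U, ⊤)).toEquiv.nontrivial_congr.1 (Module.FaithfullyFlat.lTensor_nontrivial _ _ _)
    let ψ : T →ₐ[G.invariants] q.ResidueField ⊗[G.invariants] Γ(G.U, ⊤) :=
      Algebra.TensorProduct.lift Algebra.TensorProduct.includeRight
        ((Algebra.TensorProduct.includeLeft : q.ResidueField →ₐ[G.invariants] _).comp
          (IsScalarTower.toAlgHom G.invariants C' q.ResidueField)) (fun _ _ => .all _ _)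
    have h := congrArg ψ hc
    rw [map_zero, Algebra.TensorProduct.includeRight_apply, Algebra.TensorProduct.lift_tmul, map_one, one_mul] at h
    have h0 : algebraMap C' q.ResidueField c = 0 := by
      refine (algebraMap q.ResidueField (q.ResidueField ⊗[G.invariants] Γ(G.U, ⊤))).injective ?_
      rw [map_zero]
      exact h
    exact hcq (Ideal.algebraMap_residueField_eq_zero.1 h0)
  · exact Algebra.TensorProduct.includeRight_injective GA.injective_incl
  · let d : CommRingCat.of GA.invariants ⟶ CommRingCat.of C' := CommRingCat.ofHom (algebraMap G.invariants C')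
    obtain ⟨θ, hθL, hθR, hθ⟩ := key d (𝟙 _) (Category.comp_id _)
    obtain ⟨-, hrange⟩ := GA.invariants_bc d ((RingHom.flat_algebraMap_iff (R := G.invariants) (S := C')).2 hflat)
    obtain ⟨y, hy⟩ := (hrange (θ f)).1 ((GA.bc d).mem_invariants.2 (hθ f hf))
    refine ⟨y, ?_⟩
    let φ : (GA.bc d).A ⟶ CommRingCat.of T := (GA.isPushout_bcA d).desc (CommRingCat.ofHom incL)
      (CommRingCat.ofHom incR) hT.w
    have hφθ : θ ≫ φ = 𝟙 _ := by
      refine hT.hom_ext ?_ ?_
      · rw [← Category.assoc, hθL]
        exact ((GA.isPushout_bcA d).inl_desc _ _ _).trans (Category.comp_id _).symm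
      · rw [← Category.assoc, hθR, Category.id_comp]
        exact ((GA.isPushout_bcA d).inr_desc _ _ _).trans (Category.comp_id _).symm
    have hφR' : GA.bcR d ≫ φ = CommRingCat.ofHom incR := (GA.isPushout_bcA d).inr_desc _ _ _
    calc incR y = φ (GA.bcR d y) := (congr($hφR' y)).symm
      _ = φ (θ f) := congrArg φ hy
      _ = f := congr($hφθ f)

end Groth.Agent.S7487
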