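import Groth.Statements.S7489
import Groth.Agent.H19Grp.Components
import Groth.Agent.H19Grp.GrpToGrpd

set_option autoImplicit false
set_option maxHeartbeats 1000000
set_option synthInstance.maxHeartbeats 100000
set_option linter.style.haveILetI false
set_option backward.isDefEq.respectTransparency false
universe u
open CategoryTheory MonoidalCategory CartesianMonoidalCategory MonObj GrpObj AlgebraicGeometry
open GrpSch

namespace Groth.Agent.S7489

open Groth.Agent.H19Grp TopologicalSpace CategoryTheory.Limits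

variable {k : Type u} [Field k] {G : Over (Spec (CommRingCat.of k))} [GrpObj G]

/-- Left translation by the inverse of a rational point is an automorphism. -/
theorem isIso_translate {T : Over (Spec (CommRingCat.of k))} [GrpObj T] (g : 𝟙_ _ ⟶ T) :
    IsIso ((toUnit T ≫ g)⁻¹ * 𝟙 T).left := by
  have : IsIso ((toUnit T ≫ g)⁻¹ * 𝟙 T) := ⟨(toUnit T ≫ g) * 𝟙 T,
    by simp [MonObj.comp_mul, GrpObj.comp_inv, ← Category.assoc],
    by simp [MonObj.comp_mul, GrpObj.comp_inv, ← Category.assoc]⟩
  exact ((Over.forget _).mapIso (asIso ((toUnit T ≫ g)⁻¹ * 𝟙 T))).isIso_hom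

/-- The map `gam ↦ gam⁻¹ x` is an automorphism. -/
theorem isIso_theta (x : 𝟙_ _ ⟶ G) : IsIso ((𝟙 G)⁻¹ * (toUnit G ≫ x)).left := by
  have : IsIso ((𝟙 G)⁻¹ * (toUnit G ≫ x)) := ⟨(toUnit G ≫ x) * (𝟙 G)⁻¹,
    by simp [MonObj.comp_mul, GrpObj.comp_inv, ← Category.assoc],
    by simp [MonObj.comp_mul, GrpObj.comp_inv, ← Category.assoc]⟩
  exact ((Over.forget _).mapIso (asIso ((𝟙 G)⁻¹ * (toUnit G ≫ x)))).isIso_hom

theorem dirGen_left (x : G.left) : DirGen x :=
  dirGen (grpToGrpd G) (Iso.refl _) x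

/-- The automorphism moving `x` to the unit moves the generic point of its component to that of the unit. -/
theorem theta_zeta (x : 𝟙_ _ ⟶ G) (pt : (𝟙_ (Over (Spec (CommRingCat.of k)))).left) :
    ((𝟙 G)⁻¹ * (toUnit G ≫ x)).left (zeta (x.left pt)) = zeta (η[G].left pt) := by
  haveI := isIso_theta x
  let θ := ((𝟙 G)⁻¹ * (toUnit G ≫ x)).left
  have hd : ∀ y : G.left, DirGen y := dirGen_left
  have hx : θ (x.left pt) = η[G].left pt := by
    rw [← Scheme.Hom.comp_apply, ← Over.comp_left]
    have : x ≫ ((𝟙 G)⁻¹ * (toUnit G ≫ x)) = η[G] := by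
      simp [MonObj.comp_mul, GrpObj.comp_inv, ← Category.assoc, MonObj.one_eq_one]
    rw [this]
  obtain ⟨c, hc⟩ := θ.surjective (zeta (θ (zeta (x.left pt))))
  have h1 : c ⤳ zeta (x.left pt) := by
    rw [← θ.isEmbedding.isInducing.specializes_iff, hc]
    exact zeta_specializes _
  rw [eq_zeta_of_specializes hd h1] at hc
  show θ (zeta (x.left pt)) = _
  rw [hc, zeta_eq_of_specializes hd ((zeta_specializes (x.left pt)).map θ.continuous), hx]

/-- Integrality of an algebra all of whose finite subsets lie in finite subalgebras. -/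
theorem isIntegral_of_finite_pieces {A : Type u} [CommRing A] [Algebra k A]
    (hA : ∀ s : Finset A, ∃ (B : Subalgebra k A) (n : ℕ), (↑s : Set A) ⊆ (B : Set A) ∧ Nonempty (B ≃ₐ[k] (Fin n → k))) :
    Algebra.IsIntegral k A := by
  refine ⟨fun a => ?_⟩
  obtain ⟨B, n, hB, ⟨e⟩⟩ := hA {a}
  haveI : Module.Finite k B := Module.Finite.equiv e.symm.toLinearEquiv
  exact (Algebra.IsIntegral.isIntegral (R := k) (⟨a, hB (by simp)⟩ : B)).map B.val

/-- Every point of such a scheme is rational. -/
theorem exists_point [IsAlgClosed k] {A : Type u} [CommRing A] [Algebra k A] [Algebra.IsIntegral k A]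
    (a : Spec (CommRingCat.of A)) :
    ∃ α : 𝟙_ _ ⟶ Over.mk (Spec.map (CommRingCat.ofHom (algebraMap k A))),
      ∀ pt : (𝟙_ (Over (Spec (CommRingCat.of k)))).left, α.left pt = a := by
  let P := a.asIdeal
  haveI : P.IsPrime := a.isPrime
  haveI : Algebra.IsIntegral k (A ⧸ P) := ⟨fun b => by
    obtain ⟨b, rfl⟩ := Ideal.Quotient.mk_surjective b
    exact (Algebra.IsIntegral.isIntegral (R := k) b).map (Ideal.Quotient.mkₐ k P)⟩
  have hb : Function.Bijective (algebraMap k (A ⧸ P)) :=
    IsAlgClosed.algebraMap_bijective_of_isIntegral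
  let ψ : A →ₐ[k] k := (AlgEquiv.ofBijective (Algebra.ofId k (A ⧸ P)) hb).symm.toAlgHom.comp (Ideal.Quotient.mkₐ k P)
  refine ⟨Over.homMk (Spec.map (CommRingCat.ofHom ψ.toRingHom)) (by
    show Spec.map _ ≫ Spec.map _ = 𝟙 _
    rw [← Spec.map_comp, ← Spec.map_id]
    congr 1
    ext c
    exact ψ.commutes c), fun pt => ?_⟩
  refine PrimeSpectrum.ext ?_
  have hpt : (show PrimeSpectrum k from pt).asIdeal = ⊥ :=
    (Ideal.eq_bot_or_top _).resolve_right (show PrimeSpectrum k from pt).isPrime.ne_top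
  show Ideal.comap ψ.toRingHom (show PrimeSpectrum k from pt).asIdeal = a.asIdeal
  rw [hpt]
  ext c
  show ψ c = 0 ↔ c ∈ P
  rw [show ψ c = (AlgEquiv.ofBijective (Algebra.ofId k (A ⧸ P)) hb).symm (Ideal.Quotient.mk P c) from rfl,
    map_eq_zero_iff _ (AlgEquiv.injective _), Ideal.Quotient.eq_zero_iff_mem]

/-- A clopen piece of an affine open is affine. -/
theorem isAffineOpen_inf_of_isClosed {X : Scheme.{u}} {O D : X.Opens} (hO : IsAffineOpen O)
    (hD : IsClosed (D : Set X)) : IsAffineOpen (O ⊓ D) := by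
  haveI : IsClosedImmersion D.ι :=
    IsClosedImmersion.iff_isPreimmersion.mpr ⟨inferInstance, by rw [Scheme.Opens.range_ι]; exact hD⟩
  have := (hO.preimage D.ι).image_of_isOpenImmersion D.ι
  rwa [Scheme.Hom.image_preimage_eq_opensRange_inf, Scheme.Opens.opensRange_ι, inf_comm] at this


/-- Let k be an algebraically closed field and G a group scheme over k such that the underlying space of
G is Jacobson and every closed point of G is k-rational (the image of a section of G -> Spec k). Let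
A be a k-algebra such that every finite subset of A is contained in a k-subalgebra isomorphic to a
finite product of copies of k (A is a directed colimit of such algebras), and f : Spec A -> G a
morphism over k. Then there is an affine open U of G containing the image of f. -/
theorem result (k : Type u) [Field k] [IsAlgClosed k] (G : Over (Spec (CommRingCat.of k))) [GrpObj G] [JacobsonSpace G.left] (hrat : ∀ g : G.left, IsClosed ({g} : Set G.left) → ∃ x : Spec (CommRingCat.of k) ⟶ G.left, x ≫ G.hom = 𝟙 _ ∧ x (IsLocalRing.closedPoint k) = g) (A : Type u) [CommRing A] [Algebra k A] (hA : ∀ s : Finset A, ∃ (B : Subalgebra k A) (n : ℕ), (↑s : Set A) ⊆ (B : Set A) ∧ Nonempty (B ≃ₐ[k] (Fin n → k))) (f : Spec (CommRingCat.of A) ⟶ G.left) (hf : f ≫ G.hom = Spec.map (CommRingCat.ofHom (algebraMap k A))) : ∃ U : G.left.Opens, IsAffineOpen U ∧ Set.range ⇑f ⊆ (U : Set G.left) := by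
  classical
  haveI := isIntegral_of_finite_pieces hA
  let T : Over (Spec (CommRingCat.of k)) := Over.mk (Spec.map (CommRingCat.ofHom (algebraMap k A)))
  haveI : IsIntegralHom T.hom := IsIntegralHom.SpecMap_iff.mpr
    (algebraMap_isIntegral_iff.mpr inferInstance)
  haveI : UniversallyClosed (pullback.snd T.hom G.hom) := inferInstance
  let fA : T ⟶ G := Over.homMk f hf
  have hd : ∀ y : G.left, DirGen y := dirGen_left
  let pt : (𝟙_ (Over (Spec (CommRingCat.of k)))).left := IsLocalRing.closedPoint k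
  haveI : Subsingleton (𝟙_ (Over (Spec (CommRingCat.of k)))).left := inferInstanceAs (Subsingleton (PrimeSpectrum k))
  let e₀ : G.left := zeta (η[G].left pt)
  obtain ⟨_, ⟨(U : G.left.Opens), (hU : IsAffineOpen U), rfl⟩, he₀, -⟩ :=
    G.left.isBasis_affineOpens.exists_subset_of_mem_open (Set.mem_univ e₀) isOpen_univ
  let Φ : T ⊗ G ⟶ G := (snd T G)⁻¹ * (fst T G ≫ fA)
  -- one translate for each component
  have hpiece : ∀ a : Spec (CommRingCat.of A), ∃ O : G.left.Opens, IsAffineOpen O ∧
      ∀ a' : Spec (CommRingCat.of A), zeta (f a') = zeta (f a) → f a' ∈ O := by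
    intro a
    let ρ := zeta (f a)
    let Y : Set G.left := closure {ρ}
    let Z : Set G.left := (snd T G).left '' ((Φ.left ⁻¹' (U : Set G.left)ᶜ) ∩ (fst T G).left ⁻¹' (f ⁻¹' Y))
    have hZ : IsClosed Z := by
      refine (pullback.snd T.hom G.hom).isClosedMap _ ((U.2.isClosed_compl.preimage Φ.left.continuous).inter ?_)
      exact (isClosed_closure.preimage f.continuous).preimage (fst T G).left.continuous
    have hρ : ρ ∉ Z := by
      rintro ⟨p, ⟨hpU, hpY⟩, hp⟩
      obtain ⟨α, hα⟩ := exists_point ((fst T G).left p)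
      obtain ⟨z, hz, -⟩ := Scheme.Pullback.exists_preimage_pullback (f := (fst T G).left) (g := α.left) p pt
        (hα pt).symm
      let σ : G ⟶ T ⊗ G := lift (toUnit G ≫ α) (𝟙 G)
      have hfac : pullback.fst (fst T G).left α.left =
          (pullback.fst (fst T G).left α.left ≫ (snd T G).left) ≫ σ.left := by
        have h1 : σ.left ≫ (fst T G).left = G.hom ≫ α.left := by
          rw [← Over.comp_left, lift_fst]; rfl
        have h2 : σ.left ≫ (snd T G).left = 𝟙 _ := by
          rw [← Over.comp_left, lift_snd]; rfl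
        have h3 : (snd T G).left ≫ G.hom = (fst T G).left ≫ T.hom :=
          (Over.w (snd T G)).trans (Over.w (fst T G)).symm
        apply pullback.hom_ext
        · show _ ≫ (fst T G).left = _ ≫ (fst T G).left
          simp only [Category.assoc, h1]
          rw [reassoc_of% h3, pullback.condition_assoc, pullback.condition]
          rw [show α.left ≫ T.hom ≫ α.left = α.left by
            rw [← Category.assoc, Over.w α]; exact Category.id_comp _]
        · show _ ≫ (snd T G).left = _ ≫ (snd T G).left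
          simp only [Category.assoc, h2, Category.comp_id]
      have hp' : p = σ.left ρ := by
        rw [← hz, hfac, Scheme.Hom.comp_apply, Scheme.Hom.comp_apply, hz, hp]
      have hcomp : σ ≫ Φ = (𝟙 G)⁻¹ * (toUnit G ≫ (α ≫ fA)) := by
        simp [σ, Φ, MonObj.comp_mul, GrpObj.comp_inv]
      apply hpU
      show Φ.left p ∈ U
      rw [hp', ← Scheme.Hom.comp_apply, ← Over.comp_left, hcomp]
      have hx : (α ≫ fA).left pt = f ((fst T G).left p) := by
        rw [← hα pt]; rfl
      have : ρ = zeta ((α ≫ fA).left pt) := by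
        rw [hx]
        exact (zeta_zeta hd _).symm.trans (zeta_eq_of_specializes hd (specializes_iff_mem_closure.2 hpY))
      rw [this, theta_zeta]
      exact he₀
    obtain ⟨g, ⟨hgY, hgZ⟩, hgc⟩ := nonempty_inter_closedPoints (Z := Y ∩ Zᶜ)
      ⟨ρ, subset_closure rfl, hρ⟩ (isClosed_closure.isLocallyClosed.inter hZ.isOpen_compl.isLocallyClosed)
    obtain ⟨x, hx, hxg⟩ := hrat g hgc
    let gam : 𝟙_ _ ⟶ G := Over.homMk x hx
    haveI := isIso_translate gam
    refine ⟨((toUnit G ≫ gam)⁻¹ * 𝟙 G).left ⁻¹ᵁ U, hU.preimage _, fun a' ha' => ?_⟩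
    by_contra hn
    refine hgZ ⟨(lift (𝟙 T) (toUnit T ≫ gam)).left a', ⟨?_, ?_⟩, ?_⟩
    · show ¬ (Φ.left _ ∈ U)
      rw [← Scheme.Hom.comp_apply, ← Over.comp_left,
        show lift (𝟙 T) (toUnit T ≫ gam) ≫ Φ = fA ≫ ((toUnit G ≫ gam)⁻¹ * 𝟙 G) by
          simp [Φ, MonObj.comp_mul, GrpObj.comp_inv, ← Category.assoc]]
      exact hn
    · show f ((fst T G).left _) ∈ Y
      rw [← Scheme.Hom.comp_apply (lift (𝟙 T) (toUnit T ≫ gam)).left, ← Over.comp_left, lift_fst]
      show f a' ∈ Y
      rw [← specializes_iff_mem_closure]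
      show zeta (f a) ⤳ f a'
      rw [← ha']
      exact zeta_specializes _
    · rw [← Scheme.Hom.comp_apply, ← Over.comp_left, lift_snd, Over.comp_left, Scheme.Hom.comp_apply]
      show x _ = g
      rw [← hxg]
      exact congrArg x (Subsingleton.elim (α := PrimeSpectrum k) _ _)
  choose O hO hOa using hpiece
  -- separating clopens
  have hclop : ∀ a : Spec (CommRingCat.of A), ∃ C : Set G.left, IsClopen C ∧ f a ∈ C ∧
      ∀ a', f a' ∈ C → f a' ∈ O a := by
    intro a
    have hK : IsCompact (f '' (f ⁻¹' (O a : Set G.left))ᶜ) :=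
      (((O a).2.preimage f.continuous).isClosed_compl.isCompact).image f.continuous
    have hsep : ∀ z : (f '' (f ⁻¹' (O a : Set G.left))ᶜ), ∃ C : Set G.left, IsClopen C ∧ f a ∈ C ∧ (z : G.left) ∉ C := by
      rintro ⟨_, a', ha', rfl⟩
      have hne : ¬ (zeta (f a') ⤳ zeta (f a)) := fun h => ha' (hOa a a' (eq_zeta_of_specializes hd h))
      rw [not_specializes_iff_exists_open] at hne
      obtain ⟨V, hV, haV, ha'V⟩ := hne
      obtain ⟨_, ⟨(W : G.left.Opens), (hW : IsAffineOpen W), rfl⟩, hW1, hW2⟩ :=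
        G.left.isBasis_affineOpens.exists_subset_of_mem_open haV hV
      exact ⟨sat (W : Set G.left), isClopen_sat (grpToGrpd G) (Iso.refl _) W hW.isCompact, hW1,
        fun h => ha'V (hW2 h)⟩
    choose C hC hCa hCz using hsep
    obtain ⟨s, hs⟩ := hK.elim_finite_subcover (fun z => (C z)ᶜ) (fun z => (hC z).1.isOpen_compl)
      (fun z hz => Set.mem_iUnion.2 ⟨⟨z, hz⟩, hCz ⟨z, hz⟩⟩)
    refine ⟨⋂ z ∈ s, C z, isClopen_biInter_finset fun z _ => hC z, Set.mem_iInter₂.2 fun z _ => hCa z,
      fun a' ha' => ?_⟩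
    by_contra hn
    obtain ⟨z, hzs, hz⟩ := Set.mem_iUnion₂.1 (hs ⟨a', hn, rfl⟩)
    exact hz (Set.mem_iInter₂.1 ha' z hzs)
  choose C hC hCa hCO using hclop
  obtain ⟨s, hs⟩ := (isCompact_univ (X := Spec (CommRingCat.of A))).elim_finite_subcover (fun a => f ⁻¹' C a)
    (fun a => (hC a).2.preimage f.continuous) (fun a _ => Set.mem_iUnion.2 ⟨a, hCa a⟩)
  let l := s.toList
  let D : Fin l.length → Set G.left := fun i => C (l.get i) \ ⋃ j ∈ Finset.univ.filter (· < i), C (l.get j)
  have hD : ∀ i, IsClopen (D i) := fun i => (hC _).diff (isClopen_biUnion_finset fun j _ => hC _)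
  let V : Fin l.length → G.left.Opens := fun i => O (l.get i) ⊓ ⟨D i, (hD i).2⟩
  refine ⟨⨆ i, V i, IsAffineOpen.iSup_of_disjoint (fun i => isAffineOpen_inf_of_isClosed (hO _) (hD i).1)
    (fun i j hij => ?_), ?_⟩
  · show Disjoint (V i) (V j)
    rw [← Opens.coe_disjoint, Set.disjoint_left]
    rintro y ⟨-, hyi⟩ ⟨-, hyj⟩
    rcases lt_or_gt_of_ne hij with h | h
    · exact hyj.2 (Set.mem_iUnion₂.2 ⟨i, by simp [h], hyi.1⟩)
    · exact hyi.2 (Set.mem_iUnion₂.2 ⟨j, by simp [h], hyj.1⟩)
  · rintro _ ⟨a', rfl⟩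
    obtain ⟨a, has, ha⟩ := Set.mem_iUnion₂.1 (hs (Set.mem_univ a'))
    obtain ⟨i₁, hi₁⟩ := List.mem_iff_get.1 (Finset.mem_toList.2 has)
    let I := Finset.univ.filter fun i => f a' ∈ C (l.get i)
    have hI : I.Nonempty := ⟨i₁, by simp only [I, Finset.mem_filter, Finset.mem_univ, true_and]; rw [hi₁]; exact ha⟩
    obtain ⟨hmem⟩ := And.intro (Finset.min'_mem I hI) trivial
    refine Opens.mem_iSup.2 ⟨I.min' hI, hCO _ a' (Finset.mem_filter.1 (Finset.min'_mem I hI)).2,
      (Finset.mem_filter.1 (Finset.min'_mem I hI)).2, fun h => ?_⟩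
    obtain ⟨j, hj, hj'⟩ := Set.mem_iUnion₂.1 h
    exact not_lt_of_ge (Finset.min'_le I j (by simp only [I, Finset.mem_filter, Finset.mem_univ, true_and]; exact hj'))
      (Finset.mem_filter.1 hj).2

end Groth.Agent.S7489
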