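import Groth.Statements.S7493
import Mathlib.FieldTheory.IsAlgClosed.Classification
import Mathlib.FieldTheory.IsAlgClosed.AlgebraicClosure

set_option autoImplicit false
set_option maxHeartbeats 1000000
set_option synthInstance.maxHeartbeats 100000
set_option linter.style.haveILetI false
set_option backward.isDefEq.respectTransparency false
universe u
open CategoryTheory CategoryTheory.Limits AlgebraicGeometry
open Grpd

namespace Groth.Agent.S7493

open Cardinal

/-- Algebraically closed extensions of the same large cardinality are isomorphic over the base field. -/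
theorem exists_equiv_of_lt {k K L : Type u} [Field k] [Field K] [Field L] [Algebra k K] [Algebra k L]
    [IsAlgClosed K] [IsAlgClosed L] (hKL : #K = #L) (hK : max #k ℵ₀ < #K) :
    ∃ e : K ≃+* L, ∀ x, e (algebraMap k K x) = algebraMap k L x := by
  obtain ⟨s, hs⟩ := exists_isTranscendenceBasis k K
  obtain ⟨t, ht⟩ := exists_isTranscendenceBasis k L
  have hcard : ∀ {M : Type u} [Field M] [Algebra k M] [IsAlgClosed M] {r : Set M}
      (_ : IsTranscendenceBasis k ((↑) : r → M)), max #k ℵ₀ < #M → #M = #r := by
    intro M _ _ _ r hr hM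
    refine le_antisymm ?_ (mk_set_le r)
    by_contra! hlt
    exact absurd (IsAlgClosed.cardinal_le_max_transcendence_basis' _ hr)
      (not_le.2 (max_lt (max_lt (lt_of_le_of_lt (le_max_left _ _) hM) hlt) (lt_of_le_of_lt (le_max_right _ _) hM)))
  obtain ⟨e⟩ : Nonempty (s ≃ t) := Cardinal.eq.1 ((hcard hs hK).symm.trans (hKL.trans (hcard ht (hKL ▸ hK))))
  letI := IsAlgClosed.isAlgClosure_of_transcendence_basis _ hs
  letI := IsAlgClosed.isAlgClosure_of_transcendence_basis _ ht
  let ε : Algebra.adjoin k (Set.range ((↑) : s → K)) ≃ₐ[k] Algebra.adjoin k (Set.range ((↑) : t → L)) :=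
    hs.1.aevalEquiv.symm.trans ((MvPolynomial.renameEquiv k e).trans ht.1.aevalEquiv)
  refine ⟨IsAlgClosure.equivOfEquiv K L ε.toRingEquiv, fun x => ?_⟩
  rw [IsScalarTower.algebraMap_apply k (Algebra.adjoin k (Set.range ((↑) : s → K))) K,
    IsAlgClosure.equivOfEquiv_algebraMap]
  show algebraMap _ L (ε (algebraMap k _ x)) = _
  rw [ε.commutes, ← IsScalarTower.algebraMap_apply]

/-- A rational point induces an isomorphism on residue fields. -/
theorem isIso_residueFieldMap_of_point {X : Scheme.{u}} {K : Type u} [Field K] (q : X ⟶ Spec (CommRingCat.of K))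
    (p : Spec (CommRingCat.of K) ⟶ X) (σ : K →+* K) (hσ : Function.Bijective σ)
    (h : p ≫ q = Spec.map (CommRingCat.ofHom σ)) :
    IsIso (q.residueFieldMap (p (IsLocalRing.closedPoint K))) := by
  haveI : IsIso (CommRingCat.ofHom σ) := (ConcreteCategory.isIso_iff_bijective _).2 hσ
  haveI : IsIso (p ≫ q) := h ▸ inferInstance
  have h1 : IsIso ((p ≫ q).residueFieldMap (IsLocalRing.closedPoint K)) := inferInstance
  rw [Scheme.residueFieldMap_comp] at h1
  rw [ConcreteCategory.isIso_iff_bijective] at h1 ⊢
  refine ⟨(q.residueFieldMap _).hom.injective, fun y => ?_⟩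
  obtain ⟨z, hz⟩ := h1.2 (p.residueFieldMap _ y)
  exact ⟨z, (p.residueFieldMap _).hom.injective hz⟩


/-- Let (U, R, s, t, c) be a groupoid scheme over S with U = Spec k for a field k, and let r be a point
of R. Then there exist a field extension k -> k' with k' algebraically closed and a point r' of the
restriction R' of R along g : U' = Spec k' -> U, that is R' = (U' x_(g,U,t) R) x_(s pr, U, g) U'
with t' the projection to the first factor U' and s' the projection to the last factor U', such that
r' maps to r under R' -> R and both s' and t' induce isomorphisms on residue fields at r' (k' ->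
κ(r') bijective). (A groupoid scheme carries U, R, s, t, c, e, i over S with the groupoid axioms on
T-points; c is defined on the fibre product of s and t and sends a pair (a, b) with s(a) = t(b) to a
composed with b.) -/
theorem result (S : Scheme.{u}) (G : Grpd.GroupoidScheme S) (k : Type u) [Field k] (eU : G.U ≅ Spec (CommRingCat.of k)) (r : G.R) : ∃ (k' : Type u) (_ : Field k') (_ : IsAlgClosed k') (_ : Algebra k k'), ∃ r' : ↑(pullback (pullback.snd (Spec.map (CommRingCat.ofHom (algebraMap k k')) ≫ eU.inv) G.t ≫ G.s) (Spec.map (CommRingCat.ofHom (algebraMap k k')) ≫ eU.inv)), (pullback.fst (pullback.snd (Spec.map (CommRingCat.ofHom (algebraMap k k')) ≫ eU.inv) G.t ≫ G.s) (Spec.map (CommRingCat.ofHom (algebraMap k k')) ≫ eU.inv) ≫ pullback.snd (Spec.map (CommRingCat.ofHom (algebraMap k k')) ≫ eU.inv) G.t) r' = r ∧ IsIso ((pullback.snd (pullback.snd (Spec.map (CommRingCat.ofHom (algebraMap k k')) ≫ eU.inv) G.t ≫ G.s) (Spec.map (CommRingCat.ofHom (algebraMap k k')) ≫ eU.inv)).residueFieldMap r') ∧ IsIso ((pullback.fst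 (pullback.snd (Spec.map (CommRingCat.ofHom (algebraMap k k')) ≫ eU.inv) G.t ≫ G.s) (Spec.map (CommRingCat.ofHom (algebraMap k k')) ≫ eU.inv) ≫ pullback.fst (Spec.map (CommRingCat.ofHom (algebraMap k k')) ≫ eU.inv) G.t).residueFieldMap r') := by
  let L := G.R.residueField r
  let ρ : Spec L ⟶ G.R := G.R.fromSpecResidueField r
  obtain ⟨φt, hφt⟩ := Spec.map_surjective (ρ ≫ G.t ≫ eU.hom)
  obtain ⟨φs, hφs⟩ := Spec.map_surjective (ρ ≫ G.s ≫ eU.hom)
  let I : Type u := Set (L ⊕ ULift.{u} ℕ)
  let K := AlgebraicClosure (FractionRing (MvPolynomial I L))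
  let jL : (L : Type u) →+* K := (algebraMap (FractionRing (MvPolynomial I L)) K).comp
    ((algebraMap (MvPolynomial I L) _).comp MvPolynomial.C)
  let at' : k →+* K := jL.comp φt.hom
  let as' : k →+* K := jL.comp φs.hom
  have hI : max #k ℵ₀ < #K := by
    refine lt_of_lt_of_le (?_ : max #k ℵ₀ < #I) (Cardinal.mk_le_of_injective
      (f := fun i : I => algebraMap (FractionRing (MvPolynomial I L)) K (algebraMap (MvPolynomial I L) _ (MvPolynomial.X i))) ?_)
    · refine lt_of_le_of_lt (max_le ?_ ?_) (by rw [show #I = 2 ^ #(L ⊕ ULift.{u} ℕ) from mk_set]; exact cantor _)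
      · exact Cardinal.mk_le_of_injective (f := fun x => Sum.inl (φt.hom x)) fun a b e =>
          φt.hom.injective (Sum.inl_injective e)
      · exact le_of_eq_of_le (by simp) (Cardinal.mk_le_of_injective (f := Sum.inr (α := L)) Sum.inr_injective)
    · exact fun a b e => MvPolynomial.X_injective (IsFractionRing.injective (MvPolynomial I L) (FractionRing (MvPolynomial I L))
        ((algebraMap (FractionRing (MvPolynomial I L)) K).injective e))
  obtain ⟨σ, hσ⟩ := @exists_equiv_of_lt k K K _ _ _ at'.toAlgebra as'.toAlgebra _ _ rfl hI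
  have hσ' : ∀ x, σ (at' x) = as' x := hσ
  letI : Algebra k K := at'.toAlgebra
  refine ⟨K, inferInstance, inferInstance, inferInstance, ?_⟩
  let gU := Spec.map (CommRingCat.ofHom (algebraMap k K)) ≫ eU.inv
  let rt : Spec (CommRingCat.of K) ⟶ G.R := Spec.map (CommRingCat.ofHom jL) ≫ ρ
  have ha : 𝟙 _ ≫ gU = rt ≫ G.t := by
    rw [Category.id_comp, ← cancel_mono eU.hom]
    simp only [gU, rt, Category.assoc, Iso.inv_hom_id, Category.comp_id]
    rw [← hφt, ← Spec.map_comp]
    rfl
  have hb : pullback.lift (𝟙 _) rt ha ≫ pullback.snd gU G.t ≫ G.s =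
      Spec.map (CommRingCat.ofHom σ.toRingHom) ≫ gU := by
    rw [pullback.lift_snd_assoc, ← cancel_mono eU.hom]
    simp only [gU, rt, Category.assoc, Iso.inv_hom_id, Category.comp_id]
    rw [← hφs, ← Spec.map_comp, ← Spec.map_comp]
    congr 1
    exact CommRingCat.hom_ext (RingHom.ext fun x => (hσ' x).symm)
  let p : Spec (CommRingCat.of K) ⟶ pullback (pullback.snd gU G.t ≫ G.s) gU :=
    pullback.lift (pullback.lift (𝟙 _) rt ha) (Spec.map (CommRingCat.ofHom σ.toRingHom)) hb
  refine ⟨p (IsLocalRing.closedPoint K), ?_, ?_, ?_⟩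
  · rw [← Scheme.Hom.comp_apply, pullback.lift_fst_assoc, pullback.lift_snd, Scheme.Hom.comp_apply]
    exact Scheme.fromSpecResidueField_apply ..
  · exact isIso_residueFieldMap_of_point _ p σ.toRingHom σ.bijective (pullback.lift_snd _ _ _)
  · refine isIso_residueFieldMap_of_point _ p (RingHom.id K) Function.bijective_id ?_
    rw [pullback.lift_fst_assoc, pullback.lift_fst]
    exact (Spec.map_id _).symm

end Groth.Agent.S7493
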