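import Groth.Statements.S7494
import Groth.Agent.H19Grp.Basic

set_option autoImplicit false
universe u
open CategoryTheory MonoidalCategory CartesianMonoidalCategory MonObj GrpObj AlgebraicGeometry
open AlgGrp

namespace Groth.Agent.S7494

/-- Let G be a group scheme over S acting on a scheme X over S by a. The action is free, meaning that
for every scheme T over S and all T-points g of G and x of X with g · x = x one has g = 1, if and
only if the morphism G x_S X -> X x_S X, (g, x) ↦ (a(g, x), x), is a monomorphism of schemes. -/
theorem result {S : Scheme.{u}} (G X : Over S) [GrpObj G] (a : AlgGrp.Action G X) : (∀ (T : Over S) (g : T ⟶ G) (x : T ⟶ X), lift g x ≫ a.act = x → g = toUnit T ≫ η[G]) ↔ Mono (lift a.act (snd G X)).left := by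
  constructor
  · intro h
    suffices Mono (lift a.act (snd G X)) from
      (Over.forget S).map_mono (lift a.act (snd G X))
    constructor
    intro T p q hpq
    have h1 : p ≫ snd G X = q ≫ snd G X := by
      simpa using congrArg (· ≫ snd X X) hpq
    have h2 : p ≫ a.act = q ≫ a.act := by
      simpa using congrArg (· ≫ fst X X) hpq
    have h3 : Groth.Agent.H19Grp.smulPt a ((q ≫ fst G X)⁻¹ * (p ≫ fst G X)) (p ≫ snd G X)
        = p ≫ snd G X := by
      rw [Groth.Agent.H19Grp.mul_smulPt, ← Groth.Agent.H19Grp.comp_smulPt,
        ← Groth.Agent.H19Grp.act_eq_smulPt, h2, Groth.Agent.H19Grp.act_eq_smulPt,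
        Groth.Agent.H19Grp.comp_smulPt, Groth.Agent.H19Grp.inv_smulPt_smulPt, h1]
    have h4 := h T _ _ h3
    rw [← Hom.one_def, inv_mul_eq_one] at h4
    ext
    · exact congrArg (·.left) h4.symm
    · exact congrArg (·.left) h1
  · intro h T g x hgx
    have : Mono (lift a.act (snd G X)) := (Over.forget S).mono_of_mono_map h
    have : lift g x = lift (toUnit T ≫ η[G]) x := by
      rw [← cancel_mono (lift a.act (snd G X))]
      ext1
      · simpa [hgx, ← Hom.one_def, Groth.Agent.H19Grp.smulPt] using
          (Groth.Agent.H19Grp.one_smulPt a x).symm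
      · simp
    simpa using congrArg (· ≫ fst G X) this

end Groth.Agent.S7494
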