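import Groth.Statements.S7496
import Mathlib.AlgebraicGeometry.Cover.QuasiCompact
import Mathlib.AlgebraicGeometry.Morphisms.QuasiSeparated

set_option autoImplicit false
universe w u
open CategoryTheory CategoryTheory.Limits AlgebraicGeometry
open HTop

namespace Groth.Agent.S7496

/-- Let T be a quasi-separated scheme and {f_i : T_i -> T} a family of morphisms. Then every affine open
of T is the union of the images of finitely many quasi-compact opens of the T_i (the
quasi-compactness condition in the definition of an fpqc covering) if and only if for every point t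
of T there are finitely many quasi-compact opens U_j of members T_(i_j) such that the union of the
f_(i_j)(U_j) is a neighbourhood of t. (The published statement also asks every f_i to be flat, on
both sides, and lists two more equivalent forms of the quasi-compactness condition; this row omits
flatness, which plays no part in the equivalence, and states only the equivalence of the
quasi-compactness condition with the neighbourhood condition.) -/
theorem result {T : Scheme.{u}} [QuasiSeparatedSpace T] (E : PreZeroHypercover.{w} T) : QuasiCompactCover E ↔ ∀ t : T, ∃ (n : ℕ) (i : Fin n → E.I₀) (V : ∀ j, (E.X (i j)).Opens), (∀ j, IsCompact (V j : Set (E.X (i j)))) ∧ (⋃ j, ⇑(E.f (i j)) '' (V j : Set (E.X (i j)))) ∈ nhds t := by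
  refine ⟨fun h t => ?_, fun h => ⟨fun {U} hU => ?_⟩⟩
  · obtain ⟨U, hU, htU, -⟩ := exists_isAffineOpen_mem_and_subset (x := t) (U := ⊤) trivial
    obtain ⟨n, a, V, hV, hVU⟩ := QuasiCompactCover.exists_isAffineOpen_of_isCompact E hU.isCompact
    exact ⟨n, a, V, fun j => (hV j).isCompact, hVU ▸ U.2.mem_nhds htU⟩
  · choose n i V hV hn using h
    have : ∀ t : U, ∃ W : T.Opens, IsAffineOpen W ∧ (t : T) ∈ W ∧
        (W : Set T) ⊆ U ∩ ⋃ j, ⇑(E.f (i t j)) '' (V t j : Set (E.X (i t j))) := fun t => by
      obtain ⟨O, hO, hOo, htO⟩ := mem_nhds_iff.1 (hn t)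
      obtain ⟨W, hW, htW, hWU⟩ := exists_isAffineOpen_mem_and_subset (x := (t : T)) (U := U ⊓ ⟨O, hOo⟩)
        ⟨t.2, htO⟩
      exact ⟨W, hW, htW, fun x hx => ⟨(hWU hx).1, hO (hWU hx).2⟩⟩
    choose W hW htW hWU using this
    obtain ⟨s, hs⟩ := hU.isCompact.elim_finite_subcover (fun t => (W t : Set T)) (fun t => (W t).2)
      (fun x hx => Set.mem_iUnion.2 ⟨⟨x, hx⟩, htW ⟨x, hx⟩⟩)
    refine IsCompactOpenCovered.of_finite (κ := Σ t : s, Fin (n (t : U)))
      (fun k => i (k.1 : U) k.2) (fun k => V (k.1 : U) k.2 ⊓ (E.f (i (k.1 : U) k.2)) ⁻¹ᵁ W (k.1 : U))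
      (fun k => ?_) ?_
    · haveI := isCompact_iff_compactSpace.1 (hV (k.1 : U) k.2)
      haveI : CompactSpace ((V (k.1 : U) k.2).toScheme) := isCompact_iff_compactSpace.1 (hV (k.1 : U) k.2)
      haveI : QuasiCompact ((V (k.1 : U) k.2).ι ≫ E.f (i (k.1 : U) k.2)) := quasiCompact_of_compactSpace _
      have hc := (((V (k.1 : U) k.2).ι ≫ E.f (i (k.1 : U) k.2)).isCompact_preimage
        (hW (k.1 : U)).isCompact).image (V (k.1 : U) k.2).ι.continuous
      convert hc using 1
      ext y
      constructor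
      · intro hy; exact ⟨⟨y, hy.1⟩, hy.2, rfl⟩
      · rintro ⟨z, hz, rfl⟩; exact ⟨z.2, hz⟩
    · refine Set.Subset.antisymm ?_ fun x hx => ?_
      · rintro _ ⟨_, ⟨k, rfl⟩, y, hy, rfl⟩
        exact (hWU _ hy.2).1
      · obtain ⟨t, hts, hxt⟩ := Set.mem_iUnion₂.1 (hs hx)
        obtain ⟨j, y, hy, rfl⟩ := Set.mem_iUnion.1 (hWU t hxt).2
        exact Set.mem_iUnion.2 ⟨⟨⟨t, hts⟩, j⟩, y, ⟨hy, hxt⟩, rfl⟩

end Groth.Agent.S7496
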