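import Groth.Statements.S7498
import Groth.Agent.H19Grp.GrpdBasic
import Mathlib.AlgebraicGeometry.ResidueField

set_option autoImplicit false
universe u
open CategoryTheory CategoryTheory.Limits AlgebraicGeometry
open Grpd

namespace Groth.Agent.S7498

open Groth.Agent.H19Grp in
/-- Change of the source of arrows along x⁻¹ ∘ y. -/
noncomputable def moveSource {S : Scheme.{u}} (G : Grpd.GroupoidScheme S) {T : Scheme.{u}}
    (x y : T ⟶ G.R) (h : x ≫ G.t = y ≫ G.t) :
    pullback G.s (x ≫ G.s) ⟶ pullback G.s (y ≫ G.s) :=
  pullback.lift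
    (mulR G (mulR G (pullback.fst _ _) (invR G (pullback.snd G.s (x ≫ G.s) ≫ x))
        (by rw [invR_t, Category.assoc, pullback.condition]))
      (pullback.snd G.s (x ≫ G.s) ≫ y)
      (by rw [mulR_s, invR_s, Category.assoc, Category.assoc, h]))
    (pullback.snd _ _)
    (by rw [mulR_s, Category.assoc])

open Groth.Agent.H19Grp in
theorem moveSource_comp {S : Scheme.{u}} (G : Grpd.GroupoidScheme S) {T : Scheme.{u}}
    (x y : T ⟶ G.R) (h : x ≫ G.t = y ≫ G.t) :
    moveSource G x y h ≫ moveSource G y x h.symm = 𝟙 _ := by
  apply pullback.hom_ext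
  · rw [Category.assoc, moveSource, moveSource, pullback.lift_fst, Category.id_comp, comp_mulR]
    simp only [comp_mulR, comp_invR, pullback.lift_fst, ← Category.assoc, pullback.lift_snd]
    refine (mulR_congr G (mulR_invR_right G _ _ _) rfl _).trans ?_
    exact mulR_invR_right' G (pullback.fst G.s (x ≫ G.s)) (pullback.snd G.s (x ≫ G.s) ≫ x)
      (by rw [Category.assoc, pullback.condition])
  · rw [Category.assoc, moveSource, moveSource, pullback.lift_snd, pullback.lift_snd,
      Category.id_comp]


/-- Let (U, R, s, t, c) be a groupoid scheme over S and r, r' points of R with t(r) = t(r'); put u =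
s(r), u' = s(r') and let F_u, F_u' be the scheme-theoretic fibres of s. Then there are a field k
which is a common extension of κ(u) and κ(u') (morphisms a, b : Spec k -> U with images u, u') and
an isomorphism of the base changes (F_u)_k and (F_u')_k over Spec k, which moreover can be chosen to
send some point lying over r to a point lying over r'. (The published statement also compares the
germs of s at r and at r' when s and t are flat or flat of finite presentation; this row omits
that.) (A groupoid scheme carries U, R, s, t, c, e, i over S with the groupoid axioms on T-points; c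
is defined on the fibre product of s and t and sends a pair (a, b) with s(a) = t(b) to a composed
with b.) -/
theorem result (S : Scheme.{u}) (G : Grpd.GroupoidScheme S) (r r' : G.R) (h : G.t r = G.t r') : ∃ (k : Type u) (_ : Field k) (a b : Spec (CommRingCat.of k) ⟶ G.U) (φ : pullback G.s a ≅ pullback G.s b) (p : ↑(pullback G.s a)), a (IsLocalRing.closedPoint k) = G.s r ∧ b (IsLocalRing.closedPoint k) = G.s r' ∧ φ.hom ≫ pullback.snd G.s b = pullback.snd G.s a ∧ pullback.fst G.s a p = r ∧ pullback.fst G.s b (φ.hom p) = r' := by
  obtain ⟨w, hw1, hw2⟩ := Scheme.Pullback.exists_preimage_pullback (f := G.t) (g := G.t) r r' h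
  let k := (pullback G.t G.t).residueField w
  let x : Spec k ⟶ G.R := (pullback G.t G.t).fromSpecResidueField w ≫ pullback.fst G.t G.t
  let y : Spec k ⟶ G.R := (pullback G.t G.t).fromSpecResidueField w ≫ pullback.snd G.t G.t
  have hxy : x ≫ G.t = y ≫ G.t := by rw [Category.assoc, Category.assoc, pullback.condition]
  let φ : pullback G.s (x ≫ G.s) ≅ pullback G.s (y ≫ G.s) :=
    ⟨moveSource G x y hxy, moveSource G y x hxy.symm, moveSource_comp G x y hxy,
      moveSource_comp G y x hxy.symm⟩
  let pt : Spec k ⟶ pullback G.s (x ≫ G.s) := pullback.lift x (𝟙 _) (Category.id_comp _).symm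
  have hx : x (IsLocalRing.closedPoint k) = r := by
    simp only [x]
    erw [Scheme.Hom.comp_apply, Scheme.fromSpecResidueField_apply]
    exact hw1
  have hy : y (IsLocalRing.closedPoint k) = r' := by
    simp only [y]
    erw [Scheme.Hom.comp_apply, Scheme.fromSpecResidueField_apply]
    exact hw2
  have hpt : pt ≫ moveSource G x y hxy ≫ pullback.fst G.s (y ≫ G.s) = y := by
    rw [moveSource, pullback.lift_fst]
    simp only [Groth.Agent.H19Grp.comp_mulR, Groth.Agent.H19Grp.comp_invR, pt, pullback.lift_fst,
      ← Category.assoc, pullback.lift_snd, Category.id_comp]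
    rw [Groth.Agent.H19Grp.mulR_assoc G x (Groth.Agent.H19Grp.invR G x) y
      (Groth.Agent.H19Grp.invR_t G x).symm ((Groth.Agent.H19Grp.invR_s G x).trans hxy)]
    exact Groth.Agent.H19Grp.mulR_invR_cancel G x y hxy
  refine ⟨k, inferInstance, x ≫ G.s, y ≫ G.s, φ, pt (IsLocalRing.closedPoint k), ?_, ?_,
    pullback.lift_snd _ _ _, ?_, ?_⟩
  · exact congrArg G.s hx
  · exact congrArg G.s hy
  · exact (congrArg (fun f : Spec k ⟶ G.R => f (IsLocalRing.closedPoint k))
      (show pt ≫ pullback.fst G.s (x ≫ G.s) = x from pullback.lift_fst _ _ _)).trans hx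
  · exact (congrArg (fun f : Spec k ⟶ G.R => f (IsLocalRing.closedPoint k)) hpt).trans hy

end Groth.Agent.S7498
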