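import Groth.Statements.S7499
import Groth.Agent.H7Lim.Chevalley
import Groth.Agent.H13Grpd.InvariantAffine

set_option autoImplicit false
set_option maxHeartbeats 1000000
set_option synthInstance.maxHeartbeats 100000
set_option linter.style.haveILetI false
set_option backward.isDefEq.respectTransparency false
universe u
open CategoryTheory CategoryTheory.Limits AlgebraicGeometry
open Grpd

namespace Groth.Agent.S7499

open Groth.Agent.H13Grpd (orbit orbit_eq self_mem_orbit orbit_eq_of_mem)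


/-- Let (U, R, s, t, c) be a groupoid scheme over S with s and t integral, and g : U' -> U an integral
morphism such that every R-orbit of U meets the image of g. Let R' = (U' x_(g,U,t) R) x_(s pr, U, g)
U' be the restriction of R to U', with t' the projection to the first factor U' and s' the
projection to the last. If u' is a point of U' contained in an affine open W' of U' with t'^{-1}(W')
= s'^{-1}(W'), then g(u') is contained in an affine open W of U with s^{-1}(W) = t^{-1}(W). (A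
groupoid scheme carries U, R, s, t, c, e, i over S with the groupoid axioms on T-points; c is
defined on the fibre product of s and t and sends a pair (a, b) with s(a) = t(b) to a composed with
b.) -/
theorem result (S : Scheme.{u}) (G : Grpd.GroupoidScheme S) [IsIntegralHom G.s] [IsIntegralHom G.t] (U' : Scheme.{u}) (g : U' ⟶ G.U) [IsIntegralHom g] (horb : ∀ u : G.U, ∃ r : G.R, G.s r = u ∧ G.t r ∈ Set.range ⇑g) (u' : U') (W' : U'.Opens) (hW' : IsAffineOpen W') (hu' : u' ∈ W') (hinv : (pullback.fst (pullback.snd g G.t ≫ G.s) g ≫ pullback.fst g G.t) ⁻¹ᵁ W' = (pullback.snd (pullback.snd g G.t ≫ G.s) g) ⁻¹ᵁ W') : ∃ W : G.U.Opens, IsAffineOpen W ∧ g u' ∈ W ∧ G.s ⁻¹ᵁ W = G.t ⁻¹ᵁ W := by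
  classical
  have key : ∀ a b : U', g a ∈ orbit G (g b) → (a ∈ W' ↔ b ∈ W') := by
    rintro a b ⟨r, hr, hra⟩
    obtain ⟨q, hq₁, hq₂⟩ := Scheme.Pullback.exists_preimage_pullback (f := g) (g := G.t) a r hra.symm
    obtain ⟨w, hw₁, hw₂⟩ := Scheme.Pullback.exists_preimage_pullback (f := pullback.snd g G.t ≫ G.s) (g := g) q b (by
      rw [Scheme.Hom.comp_apply, hq₂]; exact hr)
    have hm := SetLike.ext_iff.1 hinv w
    show a ∈ W' ↔ b ∈ W'
    rw [← hq₁, ← hw₁, ← hw₂, ← Scheme.Hom.comp_apply]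
    exact hm
  let Z : Set G.U := g '' (W' : Set U')ᶜ
  let F : Set G.U := G.t '' (G.s ⁻¹' Z)
  have hF : IsClosed F := G.t.isClosedMap _ ((g.isClosedMap _ W'.2.isClosed_compl).preimage G.s.continuous)
  let W : G.U.Opens := ⟨Fᶜ, hF.isOpen_compl⟩
  have hFmem : ∀ x, x ∈ F ↔ ∃ y ∈ orbit G x, y ∈ Z := fun x => by
    constructor
    · rintro ⟨r, hr, rfl⟩
      exact ⟨G.s r, by rw [orbit_eq]; exact self_mem_orbit G _, hr⟩
    · rintro ⟨y, hy, hyZ⟩
      have hx : x ∈ orbit G y := by rw [orbit_eq_of_mem G hy]; exact self_mem_orbit G x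
      obtain ⟨r, hr, rfl⟩ := hx
      exact ⟨r, by show G.s r ∈ Z; rw [show G.s r = y from hr]; exact hyZ, rfl⟩
  have hWinv : G.s ⁻¹ᵁ W = G.t ⁻¹ᵁ W := by
    ext r
    show ¬ G.s r ∈ F ↔ ¬ G.t r ∈ F
    rw [hFmem, hFmem, orbit_eq]
  have hgW : g ⁻¹ᵁ W = W' := by
    ext a
    show ¬ g a ∈ F ↔ a ∈ W'
    rw [hFmem]
    constructor
    · intro h
      by_contra ha
      exact h ⟨g a, self_mem_orbit G _, a, ha, rfl⟩
    · rintro ha ⟨_, hy, b, hb, rfl⟩
      exact hb ((key b a hy).2 ha)
  refine ⟨W, ?_, ?_, hWinv⟩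
  · haveI : IsAffine (g ⁻¹ᵁ W).toScheme := by rw [hgW]; exact hW'
    haveI hg : IsIntegralHom (g ∣_ W) := IsZariskiLocalAtTarget.restrict (P := @IsIntegralHom) inferInstance W
    haveI ht : IsIntegralHom (G.t ∣_ W) := IsZariskiLocalAtTarget.restrict (P := @IsIntegralHom) inferInstance W
    haveI hs : IsIntegralHom (G.s ∣_ W) := IsZariskiLocalAtTarget.restrict (P := @IsIntegralHom) inferInstance W
    haveI : IsIntegralHom (pullback.fst (g ∣_ W) (G.t ∣_ W)) :=
      MorphismProperty.pullback_fst (P := @IsIntegralHom) _ _ ht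
    haveI : IsIntegralHom (pullback.snd (g ∣_ W) (G.t ∣_ W)) :=
      MorphismProperty.pullback_snd (P := @IsIntegralHom) _ _ hg
    haveI : IsAffine (pullback (g ∣_ W) (G.t ∣_ W)) := isAffine_of_isAffineHom (pullback.fst (g ∣_ W) (G.t ∣_ W))
    let h := pullback.snd (g ∣_ W) (G.t ∣_ W) ≫ (G.R.isoOfEq hWinv.symm).hom ≫ G.s ∣_ W
    haveI : UniversallyClosed h := by
      haveI : IsIntegralHom h := by dsimp only [h]; infer_instance
      infer_instance
    haveI : Surjective h := ⟨fun x => by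
      obtain ⟨r, hr, a, ha⟩ := horb x.1
      have hrW : r ∈ G.t ⁻¹ᵁ W := by rw [← hWinv]; show G.s r ∈ W; rw [hr]; exact x.2
      have haW : a ∈ g ⁻¹ᵁ W := by show g a ∈ W; rw [ha]; exact hrW
      obtain ⟨q, -, hq⟩ := Scheme.Pullback.exists_preimage_pullback (f := g ∣_ W) (g := G.t ∣_ W) ⟨a, haW⟩ ⟨r, hrW⟩
        (Subtype.ext (by rw [morphismRestrict_base_coe, morphismRestrict_base_coe]; exact ha))
      refine ⟨q, Subtype.ext ?_⟩
      simp only [h, Scheme.Hom.comp_apply, hq]
      rw [morphismRestrict_base_coe]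
      refine Eq.trans ?_ hr
      congr 1
      exact congr($(Scheme.isoOfEq_hom_ι G.R hWinv.symm) ⟨r, hrW⟩)⟩
    exact Groth.Agent.H7Lim.Chevalley.isAffine_of_universallyClosed_surjective h
  · show u' ∈ g ⁻¹ᵁ W
    rw [hgW]
    exact hu'

end Groth.Agent.S7499
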