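import Groth.Statements.S7500
import Groth.Agent.H19Grp.GrpdBasic

set_option autoImplicit false
universe u
open CategoryTheory CategoryTheory.Limits AlgebraicGeometry
open Grpd

namespace Groth.Agent.S7500

open Groth.Agent.H19Grp in
theorem isIso_shearStab {S : Scheme.{u}} (G : Grpd.GroupoidScheme S)
    (α : pullback (pullback.snd G.j G.diag) G.t ⟶ pullback G.s G.t)
    (hα₁ : α ≫ pullback.fst G.s G.t = pullback.fst (pullback.snd G.j G.diag) G.t ≫ pullback.fst G.j G.diag)
    (hα₂ : α ≫ pullback.snd G.s G.t = pullback.snd (pullback.snd G.j G.diag) G.t)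
    (β : pullback (pullback.snd G.j G.diag) G.t ⟶ pullback G.j G.j)
    (hβ₁ : β ≫ pullback.fst G.j G.j = α ≫ G.c)
    (hβ₂ : β ≫ pullback.snd G.j G.j = pullback.snd (pullback.snd G.j G.diag) G.t) : IsIso β := by
  have hjt : G.j ≫ pullback.fst G.pU G.pU = G.t := pullback.lift_fst _ _ _
  have hjs : G.j ≫ pullback.snd G.pU G.pU = G.s := pullback.lift_snd _ _ _
  let a := pullback.fst G.j G.j
  let b := pullback.snd G.j G.j
  have hs : a ≫ G.s = b ≫ G.s := by
    rw [← hjs, ← Category.assoc, pullback.condition, Category.assoc]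
  have ht : a ≫ G.t = b ≫ G.t := by
    rw [← hjt, ← Category.assoc, pullback.condition, Category.assoc]
  let g := mulR G a (invR G b) (hs.trans (invR_t G b).symm)
  have hg : g ≫ G.j = (b ≫ G.t) ≫ G.diag := by
    apply pullback.hom_ext
    · rw [Category.assoc, hjt, mulR_t, ht, Category.assoc, Grpd.GroupoidScheme.diag,
        pullback.lift_fst, Category.comp_id]
    · rw [Category.assoc, hjs, mulR_s, invR_s, Category.assoc, Grpd.GroupoidScheme.diag,
        pullback.lift_snd, Category.comp_id]
  let ψ : pullback G.j G.j ⟶ pullback (pullback.snd G.j G.diag) G.t :=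
    pullback.lift (pullback.lift g (b ≫ G.t) hg) b (pullback.lift_snd g (b ≫ G.t) hg)
  let p : pullback (pullback.snd G.j G.diag) G.t ⟶ G.R :=
    pullback.fst (pullback.snd G.j G.diag) G.t ≫ pullback.fst G.j G.diag
  let q : pullback (pullback.snd G.j G.diag) G.t ⟶ G.R := pullback.snd (pullback.snd G.j G.diag) G.t
  have hp : p ≫ G.s = q ≫ G.t := by
    have h0 : pullback.fst G.j G.diag ≫ G.s = pullback.snd G.j G.diag := by
      rw [← hjs, ← Category.assoc, pullback.condition, Category.assoc, Grpd.GroupoidScheme.diag,
        pullback.lift_snd, Category.comp_id]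
    show (pullback.fst (pullback.snd G.j G.diag) G.t ≫ pullback.fst G.j G.diag) ≫ G.s = q ≫ G.t
    rw [Category.assoc, h0]
    exact pullback.condition
  have hβ1' : β ≫ a = mulR G p q hp := by
    show β ≫ pullback.fst G.j G.j = _
    rw [hβ₁, c_eq G, comp_mulR]
    exact mulR_congr G hα₁ hα₂ _
  have hψg : ψ ≫ p = g := by
    show pullback.lift _ b _ ≫ pullback.fst (pullback.snd G.j G.diag) G.t ≫ pullback.fst G.j G.diag = g
    rw [pullback.lift_fst_assoc]
    exact pullback.lift_fst g (b ≫ G.t) hg
  refine ⟨ψ, ?_, ?_⟩
  · apply pullback.hom_ext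
    · apply pullback.hom_ext
      · rw [Category.id_comp]
        show ((β ≫ ψ) ≫ pullback.fst _ _) ≫ pullback.fst G.j G.diag = p
        rw [Category.assoc, Category.assoc, show ψ ≫ pullback.fst _ _ ≫ pullback.fst G.j G.diag = g
          from hψg, comp_mulR]
        exact (mulR_congr G hβ1' (show β ≫ invR G b = invR G q by
          rw [comp_invR]; exact congrArg (invR G) hβ₂) _).trans (mulR_invR_right G p q hp)
      · rw [Category.id_comp]
        refine Eq.trans ?_ ((pullback.condition (f := (pullback.snd G.j G.diag)) (g := G.t)).symm.trans rfl)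
        show (β ≫ ψ) ≫ pullback.fst (pullback.snd G.j G.diag) G.t ≫ (pullback.snd G.j G.diag) = _
        rw [Category.assoc]
        show β ≫ pullback.lift _ b _ ≫ pullback.fst (pullback.snd G.j G.diag) G.t ≫ (pullback.snd G.j G.diag) = _
        rw [pullback.condition, pullback.lift_snd_assoc, ← Category.assoc]
        exact congrArg (· ≫ G.t) hβ₂
    · rw [Category.assoc, pullback.lift_snd, Category.id_comp]
      exact hβ₂
  · apply pullback.hom_ext
    · rw [Category.assoc, Category.id_comp]
      show ψ ≫ β ≫ a = a
      rw [hβ1', comp_mulR]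
      exact (mulR_congr G hψg (pullback.lift_snd _ _ _) _).trans (mulR_invR_right' G a b hs)
    · rw [Category.assoc, hβ₂, pullback.lift_snd, Category.id_comp]


/-- Let (U, R, s, t, c) be a groupoid scheme over S and G -> U its stabilizer group scheme (the base
change of j = (t, s) along the diagonal). The action of G on R by composition, base changed to G_0 =
G x_(U, pr_0) (U x_S U), makes R a pseudo G_0-torsor over U x_S U. Concretely: let α : G x_(U, t) R
-> R x_(s, U, t) R be the morphism with components (γ viewed in R, r) and β : G x_(U, t) R -> R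
x_(j, U x_S U, j) R the morphism with components (c ∘ α, r); then β is an isomorphism. (A groupoid
scheme carries U, R, s, t, c, e, i over S with the groupoid axioms on T-points; c is defined on the
fibre product of s and t and sends a pair (a, b) with s(a) = t(b) to a composed with b.) -/
theorem result (S : Scheme.{u}) (G : Grpd.GroupoidScheme S) (α : pullback G.stabilizerToU G.t ⟶ pullback G.s G.t) (hα₁ : α ≫ pullback.fst G.s G.t = pullback.fst G.stabilizerToU G.t ≫ pullback.fst G.j G.diag) (hα₂ : α ≫ pullback.snd G.s G.t = pullback.snd G.stabilizerToU G.t) (β : pullback G.stabilizerToU G.t ⟶ pullback G.j G.j) (hβ₁ : β ≫ pullback.fst G.j G.j = α ≫ G.c) (hβ₂ : β ≫ pullback.snd G.j G.j = pullback.snd G.stabilizerToU G.t) : IsIso β := by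
  exact isIso_shearStab G α hα₁ hα₂ β hβ₁ hβ₂

end Groth.Agent.S7500
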