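import Groth.Statements.S7502
import Groth.Agent.H8Props.FunDescent.Stalk
import Groth.Agent.H8Props.RelFP.PullSections
import Groth.Agent.H10Coh.QcqsPush
import Groth.Agent.H10Coh.Serre
import Groth.Agent.H10Coh.Proper
import Groth.Agent.H29Fitt.PullbackQCoh
-- import your own Groth.Agent.* helpers here

set_option autoImplicit false
set_option linter.style.haveILetI false
set_option backward.isDefEq.respectTransparency false
universe u
open CategoryTheory CategoryTheory.Limits AlgebraicGeometry
open Coh

namespace Groth.Agent.S7502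

section
open AlgebraicGeometry CategoryTheory CategoryTheory.Limits TopologicalSpace TensorProduct

/-- Finiteness descends along a jointly surjective finite family of flat algebras. -/
theorem finite_descent {A : Type u} [CommRing A] {ι : Type u} [Finite ι] (B : ι → Type u)
    [∀ i, CommRing (B i)] [∀ i, Algebra A (B i)] [∀ i, Module.Flat A (B i)]
    (hsurj : ∀ p : PrimeSpectrum A, ∃ i, p ∈ Set.range (PrimeSpectrum.comap (algebraMap A (B i))))
    (M : Type u) [AddCommGroup M] [Module A M] [hfin : ∀ i, Module.Finite (B i) (B i ⊗[A] M)] :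
    Module.Finite A M := by
  classical
  cases nonempty_fintype ι
  have hgen : ∀ i, ∃ S : Finset M, ∀ z : B i ⊗[A] M,
      z ∈ Submodule.span (B i) ((fun m => (1 : B i) ⊗ₜ[A] m) '' (S : Set M)) := by
    intro i
    obtain ⟨T, hT⟩ := (hfin i).fg_top
    have h : ∀ z : B i ⊗[A] M, ∃ S : Finset M,
        z ∈ Submodule.span (B i) ((fun m => (1 : B i) ⊗ₜ[A] m) '' (S : Set M)) := by
      intro z
      induction z using TensorProduct.induction_on with
      | zero => exact ⟨∅, zero_mem _⟩
      | tmul b m =>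
        refine ⟨{m}, ?_⟩
        rw [show b ⊗ₜ[A] m = b • ((1 : B i) ⊗ₜ[A] m) by
          rw [TensorProduct.smul_tmul', smul_eq_mul, mul_one]]
        exact Submodule.smul_mem _ _ (Submodule.subset_span ⟨m, by simp, rfl⟩)
      | add x y hx hy =>
        obtain ⟨S, hS⟩ := hx
        obtain ⟨S', hS'⟩ := hy
        refine ⟨S ∪ S', add_mem (Submodule.span_mono ?_ hS) (Submodule.span_mono ?_ hS')⟩ <;>
          exact Set.image_mono (by simp)
    choose S hS using h
    refine ⟨T.biUnion S, fun z => ?_⟩
    have hz : z ∈ Submodule.span (B i) (T : Set (B i ⊗[A] M)) := hT.symm ▸ Submodule.mem_top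
    refine Submodule.span_le.2 (fun t ht => ?_) hz
    exact Submodule.span_mono (Set.image_mono (Finset.coe_subset.2 (Finset.subset_biUnion_of_mem S ht))) (hS t)
  choose S hS using hgen
  let N : Submodule A M := Submodule.span A ((Finset.univ.biUnion S : Finset M) : Set M)
  suffices hN : N = ⊤ by exact ⟨⟨_, hN⟩⟩
  refine eq_top_iff.2 fun x _ => ?_
  by_contra hx
  let J : Ideal A := Submodule.comap (LinearMap.toSpanSingleton A M x) N
  have hJ : J ≠ ⊤ := fun e => hx (by
    have h1 : (1 : A) ∈ J := e ▸ Submodule.mem_top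
    simpa [J] using h1)
  obtain ⟨p, hp, hle⟩ := Ideal.exists_le_maximal _ hJ
  obtain ⟨i, q, hq⟩ := hsurj ⟨p, hp.isPrime⟩
  let f : (A ⧸ J) →ₗ[A] M ⧸ N :=
    Submodule.mapQ J N (LinearMap.toSpanSingleton A M x) le_rfl
  have hf : Function.Injective f := by
    rw [← LinearMap.ker_eq_bot, LinearMap.ker_eq_bot']
    intro a
    obtain ⟨a, rfl⟩ := Submodule.Quotient.mk_surjective _ a
    intro ha
    rw [Submodule.mapQ_apply, Submodule.Quotient.mk_eq_zero] at ha
    exact (Submodule.Quotient.mk_eq_zero J).2 ha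
  have hzero : ∀ z : B i ⊗[A] M, (N.mkQ.lTensor (B i)) z = 0 := by
    intro z
    have hz := hS i z
    induction hz using Submodule.span_induction with
    | mem y hy =>
      obtain ⟨m, hm, rfl⟩ := hy
      rw [LinearMap.lTensor_tmul, Submodule.mkQ_apply,
        (Submodule.Quotient.mk_eq_zero N).2 (Submodule.subset_span (by simpa using ⟨i, hm⟩)),
        TensorProduct.tmul_zero]
    | zero => exact map_zero _
    | add a b _ _ ha hb => rw [map_add, ha, hb, add_zero]
    | smul c a _ ha =>
      rw [show (N.mkQ.lTensor (B i)) (c • a) = c • (N.mkQ.lTensor (B i)) a from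
        (N.mkQ.baseChange (B i)).map_smul c a, ha, smul_zero]
  have h2 : (f.lTensor (B i)) ((1 : B i) ⊗ₜ[A] Submodule.Quotient.mk (1 : A)) = 0 := by
    rw [LinearMap.lTensor_tmul, Submodule.mapQ_apply, LinearMap.toSpanSingleton_apply, one_smul]
    have := hzero ((1 : B i) ⊗ₜ[A] x)
    rw [LinearMap.lTensor_tmul] at this
    exact this
  have h3 := Module.Flat.lTensor_preserves_injective_linearMap (M := B i) f hf
    (h2.trans (map_zero _).symm)
  have h4 := congrArg (TensorProduct.tensorQuotEquivQuotSMul (B i) J) h3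
  rw [map_zero] at h4
  have h5 : (1 : B i) ∈ (J • ⊤ : Submodule A (B i)) := by
    rw [← Submodule.Quotient.mk_eq_zero]
    rw [← h4]
    exact (TensorProduct.tensorQuotEquivQuotSMul_tmul_mk J (1 : B i) (1 : A)).trans (by rw [one_smul]) |>.symm
  rw [Ideal.smul_top_eq_map, Submodule.restrictScalars_mem] at h5
  refine q.2.ne_top ((Ideal.eq_top_iff_one _).2 (Ideal.map_le_iff_le_comap.2 ?_ h5))
  have : (PrimeSpectrum.comap (algebraMap A (B i)) q).asIdeal = p := congrArg PrimeSpectrum.asIdeal hq
  rw [← this] at hle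
  exact hle

variable {X Y : Scheme.{u}} (f : Y ⟶ X)

theorem isFT_descent [QuasiCompact f] [Flat f] [Surjective f] [IsLocallyNoetherian Y]
    (H : X.Modules) (hH : Coh.IsQCoh H) (hft : Coh.IsCoh ((Scheme.Modules.pullback f).obj H)) :
    CohB1.IsFT H := by
  haveI : H.IsQuasicoherent := hH
  refine (H10Coh.isFT_isFP_of_affineCover H (fun U : X.affineOpens => U.1)
    (iSup_affineOpens_eq_top X) (fun U => U.2) fun ⟨V, hV⟩ => ?_).1
  have hc : IsCompact ((f ⁻¹ᵁ V : Y.Opens) : Set Y) :=
    QuasiCompact.isCompact_preimage (f := f) _ V.2 hV.isCompact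
  obtain ⟨k, U, hU, hUV, hcov⟩ := H10Coh.exists_finite_affine_cover hc
  let B : ULift.{u} (Fin k) → Type u := fun i => Γ(Y, U i.down)
  letI hA : ∀ i, Algebra Γ(X, V) (B i) := fun i => (f.appLE V (U i.down) (hUV i.down)).hom.toAlgebra
  haveI hF : ∀ i, Module.Flat Γ(X, V) (B i) := fun i =>
    Flat.flat_appLE f hV (hU i.down) (hUV i.down)
  haveI hB : ∀ i, Module.Finite (B i) (B i ⊗[Γ(X, V)] Γ(H, V)) := fun i => by
    letI := Module.compHom Γ((Scheme.Modules.pullback f).obj H, U i.down) (f.appLE V (U i.down) (hUV i.down)).hom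
    haveI : IsScalarTower Γ(X, V) (B i) Γ((Scheme.Modules.pullback f).obj H, U i.down) :=
      .of_algebraMap_smul fun _ _ => rfl
    haveI : ((Scheme.Modules.pullback f).obj H).IsQuasicoherent := hft.1
    haveI := H10Coh.finite_sections _ hft.2 (hU i.down)
    exact Module.Finite.equiv (H8Props.PullSections.isBaseChange_pullLin f H (hUV i.down) hH hV (hU i.down)).equiv.symm
  refine finite_descent B (fun p => ?_) _
  obtain ⟨y, hy⟩ := f.surjective (hV.fromSpec p)
  have hyV : y ∈ f ⁻¹ᵁ V := show f y ∈ V from hy ▸ hV.range_fromSpec.le ⟨p, rfl⟩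
  obtain ⟨i, hyi⟩ := TopologicalSpace.Opens.mem_iSup.1 (hcov hyV)
  refine ⟨⟨i⟩, (hU i).primeIdealOf ⟨y, hyi⟩, hV.fromSpec.isOpenEmbedding.injective ?_⟩
  refine Eq.trans ?_ hy
  have e := IsAffineOpen.SpecMap_appLE_fromSpec f hV (hU i) (hUV i)
  have := congr($e ((hU i).primeIdealOf ⟨y, hyi⟩))
  rw [Scheme.Hom.comp_apply, Scheme.Hom.comp_apply, (hU i).fromSpec_primeIdealOf] at this
  exact this

theorem triangle [Flat f] (F : X.Modules) (G : Y.Modules) (φ : G ⟶ (Scheme.Modules.pullback f).obj F) [Mono φ]
    (H : X.Modules) (a : H ⟶ F) (b : H ⟶ (Scheme.Modules.pushforward f).obj G) [Mono a]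
    (w : a ≫ (Scheme.Modules.pullbackPushforwardAdjunction f).unit.app F =
      b ≫ (Scheme.Modules.pushforward f).map φ) :
    Mono (((Scheme.Modules.pullbackPushforwardAdjunction f).homEquiv H G).symm b) := by
  let adj := Scheme.Modules.pullbackPushforwardAdjunction f
  have e : (adj.homEquiv H G).symm b ≫ φ = (Scheme.Modules.pullback f).map a := by
    apply (adj.homEquiv H _).injective
    rw [adj.homEquiv_naturality_right, Equiv.apply_symm_apply, adj.homEquiv_unit]
    exact w.symm.trans (adj.unit.naturality a)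
  haveI : Mono ((adj.homEquiv H G).symm b ≫ φ) := by
    rw [e]
    exact (H8Props.FunDescent.mono_iff _).2 fun y =>
      (H8Props.FunDescent.injective_stalkLin_pullback_iff f a y).2 ((H8Props.FunDescent.mono_iff a).1 ‹_› (f y))
  exact mono_of_mono _ φ

/-- A fibre product as a kernel. -/
theorem isQCoh_fibreProd {X : Scheme.{u}} {F G T : X.Modules} (a : F ⟶ T) (b : G ⟶ T)
    (hF : Coh.IsQCoh F) (hG : Coh.IsQCoh G) (hT : Coh.IsQCoh T) :
    Coh.IsQCoh (Limits.pullback a b) := by
  haveI : F.IsQuasicoherent := hF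
  haveI : G.IsQuasicoherent := hG
  haveI : T.IsQuasicoherent := hT
  haveI : (F ⊞ G).IsQuasicoherent := H10Coh.isQuasicoherent_biprod F G
  let d : F ⊞ G ⟶ T := biprod.fst ≫ a - biprod.snd ≫ b
  haveI := H10Coh.isQuasicoherent_kernel d
  refine H10Coh.isQuasicoherent_of_iso (M := kernel d) (N := Limits.pullback a b) ⟨?_, ?_, ?_, ?_⟩
  · exact pullback.lift (kernel.ι d ≫ biprod.fst) (kernel.ι d ≫ biprod.snd) (sub_eq_zero.1 (by
      simpa [d, Preadditive.comp_sub] using kernel.condition d))
  · exact kernel.lift d (biprod.lift (pullback.fst a b) (pullback.snd a b))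
      (by simp [d, Preadditive.comp_sub, pullback.condition])
  · refine (cancel_mono (kernel.ι d)).1 ?_
    apply biprod.hom_ext <;> simp
  · apply pullback.hom_ext <;> simp

end


/-- Let f : Y -> X be a morphism of schemes which is quasi-compact, quasi-separated, flat and
surjective, with X and Y locally Noetherian. Let F be a quasi-coherent O_X-module, G a coherent
O_Y-module and φ : G -> f^*F an injective map of O_Y-modules. Then the O_X-module F ∩ f_*G, defined
as the fibre product of the adjunction unit F -> f_*f^*F with f_*φ : f_*G -> f_*f^*F, is coherent.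
('Coherent' is quasi-coherent of finite type, the usual notion on locally Noetherian schemes.) -/
theorem result {X Y : Scheme.{u}} (f : Y ⟶ X) [QuasiCompact f] [QuasiSeparated f] [Flat f] [Surjective f] [IsLocallyNoetherian X] [IsLocallyNoetherian Y] (F : X.Modules) (hF : Coh.IsQCoh F) (G : Y.Modules) (hG : Coh.IsCoh G) (φ : G ⟶ (Scheme.Modules.pullback f).obj F) [Mono φ] : Coh.IsCoh (Limits.pullback ((Scheme.Modules.pullbackPushforwardAdjunction f).unit.app F) ((Scheme.Modules.pushforward f).map φ)) := by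
  haveI : F.IsQuasicoherent := hF
  haveI : G.IsQuasicoherent := hG.1
  let T := (Scheme.Modules.pullback f).obj F
  haveI : T.IsQuasicoherent := Groth.Agent.H29Fitt.isQCoh_pullback f F hF
  haveI := Groth.Agent.H10Coh.isQuasicoherent_pushforward f G
  haveI := Groth.Agent.H10Coh.isQuasicoherent_pushforward f T
  let a := (Scheme.Modules.pullbackPushforwardAdjunction f).unit.app F
  let b := (Scheme.Modules.pushforward f).map φ
  have hq : Coh.IsQCoh (Limits.pullback a b) :=
    isQCoh_fibreProd a b hF ‹_› ‹_›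
  haveI : Mono b := inferInstance
  haveI : Mono (Limits.pullback.fst a b) := inferInstance
  refine ⟨hq, isFT_descent f _ hq ?_⟩
  haveI := triangle f F G φ (Limits.pullback a b) (Limits.pullback.fst a b) (Limits.pullback.snd a b)
    Limits.pullback.condition
  exact Groth.Agent.H10Coh.isCoh_of_mono
    (((Scheme.Modules.pullbackPushforwardAdjunction f).homEquiv (Limits.pullback a b) G).symm
      (Limits.pullback.snd a b))
    (Groth.Agent.H29Fitt.isQCoh_pullback f _ hq) hG

end Groth.Agent.S7502
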