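import Groth.Statements.S7509
import Groth.Agent.H19Grp.GrpdImage

set_option autoImplicit false
set_option maxHeartbeats 1000000
set_option synthInstance.maxHeartbeats 100000
set_option linter.style.haveILetI false
set_option backward.isDefEq.respectTransparency false
universe u
open CategoryTheory CategoryTheory.Limits AlgebraicGeometry
open Grpd

namespace Groth.Agent.S7509

open Groth.Agent.H19Grp.GrpdImage


/-- Let (U, R, s, t, c) be a groupoid scheme over S with U the spectrum of a field and R quasi-compact
(equivalently s, t quasi-compact), and let Z be the scheme-theoretic image of j = (t, s) : R -> U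
x_S U. Then (U, Z, pr_0|_Z, pr_1|_Z, pr_02) is a groupoid scheme over S; stated as: there are a
groupoid scheme G' over S and a morphism of groupoid schemes φ : (U, R, s, t, c) -> G' which is an
isomorphism on object schemes, such that j' : G'.R -> G'.U x_S G'.U is a closed immersion whose
kernel ideal sheaf equals the kernel ideal sheaf of j followed by the induced isomorphism U x_S U ->
G'.U x_S G'.U (so G'.R is the scheme-theoretic image of j, transported). (A groupoid scheme carries
U, R, s, t, c, e, i over S with the groupoid axioms on T-points; c is defined on the fibre product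
of s and t and sends a pair (a, b) with s(a) = t(b) to a composed with b.) -/
theorem result (S : Scheme.{u}) (G : Grpd.GroupoidScheme S) (k : Type u) [Field k] (eU : G.U ≅ Spec (CommRingCat.of k)) [CompactSpace G.R] : ∃ (G' : Grpd.GroupoidScheme S) (φ : Grpd.GroupoidScheme.Hom G G'), IsIso φ.fU ∧ IsClosedImmersion G'.j ∧ G'.j.ker = (G.j ≫ pullback.map G.pU G.pU G'.pU G'.pU φ.fU φ.fU (𝟙 S) ((Category.comp_id _).trans φ.fU_over.symm) ((Category.comp_id _).trans φ.fU_over.symm)).ker := by
  haveI : IsIso (toPair G).fU := inferInstanceAs (IsIso (𝟙 G.U))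
  haveI : IsAffine G.U := .of_isIso eU.hom
  haveI : QuasiCompact G.j := by
    haveI : QuasiCompact G.s := by
      haveI : QuasiCompact (G.s ≫ terminal.from G.U) :=
        (quasiCompact_iff_compactSpace (f := G.s ≫ terminal.from G.U)).2 inferInstance
      exact QuasiCompact.of_comp G.s (terminal.from G.U)
    haveI : IsSeparated (G.pU ≫ terminal.from S) := by rw [terminal.comp_from]; infer_instance
    haveI : IsSeparated G.pU := IsSeparated.of_comp G.pU (terminal.from S)
    haveI : QuasiCompact (G.j ≫ pullback.snd G.pU G.pU) := by rw [Grpd.GroupoidScheme.j, pullback.lift_snd]; infer_instance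
    exact QuasiCompact.of_comp G.j (pullback.snd G.pU G.pU)
  haveI : QuasiCompact (toPair G).fR := ‹QuasiCompact G.j›
  obtain ⟨G', ψ, φ, h₁, h₂, h₃, h₄, h₅⟩ := exists_schemImage (toPair G) (G₂ := pair G.pU) eU
  let μ := pullback.map G'.pU G'.pU G.pU G.pU ψ.fU ψ.fU (𝟙 S)
    ((Category.comp_id _).trans ψ.fU_over.symm) ((Category.comp_id _).trans ψ.fU_over.symm)
  have hφψ : φ.fU ≫ ψ.fU = 𝟙 G.U := h₂
  haveI : IsIso ψ.fU := h₁
  haveI hφ : IsIso φ.fU := by rw [(IsIso.eq_comp_inv _).mpr hφψ]; infer_instance
  haveI : IsIso μ := inferInstance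
  have e : G'.j ≫ μ = ψ.fR := by
    apply pullback.hom_ext
    · exact Eq.trans (by simp [μ, Grpd.GroupoidScheme.j]) ψ.comm_t.symm
    · exact Eq.trans (by simp [μ, Grpd.GroupoidScheme.j]) ψ.comm_s.symm
  haveI : IsClosedImmersion G'.j := by
    haveI : IsClosedImmersion (G'.j ≫ μ) := by rw [e]; exact h₃
    exact IsClosedImmersion.of_comp G'.j μ
  refine ⟨G', φ, hφ, inferInstance, ?_⟩
  have eφ : pullback.map G.pU G.pU G'.pU G'.pU φ.fU φ.fU (𝟙 S) ((Category.comp_id _).trans φ.fU_over.symm)
      ((Category.comp_id _).trans φ.fU_over.symm) = inv μ := by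
    apply IsIso.eq_inv_of_inv_hom_id
    apply pullback.hom_ext
    · simp [μ, hφψ]
    · simp [μ, hφψ]
  rw [eφ, Scheme.Hom.ker_comp, show G.j.ker = ψ.fR.ker from h₅.symm, ← Scheme.Hom.ker_comp,
    show ψ.fR ≫ inv μ = G'.j by rw [← e, Category.assoc, IsIso.hom_inv_id, Category.comp_id]]

end Groth.Agent.S7509
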