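import Groth.Statements.S7510
import Groth.Agent.H13Grpd.OfScheme

set_option autoImplicit false
set_option maxHeartbeats 1000000
set_option synthInstance.maxHeartbeats 100000
set_option linter.style.haveILetI false
set_option backward.isDefEq.respectTransparency false
universe u
open CategoryTheory CategoryTheory.Limits AlgebraicGeometry
open Grpd

namespace Groth.Agent.S7510

theorem comp_lift {X Y Z T T' : Scheme.{u}} {f : X ⟶ Z} {g : Y ⟶ Z} (m : T' ⟶ T) (a : T ⟶ X) (b : T ⟶ Y)
    (w : a ≫ f = b ≫ g) : m ≫ pullback.lift a b w =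
      pullback.lift (m ≫ a) (m ≫ b) (by rw [Category.assoc, w, Category.assoc]) := by
  apply pullback.hom_ext <;> simp


/-- Let (U, R, s, t, c, e, i) be a groupoid scheme over S and g : U' -> U a morphism; write h = s ∘ pr_1
: U' x_(g,U,t) R -> U. Let P, Q, R be properties of morphisms of schemes, with P invariant under
composition with isomorphisms, such that (1) R implies Q, (2) Q is stable under base change and
composition, (3) every morphism f : X -> Y with Q has a largest open W(P, f) of X on which the
restriction of f has P (given here as a function W with these two properties), and (4) for f with Q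
and a base change along Y' -> Y with R, the preimage of W(P, f) in X x_Y Y' is W(P, f') for the base
change f'. If s, t have R and g has Q, then there is an open W of U' whose preimage in U' x_(g,U,t)
R equals W(P, h). (The published statement speaks of arbitrary properties of morphisms; this row
asks P to be invariant under composition with isomorphisms, which the proof uses to identify the
largest opens on the two isomorphic fibre products of h with t and with s.) (A groupoid scheme
carries U, R, s, t, c, e, i over S with the groupoid axioms on T-points; c is defined on the fibre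
product of s and t and sends a pair (a, b) with s(a) = t(b) to a composed with b.) -/
theorem result (S : Scheme.{u}) (G : Grpd.GroupoidScheme S) {U' : Scheme.{u}} (g : U' ⟶ G.U) (P Q R : MorphismProperty Scheme.{u}) [P.RespectsIso] (hRQ : R ≤ Q) [Q.IsStableUnderBaseChange] [Q.IsStableUnderComposition] (W : ∀ {X Y : Scheme.{u}} (f : X ⟶ Y), Q f → X.Opens) (hWP : ∀ {X Y : Scheme.{u}} (f : X ⟶ Y) (hf : Q f), P ((W f hf).ι ≫ f)) (hWmax : ∀ {X Y : Scheme.{u}} (f : X ⟶ Y) (hf : Q f) (V : X.Opens), P (V.ι ≫ f) → V ≤ W f hf) (hWbc : ∀ {X Y Y' : Scheme.{u}} (f : X ⟶ Y) (hf : Q f) (b : Y' ⟶ Y), R b → ∀ hf' : Q (pullback.snd f b), pullback.fst f b ⁻¹ᵁ W f hf = W (pullback.snd f b) hf') (hs : R G.s) (ht : R G.t) (hg : Q g) (hh : Q (pullback.snd g G.t ≫ G.s)) : ∃ V : U'.Opens, pullback.fst g G.t ⁻¹ᵁ V = W (pullback.snd g G.t ≫ G.s) hh := by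
  let pr := pullback.fst g G.t
  let h := pullback.snd g G.t ≫ G.s
  have ht' : Q (pullback.snd h G.t) := MorphismProperty.pullback_snd h G.t hh
  have hs' : Q (pullback.snd h G.s) := MorphismProperty.pullback_snd h G.s hh
  -- composition on the right
  have hw : (pullback.fst h G.t ≫ pullback.snd g G.t) ≫ G.s = pullback.snd h G.t ≫ G.t := by
    rw [Category.assoc]; exact pullback.condition
  let comp := pullback.lift (pullback.fst h G.t ≫ pullback.snd g G.t) (pullback.snd h G.t) hw ≫ G.c
  let Φ : pullback h G.t ⟶ pullback h G.s := pullback.lift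
    (pullback.lift (pullback.fst h G.t ≫ pr) comp
      (by rw [G.comp_t, Category.assoc, pullback.condition, Category.assoc]))
    (pullback.snd h G.t) (by rw [← Category.assoc, pullback.lift_snd, G.comp_s])
  have hwi : pullback.fst h G.s ≫ pullback.snd g G.t ≫ G.s = (pullback.snd h G.s ≫ G.i) ≫ G.t := by
    rw [Category.assoc, G.i_t]; exact pullback.condition
  have hwi' : (pullback.fst h G.s ≫ pullback.snd g G.t) ≫ G.s = (pullback.snd h G.s ≫ G.i) ≫ G.t := by
    rw [Category.assoc]; exact hwi
  let Ψ : pullback h G.s ⟶ pullback h G.t := pullback.lift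
    (pullback.lift (pullback.fst h G.s ≫ pr)
      (pullback.lift (pullback.fst h G.s ≫ pullback.snd g G.t) (pullback.snd h G.s ≫ G.i) hwi' ≫ G.c)
      (by rw [G.comp_t, Category.assoc, pullback.condition, Category.assoc]))
    (pullback.snd h G.s) (by rw [← Category.assoc, pullback.lift_snd, G.comp_s, Category.assoc, G.i_s])
  have key : ∀ {T : Scheme.{u}} (a b : T ⟶ G.R) (hab : a ≫ G.s = b ≫ G.t),
      pullback.lift (pullback.lift a b hab ≫ G.c) (b ≫ G.i)
        (by rw [G.comp_s, Category.assoc, G.i_t]) ≫ G.c = a := fun a b hab => by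
    rw [G.assoc a b (b ≫ G.i) hab (by rw [Category.assoc, G.i_t]),
      Groth.Agent.H13Grpd.comp_congr G _ (show a ≫ G.s = (a ≫ G.s ≫ G.e) ≫ G.t by
        rw [Category.assoc, Category.assoc, G.e_t, Category.comp_id]) rfl
        (by rw [G.comp_i, ← Category.assoc, ← hab, Category.assoc])]
    exact G.comp_e a
  have key' : ∀ {T : Scheme.{u}} (a b : T ⟶ G.R) (hab : a ≫ G.s = (b ≫ G.i) ≫ G.t),
      pullback.lift (pullback.lift a (b ≫ G.i) hab ≫ G.c) b
        (by rw [G.comp_s, Category.assoc, G.i_s]) ≫ G.c = a := fun a b hab => by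
    rw [G.assoc a (b ≫ G.i) b hab (by rw [Category.assoc, G.i_s]),
      Groth.Agent.H13Grpd.comp_congr G _ (show a ≫ G.s = (a ≫ G.s ≫ G.e) ≫ G.t by
        rw [Category.assoc, Category.assoc, G.e_t, Category.comp_id]) rfl
        (by rw [G.i_comp, ← Category.assoc a, hab, Category.assoc b, G.i_t, Category.assoc])]
    exact G.comp_e a
  haveI : IsIso Φ := by
    have e1 : Φ ≫ Ψ = 𝟙 _ := by
      apply pullback.hom_ext
      · apply pullback.hom_ext
        · simp [Φ, Ψ, pr]
        · simp only [Category.assoc, Category.id_comp, Φ, Ψ, pullback.lift_fst_assoc, pullback.lift_snd, pullback.lift_fst]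
          rw [← Category.assoc, comp_lift]
          refine Eq.trans ?_ (key (pullback.fst h G.t ≫ pullback.snd g G.t) (pullback.snd h G.t) hw)
          congr 1
          apply pullback.hom_ext <;> simp [comp]
      · simp [Φ, Ψ]
    have e2 : Ψ ≫ Φ = 𝟙 _ := by
      apply pullback.hom_ext
      · apply pullback.hom_ext
        · simp [Φ, Ψ, pr]
        · simp only [Category.assoc, Category.id_comp, Φ, Ψ, pullback.lift_fst_assoc, pullback.lift_snd, pullback.lift_fst, comp]
          rw [← Category.assoc, comp_lift]
          refine Eq.trans ?_ (key' (pullback.fst h G.s ≫ pullback.snd g G.t) (pullback.snd h G.s) hwi')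
          congr 1
          apply pullback.hom_ext <;> simp
      · simp [Φ, Ψ]
    exact ⟨⟨Ψ, e1, e2⟩⟩
  have hΦ : Φ ≫ pullback.snd h G.s = pullback.snd h G.t := pullback.lift_snd _ _ _
  have hW : Φ ⁻¹ᵁ W (pullback.snd h G.s) hs' = W (pullback.snd h G.t) ht' := by
    apply le_antisymm
    · refine hWmax _ _ _ ?_
      rw [← hΦ, ← Category.assoc, ← morphismRestrict_ι, Category.assoc, P.cancel_left_of_respectsIso]
      exact hWP _ _
    · intro x hx
      have h1 : Φ ''ᵁ W (pullback.snd h G.t) ht' ≤ W (pullback.snd h G.s) hs' := by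
        refine hWmax _ _ _ ?_
        rw [← P.cancel_left_of_respectsIso (Φ.isoImage (W (pullback.snd h G.t) ht')).hom, ← Category.assoc,
          Scheme.Hom.isoImage_hom_ι, Category.assoc, hΦ]
        exact hWP _ _
      exact h1 ⟨x, hx, rfl⟩
  -- saturation
  have hsat : ∀ x y : ↥(pullback g G.t), pr x = pr y → (x ∈ W h hh ↔ y ∈ W h hh) := by
    intro x y hxy
    obtain ⟨z, hzx, hzy⟩ := Scheme.Pullback.exists_preimage_pullback (f := pr) (g := pr) x y hxy
    let a := pullback.fst pr pr ≫ pullback.snd g G.t
    let b := pullback.snd pr pr ≫ pullback.snd g G.t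
    have hab : (a ≫ G.i) ≫ G.s = b ≫ G.t := by
      simp only [a, b, Category.assoc, G.i_s]
      rw [← pullback.condition, ← Category.assoc, pullback.condition, Category.assoc, pullback.condition]
    let ψ : pullback pr pr ⟶ pullback h G.t := pullback.lift (pullback.fst pr pr)
      (pullback.lift (a ≫ G.i) b hab ≫ G.c)
      (by rw [G.comp_t, Category.assoc, G.i_t]; simp [a, h])
    have hψ : ψ ≫ Φ ≫ pullback.fst h G.s = pullback.snd pr pr := by
      apply pullback.hom_ext
      · simp [ψ, Φ, pr, pullback.condition]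
      · simp only [Category.assoc, Φ, ψ, pullback.lift_fst_assoc, pullback.lift_snd, pullback.lift_fst, comp]
        rw [← Category.assoc, comp_lift]
        show _ = b
        have hai : a ≫ G.s = (a ≫ G.i) ≫ G.t := by simp only [Category.assoc, G.i_t]
        rw [Groth.Agent.H13Grpd.comp_congr G _ (show a ≫ G.s = (pullback.lift (a ≫ G.i) b hab ≫ G.c) ≫ G.t by
            rw [G.comp_t, hai]) (α' := a) (β' := pullback.lift (a ≫ G.i) b hab ≫ G.c) (by simp [a]) (by simp),
          ← G.assoc a (a ≫ G.i) b hai hab,
          Groth.Agent.H13Grpd.comp_congr G _ (show (b ≫ G.t ≫ G.e) ≫ G.s = b ≫ G.t by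
            simp only [Category.assoc, G.e_s, Category.comp_id]) (by
              rw [G.comp_i, ← Category.assoc, ← Category.assoc b]
              congr 1
              rw [← hab]; simp only [Category.assoc, G.i_s]) rfl]
        exact G.e_comp b
    have h1 := SetLike.ext_iff.1 (hWbc h hh G.t ht ht') (ψ z)
    have h2 := SetLike.ext_iff.1 (hWbc h hh G.s hs hs') (Φ (ψ z))
    have e1 : pullback.fst h G.t (ψ z) = x := by
      rw [← Scheme.Hom.comp_apply, pullback.lift_fst, hzx]
    have e2 : pullback.fst h G.s (Φ (ψ z)) = y := by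
      rw [← Scheme.Hom.comp_apply, ← Scheme.Hom.comp_apply, hψ, hzy]
    have h3 := SetLike.ext_iff.1 hW (ψ z)
    show x ∈ W h hh ↔ y ∈ W h hh
    rw [← e1, ← e2]
    exact h1.trans (h3.symm.trans h2.symm)
  let σ : U' ⟶ pullback g G.t := pullback.lift (𝟙 _) (g ≫ G.e) (by rw [Category.id_comp, Category.assoc, G.e_t, Category.comp_id])
  refine ⟨σ ⁻¹ᵁ W h hh, ?_⟩
  ext x
  refine hsat (σ (pr x)) x ?_
  rw [← Scheme.Hom.comp_apply, pullback.lift_fst]
  rfl

end Groth.Agent.S7510
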