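import Groth.Statements.S7512
import Groth.Agent.H18HTop.Fpqc

set_option autoImplicit false
universe w u
open HTop

namespace Groth.Agent.S7512

open CategoryTheory CategoryTheory.Limits AlgebraicGeometry in
/-- Let {f_i : T_i -> T} be a family of flat morphisms of schemes. Assume that for every affine scheme Z
and every morphism h : Z -> T there is a standard fpqc covering of Z (a finite family of flat
morphisms Z_j -> Z with Z_j affine whose images cover Z) refining the family of base changes {T_i
x_T Z -> Z} (every Z_j -> Z factors through some T_i compatibly with h). Then {f_i : T_i -> T} is an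
fpqc covering (in Mathlib's sense). -/
theorem result {T : Scheme.{u}} (E : PreZeroHypercover.{w} T) (hflat : ∀ i, Flat (E.f i)) (href : ∀ (Z : Scheme.{u}) [IsAffine Z] (h : Z ⟶ T), ∃ F : PreZeroHypercover.{0} Z, Finite F.I₀ ∧ (∀ j, IsAffine (F.X j)) ∧ (∀ j, Flat (F.f j)) ∧ (∀ z : Z, ∃ (j : F.I₀) (x : F.X j), F.f j x = z) ∧ HTop.RefinesOver h F E) : E.presieve₀ ∈ Scheme.fpqcPrecoverage T := by
  exact H18HTop.mem_fpqc_of_refining_affines E hflat href

end Groth.Agent.S7512
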