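import Groth.Statements.S7513
import Groth.Agent.H19Grp.FittStrataMain
import Groth.Agent.H29Fitt.Rank
import Mathlib.AlgebraicGeometry.Morphisms.FlatRank

set_option autoImplicit false
set_option maxHeartbeats 1000000
set_option synthInstance.maxHeartbeats 100000
set_option linter.style.haveILetI false
set_option backward.isDefEq.respectTransparency false
universe u
open CategoryTheory CategoryTheory.Limits AlgebraicGeometry
open Grpd

namespace Groth.Agent.S7513

open Groth.Agent.H19Grp.FittStrata TopologicalSpace TensorProduct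

/-- The zeroth Fitting ideal annihilates the module. -/
theorem smul_eq_zero_of_mem {A M : Type u} [CommRing A] [AddCommGroup M] [Module A M] {d : A}
    (hd : d ∈ Fitt.ideal A M 0) (m : M) : d • m = 0 := by
  have hle : Fitt.ideal A M 0 ≤ Module.annihilator A M := by
    refine Ideal.span_le.2 ?_
    rintro d ⟨n, x, a, hx, ha, rfl⟩
    rw [SetLike.mem_coe, Module.mem_annihilator]
    intro m
    have hm : m ∈ Submodule.span A (Set.range x) := hx ▸ Submodule.mem_top
    induction hm using Submodule.span_induction with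
    | mem _ h =>
      obtain ⟨j, rfl⟩ := h
      have h : ∑ i, a.adjugate j i • ∑ l, a i l • x l = 0 :=
        Finset.sum_eq_zero fun i _ => by rw [ha i (by omega), smul_zero]
      simp only [Finset.smul_sum, smul_smul] at h
      rw [Finset.sum_comm] at h
      simp only [← Finset.sum_smul, ← Matrix.mul_apply, Matrix.adjugate_mul] at h
      simpa [Matrix.smul_apply, Matrix.one_apply, ite_smul] using h
    | zero => exact smul_zero _
    | add _ _ _ _ h₁ h₂ => rw [smul_add, h₁, h₂, add_zero]
    | smul c _ _ h => rw [smul_comm, h, smul_zero]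
  exact Module.mem_annihilator.1 (hle hd) m

/-- Over an affine base, vanishing and unit Fitting ideals give a finite locally free map of known rank. -/
theorem local_flf {R U : Scheme.{u}} (s : R ⟶ U) [IsFinite s] {Y : Scheme.{u}} [IsAffine Y] (g : Y ⟶ U) (r : ℕ)
    (h0 : ∀ k, k ≤ r → fit s g k = ⊥) (h1 : fit s g (r + 1) = ⊤) :
    Mor2.IsFinLocFreeOfDeg (r + 1) (pullback.snd s g) := by
  haveI : IsAffine (pullback s g) := isAffine_of_isAffineHom (pullback.snd s g)
  letI := (pullback.snd s g).appTop.hom.toAlgebra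
  haveI : Module.Finite Γ(Y, ⊤) Γ(pullback s g, ⊤) := (pullback.snd s g).finite_appTop
  obtain ⟨hfp, hproj⟩ := projective_of_fitt (A := Γ(Y, ⊤)) (M := Γ(pullback s g, ⊤)) (r + 1)
    (fun k hk => h0 k (by omega)) h1
  have hflat : Flat (pullback.snd s g) :=
    (HasRingHomProperty.iff_of_isAffine (P := @Flat)).2 (inferInstanceAs (Module.Flat Γ(Y, ⊤) Γ(pullback s g, ⊤)))
  have hlfp : LocallyOfFinitePresentation (pullback.snd s g) :=
    (HasRingHomProperty.iff_of_isAffine (P := @LocallyOfFinitePresentation)).2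
      (inferInstanceAs (Algebra.FinitePresentation Γ(Y, ⊤) Γ(pullback s g, ⊤)))
  refine ⟨⟨inferInstance, hflat, hlfp⟩, fun a => ?_⟩
  haveI : IsFinite (Spec.map (pullback.snd s g).appTop) := (IsFinite.SpecMap_iff _).2 (pullback.snd s g).finite_appTop
  haveI : Flat (Spec.map (pullback.snd s g).appTop) := Flat.SpecMap_iff.2 (pullback.snd s g).flat_appTop
  rw [Scheme.Hom.finrank_of_isPullback (pullback s g).isoSpec.hom (pullback.snd s g)
      (Spec.map (pullback.snd s g).appTop) Y.isoSpec.hom
      (IsPullback.of_horiz_isIso ⟨Scheme.isoSpec_hom_naturality (pullback.snd s g)⟩) a]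
  let p : PrimeSpectrum Γ(Y, ⊤) := Y.isoSpec.hom a
  show Scheme.Hom.finrank (Spec.map (CommRingCat.ofHom (algebraMap Γ(Y, ⊤) Γ(pullback s g, ⊤)))) p = r + 1
  rw [Scheme.Hom.finrank_SpecMap_algebraMap, Module.rankAtStalk_eq]
  refine le_antisymm ((H29Fitt.not_le_prime_iff_finrank_le (M := Γ(pullback s g, ⊤)) (r + 1) p.asIdeal).1 ?_) ?_
  · rw [show Fitt.ideal Γ(Y, ⊤) Γ(pullback s g, ⊤) (r + 1) = ⊤ from h1, top_le_iff]
    exact p.isPrime.ne_top
  · by_contra! hlt
    refine (H29Fitt.not_le_prime_iff_finrank_le (M := Γ(pullback s g, ⊤)) r p.asIdeal).2 (Nat.lt_succ_iff.1 hlt) ?_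
    rw [show Fitt.ideal Γ(Y, ⊤) Γ(pullback s g, ⊤) r = ⊥ from h0 r le_rfl]
    exact bot_le


/-- Let (U, R, s, t, c) be a groupoid scheme over S with s and t finite. Then there are closed
subschemes U = Z_0 ⊇ Z_1 ⊇ Z_2 ⊇ ..., each invariant under R, (given by quasi-coherent ideal sheaves
I_0 = 0 ≤ I_1 ≤ I_2 ≤ ...) with empty intersection such that for every r the restriction of s over
the locally closed stratum Z_r minus Z_(r+1) (the open of the subscheme Z_r complementary to the
support of Z_(r+1)) is finite locally free of rank r + 1. R-invariance of Z_r is expressed as an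
isomorphism between the pullbacks of s and of t along Z_r -> U compatible with the maps to R;
'finite locally free of rank n' is finite, flat, locally of finite presentation with constant rank
n. (A groupoid scheme carries U, R, s, t, c, e, i over S with the groupoid axioms on T-points; c is
defined on the fibre product of s and t and sends a pair (a, b) with s(a) = t(b) to a composed with
b.) -/
theorem result (S : Scheme.{u}) (G : Grpd.GroupoidScheme S) [IsFinite G.s] [IsFinite G.t] : ∃ Z : ℕ → G.U.IdealSheafData, Z 0 = ⊥ ∧ Monotone Z ∧ (⋂ r, ((Z r).support : Set G.U)) = ∅ ∧ (∀ r, ∃ φ : pullback G.s (Z r).subschemeι ≅ pullback G.t (Z r).subschemeι, φ.hom ≫ pullback.fst G.t (Z r).subschemeι = pullback.fst G.s (Z r).subschemeι) ∧ ∀ r, Mor2.IsFinLocFreeOfDeg (r + 1) (pullback.snd G.s (((Z r).subschemeι ⁻¹ᵁ (Z (r + 1)).support.compl).ι ≫ (Z r).subschemeι)) := by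
  refine ⟨fun r => fittData G.s r, ?_, fun i j hij W => Ideal.map_mono (fitTop_mono _ hij), ?_, fun r => ?_,
    fun r => ?_⟩
  · ext W : 2
    haveI : IsAffine W.1.toScheme := W.2
    show (fit G.s W.1.ι 0).map W.1.topIso.hom.hom = ⊥
    rw [show fit G.s W.1.ι 0 = ⊥ from ?_, Ideal.map_bot]
    refine le_bot_iff.1 fun d hd => ?_
    letI := (pullback.snd G.s W.1.ι).appTop.hom.toAlgebra
    have h1 : (pullback.snd G.s W.1.ι).appTop d = 0 := by
      have := smul_eq_zero_of_mem hd (1 : Γ(pullback G.s W.1.ι, ⊤))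
      rwa [Algebra.smul_def, mul_one] at this
    have h2 := congrArg Scheme.Hom.appTop
      (pullback.lift_snd (f := G.s) (g := W.1.ι) (W.1.ι ≫ G.e) (𝟙 _) (by simp [G.e_s]))
    have h3 := ConcreteCategory.congr_hom h2 d
    rw [Scheme.Hom.comp_appTop, CommRingCat.comp_apply, h1, map_zero] at h3
    simpa using h3.symm
  · refine Set.eq_empty_iff_forall_notMem.2 fun x hx => ?_
    obtain ⟨n, hn⟩ := exists_notMem_support G.s x
    exact hn (Set.mem_iInter.1 hx n)
  · obtain ⟨J, hJ⟩ : ∃ J, J = fittData G.s r := ⟨_, rfl⟩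
    have lift : ∀ {a b : G.R ⟶ G.U}, J.comap a = J.comap b → ∀ {P : Scheme.{u}} (h : P ⟶ G.R)
        (q : P ⟶ J.subscheme), h ≫ a = q ≫ J.subschemeι → ∃ q' : P ⟶ J.subscheme, h ≫ b = q' ≫ J.subschemeι := by
      intro a b hab P h q w
      have h0 : J.comap (h ≫ b) = ⊥ := by
        rw [Scheme.IdealSheafData.comap_comp, ← hab, ← Scheme.IdealSheafData.comap_comp, w]
        refine le_bot_iff.1 (Scheme.IdealSheafData.le_map_iff_comap_le.1 ?_)
        rw [Scheme.IdealSheafData.map_bot]
        exact J.ker_subschemeι.symm.le.trans (Scheme.Hom.le_ker_comp _ _)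
      have hker : J.subschemeι.ker ≤ (h ≫ b).ker := by
        rw [Scheme.IdealSheafData.ker_subschemeι, ← Scheme.IdealSheafData.map_bot]
        exact Scheme.IdealSheafData.le_map_iff_comap_le.2 h0.le
      exact ⟨IsClosedImmersion.lift J.subschemeι (h ≫ b) hker, (IsClosedImmersion.lift_fac _ _ _).symm⟩
    obtain ⟨q, hq⟩ := lift (hJ ▸ fittData_invariant G r) (pullback.fst G.s J.subschemeι)
      (pullback.snd G.s J.subschemeι) pullback.condition
    obtain ⟨q', hq'⟩ := lift (hJ ▸ (fittData_invariant G r).symm) (pullback.fst G.t J.subschemeι)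
      (pullback.snd G.t J.subschemeι) pullback.condition
    subst hJ
    exact ⟨⟨pullback.lift _ q hq, pullback.lift _ q' hq',
      (cancel_mono (pullback.fst G.s (fittData G.s r).subschemeι)).1 (by simp),
      (cancel_mono (pullback.fst G.t (fittData G.s r).subschemeι)).1 (by simp)⟩, pullback.lift_fst _ _ _⟩
  · let O := (fittData G.s r).subschemeι ⁻¹ᵁ (fittData G.s (r + 1)).support.compl
    let g : O.toScheme ⟶ G.U := O.ι ≫ (fittData G.s r).subschemeι
    show Mor2.IsFinLocFreeOfDeg (r + 1) (pullback.snd G.s g)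
    have hloc : ∀ o : O.toScheme, ∃ A : O.toScheme.Opens, o ∈ A ∧
        Mor2.IsFinLocFreeOfDeg (r + 1) (pullback.snd G.s (A.ι ≫ g)) := by
      intro o
      obtain ⟨W, hW, hoW, -⟩ := exists_isAffineOpen_mem_and_subset (x := g o) (U := (⊤ : G.U.Opens)) trivial
      obtain ⟨A, hA, hoA, hAW⟩ := exists_isAffineOpen_mem_and_subset (x := o) (U := g ⁻¹ᵁ W) hoW
      haveI : IsAffine A.toScheme := hA
      have hle : (⊤ : A.toScheme.Opens) ≤ (A.ι ≫ g) ⁻¹ᵁ W := fun a _ => hAW a.2
      refine ⟨A, hoA, local_flf G.s _ r (fun k hk => ?_) ?_⟩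
      · refine le_bot_iff.1 ((fitTop_mono _ hk).trans ?_)
        show fit G.s (A.ι ≫ g) r ≤ ⊥
        rw [← fittData_comap_affine G.s _ ⟨W, hW⟩ hle]
        have hb : (fittData G.s r).comap (A.ι ≫ g) = ⊥ := by
          refine le_bot_iff.1 (Scheme.IdealSheafData.le_map_iff_comap_le.1 ?_)
          rw [Scheme.IdealSheafData.map_bot]
          refine (fittData G.s r).ker_subschemeι.symm.le.trans ?_
          rw [show A.ι ≫ g = (A.ι ≫ O.ι) ≫ (fittData G.s r).subschemeι from (Category.assoc _ _ _).symm]
          exact Scheme.Hom.le_ker_comp _ _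
        rw [hb]
        exact le_of_eq rfl
      · show fit G.s (A.ι ≫ g) (r + 1) = ⊤
        rw [← fittData_comap_affine G.s _ ⟨W, hW⟩ hle]
        refine ideal_eq_top_of_disjoint _ _ fun a _ ha => ?_
        rw [Scheme.IdealSheafData.support_comap] at ha
        exact (A.ι a).2 ha
    choose A hA hAf using hloc
    have htop : iSup A = ⊤ := top_le_iff.1 fun w _ => Opens.mem_iSup.2 ⟨w, hA w⟩
    have hP : ∀ o : O.toScheme, IsPullback
        (pullback.lift (pullback.fst G.s ((A o).ι ≫ g)) (pullback.snd G.s ((A o).ι ≫ g) ≫ (A o).ι)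
          (by rw [Category.assoc, pullback.condition]))
        (pullback.snd G.s ((A o).ι ≫ g)) (pullback.snd G.s g) (A o).ι := fun o =>
      IsPullback.of_right (by simpa using IsPullback.of_hasPullback G.s ((A o).ι ≫ g))
        (pullback.lift_snd _ _ _) (IsPullback.of_hasPullback G.s g)
    have hr : ∀ (P : MorphismProperty Scheme.{u}) [P.RespectsIso] (o : O.toScheme),
        P (pullback.snd G.s ((A o).ι ≫ g)) → P (pullback.snd G.s g ∣_ A o) := by
      intro P _ o h
      have h' := (isPullback_morphismRestrict (pullback.snd G.s g) (A o)).flip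
      rw [← h'.isoIsPullback_hom_snd _ _ (hP o)]
      exact P.cancel_left_of_respectsIso _ _ |>.2 h
    haveI hfl : Flat (pullback.snd G.s g) := IsZariskiLocalAtTarget.of_iSup_eq_top (P := @Flat) A htop
      fun o => hr @Flat o (hAf o).1.2.1
    refine ⟨⟨inferInstance, hfl, IsZariskiLocalAtTarget.of_iSup_eq_top (P := @LocallyOfFinitePresentation) A htop
      fun o => hr @LocallyOfFinitePresentation o (hAf o).1.2.2⟩, fun o => ?_⟩
    rw [← (hAf o).2 ⟨o, hA o⟩]
    exact (Scheme.Hom.finrank_of_isPullback _ _ (pullback.snd G.s g) (A o).ι (hP o) ⟨o, hA o⟩).symm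

end Groth.Agent.S7513
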