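import Groth.Statements.S7514


set_option autoImplicit false
set_option maxHeartbeats 1000000
set_option synthInstance.maxHeartbeats 100000
set_option linter.style.haveILetI false
set_option backward.isDefEq.respectTransparency false
universe u
open CategoryTheory CategoryTheory.Limits AlgebraicGeometry
open Grpd

namespace Groth.Agent.S7514

/-- An unramified morphism which is injective on geometric points is a monomorphism. -/
theorem mono_of_injective_points {X Y : Scheme.{u}} (f : X ⟶ Y) [LocallyOfFiniteType f] [FormallyUnramified f]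
    (h : ∀ (k : Type u) [Field k] [IsAlgClosed k],
      Function.Injective (fun r : Spec (CommRingCat.of k) ⟶ X => r ≫ f)) : Mono f := by
  haveI : Surjective (pullback.diagonal f) := by
    rw [surjective_iff]
    intro z
    let φ₀ := (pullback f f).fromSpecResidueField z
    let ι₀ : Spec (CommRingCat.of (AlgebraicClosure ((pullback f f).residueField z))) ⟶
        Spec ((pullback f f).residueField z) :=
      Spec.map (CommRingCat.ofHom (algebraMap ((pullback f f).residueField z) _))
    have h₀ : (ι₀ ≫ φ₀) ≫ pullback.fst f f = (ι₀ ≫ φ₀) ≫ pullback.snd f f :=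
      h _ (by simp [pullback.condition])
    have h₁ : ι₀ ≫ φ₀ = ((ι₀ ≫ φ₀) ≫ pullback.fst f f) ≫ pullback.diagonal f := by
      apply pullback.hom_ext
      · simp
      · simp only [Category.assoc, pullback.diagonal_snd, Category.comp_id]
        simpa [Category.assoc] using h₀.symm
    refine ⟨((ι₀ ≫ φ₀) ≫ pullback.fst f f) (IsLocalRing.closedPoint _), ?_⟩
    rw [← Scheme.Hom.comp_apply, ← h₁, Scheme.Hom.comp_apply]
    exact Scheme.fromSpecResidueField_apply ..
  haveI : IsIso (pullback.diagonal f) := isIso_of_isOpenImmersion_of_opensRange_eq_top _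
    (TopologicalSpace.Opens.ext (Surjective.surj (f := pullback.diagonal f)).range_eq)
  exact (pullback.isIso_diagonal_iff f).1 inferInstance


/-- Let S be a scheme, U a scheme over S and j : R -> U x_S U a pre-relation, with t = pr_0 ∘ j and s =
pr_1 ∘ j. Assume (1) s and t are unramified (formally unramified and locally of finite type), (2)
for every algebraically closed field k, the map from k-points of R to pairs of k-points of U is
injective with image an equivalence relation, and (3) there are morphisms e : U -> R, i : R -> R and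
c : R x_(s,U,t) R -> R such that j ∘ e is the diagonal, j ∘ i is j followed by the flip of the two
factors, and j ∘ c is pr_02 ∘ (j x j) (the arrow c(a, b) has target t(a) and source s(b)). Then j is
an equivalence relation: j is a monomorphism and, for every scheme T, the relation 'there is a
T-point r of R with t ∘ r = a and s ∘ r = b' on T-points a, b of U is an equivalence relation. -/
theorem result {S U R : Scheme.{u}} (pU : U ⟶ S) (j : R ⟶ pullback pU pU) [FormallyUnramified (j ≫ pullback.fst pU pU)] [LocallyOfFiniteType (j ≫ pullback.fst pU pU)] [FormallyUnramified (j ≫ pullback.snd pU pU)] [LocallyOfFiniteType (j ≫ pullback.snd pU pU)] (h₂ : ∀ (k : Type u) [Field k] [IsAlgClosed k], Function.Injective (fun r : Spec (CommRingCat.of k) ⟶ R => r ≫ j) ∧ Equivalence (fun a b : Spec (CommRingCat.of k) ⟶ U => ∃ r : Spec (CommRingCat.of k) ⟶ R, r ≫ j ≫ pullback.fst pU pU = a ∧ r ≫ j ≫ pullback.snd pU pU = b)) (e : U ⟶ R) (he : e ≫ j = pullback.lift (𝟙 U) (𝟙 U) rfl) (i : R ⟶ R) (hi : i ≫ j = j ≫ (pullbackSymmetry pU pU).hom) (c : pullback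 (j ≫ pullback.snd pU pU) (j ≫ pullback.fst pU pU) ⟶ R) (hc₁ : c ≫ j ≫ pullback.fst pU pU = pullback.fst (j ≫ pullback.snd pU pU) (j ≫ pullback.fst pU pU) ≫ j ≫ pullback.fst pU pU) (hc₂ : c ≫ j ≫ pullback.snd pU pU = pullback.snd (j ≫ pullback.snd pU pU) (j ≫ pullback.fst pU pU) ≫ j ≫ pullback.snd pU pU) : Mono j ∧ ∀ T : Scheme.{u}, Equivalence (fun a b : T ⟶ U => ∃ r : T ⟶ R, r ≫ j ≫ pullback.fst pU pU = a ∧ r ≫ j ≫ pullback.snd pU pU = b) := by
  have hmono : Mono j := by
    haveI : LocallyOfFiniteType j := locallyOfFiniteType_of_comp j (pullback.fst pU pU)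
    haveI : FormallyUnramified j := FormallyUnramified.of_comp j (pullback.fst pU pU)
    exact mono_of_injective_points j (fun k _ _ => (h₂ k).1)
  refine ⟨hmono, fun T => ⟨fun a => ⟨a ≫ e, ?_, ?_⟩, ?_, ?_⟩⟩
  · rw [Category.assoc, reassoc_of% he, pullback.lift_fst, Category.comp_id]
  · rw [Category.assoc, reassoc_of% he, pullback.lift_snd, Category.comp_id]
  · rintro a b ⟨r, rfl, rfl⟩
    refine ⟨r ≫ i, ?_, ?_⟩
    · rw [Category.assoc, reassoc_of% hi, pullbackSymmetry_hom_comp_fst]
    · rw [Category.assoc, reassoc_of% hi, pullbackSymmetry_hom_comp_snd]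
  · rintro a b d ⟨r, rfl, hb⟩ ⟨r', hb', rfl⟩
    refine ⟨pullback.lift r r' (hb.trans hb'.symm) ≫ c, ?_, ?_⟩
    · rw [Category.assoc, hc₁, pullback.lift_fst_assoc]
    · rw [Category.assoc, hc₂, pullback.lift_snd_assoc]

end Groth.Agent.S7514
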