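import Groth.Statements.S7517
import Groth.Agent.H19Grp.Components
import Groth.Agent.H19Grp.GrpToGrpd

set_option autoImplicit false
universe u
open CategoryTheory MonoidalCategory CartesianMonoidalCategory MonObj GrpObj AlgebraicGeometry
open GrpSch

namespace Groth.Agent.S7517

/-- Let G be a group scheme over a field k and Z the irreducible component of G passing through the
identity e (there is exactly one). Then Z is geometrically irreducible over k: for any closed
immersion incl : Z -> G from an irreducible scheme whose image is an irreducible component of G
containing e, the composite Z -> G -> Spec k is geometrically irreducible. (Parts (1) and (2) of the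
source are not stated here.) -/
theorem result (K : Type u) [Field K] (G : Over (Spec (CommRingCat.of K))) [GrpObj G] (Z : Scheme.{u}) (incl : Z ⟶ G.left) [IsClosedImmersion incl] [IrreducibleSpace Z] (hZ : Set.range ⇑incl ∈ irreducibleComponents ↥G.left) (he : η[G].left (IsLocalRing.closedPoint K) ∈ Set.range ⇑incl) : GeometricallyIrreducible (incl ≫ G.hom) := by
  have h : Set.range ⇑incl = irreducibleComponent
      (Groth.Agent.H19Grp.ePt (Groth.Agent.H19Grp.grpToGrpd G) (Iso.refl _)) :=
    (Groth.Agent.H19Grp.dirGen (Groth.Agent.H19Grp.grpToGrpd G) (Iso.refl _) _).eq_of_mem hZ
      (irreducibleComponent_mem_irreducibleComponents _) he mem_irreducibleComponent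
  have := Groth.Agent.H19Grp.geometricallyIrreducible_t (Groth.Agent.H19Grp.grpToGrpd G)
    (Iso.refl _) Z incl h
  simpa using this

end Groth.Agent.S7517
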