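import Groth.Statements.S7519
import Groth.Agent.H19Grp.PiClosedGlobal
import Groth.Agent.H19Grp.UnramifiedEndo
import Mathlib

set_option autoImplicit false
set_option linter.style.haveILetI false
set_option backward.isDefEq.respectTransparency false
universe u
open CategoryTheory MonoidalCategory CartesianMonoidalCategory MonObj GrpObj AlgebraicGeometry
open GrpSch

namespace Groth.Agent.S7519

open CategoryTheory.Limits Groth.Agent.H19Grp TensorProduct
open scoped commutatorElement

section
variable {K : Type u} [Field K] (G : Over (Spec (CommRingCat.of K))) [GrpObj G]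

/-- The commutator of the two projections. -/
noncomputable abbrev comm : G ⊗ G ⟶ G :=
  fst G G * snd G G * (fst G G)⁻¹ * (snd G G)⁻¹

/-- The locus in `G ×ₖ G` where the commutator is trivial. -/
noncomputable abbrev commLocus : pullback (comm G).left (η[G]).left ⟶ (G ⊗ G).left :=
  pullback.fst _ _

lemma isClosedImmersion_commLocus : IsClosedImmersion (commLocus G) := by
  haveI : Subsingleton (Spec (CommRingCat.of K)) := inferInstance
  haveI : IsClosedImmersion (η[G]).left :=
    isClosedImmersion_section_of_subsingleton G.hom (η[G]).left (Over.w η[G])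
  infer_instance

lemma contains_iff_comm_eq_one {T : Over (Spec (CommRingCat.of K))} (g : T ⟶ G) :
    Contains (fst G G).left (commLocus G) g.left ↔ (g ▷ G) ≫ comm G = 1 := by
  constructor
  · rintro ⟨l, hl⟩
    let r : (T ⊗ G).left ⟶ pullback (fst G G).left g.left :=
      pullback.lift (g ▷ G).left (fst T G).left
        (by rw [← Over.comp_left, ← Over.comp_left, whiskerRight_fst])
    have h1 : (g ▷ G).left ≫ (comm G).left = (r ≫ l ≫ pullback.snd _ _) ≫ (η[G]).left := by
      rw [Category.assoc, Category.assoc, ← pullback.condition, ← Category.assoc l, hl,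
        pullback.lift_fst_assoc]
    have h2 : r ≫ l ≫ pullback.snd _ _ = (T ⊗ G).hom := by
      rw [← Over.w ((g ▷ G) ≫ comm G), Over.comp_left, h1, Category.assoc, Over.w η[G]]
      exact (Category.comp_id _).symm
    ext : 1
    rw [Over.comp_left, h1, h2]
    rfl
  · intro h
    let P : Over (Spec (CommRingCat.of K)) := Over.mk (pullback.fst (fst G G).left g.left ≫ (G ⊗ G).hom)
    let p : P ⟶ G ⊗ G := Over.homMk (pullback.fst (fst G G).left g.left) rfl
    let t : P ⟶ T := Over.homMk (pullback.snd (fst G G).left g.left) (by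
      show _ = pullback.fst (fst G G).left g.left ≫ (G ⊗ G).hom
      rw [← Over.w g, ← Category.assoc, ← pullback.condition, Category.assoc, Over.w (fst G G)])
    have hpt : p ≫ fst G G = t ≫ g := by
      ext : 1
      exact pullback.condition
    have hp : lift t (p ≫ snd G G) ≫ (g ▷ G) = p := by
      apply CartesianMonoidalCategory.hom_ext
      · rw [Category.assoc, whiskerRight_fst, lift_fst_assoc, hpt]
      · rw [Category.assoc, whiskerRight_snd, lift_snd]
    have h1 : p ≫ comm G = 1 := by rw [← hp, Category.assoc, h, MonObj.comp_one]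
    refine ⟨pullback.lift (pullback.fst (fst G G).left g.left) P.hom ?_, pullback.lift_fst _ _ _⟩
    exact congrArg Over.Hom.left h1

lemma comm_eq_one_iff {T : Over (Spec (CommRingCat.of K))} (g : T ⟶ G) :
    (g ▷ G) ≫ comm G = 1 ↔
      ∀ (T' : Over (Spec (CommRingCat.of K))) (h : T' ⟶ T) (g' : T' ⟶ G),
        (h ≫ g) * g' = g' * (h ≫ g) := by
  have e : (g ▷ G) ≫ comm G = ⁅fst T G ≫ g, snd T G⁆ := by
    simp [commutatorElement_def, MonObj.comp_mul, GrpObj.comp_inv]
  rw [e, commutatorElement_eq_one_iff_mul_comm]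
  constructor
  · intro h T' u g'
    have := congrArg (fun q => lift u g' ≫ q) h
    simpa [MonObj.comp_mul] using this
  · exact fun h => h _ (fst T G) (snd T G)


lemma hasUnivLocally_commLocus : HasUnivLocally (fst G G).left (commLocus G) := by
  haveI := isClosedImmersion_commLocus G
  intro s
  obtain ⟨U, hU, hs, -⟩ := exists_isAffineOpen_mem_and_subset (x := s) (U := (⊤ : G.left.Opens)) trivial
  let str (W : G.left.affineOpens) : CommRingCat.of K ⟶ Γ(G.left, W.1) :=
    Spec.preimage (W.2.fromSpec ≫ G.hom)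
  letI alg (W : G.left.affineOpens) : Algebra K Γ(G.left, W.1) := (str W).hom.toAlgebra
  have hstr : ∀ W : G.left.affineOpens,
      Spec.map (CommRingCat.ofHom (algebraMap K Γ(G.left, W.1))) = W.2.fromSpec ≫ G.hom :=
    fun W => Spec.map_preimage _
  let σ := hU.fromSpec
  let A := Γ(G.left, U)
  letI : Algebra K A := alg ⟨U, hU⟩
  let m (W : G.left.affineOpens) :
      Spec (CommRingCat.of (A ⊗[K] Γ(G.left, W.1))) ⟶ pullback (fst G G).left σ :=
    (pullbackSpecIso K A Γ(G.left, W.1)).inv ≫
      pullback.map _ _ (σ ≫ G.hom) G.hom (𝟙 _) W.2.fromSpec (𝟙 _)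
        (by rw [Category.comp_id, Category.id_comp]; exact hstr ⟨U, hU⟩)
        (by rw [Category.comp_id]; exact hstr W) ≫
      (pullbackRightPullbackFstIso G.hom G.hom σ).inv ≫ (pullbackSymmetry _ _).hom
  have hm : ∀ W, m W ≫ pullback.snd (fst G G).left σ =
      Spec.map (CommRingCat.ofHom (algebraMap A (A ⊗[K] Γ(G.left, W.1)))) := by
    intro W
    simp only [m, Category.assoc]
    erw [pullbackSymmetry_hom_comp_snd, pullbackRightPullbackFstIso_inv_fst, pullback.lift_fst,
      Category.comp_id]
    exact pullbackSpecIso_inv_fst K A _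
  have hcov : ∀ z, ∃ W, z ∈ Set.range (m W) := by
    intro z
    let e : pullback (fst G G).left σ ≅ pullback (σ ≫ G.hom) G.hom :=
      pullbackSymmetry _ _ ≪≫ pullbackRightPullbackFstIso G.hom G.hom σ
    obtain ⟨W, hW, hzW, -⟩ := exists_isAffineOpen_mem_and_subset
      (x := pullback.snd (σ ≫ G.hom) G.hom (e.hom z)) (U := (⊤ : G.left.Opens)) trivial
    letI : Algebra K Γ(G.left, W) := alg ⟨W, hW⟩
    have hw : e.hom z ∈ Set.range (pullback.map
        (Spec.map (CommRingCat.ofHom (algebraMap K A)))
        (Spec.map (CommRingCat.ofHom (algebraMap K Γ(G.left, W)))) (σ ≫ G.hom) G.hom (𝟙 _) hW.fromSpec (𝟙 _)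
        (by rw [Category.comp_id, Category.id_comp]; exact hstr ⟨U, hU⟩)
        (by rw [Category.comp_id]; exact hstr ⟨W, hW⟩)) := by
      rw [Scheme.Pullback.range_map]
      exact ⟨⟨_, rfl⟩, hW.range_fromSpec.superset hzW⟩
    obtain ⟨v, hv⟩ := hw
    refine ⟨⟨W, hW⟩, (pullbackSpecIso K A Γ(G.left, W)).hom v, ?_⟩
    show m ⟨W, hW⟩ _ = z
    simp only [m, ← Scheme.Hom.comp_apply, Iso.hom_inv_id_assoc]
    rw [Scheme.Hom.comp_apply, hv]
    show (e.hom ≫ e.inv) z = z
    rw [Iso.hom_inv_id]; rfl
  obtain ⟨𝔞, h𝔞, -⟩ := hasUniv_of_charts (f := (fst G G).left) (j := commLocus G) (A := A) σ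
    (fun W : G.left.affineOpens => A ⊗[K] Γ(G.left, W.1)) m hm hcov
  exact ⟨_, σ, 𝔞, inferInstance, hU.range_fromSpec.superset hs, h𝔞⟩

end

/-- Let G be a group scheme locally of finite type over a field k. Then the centre of G is
(representable by) a closed subgroup scheme of G: there are a scheme Z over k and a closed immersion
Z -> G over k such that for every scheme T over k, a T-valued point g of G factors through Z if and
only if g is central, i.e. for every T' -> T over k and every T'-valued point g' of G, the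
restriction of g to T' commutes with g' in the group G(T'). -/
theorem result (K : Type u) [Field K] (G : Over (Spec (CommRingCat.of K))) [GrpObj G] [LocallyOfFiniteType G.hom] : ∃ (Z : Over (Spec (CommRingCat.of K))) (incl : Z ⟶ G), IsClosedImmersion incl.left ∧ ∀ (T : Over (Spec (CommRingCat.of K))) (g : T ⟶ G), (∃ z : T ⟶ Z, z ≫ incl = g) ↔ ∀ (T' : Over (Spec (CommRingCat.of K))) (h : T' ⟶ T) (g' : T' ⟶ G), (h ≫ g) * g' = g' * (h ≫ g) := by
  haveI := isClosedImmersion_commLocus G
  let I := univIdeal (hasUnivLocally_commLocus G)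
  refine ⟨Over.mk (I.subschemeι ≫ G.hom), Over.homMk I.subschemeι rfl,
    inferInstanceAs (IsClosedImmersion I.subschemeι), fun T g => ?_⟩
  rw [← comm_eq_one_iff, ← contains_iff_comm_eq_one, ← contains_iff_factors (hasUnivLocally_commLocus G)]
  constructor
  · rintro ⟨z, rfl⟩
    exact ⟨z.left, rfl⟩
  · rintro ⟨z, hz⟩
    refine ⟨Over.homMk z ?_, Over.OverMorphism.ext hz⟩
    show z ≫ I.subschemeι ≫ G.hom = T.hom
    rw [← Category.assoc, hz, Over.w]

end Groth.Agent.S7519
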