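import Groth.Statements.S7520
import Groth.Agent.H19Grp.IdentityComponent

set_option autoImplicit false
universe u
open CategoryTheory MonoidalCategory CartesianMonoidalCategory MonObj GrpObj AlgebraicGeometry
open GrpSch

namespace Groth.Agent.S7520

/-- Let G be a group scheme over a field k. Then there is a closed subgroup scheme G^0 of G, that is a
group scheme G^0 over k with a homomorphism G^0 -> G which is a closed immersion, such that (1) G^0
-> G is moreover flat, (2) its image is the connected component of the identity point, (3) G^0 is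
geometrically irreducible over k, and (4) G^0 is quasi-compact. -/
theorem result (K : Type u) [Field K] (G : Over (Spec (CommRingCat.of K))) [GrpObj G] : ∃ (G₀ : Over (Spec (CommRingCat.of K))) (_ : GrpObj G₀) (incl : G₀ ⟶ G) (_ : IsMonHom incl), IsClosedImmersion incl.left ∧ Flat incl.left ∧ Set.range ⇑incl.left = connectedComponent (η[G].left (IsLocalRing.closedPoint K)) ∧ GeometricallyIrreducible G₀.hom ∧ CompactSpace ↥G₀.left := by
  obtain ⟨inst, hm⟩ := Groth.Agent.H19Grp.exists_grpObj_idComp G
  refine ⟨Groth.Agent.H19Grp.idComp G, inst, Groth.Agent.H19Grp.idCompι G, hm, inferInstance,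
    Groth.Agent.H19Grp.flat_clopenIdeal_subschemeι _, Groth.Agent.H19Grp.range_idCompι G, ?_, ?_⟩
  · have h := Groth.Agent.H19Grp.geometricallyIrreducible_t (Groth.Agent.H19Grp.grpToGrpd G)
      (Iso.refl _) _ (Groth.Agent.H19Grp.idCompι G).left
      ((Groth.Agent.H19Grp.range_idCompι G).trans
        (Groth.Agent.H19Grp.connectedComponent_eq_irreducibleComponent
          (Groth.Agent.H19Grp.grpToGrpd G) (Iso.refl _) _))
    simp at h
    exact h
  · rw [← isCompact_univ_iff,
      (Groth.Agent.H19Grp.idCompι G).left.isClosedEmbedding.isInducing.isCompact_iff, Set.image_univ,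
      Groth.Agent.H19Grp.range_idCompι]
    exact (Groth.Agent.H19Grp.component_unit (Groth.Agent.H19Grp.grpToGrpd G) (Iso.refl _)).2

end Groth.Agent.S7520
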