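import Groth.Statements.S7527
import Groth.Agent.H28Top.Spectral

set_option autoImplicit false
universe u
open SpecSp

namespace Groth.Agent.S7527

/-- Let X be a spectral space and x, y ∈ X. Then either there is a third point specializing to both x
and y, or there are disjoint open neighbourhoods of x and of y. -/
theorem result {X : Type u} [TopologicalSpace X] [SpectralSpace X] (x y : X) :
    (∃ z : X, z ⤳ x ∧ z ⤳ y) ∨
    (∃ U V : Set X, IsOpen U ∧ IsOpen V ∧ x ∈ U ∧ y ∈ V ∧ Disjoint U V) := by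
  by_contra hcon
  rw [not_or, not_exists] at hcon
  obtain ⟨h1, h2⟩ := hcon
  apply h2
  let ι := {U : Set X // (IsOpen U ∧ IsCompact U) ∧ (x ∈ U ∨ y ∈ U)}
  have hemp : Set.univ ∩ ⋂ U : ι, (U : Set X) = ∅ := by
    rw [Set.eq_empty_iff_forall_notMem]
    rintro z ⟨-, hz⟩
    refine h1 z ⟨?_, ?_⟩ <;> rw [specializes_iff_forall_open] <;> intro s hs hxs <;>
      obtain ⟨V, hV, hxV, hVs⟩ :=
        PrespectralSpace.isTopologicalBasis.exists_subset_of_mem_open hxs hs
    · exact hVs (Set.mem_iInter.mp hz ⟨V, hV, .inl hxV⟩)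
    · exact hVs (Set.mem_iInter.mp hz ⟨V, hV, .inr hxV⟩)
  obtain ⟨t, ht⟩ := @IsCompact.elim_finite_subfamily_closed X (constructibleTopology X) Set.univ ι
    (@isCompact_univ X (constructibleTopology X) (Groth.Agent.H28Top.compactSpace_constr X))
    (fun U => (U : Set X)) (fun U => Groth.Agent.H28Top.isClosed_constr_of_compactOpen U.2.1.1 U.2.1.2) hemp
  refine ⟨⋂ U ∈ t, ⋂ (_ : x ∈ U.1), U.1, ⋂ U ∈ t, ⋂ (_ : y ∈ U.1), U.1,
    isOpen_biInter_finset fun U _ => isOpen_iInter_of_finite fun _ => U.2.1.1,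
    isOpen_biInter_finset fun U _ => isOpen_iInter_of_finite fun _ => U.2.1.1, by simp, by simp, ?_⟩
  rw [Set.disjoint_iff]
  rintro z ⟨hz1, hz2⟩
  simp only [Set.mem_iInter] at hz1 hz2
  refine Set.eq_empty_iff_forall_notMem.mp ht z ⟨trivial, Set.mem_iInter₂.mpr fun U hU => ?_⟩
  rcases U.2.2 with h | h
  · exact hz1 U hU h
  · exact hz2 U hU h

end Groth.Agent.S7527
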