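import Groth.Statements.S7528
import Groth.Agent.H28Top.Spectral

set_option autoImplicit false
universe u
open SpecSp

namespace Groth.Agent.S7528

/-- For a spectral space X the following are equivalent: (1) X is profinite, i.e. quasi-compact,
Hausdorff and totally disconnected (quasi-compactness being automatic); (2) X is Hausdorff; (3) X is
totally disconnected; (4) every quasi-compact open subset is closed; (5) there are no nontrivial
specializations between points; (6) every point is closed; (7) every point is the generic point of
an irreducible component; (8) the constructible topology coincides with the topology of X. -/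
theorem result (X : Type u) [tX : TopologicalSpace X] [SpectralSpace X] :
    List.TFAE [
      T2Space X ∧ TotallyDisconnectedSpace X,
      T2Space X,
      TotallyDisconnectedSpace X,
      ∀ U : Set X, IsOpen U → IsCompact U → IsClosed U,
      ∀ x y : X, x ⤳ y → x = y,
      ∀ x : X, IsClosed ({x} : Set X),
      ∀ x : X, closure ({x} : Set X) ∈ irreducibleComponents X,
      constructibleTopology X = tX] := by
  open Groth.Agent.H28Top in
  tfae_have 1 → 2 := fun h => h.1
  open Groth.Agent.H28Top in
  tfae_have 1 → 3 := fun h => h.2
  open Groth.Agent.H28Top in
  tfae_have 2 → 4 := fun h U _ hU => hU.isClosed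
  open Groth.Agent.H28Top in
  tfae_have 3 → 6 := fun h x => by
    have h1 := (isPreconnected_singleton (x := x)).closure.subsingleton
    rw [← h1.eq_singleton_of_mem (subset_closure rfl)]
    exact isClosed_closure
  open Groth.Agent.H28Top in
  tfae_have 6 → 5 := fun h x y hxy => (hxy.mem_closed (h x) rfl).symm
  open Groth.Agent.H28Top in
  tfae_have 5 → 4 := fun h U hU hUc => isClosed_of_isClosed_constr (isClosed_constr_of_compactOpen hU hUc)
    fun x y hxy hx => h x y hxy ▸ hx
  open Groth.Agent.H28Top in
  tfae_have 4 → 8 := by
    intro h
    refine le_antisymm ?_ ?_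
    · intro U hU
      exact isOpen_constr_of_isOpen hU
    · refine TopologicalSpace.le_generateFrom_iff_subset_isOpen.mpr ?_
      rintro s (⟨ho, -⟩ | ⟨hcl, hc⟩)
      · exact ho
      · have := (h sᶜ hcl.isOpen_compl hc).isOpen_compl
        rwa [compl_compl] at this
  open Groth.Agent.H28Top in
  tfae_have 8 → 1 := fun h => by
    have h1 := t2Space_constr X
    have h2 := totallySeparatedSpace_constr X
    rw [h] at h1 h2
    exact ⟨h1, inferInstance⟩
  open Groth.Agent.H28Top in
  tfae_have 6 → 7 := fun h x => by
    rw [(h x).closure_eq]
    refine ⟨isIrreducible_singleton, fun t ht hxt => ?_⟩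
    obtain ⟨η, hη⟩ := QuasiSober.sober ht.closure isClosed_closure
    have := hη.def
    rw [(h η).closure_eq] at this
    have hxη : x = η := by
      have := this ▸ subset_closure (hxt rfl)
      exact this
    subst hxη
    exact subset_closure.trans this.ge
  open Groth.Agent.H28Top in
  tfae_have 7 → 5 := fun h x y hxy => by
    have h1 : closure {y} = closure {x} :=
      (h y).eq_of_le isIrreducible_singleton.closure (specializes_iff_closure_subset.mp hxy)
    exact (hxy.antisymm (specializes_iff_closure_subset.mpr h1.ge)).eq
  tfae_finish

end Groth.Agent.S7528
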