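import Groth.Statements.S7529
import Groth.Agent.H28Top.Spectral

set_option autoImplicit false
universe u
open SpecSp

namespace Groth.Agent.S7529

/-- The product X × Y of two spectral spaces X and Y is a spectral space. -/
theorem result (X Y : Type u) [TopologicalSpace X] [TopologicalSpace Y]
    [SpectralSpace X] [SpectralSpace Y] : SpectralSpace (X × Y) := by
  open Set Topology Groth.Agent.H28Top in
  have hb := (PrespectralSpace.isTopologicalBasis (X := X)).prod (PrespectralSpace.isTopologicalBasis (X := Y))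
  open Set Topology Groth.Agent.H28Top in
  have hcpt : ∀ s ∈ image2 (fun x1 x2 => x1 ×ˢ x2) {U : Set X | IsOpen U ∧ IsCompact U} {U : Set Y | IsOpen U ∧ IsCompact U}, IsCompact s := by
    rintro _ ⟨U, hU, V, hV, rfl⟩
    exact hU.2.prod hV.2
  haveI : PrespectralSpace (X × Y) := .of_isTopologicalBasis hb hcpt
  haveI : QuasiSeparatedSpace (X × Y) := QuasiSeparatedSpace.of_isTopologicalBasis
      (b := fun p : {U : Set X // IsOpen U ∧ IsCompact U} × {U : Set Y // IsOpen U ∧ IsCompact U} => p.1.1 ×ˢ p.2.1)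
      (by convert hb; ext s; simp [Set.mem_image2]) fun p q => by
    rw [Set.prod_inter_prod]
    exact (p.1.2.2.inter_of_isOpen q.1.2.2 p.1.2.1 q.1.2.1).prod (p.2.2.2.inter_of_isOpen q.2.2.2 p.2.2.1 q.2.2.1)
  haveI : QuasiSober (X × Y) := by
    refine ⟨fun {Z} hZ hZc => ?_⟩
    obtain ⟨a, ha, ha'⟩ := Groth.Agent.H28Top.exists_generalization_of_sober Prod.fst continuous_fst hZ
    obtain ⟨b, hb', hb''⟩ := Groth.Agent.H28Top.exists_generalization_of_sober Prod.snd continuous_snd hZ
    have hab : (a, b) ∈ Z := by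
      rw [← hZc.closure_eq, mem_closure_iff]
      intro O hO hab
      obtain ⟨U, V, hU, hV, haU, hbV, hUV⟩ := isOpen_prod_iff.mp hO a b hab
      obtain ⟨z, hz, hz1, hz2⟩ := hZ.isPreirreducible _ _ (hU.preimage continuous_fst)
        (hV.preimage continuous_snd) (ha' U hU haU) (hb'' V hV hbV)
      exact ⟨z, hUV ⟨hz1, hz2⟩, hz⟩
    refine ⟨(a, b), ?_⟩
    rw [isGenericPoint_iff_specializes]
    exact fun y => ⟨fun h => h.mem_closed hZc hab, fun hy => (ha y hy).prod (hb' y hy)⟩
  exact @SpectralSpace.mk _ _ inferInstance inferInstance inferInstance inferInstance inferInstance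

end Groth.Agent.S7529
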