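import Groth.Statements.S7530
import Groth.Agent.H28Top.Spectral

set_option autoImplicit false
universe u
open SpecSp

namespace Groth.Agent.S7530

/-- Let f : X → Y be a map of spectral spaces which is spectral and bijective, and assume that
generalizations lift along f or that specializations lift along f. Then f is a homeomorphism. -/
theorem result {X Y : Type u} [TopologicalSpace X] [TopologicalSpace Y]
    [SpectralSpace X] [SpectralSpace Y] (f : X → Y) (hf : IsSpectralMap f) (hb : Function.Bijective f)
    (hlift : GeneralizingMap f ∨ SpecializingMap f) :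
    IsHomeomorph f := by
  refine ⟨hf.continuous, ?_, hb⟩
  intro U hU
  have hc := Groth.Agent.H28Top.continuous_constr_of_isSpectralMap hf
  rcases hlift with hg | hs
  · rw [← Set.biUnion_of_singleton U, Set.image_iUnion₂]
    suffices ∀ V, IsOpen V → IsCompact V → IsOpen (f '' V) by
      have h : f '' U = ⋃ V ∈ {V : Set X | (IsOpen V ∧ IsCompact V) ∧ V ⊆ U}, f '' V := by
        ext w
        simp only [Set.mem_image, Set.mem_iUnion, Set.mem_setOf_eq]
        constructor
        · rintro ⟨z, hz, rfl⟩
          obtain ⟨V, hV, hzV, hVU⟩ :=
            PrespectralSpace.isTopologicalBasis.exists_subset_of_mem_open hz hU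
          exact ⟨V, ⟨hV, hVU⟩, z, hzV, rfl⟩
        · rintro ⟨V, ⟨-, hVU⟩, z, hz, rfl⟩
          exact ⟨z, hVU hz, rfl⟩
      rw [← Set.image_iUnion₂, Set.biUnion_of_singleton, h]
      exact isOpen_biUnion fun V hV => this V hV.1.1 hV.1.2
    intro V hV hVc
    refine Groth.Agent.H28Top.isOpen_of_isOpen_constr ?_
      (hg.stableUnderGeneralization_image hV.stableUnderGeneralization)
    rw [← compl_compl (f '' V), ← Set.image_compl_eq hb, @isOpen_compl_iff Y _ (constructibleTopology Y)]
    exact Groth.Agent.H28Top.isClosed_constr_range hf
      (Groth.Agent.H28Top.isClosed_constr_of_isClosed hV.isClosed_compl)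
  · rw [← isClosed_compl_iff, ← Set.image_compl_eq hb]
    exact Groth.Agent.H28Top.isClosed_of_isClosed_constr
      (Groth.Agent.H28Top.isClosed_constr_range hf
        (Groth.Agent.H28Top.isClosed_constr_of_isClosed hU.isClosed_compl))
      (hs.stableUnderSpecialization_image hU.isClosed_compl.stableUnderSpecialization)

end Groth.Agent.S7530
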