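import Groth.Statements.S7532
import Groth.Agent.H28Top.Spectral

set_option autoImplicit false
universe u
open SpecSp

namespace Groth.Agent.S7532

/-- Let W be the two-point space with one closed and one non-closed point (here the Sierpiński topology
on Prop). A topological space X is spectral exactly when, for some index type I, X admits a
topological embedding into the power W^I whose image is a closed set for the constructible topology
on W^I. -/
theorem result (X : Type u) [TopologicalSpace X] :
    SpectralSpace X ↔ ∃ (I : Type u) (f : X → (I → Prop)),
      Topology.IsEmbedding f ∧ @IsClosed (I → Prop) (constructibleTopology (I → Prop)) (Set.range f) := by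
  open Groth.Agent.H28Top Topology in
  constructor
  · intro _
    let f : X → ({U : Set X // IsOpen U ∧ IsCompact U} → Prop) := fun x U => x ∈ U.1
    have hf : Topology.IsEmbedding f := by
      refine ⟨⟨?_⟩, fun x y hxy => ?_⟩
      · refine le_antisymm (continuous_iff_le_induced.mp (continuous_pi fun U => continuous_Prop.mpr U.2.1))
          ((le_generateFrom fun s hs => ?_).trans_eq
            (PrespectralSpace.isTopologicalBasis (X := X)).eq_generateFrom.symm)
        refine ⟨{g | g ⟨s, hs⟩}, continuous_Prop.mp (continuous_apply _), rfl⟩
      · refine Inseparable.eq ((PrespectralSpace.isTopologicalBasis (X := X)).inseparable_iff.mpr fun U hU => ?_)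
        exact iff_of_eq (congrFun hxy ⟨U, hU⟩)
    haveI : T0Space Prop := ⟨fun p q h => propext
      ⟨fun hp => by
        have := (h.mem_open_iff isOpen_singleton_true).mp (show p ∈ ({True} : Set Prop) by simp [hp])
        simpa using this,
      fun hp => by
        have := (h.mem_open_iff isOpen_singleton_true).mpr (show q ∈ ({True} : Set Prop) by simp [hp])
        simpa using this⟩⟩
    haveI : SpectralSpace Prop := @SpectralSpace.mk Prop _ inferInstance inferInstance
      quasiSober_of_finite inferInstance inferInstance
    refine ⟨_, f, hf, ?_⟩
    rw [← Set.image_univ]
    refine isClosed_constr_range ?_ (@isClosed_univ X (constructibleTopology X))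
    refine isSpectralMap_of_isTopologicalBasis hf.continuous
      (isTopologicalBasis_pi_compactOpen (π := fun _ : {U : Set X // IsOpen U ∧ IsCompact U} => Prop)) fun V => ?_
    obtain ⟨V, hV, hVf⟩ := V
    refine isCompact_of_isClosed_constr ?_
    rw [Set.univ_pi_eq_iInter, Set.preimage_iInter]
    refine @isClosed_iInter X _ (constructibleTopology X) _ fun U => ?_
    rw [← Set.preimage_comp]
    show IsClosed[constructibleTopology X] ((fun x : X => x ∈ U.1) ⁻¹' V U)
    by_cases hF : False ∈ V U
    · have hall : V U = Set.univ := by
        have := (hV U).1.mem_nhds hF
        simpa using this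
      rw [hall, Set.preimage_univ]
      exact @isClosed_univ X (constructibleTopology X)
    · by_cases hT : True ∈ V U
      · rw [show (fun x : X => x ∈ U.1) ⁻¹' V U = U.1 by
          ext x
          by_cases hx : x ∈ U.1 <;> simp [hx, hT, hF]]
        exact isClosed_constr_of_compactOpen U.2.1 U.2.2
      · rw [show (fun x : X => x ∈ U.1) ⁻¹' V U = ∅ by
          ext x
          by_cases hx : x ∈ U.1 <;> simp [hx, hT, hF]]
        exact @isClosed_empty X (constructibleTopology X)
  · rintro ⟨I, f, hf, hr⟩
    haveI : T0Space Prop := ⟨fun p q h => propext
      ⟨fun hp => by
        have := (h.mem_open_iff isOpen_singleton_true).mp (show p ∈ ({True} : Set Prop) by simp [hp])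
        simpa using this,
      fun hp => by
        have := (h.mem_open_iff isOpen_singleton_true).mpr (show q ∈ ({True} : Set Prop) by simp [hp])
        simpa using this⟩⟩
    haveI : SpectralSpace Prop := @SpectralSpace.mk Prop _ inferInstance inferInstance
      quasiSober_of_finite inferInstance inferInstance
    let h := hf.toHomeomorph
    haveI := spectralSpace_of_isClosed_constr hr
    haveI : CompactSpace X := h.symm.compactSpace
    exact h.isOpenEmbedding.spectralSpace

end Groth.Agent.S7532
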