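import Groth.Statements.S7538
import Groth.Agent.H28Top.Limits

set_option autoImplicit false
universe u
open CategoryTheory CategoryTheory.Limits
open SpecSp

namespace Groth.Agent.S7538

/-- Let j ↦ X_j be a cofiltered diagram of spectral spaces with spectral transition maps f_a and X its
limit with projections p_j. (1) Any quasi-compact open U ⊆ X is p_i⁻¹(U_i) for some i and some
quasi-compact open U_i ⊆ X_i. (2) If U_i ⊆ X_i and U_j ⊆ X_j are quasi-compact opens with p_i⁻¹(U_i)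
⊆ p_j⁻¹(U_j), there are k and a : k → i, b : k → j with f_a⁻¹(U_i) ⊆ f_b⁻¹(U_j). (3) If U_i and
finitely many U_{l,i} are quasi-compact opens of X_i with p_i⁻¹(U_i) = ⋃_l p_i⁻¹(U_{l,i}), then
f_a⁻¹(U_i) = ⋃_l f_a⁻¹(U_{l,i}) for some a : j → i. (4) The same with intersections. -/
theorem result {J : Type u} [SmallCategory J] [IsCofiltered J] (F : J ⥤ TopCat.{u})
    (hF : ∀ j, SpectralSpace (F.obj j))
    (hFm : ∀ {i j : J} (a : i ⟶ j), IsSpectralMap (F.map a : F.obj i → F.obj j))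
    (c : Cone F) (hc : IsLimit c) :
    (∀ U : Set c.pt, IsOpen U → IsCompact U →
      ∃ (i : J) (Ui : Set (F.obj i)), IsOpen Ui ∧ IsCompact Ui ∧ c.π.app i ⁻¹' Ui = U) ∧
    (∀ (i j : J) (Ui : Set (F.obj i)) (Uj : Set (F.obj j)),
      IsOpen Ui → IsCompact Ui → IsOpen Uj → IsCompact Uj →
      c.π.app i ⁻¹' Ui ⊆ c.π.app j ⁻¹' Uj →
      ∃ (k : J) (a : k ⟶ i) (b : k ⟶ j), F.map a ⁻¹' Ui ⊆ F.map b ⁻¹' Uj) ∧
    (∀ (i : J) (n : ℕ) (Ui : Set (F.obj i)) (V : Fin n → Set (F.obj i)),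
      IsOpen Ui → IsCompact Ui → (∀ l, IsOpen (V l) ∧ IsCompact (V l)) →
      (c.π.app i ⁻¹' Ui = ⋃ l, c.π.app i ⁻¹' V l →
        ∃ (j : J) (a : j ⟶ i), F.map a ⁻¹' Ui = ⋃ l, F.map a ⁻¹' V l) ∧
      (c.π.app i ⁻¹' Ui = ⋂ l, c.π.app i ⁻¹' V l →
        ∃ (j : J) (a : j ⟶ i), F.map a ⁻¹' Ui = ⋂ l, F.map a ⁻¹' V l)) := by
  refine ⟨fun U hU hUc => Groth.Agent.H28Top.descend_compactOpen c hF hFm hc hU hUc,
    fun i j Ui Uj hUi hUic hUj hUjc h => Groth.Agent.H28Top.descend_subset c hF hFm hc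
      (Groth.Agent.H28Top.isClosed_constr_of_compactOpen hUi hUic)
      (Groth.Agent.H28Top.isOpen_constr_of_compactOpen hUj hUjc) h,
    fun i n Ui V hUi hUic hV => ?_⟩
  have hU := Groth.Agent.H28Top.isClosed_constr_of_compactOpen hUi hUic
  have hU' := Groth.Agent.H28Top.isOpen_constr_of_compactOpen hUi hUic
  have hVcl := fun l => Groth.Agent.H28Top.isClosed_constr_of_compactOpen (hV l).1 (hV l).2
  have hVop := fun l => Groth.Agent.H28Top.isOpen_constr_of_compactOpen (hV l).1 (hV l).2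
  have key : ∀ W : Set (F.obj i), @IsClosed _ (constructibleTopology (F.obj i)) W →
      @IsOpen _ (constructibleTopology (F.obj i)) W → c.π.app i ⁻¹' Ui = c.π.app i ⁻¹' W →
      ∃ (j : J) (a : j ⟶ i), F.map a ⁻¹' Ui = F.map a ⁻¹' W := by
    intro W hW hW' h
    obtain ⟨j, a, ha⟩ := (Groth.Agent.H28Top.preimage_subset_iff c hF hFm hc hU hW').mp h.le
    obtain ⟨k, b, hb⟩ := (Groth.Agent.H28Top.preimage_subset_iff c hF hFm hc hW hU').mp h.ge
    obtain ⟨m, f, g, hfg⟩ := IsCofiltered.cospan a b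
    refine ⟨m, f ≫ a, Set.Subset.antisymm ?_ ?_⟩
    · intro z hz
      have := @ha (F.map f z)
      simp only [Set.mem_preimage, Functor.map_comp, ConcreteCategory.comp_apply] at *
      exact this hz
    · rw [hfg]
      intro z hz
      have := @hb (F.map g z)
      simp only [Set.mem_preimage, Functor.map_comp, ConcreteCategory.comp_apply] at *
      exact this hz
  constructor <;> intro h
  · obtain ⟨j, a, ha⟩ := key (⋃ l, V l)
      (@isClosed_iUnion_of_finite _ _ (constructibleTopology _) _ _ hVcl)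
      (@isOpen_iUnion _ _ (constructibleTopology _) _ hVop) (by rw [Set.preimage_iUnion]; exact h)
    exact ⟨j, a, by rw [ha, Set.preimage_iUnion]⟩
  · obtain ⟨j, a, ha⟩ := key (⋂ l, V l)
      (@isClosed_iInter _ _ (constructibleTopology _) _ hVcl)
      (@isOpen_iInter_of_finite _ _ (constructibleTopology _) _ _ hVop) (by rw [Set.preimage_iInter]; exact h)
    exact ⟨j, a, by rw [ha, Set.preimage_iInter]⟩

end Groth.Agent.S7538
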