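import Groth.Statements.S7539
import Groth.Agent.H28Top.Spectral

set_option autoImplicit false
universe u
open SpecSp

namespace Groth.Agent.S7539

/-- For a subset W of a spectral space X, these five conditions coincide: (1) W can be written as an
intersection of constructible subsets and is stable under generalization; (2) W is quasi-compact and
stable under generalization; (3) for some quasi-compact E ⊆ X, W consists exactly of the points that
specialize to a point of E; (4) W is the intersection of some family of quasi-compact opens; (5)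
there are a nonempty index set I and quasi-compact opens U_i with W = ⋂ U_i such that for all i, j
some U_k is contained in U_i ∩ U_j. -/
theorem result {X : Type u} [TopologicalSpace X] [SpectralSpace X] (W : Set X) :
    List.TFAE [
      (∃ S : Set (Set X), (∀ s ∈ S, Topology.IsConstructible s) ∧ W = ⋂₀ S) ∧ StableUnderGeneralization W,
      IsCompact W ∧ StableUnderGeneralization W,
      ∃ E : Set X, IsCompact E ∧ W = {x | ∃ e ∈ E, x ⤳ e},
      ∃ S : Set (Set X), (∀ s ∈ S, IsOpen s ∧ IsCompact s) ∧ W = ⋂₀ S,
      ∃ (I : Type u) (_ : Nonempty I) (U : I → Set X), (∀ i, IsOpen (U i) ∧ IsCompact (U i)) ∧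
        W = ⋂ i, U i ∧ ∀ i j, ∃ k, U k ⊆ U i ∩ U j] := by
  tfae_have 1 → 2 := by
    rintro ⟨⟨S, hS, rfl⟩, hg⟩
    exact ⟨Groth.Agent.H28Top.isCompact_of_isClosed_constr (@isClosed_sInter X (constructibleTopology X) _
      fun s hs => Groth.Agent.H28Top.isClosed_constr_of_isConstructible (hS s hs)), hg⟩
  tfae_have 2 → 3 := by
    rintro ⟨hc, hg⟩
    exact ⟨W, hc, Set.Subset.antisymm (fun x hx => ⟨x, hx, specializes_rfl⟩) fun x ⟨e, he, hxe⟩ => hg hxe he⟩
  tfae_have 3 → 4 := by
    rintro ⟨E, hE, rfl⟩
    exact ⟨_, fun s hs => hs.1, Groth.Agent.H28Top.generalization_eq_sInter hE⟩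
  tfae_have 4 → 5 := by
    classical
    rintro ⟨S, hS, rfl⟩
    refine ⟨Finset S, ⟨∅⟩, fun t => ⋂ s ∈ t, (s : Set X), fun t => ?_, ?_, fun t t' => ⟨t ∪ t', ?_⟩⟩
    · induction t using Finset.induction_on with
      | empty => simp [isCompact_univ]
      | insert a t _ ih =>
        dsimp only at ih ⊢
        rw [Finset.set_biInter_insert]
        exact ⟨(hS _ a.2).1.inter ih.1, (hS _ a.2).2.inter_of_isOpen ih.2 (hS _ a.2).1 ih.1⟩
    · refine Set.Subset.antisymm (Set.subset_iInter fun t => Set.subset_iInter₂ fun s _ => Set.sInter_subset_of_mem s.2) ?_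
      refine Set.subset_sInter fun s hs => (Set.iInter_subset _ ({⟨s, hs⟩} : Finset S)).trans ?_
      simp
    · simp only [Finset.mem_union]
      exact Set.subset_inter (Set.subset_iInter₂ fun s hs => Set.iInter₂_subset s (.inl hs)) (Set.subset_iInter₂ fun s hs => Set.iInter₂_subset s (.inr hs))
  tfae_have 5 → 1 := by
    rintro ⟨I, _, U, hU, rfl, -⟩
    refine ⟨⟨Set.range U, ?_, Set.sInter_range U |>.symm⟩, ?_⟩
    · rintro _ ⟨i, rfl⟩
      exact (hU i).2.isConstructible (hU i).1
    · exact stableUnderGeneralization_iInter _ fun i => (hU i).1.stableUnderGeneralization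
  tfae_finish

end Groth.Agent.S7539
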