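import Groth.Statements.S7544
import Groth.Agent.H28Top.Noeth

set_option autoImplicit false
universe u
open ConstrTop

namespace Groth.Agent.S7544

/-- Let X be a quasi-compact topological space whose quasi-compact opens form a basis and are closed
under pairwise intersection. Take T ⊆ X to be locally closed, quasi-compact, and with retrocompact
complement. Then T is constructible in X. -/
theorem result {X : Type u} [TopologicalSpace X]
    [CompactSpace X] [PrespectralSpace X] [QuasiSeparatedSpace X]
    (T : Set X) (hT : IsLocallyClosed T) (hTc : IsCompact T) (hTr : IsRetrocompact Tᶜ) :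
    Topology.IsConstructible T := by
  obtain ⟨U, Z, hU, hZ, hUZ⟩ := hT
  obtain ⟨W, hWc, hWo, hTW, hWU⟩ := PrespectralSpace.exists_isCompact_and_isOpen_between hTc hU
    (hUZ ▸ Set.inter_subset_left)
  have h1 : W \ T = W ∩ Zᶜ := by
    ext x
    exact ⟨fun h => ⟨h.1, fun hz => h.2 (hUZ ▸ ⟨hWU h.1, hz⟩)⟩, fun h => ⟨h.1, fun ht => h.2 (hUZ ▸ ht).2⟩⟩
  have h2 : IsCompact (W \ T) := by
    rw [sdiff_eq, inf_comm]
    exact hTr hWc hWo
  have h3 : IsOpen (W \ T) := h1 ▸ hWo.inter hZ.isOpen_compl
  have : T = W \ (W \ T) := (Set.sdiff_sdiff_cancel_left hTW).symm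
  rw [this]
  exact (hWc.isConstructible hWo).sdiff (h2.isConstructible h3)

end Groth.Agent.S7544
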