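import Groth.Statements.S7547

set_option autoImplicit false
universe u
open PtTop

namespace Groth.Agent.S7547

/-- Let X be a Kolmogorov topological space whose quasi-compact opens form a basis for the topology. If
X is not Jacobson, there is a point x ∈ X which is not closed but such that {x} is locally closed. -/
theorem result {X : Type u} [TopologicalSpace X]
    [T0Space X] [PrespectralSpace X] (hX : ¬ JacobsonSpace X) :
    ∃ x : X, ¬ IsClosed ({x} : Set X) ∧ IsLocallyClosed ({x} : Set X) := by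
  rw [jacobsonSpace_iff_locallyClosed] at hX
  push Not at hX
  obtain ⟨Z, hne, hZ, hclosed⟩ := hX
  obtain ⟨U, C, hU, hC, rfl⟩ := hZ
  obtain ⟨z, hzU, hzC⟩ := hne
  obtain ⟨W, ⟨hWo, hWc⟩, hzW, hWU⟩ := PrespectralSpace.isTopologicalBasis.exists_subset_of_mem_open hzU hU
  haveI : CompactSpace ↥(W ∩ C) := isCompact_iff_compactSpace.mp (hWc.inter_right hC)
  obtain ⟨x, -, hx⟩ := IsClosed.exists_closed_singleton (isClosed_univ (X := ↥(W ∩ C))) ⟨⟨z, hzW, hzC⟩, trivial⟩
  refine ⟨x.1, fun h => Set.eq_empty_iff_forall_notMem.mp hclosed x.1 ⟨⟨hWU x.2.1, x.2.2⟩, h⟩, ?_⟩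
  obtain ⟨F, hF, hFx⟩ := isClosed_induced_iff.mp hx
  have : ({x.1} : Set X) = (W ∩ C) ∩ F := by
    ext y
    constructor
    · rintro rfl
      exact ⟨x.2, show x ∈ Subtype.val ⁻¹' F from hFx.symm ▸ rfl⟩
    · rintro ⟨hy, hyF⟩
      have h2 : (⟨y, hy⟩ : ↥(W ∩ C)) ∈ Subtype.val ⁻¹' F := hyF
      rw [hFx] at h2
      exact congrArg Subtype.val h2
  rw [this]
  exact (hWo.isLocallyClosed.inter hC.isLocallyClosed).inter hF.isLocallyClosed

end Groth.Agent.S7547
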