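import Groth.Statements.S7548

set_option autoImplicit false
universe u
open PtTop

namespace Groth.Agent.S7548

/-- Let X be a Jacobson space and let T = ⋃ T_i be a union of subsets T_i ⊆ X each locally closed in X
(open, closed, locally closed and constructible subsets are of this form). Then T is Jacobson and
every point of T closed in T is closed in X. -/
theorem result {X : Type u} [TopologicalSpace X] [JacobsonSpace X]
    {ι : Type u} (T : ι → Set X) (hT : ∀ i, IsLocallyClosed (T i)) :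
    JacobsonSpace ↥(⋃ i, T i) ∧
      closedPoints ↥(⋃ i, T i) ⊆ (Subtype.val : ↥(⋃ i, T i) → X) ⁻¹' closedPoints X := by
  have key : ∀ Z : Set ↥(⋃ i, T i), Z.Nonempty → IsLocallyClosed Z →
      ∃ z ∈ Z, IsClosed ({(z : X)} : Set X) := by
    rintro Z ⟨z, hz⟩ ⟨U, C, hU, hC, rfl⟩
    obtain ⟨U', hU', rfl⟩ := isOpen_induced_iff.mp hU
    obtain ⟨C', hC', rfl⟩ := isClosed_induced_iff.mp hC
    obtain ⟨i, hi⟩ := Set.mem_iUnion.mp z.2
    obtain ⟨w, ⟨⟨hwU, hwC⟩, hwT⟩, hw⟩ := nonempty_inter_closedPoints (Z := U' ∩ C' ∩ T i) ⟨z, ⟨hz.1, hz.2⟩, hi⟩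
      ((hU'.isLocallyClosed.inter hC'.isLocallyClosed).inter (hT i))
    exact ⟨⟨w, Set.mem_iUnion.mpr ⟨i, hwT⟩⟩, ⟨hwU, hwC⟩, hw⟩
  have hsub : ∀ z : ↥(⋃ i, T i), IsClosed ({(z : X)} : Set X) → IsClosed ({z} : Set ↥(⋃ i, T i)) := fun z hz => by
    have := hz.preimage (continuous_subtype_val : Continuous (Subtype.val : ↥(⋃ i, T i) → X))
    convert this using 1
    ext w; simp [Subtype.ext_iff]
  refine ⟨jacobsonSpace_iff_locallyClosed.mpr fun Z hne hZ => ?_, fun y hy => ?_⟩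
  · obtain ⟨z, hz, hzc⟩ := key Z hne hZ
    exact ⟨z, hz, hsub z hzc⟩
  · obtain ⟨z, hz, hzc⟩ := key {y} (Set.singleton_nonempty y) (IsClosed.isLocallyClosed hy)
    rw [Set.mem_singleton_iff] at hz
    exact hz ▸ hzc

end Groth.Agent.S7548
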