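import Groth.Statements.S7550
import Groth.Agent.H28Top.Noeth

set_option autoImplicit false
universe u
open PtTop

namespace Groth.Agent.S7550

/-- Let f : X → Y be a continuous and open map of topological spaces, with X Noetherian, every
irreducible closed subset of X having a generic point, and Y Kolmogorov. Then generalizations lift
along f. (Part (1), closed maps are specializing, is a library fact.) -/
theorem result {X Y : Type u} [TopologicalSpace X] [TopologicalSpace Y]
    [TopologicalSpace.NoetherianSpace X] [QuasiSober X] [T0Space Y]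
    (f : X → Y) (hf : Continuous f) (hfo : IsOpenMap f) :
    GeneralizingMap f := by
  intro x y' hy'
  have hx : x ∈ closure (f ⁻¹' {y'}) := by
    rw [mem_closure_iff]
    intro U hU hxU
    obtain ⟨z, hz, rfl⟩ := hy'.mem_open (hfo U hU) ⟨x, hxU, rfl⟩
    exact ⟨z, hz, rfl⟩
  obtain ⟨W, hW, hWi, hxW, hd⟩ := Groth.Agent.H28Top.exists_irreducible_of_mem_closure hx
  have hg := hWi.isGenericPoint_genericPoint hW
  refine ⟨hWi.genericPoint, hg.specializes hxW, ?_⟩
  obtain ⟨z, hzy, hzW⟩ : (f ⁻¹' {y'} ∩ W).Nonempty := by
    by_contra h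
    rw [Set.not_nonempty_iff_eq_empty.mp h, closure_empty] at hd
    exact hd hxW
  have h1 : f hWi.genericPoint ⤳ y' := hzy ▸ (hg.specializes hzW).map hf
  have h2 : y' ⤳ f hWi.genericPoint := by
    rw [specializes_iff_mem_closure]
    refine closure_mono ?_ (image_closure_subset_closure_image hf ⟨_, hd hg.mem, rfl⟩)
    rintro _ ⟨a, ha, rfl⟩
    exact ha.1
  exact (h1.antisymm h2).eq

end Groth.Agent.S7550
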