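import Groth.Statements.S7551

set_option autoImplicit false
universe u
open PtTop

namespace Groth.Agent.S7551

/-- Let s, t : R → U and π : U → X be continuous maps between topological spaces satisfying: (1) π is an
open map, (2) U is a sober space, (3) s and t have finite fibres, (4) generalizations lift along s
and along t, and (5) the image of (t, s) : R → U × U is an equivalence relation on U and π
identifies X, as a set, with the quotient of U by it. Then X is Kolmogorov. -/
theorem result {R U X : Type u}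
    [TopologicalSpace R] [TopologicalSpace U] [TopologicalSpace X] [QuasiSober U] [T0Space U]
    (s t : R → U) (π : U → X) (hs : Continuous s) (ht : Continuous t) (hπ : Continuous π)
    (hπo : IsOpenMap π) (hsf : ∀ u, (s ⁻¹' {u}).Finite) (htf : ∀ u, (t ⁻¹' {u}).Finite)
    (hsg : GeneralizingMap s) (htg : GeneralizingMap t)
    (hE : Equivalence fun u u' : U => ∃ r, t r = u ∧ s r = u')
    (hπs : Function.Surjective π) (hπq : ∀ u u' : U, π u = π u' ↔ ∃ r, t r = u ∧ s r = u') :
    T0Space X := by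
  refine ⟨fun a b hab => ?_⟩
  obtain ⟨u, rfl⟩ := hπs a
  obtain ⟨u', rfl⟩ := hπs b
  have hcls : ∀ w : U, {z | π z = π w}.Finite := fun w => by
    refine ((hsf w).image t).subset ?_
    intro z hz
    obtain ⟨r, hr1, hr2⟩ := (hπq z w).mp hz
    exact ⟨r, hr2, hr1⟩
  have hlift : ∀ (w w' : U), π w ⤳ π w' → ∃ z, π z = π w ∧ z ⤳ w' := by
    intro w w' hww
    have hcl : w' ∈ closure {z | π z = π w} := by
      rw [mem_closure_iff]
      intro V hV hw'
      obtain ⟨z, hz, hzw⟩ := hww.mem_open (hπo V hV) ⟨w', hw', rfl⟩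
      exact ⟨z, hz, hzw⟩
    rw [← Set.biUnion_of_singleton {z | π z = π w}, (hcls w).closure_biUnion] at hcl
    simp only [Set.mem_iUnion] at hcl
    obtain ⟨z, hz, hz'⟩ := hcl
    exact ⟨z, hz, specializes_iff_mem_closure.mpr hz'⟩
  have hmove : ∀ (z w v : U), z ⤳ w → π v = π w → ∃ z', π z' = π z ∧ z' ⤳ v := by
    intro z w v hzw hvw
    obtain ⟨r, hrt, hrs⟩ := (hπq w v).mp hvw.symm
    obtain ⟨r', hr', hrz⟩ := htg (show z ⤳ t r by rw [hrt]; exact hzw)
    refine ⟨s r', ?_, by rw [← hrs]; exact hr'.map hs⟩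
    exact ((hπq z (s r')).mpr ⟨r', hrz, rfl⟩).symm
  -- pick a most generic point in the class of `u`
  obtain ⟨m, hm, hmax⟩ : ∃ m ∈ {z | π z = π u}, ∀ z ∈ {z | π z = π u}, z ⤳ m → z = m := by
    letI : PartialOrder U := specializationOrder U
    obtain ⟨m, hm⟩ := (hcls u).exists_maximal ⟨u, rfl⟩
    exact ⟨m, hm.1, fun z hz hzm => le_antisymm (hm.2 hz hzm) hzm⟩
  obtain ⟨v, hv, hvu⟩ := hlift u' u hab.specializes'
  obtain ⟨c', hc', hc'm⟩ := hmove v u m hvu hm
  obtain ⟨v₂, hv₂, hv₂u⟩ := hlift u u' hab.specializes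
  obtain ⟨d, hd, hdc⟩ := hmove v₂ u' c' hv₂u (hc'.trans hv)
  have : d = m := hmax d (hd.trans hv₂) (hdc.trans hc'm)
  subst this
  rw [← hv, ← hc', ← (hc'm.antisymm hdc).eq.symm, hd.trans hv₂]

end Groth.Agent.S7551
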