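import Groth.Statements.S7552

set_option autoImplicit false
universe u
open PtTop

namespace Groth.Agent.S7552

/-- Let f : X → Y be a continuous surjective map of topological spaces with Y sober, and assume that
specializations lift along f or that generalizations lift along f. Then dim X ≥ dim Y (Krull
dimensions as suprema of lengths of chains of irreducible closed subsets). -/
theorem result {X Y : Type u}
    [TopologicalSpace X] [TopologicalSpace Y] [QuasiSober Y] [T0Space Y]
    (f : X → Y) (hf : Continuous f) (hsurj : Function.Surjective f)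
    (hlift : SpecializingMap f ∨ GeneralizingMap f) :
    topologicalKrullDim Y ≤ topologicalKrullDim X := by
  refine iSup_le fun s => ?_
  have hgen : ∀ i, ∃ y : Y, closure {y} = (s i : Set Y) := fun i =>
    QuasiSober.sober (s i).isIrreducible (s i).isClosed
  choose y hy using hgen
  have hsp : ∀ i j, i ≤ j → y j ⤳ y i := fun i j hij => by
    rw [specializes_iff_closure_subset, hy, hy]
    exact s.monotone hij
  have hne : ∀ i : Fin s.length, y i.castSucc ≠ y i.succ := fun i h => by
    refine (s.step i).ne (TopologicalSpace.IrreducibleCloseds.ext ?_)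
    rw [← hy i.castSucc, ← hy i.succ, h]
  suffices ∃ x : Fin (s.length + 1) → X, (∀ i, f (x i) = y i) ∧ ∀ i : Fin s.length, x i.succ ⤳ x i.castSucc by
    obtain ⟨x, hxy, hx⟩ := this
    let t : LTSeries (TopologicalSpace.IrreducibleCloseds X) :=
      { length := s.length
        toFun := fun i => ⟨closure {x i}, isIrreducible_singleton.closure, isClosed_closure⟩
        step := fun i => by
          refine ⟨specializes_iff_closure_subset.mp (hx i), fun hle => hne i ?_⟩
          have h2 : x i.castSucc ⤳ x i.succ := specializes_iff_closure_subset.mpr hle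
          have h3 := h2.map hf
          have h4 := (hx i).map hf
          rw [hxy, hxy] at h3 h4
          exact (h3.antisymm h4).eq }
    exact Order.LTSeries.length_le_krullDim t
  rcases hlift with hl | hl
  · suffices ∀ k : Fin (s.length + 1), ∃ x : Fin (s.length + 1) → X, (∀ i, k ≤ i → f (x i) = y i) ∧
        ∀ i : Fin s.length, k ≤ i.castSucc → x i.succ ⤳ x i.castSucc by
      obtain ⟨x, h1, h2⟩ := this 0
      exact ⟨x, fun i => h1 i (Fin.zero_le i), fun i => h2 i (Fin.zero_le _)⟩
    intro k
    induction k using Fin.reverseInduction with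
    | last =>
      obtain ⟨a, ha⟩ := hsurj (y (Fin.last _))
      refine ⟨fun _ => a, fun i hi => by rw [Fin.last_le_iff.mp hi]; exact ha, fun i hi => ?_⟩
      exact absurd hi (not_le_of_gt (Fin.castSucc_lt_last i))
    | cast k ih =>
      obtain ⟨x, h1, h2⟩ := ih
      obtain ⟨a, hax, hay⟩ := hl (show f (x k.succ) ⤳ y k.castSucc by
        rw [h1 _ le_rfl]; exact hsp _ _ (Fin.castSucc_lt_succ (i := k)).le)
      refine ⟨Function.update x k.castSucc a, fun i hi => ?_, fun i hi => ?_⟩
      · by_cases h : i = k.castSucc
        · subst h; simpa using hay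
        · rw [Function.update_of_ne h]
          exact h1 i (Fin.castSucc_lt_iff_succ_le.mp (lt_of_le_of_ne hi (Ne.symm h)))
      · have hne' : i.succ ≠ k.castSucc := fun h =>
          absurd (hi.trans_lt (Fin.castSucc_lt_succ (i := i))) (by rw [h]; exact lt_irrefl _)
        rw [Function.update_of_ne hne']
        by_cases h : i = k
        · subst h; simpa [flip] using hax
        · rw [Function.update_of_ne (fun hh => h (Fin.castSucc_injective _ hh))]
          exact h2 i (Fin.castSucc_lt_iff_succ_le.mp (lt_of_le_of_ne hi (fun hh => h (Fin.castSucc_injective _ hh).symm)))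
  · suffices ∀ k : Fin (s.length + 1), ∃ x : Fin (s.length + 1) → X, (∀ i, i ≤ k → f (x i) = y i) ∧
        ∀ i : Fin s.length, i.succ ≤ k → x i.succ ⤳ x i.castSucc by
      obtain ⟨x, h1, h2⟩ := this (Fin.last _)
      exact ⟨x, fun i => h1 i (Fin.le_last i), fun i => h2 i (Fin.le_last _)⟩
    intro k
    induction k using Fin.induction with
    | zero =>
      obtain ⟨a, ha⟩ := hsurj (y 0)
      exact ⟨fun _ => a, fun i hi => by rw [Fin.le_zero_iff'.mp hi]; exact ha,
        fun i hi => absurd hi (not_le_of_gt (Fin.succ_pos i))⟩
    | succ k ih =>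
      obtain ⟨x, h1, h2⟩ := ih
      obtain ⟨a, hax, hay⟩ := hl (show y k.succ ⤳ f (x k.castSucc) by
        rw [h1 _ le_rfl]; exact hsp _ _ (Fin.castSucc_lt_succ (i := k)).le)
      refine ⟨Function.update x k.succ a, fun i hi => ?_, fun i hi => ?_⟩
      · by_cases h : i = k.succ
        · subst h; simpa using hay
        · rw [Function.update_of_ne h]
          exact h1 i (Fin.le_castSucc_iff.mpr (lt_of_le_of_ne hi h))
      · have hne' : i.castSucc ≠ k.succ := fun h =>
          absurd ((Fin.castSucc_lt_succ (i := i)).trans_le hi) (by rw [h]; exact lt_irrefl _)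
        rw [Function.update_of_ne hne']
        by_cases h : i = k
        · subst h; simpa [flip] using hax
        · rw [Function.update_of_ne (fun hh => h (Fin.succ_injective _ hh))]
          exact h2 i (Fin.le_castSucc_iff.mpr (lt_of_le_of_ne hi (fun hh => h (Fin.succ_injective _ hh))))

end Groth.Agent.S7552
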