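import Groth.Statements.S7556

set_option autoImplicit false
universe u
open PtTop

namespace Groth.Agent.S7556

/-- Let X be a quasi-compact Hausdorff space. There is a continuous surjection p : X' → X with X'
quasi-compact, Hausdorff and extremally disconnected such that no proper closed subset of X' maps
onto X; and if q : X'' → X is a second cover with the same properties, there is a homeomorphism X' ≃
X'' compatible with p and q. -/
theorem result (X : Type u) [TopologicalSpace X] [CompactSpace X] [T2Space X] :
    (∃ (X' : Type u) (_ : TopologicalSpace X') (_ : CompactSpace X') (_ : T2Space X') (_ : ExtremallyDisconnected X')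
        (p : X' → X), Continuous p ∧ Function.Surjective p ∧
        ∀ E : Set X', IsClosed E → E ≠ Set.univ → p '' E ≠ Set.univ) ∧
    (∀ (X' X'' : Type u) [TopologicalSpace X'] [CompactSpace X'] [T2Space X'] [ExtremallyDisconnected X']
        [TopologicalSpace X''] [CompactSpace X''] [T2Space X''] [ExtremallyDisconnected X'']
        (p : X' → X) (q : X'' → X),
        Continuous p → Function.Surjective p → (∀ E : Set X', IsClosed E → E ≠ Set.univ → p '' E ≠ Set.univ) →
        Continuous q → Function.Surjective q → (∀ E : Set X'', IsClosed E → E ≠ Set.univ → q '' E ≠ Set.univ) →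
        ∃ h : X' ≃ₜ X'', q ∘ h = p) := by
  classical
  have hid : ∀ {E : Type u} [TopologicalSpace E] [T2Space E] [CompactSpace E] (q : E → X),
      (∀ F : Set E, IsClosed F → F ≠ Set.univ → q '' F ≠ Set.univ) → Function.Surjective q →
      ∀ h : E → E, Continuous h → q ∘ h = q → h = id := by
    intro E _ _ _ q hq hs h hh hcomp
    have hsurj : Function.Surjective h := by
      rw [← Set.range_eq_univ]
      by_contra hne
      refine hq _ (isCompact_range hh).isClosed hne ?_
      rw [← Set.range_comp, hcomp, hs.range_eq]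
    by_contra hne
    obtain ⟨F, hF, hFne, hFu⟩ : ∃ F : Set E, IsClosed F ∧ F ≠ Set.univ ∧ F ∪ h '' F = Set.univ := by
      obtain ⟨x, hx⟩ : ∃ x, h x ≠ x := by
        by_contra h'
        push Not at h'
        exact hne (funext h')
      obtain ⟨V, U, hV, hU, hfV, hxU, hd⟩ := t2_separation hx
      refine ⟨(U ∩ h ⁻¹' V)ᶜ, (hU.inter (hV.preimage hh)).isClosed_compl, fun he => (he.ge (Set.mem_univ x)) ⟨hxU, hfV⟩,
        Set.eq_univ_of_forall fun w => ?_⟩
      by_cases hw : w ∈ U ∩ h ⁻¹' V
      · obtain ⟨z, rfl⟩ := hsurj w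
        exact .inr ⟨z, fun hz => Set.disjoint_left.mp hd hz.2 hw.1, rfl⟩
      · exact .inl hw
    refine hq F hF hFne (Set.eq_univ_of_forall fun y => ?_)
    obtain ⟨e, rfl⟩ := hs y
    rcases hFu.ge (Set.mem_univ e) with h' | ⟨z, hz, rfl⟩
    · exact ⟨e, h', rfl⟩
    · exact ⟨z, hz, (congrFun hcomp z).symm⟩
  refine ⟨?_, ?_⟩
  · haveI : DiscreteTopology (WithTopology X (⊥ : TopologicalSpace X)) := ⟨eq_bot_of_singletons_open fun z => by
      rw [WithTopology.isOpen_iff]; exact trivial⟩
    have hf : Continuous (fun z : WithTopology X (⊥ : TopologicalSpace X) => WithTopology.ofTopology z) :=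
      continuous_of_discreteTopology
    let π : StoneCech (WithTopology X (⊥ : TopologicalSpace X)) → X := stoneCechExtend hf
    have hπ : Continuous π := continuous_stoneCechExtend hf
    have hπs : Function.Surjective π := fun x =>
      ⟨stoneCechUnit (WithTopology.toTopology _ x), stoneCechExtend_stoneCechUnit hf _⟩
    obtain ⟨E, hEc, hEs, hEm⟩ := exists_compact_surjective_zorn_subset hπ hπs
    haveI := hEc
    have hπE : Continuous (E.domRestrict π) := hπ.comp continuous_subtype_val
    have hsE : Function.Surjective (E.domRestrict π) := fun x => by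
      obtain ⟨e, he, hex⟩ := hEs.ge (Set.mem_univ x)
      exact ⟨⟨e, he⟩, hex⟩
    have hmin : ∀ F : Set E, IsClosed F → F ≠ Set.univ → E.domRestrict π '' F ≠ Set.univ :=
      fun F h1 h2 => hEm F h2 h1
    obtain ⟨g, hg, hgπ⟩ := StoneCech.projective hπ hπE hsE
    have hretr : g ∘ (Subtype.val : E → _) = id := hid (E.domRestrict π) hmin hsE _
      (hg.comp continuous_subtype_val) (by rw [← Function.comp_assoc, hgπ]; rfl)
    have hproj : CompactT2.Projective E := by
      intro Y Z _ _ _ _ _ _ f k hf' hk hks
      obtain ⟨h, hh, hkh⟩ := StoneCech.projective (hf'.comp hg) hk hks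
      exact ⟨h ∘ Subtype.val, hh.comp continuous_subtype_val, by
        rw [← Function.comp_assoc, hkh, Function.comp_assoc, hretr, Function.comp_id]⟩
    exact ⟨E, inferInstance, inferInstance, inferInstance, hproj.extremallyDisconnected, _, hπE, hsE, hmin⟩
  · intro X' X'' _ _ _ _ _ _ _ _ p q hp hps hpm hq hqs hqm
    obtain ⟨h, hh, hqh⟩ := CompactT2.ExtremallyDisconnected.projective (A := X') hp hq hqs
    obtain ⟨g, hg, hpg⟩ := CompactT2.ExtremallyDisconnected.projective (A := X'') hq hp hps
    have h1 : g ∘ h = id := hid p hpm hps _ (hg.comp hh) (by rw [← Function.comp_assoc, hpg, hqh])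
    have h2 : h ∘ g = id := hid q hqm hqs _ (hh.comp hg) (by rw [← Function.comp_assoc, hqh, hpg])
    exact ⟨⟨⟨h, g, congrFun h1, congrFun h2⟩, hh, hg⟩, hqh⟩

end Groth.Agent.S7556
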