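import Groth.Statements.S7559
import Groth.Agent.H28Top.Noeth

set_option autoImplicit false
universe u
open PtTop

namespace Groth.Agent.S7559

/-- Let X be a topological space and X = ∐ P_k a finite partition into locally closed parts. Then there
is a finite stratification of X refining it: a finite partially ordered index set I and pairwise
disjoint locally closed strata S_i covering X with closure(S_j) ⊆ ⋃_{i ≤ j} S_i, such that every
part P_k is a union of strata. -/
theorem result {X : Type u} [TopologicalSpace X]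
    {n : ℕ} (P : Fin n → Set X) (hP : ∀ k, IsLocallyClosed (P k)) (hcov : ⋃ k, P k = Set.univ)
    (hdisj : ∀ k k', k ≠ k' → Disjoint (P k) (P k')) :
    ∃ (I : Type) (_ : Fintype I) (_ : PartialOrder I) (S : I → Set X),
      (∀ i, IsLocallyClosed (S i)) ∧ (⋃ i, S i = Set.univ) ∧ (∀ i j, i ≠ j → Disjoint (S i) (S j)) ∧
      (∀ j, closure (S j) ⊆ ⋃ i ∈ Set.Iic j, S i) ∧
      (∀ i k, (S i ∩ P k).Nonempty → S i ⊆ P k) := by
  classical
  choose U Z hU hZ hP' using hP
  let R : Fin (n + n) → Set X := Fin.append U fun k => (Z k)ᶜ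
  obtain ⟨h1, h2, h3, h4, -⟩ := Groth.Agent.H28Top.exists_stratification_of_finite_opens _ R fun i => by
    refine Fin.addCases (fun k => ?_) (fun k => ?_) i
    · simp only [R, Fin.append_left]; exact hU k
    · simp only [R, Fin.append_right]; exact (hZ k).isOpen_compl
  refine ⟨_, inferInstance, inferInstance, _, h1, h2, h3, h4, ?_⟩
  rintro s k ⟨x, hxs, hxP⟩ z hz
  rw [hP' k] at hxP ⊢
  have e1 := (hxs (Fin.castAdd n k)).trans (hz _).symm
  have e2 := (hxs (Fin.natAdd n k)).trans (hz _).symm
  simp only [R, Fin.append_left, Fin.append_right] at e1 e2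
  exact ⟨e1.mp hxP.1, by_contra fun hh => (e2.mpr hh) hxP.2⟩

end Groth.Agent.S7559
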