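import Groth.Statements.S7560
import Groth.Agent.H28Top.Noeth

set_option autoImplicit false
universe u
open ConstrTop

namespace Groth.Agent.S7560

/-- Let X be a topological space written as a finite union X = T_1 ∪ … ∪ T_n of constructible subsets.
Then there is a finite stratification X = ∐ S_i (pairwise disjoint locally closed strata indexed by
a finite partially ordered set, with closure(S_j) ⊆ ⋃_{i ≤ j} S_i) whose strata are constructible
and such that every T_k is a union of strata. -/
theorem result {X : Type u} [TopologicalSpace X]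
    {n : ℕ} (T : Fin n → Set X) (hT : ∀ k, Topology.IsConstructible (T k)) (hcov : ⋃ k, T k = Set.univ) :
    ∃ (I : Type) (_ : Fintype I) (_ : PartialOrder I) (S : I → Set X),
      (∀ i, IsLocallyClosed (S i) ∧ Topology.IsConstructible (S i)) ∧ (⋃ i, S i = Set.univ) ∧
      (∀ i j, i ≠ j → Disjoint (S i) (S j)) ∧
      (∀ j, closure (S j) ⊆ ⋃ i ∈ Set.Iic j, S i) ∧
      (∀ i k, (S i ∩ T k).Nonempty → S i ⊆ T k) := by
  classical
  choose t ht hTt using fun k => Groth.Agent.H28Top.exists_finset_sdiff_of_isConstructible (hT k)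
  let A := Σ k : Fin n, ↥(t k) × Bool
  haveI : Fintype A := Fintype.ofFinite _
  let R : Fin (Fintype.card A) → Set X := fun i =>
    let a := (Fintype.equivFin A).symm i
    bif a.2.2 then a.2.1.1.1 else a.2.1.1.2
  have hR : ∀ i, IsOpen (R i) ∧ IsRetrocompact (R i) := by
    intro i
    simp only [R]
    cases ((Fintype.equivFin A).symm i).2.2
    · exact (ht _ _ ((Fintype.equivFin A).symm i).2.1.2).2
    · exact (ht _ _ ((Fintype.equivFin A).symm i).2.1.2).1
  obtain ⟨h1, h2, h3, h4, h5⟩ :=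
    Groth.Agent.H28Top.exists_stratification_of_finite_opens _ R fun i => (hR i).1
  refine ⟨_, inferInstance, inferInstance, _, fun s => ⟨h1 s, h5 s fun i => (hR i).2⟩, h2, h3, h4, ?_⟩
  rintro s k ⟨x, hxs, hxT⟩ z hz
  rw [hTt k] at hxT ⊢
  simp only [Set.mem_iUnion] at hxT ⊢
  obtain ⟨p, hp, hx1, hx2⟩ := hxT
  have e1 := (hxs ((Fintype.equivFin A) ⟨k, ⟨p, hp⟩, true⟩)).trans (hz _).symm
  have e2 := (hxs ((Fintype.equivFin A) ⟨k, ⟨p, hp⟩, false⟩)).trans (hz _).symm
  have hRa : ∀ a : A, R (Fintype.equivFin A a) = bif a.2.2 then a.2.1.1.1 else a.2.1.1.2 := fun a =>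
    congrArg (fun b : A => bif b.2.2 then b.2.1.1.1 else b.2.1.1.2) ((Fintype.equivFin A).symm_apply_apply a)
  rw [hRa] at e1 e2
  exact ⟨p, hp, e1.mp hx1, fun hh => hx2 (e2.mpr hh)⟩

end Groth.Agent.S7560
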