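import Groth.Statements.S7561
import Groth.Agent.H28Top.Noeth

set_option autoImplicit false
universe u
open PtTop

namespace Groth.Agent.S7561

/-- Let X be a Noetherian topological space and X = ∐ P_k a finite partition into locally closed parts.
Then it is refined by a finite good stratification: a finite partition X = ∐ S_i into locally closed
strata such that S_i ∩ closure(S_j) ≠ ∅ implies S_i ⊆ closure(S_j), with every P_k a union of
strata. -/
theorem result {X : Type u} [TopologicalSpace X]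
    [TopologicalSpace.NoetherianSpace X]
    {n : ℕ} (P : Fin n → Set X) (hP : ∀ k, IsLocallyClosed (P k)) (hcov : ⋃ k, P k = Set.univ)
    (hdisj : ∀ k k', k ≠ k' → Disjoint (P k) (P k')) :
    ∃ (m : ℕ) (S : Fin m → Set X),
      (∀ i, IsLocallyClosed (S i)) ∧ (⋃ i, S i = Set.univ) ∧ (∀ i j, i ≠ j → Disjoint (S i) (S j)) ∧
      (∀ i j, (S i ∩ closure (S j)).Nonempty → S i ⊆ closure (S j)) ∧
      (∀ i k, (S i ∩ P k).Nonempty → S i ⊆ P k) := by
  classical
  choose U Z hU hZ hP' using hP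
  obtain ⟨𝒮, h1, h2, h3, h4, h5⟩ := Groth.Agent.H28Top.exists_good_stratification (X := X) isClosed_univ
    (Finset.univ.image Z ∪ Finset.univ.image fun k => (U k)ᶜ) (by
      simp only [Finset.mem_union, Finset.mem_image, Finset.mem_univ, true_and]
      rintro C (⟨k, rfl⟩ | ⟨k, rfl⟩)
      · exact hZ k
      · exact (hU k).isClosed_compl)
  refine ⟨𝒮.card, fun i => (𝒮.equivFin.symm i).1, fun i => (h1 _ (𝒮.equivFin.symm i).2).1, ?_, ?_, ?_, ?_⟩
  · refine Set.eq_univ_of_forall fun x => ?_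
    obtain ⟨S, hS, hx⟩ := Set.mem_iUnion₂.mp (h2 (Set.mem_univ x))
    exact Set.mem_iUnion.mpr ⟨𝒮.equivFin ⟨S, hS⟩, by simpa using hx⟩
  · intro i j hij
    exact h3 _ (𝒮.equivFin.symm i).2 _ (𝒮.equivFin.symm j).2
      fun h => hij (𝒮.equivFin.symm.injective (Subtype.ext h))
  · exact fun i j => h4 _ (𝒮.equivFin.symm i).2 _ (𝒮.equivFin.symm j).2
  · rintro i k ⟨x, hxS, hxP⟩ z hz
    rw [hP' k] at hxP ⊢
    constructor
    · by_contra hh
      exact (h5 _ (𝒮.equivFin.symm i).2 (U k)ᶜ (by simp) ⟨z, hz, hh⟩ hxS) hxP.1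
    · exact h5 _ (𝒮.equivFin.symm i).2 (Z k) (by simp) ⟨x, hxS, hxP.2⟩ hz

end Groth.Agent.S7561
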