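import Groth.Statements.S7562

set_option autoImplicit false
universe u
open PtTop

namespace Groth.Agent.S7562

/-- Let f : X → Y be a surjective closed continuous map of topological spaces and T ⊆ Y. Then the
closure of T equals f applied to the closure of f⁻¹(T), and T is locally closed in Y if and only if
f⁻¹(T) is locally closed in X. The published statement also asserts that Y carries the quotient
topology of X; this row states the closure formula and the locally-closed equivalence only. -/
theorem result {X Y : Type u} [TopologicalSpace X] [TopologicalSpace Y]
    (f : X → Y) (hf : Continuous f) (hc : IsClosedMap f) (hs : Function.Surjective f) (T : Set Y) :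
    closure T = f '' closure (f ⁻¹' T) ∧ (IsLocallyClosed T ↔ IsLocallyClosed (f ⁻¹' T)) := by
  have hcl : ∀ S : Set Y, closure S = f '' closure (f ⁻¹' S) := fun S => by
    refine Set.Subset.antisymm (closure_minimal ?_ (hc _ isClosed_closure)) ?_
    · intro y hy
      obtain ⟨x, rfl⟩ := hs y
      exact ⟨x, subset_closure hy, rfl⟩
    · exact (image_closure_subset_closure_image hf).trans (closure_mono (Set.image_preimage_subset f S))
  refine ⟨hcl T, fun h => h.preimage hf, fun h => ?_⟩
  rw [isLocallyClosed_iff_isOpen_coborder, ← isClosed_compl_iff, coborder, compl_compl] at h ⊢
  have : closure T \ T = f '' (closure (f ⁻¹' T) \ f ⁻¹' T) := by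
    rw [Set.image_sdiff_preimage, ← hcl T]
  rw [this]
  exact hc _ h

end Groth.Agent.S7562
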