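import Groth.Statements.S7563

set_option autoImplicit false
universe u
open PtTop

namespace Groth.Agent.S7563

/-- Let X be a topological space and X = X_1 ∪ … ∪ X_n with each X_i irreducible and closed and no X_i
contained in the union of the others. Then the irreducible components of X are precisely the sets
X_1, …, X_n. -/
theorem result {X : Type u} [TopologicalSpace X]
    {n : ℕ} (Z : Fin n → Set X) (hZ : ∀ i, IsIrreducible (Z i) ∧ IsClosed (Z i))
    (hcov : ⋃ i, Z i = Set.univ) (hirr : ∀ i, ¬ Z i ⊆ ⋃ j ∈ ({i}ᶜ : Set (Fin n)), Z j) :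
    irreducibleComponents X = Set.range Z := by
  classical
  have hin : ∀ T : Set X, IsIrreducible T → ∃ i, T ⊆ Z i := by
    intro T hT
    obtain ⟨D, hD, hTD⟩ := isIrreducible_iff_sUnion_isClosed.mp hT (Finset.univ.image Z)
      (by simpa using fun i => (hZ i).2) (by simp [hcov])
    obtain ⟨i, -, rfl⟩ := Finset.mem_image.mp hD
    exact ⟨i, hTD⟩
  refine Set.Subset.antisymm (fun T hT => ?_) ?_
  · obtain ⟨i, hi⟩ := hin T hT.1
    exact ⟨i, (hT.2 (hZ i).1 hi).antisymm hi⟩
  · rintro _ ⟨i, rfl⟩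
    refine ⟨(hZ i).1, fun u hu hiu => ?_⟩
    obtain ⟨j, hj⟩ := hin u hu
    by_cases hji : j = i
    · exact hji ▸ hj
    · exact absurd ((hiu.trans hj).trans (Set.subset_biUnion_of_mem (u := Z) (show j ∈ ({i}ᶜ : Set (Fin n)) from hji))) (hirr i)

end Groth.Agent.S7563
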