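import Groth.Statements.S7565

set_option autoImplicit false
universe u
open PtTop

namespace Groth.Agent.S7565

/-- Let f : X → Y be a continuous open map of topological spaces and assume every point of X has a
Noetherian neighbourhood. Then every point of f(X) (with the induced topology) has a Noetherian
neighbourhood. The published statement also asserts that a continuous image of a Noetherian space is
Noetherian; this row states the part about open maps and locally Noetherian spaces. -/
theorem result {X Y : Type u} [TopologicalSpace X] [TopologicalSpace Y]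
    (f : X → Y) (hf : Continuous f) (hfo : IsOpenMap f)
    (hX : ∀ x : X, ∃ E ∈ nhds x, TopologicalSpace.NoetherianSpace E) :
    ∀ y : Set.range f, ∃ E : Set (Set.range f), E ∈ nhds y ∧ TopologicalSpace.NoetherianSpace E := by
  intro y
  obtain ⟨x, hx⟩ := y.2
  obtain ⟨E, hE, hN⟩ := hX x
  obtain ⟨U, hUE, hU, hxU⟩ := mem_nhds_iff.mp hE
  haveI := hN
  haveI := TopologicalSpace.NoetherianSpace.of_subset hUE
  let g : U → Set.range f := fun u => ⟨f u, u, rfl⟩
  have hg : Continuous g := (hf.comp continuous_subtype_val).subtype_mk _
  refine ⟨Set.range g, ?_, TopologicalSpace.NoetherianSpace.range g hg⟩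
  have : Set.range g = Subtype.val ⁻¹' (f '' U) := by
    ext z
    exact ⟨fun ⟨u, hu⟩ => ⟨u, u.2, congrArg Subtype.val hu⟩, fun ⟨u, hu, h⟩ => ⟨⟨u, hu⟩, Subtype.ext h⟩⟩
  rw [this]
  exact ((hfo U hU).preimage continuous_subtype_val).mem_nhds ⟨x, hxU, hx⟩

end Groth.Agent.S7565
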