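import Groth.Statements.S7567
import Groth.Agent.H28Top.Components

set_option autoImplicit false
universe u
open PtTop

namespace Groth.Agent.S7567

/-- Let X be a quasi-compact topological space whose quasi-compact opens form a basis, any two of them
meeting in a quasi-compact set. For a subset T ⊆ X these two conditions are equivalent: (a) T can be
written as an intersection of clopen subsets of X; (b) T is closed and is a union of connected
components of X. -/
theorem result {X : Type u} [TopologicalSpace X]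
    [CompactSpace X] [PrespectralSpace X] [QuasiSeparatedSpace X] (T : Set X) :
    (∃ S : Set (Set X), (∀ Z ∈ S, IsClopen Z) ∧ T = ⋂₀ S) ↔
      (IsClosed T ∧ ∀ x ∈ T, connectedComponent x ⊆ T) := by
  constructor
  · rintro ⟨S, hS, rfl⟩
    exact ⟨isClosed_sInter fun Z hZ => (hS Z hZ).1,
      fun x hx y hy Z hZ => (hS Z hZ).connectedComponent_subset (hx Z hZ) hy⟩
  · rintro ⟨hT, hsat⟩
    refine ⟨{Z | IsClopen Z ∧ T ⊆ Z}, fun Z hZ => hZ.1, Set.Subset.antisymm (fun x hx Z hZ => hZ.2 hx) fun x hx => ?_⟩
    by_contra hxT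
    have hdis : T ∩ ⋂ Z : {Z : Set X // IsClopen Z ∧ x ∈ Z}, (Z : Set X) = ∅ := by
      rw [Set.eq_empty_iff_forall_notMem]
      rintro y ⟨hyT, hy⟩
      have : y ∈ connectedComponent x := by
        rw [Groth.Agent.H28Top.connectedComponent_eq_sInter_isClopen]
        exact fun Z hZ => Set.mem_iInter.mp hy ⟨Z, hZ⟩
      exact hxT (hsat y hyT (by rw [← connectedComponent_eq this]; exact mem_connectedComponent))
    obtain ⟨t, ht⟩ := hT.isCompact.elim_finite_subfamily_closed
      (fun Z : {Z : Set X // IsClopen Z ∧ x ∈ Z} => (Z : Set X)) (fun Z => Z.2.1.1) hdis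
    refine hx (⋂ Z ∈ t, (Z : Set X))ᶜ ⟨(isClopen_biInter_finset fun Z _ => Z.2.1).compl, fun y hy hy' => ?_⟩
      (Set.mem_iInter₂.mpr fun Z _ => Z.2.2)
    exact Set.eq_empty_iff_forall_notMem.mp ht y ⟨hy, hy'⟩

end Groth.Agent.S7567
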