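import Groth.Statements.S7568
import Groth.Agent.H28Top.Compact

set_option autoImplicit false
universe u
open PtTop

namespace Groth.Agent.S7568

/-- Let X be a Hausdorff quasi-compact space, X = ⋃ U_i an open covering, p ≥ 0 an integer, and for
every (p+1)-tuple (i_0, …, i_p) an open covering of U_{i_0} ∩ … ∩ U_{i_p} by opens W_{i_0…i_p,k}.
Then there are an open covering X = ⋃_{j ∈ J} V_j and a map α : J → I with closure(V_j) ⊆ U_{α(j)}
such that each V_{j_0} ∩ … ∩ V_{j_p} is contained in W_{α(j_0)…α(j_p),k} for some k. The published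
statement allows a covering of an empty intersection to have no members; this row requires every
covering W_{i_0…i_p} to have at least one member (possibly empty), without which the conclusion
fails. -/
theorem result {X : Type u} [TopologicalSpace X] [CompactSpace X] [T2Space X]
    {ι : Type u} (U : ι → Set X) (hU : ∀ i, IsOpen (U i)) (hcov : ⋃ i, U i = Set.univ) (p : ℕ)
    (W : (Fin (p + 1) → ι) → Set (Set X)) (hWo : ∀ t, ∀ w ∈ W t, IsOpen w)
    (hWc : ∀ t, ⋃₀ W t = ⋂ l, U (t l)) (hWne : ∀ t, (W t).Nonempty) :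
    ∃ (J : Type u) (V : J → Set X) (α : J → ι), (∀ j, IsOpen (V j)) ∧ (⋃ j, V j = Set.univ) ∧
      (∀ j, closure (V j) ⊆ U (α j)) ∧
      (∀ t : Fin (p + 1) → J, ∃ w ∈ W (α ∘ t), (⋂ l, V (t l)) ⊆ w) := by
  classical
  have hR : Groth.Agent.H28Top.RelHausdorff (Set.univ : Set X) := fun z _ z' _ h => t2_separation h
  obtain ⟨J, K, hKc, hKU, hKcov⟩ := hR.exists_closed_shrinking isCompact_univ U hU hcov.ge
  have hA : ∀ i, ∃ A : Set X, IsOpen A ∧ K i ⊆ A ∧ closure A ⊆ U i := fun i => by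
    obtain ⟨L, hLc, hKL, hLU⟩ := exists_compact_between (hKc i) (hU i) (fun x hx => (hKU i hx).2)
    exact ⟨interior L, isOpen_interior, hKL, (closure_minimal interior_subset hLc.isClosed).trans hLU⟩
  choose A hAo hKA hAU using hA
  choose α hαJ hxα using fun x : X => Set.mem_iUnion₂.mp (hKcov (Set.mem_univ x))
  let L : (Fin (p + 1) → J) → Set X := fun t => ⋂ l, closure (A (t l))
  have hL : ∀ t, IsClosed (L t) := fun t => isClosed_iInter fun l => isClosed_closure
  have hO : ∀ (x : X) (t : Fin (p + 1) → J), ∃ O : Set X, IsOpen O ∧ x ∈ O ∧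
      (x ∈ L t → ∃ w ∈ W (fun l => t l), O ⊆ w) ∧ (x ∉ L t → Disjoint O (L t)) := fun x t => by
    by_cases hx : x ∈ L t
    · obtain ⟨w, hw, hxw⟩ := (Set.mem_sUnion.mp ((hWc fun l => (t l : ι)).ge
        (Set.mem_iInter.mpr fun l => hAU _ (Set.mem_iInter.mp hx l))))
      exact ⟨w, hWo _ w hw, hxw, fun _ => ⟨w, hw, subset_rfl⟩, fun h => absurd hx h⟩
    · exact ⟨(L t)ᶜ, (hL t).isOpen_compl, hx, fun h => absurd h hx, fun _ => disjoint_compl_left⟩
  choose O hOo hxO hOw hOd using hO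
  refine ⟨X, fun x => A (α x) ∩ ⋂ t, O x t, α, fun x => (hAo _).inter (isOpen_iInter_of_finite fun t => hOo x t),
    Set.eq_univ_of_forall fun x => Set.mem_iUnion.mpr ⟨x, hKA _ (hxα x), Set.mem_iInter.mpr (hxO x)⟩,
    fun x => (closure_mono Set.inter_subset_left).trans (hAU _), fun t => ?_⟩
  let s : Fin (p + 1) → J := fun l => ⟨α (t l), hαJ _⟩
  by_cases hne : (⋂ l, (A (α (t l)) ∩ ⋂ u, O (t l) u)).Nonempty
  · obtain ⟨y, hy⟩ := hne
    rw [Set.mem_iInter] at hy
    have hmem : t 0 ∈ L s := by_contra fun h => Set.disjoint_left.mp (hOd _ s h) (Set.mem_iInter.mp (hy 0).2 s)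
      (Set.mem_iInter.mpr fun l => subset_closure (hy l).1)
    obtain ⟨w, hw, hOsub⟩ := hOw _ s hmem
    exact ⟨w, hw, fun z hz => hOsub (Set.mem_iInter.mp (Set.mem_iInter.mp hz 0).2 s)⟩
  · obtain ⟨w, hw⟩ := hWne (α ∘ t)
    exact ⟨w, hw, fun z hz => absurd ⟨z, hz⟩ hne⟩

end Groth.Agent.S7568
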