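import Groth.Statements.S7569
import Groth.Agent.H28Top.Compact

set_option autoImplicit false
universe u
open PtTop

namespace Groth.Agent.S7569

/-- Let X be a Hausdorff, locally quasi-compact space and Z ⊆ X a quasi-compact subset. Let p ≥ 0, let
U_i ⊆ X be opens with Z ⊆ ⋃ U_i, and for every (p+1)-tuple (i_0, …, i_p) let W_{i_0…i_p} ⊆ U_{i_0} ∩
… ∩ U_{i_p} be an open with W_{i_0…i_p} ∩ Z = U_{i_0} ∩ … ∩ U_{i_p} ∩ Z. Then there are opens V_i ⊆
X with Z ⊆ ⋃ V_i, closure(V_i) ⊆ U_i for all i, and V_{i_0} ∩ … ∩ V_{i_p} ⊆ W_{i_0…i_p} for all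
(p+1)-tuples. -/
theorem result {X : Type u} [TopologicalSpace X]
    [T2Space X] [LocallyCompactSpace X] (Z : Set X) (hZ : IsCompact Z)
    {ι : Type u} (U : ι → Set X) (hU : ∀ i, IsOpen (U i)) (hcov : Z ⊆ ⋃ i, U i) (p : ℕ)
    (W : (Fin (p + 1) → ι) → Set X) (hWo : ∀ t, IsOpen (W t)) (hWU : ∀ t, W t ⊆ ⋂ l, U (t l))
    (hWZ : ∀ t, W t ∩ Z = (⋂ l, U (t l)) ∩ Z) :
    ∃ V : ι → Set X, (∀ i, IsOpen (V i)) ∧ (Z ⊆ ⋃ i, V i) ∧ (∀ i, closure (V i) ⊆ U i) ∧
      (∀ t : Fin (p + 1) → ι, (⋂ l, V (t l)) ⊆ W t) := by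
  classical
  have hR : Groth.Agent.H28Top.RelHausdorff Z := fun z _ z' _ h => t2_separation h
  obtain ⟨J, K, hKc, hKU, hKcov⟩ := hR.exists_closed_shrinking hZ U hU hcov
  have hA : ∀ i, ∃ A : Set X, IsOpen A ∧ K i ⊆ A ∧ closure A ⊆ U i := fun i => by
    obtain ⟨L, hLc, hKL, hLU⟩ := exists_compact_between (hKc i) (hU i) (fun x hx => (hKU i hx).2)
    exact ⟨interior L, isOpen_interior, hKL, (closure_minimal interior_subset hLc.isClosed).trans hLU⟩
  choose A hAo hKA hAU using hA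
  have hV : ∀ t : Fin (p + 1) → J, ∃ V : Fin (p + 1) → Set X,
      (∀ l, IsOpen (V l) ∧ K (t l) ⊆ V l) ∧ (⋂ l, V l) ⊆ W (fun l => t l) := fun t =>
    hR.exists_nhds_iInter_subset p (fun l => K (t l)) (fun l => hKc _) (fun l x hx => (hKU _ hx).1) _ (hWo _)
      (fun x hx => ((hWZ fun l => (t l : ι)).ge ⟨Set.mem_iInter.mpr fun l => (hKU _ (Set.mem_iInter.mp hx l)).2,
        (hKU _ (Set.mem_iInter.mp hx 0)).1⟩).1)
  choose V hVo hVW using hV
  let N : ι → Set X := fun i => if i ∈ J then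
    A i ∩ ⋂ t : Fin (p + 1) → J, ⋂ l : Fin (p + 1), ⋂ (_ : (t l : ι) = i), V t l else ∅
  refine ⟨N, fun i => ?_, fun x hx => ?_, fun i => ?_, fun t x hx => ?_⟩
  · simp only [N]; split
    · exact (hAo i).inter (isOpen_iInter_of_finite fun t => isOpen_iInter_of_finite fun l =>
        isOpen_iInter_of_finite fun _ => (hVo t l).1)
    · exact isOpen_empty
  · obtain ⟨i, hi, hxi⟩ := Set.mem_iUnion₂.mp (hKcov hx)
    refine Set.mem_iUnion.mpr ⟨i, ?_⟩
    simp only [N, if_pos hi]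
    exact ⟨hKA i hxi, Set.mem_iInter.mpr fun t => Set.mem_iInter.mpr fun l =>
      Set.mem_iInter.mpr fun h => (hVo t l).2 (h ▸ hxi)⟩
  · simp only [N]; split
    · exact (closure_mono Set.inter_subset_left).trans (hAU i)
    · simp
  · rw [Set.mem_iInter] at hx
    have ht : ∀ l, t l ∈ J := fun l => by_contra fun h => by
      have := hx l
      simp only [N, if_neg h] at this
      exact this
    refine hVW (fun l => ⟨t l, ht l⟩) (Set.mem_iInter.mpr fun l => ?_)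
    have := hx l
    simp only [N, if_pos (ht l), Set.mem_inter_iff, Set.mem_iInter] at this
    exact this.2 (fun m => ⟨t m, ht m⟩) l rfl

end Groth.Agent.S7569
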