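import Groth.Statements.S7570
import Groth.Agent.H28Top.Compact

set_option autoImplicit false
universe u
open PtTop

namespace Groth.Agent.S7570

/-- Let X be a topological space and Z ⊆ X a quasi-compact subset such that any two distinct points of Z
have disjoint open neighbourhoods in X. Let p ≥ 0, let U_i ⊆ X be opens with Z ⊆ ⋃ U_i, and for
every (p+1)-tuple let W_{i_0…i_p} ⊆ U_{i_0} ∩ … ∩ U_{i_p} be an open with W_{i_0…i_p} ∩ Z = U_{i_0}
∩ … ∩ U_{i_p} ∩ Z. Then there are opens V_i with (1) Z ⊆ ⋃ V_i, (2) V_i ⊆ U_i, (3) closure(V_i) ∩ Z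
⊆ U_i, and (4) V_{i_0} ∩ … ∩ V_{i_p} ⊆ W_{i_0…i_p} for all (p+1)-tuples. -/
theorem result {X : Type u} [TopologicalSpace X]
    (Z : Set X) (hZ : IsCompact Z)
    (hZsep : ∀ z ∈ Z, ∀ z' ∈ Z, z ≠ z' → ∃ A B : Set X, IsOpen A ∧ IsOpen B ∧ z ∈ A ∧ z' ∈ B ∧ Disjoint A B)
    {ι : Type u} (U : ι → Set X) (hU : ∀ i, IsOpen (U i)) (hcov : Z ⊆ ⋃ i, U i) (p : ℕ)
    (W : (Fin (p + 1) → ι) → Set X) (hWo : ∀ t, IsOpen (W t)) (hWU : ∀ t, W t ⊆ ⋂ l, U (t l))
    (hWZ : ∀ t, W t ∩ Z = (⋂ l, U (t l)) ∩ Z) :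
    ∃ V : ι → Set X, (∀ i, IsOpen (V i)) ∧ (Z ⊆ ⋃ i, V i) ∧ (∀ i, V i ⊆ U i) ∧
      (∀ i, closure (V i) ∩ Z ⊆ U i) ∧ (∀ t : Fin (p + 1) → ι, (⋂ l, V (t l)) ⊆ W t) := by
  classical
  have hR : Groth.Agent.H28Top.RelHausdorff Z := hZsep
  obtain ⟨J, K, hKc, hKU, hKcov⟩ := hR.exists_closed_shrinking hZ U hU hcov
  have hA : ∀ i, ∃ A : Set X, IsOpen A ∧ K i ⊆ A ∧ closure A ∩ Z ⊆ U i := fun i => by
    obtain ⟨A, B, hA, hB, hKA, hZB, hAB⟩ := hR.separatedNhds (hKc i) (hZ.inter_right (hU i).isClosed_compl)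
      (fun x hx => (hKU i hx).1) Set.inter_subset_left
      (Set.disjoint_left.mpr fun x hx hx' => hx'.2 (hKU i hx).2)
    refine ⟨A, hA, hKA, fun x hx => by_contra fun hxU => ?_⟩
    exact Set.disjoint_left.mp (hAB.closure_left hB) hx.1 (hZB ⟨hx.2, hxU⟩)
  choose A hAo hKA hAZ using hA
  have hV : ∀ t : Fin (p + 1) → J, ∃ V : Fin (p + 1) → Set X,
      (∀ l, IsOpen (V l) ∧ K (t l) ⊆ V l) ∧ (⋂ l, V l) ⊆ W (fun l => t l) := fun t =>
    hR.exists_nhds_iInter_subset p (fun l => K (t l)) (fun l => hKc _) (fun l x hx => (hKU _ hx).1) _ (hWo _)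
      (fun x hx => ((hWZ fun l => (t l : ι)).ge ⟨Set.mem_iInter.mpr fun l => (hKU _ (Set.mem_iInter.mp hx l)).2,
        (hKU _ (Set.mem_iInter.mp hx 0)).1⟩).1)
  choose V hVo hVW using hV
  let N : ι → Set X := fun i => if i ∈ J then
    (A i ∩ U i) ∩ ⋂ t : Fin (p + 1) → J, ⋂ l : Fin (p + 1), ⋂ (_ : (t l : ι) = i), V t l else ∅
  refine ⟨N, fun i => ?_, fun x hx => ?_, fun i => ?_, fun i => ?_, fun t x hx => ?_⟩
  · simp only [N]; split
    · exact ((hAo i).inter (hU i)).inter (isOpen_iInter_of_finite fun t => isOpen_iInter_of_finite fun l =>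
        isOpen_iInter_of_finite fun _ => (hVo t l).1)
    · exact isOpen_empty
  · obtain ⟨i, hi, hxi⟩ := Set.mem_iUnion₂.mp (hKcov hx)
    refine Set.mem_iUnion.mpr ⟨i, ?_⟩
    simp only [N, if_pos hi]
    exact ⟨⟨hKA i hxi, (hKU i hxi).2⟩, Set.mem_iInter.mpr fun t => Set.mem_iInter.mpr fun l =>
      Set.mem_iInter.mpr fun h => (hVo t l).2 (h ▸ hxi)⟩
  · simp only [N]; split
    · exact Set.inter_subset_left.trans Set.inter_subset_right
    · exact Set.empty_subset _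
  · simp only [N]; split
    · exact (Set.inter_subset_inter_left _ (closure_mono (Set.inter_subset_left.trans Set.inter_subset_left))).trans (hAZ i)
    · simp
  · rw [Set.mem_iInter] at hx
    have ht : ∀ l, t l ∈ J := fun l => by_contra fun h => by
      have := hx l
      simp only [N, if_neg h] at this
      exact this
    refine hVW (fun l => ⟨t l, ht l⟩) (Set.mem_iInter.mpr fun l => ?_)
    have := hx l
    simp only [N, if_pos (ht l), Set.mem_inter_iff, Set.mem_iInter] at this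
    exact this.2 (fun m => ⟨t m, ht m⟩) l rfl

end Groth.Agent.S7570
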