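import Groth.Statements.S7571
import Mathlib.Topology.Category.TopCat.Limits.Cofiltered

set_option autoImplicit false
universe u
open CategoryTheory CategoryTheory.Limits
open PtTop

namespace Groth.Agent.S7571

/-- Let j ↦ X_j be a diagram of topological spaces over a cofiltered category with limit X and
projections f_j. (1) Every open of X is a union of subsets of the form f_j⁻¹(U_j) with U_j ⊆ X_j
open. (2) Every quasi-compact open of X equals f_i⁻¹(U_i) for some i and some open U_i ⊆ X_i. -/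
theorem result {J : Type u} [SmallCategory J] [IsCofiltered J]
    (F : J ⥤ TopCat.{u}) (c : Cone F) (hc : IsLimit c) :
    (∀ W : Set c.pt, IsOpen W →
      ∃ S : Set (Σ j, Set (F.obj j)), (∀ s ∈ S, IsOpen s.2) ∧ W = ⋃ s ∈ S, c.π.app s.1 ⁻¹' s.2) ∧
    (∀ W : Set c.pt, IsOpen W → IsCompact W →
      ∃ (i : J) (Ui : Set (F.obj i)), IsOpen Ui ∧ W = c.π.app i ⁻¹' Ui) := by
  have hT := TopCat.isTopologicalBasis_cofiltered_limit F c hc (fun j => {U : Set (F.obj j) | IsOpen U})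
    (fun j => TopologicalSpace.isTopologicalBasis_opens) (fun j => isOpen_univ)
    (fun j U V hU hV => IsOpen.inter hU hV) (fun i j f V hV => IsOpen.preimage (F.map f).hom.continuous hV)
  refine ⟨fun W hW => ?_, fun W hW hWc => ?_⟩
  · refine ⟨{s | IsOpen s.2 ∧ c.π.app s.1 ⁻¹' s.2 ⊆ W}, fun s hs => hs.1, Set.Subset.antisymm (fun x hx => ?_)
      (Set.iUnion₂_subset fun s hs => hs.2)⟩
    obtain ⟨_, ⟨j, U, hU, rfl⟩, hxU, hsub⟩ := hT.exists_subset_of_mem_open hx hW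
    exact Set.mem_biUnion (x := (⟨j, U⟩ : Σ j, Set (F.obj j))) (show _ ∈ {s : Σ j, Set (F.obj j) | IsOpen s.2 ∧ c.π.app s.1 ⁻¹' s.2 ⊆ W} from ⟨(hU : IsOpen U), hsub⟩) hxU
  · classical
    have : ∀ x ∈ W, ∃ s : Σ j, Set (F.obj j), IsOpen s.2 ∧ x ∈ c.π.app s.1 ⁻¹' s.2 ∧ c.π.app s.1 ⁻¹' s.2 ⊆ W := by
      intro x hx
      obtain ⟨_, ⟨j, U, hU, rfl⟩, hxU, hsub⟩ := hT.exists_subset_of_mem_open hx hW
      exact ⟨⟨j, U⟩, hU, hxU, hsub⟩
    choose s hso hxs hsW using this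
    obtain ⟨t, ht⟩ := hWc.elim_finite_subcover (fun x : W => c.π.app (s x.1 x.2).1 ⁻¹' (s x.1 x.2).2)
      (fun x => (hso _ _).preimage (c.π.app _).hom.continuous) (fun x hx => Set.mem_iUnion.mpr ⟨⟨x, hx⟩, hxs x hx⟩)
    haveI : Nonempty J := IsCofiltered.nonempty
    obtain ⟨k, hk⟩ := IsCofiltered.inf_objs_exists (t.image fun x : W => (s x.1 x.2).1)
    let a : ∀ (x : W), x ∈ t → (k ⟶ (s x.1 x.2).1) := fun x hx => (hk (Finset.mem_image_of_mem _ hx)).some
    refine ⟨k, ⋃ x, ⋃ hx : x ∈ t, F.map (a x hx) ⁻¹' (s x.1 x.2).2,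
      isOpen_iUnion fun x => isOpen_iUnion fun hx => (hso _ _).preimage (F.map _).hom.continuous, ?_⟩
    have key : ∀ x hx, c.π.app k ⁻¹' (F.map (a x hx) ⁻¹' (s x.1 x.2).2) = c.π.app (s x.1 x.2).1 ⁻¹' (s x.1 x.2).2 := by
      intro x hx
      rw [← c.w (a x hx)]
      rfl
    rw [Set.preimage_iUnion]
    simp_rw [Set.preimage_iUnion, key]
    exact ht.antisymm (Set.iUnion₂_subset fun x _ => hsW _ _)

end Groth.Agent.S7571
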