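import Groth.Statements.S7574
import Groth.Agent.H15Site.CocontFF

set_option linter.style.haveILetI false
open CategoryTheory CategoryTheory.Limits Opposite

set_option autoImplicit false
universe u
open CategoryTheory TopologicalSpace
open ShSp

namespace Groth.Agent.S7574

section
open TopologicalSpace
theorem aux {X : TopCat.{u}} (U : Opens X)
    (L : Sheaf (Opens.grothendieckTopology U) (Type u) ⥤ Sheaf (Opens.grothendieckTopology X) (Type u))
    (adj : L ⊣ U.sheafRestrict (C := Type u)) :
    L.Full ∧ L.Faithful ∧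
    ∀ G : Sheaf (Opens.grothendieckTopology X) (Type u),
      L.essImage G ↔ ∀ x : X, x ∉ U → IsEmpty (TopCat.Presheaf.stalk (C := Type u) G.obj x) := by
  have hH : Topology.IsOpenEmbedding (TopCat.Hom.hom (TopCat.ofHom ⟨(Subtype.val : U → X), continuous_subtype_val⟩)) :=
    U.isOpenEmbedding
  haveI := hH.functor_isContinuous
  haveI : Mono (TopCat.ofHom ⟨(Subtype.val : U → X), continuous_subtype_val⟩) :=
    (TopCat.mono_iff_injective _).2 Subtype.val_injective
  let G₀ := hH.isOpenMap.functor
  haveI : G₀.IsCocontinuous (Opens.grothendieckTopology U) (Opens.grothendieckTopology X) := by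
    refine ⟨fun {W} S hS x hx => ?_⟩
    obtain ⟨V, f, hf, hxV⟩ := hS x.1 ⟨x, hx, rfl⟩
    refine ⟨(Opens.map (TopCat.ofHom ⟨(Subtype.val : U → X), continuous_subtype_val⟩)).obj V,
      homOfLE (fun y hy => ?_), ?_, hxV⟩
    · obtain ⟨z, hz, hzy⟩ := f.le hy
      rwa [← Subtype.val_injective hzy]
    · refine S.downward_closed hf (homOfLE ?_)
      rintro _ ⟨y, hy, rfl⟩
      exact hy
  haveI : (G₀.sheafPushforwardContinuous (Type u) (Opens.grothendieckTopology U) (Opens.grothendieckTopology X)).IsRightAdjoint :=
    adj.isRightAdjoint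
  let e : G₀.sheafPullback (Type u) _ _ ≅ L :=
    Adjunction.leftAdjointUniq (G₀.sheafAdjunctionContinuous (Type u) _ _) adj
  haveI : G₀.Full := hH.isOpenMap.functorFullOfMono
  obtain ⟨h₁, h₂⟩ := Groth.Agent.H15Site.sheafPullback_full_faithful G₀ (Type u) (Opens.grothendieckTopology U) (Opens.grothendieckTopology X)
  haveI : (G₀.sheafPullback (Type u) (Opens.grothendieckTopology (TopCat.of U)) (Opens.grothendieckTopology X)).Full := h₁
  haveI : (G₀.sheafPullback (Type u) (Opens.grothendieckTopology (TopCat.of U)) (Opens.grothendieckTopology X)).Faithful := h₂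
  haveI : L.Full := Functor.Full.of_iso e
  haveI : L.Faithful := Functor.Faithful.of_iso e
  refine ⟨inferInstance, inferInstance, fun G => ⟨?_, fun hG => ?_⟩⟩
  · rintro ⟨F, ⟨eG⟩⟩ x hx
    let y : TopCat.Presheaf (Type u) X :=
      { obj := fun W => ULift.{u} (PLift (W.unop ≤ U))
        map := fun k => ↾(fun h => ⟨⟨k.unop.le.trans h.down.down⟩⟩) }
    have hy : y.IsSheaf := by
      rw [TopCat.Presheaf.isSheaf_iff_isSheafUniqueGluing]
      intro ι V sf _
      exact ⟨⟨⟨iSup_le fun k => (sf k).down.down⟩⟩, fun k => Subsingleton.elim (α := ULift.{u} (PLift _)) _ _,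
        fun t _ => Subsingleton.elim (α := ULift.{u} (PLift _)) _ _⟩
    let φ : F ⟶ U.sheafRestrict.obj ⟨y, hy⟩ := ⟨
      { app := fun V => ↾(fun _ => ⟨⟨by rintro _ ⟨z, -, rfl⟩; exact z.2⟩⟩)
        naturality := fun _ _ _ => by ext; exact Subsingleton.elim (α := ULift.{u} (PLift _)) _ _ }⟩
    let ψ : G ⟶ ⟨y, hy⟩ := eG.inv ≫ (adj.homEquiv _ _).symm φ
    refine ⟨fun t => ?_⟩
    obtain ⟨W, hxW, s, -⟩ := TopCat.Presheaf.exists_germ_eq G.obj t
    exact hx ((ψ.hom.app (op W) s).down.down hxW)
  · suffices IsIso (adj.counit.app G) from adj.mem_essImage_of_counit_isIso G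
    rw [isIso_iff_coyoneda_map_bijective]
    intro H
    have hne : ∀ W : Opens X, G.obj.obj (op W) → W ≤ U := fun W s x hx => by
      by_contra hxU
      exact (hG x hxU).false (TopCat.Presheaf.germ (C := Type u) G.obj W x hx s)
    have comp2 : ∀ {a b b' c : (Opens X)ᵒᵖ} (p : a ⟶ b) (q : b ⟶ c) (p' : a ⟶ b') (q' : b' ⟶ c) (x : H.obj.obj a),
        H.obj.map q (H.obj.map p x) = H.obj.map q' (H.obj.map p' x) := fun p q p' q' x => by
      rw [← ConcreteCategory.comp_apply, ← Functor.map_comp, ← ConcreteCategory.comp_apply, ← Functor.map_comp,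
        Subsingleton.elim (p ≫ q) (p' ≫ q')]
    have comp1 : ∀ {a b : (Opens X)ᵒᵖ} (p : a ⟶ b) (q : b ⟶ a) (x : H.obj.obj a), H.obj.map q (H.obj.map p x) = x :=
      fun p q x => by
      rw [← ConcreteCategory.comp_apply, ← Functor.map_comp, Subsingleton.elim (p ≫ q) (𝟙 _)]
      simp
    have key : Function.Bijective ((U.sheafRestrict (C := Type u)).map : (G ⟶ H) → _) := by
      refine ⟨fun a b hab => ?_, fun θ => ?_⟩
      · apply Sheaf.hom_ext
        ext W s
        induction W using Opposite.rec with | op W => ?_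
        show a.hom.app (op W) s = b.hom.app (op W) s
        have hW := hne W s
        let i : W ⟶ (G₀.obj ((Opens.map (TopCat.ofHom ⟨(Subtype.val : U → X), continuous_subtype_val⟩)).obj W)) :=
          homOfLE fun x hx => ⟨⟨x, hW hx⟩, hx, rfl⟩
        let j : (G₀.obj ((Opens.map (TopCat.ofHom ⟨(Subtype.val : U → X), continuous_subtype_val⟩)).obj W)) ⟶ W :=
          homOfLE (by rintro _ ⟨z, hz, rfl⟩; exact hz)
        have e : ∀ c : G ⟶ H, c.hom.app (op W) s = H.obj.map i.op (c.hom.app _ (G.obj.map j.op s)) := fun c => by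
          erw [← NatTrans.naturality_apply c.hom i.op]
          congr 1
          rw [← ConcreteCategory.comp_apply, ← Functor.map_comp, show j.op ≫ i.op = 𝟙 _ from Subsingleton.elim _ _]
          simp
        erw [e a, e b]
        exact congrArg _ (congr($(congr_app (congrArg (fun k => k.hom) hab) (op _)) _))
      · let pre := fun W : Opens X => (Opens.map (TopCat.ofHom ⟨(Subtype.val : U → X), continuous_subtype_val⟩)).obj W
        have hi : ∀ {W : Opens X}, W ≤ U → W ≤ G₀.obj (pre W) := fun hW x hx => ⟨⟨x, hW hx⟩, hx, rfl⟩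
        have hj : ∀ {W : Opens X}, G₀.obj (pre W) ≤ W := by rintro W _ ⟨z, hz, rfl⟩; exact hz
        let ψ : G ⟶ H := ⟨
          { app := fun W => ↾(fun s => H.obj.map (homOfLE (hi (hne W.unop s))).op
              (θ.hom.app (op (pre W.unop)) (G.obj.map (homOfLE hj).op s)))
            naturality := fun W W' k => by
              ext s
              have h1 := NatTrans.naturality_apply θ.hom ((Opens.map (TopCat.ofHom ⟨(Subtype.val : U → X), continuous_subtype_val⟩)).map k.unop).op
                (G.obj.map (homOfLE (hj (W := W.unop))).op s)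
              show H.obj.map _ (θ.hom.app _ (G.obj.map _ (G.obj.map k s))) = H.obj.map k (H.obj.map _ _)
              have h2 : G.obj.map (homOfLE (hj (W := W'.unop))).op (G.obj.map k s) =
                  G.obj.map (G₀.map ((Opens.map (TopCat.ofHom ⟨(Subtype.val : U → X), continuous_subtype_val⟩)).map k.unop)).op
                    (G.obj.map (homOfLE (hj (W := W.unop))).op s) := by
                rw [← ConcreteCategory.comp_apply, ← Functor.map_comp, ← ConcreteCategory.comp_apply, ← Functor.map_comp]
                rfl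
              rw [h2]
              erw [h1]
              show H.obj.map _ (H.obj.map (G₀.map _).op _) = _
              exact comp2 _ _ _ _ _ }⟩
        refine ⟨ψ, ?_⟩
        apply Sheaf.hom_ext
        ext V s
        induction V using Opposite.rec with | op V => ?_
        have e : pre (G₀.obj V) = V := by
          ext z
          exact ⟨fun ⟨w, hw, h⟩ => (Subtype.val_injective h : w = z) ▸ hw, fun hz => ⟨z, hz, rfl⟩⟩
        show H.obj.map _ (θ.hom.app (op (pre (G₀.obj V))) (G.obj.map _ s)) = θ.hom.app (op V) s
        have h3 := NatTrans.naturality_apply θ.hom (eqToHom e).op s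
        show H.obj.map _ _ = _
        erw [show (homOfLE (hj (W := G₀.obj V))).op = (G₀.map (eqToHom e)).op from Subsingleton.elim _ _, h3]
        show H.obj.map _ (H.obj.map _ _) = _
        exact comp1 _ _ _
    have hcomp : ∀ f : G ⟶ H, (adj.homEquiv _ _) (adj.counit.app G ≫ f) = (U.sheafRestrict (C := Type u)).map f := by
      intro f
      rw [Adjunction.homEquiv_unit, Functor.map_comp, ← Category.assoc, adj.right_triangle_components, Category.id_comp]
    convert (adj.homEquiv _ _).symm.bijective.comp key using 1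
    funext f
    apply (adj.homEquiv _ _).injective
    simp only [Function.comp_apply, Equiv.apply_symm_apply]
    exact hcomp f
end

/-- Let X be a topological space, U ⊆ X open and j_! : Sh(U) → Sh(X) a left adjoint of restriction of
sheaves of sets to U. Then j_! is fully faithful, and a sheaf G on X lies in its essential image if
and only if G_x = ∅ for all x ∈ X not in U. -/
theorem result {X : TopCat.{u}} (U : Opens X)
    (L : (TopCat.of U).Sheaf (Type u) ⥤ X.Sheaf (Type u)) (adj : L ⊣ U.sheafRestrict (C := Type u)) :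
    L.Full ∧ L.Faithful ∧
    ∀ G : X.Sheaf (Type u), L.essImage G ↔ ∀ x : X, x ∉ U → IsEmpty (G.presheaf.stalk x) := by
  exact aux U L adj

end Groth.Agent.S7574
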