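import Groth.Statements.S7575
import Mathlib.CategoryTheory.Sites.LocallyBijective
import Mathlib.CategoryTheory.Limits.ConcreteCategory.Basic
import Mathlib.Topology.Sheaves.SheafCondition.UniqueGluing

set_option linter.style.haveILetI false
open CategoryTheory CategoryTheory.Limits Opposite

set_option autoImplicit false
universe u
open CategoryTheory CategoryTheory.Limits TopologicalSpace Opposite
open ShSp

namespace Groth.Agent.S7575

section

variable {X : TopCat.{u}} {J : Type u} [Preorder J] [Nonempty J] [IsDirected J (· ≤ ·)]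
  {F : J ⥤ X.Sheaf (Type u)} {c : Cocone F} (hc : IsColimit c)

/-- The colimit in presheaves. -/
noncomputable abbrev cp (F : J ⥤ X.Sheaf (Type u)) :
    Cocone (F ⋙ sheafToPresheaf (Opens.grothendieckTopology X) (Type u)) :=
  colimit.cocone _

/-- The comparison. -/
noncomputable def cmp (c : Cocone F) : (cp F).pt ⟶ c.pt.obj :=
  colimit.desc _ ((sheafToPresheaf _ _).mapCocone c)

theorem ι_cmp (i : J) : (cp F).ι.app i ≫ cmp c = (c.ι.app i).hom :=
  colimit.ι_desc ((sheafToPresheaf _ _).mapCocone c) i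

theorem ι_cmp_apply (i : J) (U : Opens X) (s : (F.obj i).obj.obj (op U)) :
    (cmp c).app (op U) (((cp F).ι.app i).app (op U) s) = (c.ι.app i).hom.app (op U) s :=
  ConcreteCategory.congr_hom (congrArg (fun φ => NatTrans.app φ (op U)) (ι_cmp i)) s

include hc in
theorem W_cmp : (Opens.grothendieckTopology X).W (cmp c) := by
  intro G hG
  let GS : X.Sheaf (Type u) := ⟨G, hG⟩
  refine ⟨fun φ ψ h => ?_, fun φ => ?_⟩
  · have : (⟨φ⟩ : c.pt ⟶ GS) = ⟨ψ⟩ := hc.hom_ext fun i => by
      refine CategoryTheory.Sheaf.hom_ext ?_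
      have h' := congrArg (fun t => (cp F).ι.app i ≫ t) h
      simp only [← Category.assoc, ι_cmp] at h'
      exact h'
    exact congrArg (fun t : c.pt ⟶ GS => t.hom) this
  · refine ⟨(hc.desc ⟨GS, { app := fun i => ⟨(cp F).ι.app i ≫ φ⟩, naturality := fun i j k => ?_ }⟩).hom, ?_⟩
    · refine CategoryTheory.Sheaf.hom_ext ?_
      refine Eq.trans ?_ (Category.comp_id _).symm
      exact ((Category.assoc _ _ _).symm.trans (congrArg (· ≫ φ) ((cp F).w k)))
    · refine colimit.hom_ext fun i => ?_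
      refine (Category.assoc _ _ _).symm.trans ?_
      change ((cp F).ι.app i ≫ cmp c) ≫ _ = _
      rw [ι_cmp]
      exact congrArg (fun t : F.obj i ⟶ GS => t.hom) (hc.fac _ i)

include hc in
theorem exists_local_rep {U : Opens X} (x : c.pt.obj.obj (op U)) {p : X} (hp : p ∈ U) :
    ∃ (V : Opens X) (h : V ≤ U) (_ : p ∈ V) (i : J) (s : (F.obj i).obj.obj (op V)),
      (c.ι.app i).hom.app (op V) s = c.pt.obj.map (homOfLE h).op x := by
  have := ((GrothendieckTopology.W_iff_isLocallyBijective _ _).1 (W_cmp hc)).2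
  obtain ⟨V, k, ⟨t, ht⟩, hpV⟩ :=
    Presheaf.imageSieve_mem (Opens.grothendieckTopology X) (cmp c) x p hp
  obtain ⟨i, s, rfl⟩ := Concrete.isColimit_exists_rep _
    (isColimitOfPreserves ((evaluation (Opens X)ᵒᵖ (Type u)).obj (op V)) (colimit.isColimit _)) t
  exact ⟨V, k.le, hpV, i, s, (ι_cmp_apply i V s).symm.trans ht⟩

include hc in
theorem exists_local_eq {i : J} {U : Opens X} (s t : (F.obj i).obj.obj (op U))
    (hs : (c.ι.app i).hom.app (op U) s = (c.ι.app i).hom.app (op U) t) {p : X} (hp : p ∈ U) :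
    ∃ (V : Opens X) (h : V ≤ U) (_ : p ∈ V) (j : J) (k : i ⟶ j),
      (F.map k).hom.app (op V) ((F.obj i).obj.map (homOfLE h).op s) =
        (F.map k).hom.app (op V) ((F.obj i).obj.map (homOfLE h).op t) := by
  have := ((GrothendieckTopology.W_iff_isLocallyBijective _ _).1 (W_cmp hc)).1
  obtain ⟨V, k, hk, hpV⟩ := Presheaf.equalizerSieve_mem (Opens.grothendieckTopology X) (cmp c)
    (((cp F).ι.app i).app (op U) s) (((cp F).ι.app i).app (op U) t)
    (((ι_cmp_apply i U s).trans hs).trans (ι_cmp_apply i U t).symm) p hp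
  have h' : ((cp F).ι.app i).app (op V) ((F.obj i).obj.map k.op s) =
      ((cp F).ι.app i).app (op V) ((F.obj i).obj.map k.op t) :=
    (ConcreteCategory.congr_hom (((cp F).ι.app i).naturality k.op) s).trans
      (hk.trans (ConcreteCategory.congr_hom (((cp F).ι.app i).naturality k.op) t).symm)
  obtain ⟨j, f, g, hfg⟩ := (Concrete.isColimit_rep_eq_iff_exists _
    (isColimitOfPreserves ((evaluation (Opens X)ᵒᵖ (Type u)).obj (op V))
      (colimit.isColimit (F ⋙ sheafToPresheaf (Opens.grothendieckTopology X) (Type u))))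
    (i := i) (j := i) ((F.obj i).obj.map k.op s) ((F.obj i).obj.map k.op t)).1 h'
  obtain rfl : f = g := Subsingleton.elim _ _
  exact ⟨V, k.le, hpV, j, f, hfg⟩

theorem map_map {i j l : J} (f : i ⟶ j) (g : j ⟶ l) (V : Opens X) (s : (F.obj i).obj.obj (op V)) :
    (F.map g).hom.app (op V) ((F.map f).hom.app (op V) s) = (F.map (f ≫ g)).hom.app (op V) s := by
  rw [F.map_comp]
  rfl

theorem ι_map {i j : J} (f : i ⟶ j) (V : Opens X) (s : (F.obj i).obj.obj (op V)) :
    (c.ι.app j).hom.app (op V) ((F.map f).hom.app (op V) s) = (c.ι.app i).hom.app (op V) s :=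
  ConcreteCategory.congr_hom
    (congrArg (fun φ : F.obj i ⟶ c.pt => φ.hom.app (op V)) (c.w f)) s

theorem nat {G H : X.Sheaf (Type u)} (f : G ⟶ H) {V W : Opens X} (h : W ≤ V)
    (s : G.obj.obj (op V)) :
    f.hom.app (op W) (G.obj.map (homOfLE h).op s) = H.obj.map (homOfLE h).op (f.hom.app (op V) s) :=
  ConcreteCategory.congr_hom (f.hom.naturality (homOfLE h).op) s

theorem mapmap (G : X.Sheaf (Type u)) {U V W : Opens X} (h : V ≤ U) (h' : W ≤ V)
    (s : G.obj.obj (op U)) :
    G.obj.map (homOfLE h').op (G.obj.map (homOfLE h).op s) = G.obj.map (homOfLE (h'.trans h)).op s := by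
  rw [← FunctorToTypes.map_comp_apply, ← op_comp, homOfLE_comp]

/-- An upper bound for finitely many indices. -/
theorem exists_ub {α : Type*} (t : Finset α) (i : J) (f : α → J) :
    ∃ l, i ≤ l ∧ ∀ a ∈ t, f a ≤ l := by
  classical
  induction t using Finset.induction with
  | empty => exact ⟨i, le_refl i, fun a ha => absurd ha (Finset.notMem_empty a)⟩
  | insert b s hb ih =>
    obtain ⟨l, hl, hls⟩ := ih
    obtain ⟨m, hlm, hbm⟩ := directed_of (· ≤ ·) l (f b)
    refine ⟨m, hl.trans hlm, fun a ha => ?_⟩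
    rcases Finset.mem_insert.1 ha with rfl | ha
    · exact hbm
    · exact (hls a ha).trans hlm

include hc in
/-- Two sections on a compact open with the same image agree at some stage. -/
theorem exists_eq_of_compact {i : J} {U : Opens X} (hU : IsCompact (U : Set X))
    (s t : (F.obj i).obj.obj (op U))
    (hs : (c.ι.app i).hom.app (op U) s = (c.ι.app i).hom.app (op U) t) :
    ∃ (l : J) (k : i ⟶ l), (F.map k).hom.app (op U) s = (F.map k).hom.app (op U) t := by
  classical
  choose V hV hpV j k hk using fun p : U => exists_local_eq hc s t hs p.2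
  obtain ⟨T, hT⟩ := hU.elim_finite_subcover (fun p : U => (V p : Set X)) (fun p => (V p).isOpen)
    fun p hp => Set.mem_iUnion.2 ⟨⟨p, hp⟩, hpV ⟨p, hp⟩⟩
  obtain ⟨l, hil, hl⟩ := exists_ub T i j
  refine ⟨l, homOfLE hil, (F.obj l).eq_of_locally_eq' (fun p : T => V p.1) U
    (fun p => homOfLE (hV p.1)) (fun x hx => ?_) _ _ fun p => ?_⟩
  · obtain ⟨p, hpT, hxp⟩ := Set.mem_iUnion₂.1 (hT hx)
    exact Opens.mem_iSup.2 ⟨⟨p, hpT⟩, hxp⟩
  · have e : homOfLE hil = k p.1 ≫ homOfLE (hl p.1 p.2) := Subsingleton.elim _ _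
    have h₁ := congrArg ((F.map (homOfLE (hl p.1 p.2))).hom.app (op (V p.1))) (hk p.1)
    rw [map_map, map_map, ← e, nat, nat] at h₁
    exact h₁

include hc in
/-- With injective transition maps two sections with the same image are equal. -/
theorem eq_of_injective
    (hinj : ∀ (i j : J) (h : i ⟶ j) (V : Opens X), Function.Injective ((F.map h).1.app (op V)))
    {i : J} {U : Opens X} (s t : (F.obj i).obj.obj (op U))
    (hs : (c.ι.app i).hom.app (op U) s = (c.ι.app i).hom.app (op U) t) : s = t := by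
  choose V hV hpV j k hk using fun p : U => exists_local_eq hc s t hs p.2
  exact (F.obj i).eq_of_locally_eq' V U (fun p => homOfLE (hV p))
    (fun x hx => Opens.mem_iSup.2 ⟨⟨x, hx⟩, hpV ⟨x, hx⟩⟩) _ _ fun p => hinj _ _ (k p) (V p) (hk p)

theorem exists_of_glue {U : Opens X} (x : c.pt.obj.obj (op U)) {m : ℕ} (W : Fin m → Opens X)
    (hW : (⨆ a, W a) = U) (hWU : ∀ a, W a ≤ U) {l : J}
    (s : ∀ a, (F.obj l).obj.obj (op (W a)))
    (hs : ∀ a, (c.ι.app l).hom.app (op (W a)) (s a) = c.pt.obj.map (homOfLE (hWU a)).op x)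
    (hcompat : ∀ a b, (F.obj l).obj.map (homOfLE (inf_le_left : W a ⊓ W b ≤ _)).op (s a) =
      (F.obj l).obj.map (homOfLE (inf_le_right : W a ⊓ W b ≤ _)).op (s b)) :
    ∃ (i : J) (t : (F.obj i).obj.obj (op U)), (c.ι.app i).hom.app (op U) t = x := by
  obtain ⟨t, ht, -⟩ := (F.obj l).existsUnique_gluing' W U (fun a => homOfLE (hWU a)) hW.ge s (fun a b => hcompat a b)
  refine ⟨l, t, c.pt.eq_of_locally_eq' W U (fun a => homOfLE (hWU a)) hW.ge _ _ fun a => ?_⟩
  exact ((nat (c.ι.app l) (hWU a) t).symm.trans (congrArg _ (ht a))).trans (hs a)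

theorem surjective_of_rep {U : Opens X} (x : c.pt.obj.obj (op U)) {m : ℕ} (W : Fin m → Opens X)
    (hW : (⨆ a, W a) = U) (hWU : ∀ a, W a ≤ U) (i : Fin m → J)
    (s : ∀ a, (F.obj (i a)).obj.obj (op (W a)))
    (hs : ∀ a, (c.ι.app (i a)).hom.app (op (W a)) (s a) = c.pt.obj.map (homOfLE (hWU a)).op x)
    (heq : ∀ a b (l : J) (u v : (F.obj l).obj.obj (op (W a ⊓ W b))),
      (c.ι.app l).hom.app (op (W a ⊓ W b)) u = (c.ι.app l).hom.app (op (W a ⊓ W b)) v →
      ∃ (n : J) (k : l ⟶ n), (F.map k).hom.app _ u = (F.map k).hom.app _ v) :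
    ∃ (i : J) (t : (F.obj i).obj.obj (op U)), (c.ι.app i).hom.app (op U) t = x := by
  classical
  obtain ⟨l₀, -, hl₀⟩ := exists_ub (Finset.univ : Finset (Fin m)) (Classical.arbitrary J) i
  let g : ∀ a, i a ⟶ l₀ := fun a => homOfLE (hl₀ a (Finset.mem_univ a))
  let s₀ : ∀ a, (F.obj l₀).obj.obj (op (W a)) := fun a => (F.map (g a)).hom.app _ (s a)
  have hs₀ : ∀ a, (c.ι.app l₀).hom.app (op (W a)) (s₀ a) = c.pt.obj.map (homOfLE (hWU a)).op x :=
    fun a => (ι_map (g a) (W a) (s a)).trans (hs a)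
  have key : ∀ p : Fin m × Fin m,
      ∃ (n : J) (k : l₀ ⟶ n), (F.map k).hom.app (op (W p.1 ⊓ W p.2))
          ((F.obj l₀).obj.map (homOfLE (inf_le_left : W p.1 ⊓ W p.2 ≤ _)).op (s₀ p.1)) =
        (F.map k).hom.app (op (W p.1 ⊓ W p.2))
          ((F.obj l₀).obj.map (homOfLE (inf_le_right : W p.1 ⊓ W p.2 ≤ _)).op (s₀ p.2)) := fun p =>
    heq p.1 p.2 l₀ _ _
      ((((nat (c.ι.app l₀) inf_le_left (s₀ p.1)).trans (congrArg _ (hs₀ p.1))).trans
        (mapmap c.pt (hWU p.1) inf_le_left x)).trans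
      (((nat (c.ι.app l₀) inf_le_right (s₀ p.2)).trans (congrArg _ (hs₀ p.2))).trans
        (mapmap c.pt (hWU p.2) inf_le_right x)).symm)
  choose n k hk using key
  obtain ⟨l, hl₀l, hl⟩ := exists_ub (Finset.univ : Finset (Fin m × Fin m)) l₀ n
  refine exists_of_glue x W hW hWU (l := l) (fun a => (F.map (homOfLE hl₀l)).hom.app _ (s₀ a))
    (fun a => (ι_map (homOfLE hl₀l) (W a) (s₀ a)).trans (hs₀ a)) fun a b => ?_
  have e : homOfLE hl₀l = k (a, b) ≫ homOfLE (hl (a, b) (Finset.mem_univ _)) := Subsingleton.elim _ _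
  have h₁ := congrArg ((F.map (homOfLE (hl (a, b) (Finset.mem_univ _)))).hom.app (op (W a ⊓ W b)))
    (hk (a, b))
  rw [map_map, map_map, ← e, nat, nat] at h₁
  exact h₁

theorem isCompact_of_refine {U : Opens X}
    (hU : ∀ 𝒱 : Set (Opens X), (⨆ V ∈ 𝒱, V) = U →
        ∃ (m : ℕ) (W : Fin m → Opens X), (∀ j, ∃ V ∈ 𝒱, W j ≤ V) ∧ (⨆ j, W j) = U ∧
          ∀ j j', IsCompact ((W j ⊓ W j' : Opens X) : Set X)) : IsCompact (U : Set X) := by
  obtain ⟨m, W, -, hWU, hW⟩ := hU {U} (iSup_singleton)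
  rw [← hWU, Opens.coe_iSup]
  refine isCompact_iUnion fun a => ?_
  have := hW a a
  rwa [inf_idem] at this
end

/-- Let X be a topological space, I a directed set, (F_i) a system of sheaves of sets on X over I with
colimit F (in sheaves), U ⊆ X open, and Ψ : colim_i F_i(U) → F(U) the canonical map. (1) If all
transition maps F_i → F_{i'} are injective (on all sections) then Ψ is injective. (2)
Quasi-compactness of U alone already makes Ψ injective. (3) When U is quasi-compact and every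
transition map is injective, Ψ is bijective. (4) If every open covering of U can be refined by a
finite open covering U = U_1 ∪ … ∪ U_m with all U_j ∩ U_{j'} quasi-compact, then Ψ is bijective. -/
theorem result {X : TopCat.{u}} {J : Type u} [Preorder J] [Nonempty J] [IsDirected J (· ≤ ·)]
    (F : J ⥤ X.Sheaf (Type u)) (c : Cocone F) (hc : IsColimit c) (U : Opens X) :
    let ev := TopCat.Sheaf.forget (Type u) X ⋙ (evaluation (Opens X)ᵒᵖ (Type u)).obj (op U)
    let Ψ : colimit (F ⋙ ev) → ev.obj c.pt := colimit.desc (F ⋙ ev) (ev.mapCocone c)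
    ((∀ (i j : J) (h : i ⟶ j) (V : Opens X), Function.Injective ((F.map h).1.app (op V))) → Function.Injective Ψ) ∧
    (IsCompact (U : Set X) → Function.Injective Ψ) ∧
    (IsCompact (U : Set X) → (∀ (i j : J) (h : i ⟶ j) (V : Opens X), Function.Injective ((F.map h).1.app (op V))) →
      Function.Bijective Ψ) ∧
    ((∀ 𝒱 : Set (Opens X), (⨆ V ∈ 𝒱, V) = U →
        ∃ (m : ℕ) (W : Fin m → Opens X), (∀ j, ∃ V ∈ 𝒱, W j ≤ V) ∧ (⨆ j, W j) = U ∧
          ∀ j j', IsCompact ((W j ⊓ W j' : Opens X) : Set X)) →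
      Function.Bijective Ψ) := by
  intro ev Ψ
  have hι : ∀ (i : J) (s : (F.obj i).obj.obj (op U)),
      Ψ (colimit.ι (F ⋙ ev) i s) = (c.ι.app i).hom.app (op U) s := fun i s =>
    ConcreteCategory.congr_hom (colimit.ι_desc (ev.mapCocone c) i) s
  have hinjΨ : (∀ (i : J) (s t : (F.obj i).obj.obj (op U)),
      (c.ι.app i).hom.app (op U) s = (c.ι.app i).hom.app (op U) t →
      ∃ (l : J) (k : i ⟶ l), (F.map k).hom.app (op U) s = (F.map k).hom.app (op U) t) →
      Function.Injective Ψ := by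
    intro h a b hab
    obtain ⟨i, s, rfl⟩ := Concrete.isColimit_exists_rep _ (colimit.isColimit (F ⋙ ev)) a
    obtain ⟨j, t, rfl⟩ := Concrete.isColimit_exists_rep _ (colimit.isColimit (F ⋙ ev)) b
    obtain ⟨m, him, hjm⟩ := directed_of (· ≤ ·) i j
    have h' : (c.ι.app m).hom.app (op U) ((F.map (homOfLE him)).hom.app (op U) s) =
        (c.ι.app m).hom.app (op U) ((F.map (homOfLE hjm)).hom.app (op U) t) := by
      rw [ι_map, ι_map]
      exact ((hι i s).symm.trans hab).trans (hι j t)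
    obtain ⟨l, k, hk⟩ := h m _ _ h'
    rw [map_map, map_map] at hk
    exact (Concrete.isColimit_rep_eq_iff_exists _ (colimit.isColimit (F ⋙ ev)) s t).2
      ⟨l, _, _, hk⟩
  have hsurjΨ : (∀ x : c.pt.obj.obj (op U), ∃ (i : J) (t : (F.obj i).obj.obj (op U)),
      (c.ι.app i).hom.app (op U) t = x) → Function.Surjective Ψ := by
    intro h x
    obtain ⟨i, t, ht⟩ := h x
    exact ⟨colimit.ι (F ⋙ ev) i t, (hι i t).trans ht⟩
  refine ⟨fun hinj => hinjΨ fun i s t h => ⟨i, 𝟙 i, congrArg _ (eq_of_injective hc hinj s t h)⟩,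
    fun hU => hinjΨ fun i s t h => exists_eq_of_compact hc hU s t h, fun hU hinj => ?_,
    fun hcov => ?_⟩
  · refine ⟨hinjΨ fun i s t h => exists_eq_of_compact hc hU s t h, hsurjΨ fun x => ?_⟩
    classical
    choose V hV hpV i s hs using fun p : U => exists_local_rep hc x p.2
    obtain ⟨T, hT⟩ := hU.elim_finite_subcover (fun p : U => (V p : Set X)) (fun p => (V p).isOpen)
      fun p hp => Set.mem_iUnion.2 ⟨⟨p, hp⟩, hpV ⟨p, hp⟩⟩
    let e := (Fintype.equivFin T).symm
    refine surjective_of_rep x (fun a => V (e a).1) ?_ (fun a => hV _) (fun a => i (e a).1)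
      (fun a => s (e a).1) (fun a => hs _)
      (fun a b l u v huv => ⟨l, 𝟙 l, congrArg _ (eq_of_injective hc hinj u v huv)⟩)
    refine le_antisymm (iSup_le fun a => hV _) fun y hy => ?_
    obtain ⟨p, hpT, hyp⟩ := Set.mem_iUnion₂.1 (hT hy)
    exact Opens.mem_iSup.2 ⟨e.symm ⟨p, hpT⟩, by rw [e.apply_symm_apply]; exact hyp⟩
  · refine ⟨hinjΨ fun i s t h => exists_eq_of_compact hc (isCompact_of_refine hcov) s t h,
      hsurjΨ fun x => ?_⟩
    let 𝒱 : Set (Opens X) := {V | ∃ (h : V ≤ U) (i : J) (s : (F.obj i).obj.obj (op V)),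
      (c.ι.app i).hom.app (op V) s = c.pt.obj.map (homOfLE h).op x}
    have h𝒱 : (⨆ V ∈ 𝒱, V) = U := by
      refine le_antisymm (iSup₂_le fun V hV => hV.1) fun p hp => ?_
      obtain ⟨V, h, hpV, i, s, hs⟩ := exists_local_rep hc x hp
      exact (le_iSup₂_of_le V ⟨h, i, s, hs⟩ le_rfl : V ≤ _) hpV
    obtain ⟨m, W, href, hWU, hW⟩ := hcov 𝒱 h𝒱
    choose V hV𝒱 hWV using href
    choose hVU i s hs using hV𝒱
    refine surjective_of_rep x W hWU (fun a => (hWV a).trans (hVU a)) i
      (fun a => (F.obj (i a)).obj.map (homOfLE (hWV a)).op (s a))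
      (fun a => ?_) (fun a b l u v huv => exists_eq_of_compact hc (hW a b) u v huv)
    exact ((nat (c.ι.app (i a)) (hWV a) (s a)).trans (congrArg _ (hs a))).trans
      (mapmap c.pt (hVU a) (hWV a) x)

end Groth.Agent.S7575
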