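import Groth.Statements.S7578
import Groth.Agent.H28Top.Catenary

set_option autoImplicit false
universe u
open PtTop

namespace Groth.Agent.S7578

/-- Let X be a topological space which is locally Noetherian (every point has a Noetherian
neighbourhood) and sober, and let δ, δ' be two dimension functions on X. Then δ − δ' is locally
constant. -/
theorem result {X : Type u} [TopologicalSpace X] [QuasiSober X] [T0Space X]
    (hX : ∀ x : X, ∃ E ∈ nhds x, TopologicalSpace.NoetherianSpace E)
    (δ δ' : X → ℤ) (hδ : PtTop.IsDimensionFunction δ) (hδ' : PtTop.IsDimensionFunction δ') :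
    IsLocallyConstant (fun x => δ x - δ' x) := by
  refine (IsLocallyConstant.iff_exists_open _).mpr fun x => ?_
  obtain ⟨E, hE, hN⟩ := hX x
  obtain ⟨U, hUE, hU, hxU⟩ := mem_nhds_iff.mp hE
  haveI := hN
  haveI := TopologicalSpace.NoetherianSpace.of_subset hUE
  haveI : QuasiSober U := hU.isOpenEmbedding_subtypeVal.quasiSober
  let B : Set U := ⋃ Z ∈ {Z ∈ irreducibleComponents U | (⟨x, hxU⟩ : U) ∉ Z}, Z
  have hB : IsClosed B := (TopologicalSpace.NoetherianSpace.finite_irreducibleComponents.subset fun Z hZ => hZ.1).isClosed_biUnion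
    fun Z hZ => isClosed_of_mem_irreducibleComponents Z hZ.1
  have hxB : (⟨x, hxU⟩ : U) ∉ B := by
    simp only [B, Set.mem_iUnion]
    rintro ⟨Z, hZ, hxZ⟩
    exact hZ.2 hxZ
  refine ⟨Subtype.val '' Bᶜ, hU.isOpenMap_subtype_val _ hB.isOpen_compl, ⟨⟨x, hxU⟩, hxB, rfl⟩, ?_⟩
  rintro _ ⟨z, hz, rfl⟩
  have hxZ : (⟨x, hxU⟩ : U) ∈ irreducibleComponent z := by_contra fun h =>
    hz (Set.mem_biUnion (show irreducibleComponent z ∈ _ from ⟨irreducibleComponent_mem_irreducibleComponents z, h⟩) mem_irreducibleComponent)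
  have hg := (isIrreducible_irreducibleComponent (x := z)).isGenericPoint_genericPoint isClosed_irreducibleComponent
  have h1 := Groth.Agent.H28Top.sub_eq_of_specializes hδ hδ' ((hg.specializes (mem_irreducibleComponent (x := z))).map continuous_subtype_val)
  have h2 := Groth.Agent.H28Top.sub_eq_of_specializes hδ hδ' ((hg.specializes hxZ).map continuous_subtype_val)
  exact h1.symm.trans h2

end Groth.Agent.S7578
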