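import Groth.Statements.S7579
import Groth.Agent.H28Top.Spectral

set_option autoImplicit false
universe u
open SpecSp

namespace Groth.Agent.S7579

/-- Let X be a spectral space. Then X with its constructible topology is Hausdorff and totally
disconnected. The published statement also asserts that the constructible topology is quasi-compact;
this row states the Hausdorff and totally disconnected parts. -/
theorem result (X : Type u) [TopologicalSpace X] [SpectralSpace X] :
    T2Space (WithConstructibleTopology X) ∧ TotallyDisconnectedSpace (WithConstructibleTopology X) := by
  haveI h1 : @T2Space X (constructibleTopology X) := Groth.Agent.H28Top.t2Space_constr X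
  have h2 := Groth.Agent.H28Top.totallySeparatedSpace_constr X
  have e : @Homeomorph X (WithConstructibleTopology X) (constructibleTopology X) _ :=
    @Homeomorph.mk X (WithConstructibleTopology X) (constructibleTopology X) _
      (WithTopology.equiv X _).symm
      (WithTopology.continuous_toTopology _) (WithTopology.continuous_ofTopology _)
  haveI : @T2Space (WithConstructibleTopology X) _ := @Homeomorph.t2Space X _ (constructibleTopology X) _ h1 e
  refine ⟨this, ?_⟩
  exact @Homeomorph.totallyDisconnectedSpace X _ (constructibleTopology X) _ e
    (@TotallySeparatedSpace.totallyDisconnectedSpace X (constructibleTopology X) h2)

end Groth.Agent.S7579
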