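import Groth.Statements.S7580

set_option autoImplicit false
universe u
open PtTop

namespace Groth.Agent.S7580

/-- Let f : X → Y be a continuous map of topological spaces with f(X) dense in Y and Y Hausdorff. Then
the cardinality of Y is at most that of the double power set of X. -/
theorem result {X Y : Type u} [TopologicalSpace X] [TopologicalSpace Y] [T2Space Y]
    (f : X → Y) (hf : Continuous f) (hd : DenseRange f) :
    Cardinal.mk Y ≤ (2 : Cardinal.{u}) ^ ((2 : Cardinal.{u}) ^ Cardinal.mk X) := by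
  let g : Y → Set (Set X) := fun y => {A | ∃ U : Set Y, IsOpen U ∧ y ∈ U ∧ A = f ⁻¹' U}
  have hg : Function.Injective g := by
    intro a b hab
    by_contra hne
    obtain ⟨U, V, hU, hV, haU, hbV, hdis⟩ := t2_separation hne
    obtain ⟨U', hU', hbU', h⟩ : f ⁻¹' U ∈ g b := hab ▸ ⟨U, hU, haU, rfl⟩
    obtain ⟨_, ⟨hz1, hz2⟩, z, rfl⟩ := mem_closure_iff.mp (hd b) (U' ∩ V) (hU'.inter hV) ⟨hbU', hbV⟩
    exact Set.disjoint_left.mp hdis (show z ∈ f ⁻¹' U from h ▸ hz1) hz2
  exact (Cardinal.mk_le_of_injective hg).trans (by rw [Cardinal.mk_set, Cardinal.mk_set])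

end Groth.Agent.S7580
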