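import Groth.Statements.S7581
import Groth.Agent.H28Top.Catenary

set_option autoImplicit false
universe u
open PtTop

namespace Groth.Agent.S7581

/-- Let X be a topological space. Then X is catenary if and only if for every pair of irreducible closed
subsets Y ⊆ Y' the codimension codim(Y, Y') is finite and for every triple Y ⊆ Y' ⊆ Y'' of
irreducible closed subsets codim(Y, Y'') = codim(Y, Y') + codim(Y', Y''). -/
theorem result (X : Type u) [TopologicalSpace X] :
    PtTop.IsCatenarySpace X ↔
      (∀ Y Y' : TopologicalSpace.IrreducibleCloseds X, Y ≤ Y' → PtTop.codim Y (Y' : Set X) ≠ ⊤) ∧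
      (∀ Y Y' Y'' : TopologicalSpace.IrreducibleCloseds X, Y ≤ Y' → Y' ≤ Y'' →
        PtTop.codim Y (Y'' : Set X) = PtTop.codim Y (Y' : Set X) + PtTop.codim Y' (Y'' : Set X)) := by
  exact Groth.Agent.H28Top.isCatenarySpace_iff_additive

end Groth.Agent.S7581
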