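import Groth.Statements.S7582
import Groth.Agent.H28Top.Sob

set_option autoImplicit false
universe u
open PtTop

namespace Groth.Agent.S7582

/-- Let X be a topological space and c : X → X′ the canonical map to its soberification (X′ =
irreducible closed subsets of X, with opens the sets of those meeting a given open of X; c(x) =
closure of {x}). Then X′ is sober, c is continuous, the rule U′ ↦ c⁻¹(U′) is a bijection from the
open subsets of X′ onto the open subsets of X (it automatically respects finite intersections and
arbitrary unions), and every continuous map from X to a sober space Y is of the form g ∘ c for a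
continuous g : X′ → Y. The published statement also asserts that g is unique and that c(X) is a
Kolmogorov space universal for maps to Kolmogorov spaces; this row omits those clauses and lets Y
range over the universe of X. -/
theorem result (X : Type u) [TopologicalSpace X] :
    QuasiSober (PtTop.Sob X) ∧ T0Space (PtTop.Sob X) ∧ Continuous (PtTop.toSob X) ∧
    Set.BijOn (fun U' : Set (PtTop.Sob X) => PtTop.toSob X ⁻¹' U') {U' | IsOpen U'} {U : Set X | IsOpen U} ∧
    ∀ (Y : Type u) [TopologicalSpace Y] [QuasiSober Y] [T0Space Y] (f : X → Y), Continuous f →
      ∃ g : PtTop.Sob X → Y, Continuous g ∧ g ∘ PtTop.toSob X = f := by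
  open Groth.Agent.H28Top in
  refine ⟨inferInstance, inferInstance, continuous_toSob, ⟨?_, ?_, ?_⟩, ?_⟩
  · exact fun S hS => IsOpen.preimage continuous_toSob hS
  · intro S hS T hT h
    obtain ⟨U, hU, rfl⟩ := exists_eq_sobOpen hS
    obtain ⟨V, hV, rfl⟩ := exists_eq_sobOpen hT
    simp only [preimage_sobOpen hU, preimage_sobOpen hV] at h
    rw [h]
  · intro U hU
    exact ⟨sobOpen U, isOpen_sobOpen hU, preimage_sobOpen hU⟩
  · intro Y _ _ _ f hf
    have key : ∀ Z : PtTop.Sob X, IsGenericPoint
        ((isIrreducible_carrier Z).image f hf.continuousOn).genericPoint (closure (f '' carrier Z)) := fun Z =>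
      ((isIrreducible_carrier Z).image f hf.continuousOn).isGenericPoint_genericPoint_closure
    refine ⟨fun Z => ((isIrreducible_carrier Z).image f hf.continuousOn).genericPoint, ?_, ?_⟩
    · rw [continuous_def]
      intro V hV
      convert isOpen_sobOpen (hV.preimage hf) using 1
      ext Z
      rw [Set.mem_preimage, (key Z).mem_open_set_iff hV]
      constructor
      · rintro ⟨y, hy, hyV⟩
        obtain ⟨_, hwV, w, hw, rfl⟩ := mem_closure_iff.mp hy V hV hyV
        exact ⟨w, hw, hwV⟩
      · rintro ⟨w, hw, hwV⟩
        exact ⟨f w, subset_closure ⟨w, hw, rfl⟩, hwV⟩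
    · funext x
      refine (key (PtTop.toSob X x)).eq (S := closure (f '' carrier (PtTop.toSob X x))) ?_
      show closure {f x} = closure (f '' closure {x})
      rw [← Set.image_singleton]
      exact (closure_mono (Set.image_mono subset_closure)).antisymm
        (closure_minimal (image_closure_subset_closure_image hf) isClosed_closure)

end Groth.Agent.S7582
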