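import Groth.Statements.S7584

set_option autoImplicit false
universe u
open PtTop

namespace Groth.Agent.S7584

/-- Let X be a quasi-compact topological space in which each connected component equals the intersection
of all clopen sets that contain it. Then π₀(X), the set of connected components with the quotient
topology, is Hausdorff. The published statement concludes that π₀(X) is profinite; this row records
the Hausdorff property, quasi-compactness and total disconnectedness of the quotient being
automatic. -/
theorem result (X : Type u) [TopologicalSpace X] [CompactSpace X]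
    (h : ∀ x : X, connectedComponent x = ⋂₀ {Z : Set X | IsClopen Z ∧ x ∈ Z}) :
    T2Space (ConnectedComponents X) := by
  haveI : TotallySeparatedSpace (ConnectedComponents X) := by
    rw [totallySeparatedSpace_iff_exists_isClopen]
    intro a b hab
    obtain ⟨x, rfl⟩ := ConnectedComponents.surjective_coe a
    obtain ⟨y, rfl⟩ := ConnectedComponents.surjective_coe b
    have : y ∉ connectedComponent x := fun h => hab (ConnectedComponents.coe_eq_coe'.mpr h).symm
    rw [h x, Set.mem_sInter] at this
    push Not at this
    obtain ⟨Z, ⟨hZ, hxZ⟩, hyZ⟩ := this
    have hpre : (ConnectedComponents.mk ⁻¹' (ConnectedComponents.mk '' Z)) = Z := by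
      refine Set.Subset.antisymm ?_ (Set.subset_preimage_image _ _)
      rintro w ⟨z, hz, hzw⟩
      exact hZ.connectedComponent_subset hz (ConnectedComponents.coe_eq_coe'.mp hzw.symm)
    refine ⟨ConnectedComponents.mk '' Z, ?_, Set.mem_image_of_mem _ hxZ, ?_⟩
    · rw [← ConnectedComponents.isQuotientMap_coe.isClopen_preimage, hpre]
      exact hZ
    · intro hmem
      exact hyZ (hpre ▸ (show y ∈ ConnectedComponents.mk ⁻¹' (ConnectedComponents.mk '' Z) from hmem))
  refine ⟨fun a b hab => ?_⟩
  obtain ⟨Z, hZ, ha, hb⟩ := exists_isClopen_of_totally_separated hab
  exact ⟨Z, Zᶜ, hZ.2, hZ.1.isOpen_compl, ha, hb, disjoint_compl_right⟩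

end Groth.Agent.S7584
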