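import Groth.Statements.S7587
import Groth.Agent.H15Site.BasisSheaf

open Groth.Agent.H15Site

set_option linter.style.haveILetI false
open CategoryTheory

set_option autoImplicit false
universe u
open ShSp

namespace Groth.Agent.S7587

/-- Let X be a topological space, ℬ a basis for its topology, U ∈ ℬ and F a sheaf of sets on ℬ. Sending
a section over U to its germs at the points of U, a map from F(U) into the product of the stalks F_x
over x ∈ U, puts F(U) in bijection with those germ families (s_x)_{x ∈ U} that satisfy (*): each x ∈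
U lies in some V ∈ ℬ contained in U carrying a section σ ∈ F(V) whose germ at every y ∈ V equals
s_y. That is, the map is injective and its image is exactly the set of such families. -/
theorem result {X : Type u} [TopologicalSpace X] {B : Set (TopologicalSpace.Opens X)}
    (hB : TopologicalSpace.Opens.IsBasis B) (F : ShB.Pre B) (hF : ShB.IsSheaf F) (U : B) :
    Function.Injective (fun (s : F.obj U) (x : (U : TopologicalSpace.Opens X)) => ShB.germ F x.1 x.2 s) ∧
    ∀ f : ∀ x : (U : TopologicalSpace.Opens X), ShB.Stalk F x.1,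
      (∃ s : F.obj U, ∀ x, ShB.germ F x.1 x.2 s = f x) ↔
      ∀ x : (U : TopologicalSpace.Opens X), ∃ (V : B) (hxV : x.1 ∈ (V : TopologicalSpace.Opens X))
        (hVU : (V : TopologicalSpace.Opens X) ≤ (U : TopologicalSpace.Opens X)) (σ : F.obj V),
        ∀ (y : X) (hy : y ∈ (V : TopologicalSpace.Opens X)), ShB.germ F y hy σ = f ⟨y, hVU hy⟩ := by
  refine ⟨fun s t h => BasisSheaf.eq_of_germ_eq hB hF fun x hx => congrFun h ⟨x, hx⟩, fun f => ?_⟩
  constructor
  · rintro ⟨s, hs⟩ x
    exact ⟨U, x.2, le_refl _, s, fun y hy => hs ⟨y, hy⟩⟩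
  · intro h
    choose V hxV hVU σ hσ using h
    obtain ⟨t, ht⟩ := BasisSheaf.IsSheaf.glue hB hF U _ V hVU
      (BasisSheaf.le_iSup_of_points fun x hx => ⟨⟨x, hx⟩, hxV ⟨x, hx⟩⟩) σ
      (fun a b N h₁ h₂ => BasisSheaf.eq_of_germ_eq hB hF fun y hy => by
        rw [BasisSheaf.germ_res, BasisSheaf.germ_res, hσ, hσ])
    refine ⟨t, fun x => ?_⟩
    rw [← hσ x x.1 (hxV x), ← ht x]
    exact (BasisSheaf.germ_res F (hVU x) (hxV x) t).symm

end Groth.Agent.S7587
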