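import Groth.Statements.S7588
import Groth.Agent.H15Site.BasisSheaf

open Groth.Agent.H15Site

set_option linter.style.haveILetI false
open CategoryTheory

set_option autoImplicit false
universe u
open CategoryTheory
open ShSp

namespace Groth.Agent.S7588

/-- Let X be a topological space, ℬ a basis for its topology and F a sheaf of sets on ℬ. There is a
sheaf of sets F^ext on X together with an isomorphism of presheaves on ℬ between the restriction of
F^ext to ℬ and F; and it is unique: given two sheaves G, G′ on X with such isomorphisms e, e′, there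
is a unique isomorphism G ≅ G′ whose restriction to the members of ℬ is compatible with e and e′. -/
theorem result {X : Type u} [TopologicalSpace X] {B : Set (TopologicalSpace.Opens X)}
    (hB : TopologicalSpace.Opens.IsBasis B) (F : ShB.Pre B) (hF : ShB.IsSheaf F) :
    (∃ G : TopCat.Sheaf (Type u) (TopCat.of X), Nonempty (ShB.Iso (ShB.restrict B G.presheaf) F)) ∧
    ∀ (G G' : TopCat.Sheaf (Type u) (TopCat.of X)) (e : ShB.Iso (ShB.restrict B G.presheaf) F)
      (e' : ShB.Iso (ShB.restrict B G'.presheaf) F),
      ∃! φ : G ⟶ G', IsIso φ ∧ ∀ (U : B) (s : G.presheaf.obj (Opposite.op (U : TopologicalSpace.Opens X))),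
        e'.hom.app U (φ.1.app (Opposite.op (U : TopologicalSpace.Opens X)) s) = e.hom.app U s := by
  refine ⟨⟨⟨BasisSheaf.ext F, BasisSheaf.ext_isSheaf hB hF⟩, ⟨BasisSheaf.extIso⟩⟩, fun G G' e e' => ?_⟩
  let b : B → TopologicalSpace.Opens (TopCat.of X) := Subtype.val
  have hb : TopologicalSpace.Opens.IsBasis (Set.range b) := by
    show TopologicalSpace.Opens.IsBasis (Set.range (Subtype.val : B → _))
    rw [Subtype.range_val]
    exact hB
  let α : (inducedFunctor b).op ⋙ G.presheaf ⟶ (inducedFunctor b).op ⋙ G'.1 :=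
    { app := fun U => ↾fun s => e'.inv.app U.unop (e.hom.app U.unop s)
      naturality := fun U V i => by
        ext s
        have h₁ := e.hom.natural (leOfHom i.unop.hom) s
        have h₂ := e'.inv.natural (leOfHom i.unop.hom) (e.hom.app U.unop s)
        exact ((congrArg (e'.inv.app V.unop) h₁).symm.trans h₂.symm) }
  let φ : G ⟶ G' := ⟨TopCat.Sheaf.restrictHomEquivHom G.presheaf G' hb α⟩
  have hφ : ∀ U : B, φ.1.app (Opposite.op (b U)) = α.app (Opposite.op U) :=
    fun U => TopCat.Sheaf.extend_hom_app G.presheaf G' hb α U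
  have hcompat : ∀ (U : B) (s : G.presheaf.obj (Opposite.op (U : TopologicalSpace.Opens X))),
      e'.hom.app U (φ.1.app (Opposite.op (U : TopologicalSpace.Opens X)) s) = e.hom.app U s :=
    fun U s => (congrArg (fun f => e'.hom.app U (f s)) (hφ U)).trans (e'.inv_hom U _)
  have hbij : ∀ U : B, IsIso (φ.1.app (Opposite.op (b U))) := fun U => by
    rw [hφ U, CategoryTheory.isIso_iff_bijective]
    refine Function.bijective_iff_has_inverse.2 ⟨fun t => e.inv.app U (e'.hom.app U t), fun s => ?_,
      fun t => ?_⟩
    · exact (congrArg (e.inv.app U) (e'.inv_hom U _)).trans (e.hom_inv U s)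
    · exact (congrArg (e'.inv.app U) (e.inv_hom U _)).trans (e'.hom_inv U t)
  refine ⟨φ, ⟨(TopCat.Sheaf.isIso_iff_isIso_basis hb) hbij, hcompat⟩, fun ψ hψ => ?_⟩
  refine CategoryTheory.Sheaf.hom_ext (TopCat.Sheaf.hom_ext G.presheaf G' hb fun U => ?_)
  ext s
  exact (e'.hom_inv U _).symm.trans
    ((congrArg (e'.inv.app U) ((hψ.2 U s).trans (hcompat U s).symm)).trans (e'.hom_inv U _))

end Groth.Agent.S7588
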