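import Groth.Statements.S7589
import Mathlib
import Groth.Agent.H22Alg.VarDim
import Groth.Agent.H22Alg.FibreDimBound
import Groth.Agent.H8Props.FieldDimFormula

set_option autoImplicit false
universe u
open CategoryTheory CategoryTheory.Limits AlgebraicGeometry
attribute [local instance] Curv2.stalkAlgebra Curv2.resAlgebra
open Variety

namespace Groth.Agent.S7589

/-- Let X be locally of finite type over a field k, K an extension field of k, y a point of the base
change X_K and x its image in X; write a = trdeg_k κ(x) and a' = trdeg_K κ(y). Then dim O_{X_K, y} +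
a' = dim O_{X, x} + a, and the fibre ring O_{X_K, y} / m_x O_{X_K, y} has Krull dimension a - a' (in
particular a' ≤ a); dimensions in WithBot ℕ∞. -/
theorem result (k : Type u) [Field k] (X : Scheme.{u}) [X.Over (Spec (CommRingCat.of k))] [LocallyOfFiniteType (X ↘ (Spec (CommRingCat.of k)))]
    (K : Type u) [Field K] [Algebra k K] (y : ↥(Curv2.bc k X K)) (a a' : ℕ)
    (ha : Algebra.trdeg k (X.residueField (Curv2.bcFst k X K y)) = a)
    (ha' : letI : (Curv2.bc k X K).Over (Spec (CommRingCat.of K)) := ⟨Curv2.bcSnd k X K⟩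
      Algebra.trdeg K ((Curv2.bc k X K).residueField y) = a') :
    ringKrullDim ((Curv2.bc k X K).presheaf.stalk y) + (a' : WithBot ℕ∞) =
        ringKrullDim (X.presheaf.stalk (Curv2.bcFst k X K y)) + (a : WithBot ℕ∞) ∧
      ringKrullDim (↥((Curv2.bc k X K).presheaf.stalk y) ⧸ Ideal.map ((Curv2.bcFst k X K).stalkMap y).hom (IsLocalRing.maximalIdeal ↥(X.presheaf.stalk (Curv2.bcFst k X K y)))) + (a' : WithBot ℕ∞) =
        (a : WithBot ℕ∞) := by
  letI : (Curv2.bc k X K).Over (Spec (CommRingCat.of K)) := ⟨Curv2.bcSnd k X K⟩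
  let q := X ↘ (Spec (CommRingCat.of k))
  let Z := Curv2.bc k X K
  let p := Curv2.bcFst k X K
  haveI : LocallyOfFiniteType (Z ↘ (Spec (CommRingCat.of K))) := MorphismProperty.pullback_snd q _ inferInstance
  haveI : IsLocallyNoetherian X := LocallyOfFiniteType.isLocallyNoetherian q
  haveI : IsLocallyNoetherian Z := LocallyOfFiniteType.isLocallyNoetherian (Z ↘ (Spec (CommRingCat.of K)))
  haveI : Flat p := by
    haveI : Flat (Spec.map (CommRingCat.ofHom (algebraMap k K))) := inferInstance
    exact MorphismProperty.pullback_fst q _ inferInstance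
  have hy : Groth.Agent.H8Props.FieldDim.cdim y = a' :=
    Groth.Agent.H22Alg.VarDim.cdim_eq_of_trdeg K Z y a' ha'
  have hx : Groth.Agent.H8Props.FieldDim.cdim (p y) = a :=
    Groth.Agent.H22Alg.VarDim.cdim_eq_of_trdeg k X (p y) a ha
  have hloc := Groth.Agent.H8Props.FieldDim.localDim_baseChange (K := K) q p (Z ↘ (Spec (CommRingCat.of K)))
    (IsPullback.of_hasPullback q (Spec.map (CommRingCat.ofHom (algebraMap k K)))) y
  rw [Groth.Agent.H8Props.FieldDim.localDim_eq_stalk_add_cdim (Z ↘ (Spec (CommRingCat.of K))) y, hy,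
    Groth.Agent.H8Props.FieldDim.localDim_eq_stalk_add_cdim q (p y), hx] at hloc
  refine ⟨hloc, ?_⟩
  letI : Algebra (X.presheaf.stalk (p y)) (Z.presheaf.stalk y) := (p.stalkMap y).hom.toAlgebra
  haveI : IsLocalHom (algebraMap (X.presheaf.stalk (p y)) (Z.presheaf.stalk y)) :=
    inferInstanceAs (IsLocalHom (p.stalkMap y).hom)
  haveI : Module.Flat (X.presheaf.stalk (p y)) (Z.presheaf.stalk y) := Flat.stalkMap p y
  have hadd := Groth.Agent.H02CA.ringKrullDim_eq_add_of_flat (X.presheaf.stalk (p y)) (Z.presheaf.stalk y)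
  obtain ⟨m, hm⟩ := Groth.Agent.H22Alg.exists_nat_ringKrullDim' (X.presheaf.stalk (p y))
  obtain ⟨n, hn⟩ := Groth.Agent.H22Alg.exists_nat_ringKrullDim' (Z.presheaf.stalk y)
  rw [hm, hn] at hloc hadd
  show ringKrullDim (↥(Z.presheaf.stalk y) ⧸
    (IsLocalRing.maximalIdeal ↥(X.presheaf.stalk (p y))).map (algebraMap _ (Z.presheaf.stalk y))) + (a' : WithBot ℕ∞) = a
  generalize ringKrullDim (↥(Z.presheaf.stalk y) ⧸
    (IsLocalRing.maximalIdeal ↥(X.presheaf.stalk (p y))).map (algebraMap _ (Z.presheaf.stalk y))) = r at hadd ⊢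
  cases r with
  | bot => simp at hadd
  | coe r =>
    cases r with
    | top =>
      exfalso
      rw [add_comm] at hadd
      have : ((n : ℕ∞) : WithBot ℕ∞) = ((⊤ + (m : ℕ∞) : ℕ∞) : WithBot ℕ∞) := by
        first
        | exact hadd
        | (rw [add_comm] at hadd; exact hadd)
      simp at this
      rw [← WithBot.coe_natCast, ← WithBot.coe_top] at this
      exact ENat.coe_ne_top n (WithBot.coe_injective this)
    | coe r =>
      norm_cast at hadd hloc ⊢
      omega

end Groth.Agent.S7589
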