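import Groth.Statements.S7590
import Mathlib
import Groth.Agent.H22Alg.VarGeom

set_option autoImplicit false
universe u
open CategoryTheory CategoryTheory.Limits AlgebraicGeometry
open Variety

namespace Groth.Agent.S7590

/-- Let k be a separably closed field, K any extension field of k and X a scheme over k. Then the
projection X_K → X induces a bijection between the sets of connected components. -/
theorem result (k : Type u) [Field k] [IsSepClosed k] (X : Scheme.{u}) [X.Over (Spec (CommRingCat.of k))]
    (K : Type u) [Field K] [Algebra k K] :
    Function.Bijective (Continuous.connectedComponentsMap (Curv2.bcFst k X K).continuous) := by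
  have hopen : IsOpenMap (Curv2.bcFst k X K) := by
    haveI := Groth.Agent.H06Desc.universallyOpen_of_discreteTopology (Spec.map (CommRingCat.ofHom (algebraMap k K)))
    exact (pullback.fst (X ↘ Spec (CommRingCat.of k)) (Spec.map (CommRingCat.ofHom (algebraMap k K)))).isOpenMap
  have hsurj : Function.Surjective (Curv2.bcFst k X K) :=
    (pullback.fst (X ↘ Spec (CommRingCat.of k)) (Spec.map (CommRingCat.ofHom (algebraMap k K)))).surjective
  have hq := (hopen.isQuotientMap (Curv2.bcFst k X K).continuous hsurj)
  have hfib : ∀ x, _root_.IsConnected ((Curv2.bcFst k X K) ⁻¹' {x}) := fun x =>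
    (Groth.Agent.H22Alg.VarGeom.isIrreducible_preimage_point (X ↘ Spec (CommRingCat.of k)) K x).isConnected
  refine ⟨fun a b hab => ?_, Function.Surjective.of_comp (g := ConnectedComponents.mk) ?_⟩
  · obtain ⟨a, rfl⟩ := ConnectedComponents.surjective_coe a
    obtain ⟨b, rfl⟩ := ConnectedComponents.surjective_coe b
    have h1 := hq.isCoinducing.isConnected_preimage_of_isClosed hfib isClosed_connectedComponent
      (isConnected_connectedComponent (x := Curv2.bcFst k X K a))
    refine ConnectedComponents.coe_eq_coe'.mpr ?_
    refine h1.2.subset_connectedComponent ?_ ?_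
    · exact (ConnectedComponents.coe_eq_coe'.mp hab.symm)
    · exact mem_connectedComponent
  · intro c
    obtain ⟨x, rfl⟩ := ConnectedComponents.surjective_coe c
    obtain ⟨z, rfl⟩ := hsurj x
    exact ⟨z, rfl⟩

end Groth.Agent.S7590
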