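import Groth.Statements.S7592
import Mathlib
import Groth.Agent.H22Alg.FieldComponents

set_option autoImplicit false
universe u
open CategoryTheory CategoryTheory.Limits AlgebraicGeometry
open Variety

namespace Groth.Agent.S7592

/-- Let K be a (possibly infinite) Galois extension of a field k and f : T → X a morphism of schemes
over k. If the base change T_K is connected and X_K is not connected, then X is not connected. -/
theorem result (k : Type u) [Field k] (K : Type u) [Field K] [Algebra k K] [IsGalois k K]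
    (T X : Scheme.{u}) [T.Over (Spec (CommRingCat.of k))] [X.Over (Spec (CommRingCat.of k))]
    (f : T ⟶ X) [f.IsOver (Spec (CommRingCat.of k))]
    [ConnectedSpace ↥(Curv2.bc k T K)] (hX : ¬ ConnectedSpace ↥(Curv2.bc k X K)) :
    ¬ ConnectedSpace ↥X := by
  intro hconn
  apply hX
  have hf : f ≫ (X ↘ Spec (CommRingCat.of k)) = T ↘ Spec (CommRingCat.of k) := comp_over f _
  let g : Curv2.bc k T K ⟶ Curv2.bc k X K :=
    pullback.map _ _ _ _ f (𝟙 _) (𝟙 _) (by rw [Category.comp_id, hf]) (by simp)
  have hg : ∀ σ : K ≃ₐ[k] K, Groth.Agent.H22Alg.GaloisFibres.act (T ↘ Spec (CommRingCat.of k)) K σ ≫ g =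
      g ≫ Groth.Agent.H22Alg.GaloisFibres.act (X ↘ Spec (CommRingCat.of k)) K σ := fun σ => by
    refine pullback.hom_ext ?_ ?_ <;>
      simp only [g, Groth.Agent.H22Alg.GaloisFibres.act, Category.assoc, pullback.lift_fst, pullback.lift_snd,
        pullback.lift_fst_assoc, pullback.lift_snd_assoc, Category.comp_id, Category.id_comp]
  obtain ⟨w⟩ := (inferInstance : Nonempty ↥(Curv2.bc k T K))
  suffices h : connectedComponent (g w) = Set.univ from
    connectedSpace_iff_univ.mpr (h ▸ isConnected_connectedComponent)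
  have hmem : ∀ v, g v ∈ connectedComponent (g w) := fun v =>
    (isPreconnected_range g.continuous).subset_connectedComponent ⟨w, rfl⟩ ⟨v, rfl⟩
  refine Set.eq_univ_of_forall fun p => ?_
  obtain ⟨σ, hσ⟩ := Groth.Agent.H22Alg.GaloisFibres.exists_smul_mem_connectedComponent
    (X ↘ Spec (CommRingCat.of k)) K (g w) p
  let φ := Groth.Agent.H22Alg.GaloisFibres.act (X ↘ Spec (CommRingCat.of k)) K σ
  have hp : φ (σ • p) = p := by
    have := inv_smul_smul σ p
    rw [Groth.Agent.H22Alg.GaloisFibres.smul_eq (σ := σ⁻¹), inv_inv] at this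
    exact this
  refine (isPreconnected_connectedComponent.image _ φ.continuous.continuousOn).subset_connectedComponent
    ?_ ⟨_, hσ, hp⟩
  refine ⟨g (Groth.Agent.H22Alg.GaloisFibres.act (T ↘ Spec (CommRingCat.of k)) K σ⁻¹ w), hmem _, ?_⟩
  show φ _ = _
  rw [← Scheme.Hom.comp_apply, ← Scheme.Hom.comp_apply, ← Category.assoc]
  have e : (Groth.Agent.H22Alg.GaloisFibres.act (T ↘ Spec (CommRingCat.of k)) K σ⁻¹ ≫ g) ≫ φ = g := by
    rw [hg, Category.assoc]
    have h1 : Groth.Agent.H22Alg.GaloisFibres.act (X ↘ Spec (CommRingCat.of k)) K σ⁻¹ ≫ φ = 𝟙 _ := by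
      rw [← Groth.Agent.H22Alg.GaloisFibres.act_mul, inv_mul_cancel, Groth.Agent.H22Alg.GaloisFibres.act_one]
    rw [h1]
    exact Category.comp_id g
  rw [e]

end Groth.Agent.S7592
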