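import Groth.Statements.S7593
import Mathlib
import Groth.Agent.H22Alg.FieldComponents

set_option autoImplicit false
universe u
open CategoryTheory CategoryTheory.Limits AlgebraicGeometry
open Variety

namespace Groth.Agent.S7593

/-- Let k̄ be a separable algebraic closure of a field k, X a scheme over k and t a point of X_{k̄} with
image x in X. The connected component of t is mapped onto itself by the action of every
k-automorphism of k̄ if and only if it equals the full inverse image of the connected component T of
x in X and T is geometrically connected over k (the inverse image of T in X_K is connected for every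
extension field K of k). -/
theorem result (k : Type u) [Field k] (X : Scheme.{u}) [X.Over (Spec (CommRingCat.of k))] (t : ↥(Curv2.bc k X (SeparableClosure k))) :
    (∀ σ : SeparableClosure k ≃ₐ[k] SeparableClosure k,
        (Curv2.galAct k X (SeparableClosure k) σ).base '' connectedComponent t = connectedComponent t) ↔
      ((Curv2.bcFst k X (SeparableClosure k)).base ⁻¹' connectedComponent (Curv2.bcFst k X (SeparableClosure k) t) = connectedComponent t ∧
        ∀ (K : Type u) [Field K] [Algebra k K],
          _root_.IsConnected ((Curv2.bcFst k X K).base ⁻¹' connectedComponent (Curv2.bcFst k X (SeparableClosure k) t))) := by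
  set f := X ↘ Spec (CommRingCat.of k) with hf
  set p := (Curv2.bcFst k X (SeparableClosure k)) with hp
  set T := connectedComponent (p t)
  have himg : p '' connectedComponent t = T :=
    Groth.Agent.H22Alg.FieldComponents.image_connectedComponent f (SeparableClosure k) t
  constructor
  · intro hinv
    have heq : p ⁻¹' T = connectedComponent t := by
      refine Set.Subset.antisymm (fun z hz => ?_) fun z hz => himg.le ⟨z, hz, rfl⟩
      obtain ⟨q, hq, hqz⟩ := himg.ge hz
      obtain ⟨σ, hσ⟩ := Groth.Agent.H22Alg.GaloisFibres.exists_smul_eq f (SeparableClosure k) hqz.symm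
      rw [← hσ, ← hinv σ⁻¹]
      exact ⟨q, hq, rfl⟩
    refine ⟨heq, fun K _ _ => Groth.Agent.H06Geom.isConnected_preimage_of_algClosure f ?_ K⟩
    let L := separableClosure k (AlgebraicClosure k)
    let m := Groth.Agent.H06Geom.bcMap f L.val
    have hinj : Function.Injective m := fun z z' h => by
      obtain ⟨σ, hσ, rfl⟩ := Groth.Agent.H22Alg.GaloisFibres.exists_smul_eq_of_bcMap f (AlgebraicClosure k) L h
      have : σ = 1 := by
        refine AlgEquiv.ext fun y => ?_
        obtain ⟨n, c, hc⟩ := IsPurelyInseparable.pow_mem L (ringExpChar L) y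
        haveI : ExpChar (AlgebraicClosure k) (ringExpChar L) :=
          expChar_of_injective_ringHom (algebraMap L (AlgebraicClosure k)).injective _
        refine iterateFrobenius_inj (AlgebraicClosure k) (ringExpChar L) n ?_
        show (σ y) ^ ringExpChar L ^ n = y ^ ringExpChar L ^ n
        rw [← map_pow, ← hc]
        exact (IntermediateField.mem_fixingSubgroup_iff L σ).mp hσ (c : AlgebraicClosure k) c.2
      rw [this]
      exact @MulAction.one_smul _ _ _ (Groth.Agent.H22Alg.GaloisFibres.instMulAction f (AlgebraicClosure k)) z'
    have hcl : IsClosedMap m := by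
      haveI : IsIntegralHom (Spec.map (CommRingCat.ofHom L.val.toRingHom)) := by
        rw [IsIntegralHom.SpecMap_iff]
        exact algebraMap_isIntegral_iff (R := L) (A := AlgebraicClosure k).2 inferInstance
      haveI : IsIntegralHom m :=
        MorphismProperty.of_isPullback (P := @IsIntegralHom) (Groth.Agent.H06Geom.isPullback_bcMap f L.val).flip inferInstance
      exact m.isClosedMap
    have hsurj : Function.Surjective m := Groth.Agent.H06Geom.surjective_bcMap f L.val
    have hh : IsHomeomorph m := isHomeomorph_iff_continuous_isClosedMap_bijective.mpr ⟨m.continuous, hcl, hinj, hsurj⟩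
    have hc : _root_.IsConnected (p ⁻¹' T) := heq ▸ isConnected_connectedComponent
    show _root_.IsConnected ((FBase.bcπ f (AlgebraicClosure k)).base ⁻¹' T)
    have e : (FBase.bcπ f (AlgebraicClosure k)).base ⁻¹' T = hh.homeomorph ⁻¹' (p ⁻¹' T) := by
      rw [← Groth.Agent.H06Geom.bcMap_bcπ f L.val]
      rfl
    rw [e]
    exact hh.homeomorph.isConnected_preimage.mpr hc
  · rintro ⟨heq, -⟩ σ
    have hσ : ∀ (τ : SeparableClosure k ≃ₐ[k] SeparableClosure k) z, p (Curv2.galAct k X _ τ z) = p z := fun τ z => by
      rw [← Scheme.Hom.comp_apply]
      exact congrArg (fun φ : Curv2.bc k X (SeparableClosure k) ⟶ X => φ z)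
        (Groth.Agent.H22Alg.GaloisFibres.act_fst f (SeparableClosure k) τ)
    rw [← heq]
    ext z
    constructor
    · rintro ⟨w, hw, rfl⟩
      show p _ ∈ T
      rw [hσ]; exact hw
    · intro hz
      refine ⟨Curv2.galAct k X _ σ⁻¹ z, show p _ ∈ T by rw [hσ]; exact hz, ?_⟩
      have h2 : Groth.Agent.H22Alg.GaloisFibres.act f (SeparableClosure k) σ
          (Groth.Agent.H22Alg.GaloisFibres.act f (SeparableClosure k) σ⁻¹ z) = z := by
        rw [← Scheme.Hom.comp_apply, ← Groth.Agent.H22Alg.GaloisFibres.act_mul, inv_mul_cancel,
          Groth.Agent.H22Alg.GaloisFibres.act_one]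
        rfl
      exact h2

end Groth.Agent.S7593
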