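import Groth.Statements.S7596
import Mathlib
import Groth.Agent.S1540

set_option autoImplicit false
universe u
open CategoryTheory CategoryTheory.Limits AlgebraicGeometry
open Variety

namespace Groth.Agent.S7596

/-- Let X be an irreducible scheme over a field k whose k-rational points (points x at which k → κ(x) is
onto) form a dense subset. Then X is geometrically irreducible over k. -/
theorem result (k : Type u) [Field k] (X : Scheme.{u}) [X.Over (Spec (CommRingCat.of k))] [IrreducibleSpace ↥X]
    (hd : Dense {x : ↥X | Function.Surjective (Curv2.resMap k X x)}) :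
    GeometricallyIrreducible (X ↘ (Spec (CommRingCat.of k))) := by
  letI := Curv2.resAlgebra k X (genericPoint X)
  refine (Groth.Agent.S1540.result k X).mpr fun a ha => ?_
  obtain ⟨t, rfl⟩ := X.residue_surjective (genericPoint X) a
  obtain ⟨V, hV, s, rfl⟩ := X.presheaf.germ_exist t
  let c : k →+* Γ(X, V) := (X.presheaf.map (homOfLE le_top).op).hom.comp (Coh.toGlobal (X ↘ Spec (CommRingCat.of k)))
  have hc : ∀ (x : X) (hx : x ∈ V), (X.evaluation V x hx).hom.comp c = Curv2.resMap k X x := fun x hx => by
    ext y
    show X.residue x (X.presheaf.germ V x hx (X.presheaf.map (homOfLE le_top).op _)) = _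
    rw [TopCat.Presheaf.germ_res_apply]
    rfl
  set p := minpoly k (X.residue (genericPoint X) (X.presheaf.germ V (genericPoint X) hV s))
  have hη : X.evaluation V (genericPoint X) hV (Polynomial.eval₂ c s p) = 0 := by
    show (X.evaluation V (genericPoint X) hV).hom _ = 0
    rw [Polynomial.hom_eval₂, hc]
    exact minpoly.aeval k _
  obtain ⟨x, hrat, hx⟩ := hd.exists_mem_open V.isOpen ⟨_, hV⟩
  have hx' := hrat
  obtain ⟨r, hr⟩ := hx' (X.evaluation V x hx s)
  have h0 : X.evaluation V x hx (Polynomial.eval₂ c s p) = 0 := by
    by_contra hne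
    have h1 := (X.evaluation_ne_zero_iff_mem_basicOpen x hx _).mp hne
    exact (X.evaluation_ne_zero_iff_mem_basicOpen _ hV _).mpr ((genericPoint_specializes x).mem_open (X.basicOpen _).isOpen h1) hη
  have h2 : p.eval r = 0 := by
    apply (Curv2.resMap k X x).injective
    rw [map_zero, ← Polynomial.eval₂_at_apply, hr, ← hc x hx, ← Polynomial.hom_eval₂]
    exact h0
  have hdeg : p.natDegree = 1 := Polynomial.natDegree_eq_of_degree_eq_some
    (Polynomial.degree_eq_one_of_irreducible_of_root (minpoly.irreducible ha.isIntegral) h2)
  exact minpoly.natDegree_eq_one_iff.mp hdeg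

end Groth.Agent.S7596
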