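import Groth.Statements.S7597
import Mathlib
import Groth.Agent.H22Alg.FieldIrred

set_option autoImplicit false
universe u
open CategoryTheory CategoryTheory.Limits AlgebraicGeometry
open Variety

namespace Groth.Agent.S7597

/-- Let k̄ be a separable algebraic closure of a field k, X a scheme over k and Z an irreducible
component of X_{k̄}. Then Z is mapped onto itself by the action of every k-automorphism of k̄ if and
only if Z is the full inverse image of some irreducible component T of X which is geometrically
irreducible over k (the inverse image of T in X_K is irreducible for every extension field K of k). -/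
theorem result (k : Type u) [Field k] (X : Scheme.{u}) [X.Over (Spec (CommRingCat.of k))]
    (Z : Set ↥(Curv2.bc k X (SeparableClosure k))) (hZ : Z ∈ irreducibleComponents ↥(Curv2.bc k X (SeparableClosure k))) :
    (∀ σ : SeparableClosure k ≃ₐ[k] SeparableClosure k, (Curv2.galAct k X (SeparableClosure k) σ).base '' Z = Z) ↔
      ∃ T ∈ irreducibleComponents ↥X, (Curv2.bcFst k X (SeparableClosure k)).base ⁻¹' T = Z ∧
        ∀ (K : Type u) [Field K] [Algebra k K], IsIrreducible ((Curv2.bcFst k X K).base ⁻¹' T) := by
  have hfst : ∀ (σ : (SeparableClosure k) ≃ₐ[k] (SeparableClosure k)) z, Curv2.bcFst k X (SeparableClosure k) (Curv2.galAct k X (SeparableClosure k) σ z) = Curv2.bcFst k X (SeparableClosure k) z := fun σ z => by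
    rw [← Scheme.Hom.comp_apply]
    exact congrArg (fun φ : Curv2.bc k X (SeparableClosure k) ⟶ X => φ z) (Groth.Agent.H22Alg.GaloisFibres.act_fst (X ↘ Spec (CommRingCat.of k)) (SeparableClosure k) σ)
  constructor
  · intro hinv
    obtain ⟨ξ, hξ, rfl⟩ := Groth.Agent.H22Alg.FieldIrred.eq_closure_of_mem_irreducibleComponents hZ
    have himg := Groth.Agent.H22Alg.FieldIrred.image_closure (X ↘ Spec (CommRingCat.of k)) (SeparableClosure k) hξ
    have hη := Groth.Agent.H22Alg.FieldIrred.map_genericPoints (X ↘ Spec (CommRingCat.of k)) (SeparableClosure k) hξ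
    have heq : (Curv2.bcFst k X (SeparableClosure k)).base ⁻¹' closure {Curv2.bcFst k X (SeparableClosure k) ξ} = closure {ξ} := by
      refine Set.Subset.antisymm (fun z hz => ?_) fun z hz => himg.le ⟨z, hz, rfl⟩
      obtain ⟨ξ1, -, hξ1z, hξ1⟩ := Groth.Agent.H22Alg.FieldIrred.exists_genericPoint_specializes (X ↘ Spec (CommRingCat.of k)) (SeparableClosure k) z hη
        (specializes_iff_mem_closure.mpr hz)
      obtain ⟨σ, hσ⟩ := Groth.Agent.H22Alg.GaloisFibres.exists_smul_eq (X ↘ Spec (CommRingCat.of k)) (SeparableClosure k) (z := ξ1) (z' := ξ) hξ1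
      have hmem : ξ1 ∈ closure ({ξ} : Set ↥(Curv2.bc k X (SeparableClosure k))) :=
        (hinv σ⁻¹).le ⟨ξ, subset_closure rfl, hσ⟩
      exact closure_minimal (Set.singleton_subset_iff.mpr hmem) isClosed_closure hξ1z.mem_closure
    refine ⟨closure {Curv2.bcFst k X (SeparableClosure k) ξ}, hη, heq, fun K _ _ => ?_⟩
    refine Groth.Agent.H22Alg.FieldIrred.isIrreducible_preimage_of_separableClosure (X ↘ Spec (CommRingCat.of k)) ?_ K
    exact heq ▸ isIrreducible_singleton.closure
  · rintro ⟨T, -, heq, -⟩ σ
    rw [← heq]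
    ext z
    constructor
    · rintro ⟨w, hw, rfl⟩
      show Curv2.bcFst k X (SeparableClosure k) _ ∈ T
      rw [hfst]; exact hw
    · intro hz
      refine ⟨Curv2.galAct k X _ σ⁻¹ z, show Curv2.bcFst k X (SeparableClosure k) _ ∈ T by rw [hfst]; exact hz, ?_⟩
      have h2 : Groth.Agent.H22Alg.GaloisFibres.act (X ↘ Spec (CommRingCat.of k)) (SeparableClosure k) σ
          (Groth.Agent.H22Alg.GaloisFibres.act (X ↘ Spec (CommRingCat.of k)) (SeparableClosure k) σ⁻¹ z) = z := by
        rw [← Scheme.Hom.comp_apply, ← Groth.Agent.H22Alg.GaloisFibres.act_mul, inv_mul_cancel,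
          Groth.Agent.H22Alg.GaloisFibres.act_one]
        rfl
      exact h2

end Groth.Agent.S7597
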