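import Groth.Statements.S7598
import Mathlib
import Groth.Agent.H22Alg.FieldIrred

set_option autoImplicit false
universe u
open CategoryTheory CategoryTheory.Limits AlgebraicGeometry
open Variety

namespace Groth.Agent.S7598

/-- Let k̄ be a separable algebraic closure of a field k and X a scheme over k. Two irreducible
components Z', Z'' of X_{k̄} have the same image in X if and only if Z'' is the image of Z' under
the action of some k-automorphism of k̄ on X_{k̄} (the fibres of the map on irreducible components
are the Galois orbits). -/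
theorem result (k : Type u) [Field k] (X : Scheme.{u}) [X.Over (Spec (CommRingCat.of k))]
    (Z' Z'' : Set ↥(Curv2.bc k X (SeparableClosure k))) (hZ' : Z' ∈ irreducibleComponents ↥(Curv2.bc k X (SeparableClosure k)))
    (hZ'' : Z'' ∈ irreducibleComponents ↥(Curv2.bc k X (SeparableClosure k))) :
    (Curv2.bcFst k X (SeparableClosure k)).base '' Z' = (Curv2.bcFst k X (SeparableClosure k)).base '' Z'' ↔
      ∃ σ : SeparableClosure k ≃ₐ[k] SeparableClosure k, (Curv2.galAct k X (SeparableClosure k) σ).base '' Z' = Z'' := by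
  have hfst : ∀ (σ : (SeparableClosure k) ≃ₐ[k] (SeparableClosure k)) z, Curv2.bcFst k X (SeparableClosure k) (Curv2.galAct k X (SeparableClosure k) σ z) = Curv2.bcFst k X (SeparableClosure k) z := fun σ z => by
    rw [← Scheme.Hom.comp_apply]
    exact congrArg (fun φ : Curv2.bc k X (SeparableClosure k) ⟶ X => φ z) (Groth.Agent.H22Alg.GaloisFibres.act_fst (X ↘ Spec (CommRingCat.of k)) (SeparableClosure k) σ)
  constructor
  · intro h
    obtain ⟨ξ', hξ', rfl⟩ := Groth.Agent.H22Alg.FieldIrred.eq_closure_of_mem_irreducibleComponents hZ'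
    obtain ⟨ξ'', hξ'', rfl⟩ := Groth.Agent.H22Alg.FieldIrred.eq_closure_of_mem_irreducibleComponents hZ''
    have h' : Inseparable (Curv2.bcFst k X (SeparableClosure k) ξ') (Curv2.bcFst k X (SeparableClosure k) ξ'') := inseparable_iff_closure_eq.mpr
      (((Groth.Agent.H22Alg.FieldIrred.image_closure (X ↘ Spec (CommRingCat.of k)) (SeparableClosure k) hξ').symm.trans h).trans
        (Groth.Agent.H22Alg.FieldIrred.image_closure (X ↘ Spec (CommRingCat.of k)) (SeparableClosure k) hξ''))
    obtain ⟨σ, hσ⟩ := Groth.Agent.H22Alg.GaloisFibres.exists_smul_eq (X ↘ Spec (CommRingCat.of k)) (SeparableClosure k) (z := ξ'') (z' := ξ') h'.eq.symm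
    refine ⟨σ⁻¹, ?_⟩
    have hcl : IsClosedMap (Curv2.galAct k X (SeparableClosure k) σ⁻¹) := by
      have hb : IsIso (Curv2.galAct k X (SeparableClosure k) σ⁻¹) := ⟨Groth.Agent.H22Alg.GaloisFibres.act (X ↘ Spec (CommRingCat.of k)) (SeparableClosure k) σ, by
        constructor
        · exact (Groth.Agent.H22Alg.GaloisFibres.act_mul (X ↘ Spec (CommRingCat.of k)) (SeparableClosure k) σ⁻¹ σ).symm.trans (by
            rw [inv_mul_cancel, Groth.Agent.H22Alg.GaloisFibres.act_one])
        · exact (Groth.Agent.H22Alg.GaloisFibres.act_mul (X ↘ Spec (CommRingCat.of k)) (SeparableClosure k) σ σ⁻¹).symm.trans (by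
            rw [mul_inv_cancel, Groth.Agent.H22Alg.GaloisFibres.act_one])⟩
      exact (Curv2.galAct k X (SeparableClosure k) σ⁻¹).homeomorph.isClosedMap
    rw [← hcl.closure_image_eq_of_continuous (Curv2.galAct k X (SeparableClosure k) σ⁻¹).continuous, Set.image_singleton,
      show Curv2.galAct k X (SeparableClosure k) σ⁻¹ ξ' = ξ'' from hσ]
  · rintro ⟨σ, rfl⟩
    rw [← Set.image_comp]
    exact Set.image_congr fun z _ => (hfst σ z).symm

end Groth.Agent.S7598
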