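import Groth.Statements.S7601
import Mathlib
import Groth.Agent.H22Alg.NormalProd

set_option autoImplicit false
universe u
open CategoryTheory CategoryTheory.Limits AlgebraicGeometry
open Variety

namespace Groth.Agent.S7601

/-- Let X be a geometrically normal scheme over a field k (X_K is a normal scheme for every extension
field K of k) and Y a normal scheme over k. Then X ×_k Y is a normal scheme. -/
theorem result (k : Type u) [Field k] (X : Scheme.{u}) [X.Over (Spec (CommRingCat.of k))] (Y : Scheme.{u}) [Y.Over (Spec (CommRingCat.of k))]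
    (hX : ∀ (K : Type u) [Field K] [Algebra k K], Pi1.IsNormalScheme (Curv2.bc k X K)) (hY : Pi1.IsNormalScheme Y) :
    Pi1.IsNormalScheme (pullback (X ↘ (Spec (CommRingCat.of k))) (Y ↘ (Spec (CommRingCat.of k)))) := by
  refine Groth.Agent.H22Alg.NormalProd.isNormalScheme_pullback _ _ ?_
  intro U hU V hV _ _ hf hg
  exact Groth.Agent.H05EGA4.isNormalRing_tensor_of_isGeomNormal_general
    (Groth.Agent.H22Alg.NormalProd.isGeomNormal_of_forall_bc X hX hU hf) _
    (Groth.Agent.H28Neron.isNormalRing_sections hY hV)

end Groth.Agent.S7601
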