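import Groth.Statements.S7603
import Mathlib
import Groth.Agent.H21Taylor.GeomInt

set_option autoImplicit false
universe u
open CategoryTheory CategoryTheory.Limits AlgebraicGeometry
open Variety

namespace Groth.Agent.S7603

/-- (2) ⇔ (3): let X be a proper scheme over a field k which is geometrically normal (X_K is a normal
scheme for every extension field K of k). Then X is geometrically connected over k exactly when it
is geometrically irreducible over k. (The published statement lists geometric integrality as a
further equivalent condition; given geometric normality it is equivalent to geometric irreducibility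
by a direct argument, so this row omits it.) -/
theorem result (k : Type u) [Field k] (X : Scheme.{u}) [X.Over (Spec (CommRingCat.of k))] [IsProper (X ↘ (Spec (CommRingCat.of k)))]
    (hX : ∀ (K : Type u) [Field K] [Algebra k K], Pi1.IsNormalScheme (Curv2.bc k X K)) :
    GeometricallyConnected (X ↘ (Spec (CommRingCat.of k))) ↔ GeometricallyIrreducible (X ↘ (Spec (CommRingCat.of k))) := by
  constructor
  · intro hc
    refine ⟨geometrically_iff_of_isClosedUnderIsomorphisms.mpr fun K _ y => ?_⟩
    obtain ⟨ψ, rfl⟩ := Spec.map_surjective y
    letI : Algebra k K := ψ.hom.toAlgebra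
    have hψ : ψ = CommRingCat.ofHom (algebraMap k K) := rfl
    rw [hψ]
    show IrreducibleSpace ↥(Curv2.bc k X K)
    haveI : LocallyOfFiniteType (Curv2.bcSnd k X K) := MorphismProperty.pullback_snd _ _ inferInstance
    haveI : IsLocallyNoetherian (Curv2.bc k X K) := LocallyOfFiniteType.isLocallyNoetherian (Curv2.bcSnd k X K)
    haveI : ConnectedSpace ↥(Curv2.bc k X K) :=
      hc.geometrically_connectedSpace _ _ _ (IsPullback.of_hasPullback _ _)
    exact Groth.Agent.H21Taylor.irreducibleSpace_of_connected_of_domain_stalks _ fun t => (hX K t).1
  · intro hi
    refine ⟨fun K _ y Z fst snd hpb => ?_⟩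
    haveI : IrreducibleSpace Z := hi.geometrically_irreducibleSpace y fst snd hpb
    infer_instance

end Groth.Agent.S7603
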