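import Groth.Statements.S7605
import Mathlib
import Groth.Agent.H25Gor.BaseChange
import Groth.Agent.H06Desc.Noetherian

set_option autoImplicit false
universe u
open CategoryTheory CategoryTheory.Limits AlgebraicGeometry
open Variety

namespace Groth.Agent.S7605

/-- For a scheme X over a field k and a finitely generated field extension k' of k, local Noetherianity
of X is equivalent to local Noetherianity of its base change X_{k'}. -/
theorem result (k : Type u) [Field k] (X : Scheme.{u}) [X.Over (Spec (CommRingCat.of k))] (k' : Type u) [Field k'] [Algebra k k']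
    (hfg : (⊤ : IntermediateField k k').FG) :
    IsLocallyNoetherian X ↔ IsLocallyNoetherian (Curv2.bc k X k') := by
  haveI : Algebra.EssFiniteType k k' := IntermediateField.fg_top_iff.1 hfg
  have H := IsPullback.of_hasPullback (X ↘ (Spec (CommRingCat.of k))) (Spec.map (CommRingCat.ofHom (algebraMap k k')))
  refine ⟨fun h => H25Gor.isLocallyNoetherian_of_essFiniteType H, fun h => ?_⟩
  haveI : Flat (Spec.map (CommRingCat.ofHom (algebraMap k k'))) :=
    (HasRingHomProperty.Spec_iff (P := @Flat)).mpr (RingHom.flat_algebraMap_iff.mpr inferInstance)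
  haveI : Surjective (Spec.map (CommRingCat.ofHom (algebraMap k k'))) :=
    ⟨fun x => ⟨IsLocalRing.closedPoint k', Subsingleton.elim (α := PrimeSpectrum k) _ _⟩⟩
  haveI : Flat (Curv2.bcFst k X k') := MorphismProperty.of_isPullback H.flip ‹_›
  haveI : Surjective (Curv2.bcFst k X k') := MorphismProperty.of_isPullback H.flip ‹Surjective (Spec.map _)›
  haveI : QuasiCompact (Curv2.bcFst k X k') := MorphismProperty.of_isPullback H.flip
    (inferInstanceAs (QuasiCompact (Spec.map (CommRingCat.ofHom (algebraMap k k')))))
  exact H06Desc.isLocallyNoetherian_of_flat_surjective_quasiCompact (Curv2.bcFst k X k')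

end Groth.Agent.S7605
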