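import Groth.Statements.S7607
import Groth.Agent.H05EGA4.Regular
import Groth.Agent.H06Desc.Noetherian
-- import your own Groth.Agent.* helpers here

set_option autoImplicit false
universe u
open CategoryTheory CategoryTheory.Limits AlgebraicGeometry
open Variety

namespace Groth.Agent.S7607

open scoped TensorProduct in
theorem fg_residueField_tensor (k k' K : Type u) [Field k] [Field k'] [Field K] [Algebra k k'] [Algebra k K]
    (hK : (⊤ : IntermediateField k K).FG) (P : Ideal (k' ⊗[k] K)) [P.IsPrime] :
    (⊤ : IntermediateField k' P.ResidueField).FG := by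
  classical
  obtain ⟨S, hS⟩ := hK
  let φ : K →ₐ[k] P.ResidueField :=
    (IsScalarTower.toAlgHom k (k' ⊗[k] K) P.ResidueField).comp Algebra.TensorProduct.includeRight
  refine ⟨S.image φ, ?_⟩
  rw [Finset.coe_image, eq_top_iff]
  set F := IntermediateField.adjoin k' (φ '' (S : Set K)) with hF
  have hφ : ∀ a : K, φ a ∈ F := by
    have : IntermediateField.adjoin k (S : Set K) ≤ (F.restrictScalars k).comap φ := by
      rw [IntermediateField.adjoin_le_iff]
      intro a ha
      exact IntermediateField.subset_adjoin k' _ ⟨a, ha, rfl⟩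
    intro a
    exact this (hS ▸ IntermediateField.mem_top)
  have hT : ∀ z : k' ⊗[k] K, algebraMap (k' ⊗[k] K) P.ResidueField z ∈ F := by
    intro z
    induction z using TensorProduct.induction_on with
    | zero => simp
    | tmul c a =>
      have : c ⊗ₜ[k] a = algebraMap k' (k' ⊗[k] K) c * (1 : k') ⊗ₜ[k] a := by
        simp [Algebra.TensorProduct.algebraMap_apply]
      rw [this, map_mul, ← IsScalarTower.algebraMap_apply]
      exact F.mul_mem (F.algebraMap_mem c) (hφ a)
    | add x y hx hy => rw [map_add]; exact F.add_mem hx hy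
  intro x _
  obtain ⟨a, b, -, rfl⟩ := IsFractionRing.div_surjective (A := (k' ⊗[k] K) ⧸ P) x
  obtain ⟨a, rfl⟩ := Ideal.Quotient.mk_surjective a
  obtain ⟨b, rfl⟩ := Ideal.Quotient.mk_surjective b
  have h2 : ∀ z, algebraMap ((k' ⊗[k] K) ⧸ P) P.ResidueField (Ideal.Quotient.mk P z) =
      algebraMap (k' ⊗[k] K) P.ResidueField z := fun z =>
    (IsScalarTower.algebraMap_apply (k' ⊗[k] K) ((k' ⊗[k] K) ⧸ P) P.ResidueField z).symm
  rw [h2, h2]
  exact F.div_mem (hT a) (hT b)

theorem exists_bc_tower_iso (k : Type u) [Field k] (X : Scheme.{u}) [X.Over (Spec (CommRingCat.of k))]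
    (K L : Type u) [Field K] [Field L] [Algebra k K] [Algebra K L] [Algebra k L] [IsScalarTower k K L] :
    letI : (Curv2.bc k X K).Over (Spec (CommRingCat.of K)) := ⟨Curv2.bcSnd k X K⟩
    ∃ e : Curv2.bc K (Curv2.bc k X K) L ≅ Curv2.bc k X L,
      e.hom ≫ Curv2.bcFst k X L = Curv2.bcFst K (Curv2.bc k X K) L ≫ Curv2.bcFst k X K ∧
      e.hom ≫ Curv2.bcSnd k X L = Curv2.bcSnd K (Curv2.bc k X K) L := by
  have h : Spec.map (CommRingCat.ofHom (algebraMap K L)) ≫ Spec.map (CommRingCat.ofHom (algebraMap k K)) =
      Spec.map (CommRingCat.ofHom (algebraMap k L)) := by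
    rw [← Spec.map_comp, ← CommRingCat.ofHom_comp, ← IsScalarTower.algebraMap_eq]
  refine ⟨pullbackLeftPullbackSndIso _ _ _ ≪≫ pullback.congrHom rfl h, ?_, ?_⟩
  · show (pullbackLeftPullbackSndIso _ _ _ ≪≫ pullback.congrHom rfl h).hom ≫ pullback.fst _ _ = _
    simp only [Iso.trans_hom, Category.assoc, pullback.congrHom_hom, pullback.lift_fst, pullback.lift_snd, pullback.map, Category.comp_id]
    first
      | exact pullbackLeftPullbackSndIso_hom_fst _ _ _
      | exact pullbackLeftPullbackSndIso_hom_snd _ _ _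
  · show (pullbackLeftPullbackSndIso _ _ _ ≪≫ pullback.congrHom rfl h).hom ≫ pullback.snd _ _ = _
    simp only [Iso.trans_hom, Category.assoc, pullback.congrHom_hom, pullback.lift_fst, pullback.lift_snd, pullback.map, Category.comp_id]
    first
      | exact pullbackLeftPullbackSndIso_hom_fst _ _ _
      | exact pullbackLeftPullbackSndIso_hom_snd _ _ _

theorem regular_descend {A B : Scheme.{u}} (g : A ⟶ B) [Flat g] (a : A) [IsRegularLocalRing (A.presheaf.stalk a)] :
    IsRegularLocalRing (B.presheaf.stalk (g a)) := by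
  letI := (g.stalkMap a).hom.toAlgebra
  haveI : IsLocalHom (algebraMap (B.presheaf.stalk (g a)) (A.presheaf.stalk a)) :=
    inferInstanceAs (IsLocalHom (g.stalkMap a).hom)
  haveI : Module.Flat (B.presheaf.stalk (g a)) (A.presheaf.stalk a) := Flat.stalkMap g a
  haveI := Module.FaithfullyFlat.of_flat_of_isLocalHom (A := B.presheaf.stalk (g a)) (B := A.presheaf.stalk a)
  haveI : IsNoetherianRing (B.presheaf.stalk (g a)) :=
    Groth.Agent.H06Desc.isNoetherianRing_of_faithfullyFlat (A := B.presheaf.stalk (g a)) (B := A.presheaf.stalk a)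
  exact Groth.Agent.H05EGA4.isRegularLocalRing_of_flat (A := B.presheaf.stalk (g a)) (B := A.presheaf.stalk a)

set_option maxHeartbeats 1000000 in
open scoped TensorProduct in
/-- (2) ⇒ (1): let X be a scheme over a field k, k' a finitely generated field extension of k and x' a
point of X_{k'} with image x in X. If X_{k'} is geometrically regular at x' over k', then X is
geometrically regular at x over k. (The published setting defines geometric regularity only for
locally Noetherian schemes; this row allows any scheme X over k.) -/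
theorem result (k : Type u) [Field k] (X : Scheme.{u}) [X.Over (Spec (CommRingCat.of k))] (k' : Type u) [Field k'] [Algebra k k'] (hfg : (⊤ : IntermediateField k k').FG)
    (x' : ↥(Curv2.bc k X k'))
    (h : @Curv2.IsGeomRegularAt k' _ (Curv2.bc k X k') ⟨Curv2.bcSnd k X k'⟩ x') :
    Curv2.IsGeomRegularAt k X (Curv2.bcFst k X k' x') := by
  intro K _ _ hK x'' hx''
  let s' := Spec.map (CommRingCat.ofHom (algebraMap k k'))
  let s'' := Spec.map (CommRingCat.ofHom (algebraMap k K))
  obtain ⟨y, hy1, hy2⟩ := Scheme.Pullback.exists_preimage_pullback (f := Curv2.bcFst k X k') (g := Curv2.bcFst k X K)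
    x' x'' hx''.symm
  let q : pullback (Curv2.bcFst k X k') (Curv2.bcFst k X K) ⟶ pullback s' s'' :=
    pullback.lift (pullback.fst _ _ ≫ Curv2.bcSnd k X k') (pullback.snd _ _ ≫ Curv2.bcSnd k X K)
      (by simp only [s', s'', Curv2.bcSnd, Category.assoc, ← pullback.condition]
          rw [pullback.condition_assoc])
  let t : PrimeSpectrum (k' ⊗[k] K) := (pullbackSpecIso k k' K).hom (q y)
  haveI : t.asIdeal.IsPrime := t.isPrime
  let j : Spec (CommRingCat.of t.asIdeal.ResidueField) ⟶ pullback s' s'' :=
    Spec.map (CommRingCat.ofHom (algebraMap (k' ⊗[k] K) t.asIdeal.ResidueField)) ≫ (pullbackSpecIso k k' K).inv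
  let o : Spec (CommRingCat.of t.asIdeal.ResidueField) := (⊥ : PrimeSpectrum t.asIdeal.ResidueField)
  have ho : j o = q y := by
    have h1 : Spec.map (CommRingCat.ofHom (algebraMap (k' ⊗[k] K) t.asIdeal.ResidueField)) o = (show ↥(Spec (CommRingCat.of (k' ⊗[k] K))) from t) := by
      apply PrimeSpectrum.ext
      exact Ideal.ker_algebraMap_residueField t.asIdeal
    show (pullbackSpecIso k k' K).inv (Spec.map _ o) = q y
    rw [h1]
    show ((pullbackSpecIso k k' K).hom ≫ (pullbackSpecIso k k' K).inv) (q y) = q y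
    rw [Iso.hom_inv_id]
    rfl
  obtain ⟨w, hw1, hw2⟩ := Scheme.Pullback.exists_preimage_pullback (f := q) (g := j) y o ho.symm
  letI : Algebra K t.asIdeal.ResidueField := ((algebraMap (k' ⊗[k] K) t.asIdeal.ResidueField).comp
    (Algebra.TensorProduct.includeRight : K →ₐ[k] k' ⊗[k] K).toRingHom).toAlgebra
  haveI : IsScalarTower k K t.asIdeal.ResidueField := IsScalarTower.of_algebraMap_eq fun c => by
    show _ = algebraMap (k' ⊗[k] K) t.asIdeal.ResidueField (Algebra.TensorProduct.includeRight (algebraMap k K c))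
    rw [AlgHom.commutes, ← IsScalarTower.algebraMap_apply]
  have hj1 : j ≫ pullback.fst s' s'' = Spec.map (CommRingCat.ofHom (algebraMap k' t.asIdeal.ResidueField)) := by
    simp only [j, Category.assoc]
    erw [pullbackSpecIso_inv_fst]
    rw [← Spec.map_comp]
    rfl
  have hj2 : j ≫ pullback.snd s' s'' = Spec.map (CommRingCat.ofHom (algebraMap K t.asIdeal.ResidueField)) := by
    simp only [j, Category.assoc]
    erw [pullbackSpecIso_inv_snd]
    rw [← Spec.map_comp]
    rfl
  letI : (Curv2.bc k X k').Over (Spec (CommRingCat.of k')) := ⟨Curv2.bcSnd k X k'⟩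
  letI : (Curv2.bc k X K).Over (Spec (CommRingCat.of K)) := ⟨Curv2.bcSnd k X K⟩
  let u : pullback q j ⟶ Curv2.bc k X t.asIdeal.ResidueField :=
    pullback.lift (pullback.fst _ _ ≫ pullback.fst _ _ ≫ Curv2.bcFst k X k') (pullback.snd _ _) (by
      rw [IsScalarTower.algebraMap_eq k k' t.asIdeal.ResidueField, CommRingCat.ofHom_comp, Spec.map_comp, ← hj1]
      simp only [Category.assoc]
      rw [← pullback.condition_assoc]
      simp only [q, pullback.lift_fst_assoc, Category.assoc]
      exact congrArg (fun m => pullback.fst q j ≫ pullback.fst _ _ ≫ m) pullback.condition)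
  let u1 : pullback q j ⟶ Curv2.bc k' (Curv2.bc k X k') t.asIdeal.ResidueField :=
    pullback.lift (pullback.fst _ _ ≫ pullback.fst _ _) (pullback.snd _ _) (by
      show _ ≫ Curv2.bcSnd k X k' = _
      rw [← hj1, ← pullback.condition_assoc]
      simp only [q, pullback.lift_fst, Category.assoc])
  let u2 : pullback q j ⟶ Curv2.bc K (Curv2.bc k X K) t.asIdeal.ResidueField :=
    pullback.lift (pullback.fst _ _ ≫ pullback.snd _ _) (pullback.snd _ _) (by
      show _ ≫ Curv2.bcSnd k X K = _
      rw [← hj2, ← pullback.condition_assoc]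
      simp only [q, pullback.lift_snd, Category.assoc])
  obtain ⟨e1, he1, he1'⟩ := exists_bc_tower_iso k X k' t.asIdeal.ResidueField
  obtain ⟨e2, he2, he2'⟩ := exists_bc_tower_iso k X K t.asIdeal.ResidueField
  have hu : u1 ≫ e1.hom ≫ e2.inv = u2 := by
    rw [← cancel_mono e2.hom]
    simp only [Category.assoc, Iso.inv_hom_id, Category.comp_id]
    apply pullback.hom_ext
    · simp only [Category.assoc]
      erw [he1, he2]
      simp only [u1, u2, pullback.lift_fst_assoc, Category.assoc]
      erw [pullback.lift_fst_assoc, pullback.lift_fst_assoc]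
      simp only [Category.assoc]
      rw [pullback.condition]
    · simp only [Category.assoc]
      erw [he1', he2', pullback.lift_snd, pullback.lift_snd]
  haveI := h t.asIdeal.ResidueField (fg_residueField_tensor k k' K hK t.asIdeal) (u1 w) (by
    show (u1 ≫ pullback.fst _ _) w = x'
    erw [pullback.lift_fst]
    show pullback.fst (Curv2.bcFst k X k') (Curv2.bcFst k X K) (pullback.fst q j w) = x'
    rw [hw1, hy1])
  haveI : Flat (Spec.map (CommRingCat.ofHom (algebraMap K t.asIdeal.ResidueField))) := by
    rw [Flat.SpecMap_iff]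
    exact RingHom.flat_algebraMap_iff.mpr inferInstance
  haveI : Flat (Curv2.bcFst K (Curv2.bc k X K) t.asIdeal.ResidueField) :=
    MorphismProperty.of_isPullback (P := @Flat) (IsPullback.of_hasPullback _ _).flip inferInstance
  have := regular_descend (e1.hom ≫ e2.inv ≫ Curv2.bcFst K (Curv2.bc k X K) t.asIdeal.ResidueField) (u1 w)
  have hfin : (e1.hom ≫ e2.inv ≫ Curv2.bcFst K (Curv2.bc k X K) t.asIdeal.ResidueField) (u1 w) = x'' := by
    show (u1 ≫ e1.hom ≫ e2.inv ≫ Curv2.bcFst K (Curv2.bc k X K) t.asIdeal.ResidueField) w = x''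
    rw [reassoc_of% hu]
    erw [pullback.lift_fst]
    show pullback.snd (Curv2.bcFst k X k') (Curv2.bcFst k X K) (pullback.fst q j w) = x''
    rw [hw1, hy2]
  rwa [hfin] at this


end Groth.Agent.S7607
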