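import Groth.Statements.S7610
import Mathlib
import Groth.Agent.H8Props.FieldDimFormula

set_option autoImplicit false
universe u
open CategoryTheory CategoryTheory.Limits AlgebraicGeometry
open Variety

namespace Groth.Agent.S7610

/-- Let X and Y be schemes locally of finite type over a field k and z a point of X ×_k Y lying over x
in X and y in Y. Then dim_z(X ×_k Y) = dim_x X + dim_y Y (local dimensions of the underlying
topological spaces, in WithBot ℕ∞). -/
theorem result (k : Type u) [Field k] (X : Scheme.{u}) [X.Over (Spec (CommRingCat.of k))] [LocallyOfFiniteType (X ↘ (Spec (CommRingCat.of k)))]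
    (Y : Scheme.{u}) [Y.Over (Spec (CommRingCat.of k))] [LocallyOfFiniteType (Y ↘ (Spec (CommRingCat.of k)))]
    (z : ↥(pullback (X ↘ (Spec (CommRingCat.of k))) (Y ↘ (Spec (CommRingCat.of k))))) :
    FlatMor.localDim ↥(pullback (X ↘ (Spec (CommRingCat.of k))) (Y ↘ (Spec (CommRingCat.of k)))) z =
      FlatMor.localDim ↥X (pullback.fst (X ↘ (Spec (CommRingCat.of k))) (Y ↘ (Spec (CommRingCat.of k))) z) +
        FlatMor.localDim ↥Y (pullback.snd (X ↘ (Spec (CommRingCat.of k))) (Y ↘ (Spec (CommRingCat.of k))) z) := by
  let qX := X ↘ (Spec (CommRingCat.of k))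
  let qY := Y ↘ (Spec (CommRingCat.of k))
  let p := pullback.fst qX qY
  haveI : Flat qY := inferInstance
  haveI : Flat p := MorphismProperty.pullback_fst qX qY inferInstance
  haveI : LocallyOfFiniteType p := MorphismProperty.pullback_fst qX qY inferInstance
  rw [(Groth.Agent.H8Props.FieldDim.localDim_le_fibreDimAt_add (p ≫ qX) qX p rfl z).2
    (Flat.stalkMap p z), add_comm]
  congr 1
  let x := p z
  let φ : CommRingCat.of k ⟶ X.residueField x := Spec.preimage (X.fromSpecResidueField x ≫ qX)
  letI : Algebra k (X.residueField x) := φ.hom.toAlgebra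
  have hφ : Spec.map φ = X.fromSpecResidueField x ≫ qX :=
    Spec.map_preimage _
  have hc : IsPullback (p.fiberι x ≫ pullback.snd qX qY) (p.fiberToSpecResidueField x) qY
      (Spec.map φ) := by
    rw [hφ]
    exact (IsPullback.of_hasPullback p (X.fromSpecResidueField x)).paste_horiz
      (IsPullback.of_hasPullback qX qY).flip
  rw [FlatMor.fibreDimAt, Groth.Agent.H8Props.FieldDim.localDim_baseChange (K := (X.residueField x : Type u)) qY _ _ hc]
  congr 1
  show pullback.snd qX qY (p.fiberι (p z) (p.asFiber z)) = _
  rw [Scheme.Hom.fiberι_asFiber]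

end Groth.Agent.S7610
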