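import Groth.Statements.S7611
import Groth.Agent.H22Alg.VarDim
import Mathlib.RingTheory.Algebraic.LinearIndependent
import Mathlib.LinearAlgebra.TensorProduct.Basis

set_option autoImplicit false
universe u
open CategoryTheory CategoryTheory.Limits AlgebraicGeometry
attribute [local instance] Curv2.resAlgebra
open Variety

namespace Groth.Agent.S7611

open Cardinal in
theorem isAlgebraic_of_rank_lt {K L : Type u} [Field K] [Field L] [Algebra K L] (h : Module.rank K L < #K) :
    Algebra.IsAlgebraic K L :=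
  ⟨fun t => by
    by_contra ht
    exact absurd (LinearIndependent.cardinal_le_rank (Transcendental.linearIndependent_sub_inv ht)) (not_le.2 h)⟩

open Cardinal in
theorem isJacobsonRing_of_rank_lt {K B : Type u} [Field K] [CommRing B] [Algebra K B] (hK : ℵ₀ < #K)
    (h : Module.rank K B < #K) : IsJacobsonRing B := by
  rw [isJacobsonRing_iff_prime_eq]
  intro P hP
  refine le_antisymm (fun f hf => ?_) Ideal.le_jacobson
  by_contra hfP
  let g := Ideal.Quotient.mk P f
  have hg : g ≠ 0 := fun h0 => hfP (Ideal.Quotient.eq_zero_iff_mem.mp h0)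
  haveI : Nontrivial (Localization.Away g) :=
    (IsLocalization.injective (Localization.Away g) (powers_le_nonZeroDivisors_of_noZeroDivisors hg)).nontrivial
  obtain ⟨M, hM⟩ := Ideal.exists_maximal (Localization.Away g)
  letI := Ideal.Quotient.field M
  let φ : B →ₐ[K] Localization.Away g ⧸ M :=
    (Ideal.Quotient.mkₐ K M).comp ((IsScalarTower.toAlgHom K (B ⧸ P) (Localization.Away g)).comp (Ideal.Quotient.mkₐ K P))
  have hφf : IsUnit (φ f) :=
    (IsLocalization.Away.algebraMap_isUnit (S := Localization.Away g) g).map (Ideal.Quotient.mk M)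
  obtain ⟨⟨ι, b⟩⟩ := Module.Free.exists_basis (R := K) (M := B)
  have hι : #ι < #K := b.mk_eq_rank''.trans_lt h
  let v : ι × ULift.{u} ℕ → Localization.Away g ⧸ M := fun p => φ (b p.1) * ((φ f)⁻¹) ^ p.2.down
  have hv : Submodule.span K (Set.range v) = ⊤ := by
    rw [eq_top_iff]
    intro z _
    obtain ⟨y, rfl⟩ := Ideal.Quotient.mk_surjective z
    obtain ⟨⟨a, ⟨s, n, rfl⟩⟩, hy⟩ := IsLocalization.surj (Submonoid.powers g) y
    obtain ⟨a, rfl⟩ := Ideal.Quotient.mk_surjective a
    have h1 : Ideal.Quotient.mk M y * φ f ^ n = φ a := by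
      have := congrArg (Ideal.Quotient.mk M) hy
      simp only [map_mul, map_pow] at this
      exact this
    have h2 : Ideal.Quotient.mk M y = φ a * (φ f)⁻¹ ^ n := by
      rw [← h1, inv_pow, mul_assoc, mul_inv_cancel₀ (pow_ne_zero _ hφf.ne_zero), mul_one]
    rw [h2, ← b.linearCombination_repr a, Finsupp.linearCombination_apply, Finsupp.sum, map_sum, Finset.sum_mul]
    refine Submodule.sum_mem _ fun j _ => ?_
    rw [map_smul, smul_mul_assoc]
    exact Submodule.smul_mem _ _ (Submodule.subset_span ⟨(j, ⟨n⟩), rfl⟩)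
  haveI : Algebra.IsAlgebraic K (Localization.Away g ⧸ M) := by
    refine isAlgebraic_of_rank_lt ?_
    rw [← rank_top, ← hv]
    refine ((rank_span_le _).trans mk_range_le).trans_lt ?_
    rw [mk_prod, lift_id, lift_id, show #(ULift.{u} ℕ) = ℵ₀ by simp]
    exact mul_lt_of_lt hK.le hι hK
  have hmax : (RingHom.ker φ).IsMaximal :=
    Ideal.Quotient.maximal_of_isField _
      ((Ideal.quotientKerEquivRange φ).toMulEquiv.isField
        (Subalgebra.isField_of_algebraic φ.range))
  have hP' : P ≤ RingHom.ker φ := fun x hx => by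
    show φ x = 0
    simp [φ, Ideal.Quotient.eq_zero_iff_mem.mpr hx]
  have := Ideal.mem_sInf.mp hf ⟨hP', hmax⟩
  exact hφf.ne_zero this

variable (k : Type u) [Field k] (X : Scheme.{u}) [X.Over (Spec (CommRingCat.of k))]
    (K : Type u) [Field K] [Algebra k K]

open scoped TensorProduct in
theorem exists_chart (U : X.Opens) (hU : IsAffineOpen U) :
    ∃ (B : Type u) (_ : CommRing B) (_ : Algebra K B) (i : Spec (CommRingCat.of B) ⟶ Curv2.bc k X K),
      Module.rank K B ≤ Cardinal.mk Γ(X, U) ∧ IsOpenImmersion i ∧ Set.range i = Curv2.bcFst k X K ⁻¹' (U : Set X) ∧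
      i ≫ Curv2.bcSnd k X K = Spec.map (CommRingCat.ofHom (algebraMap K B)) := by
  let f := hU.fromSpec ≫ X ↘ Spec (CommRingCat.of k)
  letI : Algebra k Γ(X, U) := (Spec.preimage f).hom.toAlgebra
  have hf : Spec.map (CommRingCat.ofHom (algebraMap k Γ(X, U))) = f := Spec.map_preimage f
  let s := Spec.map (CommRingCat.ofHom (algebraMap k K))
  let m : pullback f s ⟶ Curv2.bc k X K :=
    pullback.lift (pullback.fst f s ≫ hU.fromSpec) (pullback.snd f s) (by rw [Category.assoc]; exact pullback.condition)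
  have hm : IsPullback m (pullback.fst f s) (Curv2.bcFst k X K) hU.fromSpec := by
    refine IsPullback.of_right ?_ (pullback.lift_fst _ _ _) (IsPullback.of_hasPullback (X ↘ Spec (CommRingCat.of k)) s).flip
    have : m ≫ pullback.snd (X ↘ Spec (CommRingCat.of k)) s = pullback.snd f s := pullback.lift_snd _ _ _
    rw [this]
    exact (IsPullback.of_hasPullback f s).flip
  let e : Spec (CommRingCat.of (K ⊗[k] Γ(X, U))) ≅ pullback f s :=
    (pullbackSpecIso k K Γ(X, U)).symm ≪≫ pullbackSymmetry _ _ ≪≫ pullback.congrHom hf rfl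
  refine ⟨K ⊗[k] Γ(X, U), inferInstance, inferInstance, e.hom ≫ m, ?_, ?_, ?_, ?_⟩
  · rw [Module.rank_baseChange, Cardinal.lift_id]
    exact rank_le_card k Γ(X, U)
  · haveI : IsOpenImmersion m := MorphismProperty.of_isPullback hm.flip inferInstance
    infer_instance
  · rw [Scheme.Hom.comp_base, TopCat.coe_comp, Set.range_comp, Set.range_eq_univ.mpr e.hom.surjective, Set.image_univ]
    rw [← hm.flip.flip.flip.isoPullback_hom_snd, Scheme.Hom.comp_base, TopCat.coe_comp, Set.range_comp, Set.range_eq_univ.mpr hm.flip.isoPullback.hom.surjective, Set.image_univ]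
    exact (Scheme.Pullback.range_snd _ _).trans (congrArg _ hU.range_fromSpec)
  · have h1 : e.hom ≫ pullback.snd f s = Spec.map (CommRingCat.ofHom (algebraMap K (K ⊗[k] Γ(X, U)))) := by
      simp only [e, Iso.trans_hom, Iso.symm_hom, Category.assoc, pullback.congrHom_hom, pullback.map, pullback.lift_snd, Category.comp_id]
      rw [pullback.lift_snd, pullbackSymmetry_hom_comp_snd]
      exact pullbackSpecIso_inv_fst k K Γ(X, U)
    rw [Category.assoc]
    erw [pullback.lift_snd]
    exact h1

set_option maxHeartbeats 800000 in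
theorem isAlgebraic_residueField {B : Type u} [CommRing B] [Algebra K B] (hB : Module.rank K B < Cardinal.mk K)
    (Y : Scheme.{u}) [Y.Over (Spec (CommRingCat.of K))] (i : Spec (CommRingCat.of B) ⟶ Y) [IsOpenImmersion i]
    (hi : i ≫ (Y ↘ Spec (CommRingCat.of K)) = Spec.map (CommRingCat.ofHom (algebraMap K B)))
    (p : ↥(Spec (CommRingCat.of B))) (hp : IsClosed ({p} : Set ↥(Spec (CommRingCat.of B)))) :
    Algebra.IsAlgebraic K (Y.residueField (i p)) := by
  haveI : p.asIdeal.IsPrime := p.isPrime
  let ψ : CommRingCat.of B ⟶ Y.residueField (i p) :=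
    CommRingCat.ofHom (algebraMap B p.asIdeal.ResidueField) ≫ (Scheme.Spec.residueFieldIso (CommRingCat.of B) p).inv ≫
      inv (i.residueFieldMap p)
  have h0 : Spec.map ψ ≫ i = Y.fromSpecResidueField (i p) := by
    have e1 := Scheme.Spec.map_residueFieldIso_inv_eq_fromSpecResidueField (CommRingCat.of B) p
    rw [Spec.map_comp, Spec.map_comp, Category.assoc, Category.assoc]
    refine (congrArg (Spec.map (inv (i.residueFieldMap p)) ≫ ·)
      (((Category.assoc _ _ i).symm).trans (congrArg (fun m => m ≫ i) e1))).trans ?_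
    rw [← Scheme.Hom.SpecMap_residueFieldMap_fromSpecResidueField i p, ← Spec.map_comp_assoc, IsIso.hom_inv_id,
      Spec.map_id, Category.id_comp]
  have h1 : CommRingCat.ofHom (algebraMap K B) ≫ ψ = CommRingCat.ofHom (Curv2.resMap K Y (i p)) := by
    apply Spec.map_injective
    rw [Spec.map_comp, ← hi, reassoc_of% h0]
    exact Groth.Agent.H22Alg.VarDim.fromSpecResidueField_over K Y (i p)
  let φ : B →ₐ[K] Y.residueField (i p) :=
    { ψ.hom with commutes' := fun c => DFunLike.congr_fun (congrArg CommRingCat.Hom.hom h1) c }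
  have hφ : Function.Surjective φ := by
    haveI : p.asIdeal.IsMaximal := (PrimeSpectrum.isClosed_singleton_iff_isMaximal p).mp hp
    intro z
    obtain ⟨y, hy⟩ := (ConcreteCategory.bijective_of_isIso
      ((Scheme.Spec.residueFieldIso (CommRingCat.of B) p).inv ≫ inv (i.residueFieldMap p))).2 z
    obtain ⟨b, hb⟩ := Ideal.algebraMap_residueField_surjective p.asIdeal y
    exact ⟨b, (congrArg _ hb).trans hy⟩
  exact isAlgebraic_of_rank_lt ((φ.toLinearMap.rank_le_of_surjective hφ).trans_lt hB)

/-- Let X be a scheme over a field k. There is a cardinal κ such that for every extension field K of k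
of cardinality at least κ, the base change X_K is a Jacobson scheme and for every closed point x of
X_K the residue field κ(x) is algebraic over K. -/
theorem result (k : Type u) [Field k] (X : Scheme.{u}) [X.Over (Spec (CommRingCat.of k))] :
    ∃ κ : Cardinal.{u}, ∀ (K : Type u) [Field K] [Algebra k K], κ ≤ Cardinal.mk K →
      JacobsonSpace ↥(Curv2.bc k X K) ∧
        ∀ x : ↥(Curv2.bc k X K), IsClosed ({x} : Set ↥(Curv2.bc k X K)) →
          letI : (Curv2.bc k X K).Over (Spec (CommRingCat.of K)) := ⟨Curv2.bcSnd k X K⟩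
          Algebra.IsAlgebraic K ((Curv2.bc k X K).residueField x) := by
  refine ⟨Order.succ (Cardinal.sum (fun U : X.affineOpens => Cardinal.mk Γ(X, U.1)) + Cardinal.aleph0),
    fun K _ _ hK => ?_⟩
  have hK0 := Order.succ_le_iff.mp hK
  have hU : ∀ U : X.affineOpens, Cardinal.mk Γ(X, U.1) < Cardinal.mk K := fun U =>
    ((Cardinal.le_sum _ U).trans le_self_add).trans_lt hK0
  have hω : Cardinal.aleph0 < Cardinal.mk K := le_add_self.trans_lt hK0
  constructor
  · refine (TopologicalSpace.IsOpenCover.jacobsonSpace_iff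
      (U := fun U : X.affineOpens => Curv2.bcFst k X K ⁻¹ᵁ U.1) ?_).mpr fun U => ?_
    · rw [TopologicalSpace.IsOpenCover, eq_top_iff]
      intro x _
      obtain ⟨U, hU, hxU, -⟩ := exists_isAffineOpen_mem_and_subset (x := Curv2.bcFst k X K x) (U := ⊤) trivial
      exact TopologicalSpace.Opens.mem_iSup.mpr ⟨⟨U, hU⟩, hxU⟩
    · obtain ⟨B, _, _, i, hr, _, hi, -⟩ := exists_chart k X K U.1 U.2
      haveI := isJacobsonRing_of_rank_lt hω (hr.trans_lt (hU U))
      haveI : JacobsonSpace (PrimeSpectrum B) := PrimeSpectrum.isJacobsonRing_iff_jacobsonSpace.mp inferInstance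
      exact JacobsonSpace.of_isOpenEmbedding
        (f := fun z : ↥(Curv2.bcFst k X K ⁻¹ᵁ U.1) => (i.isOpenEmbedding.isEmbedding.toHomeomorph.symm ⟨z.1, hi ▸ z.2⟩))
        ((Homeomorph.setCongr hi.symm).trans i.isOpenEmbedding.isEmbedding.toHomeomorph.symm).isOpenEmbedding
  · intro x hx
    obtain ⟨U, hUa, hxU, -⟩ := exists_isAffineOpen_mem_and_subset (x := Curv2.bcFst k X K x) (U := ⊤) trivial
    obtain ⟨B, _, _, i, hr, _, hi, hi'⟩ := exists_chart k X K U hUa
    obtain ⟨p, rfl⟩ : x ∈ Set.range i := hi ▸ hxU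
    letI : (Curv2.bc k X K).Over (Spec (CommRingCat.of K)) := ⟨Curv2.bcSnd k X K⟩
    refine isAlgebraic_residueField K (hr.trans_lt (hU ⟨U, hUa⟩)) (Curv2.bc k X K) i hi' p ?_
    have := hx.preimage i.continuous
    rwa [← Set.image_singleton, i.isOpenEmbedding.injective.preimage_image] at this

end Groth.Agent.S7611
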