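import Groth.Statements.S7612
import Mathlib
import Groth.Agent.H22Alg.ProdClosure

set_option autoImplicit false
universe u
open CategoryTheory CategoryTheory.Limits AlgebraicGeometry
open Variety

namespace Groth.Agent.S7612

/-- Let X and Y be schemes over a field k and A ⊆ X, B ⊆ Y subsets. Inside X ×_k Y, the closure of the
set of points projecting into A and into B equals the set of points projecting into the closure of A
and into the closure of B. -/
theorem result (k : Type u) [Field k] (X : Scheme.{u}) [X.Over (Spec (CommRingCat.of k))] (Y : Scheme.{u}) [Y.Over (Spec (CommRingCat.of k))] (A : Set ↥X) (B : Set ↥Y) :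
    closure ((pullback.fst (X ↘ (Spec (CommRingCat.of k))) (Y ↘ (Spec (CommRingCat.of k)))).base ⁻¹' A ∩ (pullback.snd (X ↘ (Spec (CommRingCat.of k))) (Y ↘ (Spec (CommRingCat.of k)))).base ⁻¹' B) =
      (pullback.fst (X ↘ (Spec (CommRingCat.of k))) (Y ↘ (Spec (CommRingCat.of k)))).base ⁻¹' closure A ∩ (pullback.snd (X ↘ (Spec (CommRingCat.of k))) (Y ↘ (Spec (CommRingCat.of k)))).base ⁻¹' closure B := by
  exact Groth.Agent.H22Alg.closure_prod _ _ _ _ (IsPullback.of_hasPullback _ _) A B

end Groth.Agent.S7612
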