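import Groth.Statements.S7613
import Groth.Agent.S1540
import Groth.Agent.S1549
import Groth.Agent.H22Alg.GeomRegularAt
import Groth.Agent.H05EGA4.CompleteNormalization
-- import your own Groth.Agent.* helpers here

set_option autoImplicit false
universe u
open CategoryTheory CategoryTheory.Limits AlgebraicGeometry
open Variety

namespace Groth.Agent.S7613

/-- Let X be a variety over a field k (integral, separated and of finite type over k) with a k-rational
point x (k → κ(x) onto) such that X → Spec k is smooth at x. Then every base change of X to an
extension field of k is an integral scheme (X is geometrically integral over k). -/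
theorem result (k : Type u) [Field k] (X : Scheme.{u}) [X.Over (Spec (CommRingCat.of k))] [IsIntegral X] [IsSeparated (X ↘ (Spec (CommRingCat.of k)))]
    [LocallyOfFiniteType (X ↘ (Spec (CommRingCat.of k)))] [QuasiCompact (X ↘ (Spec (CommRingCat.of k)))]
    (x : ↥X) (hx : Function.Surjective (Curv2.resMap k X x)) (hsm : x ∈ (X ↘ (Spec (CommRingCat.of k))).smoothLocus) :
    GeometricallyIntegral (X ↘ (Spec (CommRingCat.of k))) := by
  have hred : GeometricallyReduced (X ↘ (Spec (CommRingCat.of k))) := by
    refine (Groth.Agent.S1549.result k X).mpr ⟨(X ↘ (Spec (CommRingCat.of k))).smoothLocus,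
      (X ↘ (Spec (CommRingCat.of k))).smoothLocus.2.dense ⟨x, hsm⟩, ?_⟩
    rw [← Scheme.Hom.smoothLocus_eq_top_iff, ← Scheme.Hom.preimage_smoothLocus_eq, Scheme.Opens.ι_preimage_self]
  have hirr : GeometricallyIrreducible (X ↘ (Spec (CommRingCat.of k))) := by
    refine (Groth.Agent.S1540.result k X).mpr fun a ha => ?_
    letI := Curv2.stalkAlgebra k X x
    letI := Curv2.resAlgebra k X (genericPoint X)
    letI := Curv2.stalkAlgebra k X (genericPoint X)
    haveI := Groth.Agent.H22Alg.GeomRegularAt.regular_of_mem_smoothLocus k X x hsm
    haveI := Groth.Agent.H05EGA4.isIntegrallyClosed_of_isRegularLocalRing (X.presheaf.stalk x)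
    let res : X.functionField →+* X.residueField (genericPoint X) := (X.residue (genericPoint X)).hom
    have hres : Function.Bijective res :=
      ⟨RingHom.injective (R := X.functionField) _, X.residue_surjective _⟩
    obtain ⟨b, rfl⟩ := hres.2 a
    letI : Algebra k X.functionField := Curv2.stalkAlgebra k X (genericPoint X)
    have hcomp : ∀ c : k, algebraMap k X.functionField c =
        algebraMap (X.presheaf.stalk x) X.functionField (algebraMap k (X.presheaf.stalk x) c) := fun c => by
      show X.presheaf.germ ⊤ (genericPoint X) trivial _ =
        X.presheaf.stalkSpecializes _ (X.presheaf.germ ⊤ x trivial _)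
      rw [← ConcreteCategory.comp_apply, TopCat.Presheaf.germ_stalkSpecializes]
    haveI : IsScalarTower k (X.presheaf.stalk x) X.functionField := IsScalarTower.of_algebraMap_eq hcomp
    let resA : X.functionField →ₐ[k] X.residueField (genericPoint X) :=
      { res with commutes' := fun c => rfl }
    have hint : IsIntegral k b := (isIntegral_algHom_iff resA hres.1).mp ha.isIntegral
    obtain ⟨o, ho⟩ := IsIntegrallyClosed.isIntegral_iff.mp
      (hint.tower_top (A := X.presheaf.stalk x))
    obtain ⟨c, hc⟩ := hx ((X.residue x).hom o)
    have hroot : Polynomial.aeval o (minpoly k b) = 0 := by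
      refine IsFractionRing.injective (X.presheaf.stalk x) X.functionField ?_
      rw [map_zero, ← Polynomial.aeval_algebraMap_apply, ho, minpoly.aeval]
    have hc0 : (minpoly k b).eval c = 0 := by
      letI := Curv2.resAlgebra k X x
      let rx : X.presheaf.stalk x →ₐ[k] X.residueField x :=
        { (X.residue x).hom with commutes' := fun c => rfl }
      have h := congrArg rx hroot
      rw [map_zero, ← Polynomial.aeval_algHom_apply] at h
      change Polynomial.aeval ((X.residue x).hom o) (minpoly k b) = 0 at h
      rw [← hc] at h
      change Polynomial.aeval (algebraMap k (X.residueField x) c) (minpoly k b) = 0 at h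
      rw [Polynomial.aeval_algebraMap_apply_eq_algebraMap_eval] at h
      exact (algebraMap k (X.residueField x)).injective (h.trans (map_zero _).symm)
    have hdeg : (minpoly k b).degree = 1 :=
      Polynomial.degree_eq_one_of_irreducible_of_root (minpoly.irreducible hint) hc0
    obtain ⟨c', hc'⟩ := (minpoly.degree_eq_one_iff).mp hdeg
    exact ⟨c', (resA.commutes c').symm.trans (congrArg resA hc')⟩
  rw [GeometricallyIntegral.eq_geometricallyReduced_inf_geometricallyIrreducible]
  exact ⟨hred, hirr⟩

end Groth.Agent.S7613
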