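import Groth.Statements.S7614
import Mathlib
import Groth.Agent.H11QAff.Basic
import Groth.Agent.S1127

set_option autoImplicit false
universe u
open CategoryTheory CategoryTheory.Limits AlgebraicGeometry
open Variety

namespace Groth.Agent.S7614

/-- Let X be a scheme over a field k and K an extension field of k. If X_K is quasi-affine, then X is
quasi-affine. -/
theorem result (k : Type u) [Field k] (X : Scheme.{u}) [X.Over (Spec (CommRingCat.of k))] (K : Type u) [Field K] [Algebra k K]
    [(Curv2.bc k X K).IsQuasiAffine] : X.IsQuasiAffine := by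
  let q := X ↘ (Spec (CommRingCat.of k))
  let g := Spec.map (CommRingCat.ofHom (algebraMap k K))
  have hg : (@Surjective ⊓ @Flat ⊓ @QuasiCompact : MorphismProperty Scheme.{u}) g :=
    ⟨⟨⟨fun x => ⟨IsLocalRing.closedPoint K, Subsingleton.elim (α := PrimeSpectrum k) _ _⟩⟩,
      (HasRingHomProperty.Spec_iff (P := @Flat)).mpr (RingHom.flat_algebraMap_iff.mpr inferInstance)⟩,
      inferInstanceAs (QuasiCompact g)⟩
  have hsq := IsPullback.of_hasPullback q g
  have hsnd : Mor2.IsQuasiAffine (Limits.pullback.snd q g) := by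
    refine H11QAff.isQuasiAffine_of_cover _ fun y => ⟨⊤, isAffineOpen_top _, trivial, ?_⟩
    exact H11QAff.isQuasiAffine_of_iso (Scheme.topIso (Curv2.bc k X K))
  have hq : Mor2.IsQuasiAffine q :=
    (S1127.result).of_isPullback hsq.flip hg hsnd
  haveI : ((⊤ : X.Opens) : Scheme.{u}).IsQuasiAffine := hq.2 ⊤ (isAffineOpen_top _)
  exact H11QAff.isQuasiAffine_of_iso (Scheme.topIso X).symm

end Groth.Agent.S7614
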