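import Groth.Statements.S7615
import Mathlib
import Groth.Agent.H22Alg.GlobalFunctions
import Groth.Agent.S1540

set_option autoImplicit false
universe u
open CategoryTheory CategoryTheory.Limits AlgebraicGeometry
open Variety

namespace Groth.Agent.S7615

/-- Let X be a proper variety over a field k (integral, separated, of finite type and proper over k) and
K = H^0(X, O_X), a k-algebra via the structure morphism. Then K is a field, finite over k; K/k is
separable when X is geometrically reduced over k, and purely inseparable when X is geometrically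
irreducible over k. -/
theorem result (k : Type u) [Field k] (X : Scheme.{u}) [X.Over (Spec (CommRingCat.of k))] [IsIntegral X] [IsProper (X ↘ (Spec (CommRingCat.of k)))] :
    letI := ((X ↘ (Spec (CommRingCat.of k))).appTop.hom.comp (Scheme.ΓSpecIso (CommRingCat.of k)).inv.hom : k →+* Γ(X, ⊤)).toAlgebra
    IsField ↑Γ(X, ⊤) ∧ Module.Finite k ↑Γ(X, ⊤) ∧
      (GeometricallyReduced (X ↘ (Spec (CommRingCat.of k))) → Algebra.IsSeparable k ↑Γ(X, ⊤)) ∧
      (GeometricallyIrreducible (X ↘ (Spec (CommRingCat.of k))) → IsPurelyInseparable k ↑Γ(X, ⊤)) := by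
  set f := X ↘ Spec (CommRingCat.of k)
  letI := Groth.Agent.H22Alg.GlobalFunctions.algΓ f
  refine ⟨Groth.Agent.H22Alg.GlobalFunctions.isField_of_universallyClosed f,
    Groth.Agent.H22Alg.GlobalFunctions.finite_algΓ f, fun hg => ?_, fun hg => ?_⟩
  · haveI := hg
    letI := (Groth.Agent.H22Alg.GlobalFunctions.isField_of_universallyClosed f).toField
    haveI := Groth.Agent.H22Alg.GlobalFunctions.finite_algΓ f
    haveI := Groth.Agent.H22Alg.GlobalFunctions.isGeometricallyReduced_algΓ f
    exact (Groth.Agent.H22Alg.GlobalFunctions.finrank_eq_card_and_isSeparable (k := k) (L := Γ(X, ⊤))).2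
  · letI := (Groth.Agent.H22Alg.GlobalFunctions.isField_of_universallyClosed f).toField
    haveI := Groth.Agent.H22Alg.GlobalFunctions.finite_algΓ f
    letI := Curv2.resAlgebra k X (genericPoint X)
    let φ : Γ(X, ⊤) →ₐ[k] X.residueField (genericPoint X) :=
      { ((X.residue (genericPoint X)).hom.comp (X.presheaf.germ ⊤ (genericPoint X) trivial).hom) with
        commutes' := fun _ => rfl }
    rw [← separableClosure.eq_bot_iff, eq_bot_iff]
    intro a ha
    have hsep : IsSeparable k (φ a) := by
      show (minpoly k (φ a)).Separable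
      rw [minpoly.algHom_eq φ φ.toRingHom.injective a]
      exact mem_separableClosure_iff.mp ha
    obtain ⟨c, hc⟩ := (Groth.Agent.S1540.result k X).mp hg (φ a) hsep
    exact IntermediateField.mem_bot.mpr ⟨c, φ.toRingHom.injective ((φ.commutes c).trans hc)⟩

end Groth.Agent.S7615
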