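import Groth.Statements.S7617
import Groth.Agent.S0566
import Groth.Agent.H06DeltaBC.NormFibre
import Groth.Agent.H06Norm.Criterion
import Groth.Agent.H22Alg.GeomRegularAt
import Groth.Agent.H22Alg.GeomReducedAt
import Groth.Agent.H22Alg.NormCoker
import Groth.Agent.H22Alg.NormalizationDimOne
import Groth.Agent.H05EGA4.FSCriteria
import Groth.Agent.H05EGA4.FieldSep

set_option autoImplicit false
universe u
open CategoryTheory CategoryTheory.Limits AlgebraicGeometry
open Variety

namespace Groth.Agent.S7617

/-- Noetherian normal local domains of dimension at most one are regular. -/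
theorem isRegularLocalRing_of_normal {A : Type u} [CommRing A] [IsLocalRing A] [IsDomain A] [IsNoetherianRing A]
    [IsIntegrallyClosed A] (hdim : ringKrullDim A ≤ 1) : IsRegularLocalRing A := by
  haveI : Ring.KrullDimLE 1 A := Ring.krullDimLE_iff.mpr hdim
  by_cases hf : IsField A
  · letI := hf.toField
    infer_instance
  · have : IsDiscreteValuationRing A := by
      refine ((IsDiscreteValuationRing.TFAE _ hf).out 0 3 rfl rfl).2
        ⟨inferInstance, IsLocalRing.maximalIdeal _, ⟨?_, inferInstance⟩, fun P hP => ?_⟩
      · exact fun h => hf (IsLocalRing.isField_iff_maximalIdeal_eq.2 h)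
      · haveI := hP.2
        exact IsLocalRing.eq_maximalIdeal (((Ring.krullDimLE_one_iff_of_isPrime_bot).1 ‹_›) P hP.1 hP.2)
    haveI : IsRegularRing A := inferInstance
    exact IsRegularLocalRing.of_isRegularRing_of_isLocalRing _

/-- A finite morphism does not increase the dimension of local rings. -/
theorem ringKrullDim_stalk_le_of_finite {Y Z : Scheme.{u}} (g : Y ⟶ Z) [IsFinite g] (y : Y) :
    ringKrullDim (Y.presheaf.stalk y) ≤ ringKrullDim (Z.presheaf.stalk (g y)) := by
  rw [ringKrullDim_stalk_eq_coheight, ringKrullDim_stalk_eq_coheight]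
  refine WithBot.coe_le_coe.mpr (Order.coheight_le_coheight_apply_of_strictMono (fun a => g a) (fun a b hab => ?_) y)
  have h1 : b ⤳ a := hab.le
  have h2 : g b ⤳ g a := h1.map g.continuous
  refine lt_of_le_not_ge h2 fun h3 => ?_
  have heq : g b = g a := (h2.antisymm h3).eq
  obtain ⟨V, hV, hVeq⟩ := isDiscrete_iff_forall_mem_exists_isOpen.mp (g.isDiscrete_preimage_singleton (g a)) a rfl
  have hbV : b ∈ V := h1.mem_open hV (hVeq.ge rfl).1
  have hba : b = a := (hVeq.le ⟨hbV, heq⟩ : b ∈ ({a} : Set Y))
  exact hab.ne hba.symm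

theorem stalkMap_injective {Y Z : Scheme.{u}} [IsIntegral Y] [IsIntegral Z] (g : Y ⟶ Z) [IsDominant g] (y : Y) :
    Function.Injective (g.stalkMap y) := by
  obtain ⟨U, hU, hyU, -⟩ := exists_isAffineOpen_mem_and_subset (show g y ∈ (⊤ : Z.Opens) from trivial)
  refine hU.stalkMap_injective g y hyU fun s hs => ?_
  rw [Scheme.Hom.germ_stalkMap_apply] at hs
  have happ : g.app U s = 0 := germ_injective_of_isIntegral Y y hyU (hs.trans (map_zero _).symm)
  have hb : g ⁻¹ᵁ Z.basicOpen s = ⊥ := by
    rw [Scheme.preimage_basicOpen, happ, Scheme.basicOpen_zero]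
  have h0 : Z.basicOpen s = ⊥ := by
    by_contra hne
    obtain ⟨z, ⟨y', rfl⟩, hz⟩ : (Set.range g ∩ (Z.basicOpen s : Set Z)).Nonempty := by
      rw [Set.inter_comm]
      exact g.denseRange.inter_open_nonempty _ (Z.basicOpen s).2
        ((TopologicalSpace.Opens.ne_bot_iff_nonempty _).mp hne)
    have : y' ∈ g ⁻¹ᵁ Z.basicOpen s := hz
    rw [hb] at this
    exact this
  rw [(basicOpen_eq_bot_iff s).mp h0, map_zero]

theorem isGeomReducedAt_of_mem_smoothLocus (k : Type u) [Field k] (X : Scheme.{u}) [X.Over (Spec (CommRingCat.of k))]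
    (x : X) [LocallyOfFinitePresentation (X ↘ Spec (CommRingCat.of k))]
    (hx : x ∈ (X ↘ Spec (CommRingCat.of k)).smoothLocus) : Curv2.IsGeomReducedAt k X x := by
  obtain ⟨U, hxU, hU⟩ := (H17.LocusBC.mem_smoothLocus_iff_exists _ x).mp hx
  intro K _ _ x' hx'
  let p := Curv2.bcFst k X K
  let V := p ⁻¹ᵁ U
  have hsq : IsPullback (p ∣_ U) (V.ι ≫ Curv2.bcSnd k X K) (U.ι ≫ (X ↘ Spec (CommRingCat.of k)))
      (Spec.map (CommRingCat.ofHom (algebraMap k K))) :=
    (isPullback_morphismRestrict p U).paste_vert (IsPullback.of_hasPullback _ _)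
  haveI : Smooth (V.ι ≫ Curv2.bcSnd k X K) := MorphismProperty.of_isPullback (P := @Smooth) hsq hU
  have hx'V : x' ∈ V := by show p x' ∈ U; rwa [show p x' = x from hx']
  haveI : IsRegularLocalRing (V.toScheme.presheaf.stalk ⟨x', hx'V⟩) := H19Grp.isRegularLocalRing_stalk_of_smooth (V.ι ≫ Curv2.bcSnd k X K) ⟨x', hx'V⟩
  haveI : IsDomain (V.toScheme.presheaf.stalk ⟨x', hx'V⟩) := Groth.Agent.H4Depth.isDomain_of_isRegularLocalRing _
  exact isReduced_of_injective (V.stalkIso ⟨x', hx'V⟩).commRingCatIsoToRingEquiv.symm
    (V.stalkIso ⟨x', hx'V⟩).commRingCatIsoToRingEquiv.symm.injective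

/-- Let X be an integral scheme locally of finite type over a field k, ν : X^ν → X its normalization,
and x a point of X with dim O_{X, x} = 1 such that for every point x' of X^ν over x the residue
field κ(x') is separable over k (Spec κ(x') → Spec k geometrically reduced). Then X is geometrically
reduced at x, and at every point of X^ν over x the normalization is geometrically regular. (The
published statement covers every scheme locally of finite type over k with reduced local ring at x,
using the normalization of a possibly non-integral scheme; this row takes X integral.) -/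
theorem result (k : Type u) [Field k] (X : Scheme.{u}) [X.Over (Spec (CommRingCat.of k))] [IsIntegral X] [LocallyOfFiniteType (X ↘ (Spec (CommRingCat.of k)))]
    [QuasiCompact (X.fromSpecStalk (genericPoint X))] [QuasiSeparated (X.fromSpecStalk (genericPoint X))]
    (x : ↥X) (hdim : ringKrullDim ↥(X.presheaf.stalk x) = 1)
    (hsep : letI : (Curv2.normalization X).Over (Spec (CommRingCat.of k)) := ⟨Curv2.normalizationι X ≫ (X ↘ (Spec (CommRingCat.of k)))⟩
      ∀ x' : ↥(Curv2.normalization X), Curv2.normalizationι X x' = x →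
        GeometricallyReduced (Spec.map (CommRingCat.ofHom (Curv2.resMap k (Curv2.normalization X) x')))) :
    Curv2.IsGeomReducedAt k X x ∧
      letI : (Curv2.normalization X).Over (Spec (CommRingCat.of k)) := ⟨Curv2.normalizationι X ≫ (X ↘ (Spec (CommRingCat.of k)))⟩
      ∀ x' : ↥(Curv2.normalization X), Curv2.normalizationι X x' = x → Curv2.IsGeomRegularAt k (Curv2.normalization X) x' := by
  set ι := Curv2.normalizationι X with hι
  letI : (Curv2.normalization X).Over (Spec (CommRingCat.of k)) := ⟨ι ≫ (X ↘ (Spec (CommRingCat.of k)))⟩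
  haveI : IsLocallyNoetherian X := LocallyOfFiniteType.isLocallyNoetherian (X ↘ Spec (CommRingCat.of k))
  have hN : ∀ U : X.affineOpens, CAlg.IsNagata Γ(X, (U : X.Opens)) := fun U => by
    obtain ⟨φ, hφ⟩ := Spec.map_surjective (U.2.fromSpec ≫ (X ↘ Spec (CommRingCat.of k)))
    have hft : φ.hom.FiniteType := by
      haveI : LocallyOfFiniteType (Spec.map φ) := by rw [hφ]; infer_instance
      exact HasRingHomProperty.Spec_iff.mp ‹LocallyOfFiniteType (Spec.map φ)›
    letI : Algebra k Γ(X, (U : X.Opens)) := φ.hom.toAlgebra
    haveI : Algebra.FiniteType k Γ(X, (U : X.Opens)) := hft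
    exact S0566.result k (H06DeltaBC.isNagata_field k) _
  haveI : IsFinite ι := H22Alg.NormCoker.isFinite_normalization X hN
  haveI : IsIntegral (Curv2.normalization X) := by delta Curv2.normalization; infer_instance
  haveI : LocallyOfFiniteType ((Curv2.normalization X) ↘ Spec (CommRingCat.of k)) :=
    inferInstanceAs (LocallyOfFiniteType (ι ≫ (X ↘ Spec (CommRingCat.of k))))
  haveI : LocallyOfFinitePresentation ((Curv2.normalization X) ↘ Spec (CommRingCat.of k)) := inferInstance
  haveI : IsLocallyNoetherian (Curv2.normalization X) :=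
    LocallyOfFiniteType.isLocallyNoetherian ((Curv2.normalization X) ↘ Spec (CommRingCat.of k))
  have hsmooth : ∀ x' : ↥(Curv2.normalization X), ι x' = x →
      x' ∈ ((Curv2.normalization X) ↘ Spec (CommRingCat.of k)).smoothLocus := by
    intro x' hx'
    obtain ⟨_, _⟩ := H06Norm.isNormalScheme_normalization X x'
    have hle : ringKrullDim ((Curv2.normalization X).presheaf.stalk x') ≤ 1 := by
      refine (ringKrullDim_stalk_le_of_finite ι x').trans ?_
      rw [hx', hdim]
    haveI := isRegularLocalRing_of_normal hle
    letI := Curv2.stalkAlgebra k (Curv2.normalization X) x'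
    letI : Algebra k ((Curv2.normalization X).residueField x') := Curv2.resAlgebra k (Curv2.normalization X) x'
    haveI : GeometricallyReduced (Spec.map (CommRingCat.ofHom (Curv2.resMap k (Curv2.normalization X) x'))) := hsep x' hx'
    haveI : Algebra.IsGeometricallyReduced k ((Curv2.normalization X).residueField x') :=
      H06DeltaBC.isGeometricallyReduced_of_geometricallyReduced k _ (Curv2.resMap k _ x')
    haveI : Algebra.FormallySmooth k ((Curv2.normalization X).residueField x') :=
      H05EGA4.FieldSep.formallySmooth_of_isGeometricallyReduced k _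
    let e : (Curv2.normalization X).residueField x' ≃ₐ[k] IsLocalRing.ResidueField ((Curv2.normalization X).presheaf.stalk x') :=
      AlgEquiv.ofRingEquiv (f := RingEquiv.refl ((Curv2.normalization X).residueField x')) fun c => rfl
    haveI : Algebra.FormallySmooth k (IsLocalRing.ResidueField ((Curv2.normalization X).presheaf.stalk x')) :=
      Algebra.FormallySmooth.of_equiv e
    exact H22Alg.GeomRegularAt.mem_smoothLocus_of_isAdicFormallySmooth k (Curv2.normalization X) x'
      H05EGA4.isAdicFormallySmooth_of_residue_formallySmooth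
  refine ⟨?_, fun x' hx' => H22Alg.GeomRegularAt.isGeomRegularAt_of_mem_smoothLocus k (Curv2.normalization X) x'
    (hsmooth x' hx')⟩
  haveI : IsDominant (X.fromSpecStalk (genericPoint X)) := by
    rw [isDominant_iff, DenseRange, dense_iff_closure_eq, ← Set.univ_subset_iff, ← (genericPoint_spec ↥X).def]
    exact closure_mono (Set.singleton_subset_iff.2 ⟨IsLocalRing.closedPoint _, Scheme.fromSpecStalk_closedPoint⟩)
  haveI : IsDominant ι := by
    rw [hι]
    delta Curv2.normalizationι
    haveI : IsDominant ((X.fromSpecStalk (genericPoint X)).toNormalization ≫ (X.fromSpecStalk (genericPoint X)).fromNormalization) := by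
      rw [Scheme.Hom.toNormalization_fromNormalization]; infer_instance
    exact IsDominant.of_comp (X.fromSpecStalk (genericPoint X)).toNormalization _
  obtain ⟨x', hx'⟩ : x ∈ Set.range ι := by
    have hcl : IsClosed (Set.range ι) := ι.isClosedMap.isClosed_range
    rw [show Set.range ι = Set.univ from hcl.closure_eq.symm.trans ι.denseRange.closure_range]
    trivial
  subst hx'
  refine (H22Alg.GeomReducedAt.isGeomReducedAt_iff k X (ι x')).mpr ?_
  letI := Curv2.stalkAlgebra k X (ι x')
  letI := Curv2.stalkAlgebra k (Curv2.normalization X) x'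
  haveI : Algebra.IsGeometricallyReduced k ((Curv2.normalization X).presheaf.stalk x') :=
    (H22Alg.GeomReducedAt.isGeomReducedAt_iff k (Curv2.normalization X) x').mp
      (isGeomReducedAt_of_mem_smoothLocus k (Curv2.normalization X) x' (hsmooth x' rfl))
  let f : X.presheaf.stalk (ι x') →ₐ[k] (Curv2.normalization X).presheaf.stalk x' :=
    { (ι.stalkMap x').hom with
      commutes' := fun c => by
        show ι.stalkMap x' (X.presheaf.germ ⊤ (ι x') trivial (Coh.toGlobal (X ↘ Spec (CommRingCat.of k)) c)) =
          (Curv2.normalization X).presheaf.germ ⊤ x' trivial (Coh.toGlobal (ι ≫ (X ↘ Spec (CommRingCat.of k))) c)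
        rw [Scheme.Hom.germ_stalkMap_apply]
        rfl }
  exact Algebra.IsGeometricallyReduced.of_injective f (stalkMap_injective ι x')

end Groth.Agent.S7617
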