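import Groth.Statements.S7618
import Mathlib
import Groth.Agent.H22Alg.GlobalFunctions

set_option autoImplicit false
universe u
open CategoryTheory CategoryTheory.Limits AlgebraicGeometry
open Variety

namespace Groth.Agent.S7618

/-- Let X be a connected reduced scheme over a field k. Then the global functions on X that are integral
over k form a field. -/
theorem result (k : Type u) [Field k] (X : Scheme.{u}) [X.Over (Spec (CommRingCat.of k))] [ConnectedSpace ↥X] [IsReduced X] :
    letI := ((X ↘ (Spec (CommRingCat.of k))).appTop.hom.comp (Scheme.ΓSpecIso (CommRingCat.of k)).inv.hom : k →+* Γ(X, ⊤)).toAlgebra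
    IsField ↥(integralClosure k ↑Γ(X, ⊤)) := by
  letI := Groth.Agent.H22Alg.GlobalFunctions.algΓ (X ↘ Spec (CommRingCat.of k))
  show IsField ↥(integralClosure k ↑Γ(X, ⊤))
  haveI : Nonempty ((⊤ : X.Opens) : Scheme.{u}) := ⟨⟨Nonempty.some inferInstance, trivial⟩⟩
  haveI : Nontrivial Γ(X, ⊤) := X.component_nontrivial ⊤
  haveI : _root_.IsReduced ↥(integralClosure k ↑Γ(X, ⊤)) :=
    isReduced_of_injective (integralClosure k ↑Γ(X, ⊤)).val Subtype.val_injective
  refine Groth.Agent.H22Alg.GlobalFunctions.isField_of_isIntegral (k := k) fun e he => ?_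
  rcases Groth.Agent.H22Alg.GlobalFunctions.eq_zero_or_one_of_isIdempotentElem (X := X)
      (e := (e : Γ(X, ⊤))) (congrArg Subtype.val he.eq) with h | h
  · exact Or.inl (Subtype.ext h)
  · exact Or.inr (Subtype.ext h)

end Groth.Agent.S7618
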