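import Groth.Statements.S7619
import Mathlib
import Groth.Agent.H06Unram.DiffGenerators

set_option autoImplicit false
universe u
open CategoryTheory CategoryTheory.Limits AlgebraicGeometry
open scoped TensorProduct
open Variety

namespace Groth.Agent.S7619

/-- Let A → B be a finite type ring map (a finite type morphism of affine schemes), q a prime of B and r
= dim_{κ(q)} Ω_{B/A} ⊗_B κ(q). Then there is an A-algebra homomorphism A[x_1, …, x_r] → B for which
B is unramified over A[x_1, …, x_r] at q. -/
theorem result (A B : Type u) [CommRing A] [CommRing B] [Algebra A B] [Algebra.FiniteType A B]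
    (q : Ideal B) [q.IsPrime] (r : ℕ) (hr : Module.finrank q.ResidueField (q.ResidueField ⊗[B] Ω[B⁄A]) = r) :
    ∃ φ : MvPolynomial (Fin r) A →ₐ[A] B,
      letI := φ.toRingHom.toAlgebra
      Algebra.IsUnramifiedAt (MvPolynomial (Fin r) A) q := by
  subst hr
  obtain ⟨g, hg⟩ := Groth.Agent.H06Unram.DiffGenerators.exists_span_eq_top A q
  refine ⟨MvPolynomial.aeval g, ?_⟩
  letI : Algebra (MvPolynomial (Fin _) A) B := (MvPolynomial.aeval (R := A) g).toRingHom.toAlgebra
  haveI : IsScalarTower A (MvPolynomial (Fin _) A) B :=
    IsScalarTower.of_algebraMap_eq fun r => ((MvPolynomial.aeval (R := A) g).commutes r).symm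
  exact Groth.Agent.H06Unram.DiffGenerators.isUnramifiedAt_aeval A q g hg fun i =>
    MvPolynomial.aeval_X g i

end Groth.Agent.S7619
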