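import Groth.Statements.S7620
import Mathlib
import Groth.Agent.H26Grass.DimLemma

set_option autoImplicit false
universe u
open CategoryTheory CategoryTheory.Limits AlgebraicGeometry
open scoped TensorProduct
open Variety

namespace Groth.Agent.S7620

/-- Let A → B be a finite type ring map (a finite type morphism of affine schemes X → S), p a prime of A
and suppose the fibre ring κ(p) ⊗_A B has Krull dimension d. Then there is an A-algebra homomorphism
π : A[t_1, …, t_d] → B such that the induced map of fibres κ(p) ⊗_A A[t_1, …, t_d] → κ(p) ⊗_A B is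
finite. -/
theorem result (A B : Type u) [CommRing A] [CommRing B] [Algebra A B] [Algebra.FiniteType A B]
    (p : Ideal A) [p.IsPrime] (d : ℕ) (hd : ringKrullDim (p.ResidueField ⊗[A] B) = d) :
    ∃ π : MvPolynomial (Fin d) A →ₐ[A] B,
      (Algebra.TensorProduct.map (AlgHom.id p.ResidueField p.ResidueField) π).toRingHom.Finite := by
  let K := p.ResidueField
  let F := K ⊗[A] B
  have hgen : ∀ x : F, ∃ (u : K) (b : B), u ≠ 0 ∧ u • x = (1 : K) ⊗ₜ[A] b := fun x => by
    induction x using TensorProduct.induction_on with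
    | zero => exact ⟨1, 0, one_ne_zero, by rw [smul_zero, TensorProduct.tmul_zero]⟩
    | tmul c b =>
      obtain ⟨a, s, hs, rfl⟩ := IsFractionRing.div_surjective (A := A ⧸ p) c
      obtain ⟨a, rfl⟩ := Ideal.Quotient.mk_surjective a
      refine ⟨algebraMap (A ⧸ p) K s, a • b, ?_, ?_⟩
      · simpa [map_eq_zero_iff _ (IsFractionRing.injective (A ⧸ p) K)] using nonZeroDivisors.ne_zero hs
      · rw [TensorProduct.smul_tmul', smul_eq_mul, mul_div_cancel₀ _
          (by simpa [map_eq_zero_iff _ (IsFractionRing.injective (A ⧸ p) K)] using nonZeroDivisors.ne_zero hs),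
          show algebraMap (A ⧸ p) K (Ideal.Quotient.mk p a) = algebraMap A K a from rfl,
          Algebra.algebraMap_eq_smul_one, TensorProduct.smul_tmul]
    | add x y hx hy =>
      obtain ⟨u, b, hu, hx⟩ := hx
      obtain ⟨v, c, hv, hy⟩ := hy
      obtain ⟨a, s, hs, hua⟩ := IsFractionRing.div_surjective (A := A ⧸ p) u
      obtain ⟨a', t, ht, hva⟩ := IsFractionRing.div_surjective (A := A ⧸ p) v
      obtain ⟨a, rfl⟩ := Ideal.Quotient.mk_surjective a
      obtain ⟨a', rfl⟩ := Ideal.Quotient.mk_surjective a'
      have hs0 : algebraMap (A ⧸ p) K s ≠ 0 := by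
        simpa [map_eq_zero_iff _ (IsFractionRing.injective (A ⧸ p) K)] using nonZeroDivisors.ne_zero hs
      have ht0 : algebraMap (A ⧸ p) K t ≠ 0 := by
        simpa [map_eq_zero_iff _ (IsFractionRing.injective (A ⧸ p) K)] using nonZeroDivisors.ne_zero ht
      obtain ⟨s, rfl⟩ := Ideal.Quotient.mk_surjective s
      obtain ⟨t, rfl⟩ := Ideal.Quotient.mk_surjective t
      rw [div_eq_iff hs0] at hua
      rw [div_eq_iff ht0] at hva
      refine ⟨algebraMap A K a * algebraMap A K a', (a' * s) • b + (a * t) • c, ?_, ?_⟩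
      · refine mul_ne_zero ?_ ?_
        · rw [show algebraMap A K a = algebraMap (A ⧸ p) K (Ideal.Quotient.mk p a) from rfl, hua]
          exact mul_ne_zero hu hs0
        · rw [show algebraMap A K a' = algebraMap (A ⧸ p) K (Ideal.Quotient.mk p a') from rfl, hva]
          exact mul_ne_zero hv ht0
      · rw [TensorProduct.tmul_add, TensorProduct.tmul_smul, TensorProduct.tmul_smul, ← hx, ← hy,
          ← algebraMap_smul K (a' * s), ← algebraMap_smul K (a * t), smul_smul, smul_smul, smul_add,
          map_mul, map_mul,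
          show algebraMap A K a = algebraMap (A ⧸ p) K (Ideal.Quotient.mk p a) from rfl,
          show algebraMap A K a' = algebraMap (A ⧸ p) K (Ideal.Quotient.mk p a') from rfl,
          show algebraMap A K s = algebraMap (A ⧸ p) K (Ideal.Quotient.mk p s) from rfl,
          show algebraMap A K t = algebraMap (A ⧸ p) K (Ideal.Quotient.mk p t) from rfl, hua, hva]
        congr 1 <;> congr 1 <;> ring
  haveI : Nontrivial F := by
    by_contra h
    rw [not_nontrivial_iff_subsingleton] at h
    rw [ringKrullDim_eq_bot_of_subsingleton] at hd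
    exact WithBot.coe_ne_bot hd.symm
  obtain ⟨m, g, hg, hfin⟩ := exists_finite_inj_algHom_of_fg K F
  have hint : g.toRingHom.IsIntegral := RingHom.IsIntegral.of_finite hfin
  have hm : d = m := by
    have hdim : ringKrullDim F = ringKrullDim (MvPolynomial (Fin m) K) := by
      refine le_antisymm ?_ (H29Curve.ringKrullDim_le_of_isIntegral g.toRingHom hint hg)
      letI := g.toRingHom.toAlgebra
      haveI : Algebra.IsIntegral (MvPolynomial (Fin m) K) F := ⟨hint⟩
      exact H26Grass.ringKrullDim_le_of_integral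
    rw [hd, MvPolynomial.ringKrullDim_of_isNoetherianRing, ringKrullDim_eq_zero_of_field, zero_add, Nat.card_fin] at hdim
    exact_mod_cast hdim
  subst hm
  choose u b hu hb using fun i => hgen (g (MvPolynomial.X i))
  refine ⟨MvPolynomial.aeval b, ?_⟩
  let G := Algebra.TensorProduct.map (AlgHom.id K K) (MvPolynomial.aeval b : MvPolynomial (Fin d) A →ₐ[A] B)
  let h : MvPolynomial (Fin d) K →ₐ[K] K ⊗[A] MvPolynomial (Fin d) A :=
    MvPolynomial.aeval fun i => (u i)⁻¹ • ((1 : K) ⊗ₜ[A] (MvPolynomial.X i : MvPolynomial (Fin d) A))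
  have hcomp : G.comp h = g := MvPolynomial.algHom_ext fun i => by
    rw [AlgHom.comp_apply, MvPolynomial.aeval_X, map_smul, Algebra.TensorProduct.map_tmul, MvPolynomial.aeval_X]
    show (u i)⁻¹ • ((1 : K) ⊗ₜ[A] b i) = _
    rw [← hb i, smul_smul, inv_mul_cancel₀ (hu i), one_smul]
  refine RingHom.Finite.of_comp_finite (f := h.toRingHom) (g := G.toRingHom) ?_
  rw [show G.toRingHom.comp h.toRingHom = (G.comp h).toRingHom from rfl, hcomp]
  exact hfin

end Groth.Agent.S7620
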