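import Groth.Statements.S7621
import Mathlib
import Groth.Agent.H22Alg.OpenDescSubalg

set_option autoImplicit false
universe u
open CategoryTheory CategoryTheory.Limits AlgebraicGeometry
open Variety

namespace Groth.Agent.S7621

/-- Let K be a (possibly infinite) Galois extension of a field k, X a scheme over k and V a
quasi-compact open subset of X_K. Then there is a subextension k'/k of K, finite over k, such that
every k-automorphism of K fixing k' pointwise maps V onto itself under its action on X_K (an open
subgroup of the Galois group stabilises V). -/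
theorem result (k : Type u) [Field k] (K : Type u) [Field K] [Algebra k K] [IsGalois k K]
    (X : Scheme.{u}) [X.Over (Spec (CommRingCat.of k))] (V : Set ↥(Curv2.bc k X K)) (hV : IsOpen V) (hVc : IsCompact V) :
    ∃ E : IntermediateField k K, FiniteDimensional k ↥E ∧
      ∀ σ : K ≃ₐ[k] K, (∀ a : K, a ∈ E → σ a = a) → (Curv2.galAct k X K σ).base '' V = V := by
  let p := X ↘ (Spec (CommRingCat.of k))
  obtain ⟨A', hfg, V', -, -, hπ⟩ := Groth.Agent.H22Alg.OpenDescSubalg.exists_descent p K V hV hVc
  obtain ⟨s, rfl⟩ := hfg
  refine ⟨IntermediateField.adjoin k (s : Set K),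
    IntermediateField.finiteDimensional_adjoin fun x _ => Algebra.IsIntegral.isIntegral x, fun σ hσ => ?_⟩
  let π : Curv2.bc k X K ⟶ pullback p (Spec.map (CommRingCat.ofHom (algebraMap k (Algebra.adjoin k (s : Set K))))) :=
    pullback.lift (pullback.fst _ _)
      (pullback.snd _ _ ≫ Spec.map (CommRingCat.ofHom (Algebra.adjoin k (s : Set K)).val.toRingHom))
      (by
        rw [Category.assoc, ← Spec.map_comp, ← CommRingCat.ofHom_comp]
        exact pullback.condition.trans (congrArg (fun r => pullback.snd _ _ ≫ Spec.map (CommRingCat.ofHom r))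
          (Algebra.adjoin k (s : Set K)).val.comp_algebraMap.symm))
  have hV' : π ⁻¹' V' = V := hπ π (pullback.lift_fst _ _ _) (pullback.lift_snd _ _ _)
  have hfix : ∀ τ : K ≃ₐ[k] K, (∀ a ∈ IntermediateField.adjoin k (s : Set K), τ a = a) →
      (Curv2.galAct k X K τ).base ⁻¹' V = V := by
    intro τ hτ
    have he : Curv2.galAct k X K τ ≫ π = π := by
      apply pullback.hom_ext
      · simp only [π, Curv2.galAct, Category.assoc, pullback.lift_fst, Category.comp_id]
      · simp only [π, Curv2.galAct, Category.assoc, pullback.lift_snd, pullback.lift_snd_assoc, ← Spec.map_comp,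
          ← CommRingCat.ofHom_comp]
        congr 3
        ext a
        exact hτ a.1 (IntermediateField.algebra_adjoin_le_adjoin k _ a.2)
    conv_rhs => rw [← hV', ← he]
    rw [← hV']
    rfl
  ext y
  constructor
  · rintro ⟨z, hz, rfl⟩
    rw [← hfix σ hσ] at hz
    exact hz
  · intro hy
    have hinv : ∀ a ∈ IntermediateField.adjoin k (s : Set K), σ.symm a = a := fun a ha => by
      conv_lhs => rw [← hσ a ha]
      exact σ.symm_apply_apply a
    refine ⟨(Curv2.galAct k X K σ.symm).base y, by rw [← hfix σ.symm hinv] at hy; exact hy, ?_⟩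
    have hc : Curv2.galAct k X K σ.symm ≫ Curv2.galAct k X K σ = 𝟙 _ := by
      apply pullback.hom_ext
      · simp only [Curv2.galAct, Category.assoc, pullback.lift_fst, pullback.lift_fst_assoc, Category.comp_id, Category.id_comp]
      · simp only [Curv2.galAct, Category.assoc, pullback.lift_snd, pullback.lift_snd_assoc, Category.id_comp, ← Spec.map_comp,
          ← CommRingCat.ofHom_comp]
        conv_rhs => rw [← Category.comp_id (pullback.snd _ _), ← Spec.map_id]
        congr 2
        ext a
        exact σ.symm_apply_apply a
    exact congrArg (fun φ : Curv2.bc k X K ⟶ Curv2.bc k X K => φ.base y) hc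

end Groth.Agent.S7621
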