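import Groth.Statements.S7622
import Groth.Agent.S2452
import Groth.Agent.H02CA.PowerSeries
-- import your own Groth.Agent.* helpers here

set_option autoImplicit false
universe u
open CategoryTheory CategoryTheory.Limits AlgebraicGeometry
open Variety

namespace Groth.Agent.S7622

/-- Let A be a Noetherian local algebra over a field k (such as the local ring of a locally Noetherian
k-scheme at a point) whose residue field κ is a separable extension of k, meaning geometrically
reduced over k; κ need not be algebraic over k. Then there are n ≥ 0, an ideal I of κ[[x_1, …, x_n]]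
and a k-algebra isomorphism e from κ[[x_1, …, x_n]]/I onto the completion A^∧ of A at its maximal
ideal which induces the identity on residue fields: for every a in A, the value of e on the constant
power series whose value is the residue class of a is congruent to the image of a modulo the
extended maximal ideal of A^∧. -/
theorem result (k A : Type u) [Field k] [CommRing A] [Algebra k A]
    [IsNoetherianRing A] [IsLocalRing A] [Algebra.IsGeometricallyReduced k (IsLocalRing.ResidueField A)] :
    ∃ (n : ℕ) (I : Ideal (MvPowerSeries (Fin n) (IsLocalRing.ResidueField A)))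
      (e : (MvPowerSeries (Fin n) (IsLocalRing.ResidueField A) ⧸ I) ≃ₐ[k]
        AdicCompletion (IsLocalRing.maximalIdeal A) A),
      ∀ a : A, e (Ideal.Quotient.mk I (MvPowerSeries.C (IsLocalRing.residue A a))) -
          algebraMap A (AdicCompletion (IsLocalRing.maximalIdeal A) A) a ∈
        (IsLocalRing.maximalIdeal A).map (algebraMap A (AdicCompletion (IsLocalRing.maximalIdeal A) A)) := by
  let Ah := AdicCompletion (IsLocalRing.maximalIdeal A) A
  let R : IsLocalRing.ResidueField A →+* IsLocalRing.ResidueField Ah :=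
    IsLocalRing.ResidueField.map (algebraMap A Ah)
  have hR : Function.Bijective R := AdicCompletion.residueField_map_bijective (R := A)
  let Ra : IsLocalRing.ResidueField A →ₐ[k] IsLocalRing.ResidueField Ah :=
    { toRingHom := R
      commutes' := fun c => by
        show R (IsLocalRing.residue A (algebraMap k A c)) = IsLocalRing.residue Ah (algebraMap k Ah c)
        rw [IsScalarTower.algebraMap_apply k A Ah]
        exact IsLocalRing.ResidueField.map_residue _ _ }
  haveI : Algebra.IsGeometricallyReduced k (IsLocalRing.ResidueField Ah) :=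
    Algebra.IsGeometricallyReduced.of_injective (AlgEquiv.ofBijective Ra hR).symm.toAlgHom
      (AlgEquiv.ofBijective Ra hR).symm.injective
  obtain ⟨σ, hσ⟩ := Groth.Agent.S2452.result (k := k) (A := Ah)
  let σ' : IsLocalRing.ResidueField A →ₐ[k] Ah := σ.comp Ra
  letI := σ'.toRingHom.toAlgebra
  haveI : IsScalarTower k (IsLocalRing.ResidueField A) Ah :=
    IsScalarTower.of_algebraMap_eq fun c => (σ'.commutes c).symm
  obtain ⟨n, b, hb⟩ := Submodule.fg_iff_exists_fin_generating_family.mp
    (IsLocalRing.maximalIdeal A).fg_of_isNoetherianRing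
  have hmax : IsLocalRing.maximalIdeal Ah = (IsLocalRing.maximalIdeal A).map (algebraMap A Ah) :=
    AdicCompletion.maximalIdeal_eq_map
  have hbh : Ideal.span (Set.range fun i => algebraMap A Ah (b i)) = IsLocalRing.maximalIdeal Ah := by
    rw [hmax]
    refine Eq.trans ?_ (congrArg (Ideal.map (algebraMap A Ah)) hb)
    rw [Ideal.submodule_span_eq, Ideal.map_span, ← Set.range_comp]
    rfl
  have hbm : ∀ i, algebraMap A Ah (b i) ∈ IsLocalRing.maximalIdeal Ah := fun i =>
    hbh ▸ Ideal.subset_span ⟨i, rfl⟩
  obtain ⟨ψ, hψ⟩ := Groth.Agent.H02CA.PS.exists_algHom (R := IsLocalRing.ResidueField A) (σ := Fin n)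
    (IsLocalRing.maximalIdeal Ah) (fun i => algebraMap A Ah (b i)) hbm
  have happ : ∀ s : Ah, ∃ l : IsLocalRing.ResidueField A,
      algebraMap (IsLocalRing.ResidueField A) Ah l - s ∈ IsLocalRing.maximalIdeal Ah := by
    intro s
    obtain ⟨l, hl⟩ := hR.2 (IsLocalRing.residue Ah s)
    refine ⟨l, Ideal.Quotient.eq.mp ?_⟩
    exact (hσ (R l)).trans hl
  have hsurj : Function.Surjective ψ := by
    refine Groth.Agent.H02CA.PS.surjective_of_approx ψ.toRingHom
      (Ideal.span (Set.range MvPowerSeries.X) : Ideal (MvPowerSeries (Fin n) (IsLocalRing.ResidueField A)))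
      (IsLocalRing.maximalIdeal Ah) ?_ ?_ ?_
    · intro x hx
      refine (Ideal.map_le_iff_le_comap (f := ψ.toRingHom) (K := IsLocalRing.maximalIdeal Ah).mp ?_) hx
      rw [Ideal.map_span, Ideal.span_le]
      rintro _ ⟨_, ⟨i, rfl⟩, rfl⟩
      show ψ (MvPowerSeries.X i) ∈ _
      rw [hψ]; exact hbm i
    · intro s
      obtain ⟨l, hl⟩ := happ s
      exact ⟨algebraMap _ _ l, by show ψ (algebraMap _ _ l) - s ∈ _; rwa [AlgHom.commutes]⟩
    · intro s hs
      rw [← hbh, Ideal.mem_span_range_iff_exists_fun] at hs
      obtain ⟨r, hr⟩ := hs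
      choose l hl using fun i => happ (r i)
      refine ⟨∑ i, algebraMap _ _ (l i) * MvPowerSeries.X i, Ideal.sum_mem _ fun i _ =>
        Ideal.mul_mem_left _ _ (Ideal.subset_span ⟨i, rfl⟩), ?_⟩
      show ψ _ - s ∈ _
      rw [map_sum, ← hr, ← Finset.sum_sub_distrib, pow_two]
      refine Ideal.sum_mem _ fun i _ => ?_
      rw [map_mul, AlgHom.commutes, hψ, ← sub_mul]
      exact Ideal.mul_mem_mul (hl i) (hbm i)
  refine ⟨n, RingHom.ker ψ, (Ideal.quotientKerAlgEquivOfSurjective hsurj).restrictScalars k, fun a => ?_⟩
  show ψ (MvPowerSeries.C (IsLocalRing.residue A a)) - algebraMap A Ah a ∈ (IsLocalRing.maximalIdeal A).map (algebraMap A Ah)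
  rw [← hmax]
  have hC : ψ (MvPowerSeries.C (IsLocalRing.residue A a)) = σ' (IsLocalRing.residue A a) := ψ.commutes _
  rw [hC]
  exact Ideal.Quotient.eq.mp ((hσ _).trans (IsLocalRing.ResidueField.map_residue _ _))

end Groth.Agent.S7622
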