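import Groth.Statements.S7625
import Mathlib
import Groth.Agent.H8Props.FibreDimSemicont

set_option autoImplicit false
universe u
open CategoryTheory CategoryTheory.Limits AlgebraicGeometry
open Variety

namespace Groth.Agent.S7625

/-- Let f : X → S be locally of finite type, x a point of X with image s, V an affine open neighbourhood
of s in S, and suppose dim_x(X_s) = d. Then there is an affine open neighbourhood U of x with f(U) ⊆
V and a factorisation of f|_U as U → 𝔸^d_V → V with U → 𝔸^d_V locally quasi-finite and locally of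
finite type (hence quasi-finite, U being affine). -/
theorem result {X S : Scheme.{u}} (f : X ⟶ S) [LocallyOfFiniteType f] (x : ↥X)
    (V : S.Opens) (hV : IsAffineOpen V) (hxV : f x ∈ V) (d : ℕ) (hd : FlatMor.fibreDimAt f x = d) :
    ∃ (U : X.Opens), IsAffineOpen U ∧ x ∈ U ∧
      ∃ (g : (U : Scheme.{u}) ⟶ (V : Scheme.{u})) (π : (U : Scheme.{u}) ⟶ 𝔸(ULift.{u} (Fin d); (V : Scheme.{u}))),
        g ≫ V.ι = U.ι ≫ f ∧ π ≫ (𝔸(ULift.{u} (Fin d); (V : Scheme.{u})) ↘ (V : Scheme.{u})) = g ∧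
          LocallyQuasiFinite π ∧ LocallyOfFiniteType π := by
  classical
  obtain ⟨U₀, (hU₀ : IsAffineOpen U₀), hxU₀, hle⟩ := TopologicalSpace.Opens.isBasis_iff_nbhd.mp X.isBasis_affineOpens
    (show x ∈ f ⁻¹ᵁ V from hxV)
  letI := (f.appLE V U₀ hle).hom.toAlgebra
  haveI : Algebra.FiniteType Γ(S, V) Γ(X, U₀) := f.finiteType_appLE hV hU₀ hle
  let φ := Spec.map (CommRingCat.ofHom (algebraMap Γ(S, V) Γ(X, U₀)))
  haveI : LocallyOfFiniteType φ := (HasRingHomProperty.Spec_iff (P := @LocallyOfFiniteType)).mpr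
    (RingHom.finiteType_algebraMap.mpr inferInstance)
  have hsq : φ ≫ hV.fromSpec = hU₀.fromSpec ≫ f := IsAffineOpen.SpecMap_appLE_fromSpec f hV hU₀ hle
  obtain ⟨q, rfl⟩ : x ∈ Set.range hU₀.fromSpec := by rw [hU₀.range_fromSpec]; exact hxU₀
  have hq : FlatMor.fibreDimAt φ q ≤ d := by
    rw [← Groth.Agent.H8Props.FieldDim.fibreDimAt_comp_openImmersion φ hV.fromSpec q, hsq,
      Groth.Agent.H8Props.FieldDim.fibreDimAt_openImmersion_comp hU₀.fromSpec f q, hd]
  obtain ⟨σ, _, γ, hcard, hqf⟩ := Groth.Agent.H8Props.FieldDim.exists_quasiFiniteAt_map q d hq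
  let R := Γ(S, V)
  let A := Γ(X, U₀)
  let I := ULift.{u} (Fin d)
  obtain ⟨ι⟩ : Nonempty (σ ↪ I) := Function.Embedding.nonempty_of_card_le (by simpa [I] using hcard)
  let ψ : MvPolynomial I R →ₐ[R] A := MvPolynomial.aeval (Function.extend ι (fun i => γ (MvPolynomial.X i)) 0)
  have hψ : ψ.comp (MvPolynomial.rename ι) = γ := MvPolynomial.algHom_ext fun i => by
    simp [ψ, ι.injective.extend_apply]
  let G : Spec (CommRingCat.of A) ⟶ Spec (CommRingCat.of (MvPolynomial I R)) :=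
    Spec.map (CommRingCat.ofHom ψ.toRingHom)
  let r : Spec (CommRingCat.of (MvPolynomial I R)) ⟶ Spec (CommRingCat.of (MvPolynomial σ R)) :=
    Spec.map (CommRingCat.ofHom (MvPolynomial.rename ι : MvPolynomial σ R →ₐ[R] MvPolynomial I R).toRingHom)
  have hGr : G ≫ r = Spec.map (CommRingCat.ofHom γ.toRingHom) := by
    rw [← Spec.map_comp, ← hψ]
    rfl
  let C' : Spec (CommRingCat.of (MvPolynomial I R)) ⟶ Spec R := Spec.map (CommRingCat.ofHom MvPolynomial.C)
  have hGC : G ≫ C' = φ := by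
    rw [← Spec.map_comp, ← CommRingCat.ofHom_comp]
    exact congrArg (fun t => Spec.map (CommRingCat.ofHom t)) ψ.comp_algebraMap
  haveI : LocallyOfFiniteType (G ≫ C') := by rw [hGC]; infer_instance
  haveI : LocallyOfFiniteType G := locallyOfFiniteType_of_comp G C'
  have hqG : G.QuasiFiniteAt q := by
    rw [← hGr, Scheme.Hom.QuasiFiniteAt, Scheme.Hom.stalkMap_comp] at hqf
    change ((G.stalkMap q).hom.comp (r.stalkMap (G q)).hom).QuasiFinite at hqf
    exact RingHom.QuasiFinite.of_comp hqf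
  let W : X.Opens := hU₀.fromSpec ''ᵁ G.quasiFiniteLocus
  obtain ⟨U', (hU : IsAffineOpen U'), hxU, hUW⟩ := TopologicalSpace.Opens.isBasis_iff_nbhd.mp X.isBasis_affineOpens
    (show hU₀.fromSpec q ∈ W from ⟨q, hqG, rfl⟩)
  let U : X.Opens := U'
  refine ⟨U, hU, hxU, ?_⟩
  have hrange : Set.range U.ι ⊆ Set.range (G.quasiFiniteLocus.ι ≫ hU₀.fromSpec) := by
    rw [Scheme.Opens.range_ι]
    rintro z hz
    obtain ⟨w, hw, rfl⟩ := hUW hz
    exact ⟨⟨w, hw⟩, rfl⟩
  let j := IsOpenImmersion.lift (G.quasiFiniteLocus.ι ≫ hU₀.fromSpec) U.ι hrange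
  have hj : j ≫ G.quasiFiniteLocus.ι ≫ hU₀.fromSpec = U.ι := IsOpenImmersion.lift_fac _ _ _
  haveI : IsOpenImmersion (j ≫ G.quasiFiniteLocus.ι ≫ hU₀.fromSpec) := by rw [hj]; infer_instance
  haveI : IsOpenImmersion j := IsOpenImmersion.of_comp j (G.quasiFiniteLocus.ι ≫ hU₀.fromSpec)
  haveI : IsIso (AffineSpace.map I hV.isoSpec.inv) := by
    refine ⟨AffineSpace.map I hV.isoSpec.hom, ?_, ?_⟩ <;> rw [← AffineSpace.map_comp] <;> simp
  let π : U.toScheme ⟶ 𝔸(I; V.toScheme) :=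
    (j ≫ G.quasiFiniteLocus.ι ≫ G) ≫ (AffineSpace.SpecIso I R).inv ≫ AffineSpace.map I hV.isoSpec.inv
  refine ⟨j ≫ G.quasiFiniteLocus.ι ≫ φ ≫ hV.isoSpec.inv, π, ?_, ?_, ?_, ?_⟩
  · simp only [Category.assoc]
    rw [hV.isoSpec_inv_ι, hsq, ← hj]
    simp only [Category.assoc]
  · simp only [π, Category.assoc, AffineSpace.map_over, AffineSpace.SpecIso_inv_over_assoc, ← hGC, C', I, R]
  · infer_instance
  · haveI : LocallyOfFiniteType (G.quasiFiniteLocus.ι ≫ G) := inferInstance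
    infer_instance

end Groth.Agent.S7625
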