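import Groth.Statements.S7627
import Mathlib
import Groth.Agent.H22Alg.VarDim
import Groth.Agent.H22Alg.FibreDimBound
import Groth.Agent.H8Props.FibreStalk
import Groth.Agent.H8Props.FieldDimFormula

set_option autoImplicit false
universe u
open CategoryTheory CategoryTheory.Limits AlgebraicGeometry
attribute [local instance] Curv2.resAlgebra
open scoped TensorProduct
open Variety

namespace Groth.Agent.S7627

/-- Let X be locally of finite type over a field k, K an extension field of k, y a point of X_K with
image x in X. Assume dim O_{X, x} = dim O_{X_K, y} and that κ(x) ⊗_k K is reduced (for instance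
κ(x)/k separable or K/k separable). Then m_x O_{X_K, y} = m_y. -/
theorem result (k : Type u) [Field k] (X : Scheme.{u}) [X.Over (Spec (CommRingCat.of k))] [LocallyOfFiniteType (X ↘ (Spec (CommRingCat.of k)))]
    (K : Type u) [Field K] [Algebra k K] (y : ↥(Curv2.bc k X K))
    (hdim : ringKrullDim ↥(X.presheaf.stalk (Curv2.bcFst k X K y)) = ringKrullDim ↥((Curv2.bc k X K).presheaf.stalk y))
    (hred : _root_.IsReduced (X.residueField (Curv2.bcFst k X K y) ⊗[k] K)) :
    Ideal.map ((Curv2.bcFst k X K).stalkMap y).hom (IsLocalRing.maximalIdeal ↥(X.presheaf.stalk (Curv2.bcFst k X K y))) =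
      IsLocalRing.maximalIdeal ↥((Curv2.bc k X K).presheaf.stalk y) := by
  let q := X ↘ (Spec (CommRingCat.of k))
  let σ := Spec.map (CommRingCat.ofHom (algebraMap k K))
  let p := Curv2.bcFst k X K
  let x := p y
  haveI : LocallyOfFiniteType (Curv2.bcSnd k X K) := MorphismProperty.pullback_snd q σ inferInstance
  haveI : IsLocallyNoetherian X := LocallyOfFiniteType.isLocallyNoetherian q
  haveI : IsLocallyNoetherian (Curv2.bc k X K) := LocallyOfFiniteType.isLocallyNoetherian (Curv2.bcSnd k X K)
  haveI : Flat p := by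
    haveI : Flat σ := inferInstance
    exact MorphismProperty.pullback_fst q σ inferInstance
  -- the fibre is reduced
  let i : p.fiber x ≅ Spec (CommRingCat.of (X.residueField x ⊗[k] K)) :=
    pullbackSymmetry _ _ ≪≫ pullbackRightPullbackFstIso q σ (X.fromSpecResidueField x) ≪≫
      pullback.congrHom (Groth.Agent.H22Alg.VarDim.fromSpecResidueField_over k X x) rfl ≪≫
        pullbackSpecIso k (X.residueField x) K
  haveI : _root_.IsReduced (X.residueField x ⊗[k] K) := hred
  haveI : IsReduced (Spec (CommRingCat.of (X.residueField x ⊗[k] K))) := inferInstance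
  haveI : IsReduced (p.fiber x) := isReduced_of_isOpenImmersion i.hom
  letI : Algebra (X.presheaf.stalk x) ((Curv2.bc k X K).presheaf.stalk y) := (p.stalkMap y).hom.toAlgebra
  haveI : IsLocalHom (algebraMap (X.presheaf.stalk x) ((Curv2.bc k X K).presheaf.stalk y)) :=
    inferInstanceAs (IsLocalHom (p.stalkMap y).hom)
  haveI : Module.Flat (X.presheaf.stalk x) ((Curv2.bc k X K).presheaf.stalk y) := Flat.stalkMap p y
  let I := (IsLocalRing.maximalIdeal ↥(X.presheaf.stalk x)).map (algebraMap _ ((Curv2.bc k X K).presheaf.stalk y))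
  let e := Groth.Agent.H8Props.FibreStalk.asFiberStalkEquiv p y
  haveI : _root_.IsReduced ((p.fiber (p y)).presheaf.stalk (p.asFiber y)) := inferInstance
  haveI hred' : _root_.IsReduced ((Curv2.bc k X K).presheaf.stalk y ⧸ I) :=
    isReduced_of_injective e.toRingHom e.injective
  have hIle : I ≤ IsLocalRing.maximalIdeal ((Curv2.bc k X K).presheaf.stalk y) :=
    ((IsLocalRing.local_hom_TFAE (algebraMap (X.presheaf.stalk x) ((Curv2.bc k X K).presheaf.stalk y))).out 0 2 rfl rfl).mp inferInstance
  have hI : I ≠ ⊤ := fun h => (IsLocalRing.maximalIdeal.isMaximal _).ne_top (top_le_iff.mp (h ▸ hIle))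
  haveI : Nontrivial ((Curv2.bc k X K).presheaf.stalk y ⧸ I) := Ideal.Quotient.nontrivial_iff.mpr hI
  haveI : IsLocalRing ((Curv2.bc k X K).presheaf.stalk y ⧸ I) :=
    IsLocalRing.of_surjective' (Ideal.Quotient.mk I) Ideal.Quotient.mk_surjective
  have hadd := Groth.Agent.H02CA.ringKrullDim_eq_add_of_flat (X.presheaf.stalk x) ((Curv2.bc k X K).presheaf.stalk y)
  obtain ⟨m, hm⟩ := Groth.Agent.H22Alg.exists_nat_ringKrullDim' (X.presheaf.stalk x)
  obtain ⟨n, hn⟩ := Groth.Agent.H22Alg.exists_nat_ringKrullDim' ((Curv2.bc k X K).presheaf.stalk y ⧸ I)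
  have hmn : m = m + n ∨ m = n + m := by
    rw [← hdim] at hadd
    change ringKrullDim (X.presheaf.stalk x) = _ at hadd
    rw [hm, hn] at hadd
    first
    | exact Or.inl (by exact_mod_cast hadd)
    | exact Or.inr (by exact_mod_cast hadd)
  have hn0 : n = 0 := by omega
  haveI : Ring.KrullDimLE 0 ((Curv2.bc k X K).presheaf.stalk y ⧸ I) :=
    Ring.krullDimLE_iff.mpr (by rw [hn, hn0])
  have hfield : IsField ((Curv2.bc k X K).presheaf.stalk y ⧸ I) := Ring.KrullDimLE.isField_of_isReduced
  exact (Ideal.Quotient.maximal_of_isField I hfield).eq_of_le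
    (IsLocalRing.maximalIdeal.isMaximal ↥((Curv2.bc k X K).presheaf.stalk y)).ne_top hIle

end Groth.Agent.S7627
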