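import Groth.Statements.S7630
import Groth.Agent.LeadAmpDesc.Field
import Groth.Agent.H18Descent.Basic

set_option autoImplicit false
universe u
open CategoryTheory CategoryTheory.Limits AlgebraicGeometry
open Variety

namespace Groth.Agent.S7630

/-- Let X be a scheme over a field k and K an extension field of k. If X_K → Spec K is quasi-projective
(of finite type and admitting a relatively ample invertible module), then so is X → Spec k. -/
theorem result (k : Type u) [Field k] (X : Scheme.{u}) [X.Over (Spec (CommRingCat.of k))] (K : Type u) [Field K] [Algebra k K]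
    (h : RelProj.IsQuasiProjective (Curv2.bcSnd k X K)) : RelProj.IsQuasiProjective (X ↘ (Spec (CommRingCat.of k))) := by
  obtain ⟨hft, hqc, L', hL'⟩ := h
  haveI := hqc
  let p := X ↘ Spec (CommRingCat.of k)
  let t : Spec (CommRingCat.of K) ⟶ Spec (CommRingCat.of k) := Spec.map (CommRingCat.ofHom (algebraMap k K))
  haveI : Surjective t := Groth.Agent.H17.ConsProp.surjective_of_subsingleton t
  haveI : Flat t := by
    rw [HasRingHomProperty.Spec_iff (P := @Flat)]
    show (algebraMap k K).Flat
    rw [RingHom.flat_algebraMap_iff]
    infer_instance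
  have ht : Groth.Agent.H18Descent.fpqc t := ⟨⟨inferInstance, inferInstance⟩, inferInstance⟩
  haveI : MorphismProperty.DescendsAlong @LocallyOfFiniteType Groth.Agent.H18Descent.fpqc.{u} :=
    inferInstanceAs (MorphismProperty.DescendsAlong @LocallyOfFiniteType (@Surjective ⊓ @Flat ⊓ @QuasiCompact))
  obtain ⟨L, hL⟩ := Groth.Agent.LeadAmpDesc.exists_isAmple_of_fieldExt p K
    (Groth.Agent.H11Ample.isRelAmple_iff_isAmple_of_isAffine.1 hL')
  haveI : CompactSpace X := Groth.Agent.H11Ample.compactSpace_of_isAmple hL
  haveI hq : QuasiCompact p := (quasiCompact_iff_compactSpace p).mpr inferInstance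
  exact ⟨MorphismProperty.of_pullback_snd_of_descendsAlong (P := @LocallyOfFiniteType)
      (Q := Groth.Agent.H18Descent.fpqc) ht hft, hq,
    L, Groth.Agent.H11Ample.isRelAmple_iff_isAmple_of_isAffine.2 hL⟩

end Groth.Agent.S7630
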