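import Groth.Statements.S7631
import Mathlib
import Groth.Agent.H22Alg.QuotUnivHomeo

set_option autoImplicit false
universe u
open CategoryTheory CategoryTheory.Limits AlgebraicGeometry
open Variety

namespace Groth.Agent.S7631

/-- Let f : A → X and g : B → Y be quasi-compact morphisms of schemes over a field k and F = f × g : A
×_k B → X ×_k Y. Then the scheme-theoretic image of F is Z ×_k Z', where Z ⊆ X and Z' ⊆ Y are the
scheme-theoretic images of f and g: in terms of kernel ideal sheaves, ker F is the sum of the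
pullback of ker f along the first projection and of ker g along the second. -/
theorem result (k : Type u) [Field k] (X : Scheme.{u}) [X.Over (Spec (CommRingCat.of k))] (Y : Scheme.{u}) [Y.Over (Spec (CommRingCat.of k))]
    (A B : Scheme.{u}) [A.Over (Spec (CommRingCat.of k))] [B.Over (Spec (CommRingCat.of k))]
    (f : A ⟶ X) [f.IsOver (Spec (CommRingCat.of k))] [QuasiCompact f] (g : B ⟶ Y) [g.IsOver (Spec (CommRingCat.of k))] [QuasiCompact g]
    (F : pullback (A ↘ (Spec (CommRingCat.of k))) (B ↘ (Spec (CommRingCat.of k))) ⟶ pullback (X ↘ (Spec (CommRingCat.of k))) (Y ↘ (Spec (CommRingCat.of k))))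
    (hF₁ : F ≫ pullback.fst (X ↘ (Spec (CommRingCat.of k))) (Y ↘ (Spec (CommRingCat.of k))) = pullback.fst (A ↘ (Spec (CommRingCat.of k))) (B ↘ (Spec (CommRingCat.of k))) ≫ f)
    (hF₂ : F ≫ pullback.snd (X ↘ (Spec (CommRingCat.of k))) (Y ↘ (Spec (CommRingCat.of k))) = pullback.snd (A ↘ (Spec (CommRingCat.of k))) (B ↘ (Spec (CommRingCat.of k))) ≫ g) :
    F.ker = f.ker.comap (pullback.fst (X ↘ (Spec (CommRingCat.of k))) (Y ↘ (Spec (CommRingCat.of k)))) ⊔ g.ker.comap (pullback.snd (X ↘ (Spec (CommRingCat.of k))) (Y ↘ (Spec (CommRingCat.of k)))) := by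
  let sX := X ↘ (Spec (CommRingCat.of k))
  let sY := Y ↘ (Spec (CommRingCat.of k))
  let sA := A ↘ (Spec (CommRingCat.of k))
  let sB := B ↘ (Spec (CommRingCat.of k))
  let sZ := f.imageι ≫ sX
  let sW := g.imageι ≫ sY
  let a := f.toImage
  let b := g.toImage
  have hfA : f ≫ sX = sA := comp_over f (Spec (CommRingCat.of k))
  have hgB : g ≫ sY = sB := comp_over g (Spec (CommRingCat.of k))
  have ha : a ≫ sZ = sA := by rw [← Category.assoc, f.toImage_imageι, hfA]
  have hb : b ≫ sW = sB := by rw [← Category.assoc, g.toImage_imageι, hgB]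
  haveI : QuasiCompact a := inferInstance
  haveI : IsSchemeTheoreticallyDominant a := ⟨Groth.Agent.H22Alg.QuotUnivHomeo.ker_toImage f⟩
  haveI : IsSchemeTheoreticallyDominant b := ⟨Groth.Agent.H22Alg.QuotUnivHomeo.ker_toImage g⟩
  haveI : Flat sZ := inferInstance
  haveI : Flat sW := inferInstance
  haveI : Flat sA := inferInstance
  let m₁ : pullback sA sW ⟶ pullback sZ sW := pullback.lift (pullback.fst sA sW ≫ a) (pullback.snd sA sW)
    (by rw [Category.assoc, ha, pullback.condition])
  let m₂ : pullback sA sB ⟶ pullback sA sW := pullback.lift (pullback.fst sA sB) (pullback.snd sA sB ≫ b)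
    (by rw [Category.assoc, hb, pullback.condition])
  have H₁ : IsPullback (pullback.fst sA sW) m₁ a (pullback.fst sZ sW) := by
    refine (IsPullback.of_right ?_ (pullback.lift_fst _ _ _) ((IsPullback.of_hasPullback sZ sW).flip)).flip
    rw [pullback.lift_snd, ha]
    exact (IsPullback.of_hasPullback sA sW).flip
  have H₂ : IsPullback (pullback.snd sA sB) m₂ b (pullback.snd sA sW) := by
    refine (IsPullback.of_right ?_ (pullback.lift_snd _ _ _) (IsPullback.of_hasPullback sA sW)).flip
    rw [pullback.lift_fst, hb]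
    exact IsPullback.of_hasPullback sA sB
  haveI : Flat (pullback.fst sZ sW) := MorphismProperty.pullback_fst _ _ inferInstance
  haveI : Flat (pullback.snd sA sW) := MorphismProperty.pullback_snd _ _ inferInstance
  haveI : IsSchemeTheoreticallyDominant m₁ := IsSchemeTheoreticallyDominant.of_isPullback H₁
  haveI : IsSchemeTheoreticallyDominant m₂ := IsSchemeTheoreticallyDominant.of_isPullback H₂
  let j : pullback sZ sW ⟶ pullback sX sY := pullback.map sZ sW sX sY f.imageι g.imageι (𝟙 _)
    (Category.comp_id _) (Category.comp_id _)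
  have hF : F = (m₂ ≫ m₁) ≫ j := by
    apply pullback.hom_ext
    · refine hF₁.trans ?_
      show pullback.fst sA sB ≫ f = ((m₂ ≫ m₁) ≫ j) ≫ pullback.fst sX sY
      simp only [m₁, m₂, j, a, Category.assoc, pullback.lift_fst, pullback.lift_fst_assoc, Scheme.Hom.toImage_imageι]
    · refine hF₂.trans ?_
      show pullback.snd sA sB ≫ g = ((m₂ ≫ m₁) ≫ j) ≫ pullback.snd sX sY
      simp only [m₁, m₂, j, b, Category.assoc, pullback.lift_snd, pullback.lift_snd_assoc, Scheme.Hom.toImage_imageι]
  rw [hF, Scheme.Hom.ker_comp, (m₂ ≫ m₁).ker_eq_bot, Scheme.IdealSheafData.map_bot]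
  refine le_antisymm ?_ (sup_le ?_ ?_)
  · let J := f.ker.comap (pullback.fst sX sY) ⊔ g.ker.comap (pullback.snd sX sY)
    let t := J.subschemeι
    have h1 : f.imageι.ker ≤ (t ≫ pullback.fst sX sY).ker := by
      rw [Scheme.IdealSheafData.ker_subschemeι, Scheme.Hom.ker_comp, Scheme.IdealSheafData.ker_subschemeι,
        Scheme.IdealSheafData.le_map_iff_comap_le]
      exact le_sup_left
    have h2 : g.imageι.ker ≤ (t ≫ pullback.snd sX sY).ker := by
      rw [Scheme.IdealSheafData.ker_subschemeι, Scheme.Hom.ker_comp, Scheme.IdealSheafData.ker_subschemeι,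
        Scheme.IdealSheafData.le_map_iff_comap_le]
      exact le_sup_right
    let l₁ := IsClosedImmersion.lift f.imageι (t ≫ pullback.fst sX sY) h1
    let l₂ := IsClosedImmersion.lift g.imageι (t ≫ pullback.snd sX sY) h2
    let l : J.subscheme ⟶ pullback sZ sW := pullback.lift l₁ l₂ (by
      rw [← Category.assoc, ← Category.assoc, IsClosedImmersion.lift_fac, IsClosedImmersion.lift_fac,
        Category.assoc, Category.assoc, pullback.condition])
    have hl : l ≫ j = t := by
      apply pullback.hom_ext
      · simp only [l, j, l₁, Category.assoc, pullback.lift_fst, pullback.lift_fst_assoc, IsClosedImmersion.lift_fac]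
      · simp only [l, j, l₂, Category.assoc, pullback.lift_snd, pullback.lift_snd_assoc, IsClosedImmersion.lift_fac]
    calc j.ker ≤ (l ≫ j).ker := l.le_ker_comp j
      _ = J := by rw [hl, Scheme.IdealSheafData.ker_subschemeι]
  · rw [← Scheme.IdealSheafData.le_map_iff_comap_le, ← Scheme.Hom.ker_comp]
    have : j ≫ pullback.fst sX sY = pullback.fst sZ sW ≫ f.imageι := pullback.lift_fst _ _ _
    rw [this]
    exact (Scheme.IdealSheafData.ker_subschemeι f.ker).ge.trans ((pullback.fst sZ sW).le_ker_comp _)
  · rw [← Scheme.IdealSheafData.le_map_iff_comap_le, ← Scheme.Hom.ker_comp]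
    have : j ≫ pullback.snd sX sY = pullback.snd sZ sW ≫ g.imageι := pullback.lift_snd _ _ _
    rw [this]
    exact (Scheme.IdealSheafData.ker_subschemeι g.ker).ge.trans ((pullback.snd sZ sW).le_ker_comp _)

end Groth.Agent.S7631
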