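import Groth.Statements.S7632
import Groth.Agent.H7Lim.GRStrat
-- import your own Groth.Agent.* helpers here

set_option autoImplicit false
universe u
open CategoryTheory CategoryTheory.Limits AlgebraicGeometry
open Variety

namespace Groth.Agent.S7632

/-- Let X be a scheme of finite type over a field k. Then one can find a finite purely inseparable field
extension k'/k, some t ≥ 0, and a descending chain Z_0 ⊇ … ⊇ Z_t = ∅ of closed subschemes of X_{k'},
given by an increasing chain of quasi-coherent ideal sheaves I_0 ≤ … ≤ I_t = O on X_{k'}, such that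
Z_0 = (X_{k'})_red (I_0 is the ideal of nilpotents) and the open subscheme Z_i ∖ Z_{i+1} of Z_i is
smooth over k' for every i < t. -/
theorem result (k : Type u) [Field k] (X : Scheme.{u}) [X.Over (Spec (CommRingCat.of k))] [LocallyOfFiniteType (X ↘ (Spec (CommRingCat.of k)))] [QuasiCompact (X ↘ (Spec (CommRingCat.of k)))] :
    ∃ (k' : Type u) (_ : Field k') (_ : Algebra k k') (_ : FiniteDimensional k k') (_ : IsPurelyInseparable k k')
      (t : ℕ) (I : Fin (t + 1) → (Curv2.bc k X k').IdealSheafData),
      Monotone I ∧ I 0 = Scheme.IdealSheafData.vanishingIdeal ⊤ ∧ I (Fin.last t) = ⊤ ∧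
        ∀ i : Fin t,
          Smooth (((I i.castSucc).subschemeι ⁻¹ᵁ (I i.succ).support.compl).ι ≫ (I i.castSucc).subschemeι ≫ Curv2.bcSnd k X k') := by
  let f := X ↘ Spec (CommRingCat.of k)
  obtain ⟨U, V, v, hη, hs, hu, hflf, hstrat⟩ := Groth.Agent.H8Props.SmoothStrat.gen_main f
  haveI : IsFinite v := hflf.1
  obtain ⟨z, -⟩ := hs.surj ⟨_, hη⟩
  let k' := V.residueField z
  let h := v ≫ U.ι
  let τ := V.fromSpecResidueField z ≫ h
  obtain ⟨α, hα⟩ := Spec.map_surjective τ
  letI : Algebra k k' := α.hom.toAlgebra
  have hαalg : Spec.map (CommRingCat.ofHom (algebraMap k k')) = τ := hα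
  haveI hui : UniversallyInjective τ := by
    haveI : UniversallyInjective (V.fromSpecResidueField z) := inferInstance
    haveI : UniversallyInjective U.ι := inferInstance
    exact MorphismProperty.comp_mem _ _ _ ‹_› (MorphismProperty.comp_mem _ _ _ hu ‹_›)
  haveI : LocallyOfFiniteType τ := by
    haveI : LocallyOfFiniteType (V.fromSpecResidueField z) := by
      haveI : Subsingleton ↥(U : Scheme.{u}) := ⟨fun a b => Subtype.ext (Subsingleton.elim (α := PrimeSpectrum k) _ _)⟩
      exact Groth.Agent.H7Lim.GRStrat.locallyOfFiniteType_fromSpecResidueField v z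
    infer_instance
  haveI : Algebra.FiniteType k k' :=
    (HasRingHomProperty.Spec_iff (P := @LocallyOfFiniteType)).1 (hαalg ▸ ‹LocallyOfFiniteType τ› :
      LocallyOfFiniteType (Spec.map (CommRingCat.ofHom (algebraMap k k'))))
  haveI : FiniteDimensional k k' := finite_of_finite_type_of_isJacobsonRing k k'
  haveI : IsPurelyInseparable k k' := Groth.Agent.H7Lim.GRStrat.isPurelyInseparable_of_universallyInjective k k'
    (hαalg ▸ hui)
  let σ := Spec.map (CommRingCat.ofHom (algebraMap k k'))
  let m : pullback f σ ⟶ pullback f h := pullback.map f σ f h (𝟙 _) (V.fromSpecResidueField z) (𝟙 _)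
    (by simp) (by rw [Category.comp_id]; exact hαalg)
  have hm : IsPullback m (pullback.snd f σ) (pullback.snd f h) (V.fromSpecResidueField z) := by
    refine IsPullback.of_right (h₁₂ := pullback.fst f h) (h₂₂ := h) (v₁₃ := f) ?_ (pullback.lift_snd _ _ _)
      (IsPullback.of_hasPullback f h)
    rw [show m ≫ pullback.fst f h = pullback.fst f σ from (pullback.lift_fst _ _ _).trans (Category.comp_id _),
      show V.fromSpecResidueField z ≫ h = σ from hαalg.symm]
    exact IsPullback.of_hasPullback f σ
  obtain ⟨t, I, h1, h2, h3, h4⟩ := Groth.Agent.H7Lim.GRStrat.exists_reduced_ideals (hstrat.baseChange hm)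
  exact ⟨k', inferInstance, inferInstance, inferInstance, inferInstance, t, I, h1, h2, h3, h4⟩

end Groth.Agent.S7632
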