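import Groth.Statements.S7633
import Groth.Agent.H7PSBC.Main
import Groth.Agent.H7PSBC.Scheme
import Groth.Agent.S7627
-- import your own Groth.Agent.* helpers here

set_option autoImplicit false
universe u
open CategoryTheory CategoryTheory.Limits AlgebraicGeometry
attribute [local instance] Curv2.stalkAlgebra Curv2.resAlgebra
open Variety

namespace Groth.Agent.S7633

/-- Let X be locally of finite type over a field k, K an extension field of k, y a point of X_K with
image x in X; assume dim O_{X, x} = dim O_{X_K, y} and that κ(x) is separable over k (Spec κ(x) →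
Spec k geometrically reduced). Let e : κ(x)[[x_1, …, x_n]]/(g_1, …, g_m) ≅ O_{X, x}^∧ be a k-algebra
isomorphism onto the completion inducing the identity on residue fields (for every a in O_{X, x}, e
applied to the constant with value the residue class of a is congruent to a modulo the extended
maximal ideal). Then, viewing the g_j over κ(y) through κ(x) → κ(y), there is a K-algebra
isomorphism κ(y)[[x_1, …, x_n]]/(g_1, …, g_m) ≅ O_{X_K, y}^∧ with the same residue property. -/
theorem result (k : Type u) [Field k] (X : Scheme.{u}) [X.Over (Spec (CommRingCat.of k))] [LocallyOfFiniteType (X ↘ (Spec (CommRingCat.of k)))]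
    (K : Type u) [Field K] [Algebra k K] (y : ↥(Curv2.bc k X K))
    (hdim : ringKrullDim ↥(X.presheaf.stalk (Curv2.bcFst k X K y)) = ringKrullDim ↥((Curv2.bc k X K).presheaf.stalk y))
    (hsep : GeometricallyReduced (Spec.map (CommRingCat.ofHom (Curv2.resMap k X (Curv2.bcFst k X K y)))))
    (n m : ℕ) (g : Fin m → MvPowerSeries (Fin n) ↥(X.residueField (Curv2.bcFst k X K y)))
    (e : (MvPowerSeries (Fin n) ↥(X.residueField (Curv2.bcFst k X K y)) ⧸ Ideal.span (Set.range g)) ≃ₐ[k]
      AdicCompletion (IsLocalRing.maximalIdeal ↥(X.presheaf.stalk (Curv2.bcFst k X K y))) ↥(X.presheaf.stalk (Curv2.bcFst k X K y)))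
    (he : ∀ a : ↥(X.presheaf.stalk (Curv2.bcFst k X K y)),
      e (Ideal.Quotient.mk _ (MvPowerSeries.C ((X.residue (Curv2.bcFst k X K y)).hom a))) -
          algebraMap ↥(X.presheaf.stalk (Curv2.bcFst k X K y)) (AdicCompletion (IsLocalRing.maximalIdeal ↥(X.presheaf.stalk (Curv2.bcFst k X K y))) ↥(X.presheaf.stalk (Curv2.bcFst k X K y))) a ∈
        (IsLocalRing.maximalIdeal ↥(X.presheaf.stalk (Curv2.bcFst k X K y))).map (algebraMap ↥(X.presheaf.stalk (Curv2.bcFst k X K y)) (AdicCompletion (IsLocalRing.maximalIdeal ↥(X.presheaf.stalk (Curv2.bcFst k X K y))) ↥(X.presheaf.stalk (Curv2.bcFst k X K y))))) :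
    letI : (Curv2.bc k X K).Over (Spec (CommRingCat.of K)) := ⟨Curv2.bcSnd k X K⟩
    ∃ e' : (MvPowerSeries (Fin n) ↥((Curv2.bc k X K).residueField y) ⧸ Ideal.span (Set.range (fun j =>
        MvPowerSeries.map (σ := Fin n) ((Curv2.bcFst k X K).residueFieldMap y).hom (g j)))) ≃ₐ[K]
          AdicCompletion (IsLocalRing.maximalIdeal ↥((Curv2.bc k X K).presheaf.stalk y)) ↥((Curv2.bc k X K).presheaf.stalk y),
      ∀ b : ↥((Curv2.bc k X K).presheaf.stalk y),
        e' (Ideal.Quotient.mk _ (MvPowerSeries.C (((Curv2.bc k X K).residue y).hom b))) -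
            algebraMap ↥((Curv2.bc k X K).presheaf.stalk y) (AdicCompletion (IsLocalRing.maximalIdeal ↥((Curv2.bc k X K).presheaf.stalk y)) ↥((Curv2.bc k X K).presheaf.stalk y)) b ∈
          (IsLocalRing.maximalIdeal ↥((Curv2.bc k X K).presheaf.stalk y)).map (algebraMap ↥((Curv2.bc k X K).presheaf.stalk y) (AdicCompletion (IsLocalRing.maximalIdeal ↥((Curv2.bc k X K).presheaf.stalk y)) ↥((Curv2.bc k X K).presheaf.stalk y))) := by
  letI : (Curv2.bc k X K).Over (Spec (CommRingCat.of K)) := ⟨Curv2.bcSnd k X K⟩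
  let q := X ↘ (Spec (CommRingCat.of k))
  let σ := Spec.map (CommRingCat.ofHom (algebraMap k K))
  haveI : LocallyOfFiniteType (Curv2.bcSnd k X K) := MorphismProperty.pullback_snd q σ inferInstance
  haveI : IsLocallyNoetherian X := LocallyOfFiniteType.isLocallyNoetherian q
  haveI : IsLocallyNoetherian (Curv2.bc k X K) := LocallyOfFiniteType.isLocallyNoetherian (Curv2.bcSnd k X K)
  haveI : Flat (Curv2.bcFst k X K) := by
    haveI : Flat σ := inferInstance
    exact MorphismProperty.pullback_fst q σ inferInstance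
  letI : Algebra (X.presheaf.stalk (Curv2.bcFst k X K y)) ((Curv2.bc k X K).presheaf.stalk y) :=
    ((Curv2.bcFst k X K).stalkMap y).hom.toAlgebra
  haveI : IsLocalHom (algebraMap (X.presheaf.stalk (Curv2.bcFst k X K y)) ((Curv2.bc k X K).presheaf.stalk y)) :=
    inferInstanceAs (IsLocalHom ((Curv2.bcFst k X K).stalkMap y).hom)
  haveI : Module.Flat (X.presheaf.stalk (Curv2.bcFst k X K y)) ((Curv2.bc k X K).presheaf.stalk y) :=
    Flat.stalkMap (Curv2.bcFst k X K) y
  have hred := H7PSBC.isReduced_tensor k X K (Curv2.bcFst k X K y) hsep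
  have hm := S7627.result k X K y hdim hred
  letI : Algebra k (IsLocalRing.ResidueField (X.presheaf.stalk (Curv2.bcFst k X K y))) :=
    Curv2.resAlgebra k X (Curv2.bcFst k X K y)
  obtain ⟨e', h1, h2⟩ := H7PSBC.exists_presentation_baseChange
    (R := X.presheaf.stalk (Curv2.bcFst k X K y)) (R' := (Curv2.bc k X K).presheaf.stalk y) hm
    (Curv2.stalkMap k X (Curv2.bcFst k X K y)) (Curv2.stalkMap K (Curv2.bc k X K) y)
    (H7PSBC.stalkMap_comm k X K y) (fun _ => rfl) (H7PSBC.resPair k X K y) (H7PSBC.resPair_left k X K y)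
    (H7PSBC.resPair_right k X K y) (H7PSBC.exists_frac k X K y) (H7PSBC.exists_mul_eq_zero k X K y hm)
    n m g e.toRingEquiv (fun c => by
      have h := e.commutes c
      rw [IsScalarTower.algebraMap_apply k (MvPowerSeries (Fin n) ↥(X.residueField (Curv2.bcFst k X K y))),
        MvPowerSeries.algebraMap_apply,
        IsScalarTower.algebraMap_apply k ↥(X.presheaf.stalk (Curv2.bcFst k X K y))
          (AdicCompletion (IsLocalRing.maximalIdeal ↥(X.presheaf.stalk (Curv2.bcFst k X K y))) ↥(X.presheaf.stalk (Curv2.bcFst k X K y)))] at h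
      exact h) he
  refine ⟨AlgEquiv.ofRingEquiv (f := e') (fun c => ?_), h2⟩
  rw [IsScalarTower.algebraMap_apply K (MvPowerSeries (Fin n) ↥((Curv2.bc k X K).residueField y)),
    MvPowerSeries.algebraMap_apply, IsScalarTower.algebraMap_apply K ↥((Curv2.bc k X K).presheaf.stalk y)
      (AdicCompletion (IsLocalRing.maximalIdeal ↥((Curv2.bc k X K).presheaf.stalk y)) ↥((Curv2.bc k X K).presheaf.stalk y))]
  exact h1 c

end Groth.Agent.S7633
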