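import Groth.Statements.S7634
import Mathlib
import Groth.Agent.S7619
import Groth.Agent.H3CAlg.EtaEtale

set_option autoImplicit false
universe u
open CategoryTheory CategoryTheory.Limits AlgebraicGeometry
open scoped TensorProduct
open Variety

namespace Groth.Agent.S7634

/-- Let A → B be a finite type ring map, q a prime of B and r = dim_{κ(q)} Ω_{B/A} ⊗_B κ(q). Then there
are g in B with g not in q, an A-algebra D which is standard smooth of relative dimension r over A,
and a surjective A-algebra homomorphism D → B[1/g]; that is, the principal open D(g) containing q is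
a closed subscheme of Spec D with D smooth of relative dimension r over A. (The published statement
is for a morphism X → S locally of finite type, a point x and an affine open V ⊆ S under it, and
gives an affine open neighbourhood of x with a closed immersion over V into a scheme smooth of
relative dimension r over V; this row states the case X = Spec B, S = Spec A, with the neighbourhood
a principal open D(g) and the smooth scheme standard smooth.) -/
theorem result (A B : Type u) [CommRing A] [CommRing B] [Algebra A B] [Algebra.FiniteType A B]
    (q : Ideal B) [q.IsPrime] (r : ℕ) (hr : Module.finrank q.ResidueField (q.ResidueField ⊗[B] Ω[B⁄A]) = r) :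
    ∃ g : B, g ∉ q ∧ ∃ (D : Type u) (_ : CommRing D) (_ : Algebra A D),
      Algebra.IsStandardSmoothOfRelativeDimension r A D ∧
        ∃ φ : D →ₐ[A] Localization.Away g, Function.Surjective φ := by
  obtain ⟨φ₀, hφ₀⟩ := Groth.Agent.S7619.result A B q r hr
  letI : Algebra (MvPolynomial (Fin r) A) B := φ₀.toRingHom.toAlgebra
  haveI : IsScalarTower A (MvPolynomial (Fin r) A) B :=
    IsScalarTower.of_algebraMap_eq fun a => (φ₀.commutes a).symm
  haveI : Algebra.IsUnramifiedAt (MvPolynomial (Fin r) A) q := hφ₀
  haveI : Algebra.FiniteType (MvPolynomial (Fin r) A) B :=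
    Algebra.FiniteType.of_restrictScalars_finiteType A (MvPolynomial (Fin r) A) B
  obtain ⟨g, hg, P, φ, hφ⟩ :=
    Algebra.IsUnramifiedAt.exists_hasStandardEtaleSurjectionOn (R := MvPolynomial (Fin r) A) q
  letI : Algebra A P.Ring := ((algebraMap (MvPolynomial (Fin r) A) P.Ring).comp (algebraMap A (MvPolynomial (Fin r) A))).toAlgebra
  haveI : IsScalarTower A (MvPolynomial (Fin r) A) P.Ring := IsScalarTower.of_algebraMap_eq fun _ => rfl
  refine ⟨g, hg, P.Ring, inferInstance, inferInstance, ?_, φ.restrictScalars A, hφ⟩
  haveI := Groth.Agent.H3CAlg.EtaEtale.isStandardSmooth_mvPolynomial A r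
  haveI : Algebra.IsStandardSmoothOfRelativeDimension 0 (MvPolynomial (Fin r) A) P.Ring :=
    Algebra.Etale.iff_isStandardSmoothOfRelativeDimension_zero.mp inferInstance
  simpa using Algebra.IsStandardSmoothOfRelativeDimension.trans (n := r) (m := 0) A (MvPolynomial (Fin r) A) P.Ring

end Groth.Agent.S7634
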