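import Groth.Statements.S7636
import Mathlib
import Groth.Agent.H28Int.FieldExt
import Groth.Agent.H22Alg.SnapperCoeff
import Groth.Agent.H22Alg.KPullLam
import Groth.Agent.H22Alg.PnDeg0

set_option autoImplicit false
universe u
open CategoryTheory CategoryTheory.Limits AlgebraicGeometry
open Variety

namespace Groth.Agent.S7636

/-- Let X be proper of dimension at most one over a field k, let k' be a field extension of k and let E
be a finite locally free module of rank n on X. Then the degree of the pullback of E to the base
change X_{k'}, computed over k', equals the degree of E over k. -/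
theorem result (k : Type u) [Field k] (X : Scheme.{u}) [X.Over (Spec (CommRingCat.of k))] [IsProper (X ↘ (Spec (CommRingCat.of k)))]
    (hdim : topologicalKrullDim X ≤ 1) (k' : Type u) [Field k'] [Algebra k k']
    (n : ℕ) (E : X.Modules) (hE : FlatMod.IsFinLocFreeOfRank n E) :
    @Curv2.deg k' _ (Curv2.bc k X k') ⟨Curv2.bcSnd k X k'⟩
        ((Scheme.Modules.pullback (Curv2.bcFst k X k')).obj E) n = Curv2.deg k X E n := by
  letI : (Curv2.bc k X k').Over (Spec (CommRingCat.of k')) := ⟨Curv2.bcSnd k X k'⟩
  haveI : IsProper (Curv2.bc k X k' ↘ Spec (CommRingCat.of k')) :=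
    inferInstanceAs (IsProper (pullback.snd (X ↘ Spec (CommRingCat.of k)) (Spec.map (CommRingCat.ofHom (algebraMap k k')))))
  haveI := H28Int.isNoetherian k (X := X)
  obtain ⟨e⟩ := H11Ample.nonempty_pullback_structureModule_iso (Curv2.bcFst k X k')
  have hEc : Coh.IsCoh E := H16Derived.KFlat.Stalk.isCoh_of_isFinLocFree (H22Alg.KPullLam.finLocFree_of_rank hE)
  have hO : Coh.IsCoh (Coh.structureModule X) := H16Derived.KFlat.Stalk.isCoh_of_isFinLocFree (H22Alg.PnVan.finLocFree_of_inv (H22Alg.PnDeg0.isInvertible_structure X))
  unfold Curv2.deg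
  rw [H28Int.FieldExt.euler_bc k' (IsPullback.of_hasPullback _ _) hEc, ← H25Euler.euler_congr (k := k') e,
    H28Int.FieldExt.euler_bc k' (IsPullback.of_hasPullback _ _) hO]

end Groth.Agent.S7636
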