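import Groth.Statements.S7639
import Mathlib
import Groth.Agent.H22Alg.GlobalFunctions
import Groth.Agent.H28Int.Core

set_option autoImplicit false
universe u
open CategoryTheory CategoryTheory.Limits AlgebraicGeometry
attribute [local instance] Curv2.resAlgebra
open Variety

namespace Groth.Agent.S7639

/-- Let X be a proper scheme over a field k which is reduced and connected, and let κ = Γ(X, O_X). Then
κ is a field, finite over k, and w = [κ : k] divides (1) the degree of every finite locally free
module of constant rank, (2) the degree [κ(x) : k] of every closed point x, and (3) the degree dim_k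
H^0(X, O_D) of every closed subscheme D of dimension zero (or empty). (The published statement uses
the degree of E, which it defines only for X of dimension at most one; this row states (1) for the
integer χ(E) − n·χ(O_X) with no bound on the dimension of X.) -/
theorem result (k : Type u) [Field k] (X : Scheme.{u}) [X.Over (Spec (CommRingCat.of k))] [IsProper (X ↘ (Spec (CommRingCat.of k)))] [IsReduced X] [ConnectedSpace X] :
    letI : Algebra k Γ(X, ⊤) := ((X ↘ (Spec (CommRingCat.of k))).appTop.hom.comp
      (Scheme.ΓSpecIso (CommRingCat.of k)).inv.hom).toAlgebra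
    IsField Γ(X, ⊤) ∧ Module.Finite k Γ(X, ⊤) ∧
      (∀ (n : ℕ) (E : X.Modules), FlatMod.IsFinLocFreeOfRank n E →
        (Module.finrank k Γ(X, ⊤) : ℤ) ∣ Curv2.deg k X E n) ∧
      (∀ x : X, IsClosed ({x} : Set X) →
        Module.finrank k Γ(X, ⊤) ∣ Module.finrank k (X.residueField x)) ∧
      (∀ D : X.IdealSheafData, topologicalKrullDim D.subscheme ≤ 0 →
        Module.finrank k Γ(X, ⊤) ∣ Module.finrank k (Coh.HH X (ClSub.quotMod D) 0)) := by
  let f := X ↘ (Spec (CommRingCat.of k))
  let φ : k →+* Γ(X, ⊤) := Groth.Agent.H10Coh.globA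
  letI : Algebra k Γ(X, ⊤) := φ.toAlgebra
  have hF : IsField Γ(X, ⊤) := Groth.Agent.H22Alg.GlobalFunctions.isField_of_universallyClosed f
  have hfin : Module.Finite k Γ(X, ⊤) := Groth.Agent.H22Alg.GlobalFunctions.finite_algΓ f
  letI : Field Γ(X, ⊤) := hF.toField
  have hH : ∀ (M : X.Modules) (n : ℕ), Module.finrank k Γ(X, ⊤) ∣ Module.finrank k (Coh.HH X M n) := by
    intro M n
    rw [Groth.Agent.H25Euler.finrank_HH]
    letI m₁ := (Groth.Agent.H10Coh.actM (Groth.Agent.H10Coh.globA (A := k) (X := X)) M).mod n ⊤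
    letI m₂ := (Groth.Agent.H10Coh.actM (RingHom.id Γ(X, ⊤)) M).mod n ⊤
    haveI : IsScalarTower k Γ(X, ⊤) (Groth.Agent.H10Coh.HnM M n ⊤) :=
      IsScalarTower.of_algebraMap_smul fun a x => rfl
    exact Dvd.intro _ (Module.finrank_mul_finrank k Γ(X, ⊤) (Groth.Agent.H10Coh.HnM M n ⊤))
  have he : ∀ M : X.Modules, (Module.finrank k Γ(X, ⊤) : ℤ) ∣ Curv2.euler k X M := fun M => by
    haveI := Groth.Agent.H28Int.isNoetherian k (X := X)
    refine finsum_induction (fun z : ℤ => (Module.finrank k Γ(X, ⊤) : ℤ) ∣ z) (dvd_zero _)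
      (fun a b => dvd_add) fun n => ?_
    exact dvd_mul_of_dvd_right (Int.natCast_dvd_natCast.2 (hH M n)) _
  refine ⟨hF, hfin, fun n E _ => dvd_sub (he E) (dvd_mul_of_dvd_right (he _) _), fun x hx => ?_,
    fun D _ => hH _ 0⟩
  letI : Algebra Γ(X, ⊤) (X.residueField x) := (X.evaluation ⊤ x trivial).hom.toAlgebra
  haveI : IsScalarTower k Γ(X, ⊤) (X.residueField x) := IsScalarTower.of_algebraMap_eq fun a => rfl
  exact Dvd.intro _ (Module.finrank_mul_finrank k Γ(X, ⊤) (X.residueField x))

end Groth.Agent.S7639
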