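import Groth.Statements.S7641
import Mathlib
import Groth.Agent.H22Alg.CurveProj

set_option autoImplicit false
universe u
open CategoryTheory CategoryTheory.Limits AlgebraicGeometry
open Variety

namespace Groth.Agent.S7641

/-- Let X be proper over a field k, reduced and connected, with every irreducible component of dimension
one, and let L be an invertible module whose restriction to each irreducible component C, with its
reduced induced structure, has degree at most zero. Then H^0(X, L) = 0 or L is isomorphic to O_X. -/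
theorem result (k : Type u) [Field k] (X : Scheme.{u}) [X.Over (Spec (CommRingCat.of k))] [IsProper (X ↘ (Spec (CommRingCat.of k)))]
    [IsReduced X] [ConnectedSpace X] [IsNoetherian X]
    (hdim : ∀ (C : Set X), C ∈ irreducibleComponents (X : Type u) → topologicalKrullDim C = 1)
    (L : X.Modules) (hL : PicF.IsInvertible L)
    (hdeg : ∀ (C : Set X) (hC : C ∈ irreducibleComponents (X : Type u)), @Curv2.deg k _ (X.irreducibleComponentIdeal C hC).radical.subscheme ⟨(X.irreducibleComponentIdeal C hC).radical.subschemeι ≫ (X ↘ (Spec (CommRingCat.of k)))⟩ ((Scheme.Modules.pullback (X.irreducibleComponentIdeal C hC).radical.subschemeι).obj L) 1 ≤ 0) :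
    Subsingleton (Coh.HH X L 0) ∨ Nonempty (L ≅ Coh.structureModule X) := by
  classical
  refine or_iff_not_imp_left.2 fun hns => ?_
  obtain ⟨g, hg⟩ := Groth.Agent.H29RR.exists_global_ne_zero L (not_subsingleton_iff_nontrivial.1 hns)
  let G := Groth.Agent.H11Ample.gen L g
  have key : ∀ (C : Set X) (hC : C ∈ irreducibleComponents (X : Type u)), (C ∩ G).Nonempty → C ⊆ G := by
    intro C hC ⟨z, hzC, hzG⟩ x hx
    by_contra hxG
    let J := (X.irreducibleComponentIdeal C hC).radical
    have hr : Set.range J.subschemeι = C := by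
      rw [Scheme.IdealSheafData.range_subschemeι]; rfl
    have hCc := isClosed_of_mem_irreducibleComponents C hC
    have hJ : J = Scheme.IdealSheafData.vanishingIdeal (Groth.Agent.H22Alg.DevLength.cl hC.1.genericPoint) := by
      refine Eq.trans Scheme.IdealSheafData.vanishingIdeal_support.symm ?_
      congr 1
      exact SetLike.ext' (hC.1.closure_genericPoint hCc).symm
    haveI : IsIntegral J.subscheme := hJ ▸ Groth.Agent.H22Alg.isIntegral_vanishingIdeal_closure _
    letI : J.subscheme.Over (Spec (CommRingCat.of k)) := ⟨J.subschemeι ≫ (X ↘ Spec (CommRingCat.of k))⟩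
    haveI : IsProper (J.subscheme ↘ Spec (CommRingCat.of k)) := inferInstanceAs (IsProper (J.subschemeι ≫ _))
    have hd : topologicalKrullDim J.subscheme ≤ 1 := by
      rw [J.subschemeι.isClosedEmbedding.isEmbedding.toHomeomorph.isHomeomorph.topologicalKrullDim_eq, hr, hdim C hC]
    have hgen := Groth.Agent.H11Ample.gen_smul_pullSect J.subschemeι hL g (isUnit_one (M := Γ(J.subscheme, ⊤)))
    rw [one_smul] at hgen
    obtain ⟨z', rfl⟩ : z ∈ Set.range J.subschemeι := hr.symm ▸ hzC
    obtain ⟨x', rfl⟩ : x ∈ Set.range J.subschemeι := hr.symm ▸ hx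
    refine absurd (Groth.Agent.H22Alg.CurveProj.deg_pos_of_section k hd
      (Groth.Agent.H11Ample.isInvertible_pullback _ hL) (Groth.Agent.H11Ample.pullTop J.subschemeι g) (y := x') ?_ ?_)
      (not_lt.2 (hdeg C hC))
    · rw [hgen]
      exact (genericPoint_specializes z').mem_open (J.subschemeι ⁻¹ᵁ G).2 hzG
    · rw [hgen]; exact hxG
  have hclosed : IsClosed (G : Set X) := by
    have he : (G : Set X) = ⋃ C ∈ {C | C ∈ irreducibleComponents (X : Type u) ∧ (C ∩ G).Nonempty}, C := by
      refine Set.Subset.antisymm (fun x hx => ?_) (Set.iUnion₂_subset fun C hC => key C hC.1 hC.2)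
      exact Set.mem_iUnion₂.2 ⟨irreducibleComponent x, ⟨irreducibleComponent_mem_irreducibleComponents x,
        x, mem_irreducibleComponent, hx⟩, mem_irreducibleComponent⟩
    rw [he]
    exact (TopologicalSpace.NoetherianSpace.finite_irreducibleComponents.subset fun C hC => hC.1).isClosed_biUnion
      fun C hC => isClosed_of_mem_irreducibleComponents C hC.1
  rcases isClopen_iff.1 ⟨hclosed, G.2⟩ with h0 | h1
  · exfalso
    refine hg (TopCat.Sheaf.eq_of_locally_eq' ⟨L.presheaf, L.isSheaf⟩
      (fun p : Σ V : X.Opens, {e : Γ(L, V) // Groth.Agent.H11Tilde.IsGen L e} => p.1) ⊤ (fun p => homOfLE le_top)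
      (fun x _ => ?_) g 0 fun p => ?_)
    · obtain ⟨V, e, hx, he⟩ := Groth.Agent.H11Ample.exists_gen hL x
      exact TopologicalSpace.Opens.mem_iSup.2 ⟨⟨V, e, he⟩, hx⟩
    · obtain ⟨V, e, he⟩ := p
      obtain ⟨c, hc⟩ := Groth.Agent.H11Ample.exists_coeff he (L.presheaf.map (homOfLE (le_top : V ≤ ⊤)).op g)
      have hb := Groth.Agent.H11Ample.gen_inf_eq_basicOpen he g c hc
      have hc0 : c = 0 := (basicOpen_eq_bot_iff c).1 (by
        rw [← hb]
        exact TopologicalSpace.Opens.ext (by simp [G] at h0; simp [h0]))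
      rw [map_zero]
      exact hc.trans (by rw [hc0, zero_smul])
  · haveI : IsIso (Groth.Agent.H11Tilde.homOfGlobal L g) := Groth.Agent.H11Tilde.isIso_homOfGlobal L g fun V => by
      have h := ((Groth.Agent.H11Ample.isGen_gen (L := L) g).bijective
        (show V ≤ Groth.Agent.H11Ample.gen L g from fun x _ => h1.ge (Set.mem_univ x)))
      simp only [Groth.Agent.H10Coh.mres_mres] at h
      exact h
    exact ⟨(asIso (Groth.Agent.H11Tilde.homOfGlobal L g)).symm⟩

end Groth.Agent.S7641
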