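import Groth.Statements.S7643
import Groth.Agent.H29RR.MonoHom

set_option autoImplicit false
universe u
open CategoryTheory CategoryTheory.Limits AlgebraicGeometry
open Variety

namespace Groth.Agent.S7643

/-- Let X be proper of dimension at most one over a field k and let 0 → E₁ → E₂ → E₃ → 0 be a short
exact sequence of finite locally free modules of constant ranks n₁, n₂, n₃. Then deg(E₂) = deg(E₁) +
deg(E₃). -/
theorem result (k : Type u) [Field k] (X : Scheme.{u}) [X.Over (Spec (CommRingCat.of k))] [IsProper (X ↘ (Spec (CommRingCat.of k)))]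
    (hdim : topologicalKrullDim X ≤ 1) (S : ShortComplex X.Modules) (hS : S.ShortExact)
    (n₁ n₂ n₃ : ℕ) (h₁ : FlatMod.IsFinLocFreeOfRank n₁ S.X₁) (h₂ : FlatMod.IsFinLocFreeOfRank n₂ S.X₂)
    (h₃ : FlatMod.IsFinLocFreeOfRank n₃ S.X₃) :
    Curv2.deg k X S.X₂ n₂ = Curv2.deg k X S.X₁ n₁ + Curv2.deg k X S.X₃ n₃ := by
  haveI := H29RR.isNoetherian_of_proper (k := k) (X := X)
  have hc : ∀ {n : ℕ} {M : X.Modules}, FlatMod.IsFinLocFreeOfRank n M → Coh.IsCoh M := fun {n M} h =>
    H16Derived.KFlat.Stalk.isCoh_of_isFinLocFree fun y => let ⟨U, hU⟩ := h y; ⟨U, n, hU⟩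
  have he := H25Euler.euler_add (k := k) hS (hc h₁) (hc h₂) (hc h₃)
  by_cases hne : Nonempty X
  · obtain ⟨x⟩ := hne
    obtain ⟨f1, g1, r1⟩ := H25Par.finrank_stalk h₁ x
    obtain ⟨f2, g2, r2⟩ := H25Par.finrank_stalk h₂ x
    obtain ⟨f3, g3, r3⟩ := H25Par.finrank_stalk h₃ x
    let T := DerSch.stalkFunctor X x
    have hT := hS.map_of_exact T
    haveI : Module.Free (X.presheaf.stalk x) (T.obj S.X₃) := f3
    haveI : Module.Free (X.presheaf.stalk x) (T.obj S.X₁) := f1
    haveI : Module.Finite (X.presheaf.stalk x) (T.obj S.X₃) := g3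
    haveI : Module.Finite (X.presheaf.stalk x) (T.obj S.X₁) := g1
    obtain ⟨s, hs⟩ := Module.projective_lifting_property (T.map S.g).hom LinearMap.id
      ((ModuleCat.epi_iff_surjective _).1 hT.epi_g)
    have hex : Function.Exact (T.map S.f).hom (T.map S.g).hom :=
      LinearMap.exact_iff.2 hT.exact.moduleCat_range_eq_ker.symm
    obtain ⟨e, -⟩ := hex.splitSurjectiveEquiv ((ModuleCat.mono_iff_injective _).1 hT.mono_f) ⟨s, hs⟩
    have h : n₂ = n₁ + n₃ := by
      rw [← r2, ← r1, ← r3]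
      exact e.finrank_eq.trans Module.finrank_prod
    simp only [Curv2.deg, he, h]
    push_cast
    ring
  · have hz : ∀ M : X.Modules, Curv2.euler k X M = 0 := fun M => H25Euler.euler_eq_zero_of_isZero
      (H16Derived.KFlat.Stalk.isZero_of_stalk fun x => absurd ⟨x⟩ hne)
    simp only [Curv2.deg, hz]
    ring

end Groth.Agent.S7643
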