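import Groth.Statements.S7646
import Mathlib
import Groth.Agent.H22Alg.CurveAffine

set_option autoImplicit false
universe u
open CategoryTheory CategoryTheory.Limits AlgebraicGeometry
open Variety

namespace Groth.Agent.S7646

/-- Let X be separated and of finite type over a field k with dim X ≤ 1, and assume that no irreducible
component of X of dimension one, given its reduced induced structure, is proper over k. Then X is
affine. -/
theorem result (k : Type u) [Field k] (X : Scheme.{u}) [X.Over (Spec (CommRingCat.of k))]
    [IsSeparated (X ↘ (Spec (CommRingCat.of k)))] [LocallyOfFiniteType (X ↘ (Spec (CommRingCat.of k)))]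
    [IsNoetherian X] (hdim : topologicalKrullDim X ≤ 1)
    (h : ∀ (C : Set X) (hC : C ∈ irreducibleComponents (X : Type u)), topologicalKrullDim C = 1 →
      ¬ IsProper ((X.irreducibleComponentIdeal C hC).radical.subschemeι ≫ (X ↘ (Spec (CommRingCat.of k))))) :
    IsAffine X := by
  haveI : QuasiCompact (X ↘ (Spec (CommRingCat.of k))) := inferInstance
  exact Groth.Agent.H22Alg.CurveAffine.isAffine_of_noProperComponent k hdim h

end Groth.Agent.S7646
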