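import Groth.Statements.S7647
import Mathlib
import Groth.Agent.H22Alg.SnapperCoeff
import Groth.Agent.H28Int.Num

set_option autoImplicit false
universe u
open CategoryTheory CategoryTheory.Limits AlgebraicGeometry
open Variety

namespace Groth.Agent.S7647

/-- Let X be proper over a field k, Z ⊆ X a closed subscheme of dimension ≤ 1 and L an invertible
module. Then the intersection number (L · Z), i.e. the coefficient of n in the polynomial computing
χ(X, O_Z ⊗ L^{⊗n}), equals the degree of L|_Z on Z. -/
theorem result (k : Type u) [Field k] (X : Scheme.{u}) [X.Over (Spec (CommRingCat.of k))] [IsProper (X ↘ (Spec (CommRingCat.of k)))]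
    (D : X.IdealSheafData) (hD : topologicalKrullDim (D.support : Set X) ≤ 1)
    (L : X.Modules) (hL : PicF.IsInvertible L) (P : MvPolynomial (Fin 1) ℚ)
    (hP : ∀ n : Fin 1 → ℕ, (Curv2.euler k X (Curv2.tensorPows (ClSub.quotMod D) 1 (fun _ => L) n) : ℚ) = MvPolynomial.eval (fun i => (n i : ℚ)) P) :
    MvPolynomial.coeff (Finsupp.equivFunOnFinite.symm fun _ : Fin 1 => 1) P =
      (@Curv2.deg k _ D.subscheme ⟨D.subschemeι ≫ (X ↘ (Spec (CommRingCat.of k)))⟩
        ((Scheme.Modules.pullback D.subschemeι).obj L) 1 : ℚ) := by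
  haveI := H28Int.isNoetherian k (X := X)
  haveI : IsLocallyNoetherian D.subscheme := LocallyOfFiniteType.isLocallyNoetherian D.subschemeι
  letI : D.subscheme.Over (Spec (CommRingCat.of k)) := ⟨D.subschemeι ≫ (X ↘ (Spec (CommRingCat.of k)))⟩
  have hF : Coh.IsCoh (ClSub.quotMod D) := LeadDev.isCoh_push_structure D.subschemeι
  have hs : CohB1.support (ClSub.quotMod D) ⊆ (D.support : Set X) := fun x hx => by
    by_contra hn
    exact LeadDev.notMem_support_push D.subschemeι (Coh.structureModule D.subscheme)
      (fun hr => hn (D.range_subschemeι ▸ hr)) hx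
  rw [H22Alg.Snapper.coeff_one_eq_D k hF ((H28Int.dim_le_of_subset hs).trans hD) (L := fun _ : Fin 1 => L)
    (fun _ => hL) hP, show List.ofFn (fun _ : Fin 1 => L) = [L] by simp]
  rw [show H28Int.D k [L] (ClSub.quotMod D) = _ from H28Int.Num.D_push_structure k D.subschemeι rfl hL]
  simp only [Curv2.deg]
  push_cast
  ring

end Groth.Agent.S7647
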