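import Groth.Statements.S7648
import Mathlib
import Groth.Agent.H22Alg.SnapperCoeff
import Groth.Agent.H28Int.Num
import Groth.Agent.H10Coh.Serre
import Groth.Agent.H29Blow.IdealMod

set_option autoImplicit false
universe u
open CategoryTheory CategoryTheory.Limits AlgebraicGeometry
open Variety

namespace Groth.Agent.S7648

/-- Let X be proper over a field k of dimension e + 1, let D ⊆ X be an effective Cartier divisor and let
L_0, L_1, …, L_e be invertible modules with L_0 ≅ O_X(D), i.e. L_0 ⊗ I_D ≅ O_X. Then (L_0 ⋯ L_e · X)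
= (L_1 ⋯ L_e · D): the coefficient of n_0⋯n_e in the polynomial computing χ(X, ⊗_j L_j^{⊗n_j})
equals the coefficient of n_1⋯n_e in the polynomial computing χ(X, O_D ⊗ L_1^{⊗n_1} ⊗ ⋯ ⊗
L_e^{⊗n_e}). (The published statement has a closed subscheme Z ⊆ X of dimension d with D ⊆ Z and
L_1|_Z ≅ O_Z(D); this row is its case Z = X.) -/
theorem result (k : Type u) [Field k] (X : Scheme.{u}) [X.Over (Spec (CommRingCat.of k))] [IsProper (X ↘ (Spec (CommRingCat.of k)))]
    (e : ℕ) (hX : topologicalKrullDim X = e + 1) (D : X.IdealSheafData) (hD : FGA.IsEffCartier D)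
    (L : Fin (e + 1) → X.Modules) (hL : ∀ j, PicF.IsInvertible (L j))
    (hLD : ClSub.IsInverseOf (L 0) (ClSub.idealMod D))
    (P : MvPolynomial (Fin (e + 1)) ℚ) (Q : MvPolynomial (Fin e) ℚ)
    (hP : ∀ n : Fin (e + 1) → ℕ, (Curv2.euler k X (Curv2.tensorPows (Coh.structureModule X) (e + 1) L n) : ℚ) = MvPolynomial.eval (fun i => (n i : ℚ)) P)
    (hQ : ∀ n : Fin e → ℕ, (Curv2.euler k X (Curv2.tensorPows (ClSub.quotMod D) e (fun j => L j.succ) n) : ℚ) = MvPolynomial.eval (fun i => (n i : ℚ)) Q) :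
    MvPolynomial.coeff (Finsupp.equivFunOnFinite.symm fun _ : Fin (e + 1) => 1) P = MvPolynomial.coeff (Finsupp.equivFunOnFinite.symm fun _ : Fin e => 1) Q := by
  haveI := H28Int.isNoetherian k (X := X)
  haveI : IsLocallyNoetherian D.subscheme := LocallyOfFiniteType.isLocallyNoetherian D.subschemeι
  have hI : PicF.IsInvertible (ClSub.idealMod D) := H29Blow.isInvertible_of_isEffCartierIdeal D hD
  have hOinv : PicF.IsInvertible (Coh.structureModule X) := fun y => ⟨⊤, trivial, ⟨Scheme.Modules.restrictUnitIso _⟩⟩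
  have hO : Coh.IsCoh (Coh.structureModule X) := H11Ample.isCoh_of_isInvertible hOinv
  have hQpoly := hQ
  clear hQ
  have hQ : Coh.IsCoh (ClSub.quotMod D) := LeadDev.isCoh_push_structure D.subschemeι
  have hdO : topologicalKrullDim (CohB1.support (Coh.structureModule X)) ≤ ((e + 1 : ℕ) : WithBot ℕ∞) :=
    (Topology.IsInducing.subtypeVal.topologicalKrullDim_le).trans (by rw [hX]; push_cast; rfl)
  have hs : CohB1.support (ClSub.quotMod D) ⊆ (D.support : Set X) := fun x hx => by
    by_contra hn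
    exact LeadDev.notMem_support_push D.subschemeι (Coh.structureModule D.subscheme)
      (fun hr => hn (D.range_subschemeι ▸ hr)) hx
  have hne : ∀ y ∈ (D.support : Set X), ∃ η, η ⤳ y ∧ η ∉ (D.support : Set X) := fun y hy => by
    obtain ⟨U, hyU, a, ha, hI'⟩ := hD y
    obtain ⟨q, hq, hqP⟩ := Ideal.exists_minimalPrimes_le (bot_le : (⊥ : Ideal Γ(X, U.1)) ≤ (U.2.primeIdealOf ⟨y, hyU⟩).asIdeal)
    haveI := hq.1.1
    refine ⟨U.2.fromSpec ⟨q, inferInstance⟩, ?_, fun hη => ?_⟩
    · have h : (⟨q, inferInstance⟩ : PrimeSpectrum Γ(X, U.1)) ⤳ U.2.primeIdealOf ⟨y, hyU⟩ :=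
        (PrimeSpectrum.le_iff_specializes _ _).1 hqP
      have h' := h.map U.2.fromSpec.continuous
      rwa [IsAffineOpen.fromSpec_primeIdealOf] at h'
    · have hηU : U.2.fromSpec ⟨q, inferInstance⟩ ∈ (U.1 : Set X) := U.2.range_fromSpec ▸ Set.mem_range_self _
      have h1 := ((D.coe_support_inter U).le ⟨hη, hηU⟩).1
      rw [hI', Scheme.zeroLocus_span, Scheme.zeroLocus_singleton] at h1
      refine h1 ?_
      have : (⟨q, inferInstance⟩ : PrimeSpectrum Γ(X, U.1)) ∈ U.2.fromSpec ⁻¹ᵁ X.basicOpen a := by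
        rw [U.2.fromSpec_preimage_basicOpen]
        exact fun haq => Set.disjoint_left.1 (Ideal.disjoint_nonZeroDivisors_of_mem_minimalPrimes hq) haq ha
      exact this
  have hlt := H25Euler.dim_lt_of_forall_ne (D.support : Set X) D.support.isClosed hne (d := e + 1)
    (by rw [hX]; exact_mod_cast Nat.lt_succ_self _)
  have hdQ : topologicalKrullDim (CohB1.support (ClSub.quotMod D)) ≤ (e : WithBot ℕ∞) :=
    (H28Int.dim_le_of_subset hs).trans (H22Alg.Snapper.le_of_lt_succ hlt)
  rw [H22Alg.Snapper.coeff_one_eq_D k hO hdO hL hP, H22Alg.Snapper.coeff_one_eq_D k hQ hdQ (fun j => hL j.succ) hQpoly,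
    List.ofFn_succ]
  have hl : ∀ A ∈ List.ofFn (fun j : Fin e => L j.succ), PicF.IsInvertible A := fun A hA => by
    obtain ⟨j, rfl⟩ := (List.mem_ofFn' _ A).1 hA
    exact hL _
  set l := List.ofFn fun j : Fin e => L j.succ
  have hlen : l.length = e := List.length_ofFn
  have hA := H28Int.isAddFn_D k l hl
  haveI := H10Coh.epi_toSubscheme D
  have hS : (ShortComplex.mk (ClSub.idealModι D) (ClSub.toSubscheme D) (kernel.condition _)).ShortExact :=
    { exact := ShortComplex.exact_kernel _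
      mono_f := inferInstanceAs (Mono (kernel.ι (ClSub.toSubscheme D))) }
  have h1 : H28Int.D k l (Coh.structureModule X) =
      H28Int.D k l (ClSub.idealMod D) + H28Int.D k l (ClSub.quotMod D) :=
    hA.add _ hS (H11Ample.isCoh_of_isInvertible hI) hO hQ
  have h2 : H28Int.D k l (CohB1.tensorMod (ClSub.idealMod D) (Coh.structureModule X)) =
      H28Int.D k l (ClSub.idealMod D) := hA.congr (H10Coh.Tw.rightUnitIso _)
  obtain ⟨φ⟩ := hLD
  have h3 := H28Int.D_cons_tensor k hl (hL 0) hI hO (by rw [hlen]; exact hdO)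
  have h4 : H28Int.D k l (CohB1.tensorMod (CohB1.tensorMod (L 0) (ClSub.idealMod D)) (Coh.structureModule X)) =
      H28Int.D k l (Coh.structureModule X) :=
    hA.congr (H10Coh.Tw.rightUnitIso _ ≪≫ φ)
  have key : H28Int.D k (L 0 :: l) (Coh.structureModule X) = - H28Int.D k l (ClSub.quotMod D) := by
    change H28Int.D k l _ - H28Int.D k l _ = H28Int.D k (L 0 :: l) _ + (H28Int.D k l _ - H28Int.D k l _) at h3
    rw [h2, h4] at h3
    omega
  rw [key]
  push_cast
  ring

end Groth.Agent.S7648
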