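import Groth.Statements.S7649
import Mathlib
import Groth.Agent.H22Alg.DegAmple

set_option autoImplicit false
universe u
open CategoryTheory CategoryTheory.Limits AlgebraicGeometry
open Variety

namespace Groth.Agent.S7649

/-- Let X be proper over a field k of dimension d and L an ample invertible module. With deg_L(X) the
coefficient of n_1⋯n_d in the polynomial computing χ(X, L^{⊗n_1} ⊗ ⋯ ⊗ L^{⊗n_d}) and c =
deg_L(X)/d!, the constant c is positive and dim_k Γ(X, L^{⊗n}) = c·n^d + lower order terms; here the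
lower-order bound is written as |dim_k H^0(X, L^{⊗n}) − c·n^d| ≤ C·(n+1)^{d−1} for a constant C and
all n ≥ 0. -/
theorem result (k : Type u) [Field k] (X : Scheme.{u}) [X.Over (Spec (CommRingCat.of k))] [IsProper (X ↘ (Spec (CommRingCat.of k)))]
    (d : ℕ) (hX : topologicalKrullDim X = d) (L : X.Modules) (hL : CohB1.IsAmple L)
    (P : MvPolynomial (Fin d) ℚ)
    (hP : ∀ n : Fin d → ℕ, (Curv2.euler k X (Curv2.tensorPows (Coh.structureModule X) d (fun _ => L) n) : ℚ) = MvPolynomial.eval (fun i => (n i : ℚ)) P) :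
    0 < MvPolynomial.coeff (Finsupp.equivFunOnFinite.symm fun _ : Fin d => 1) P ∧
      ∃ C : ℚ, ∀ n : ℕ,
        |(Module.finrank k (Coh.HH X (CohB1.tensorPow L n) 0) : ℚ) -
            MvPolynomial.coeff (Finsupp.equivFunOnFinite.symm fun _ : Fin d => 1) P / (d.factorial : ℚ) * (n : ℚ) ^ d| ≤
          C * ((n : ℚ) + 1) ^ (d - 1) := by
  exact ⟨H22Alg.DegAmple.coeff_pos k hX hL hP, H22Alg.DegAmple.hilbert_bound k hX hL hP⟩

end Groth.Agent.S7649
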