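import Groth.Statements.S7650
import Mathlib
import Groth.Agent.H22Alg.SnapperDev

set_option autoImplicit false
universe u
open CategoryTheory CategoryTheory.Limits AlgebraicGeometry
open Variety

namespace Groth.Agent.S7650

/-- Let X be proper over a field k, F a coherent module with dim Supp(F) = d and L_1, …, L_r invertible
modules. The Euler characteristic of F twisted by L_1^{⊗n_1} ⊗ ⋯ ⊗ L_r^{⊗n_r}, minus the sum over
the d-dimensional irreducible components Z of Supp(F) of the length of F at the generic point of Z
times the Euler characteristic on Z of the restricted twist, agrees with a rational polynomial in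
the exponents each of whose monomials has total degree less than d. Here the sum is written over all
points ξ of X whose closure has dimension d (the term vanishes unless ξ is the generic point of a
d-dimensional component of Supp(F)), and Z_ξ carries its reduced induced structure. (The published
statement lets the exponents range over all integers; this row takes them in ℕ.) -/
theorem result (k : Type u) [Field k] (X : Scheme.{u}) [X.Over (Spec (CommRingCat.of k))] [IsProper (X ↘ (Spec (CommRingCat.of k)))]
    (F : X.Modules) (hF : Coh.IsCoh F) (d : ℕ) (hd : topologicalKrullDim (CohB1.support F) = d)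
    (r : ℕ) (L : Fin r → X.Modules) (hL : ∀ i, PicF.IsInvertible (L i)) :
    ∃ P : MvPolynomial (Fin r) ℚ, (∀ m ∈ P.support, (m.sum fun _ e => e) < d) ∧
      ∀ n : Fin r → ℕ,
        (Curv2.euler k X (Curv2.tensorPows F r L n) : ℚ) -
          ∑ᶠ ξ : X, (if topologicalKrullDim (closure ({ξ} : Set X)) = (d : WithBot ℕ∞) then
            ((Module.length (X.presheaf.stalk ξ) (F.presheaf.stalk ξ)).toNat : ℚ) *
              (@Curv2.euler k _
                (Scheme.IdealSheafData.vanishingIdeal (⟨closure ({ξ} : Set X), isClosed_closure⟩ : TopologicalSpace.Closeds X)).subscheme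
                ⟨(Scheme.IdealSheafData.vanishingIdeal (⟨closure ({ξ} : Set X), isClosed_closure⟩ : TopologicalSpace.Closeds X)).subschemeι ≫ (X ↘ (Spec (CommRingCat.of k)))⟩
                (Curv2.tensorPows
                  (Coh.structureModule (Scheme.IdealSheafData.vanishingIdeal (⟨closure ({ξ} : Set X), isClosed_closure⟩ : TopologicalSpace.Closeds X)).subscheme)
                  r (fun i => (Scheme.Modules.pullback
                    (Scheme.IdealSheafData.vanishingIdeal (⟨closure ({ξ} : Set X), isClosed_closure⟩ : TopologicalSpace.Closeds X)).subschemeι).obj (L i)) n) : ℚ)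
            else 0)
          = MvPolynomial.eval (fun i => (n i : ℚ)) P := by
  classical
  haveI := H28Int.isNoetherian k (X := X)
  let T := (H22Alg.DevLength.finite_points hF hd.le).toFinset
  have hT : ∀ ξ, ξ ∈ T ↔ ξ ∈ CohB1.support F ∧ topologicalKrullDim (closure ({ξ} : Set X)) = (d : WithBot ℕ∞) :=
    fun ξ => Set.Finite.mem_toFinset _
  let f : (Fin r → ℕ) → ℚ := fun n => (H22Alg.SnapperDev.defect k F T L [] n : ℚ)
  have hv : H28Int.Diff.Van d f := by
    have h := H22Alg.SnapperDev.van k hF hd.le hL hT d [] (by simp) (by simp) 1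
    simp only [one_mul] at h
    exact h
  have hpoly : ∃ P : MvPolynomial (Fin r) ℚ, (∀ m ∈ P.support, (m.sum fun _ e => e) < d) ∧
      ∀ n : Fin r → ℕ, f n = MvPolynomial.eval (fun i => (n i : ℚ)) P := by
    rcases d with _ | e
    · exact ⟨0, by simp, fun n => by simpa using hv n⟩
    · obtain ⟨P, hP, hP'⟩ := H28Int.Diff.exists_poly r e f hv
      exact ⟨P, fun m hm => Nat.lt_succ_of_le ((MvPolynomial.le_totalDegree hm).trans hP), hP'⟩
  obtain ⟨P, hP, hP'⟩ := hpoly
  refine ⟨P, hP, fun n => ?_⟩
  rw [← hP' n]
  show _ = ((H22Alg.SnapperDev.defect k F T L [] n : ℤ) : ℚ)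
  rw [H22Alg.SnapperDev.defect, Int.cast_sub, Int.cast_sum]
  congr 1
  rw [finsum_eq_sum_of_support_subset _ (s := T) fun ξ hξ => ?_]
  · refine Finset.sum_congr rfl fun ξ hξ => ?_
    rw [if_pos ((hT ξ).1 hξ).2, Int.cast_mul, Int.cast_natCast]
    congr 1
    let J := Scheme.IdealSheafData.vanishingIdeal (H22Alg.DevLength.cl ξ)
    letI : J.subscheme.Over (Spec (CommRingCat.of k)) := ⟨J.subschemeι ≫ (X ↘ (Spec (CommRingCat.of k)))⟩
    obtain ⟨e⟩ := H22Alg.SnapperDev.nonempty_push_tensorPows J.subschemeι (Coh.structureModule J.subscheme) r L hL n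
    haveI : IsLocallyNoetherian J.subscheme := LocallyOfFiniteType.isLocallyNoetherian J.subschemeι
    haveI : IsNoetherian J.subscheme := H10Coh.isNoetherian_of_closed J.subschemeι
    have hO : Coh.IsCoh (Coh.structureModule J.subscheme) :=
      H11Ample.isCoh_of_isInvertible (fun y => ⟨⊤, trivial, ⟨Scheme.Modules.restrictUnitIso _⟩⟩)
    haveI := (H22Alg.Snapper.isCoh_tensorPows hO r (fun i => (Scheme.Modules.pullback J.subschemeι).obj (L i))
      (fun i => H11Ample.isInvertible_pullback _ (hL i)) n).1.1
    exact congrArg (fun z : ℤ => (z : ℚ))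
      (((H28Int.isAddFn_euler k).congr e).trans (H28Int.Push.euler_push k J.subschemeι rfl _)).symm
  · simp only [Function.mem_support, ne_eq, ite_eq_right_iff, not_forall] at hξ
    obtain ⟨h, hne⟩ := hξ
    rw [Finset.mem_coe, hT]
    refine ⟨by_contra fun hs => hne ?_, h⟩
    have : Module.length (X.presheaf.stalk ξ) (F.presheaf.stalk ξ) = 0 := H22Alg.DevLength.len_eq_zero hs
    simp [this]

end Groth.Agent.S7650
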