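import Groth.Statements.S7651
import Mathlib
import Groth.Agent.H22Alg.DimOneLoc

set_option autoImplicit false
universe u
open CategoryTheory CategoryTheory.Limits AlgebraicGeometry
open Variety

namespace Groth.Agent.S7651

/-- Let (A, m) be a Noetherian local ring of dimension one and f ∈ m. Then (1) m = √(f), (2) f lies in
no minimal prime of A, and (3) A_f ≅ ∏_{p minimal} A_p as A-algebras, are equivalent; such an f
exists; if A has depth one, for instance if A is reduced, they are also equivalent to (4) f is a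
nonzerodivisor and to (5) A → A_f is the localization of A at all its nonzerodivisors; and if A is
reduced they are also equivalent to (6) A_f ≅ ∏_{p minimal} κ(p) as A-algebras. -/
theorem result (A : Type u) [CommRing A] [IsLocalRing A]
    [IsNoetherianRing A] (hdim : ringKrullDim A = 1) :
    (∃ f ∈ IsLocalRing.maximalIdeal A, ∀ p ∈ minimalPrimes A, f ∉ p) ∧
    ∀ f ∈ IsLocalRing.maximalIdeal A,
      ((IsLocalRing.maximalIdeal A = (Ideal.span {f}).radical) ↔ (∀ p ∈ minimalPrimes A, f ∉ p)) ∧
      ((∀ p ∈ minimalPrimes A, f ∉ p) ↔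
        Nonempty (Localization.Away f ≃ₐ[A] (∀ p : {p : PrimeSpectrum A // p.asIdeal ∈ minimalPrimes A}, Localization.AtPrime p.1.asIdeal))) ∧
      ((LocCoh.depth A A = 1 ∨ IsReduced A) →
        ((∀ p ∈ minimalPrimes A, f ∉ p) ↔ f ∈ nonZeroDivisors A) ∧
        ((∀ p ∈ minimalPrimes A, f ∉ p) ↔ IsLocalization (nonZeroDivisors A) (Localization.Away f))) ∧
      (IsReduced A →
        ((∀ p ∈ minimalPrimes A, f ∉ p) ↔
          Nonempty (Localization.Away f ≃ₐ[A] (∀ p : {p : PrimeSpectrum A // p.asIdeal ∈ minimalPrimes A}, p.1.asIdeal.ResidueField)))) := by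
  refine ⟨Groth.Agent.H22Alg.DimOneLoc.exists_avoiding hdim, fun f hf => ?_⟩
  have hnzd : f ∈ nonZeroDivisors A → ∀ p ∈ minimalPrimes A, f ∉ p := fun h p hp hfp =>
    notMem_nonZeroDivisors_of_mem_mem_minimalPrimes hfp hp h
  refine ⟨Groth.Agent.H22Alg.DimOneLoc.radical_eq_iff hdim hf, ⟨fun h => ?_, fun ⟨e⟩ p hp hfp => ?_⟩, fun hd => ⟨⟨Groth.Agent.H22Alg.DimOneLoc.mem_nonZeroDivisors_of_depth_or_reduced hdim hd, hnzd⟩, ?_⟩, fun hred => ⟨fun h => ?_, fun ⟨e⟩ p hp hfp => ?_⟩⟩
  · haveI := Groth.Agent.H22Alg.DimOneLoc.isLocalization_away hdim hf h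
    exact ⟨IsLocalization.algEquiv (Submonoid.powers f) _ _⟩
  · haveI := hp.1.1
    have h1 := (Pi.isUnit_iff.mp ((IsLocalization.Away.algebraMap_isUnit (S := Localization.Away f) f).map e)) ⟨⟨p, hp.1.1⟩, hp⟩
    rw [AlgEquiv.commutes, Pi.algebraMap_apply] at h1
    exact (IsLocalization.AtPrime.isUnit_to_map_iff (Localization.AtPrime p) p f).mp h1 hfp
  · constructor
    · intro h
      have hf' := Groth.Agent.H22Alg.DimOneLoc.mem_nonZeroDivisors_of_depth_or_reduced hdim hd h
      refine IsLocalization.of_le (Submonoid.powers f) (nonZeroDivisors A)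
        (Submonoid.powers_le.mpr hf') fun d hd' => ?_
      obtain ⟨n, hn⟩ := Groth.Agent.H22Alg.DimOneLoc.exists_pow_mem hdim (J := Ideal.span {d})
        (fun p hp hle => notMem_nonZeroDivisors_of_mem_mem_minimalPrimes ((Ideal.span_singleton_le_iff_mem p).mp hle) hp hd') hf
      obtain ⟨v, hv⟩ := Ideal.mem_span_singleton'.mp hn
      exact isUnit_of_mul_isUnit_right (x := algebraMap A _ v) (by
        rw [← map_mul, hv, map_pow]; exact (IsLocalization.Away.algebraMap_isUnit f).pow n)
    · intro h
      refine hnzd (mem_nonZeroDivisors_iff_right.mpr fun b hb => ?_)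
      apply IsLocalization.injective (Localization.Away f) (le_refl (nonZeroDivisors A))
      have h1 := congrArg (algebraMap A (Localization.Away f)) hb
      rw [map_mul, map_zero] at h1
      rw [map_zero]
      exact (IsLocalization.Away.algebraMap_isUnit f).mul_left_eq_zero.mp h1
  · haveI := Groth.Agent.H22Alg.DimOneLoc.isLocalization_away hdim hf h
    refine ⟨(IsLocalization.algEquiv (Submonoid.powers f) (Localization.Away f)
      (Groth.Agent.H22Alg.DimOneLoc.MinPi A)).trans (AlgEquiv.piCongrRight fun q => ?_)⟩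
    refine AlgEquiv.ofBijective (IsScalarTower.toAlgHom A (Localization.AtPrime q.1.asIdeal) q.1.asIdeal.ResidueField) ⟨?_, IsLocalRing.residue_surjective⟩
    have hfld : IsField (Localization.AtPrime q.1.asIdeal) := by
      haveI : Ring.KrullDimLE 0 (Localization.AtPrime q.1.asIdeal) := by
        rw [Ring.krullDimLE_iff, IsLocalization.AtPrime.ringKrullDim_eq_height q.1.asIdeal, Ideal.height_eq_zero_iff.mpr q.2]
        rfl
      exact Ring.KrullDimLE.isField_of_isReduced
    letI := hfld.toField
    exact RingHom.injective (IsLocalRing.residue (Localization.AtPrime q.1.asIdeal))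
  · haveI := hp.1.1
    have h1 := (Pi.isUnit_iff.mp ((IsLocalization.Away.algebraMap_isUnit (S := Localization.Away f) f).map e)) ⟨⟨p, hp.1.1⟩, hp⟩
    rw [AlgEquiv.commutes, Pi.algebraMap_apply] at h1
    exact h1.ne_zero (Ideal.algebraMap_residueField_eq_zero.mpr hfp)

end Groth.Agent.S7651
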