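import Groth.Statements.S7653
import Groth.Agent.H22Alg.ReducedNorm

set_option autoImplicit false
universe u
open CategoryTheory CategoryTheory.Limits AlgebraicGeometry
open Variety

namespace Groth.Agent.S7653

/-- For a reduced local Nagata ring A of Krull dimension one, the δ-invariant of A is zero exactly when
A is a DVR (in particular a domain). -/
theorem result (A : Type u) [CommRing A] [IsLocalRing A]
    [IsReduced A] (hN : CAlg.IsNagata A) (hdim : ringKrullDim A = 1) :
    Curv2.deltaInv A = 0 ↔ ∃ _ : IsDomain A, IsDiscreteValuationRing A := by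
  obtain ⟨hNoeth, hJ⟩ := hN
  have hdim1 : Ring.KrullDimLE 1 A := Ring.krullDimLE_iff.mpr (by rw [hdim]; norm_num)
  have hinj : Function.Injective (algebraMap A (integralClosure A (FractionRing A))) := fun a b h =>
    IsFractionRing.injective A (FractionRing A) (congrArg Subtype.val h)
  rw [Curv2.deltaInv, Module.length_eq_zero_iff]
  constructor
  · intro hsub
    have hsurj : Function.Surjective (algebraMap A (integralClosure A (FractionRing A))) :=
      LinearMap.range_eq_top.mp (Submodule.Quotient.subsingleton_iff.mp hsub)
    let e : A ≃+* integralClosure A (FractionRing A) := RingEquiv.ofBijective _ ⟨hinj, hsurj⟩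
    have : IsLocalRing (integralClosure A (FractionRing A)) := e.isLocalRing
    let P := IsLocalRing.maximalIdeal (integralClosure A (FractionRing A))
    obtain ⟨hdom, hic⟩ := H22Alg.isDomain_and_isIntegrallyClosed_localization P
    have hunits : P.primeCompl ≤ IsUnit.submonoid (integralClosure A (FractionRing A)) :=
      fun x hx => IsLocalRing.notMem_maximalIdeal.mp hx
    let e₂ : A ≃+* Localization.AtPrime P :=
      e.trans (IsLocalization.atUnits _ P.primeCompl hunits).toRingEquiv
    have : IsDomain A := e₂.toMulEquiv.isDomain _
    have : IsIntegrallyClosed A := IsIntegrallyClosed.of_equiv (R := Localization.AtPrime P) e₂.symm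
    have : Ring.DimensionLEOne A := ⟨fun {p} hp0 hp => by
      rcases (Ring.krullDimLE_one_iff.mp hdim1) p hp with h | h
      · rw [IsDomain.minimalPrimes_eq_singleton_bot, Set.mem_singleton_iff] at h
        exact absurd h hp0
      · exact h⟩
    have : IsDedekindDomain A := { }
    have hnf : ¬ IsField A := fun hf => by
      rw [ringKrullDim_eq_zero_of_isField hf] at hdim
      exact absurd hdim (by norm_num)
    exact ⟨inferInstance, ((IsDiscreteValuationRing.TFAE A hnf).out 0 2).mpr (inferInstance : IsDedekindDomain A)⟩
  · rintro ⟨_, _⟩
    refine Submodule.Quotient.subsingleton_iff.mpr (LinearMap.range_eq_top.mpr fun x => ?_)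
    obtain ⟨a, ha⟩ := (isIntegrallyClosed_iff (FractionRing A)).mp inferInstance x.2
    exact ⟨a, Subtype.ext ha⟩

end Groth.Agent.S7653
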