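import Groth.Statements.S7655
import Groth.Agent.H22Alg.ReducedNorm
import Groth.Agent.H22Alg.BranchBound

set_option autoImplicit false
universe u
open CategoryTheory CategoryTheory.Limits AlgebraicGeometry
open Variety

namespace Groth.Agent.S7655

/-- Let (A, m) be a reduced Nagata local ring of dimension one. Then the δ-invariant of A is at least
the number of geometric branches of A minus one. -/
theorem result (A : Type u) [CommRing A] [IsLocalRing A]
    [IsReduced A] (hN : CAlg.IsNagata A) (hdim : ringKrullDim A = 1) :
    Brnch.numGeomBranches A ≤ Curv2.deltaInv A + 1 := by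
  obtain ⟨hNoeth, hJ⟩ := hN
  have := H22Alg.finite_integralClosure_fractionRing (A := A) fun p _ hp => hJ p
  obtain ⟨E⟩ := H22Alg.exists_algEquiv_normRed A
  have : Module.Finite A (CAlg2.normRed A) := Module.Finite.equiv E.toLinearEquiv
  have hlen : Module.length A (CAlg2.normRed A ⧸ LinearMap.range (Algebra.linearMap A (CAlg2.normRed A))) =
      Curv2.deltaInv A := by
    refine (LinearEquiv.length_eq (Submodule.Quotient.equiv _ _ E.toLinearEquiv ?_)).symm
    rw [← LinearMap.range_comp]
    exact congrArg LinearMap.range (LinearMap.ext fun a => E.commutes a)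
  rw [Brnch.numGeomBranches, if_pos (minimalPrimes.finite_of_isNoetherianRing A), ← hlen]
  exact H22Alg.card_sigma_emb_le_length_add_one A (CAlg2.normRed A)

end Groth.Agent.S7655
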