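import Groth.Statements.S7656
import Groth.Agent.H06BranchBC.Ring
import Groth.Agent.H8Props.Generic
import Groth.Agent.S9753
import Groth.Agent.S9236

set_option autoImplicit false
universe u
open CategoryTheory CategoryTheory.Limits AlgebraicGeometry
open Variety

namespace Groth.Agent.S7656

open CategoryTheory Limits AlgebraicGeometry

/-- Components through a point lift along flat morphisms. -/
theorem encard_le_of_flat {U' U : Scheme.{u}} (h : U' ⟶ U) [Flat h] (u' : U') :
    {Z : Set ↑U | Z ∈ irreducibleComponents ↑U ∧ h u' ∈ Z}.encard ≤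
      {Z : Set ↑U' | Z ∈ irreducibleComponents ↑U' ∧ u' ∈ Z}.encard := by
  refine le_trans (Set.encard_le_encard fun Z hZ => ?_)
    (Set.encard_image_le (fun Z' : Set ↑U' => closure (h '' Z')) _)
  obtain ⟨η, hη⟩ := QuasiSober.sober hZ.1.1 (isClosed_of_mem_irreducibleComponents Z hZ.1)
  have hηg : η ∈ genericPoints U := by
    show closure {η} ∈ irreducibleComponents U
    rw [hη.def]
    exact hZ.1
  obtain ⟨w, hw, hwη⟩ := Flat.generalizingMap h (hη.specializes hZ.2)
  obtain ⟨ζ, hζ, hζw⟩ := H8Props.exists_genericPoints_specializes w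
  have hζη : h ζ = η := H8Props.mem_genericPoints_iff.mp hηg _ (hwη ▸ hζw.map h.continuous)
  refine ⟨closure {ζ}, ⟨hζ, (hζw.trans hw).mem_closure⟩, ?_⟩
  show closure (h '' closure {ζ}) = Z
  rw [closure_image_closure h.continuous, Set.image_singleton, hζη, hη.def]

theorem count_le_numGeom {U X : Scheme.{u}} (g : U ⟶ X) [Etale g] (u : U) :
    {Z : Set ↑U | Z ∈ irreducibleComponents ↑U ∧ u ∈ Z}.encard ≤
      Brnch.numGeomBranchesAt X (g u) := by
  rw [Groth.Agent.S9753.result X (g u)]
  exact le_iSup_of_le U (le_iSup_of_le g (le_iSup_of_le u (le_iSup_of_le ⟨‹_›, rfl⟩ le_rfl)))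

/-- Geometric branches are invariant under etale morphisms. -/
theorem numGeom_etale {U X : Scheme.{u}} (g : U ⟶ X) [Etale g] (u : U) :
    Brnch.numGeomBranchesAt U u = Brnch.numGeomBranchesAt X (g u) := by
  refine le_antisymm ?_ ?_
  · rw [Groth.Agent.S9753.result U u]
    refine iSup_le fun V => iSup_le fun h => iSup_le fun v => iSup_le fun ⟨_, hv⟩ => ?_
    have := count_le_numGeom (h ≫ g) v
    rwa [Scheme.Hom.comp_apply, hv] at this
  · rw [Groth.Agent.S9753.result X (g u)]
    refine iSup_le fun V => iSup_le fun h => iSup_le fun v => iSup_le fun ⟨_, hv⟩ => ?_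
    obtain ⟨w, hw₁, hw₂⟩ := Scheme.Pullback.exists_preimage_pullback (f := h) (g := g) v u hv
    subst hw₁ hw₂
    exact (encard_le_of_flat (pullback.fst h g) w).trans (count_le_numGeom (pullback.snd h g) w)

theorem one_le_numGeomBranches (A : Type u) [CommRing A] [IsLocalRing A] :
    1 ≤ Brnch.numGeomBranches A := by
  obtain ⟨k, _, _, _, _, _, H, _, _, _, _, π, hπ, hH⟩ := H9Hens.exists_isStrictHenselization_colim A
  rw [← H9Hens.card_minimalPrimes_strictHenselization A H]
  haveI : Nonempty (minimalPrimes H) := by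
    obtain ⟨P, hP, -⟩ := Ideal.exists_minimalPrimes_le (I := (⊥ : Ideal H))
      (J := IsLocalRing.maximalIdeal H) bot_le
    exact ⟨⟨P, hP⟩⟩
  exact ENat.one_le_card_iff_nonempty _ |>.mpr inferInstance

/-- If a local ring has as many geometric branches as minimal primes, every branch is geometrically
unibranch. -/
theorem numGeomBranches_quotient_eq_one {A : Type u} [CommRing A] [IsLocalRing A]
    (hfin : (minimalPrimes A).Finite) (h : Brnch.numGeomBranches A ≤ (minimalPrimes A).encard)
    (P : minimalPrimes A) :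
    haveI : P.1.IsPrime := P.2.1.1
    Brnch.numGeomBranches (A ⧸ P.1) = 1 := by
  haveI := hfin.to_subtype
  letI := Fintype.ofFinite (minimalPrimes A)
  rw [H9Hens.numGeomBranches_eq_finsum A hfin, finsum_eq_sum_of_fintype,
    ← ENat.card_coe_set_eq, ENat.card_eq_coe_fintype_card] at h
  haveI := P.2.1.1
  by_contra hne
  haveI : IsLocalRing (A ⧸ P.1) := H9Hens.isLocalRing_quotient (Ideal.IsPrime.ne_top ‹_›)
  have h2 : (2 : ℕ∞) ≤ Brnch.numGeomBranches (A ⧸ P.1) :=
    Order.add_one_le_of_lt (lt_of_le_of_ne (one_le_numGeomBranches _) (Ne.symm hne))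
  classical
  rw [← Finset.add_sum_erase _ _ (Finset.mem_univ P)] at h
  have h3 : ((Finset.univ.erase P).card : ℕ∞) ≤ ∑ Q ∈ Finset.univ.erase P,
      (haveI : Q.1.IsPrime := Q.2.1.1; Brnch.numGeomBranches (A ⧸ Q.1)) := by
    rw [Finset.card_eq_sum_ones, Nat.cast_sum, Nat.cast_one]
    refine Finset.sum_le_sum fun Q _ => ?_
    haveI := Q.2.1.1
    haveI : IsLocalRing (A ⧸ Q.1) := H9Hens.isLocalRing_quotient (Ideal.IsPrime.ne_top ‹_›)
    exact one_le_numGeomBranches _
  have h4 := (add_le_add h2 h3).trans h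
  rw [Finset.card_erase_of_mem (Finset.mem_univ P), Finset.card_univ] at h4
  have h5 : 1 ≤ Fintype.card (minimalPrimes A) := Fintype.card_pos_iff.mpr ⟨P⟩
  have h6 : ((2 + (Fintype.card (minimalPrimes A) - 1) : ℕ) : ℕ∞) ≤ (Fintype.card (minimalPrimes A) : ℕ∞) := by
    exact_mod_cast h4
  have h7 := ENat.natCast_le_natCast.mp h6
  omega

open TensorProduct in
theorem numGeom_spec_tensor (k : Type u) [Field k] (K : Type u) [Field K] [Algebra k K]
    (R : Type u) [CommRing R] [Algebra k R] (r : Spec (CommRingCat.of R))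
    (z : Spec (CommRingCat.of (R ⊗[k] K))) (hz : z.asIdeal.comap (algebraMap R (R ⊗[k] K)) = r.asIdeal)
    (m : ℕ) (hm : Brnch.numGeomBranchesAt (Spec (CommRingCat.of R)) r = m)
    (hc : (m : ℕ∞) ≤
      {Z : Set ↥(Spec (CommRingCat.of R)) | Z ∈ irreducibleComponents _ ∧ r ∈ Z}.encard) :
    Brnch.numGeomBranchesAt (Spec (CommRingCat.of (R ⊗[k] K))) z = m := by
  rw [H9Hens.BranchNbhd.encard_components] at hc
  have hle := (count_le_numGeom (𝟙 (Spec (CommRingCat.of R))) r)
  rw [H9Hens.BranchNbhd.encard_components] at hle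
  have heq : (minimalPrimes ((Spec (CommRingCat.of R)).presheaf.stalk r)).encard = m :=
    le_antisymm (hle.trans hm.le) hc
  have hfin : (minimalPrimes ((Spec (CommRingCat.of R)).presheaf.stalk r)).Finite :=
    Set.finite_of_encard_eq_coe heq
  letI : Algebra R ((Spec (CommRingCat.of R)).presheaf.stalk r) :=
    StructureSheaf.stalkAlgebra R r
  haveI : IsLocalization.AtPrime ((Spec (CommRingCat.of R)).presheaf.stalk r) r.asIdeal :=
    StructureSheaf.IsLocalization.to_stalk R r
  letI : Algebra (R ⊗[k] K) ((Spec (CommRingCat.of (R ⊗[k] K))).presheaf.stalk z) :=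
    StructureSheaf.stalkAlgebra (R ⊗[k] K) z
  haveI : IsLocalization.AtPrime ((Spec (CommRingCat.of (R ⊗[k] K))).presheaf.stalk z) z.asIdeal :=
    StructureSheaf.IsLocalization.to_stalk (R ⊗[k] K) z
  refine (H06BranchBC.numGeomBranches_eq_encard r.asIdeal z.asIdeal hz hfin fun P => ?_).trans heq
  exact numGeomBranches_quotient_eq_one hfin (hm.le.trans heq.ge) P

/-- For X locally of finite type over a field k, a field extension K/k and a point y of X_K over x ∈ X,
the local rings of X at x and of X_K at y have the same number of geometric branches. -/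
theorem result (k : Type u) [Field k] (X : Scheme.{u}) [X.Over (Spec (CommRingCat.of k))]
    [LocallyOfFiniteType (X ↘ (Spec (CommRingCat.of k)))] (K : Type u) [Field K] [Algebra k K]
    (y : ↥(Curv2.bc k X K)) :
    Brnch.numGeomBranchesAt X ((Curv2.bcFst k X K).base y) =
      Brnch.numGeomBranchesAt (Curv2.bc k X K) y := by
  let s : X ⟶ Spec (CommRingCat.of k) := X ↘ Spec (CommRingCat.of k)
  let iK := Spec.map (CommRingCat.ofHom (algebraMap k K))
  haveI : Flat iK := (HasRingHomProperty.Spec_iff (P := @Flat)).mpr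
    (RingHom.flat_algebraMap_iff.mpr inferInstance)
  let π : Curv2.bc k X K ⟶ X := Curv2.bcFst k X K
  haveI : Flat π := MorphismProperty.pullback_fst s iK ‹Flat iK›
  change Brnch.numGeomBranchesAt X (π y) = Brnch.numGeomBranchesAt (Curv2.bc k X K) y
  have hle : Brnch.numGeomBranchesAt X (π y) ≤ Brnch.numGeomBranchesAt (Curv2.bc k X K) y := by
    rw [Groth.Agent.S9753.result X (π y)]
    refine iSup_le fun U => iSup_le fun g => iSup_le fun u => iSup_le fun ⟨_, hu⟩ => ?_
    obtain ⟨w, hw₁, hw₂⟩ := Scheme.Pullback.exists_preimage_pullback (f := g) (g := π) u y hu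
    subst hw₁ hw₂
    exact (encard_le_of_flat (pullback.fst g π) w).trans (count_le_numGeom (pullback.snd g π) w)
  refine le_antisymm hle ?_
  rcases eq_or_ne (Brnch.numGeomBranchesAt X (π y)) ⊤ with htop | htop
  · rw [htop]; exact le_top
  obtain ⟨m, hm⟩ := ENat.ne_top_iff_exists.mp htop
  obtain ⟨U, g, u, ⟨hge, hgu⟩, hcount⟩ : ∃ (U : Scheme.{u}) (g : U ⟶ X) (u : U), (Etale g ∧ g u = π y) ∧
      (m : ℕ∞) ≤ {Z : Set ↑U | Z ∈ irreducibleComponents ↑U ∧ u ∈ Z}.encard := by
    by_contra hcon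
    push Not at hcon
    have h1 : Brnch.numGeomBranchesAt X (π y) ≤ ((m - 1 : ℕ) : ℕ∞) := by
      rw [Groth.Agent.S9753.result X (π y)]
      refine iSup_le fun U => iSup_le fun g => iSup_le fun u => iSup_le fun h => ?_
      obtain ⟨j, hj⟩ := ENat.ne_top_iff_exists.mp (ne_top_of_lt (hcon U g u h))
      have := hcon U g u h
      rw [← hj] at this ⊢
      exact_mod_cast Nat.le_sub_one_of_lt (ENat.natCast_lt_natCast.mp this)
    have h2 : 1 ≤ Brnch.numGeomBranchesAt X (π y) := one_le_numGeomBranches _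
    rw [← hm] at h1 h2
    have := ENat.natCast_le_natCast.mp h1
    have : 1 ≤ m := by exact_mod_cast h2
    omega
  obtain ⟨V, hV, huV, -⟩ := exists_isAffineOpen_mem_and_subset (show u ∈ (⊤ : U.Opens) from trivial)
  let j := hV.fromSpec
  haveI : IsOpenImmersion j := hV.isOpenImmersion_fromSpec
  obtain ⟨r, hr⟩ : u ∈ Set.range j := hV.range_fromSpec.ge huV
  have hjr : (j ≫ g) r = π y := by rw [Scheme.Hom.comp_apply, hr, hgu]
  have hcr := (congrArg (fun v => (m : ℕ∞) ≤ {Z : Set ↑U | Z ∈ irreducibleComponents ↑U ∧ v ∈ Z}.encard) hr).mpr hcount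
  have hcount' := le_trans hcr (encard_le_of_flat j r)
  haveI : Etale (j ≫ g) := inferInstance
  have hmr : Brnch.numGeomBranchesAt _ r = (m : ℕ∞) := by rw [numGeom_etale (j ≫ g) r, hjr, hm]
  letI : Algebra k Γ(U, V) := (Spec.preimage ((j ≫ g) ≫ s)).hom.toAlgebra
  have hs : Spec.map (CommRingCat.ofHom (algebraMap k Γ(U, V))) = (j ≫ g) ≫ s :=
    Spec.map_preimage ((j ≫ g) ≫ s)
  obtain ⟨w, hw₁, hw₂⟩ := Scheme.Pullback.exists_preimage_pullback (f := j ≫ g) (g := π) r y hjr
  let e : pullback (j ≫ g) π ≅ Spec (CommRingCat.of (TensorProduct k Γ(U, V) K)) :=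
    pullbackRightPullbackFstIso s iK (j ≫ g) ≪≫ pullback.congrHom hs.symm rfl ≪≫
      pullbackSpecIso k Γ(U, V) K
  have he : e.inv ≫ pullback.fst (j ≫ g) π =
      Spec.map (CommRingCat.ofHom Algebra.TensorProduct.includeLeftRingHom) := by
    rw [Iso.inv_comp_eq, ← pullbackSpecIso_inv_fst k Γ(U, V) K]
    simp only [e, Iso.trans_hom, Category.assoc, Iso.hom_inv_id_assoc, pullback.congrHom_hom]
    rw [pullback.map, pullback.lift_fst, Category.comp_id]
    exact (pullbackRightPullbackFstIso_hom_fst s iK (j ≫ g)).symm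
  let z := e.hom w
  have hzr : Spec.map (CommRingCat.ofHom (algebraMap Γ(U, V) (TensorProduct k Γ(U, V) K))) z = r := by
    show Spec.map (CommRingCat.ofHom Algebra.TensorProduct.includeLeftRingHom) z = r
    rw [← he, ← Scheme.Hom.comp_apply, Iso.hom_inv_id_assoc, hw₁]
  have hwy : (e.inv ≫ pullback.snd (j ≫ g) π) z = y := by
    rw [← Scheme.Hom.comp_apply, Iso.hom_inv_id_assoc, hw₂]
  have h := numGeom_spec_tensor k K Γ(U, V) r z (congrArg PrimeSpectrum.asIdeal hzr) m hmr hcount'
  rw [numGeom_etale (e.inv ≫ pullback.snd (j ≫ g) π) z, hwy] at h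
  rw [h, hm]

end Groth.Agent.S7656
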