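import Groth.Statements.S7658
import Mathlib
import Groth.Agent.H8Props.Generic

set_option autoImplicit false
universe u
open CategoryTheory CategoryTheory.Limits AlgebraicGeometry
open Variety

namespace Groth.Agent.S7658

/-- A separated morphism of schemes f : X → Y such that X has an open covering on whose members f
restricts to open immersions, and such that no two distinct generic points of irreducible components
of X have the same image under f, is an open immersion. -/
theorem result {X Y : Scheme.{u}}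
    (f : X ⟶ Y) [IsSeparated f]
    (hloc : ∀ x : X, ∃ U : X.Opens, x ∈ U ∧ IsOpenImmersion (U.ι ≫ f))
    (hinj : ∀ ξ ξ' : X, closure ({ξ} : Set X) ∈ irreducibleComponents (X : Type u) → closure ({ξ'} : Set X) ∈ irreducibleComponents (X : Type u) →
      f.base ξ = f.base ξ' → ξ = ξ') :
    IsOpenImmersion f := by
  have hopen : IsOpenMap f := fun O hO => by
    refine isOpen_iff_mem_nhds.mpr ?_
    rintro _ ⟨x, hx, rfl⟩
    obtain ⟨U, hxU, hU⟩ := hloc x
    exact Filter.mem_of_superset (((U.ι ≫ f).isOpenEmbedding.isOpenMap _ (hO.preimage U.ι.continuous)).mem_nhds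
      ⟨⟨x, hxU⟩, hx, rfl⟩) (by rintro _ ⟨a, ha, rfl⟩; exact ⟨U.ι a, ha, rfl⟩)
  have hinj' : Function.Injective f := by
    intro x x' hxx
    obtain ⟨U, hxU, hU⟩ := hloc x
    obtain ⟨V, hxV, hV⟩ := hloc x'
    obtain ⟨p, hp1, hp2⟩ := Scheme.Pullback.exists_preimage_pullback (f := U.ι ≫ f) (g := V.ι ≫ f) ⟨x, hxU⟩ ⟨x', hxV⟩ hxx
    let p1 := pullback.fst (U.ι ≫ f) (V.ι ≫ f) ≫ U.ι
    let p2 := pullback.snd (U.ι ≫ f) (V.ι ≫ f) ≫ V.ι
    let m : pullback (U.ι ≫ f) (V.ι ≫ f) ⟶ pullback f f := pullback.lift p1 p2 (by simp [p1, p2, pullback.condition])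
    have hm1 : m ≫ pullback.fst f f = p1 := pullback.lift_fst _ _ _
    have hm2 : m ≫ pullback.snd f f = p2 := pullback.lift_snd _ _ _
    let D := m ⁻¹' Set.range (pullback.diagonal f)
    have hD : IsClosed D := (pullback.diagonal f).isClosedEmbedding.isClosed_range.preimage m.continuous
    have hgen : ∀ ξ ∈ genericPoints ↥(pullback (U.ι ≫ f) (V.ι ≫ f)), ξ ∈ D := by
      intro ξ hξ
      have hmax := Groth.Agent.H8Props.mem_genericPoints_iff.mp hξ
      have himg : ∀ (q : pullback (U.ι ≫ f) (V.ι ≫ f) ⟶ X) [IsOpenImmersion q], q ξ ∈ genericPoints ↥X := by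
        intro q _
        refine Groth.Agent.H8Props.mem_genericPoints_iff.mpr fun y hy => ?_
        obtain ⟨z, rfl⟩ := hy.mem_open q.isOpenEmbedding.isOpen_range ⟨ξ, rfl⟩
        rw [hmax z (q.isOpenEmbedding.toIsInducing.specializes_iff.mp hy)]
      have e : p1 ξ = p2 ξ := hinj _ _ (himg p1) (himg p2) (by
        show (p1 ≫ f) ξ = (p2 ≫ f) ξ
        simp only [p1, p2, Category.assoc, pullback.condition])
      have hU' : p1 ξ ∈ U := (pullback.fst (U.ι ≫ f) (V.ι ≫ f) ξ).2
      have hV' : p1 ξ ∈ V := e ▸ (pullback.snd (U.ι ≫ f) (V.ι ≫ f) ξ).2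
      let d : ((U ⊓ V : X.Opens) : Scheme) ⟶ pullback (U.ι ≫ f) (V.ι ≫ f) :=
        pullback.lift (X.homOfLE inf_le_left) (X.homOfLE inf_le_right) (by simp)
      have hd1 : d ≫ p1 = (U ⊓ V : X.Opens).ι :=
        (pullback.lift_fst_assoc _ _ _ _).trans (X.homOfLE_ι _)
      have hd2 : d ≫ p2 = (U ⊓ V : X.Opens).ι :=
        (pullback.lift_snd_assoc _ _ _ _).trans (X.homOfLE_ι _)
      have hd : d ≫ m = (U ⊓ V : X.Opens).ι ≫ pullback.diagonal f := by
        apply pullback.hom_ext <;> simp [hm1, hm2, hd1, hd2]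
      let a : ((U ⊓ V : X.Opens) : Scheme) := ⟨p1 ξ, hU', hV'⟩
      have : d a = ξ := p1.isOpenEmbedding.injective (by
        show (d ≫ p1) a = p1 ξ
        rw [hd1]; rfl)
      refine ⟨(U ⊓ V : X.Opens).ι a, ?_⟩
      show _ = m ξ
      rw [← this]
      show ((U ⊓ V : X.Opens).ι ≫ pullback.diagonal f) a = (d ≫ m) a
      rw [hd]
    obtain ⟨η, hη, hηp⟩ := Groth.Agent.H8Props.exists_genericPoints_specializes p
    obtain ⟨w, hw⟩ := hηp.mem_closed hD (hgen η hη)
    have h1 : p1 p = w := by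
      show p1 p = (𝟙 X : X ⟶ X) w
      rw [← pullback.diagonal_fst f]
      show _ = pullback.fst f f (pullback.diagonal f w)
      rw [hw]
      show _ = (m ≫ pullback.fst f f) p
      rw [hm1]
    have h2 : p2 p = w := by
      show p2 p = (𝟙 X : X ⟶ X) w
      rw [← pullback.diagonal_snd f]
      show _ = pullback.snd f f (pullback.diagonal f w)
      rw [hw]
      show _ = (m ≫ pullback.snd f f) p
      rw [hm2]
    have := h1.trans h2.symm
    simpa [p1, p2, hp1, hp2] using this
  haveI : ∀ x, IsIso (f.stalkMap x) := by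
    intro x
    obtain ⟨U, hxU, hU⟩ := hloc x
    have h2 : IsIso ((U.ι ≫ f).stalkMap ⟨x, hxU⟩) := inferInstance
    rw [Scheme.Hom.stalkMap_comp] at h2
    have h3 := (IsOpenImmersion.iff_isIso_stalkMap.mp (show IsOpenImmersion U.ι from inferInstance)).2 ⟨x, hxU⟩
    exact @IsIso.of_isIso_comp_right _ _ _ _ _ _ _ h3 h2
  exact IsOpenImmersion.of_isIso_stalkMap f (Topology.IsOpenEmbedding.of_continuous_injective_isOpenMap f.continuous hinj' hopen)

end Groth.Agent.S7658
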