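import Groth.Statements.S7661
import Mathlib.RingTheory.Ideal.Operations
import Mathlib.Order.Preorder.Finite

set_option autoImplicit false
universe u
open CategoryTheory CategoryTheory.Limits AlgebraicGeometry
open Variety

namespace Groth.Agent.S7661

/-- Let A be a ring, I an ideal, p_1, …, p_r prime ideals with I ⊄ p_i for all i, and let f̄ ∈ A/I. Then
f̄ lifts to an element f ∈ A with f ∉ p_i for all i. -/
theorem result (A : Type u) [CommRing A] (I : Ideal A)
    (s : Finset (Ideal A)) (hs : ∀ p ∈ s, p.IsPrime) (hI : ∀ p ∈ s, ¬ I ≤ p) (fbar : A ⧸ I) :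
    ∃ f : A, Ideal.Quotient.mk I f = fbar ∧ ∀ p ∈ s, f ∉ p := by
  classical
  suffices h : ∀ t : Finset (Ideal A), t ⊆ s → ∃ f : A, Ideal.Quotient.mk I f = fbar ∧ ∀ p ∈ t, f ∉ p from h s subset_rfl
  intro t
  induction t using Finset.strongInduction with
  | _ t ih =>
    intro hts
    rcases t.eq_empty_or_nonempty with rfl | hne
    · obtain ⟨f, hf⟩ := Ideal.Quotient.mk_surjective fbar
      exact ⟨f, hf, by simp⟩
    obtain ⟨p, hp, hmin⟩ := t.exists_minimal hne
    obtain ⟨f, hf, hft⟩ := ih (t.erase p) (Finset.erase_ssubset hp) ((t.erase_subset p).trans hts)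
    by_cases hfp : f ∈ p
    · have hnot : ¬ (t.erase p).prod id * I ≤ p := by
        rw [(hs p (hts hp)).mul_le, (hs p (hts hp)).prod_le]
        rintro (⟨q, hq, hle⟩ | hle)
        · exact (Finset.ne_of_mem_erase hq) (le_antisymm hle (hmin (Finset.mem_of_mem_erase hq) hle))
        · exact hI p (hts hp) hle
      obtain ⟨z, hz, hzp⟩ := SetLike.not_le_iff_exists.mp hnot
      refine ⟨f + z, ?_, fun q hq => ?_⟩
      · rw [map_add, hf, Ideal.Quotient.eq_zero_iff_mem.mpr (Ideal.mul_le_right hz), add_zero]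
      · by_cases hqp : q = p
        · subst hqp
          exact fun h => hzp ((q.add_mem_iff_right hfp).mp h)
        · have hq' : q ∈ t.erase p := Finset.mem_erase.mpr ⟨hqp, hq⟩
          have hzq : z ∈ q := (Ideal.prod_le_inf.trans (Finset.inf_le (f := id) hq')) (Ideal.mul_le_left (I := (t.erase p).prod id) (J := I) hz)
          exact fun h => hft q hq' ((q.add_mem_iff_left hzq).mp h)
    · exact ⟨f, hf, fun q hq => by
        by_cases hqp : q = p
        · subst hqp; exact hfp
        · exact hft q (Finset.mem_erase.mpr ⟨hqp, hq⟩)⟩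

end Groth.Agent.S7661
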