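import Groth.Statements.S7687
import Groth.Agent.H22Alg.SemilocalGlue

set_option autoImplicit false
universe u
open CategoryTheory CategoryTheory.Limits AlgebraicGeometry
open Variety

namespace Groth.Agent.S7687

/-- Let K be a field and A, B ⊆ K Noetherian semi-local domains of dimension one with fraction field K
such that A ⊗ B → K is surjective, and R = A ∩ B. Then Spec A and Spec B each map to Spec R by an
open immersion, Spec R is the union of the two images, and the natural map A ⊗_R B → K is an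
isomorphism. -/
theorem result (K : Type u) [Field K]
    (A : Subring K) [IsFractionRing A K] (B : Subring K) [IsFractionRing B K] [IsNoetherianRing A] [IsNoetherianRing B]
    (hdimA : ringKrullDim A = 1) (hdimB : ringKrullDim B = 1)
    (hslA : Finite (MaximalSpectrum A)) (hslB : Finite (MaximalSpectrum B)) (hgen : A ⊔ B = ⊤) :
    IsOpenImmersion (Spec.map (CommRingCat.ofHom (Subring.inclusion (inf_le_left : A ⊓ B ≤ A)))) ∧
      IsOpenImmersion (Spec.map (CommRingCat.ofHom (Subring.inclusion (inf_le_right : A ⊓ B ≤ B)))) ∧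
      Set.range (Spec.map (CommRingCat.ofHom (Subring.inclusion (inf_le_left : A ⊓ B ≤ A)))).base ∪
        Set.range (Spec.map (CommRingCat.ofHom (Subring.inclusion (inf_le_right : A ⊓ B ≤ B)))).base = Set.univ ∧
      IsPushout (CommRingCat.ofHom (Subring.inclusion (inf_le_left : A ⊓ B ≤ A)))
        (CommRingCat.ofHom (Subring.inclusion (inf_le_right : A ⊓ B ≤ B)))
        (CommRingCat.ofHom A.subtype) (CommRingCat.ofHom B.subtype) := by
  have hkA := Groth.Agent.H22Alg.krullDimLE_one_of_dim_eq A hdimA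
  have hkB := Groth.Agent.H22Alg.krullDimLE_one_of_dim_eq B hdimB
  have hnA := Groth.Agent.H22Alg.not_isField_of_dim_eq A hdimA
  have hnB := Groth.Agent.H22Alg.not_isField_of_dim_eq B hdimB
  obtain ⟨s, hsu, hs⟩ := Groth.Agent.H22Alg.exists_unit_in_jacobson (fun _ : Unit => B) (fun _ => hnB)
    (fun _ => hslB) A hnA hslA (fun _ => hgen)
  obtain ⟨t, htu, ht⟩ := Groth.Agent.H22Alg.exists_unit_in_jacobson (fun _ : Unit => A) (fun _ => hnA)
    (fun _ => hslA) B hnB hslB (fun _ => by rw [sup_comm]; exact hgen)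
  obtain ⟨hsB, hsJ⟩ := hs ()
  obtain ⟨htA, htJ⟩ := ht ()
  let sR : ↥(A ⊓ B) := ⟨s, s.2, hsB⟩
  let tR : ↥(A ⊓ B) := ⟨t, htA, t.2⟩
  have hlocA : ∀ a : A, ∃ n : ℕ, (a : K) * (s : K) ^ n ∈ A ⊓ B := fun a => by
    obtain ⟨n, hn⟩ := Groth.Agent.H22Alg.exists_mul_pow_mem B hsJ (a : K)
    exact ⟨n, A.mul_mem a.2 (A.pow_mem s.2 n), hn n le_rfl⟩
  have hlocB : ∀ b : B, ∃ n : ℕ, (b : K) * (t : K) ^ n ∈ A ⊓ B := fun b => by
    obtain ⟨n, hn⟩ := Groth.Agent.H22Alg.exists_mul_pow_mem A htJ (b : K)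
    exact ⟨n, hn n le_rfl, B.mul_mem b.2 (B.pow_mem t.2 n)⟩
  obtain ⟨oA, rA⟩ := Groth.Agent.H22Alg.isOpenImmersion_and_range (inf_le_left : A ⊓ B ≤ A) sR hsu hlocA
  obtain ⟨oB, rB⟩ := Groth.Agent.H22Alg.isOpenImmersion_and_range (inf_le_right : A ⊓ B ≤ B) tR htu hlocB
  refine ⟨oA, oB, ?_, ?_⟩
  · rw [rA, rB, Set.eq_univ_iff_forall]
    intro P
    by_contra hP
    replace hP : sR ∈ P.asIdeal ∧ tR ∈ P.asIdeal :=
      ⟨by by_contra h; exact hP (Or.inl h), by by_contra h; exact hP (Or.inr h)⟩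
    have hA' : IsUnit (Subring.inclusion (inf_le_left : A ⊓ B ≤ A) (sR + tR)) := by
      obtain ⟨u, hu⟩ := hsu
      have h1 := (Ideal.mem_jacobson_bot.mp htJ) (↑u⁻¹)
      have h2 := (u.isUnit).mul h1
      rw [mul_add, mul_comm (⟨(t : K), htA⟩ : A), ← mul_assoc, Units.mul_inv, one_mul, mul_one, add_comm] at h2
      rw [map_add]; rw [hu] at h2; exact h2
    have hB' : IsUnit (Subring.inclusion (inf_le_right : A ⊓ B ≤ B) (sR + tR)) := by
      obtain ⟨u, hu⟩ := htu
      have h1 := (Ideal.mem_jacobson_bot.mp hsJ) (↑u⁻¹)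
      have h2 := (u.isUnit).mul h1
      rw [mul_add, mul_comm (⟨(s : K), hsB⟩ : B), ← mul_assoc, Units.mul_inv, one_mul, mul_one] at h2
      rw [map_add]; rw [hu] at h2; exact h2
    obtain ⟨a, ha⟩ := hA'.exists_left_inv
    obtain ⟨b, hb⟩ := hB'.exists_left_inv
    have ha' : (a : K) * ((s : K) + t) = 1 := congrArg (fun z : A => (z : K)) ha
    have hb' : (b : K) * ((s : K) + t) = 1 := congrArg (fun z : B => (z : K)) hb
    have hab : (a : K) = b := mul_right_cancel₀ (right_ne_zero_of_mul_eq_one ha') (ha'.trans hb'.symm)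
    refine P.isPrime.ne_top (Ideal.eq_top_of_isUnit_mem _ (P.asIdeal.add_mem hP.1 hP.2) ?_)
    exact IsUnit.of_mul_eq_one_right (⟨(a : K), a.2, hab ▸ b.2⟩ : ↥(A ⊓ B)) (Subtype.ext ha')
  · have comm : ∀ {T : CommRingCat.{u}} (f : CommRingCat.of A ⟶ T) (g : CommRingCat.of B ⟶ T),
        CommRingCat.ofHom (Subring.inclusion (inf_le_left : A ⊓ B ≤ A)) ≫ f =
          CommRingCat.ofHom (Subring.inclusion (inf_le_right : A ⊓ B ≤ B)) ≫ g →
        ∃! l : CommRingCat.of K ⟶ T, CommRingCat.ofHom A.subtype ≫ l = f ∧ CommRingCat.ofHom B.subtype ≫ l = g := by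
      intro T f g hfg
      have hfg' : ∀ r : ↥(A ⊓ B), f.hom (Subring.inclusion inf_le_left r) = g.hom (Subring.inclusion inf_le_right r) :=
        fun r => ConcreteCategory.congr_hom hfg r
      let sB : B := ⟨s, hsB⟩
      have hgs : IsUnit (g.hom sB) := by
        rw [show sB = Subring.inclusion inf_le_right sR from rfl, ← hfg']
        exact hsu.map f.hom
      let := B.subtype.toAlgebra
      have hsne : (s : K) ≠ 0 := fun h => hsu.ne_zero (Subtype.ext h)
      have : IsLocalization.Away sB K := by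
        refine IsLocalization.Away.mk sB (isUnit_iff_ne_zero.mpr hsne) (fun x => ?_) (fun a b e => ?_)
        · obtain ⟨n, hn⟩ := Groth.Agent.H22Alg.exists_mul_pow_mem B hsJ x
          exact ⟨n, ⟨_, hn n le_rfl⟩, rfl⟩
        · exact ⟨0, by rw [Subtype.ext (show (a : K) = b from e)]⟩
      let l : K →+* T := IsLocalization.Away.lift sB hgs
      have hl : ∀ b : B, l (b : K) = g.hom b := fun b => IsLocalization.Away.lift_eq sB hgs b
      refine ⟨CommRingCat.ofHom l, ⟨?_, ?_⟩, ?_⟩
      · ext a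
        show l (a : K) = f.hom a
        obtain ⟨n, hn⟩ := hlocA a
        have h1 : l ((a : K) * (s : K) ^ n) = f.hom a * f.hom (Subring.inclusion inf_le_left sR) ^ n := by
          rw [show (a : K) * (s : K) ^ n = ((⟨_, hn.2⟩ : B) : K) from rfl, hl,
            show (⟨_, hn.2⟩ : B) = Subring.inclusion inf_le_right (⟨_, hn⟩ : ↥(A ⊓ B)) from rfl, ← hfg', ← map_pow, ← map_mul]
          rfl
        rw [map_mul, map_pow, show l (s : K) = g.hom sB from hl sB,
          show f.hom (Subring.inclusion inf_le_left sR) = g.hom sB from hfg' sR] at h1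
        exact (hgs.pow n).mul_left_inj.mp h1
      · ext b; exact hl b
      · rintro m ⟨-, hm⟩
        refine CommRingCat.hom_ext (IsLocalization.ringHom_ext (Submonoid.powers sB) ?_)
        ext b
        rw [RingHom.comp_apply, RingHom.comp_apply]
        exact (ConcreteCategory.congr_hom hm b).trans (hl b).symm
    have w : CommRingCat.ofHom (Subring.inclusion (inf_le_left : A ⊓ B ≤ A)) ≫ CommRingCat.ofHom A.subtype =
        CommRingCat.ofHom (Subring.inclusion (inf_le_right : A ⊓ B ≤ B)) ≫ CommRingCat.ofHom B.subtype := rfl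
    refine ⟨⟨w⟩, ⟨Limits.PushoutCocone.IsColimit.mk w (fun c => (comm c.inl c.inr c.condition).choose)
      (fun c => (comm c.inl c.inr c.condition).choose_spec.1.1)
      (fun c => (comm c.inl c.inr c.condition).choose_spec.1.2)
      (fun c m h1 h2 => (comm c.inl c.inr c.condition).choose_spec.2 m ⟨h1, h2⟩)⟩⟩

end Groth.Agent.S7687
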