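import Groth.Statements.S7664
import Groth.Agent.H22Alg.SemilocalGlue
import Groth.Agent.S7687
import Mathlib.RingTheory.DiscreteValuationRing.Basic
import Mathlib.RingTheory.KrullDimension.PID

set_option autoImplicit false
universe u
open CategoryTheory CategoryTheory.Limits AlgebraicGeometry
open Variety

namespace Groth.Agent.S7664

/-- Let K be a field, A ⊆ K a Noetherian semi-local domain of dimension one and B ⊆ K a discrete
valuation ring, both with fraction field K, and R = A ∩ B. (a) If some unit of A does not lie in R,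
then Spec A and Spec B each map to Spec R by an open immersion, Spec R is the union of the two
images, and the natural map A ⊗_R B → K is an isomorphism. (b) If every unit of A lies in R, then B
dominates the local ring of A at one of its maximal ideals (A ⊆ B and the maximal ideal of B
contracts to a maximal ideal of A) and A ⊗ B → K is not surjective. -/
theorem result (K : Type u) [Field K]
    (A : Subring K) [IsFractionRing A K] [IsNoetherianRing A] (hdim : ringKrullDim A = 1) (hsl : Finite (MaximalSpectrum A))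
    (B : ValuationSubring K) [IsDiscreteValuationRing B] :
    ((∃ u : A, IsUnit u ∧ (u : K) ∉ B) →
      IsOpenImmersion (Spec.map (CommRingCat.ofHom (Subring.inclusion (inf_le_left : A ⊓ B.toSubring ≤ A)))) ∧
      IsOpenImmersion (Spec.map (CommRingCat.ofHom (Subring.inclusion (inf_le_right : A ⊓ B.toSubring ≤ B.toSubring)))) ∧
      Set.range (Spec.map (CommRingCat.ofHom (Subring.inclusion (inf_le_left : A ⊓ B.toSubring ≤ A)))).base ∪
        Set.range (Spec.map (CommRingCat.ofHom (Subring.inclusion (inf_le_right : A ⊓ B.toSubring ≤ B.toSubring)))).base = Set.univ ∧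
      IsPushout (CommRingCat.ofHom (Subring.inclusion (inf_le_left : A ⊓ B.toSubring ≤ A)))
        (CommRingCat.ofHom (Subring.inclusion (inf_le_right : A ⊓ B.toSubring ≤ B.toSubring)))
        (CommRingCat.ofHom A.subtype) (CommRingCat.ofHom B.toSubring.subtype)) ∧
    ((∀ u : A, IsUnit u → (u : K) ∈ B) →
      (∃ h : A ≤ B.toSubring,
        (Ideal.comap (Subring.inclusion h) (IsLocalRing.maximalIdeal B)).IsMaximal) ∧ A ⊔ B.toSubring ≠ ⊤) := by
  have : IsNoetherianRing B.toSubring := inferInstanceAs (IsNoetherianRing B)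
  have : IsFractionRing B.toSubring K := inferInstanceAs (IsFractionRing B K)
  have hdimB : ringKrullDim B.toSubring = 1 := IsPrincipalIdealRing.ringKrullDim_eq_one B
    (IsDiscreteValuationRing.not_isField B)
  have hkA := Groth.Agent.H22Alg.krullDimLE_one_of_dim_eq A hdim
  have hnA := Groth.Agent.H22Alg.not_isField_of_dim_eq A hdim
  have hslB : Finite (MaximalSpectrum B.toSubring) := by
    have : IsLocalRing B.toSubring := inferInstanceAs (IsLocalRing B)
    have : Subsingleton (MaximalSpectrum B.toSubring) := ⟨fun m m' => MaximalSpectrum.ext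
      ((IsLocalRing.eq_maximalIdeal m.isMaximal).trans (IsLocalRing.eq_maximalIdeal m'.isMaximal).symm)⟩
    infer_instance
  constructor
  · rintro ⟨u, hu, huB⟩
    have hgen : A ⊔ B.toSubring = ⊤ := by
      rw [eq_top_iff]
      intro x _
      have hu0 : (u : K) ≠ 0 := fun h => hu.ne_zero (Subtype.ext h)
      have hui : (u : K)⁻¹ ∈ B := (B.mem_or_inv_mem (u : K)).resolve_left huB
      have hJ : (⟨(u : K)⁻¹, hui⟩ : B.toSubring) ∈ (⊥ : Ideal B.toSubring).jacobson := by
        rw [Ideal.jacobson, Submodule.mem_sInf]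
        rintro m ⟨-, hm⟩
        by_contra hnot
        have : IsLocalRing B.toSubring := inferInstanceAs (IsLocalRing B)
        have hunit : IsUnit (⟨(u : K)⁻¹, hui⟩ : B.toSubring) := by
          by_contra hn
          exact hnot (IsLocalRing.eq_maximalIdeal hm ▸ hn)
        obtain ⟨w, hw⟩ := hunit.exists_left_inv
        have hw' : (w : K) * (u : K)⁻¹ = 1 := congrArg (fun z : B.toSubring => (z : K)) hw
        have : (w : K) = u := by field_simp at hw'; exact hw'
        exact huB (this ▸ w.2)
      have hkB := Groth.Agent.H22Alg.krullDimLE_one_of_dim_eq B.toSubring hdimB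
      obtain ⟨n, hn⟩ := Groth.Agent.H22Alg.exists_mul_pow_mem B.toSubring hJ x
      have e : x = x * ((u : K)⁻¹) ^ n * (u : K) ^ n := by
        rw [inv_pow, mul_assoc, inv_mul_cancel₀ (pow_ne_zero _ hu0), mul_one]
      rw [e]
      exact Subring.mul_mem _ (le_sup_right (a := A) (hn n le_rfl))
        (Subring.pow_mem _ (le_sup_left (b := B.toSubring) u.2) n)
    exact Groth.Agent.S7687.result K A B.toSubring hdim hdimB hsl hslB hgen
  · intro hunits
    have hJac : ∀ j : A, j ∈ (⊥ : Ideal A).jacobson → (j : K) ∈ B := fun j hj => by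
      have h := hunits _ ((Ideal.mem_jacobson_bot.mp hj) 1)
      have := B.toSubring.sub_mem h B.one_mem
      simpa using this
    have hle : A ≤ B.toSubring := by
      intro a ha
      by_contra hab
      obtain ⟨j, hj, hjJ⟩ := Groth.Agent.H22Alg.exists_ne_zero_mem_jacobson (B := A) hsl hnA
      have hkB := Groth.Agent.H22Alg.krullDimLE_one_of_dim_eq B.toSubring hdimB
      have hj0 : (j : K) ≠ 0 := fun h => hj (Subtype.ext h)
      have ha0 : a ≠ 0 := fun h => hab (h ▸ B.zero_mem)
      have hai : a⁻¹ ∈ B := (B.mem_or_inv_mem a).resolve_left hab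
      have hJ : (⟨a⁻¹, hai⟩ : B.toSubring) ∈ (⊥ : Ideal B.toSubring).jacobson := by
        rw [Ideal.mem_jacobson_bot]
        intro y
        by_contra hn
        have hy : IsUnit ((⟨a⁻¹, hai⟩ : B.toSubring) * y) := by
          have : IsLocalRing B.toSubring := inferInstanceAs (IsLocalRing B)
          have := IsLocalRing.isUnit_or_isUnit_of_isUnit_add
            (a := (⟨a⁻¹, hai⟩ : B.toSubring) * y + 1) (b := -((⟨a⁻¹, hai⟩ : B.toSubring) * y)) (by simp)
          exact (IsUnit.neg_iff _).mp (this.resolve_left hn)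
        obtain ⟨w, hw⟩ := (isUnit_of_mul_isUnit_left hy).exists_left_inv
        have hw' : (w : K) * a⁻¹ = 1 := congrArg (fun z : B.toSubring => (z : K)) hw
        have : (w : K) = a := by field_simp at hw'; exact hw'
        exact hab (this ▸ w.2)
      obtain ⟨n, hn⟩ := Groth.Agent.H22Alg.exists_mul_pow_mem B.toSubring hJ (j : K)⁻¹
      have h1 : a ^ (n + 1) * (j : K) ∈ B :=
        hJac ((⟨a, ha⟩ : A) ^ (n + 1) * j) (Ideal.mul_mem_left _ _ hjJ)
      have h2 : ((j : K)⁻¹ * a⁻¹ ^ n) * (a ^ (n + 1) * (j : K)) ∈ B := B.mul_mem _ _ (hn n le_rfl) h1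
      refine hab ?_
      convert h2 using 1
      rw [inv_pow, pow_succ]
      field_simp
      rfl
    refine ⟨⟨hle, ?_⟩, ?_⟩
    · refine Ideal.isMaximal_of_isPrime_of_ne_bot _ ?_
      intro hbot
      have : ∀ a : A, a ≠ 0 → (a : K)⁻¹ ∈ B := fun a ha => by
        have hu : IsUnit (⟨(a : K), hle a.2⟩ : B) := by
          by_contra hn
          exact ha ((Submodule.mem_bot _).mp (by rw [← hbot]; exact (show Subring.inclusion hle a ∈ IsLocalRing.maximalIdeal B from hn)))
        obtain ⟨w, hw⟩ := hu.exists_left_inv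
        have hw' : (w : K) * (a : K) = 1 := congrArg (fun z : B => (z : K)) hw
        rw [← eq_inv_of_mul_eq_one_left hw']
        exact w.2
      refine IsDiscreteValuationRing.not_isField B ?_
      have hall : ∀ x : K, x ∈ B := fun x => by
        obtain ⟨p, q, hq, rfl⟩ := IsFractionRing.div_surjective A x
        rw [div_eq_mul_inv]
        exact B.mul_mem _ _ (hle p.2) (this q (nonZeroDivisors.ne_zero hq))
      refine ⟨⟨0, 1, zero_ne_one⟩, mul_comm, fun {x} hx => ?_⟩
      exact ⟨⟨(x : K)⁻¹, hall _⟩, Subtype.ext (mul_inv_cancel₀ fun h => hx (Subtype.ext h))⟩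
    · rw [sup_eq_right.mpr hle]
      intro h
      refine IsDiscreteValuationRing.not_isField B ?_
      refine ⟨⟨0, 1, zero_ne_one⟩, mul_comm, fun {x} hx => ?_⟩
      exact ⟨⟨(x : K)⁻¹, show (x : K)⁻¹ ∈ B.toSubring by rw [h]; trivial⟩, Subtype.ext (mul_inv_cancel₀ fun h => hx (Subtype.ext h))⟩

end Groth.Agent.S7664
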