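import Groth.Statements.S7666
import Mathlib
import Groth.Agent.H22Alg.DimOneLoc

set_option autoImplicit false
universe u
open CategoryTheory CategoryTheory.Limits AlgebraicGeometry
open Variety

namespace Groth.Agent.S7666

/-- Let A be a one-dimensional Noetherian local ring and L = ∏ A_p, the product over the minimal primes
of A. If a_1, a_2 ∈ m_A have the same image in L, then a_1 and a_2 have equal n-th powers for some
positive integer n. -/
theorem result (A : Type u) [CommRing A]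
    [IsLocalRing A] [IsNoetherianRing A] (hdim : ringKrullDim A = 1)
    (a₁ a₂ : A) (h₁ : a₁ ∈ IsLocalRing.maximalIdeal A) (h₂ : a₂ ∈ IsLocalRing.maximalIdeal A)
    (heq : ∀ p : {p : PrimeSpectrum A // p.asIdeal ∈ minimalPrimes A},
      algebraMap A (Localization.AtPrime p.1.asIdeal) a₁ = algebraMap A (Localization.AtPrime p.1.asIdeal) a₂) :
    ∃ n : ℕ, 0 < n ∧ a₁ ^ n = a₂ ^ n := by
  have hc : algebraMap A (Groth.Agent.H22Alg.DimOneLoc.MinPi A) (a₁ - a₂) = 0 := by
    funext p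
    rw [Pi.algebraMap_apply, map_sub, heq p, sub_self]
    rfl
  obtain ⟨N, hN⟩ := Groth.Agent.H22Alg.DimOneLoc.exists_pow_mul_eq_zero hdim hc h₂
  have hnil : IsNilpotent (a₁ - a₂) := nilpotent_iff_mem_prime.mpr fun J hJ => by
    obtain ⟨q, hq, hqJ⟩ := Ideal.exists_minimalPrimes_le (J := J) bot_le
    haveI := hq.1.1
    have h := congrFun hc ⟨⟨q, hq.1.1⟩, hq⟩
    rw [Pi.algebraMap_apply] at h
    obtain ⟨⟨s, hs⟩, hsc⟩ := (IsLocalization.map_eq_zero_iff q.primeCompl (Localization.AtPrime q) _).mp h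
    exact hqJ ((hq.1.1.mem_or_mem (show s * (a₁ - a₂) ∈ q by rw [show s * (a₁ - a₂) = 0 from hsc]; exact q.zero_mem)).resolve_left hs)
  obtain ⟨M, hM⟩ := hnil
  refine ⟨N + M + 1, by omega, ?_⟩
  nth_rw 1 [show a₁ = (a₁ - a₂) + a₂ by ring]
  rw [add_pow, Finset.sum_eq_single 0 (fun j hj hj0 => ?_) (by simp)]
  · simp
  · obtain ⟨i, rfl⟩ := Nat.exists_eq_succ_of_ne_zero hj0
    rcases le_or_gt M (i + 1) with h | h
    · rw [pow_eq_zero_of_le h hM]; ring
    · obtain ⟨r, hr⟩ := Nat.exists_eq_add_of_le (show N ≤ N + M + 1 - (i + 1) by omega)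
      rw [hr, pow_succ (a₁ - a₂) i, pow_add a₂ N r]
      linear_combination ((a₁ - a₂) ^ i * a₂ ^ r * ((N + M + 1).choose (i + 1) : A)) * hN

end Groth.Agent.S7666
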