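import Groth.Statements.S7667
import Mathlib
import Groth.Agent.H22Alg.DimOneLoc

set_option autoImplicit false
universe u
open CategoryTheory CategoryTheory.Limits AlgebraicGeometry
open Variety

namespace Groth.Agent.S7667

/-- Let A be a one-dimensional Noetherian local ring, L the product of the localizations A_p over its
minimal primes p, and I the intersection of those primes (the nilradical of A). If f ∈ L equals i +
a with a in the maximal ideal of A and i ∈ I·L, then for some positive integer n, f^n belongs to the
subring of L obtained as the image of the structure map from A. -/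
theorem result (A : Type u) [CommRing A]
    [IsLocalRing A] [IsNoetherianRing A] (hdim : ringKrullDim A = 1)
    (a : A) (ha : a ∈ IsLocalRing.maximalIdeal A)
    (i : ∀ p : {p : PrimeSpectrum A // p.asIdeal ∈ minimalPrimes A}, Localization.AtPrime p.1.asIdeal)
    (hi : i ∈ (nilradical A).map (algebraMap A (∀ p : {p : PrimeSpectrum A // p.asIdeal ∈ minimalPrimes A}, Localization.AtPrime p.1.asIdeal))) :
    ∃ n : ℕ, 0 < n ∧ (i + algebraMap A (∀ p : {p : PrimeSpectrum A // p.asIdeal ∈ minimalPrimes A}, Localization.AtPrime p.1.asIdeal) a) ^ n ∈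
      (algebraMap A (∀ p : {p : PrimeSpectrum A // p.asIdeal ∈ minimalPrimes A}, Localization.AtPrime p.1.asIdeal)).range := by
  obtain ⟨M, hM⟩ : IsNilpotent i := by
    refine mem_nilradical.mp ((Ideal.map_le_iff_le_comap.mpr fun x hx => ?_) hi)
    exact mem_nilradical.mpr ((mem_nilradical.mp hx).map _)
  choose r hr using fun j : ℕ => Groth.Agent.H22Alg.DimOneLoc.exists_pow_smul_mem hdim ha (i ^ j)
  let R := (Finset.range M).sup r
  refine ⟨R + M + 1, by omega, ?_⟩
  rw [add_pow]
  refine sum_mem fun j hj => mul_mem ?_ (natCast_mem _ _)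
  rcases le_or_gt M j with h | h
  · rw [pow_eq_zero_of_le h hM, zero_mul]
    exact zero_mem _
  · have hle : r j ≤ R := Finset.le_sup (f := r) (Finset.mem_range.mpr h)
    rw [show R + M + 1 - j = r j + (R + M + 1 - j - r j) by omega, pow_add, ← mul_assoc]
    exact mul_mem (hr j) (pow_mem (RingHom.mem_range_self _ a) _)

end Groth.Agent.S7667
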