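import Groth.Statements.S7668
import Mathlib

set_option autoImplicit false
universe u
open CategoryTheory CategoryTheory.Limits AlgebraicGeometry
open Variety

namespace Groth.Agent.S7668

/-- Let A be a ring, p_1, …, p_r primes of A and S = A ∖ ⋃ p_i. Then S is a multiplicative subset, S⁻¹A
is semi-local, and contraction to A is a bijection from the maximal ideals of S⁻¹A onto the maximal
elements of {p_1, …, p_r}. -/
theorem result (A : Type u) [CommRing A]
    (r : ℕ) (p : Fin r → PrimeSpectrum A) :
    Finite (MaximalSpectrum (Localization (⨅ i, (p i).asIdeal.primeCompl))) ∧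
      Set.BijOn (fun m : Ideal (Localization (⨅ i, (p i).asIdeal.primeCompl)) =>
          m.comap (algebraMap A (Localization (⨅ i, (p i).asIdeal.primeCompl))))
        {m | m.IsMaximal}
        {q | q ∈ Set.range (fun i => (p i).asIdeal) ∧
          ∀ j, q ≤ (p j).asIdeal → q = (p j).asIdeal} := by
  have hS : ∀ x : A, x ∈ (⨅ i, (p i).asIdeal.primeCompl) ↔ ∀ i, x ∉ (p i).asIdeal := fun x => by
    simp [Submonoid.mem_iInf]
  set S := ⨅ i, (p i).asIdeal.primeCompl
  have hdisj : ∀ q : Ideal A, (∃ i, q ≤ (p i).asIdeal) → Disjoint (S : Set A) (q : Set A) := fun q ⟨i, hi⟩ =>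
    Set.disjoint_left.mpr fun x hx hxq => (hS x).mp hx i (hi hxq)
  have hle : ∀ q : Ideal A, Disjoint (S : Set A) (q : Set A) → ∃ i, q ≤ (p i).asIdeal := fun q hq => by
    have hsub : (q : Set A) ⊆ ⋃ i ∈ (↑(Finset.univ : Finset (Fin r)) : Set (Fin r)), ((p i).asIdeal : Set A) := by
      intro x hx
      by_contra hc
      exact Set.disjoint_left.mp hq ((hS x).mpr fun i hi => hc (Set.mem_biUnion (by simp) hi)) hx
    rcases r.eq_zero_or_pos with rfl | hr
    · exact absurd (hsub q.zero_mem) (by simp)
    · obtain ⟨i, -, hi⟩ := (Ideal.subset_union_prime ⟨0, hr⟩ ⟨0, hr⟩ fun i _ _ _ => (p i).2).mp hsub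
      exact ⟨i, hi⟩
  let F := fun m : Ideal (Localization S) => m.comap (algebraMap A (Localization S))
  have hmax : ∀ m : Ideal (Localization S), m.IsMaximal → F m ∈ {q | q ∈ Set.range (fun i => (p i).asIdeal) ∧
      ∀ j, q ≤ (p j).asIdeal → q = (p j).asIdeal} := by
    intro m hm
    have hd := ((IsLocalization.isPrime_iff_isPrime_disjoint S (Localization S) m).mp hm.isPrime).2
    have key : ∀ i, F m ≤ (p i).asIdeal → F m = (p i).asIdeal := fun i hi => by
      have h1 := IsLocalization.comap_map_of_isPrime_disjoint S (Localization S) (p i).2 (hdisj _ ⟨i, le_rfl⟩)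
      have h2 := IsLocalization.isPrime_of_isPrime_disjoint S (Localization S) _ (p i).2 (hdisj _ ⟨i, le_rfl⟩)
      have h3 : m ≤ (p i).asIdeal.map (algebraMap A (Localization S)) := by
        rw [← IsLocalization.map_comap S (Localization S) m]
        exact Ideal.map_mono hi
      show m.comap _ = _
      rw [hm.eq_of_le h2.ne_top h3]
      exact h1
    obtain ⟨i, hi⟩ := hle _ hd
    exact ⟨⟨i, (key i hi).symm⟩, key⟩
  have hinj : Function.Injective F := fun m m' h => by
    rw [← IsLocalization.map_comap S (Localization S) m, ← IsLocalization.map_comap S (Localization S) m']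
    exact congrArg _ h
  refine ⟨?_, hmax, hinj.injOn, ?_⟩
  · refine Finite.of_injective (β := ↥(Set.range fun i => (p i).asIdeal))
      (fun m => ⟨F m.asIdeal, (hmax _ m.isMaximal).1⟩) fun m m' h => MaximalSpectrum.ext (hinj (congrArg Subtype.val h))
  · rintro q ⟨⟨i, rfl⟩, hq⟩
    have h1 := IsLocalization.comap_map_of_isPrime_disjoint S (Localization S) (p i).2 (hdisj _ ⟨i, le_rfl⟩)
    have h2 := IsLocalization.isPrime_of_isPrime_disjoint S (Localization S) _ (p i).2 (hdisj _ ⟨i, le_rfl⟩)
    obtain ⟨M, hM, hiM⟩ := Ideal.exists_le_maximal _ h2.ne_top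
    obtain ⟨⟨j, hj⟩, -⟩ := hmax M hM
    refine ⟨M, hM, ?_⟩
    have h3 : (p i).asIdeal ≤ (p j).asIdeal := by
      rw [← h1, show (p j).asIdeal = F M from hj]
      exact Ideal.comap_mono hiM
    exact hj.symm.trans (hq j h3).symm

end Groth.Agent.S7668
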