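import Groth.Statements.S7671
import Groth.Agent.H22Alg.GammaBC
import Groth.Agent.H22Alg.InvDescentAlg
import Groth.Agent.H28Mero.Gen
import Groth.Agent.H11Proj.ProjTransfer
import Groth.Agent.H11Tilde.TwistPow

-- import your own Groth.Agent.* helpers here

set_option autoImplicit false
universe u
open CategoryTheory CategoryTheory.Limits AlgebraicGeometry
open Variety

namespace Groth.Agent.S7671

open CategoryTheory.Limits TopologicalSpace Groth.Agent.H11Tilde Groth.Agent.H11Proj
open scoped TensorProduct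

set_option linter.style.haveILetI false

/-- An isomorphism with the structure sheaf carries sections to functions. -/
noncomputable def toFun {X : Scheme.{u}} {M : X.Modules} (φ : M ≅ Coh.structureModule X) (V : X.Opens) :
    Γ(M, V) → Γ(X, V) := fun m => φ.hom.app V m


/-- Let A → B be faithfully flat and X a quasi-compact and quasi-separated scheme over A such that
H^0(X, O_X) is a semi-local ring. Then Pic(X) → Pic(X_B) is injective: an invertible module on X
which becomes trivial on X_B is trivial. -/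
theorem result (A B : Type u) [CommRing A]
    [CommRing B] [Algebra A B] [Module.FaithfullyFlat A B]
    (X : Scheme.{u}) (f : X ⟶ Spec (CommRingCat.of A)) [CompactSpace X] [QuasiSeparatedSpace X]
    (hsl : Finite (MaximalSpectrum Γ(X, ⊤))) (L : X.Modules) (hL : PicF.IsInvertible L)
    (htriv : Nonempty ((Scheme.Modules.pullback
        (pullback.fst f (Spec.map (CommRingCat.ofHom (algebraMap A B))))).obj L ≅
      Coh.structureModule (pullback f (Spec.map (CommRingCat.ofHom (algebraMap A B)))))) :
    Nonempty (L ≅ Coh.structureModule X) := by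
  haveI := hsl
  let g := Spec.map (CommRingCat.ofHom (algebraMap A B))
  let g' := pullback.fst f g
  have h : IsPullback g' (pullback.snd f g) f g := IsPullback.of_hasPullback f g
  obtain ⟨φ⟩ := htriv
  let L' := (Scheme.Modules.pullback g').obj L
  have hle : (⊤ : (pullback f g).Opens) ≤ g' ⁻¹ᵁ (⊤ : X.Opens) := fun _ _ => trivial
  letI := (g'.appLE ⊤ ⊤ hle).hom.toAlgebra
  letI := Module.compHom Γ(L', (⊤ : (pullback f g).Opens)) (g'.appLE ⊤ ⊤ hle).hom
  haveI : IsScalarTower Γ(X, ⊤) Γ(pullback f g, ⊤) Γ(L', (⊤ : (pullback f g).Opens)) :=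
    .of_algebraMap_smul fun _ _ => rfl
  haveI : Module.FaithfullyFlat Γ(X, ⊤) Γ(pullback f g, ⊤) := by
    refine RingHom.faithfullyFlat_algebraMap_iff.1 ?_
    show (g'.appLE ⊤ ⊤ hle).hom.FaithfullyFlat
    rw [Groth.Agent.H22Alg.GammaBC.appLE_top g']
    exact Groth.Agent.H22Alg.GammaBC.faithfullyFlat_global h
  have hb := Groth.Agent.H22Alg.GammaBC.isBaseChange_global h L (Groth.Agent.H28Mero.isQCoh_of_isInvertible hL) hle
  let φtop : Γ(L', (⊤ : (pullback f g).Opens)) ≃ₗ[Γ(pullback f g, ⊤)] Γ(pullback f g, ⊤) :=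
    LinearEquiv.ofBijective
      { toFun := toFun φ ⊤
        map_add' := fun a b => map_add (φ.hom.app ⊤).hom a b
        map_smul' := by intro r a; exact φ.hom.app_smul r a }
      (ConcreteCategory.bijective_of_isIso (φ.hom.app ⊤))
  obtain ⟨s, hs⟩ := Groth.Agent.H22Alg.InvDescentAlg.exists_generator (hb.equiv.trans φtop)
  let σ : Γ(L', (⊤ : (pullback f g).Opens)) := Groth.Agent.H8Props.PullSections.pullLin g' L hle s
  have hu : IsUnit (toFun φ ⊤ σ) := by
    obtain ⟨z, hz⟩ := (hb.equiv.trans φtop).surjective (1 : Γ(pullback f g, ⊤))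
    suffices h' : ∀ z, ∃ a : Γ(pullback f g, ⊤), (hb.equiv.trans φtop) z = a * toFun φ ⊤ σ by
      obtain ⟨a, ha⟩ := h' z
      exact IsUnit.of_mul_eq_one_right a (ha.symm.trans hz)
    intro z
    induction z using TensorProduct.induction_on with
    | zero => exact ⟨0, by rw [map_zero, zero_mul]⟩
    | add a b ha hb' =>
      obtain ⟨a', ha⟩ := ha
      obtain ⟨b', hb'⟩ := hb'
      exact ⟨a' + b', by rw [map_add, ha, hb', add_mul]⟩
    | tmul b m =>
      obtain ⟨r, rfl⟩ := hs m
      refine ⟨b * g'.appLE ⊤ ⊤ hle r, ?_⟩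
      rw [LinearEquiv.trans_apply, IsBaseChange.equiv_tmul, map_smul, map_smul, mul_assoc, smul_eq_mul]
      exact congrArg (b * ·) (φtop.map_smul (g'.appLE ⊤ ⊤ hle r) σ)
  have hσ : IsGen L' σ := isGen_of_bijective fun W hW => by
    let ρ : Γ(pullback f g, ⊤) →+* Γ(pullback f g, W) := ((pullback f g).presheaf.map (homOfLE hW).op).hom
    have he : ∀ r : Γ(pullback f g, W),
        toFun φ W (r • L'.presheaf.map (homOfLE hW).op σ) = r * ρ (toFun φ ⊤ σ) := fun r =>
      (φ.hom.app_smul r _).trans (congrArg (r * ·)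
        (ConcreteCategory.congr_hom (φ.hom.mapPresheaf.naturality (homOfLE hW).op) σ))
    obtain ⟨w, hw⟩ := hu.map ρ
    refine (Function.Bijective.of_comp_iff' (f := toFun φ W)
      (ConcreteCategory.bijective_of_isIso (φ.hom.app W)) _).1 ?_
    rw [show toFun φ W ∘ _ = fun r => r * ρ (toFun φ ⊤ σ) from funext he, ← hw]
    exact (Units.mulRight w).bijective
  have hσ' : σ = OmegaSh.pullSect g' L ⊤ s := Groth.Agent.H10Coh.mres_self _ _ _
  have htop : genAt L s = ⊤ := by
    obtain ⟨h1, h2⟩ := (flat_and_surjective_SpecMap_iff (CommRingCat.ofHom (algebraMap A B))).2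
      (RingHom.faithfullyFlat_algebraMap_iff.2 inferInstance)
    haveI := h2
    haveI : Surjective g' := MorphismProperty.of_isPullback (P := @Surjective) h.flip inferInstance
    refine eq_top_iff.2 fun x _ => ?_
    obtain ⟨x', rfl⟩ := g'.surjective x
    have h3 : (⊤ : (pullback f g).Opens) ≤ genAt L' σ := le_genAt σ le_rfl (by
      rw [show resS L' (le_refl ⊤) σ = σ from Groth.Agent.H10Coh.mres_self _ _ _]
      exact hσ)
    rw [hσ'] at h3
    exact (genAt_pullSect hL s).le (h3 (Opens.mem_top x'))
  have hgs : IsGen L (resS L (genAt_le s) s) := isGen_genAt s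
  have hgs' : IsGen L s := by
    have := hgs.res (W := ⊤) htop.ge
    rwa [show L.presheaf.map (homOfLE htop.ge).op (resS L (genAt_le s) s) = s from
      (resS_resS L htop.ge (genAt_le s) s).trans (Groth.Agent.H10Coh.mres_self _ _ _)] at this
  haveI := isIso_homOfGlobal L s fun V => hgs'.bijective le_top
  exact ⟨(asIso (homOfGlobal L s)).symm⟩


end Groth.Agent.S7671
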