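import Groth.Statements.S7672
import Groth.Agent.S7819
import Groth.Agent.H29Ref.DivClass


set_option autoImplicit false
universe u
open CategoryTheory CategoryTheory.Limits AlgebraicGeometry
open Variety

namespace Groth.Agent.S7672

/-- Let X be a normal variety over a field k, U an open of affine n-space over k containing two k-points
p and q, and L an invertible module on X ×_k U. Then L|_{X × p} ≅ L|_{X × q}; here the two
restrictions are compared on X through the sections σ_p, σ_q : X → X ×_k U determined by p and q. -/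
theorem result (k : Type u) [Field k] (X : Scheme.{u}) [X.Over (Spec (CommRingCat.of k))]
    [IsIntegral X] (hN : Pi1.IsNormalScheme X) [IsSeparated (X ↘ (Spec (CommRingCat.of k)))]
    [LocallyOfFiniteType (X ↘ (Spec (CommRingCat.of k)))] [QuasiCompact (X ↘ (Spec (CommRingCat.of k)))]
    (n : ℕ) (U : (𝔸(ULift.{u} (Fin n); Spec (CommRingCat.of k))).Opens)
    (p q : Spec (CommRingCat.of k) ⟶ (↑U : Scheme.{u}))
    (hp : p ≫ U.ι ≫ (𝔸(ULift.{u} (Fin n); Spec (CommRingCat.of k)) ↘ Spec (CommRingCat.of k)) = 𝟙 _)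
    (hq : q ≫ U.ι ≫ (𝔸(ULift.{u} (Fin n); Spec (CommRingCat.of k)) ↘ Spec (CommRingCat.of k)) = 𝟙 _)
    (σp σq : X ⟶ pullback (X ↘ (Spec (CommRingCat.of k)))
      (U.ι ≫ (𝔸(ULift.{u} (Fin n); Spec (CommRingCat.of k)) ↘ Spec (CommRingCat.of k))))
    (hσp₁ : σp ≫ pullback.fst _ _ = 𝟙 X) (hσp₂ : σp ≫ pullback.snd _ _ = (X ↘ (Spec (CommRingCat.of k))) ≫ p)
    (hσq₁ : σq ≫ pullback.fst _ _ = 𝟙 X) (hσq₂ : σq ≫ pullback.snd _ _ = (X ↘ (Spec (CommRingCat.of k))) ≫ q)
    (L : (pullback (X ↘ (Spec (CommRingCat.of k)))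
      (U.ι ≫ (𝔸(ULift.{u} (Fin n); Spec (CommRingCat.of k)) ↘ Spec (CommRingCat.of k)))).Modules)
    (hL : PicF.IsInvertible L) :
    Nonempty ((Scheme.Modules.pullback σp).obj L ≅ (Scheme.Modules.pullback σq).obj L) := by
  haveI : IsLocallyNoetherian X := LocallyOfFiniteType.isLocallyNoetherian (X ↘ Spec (CommRingCat.of k))
  haveI : CompactSpace X := QuasiCompact.compactSpace_of_compactSpace (X ↘ Spec (CommRingCat.of k))
  haveI : IsNoetherian X := {}
  haveI : IsNoetherian (Spec (CommRingCat.of k)) := inferInstance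
  obtain ⟨c, ⟨⟨N, hNc, -⟩, hc⟩, -⟩ := S7819.result (Spec (CommRingCat.of k)) n U p hp
    (X ↘ Spec (CommRingCat.of k)) hN (PicF.cl L) ⟨L, rfl, hL⟩
  subst hNc
  obtain ⟨e⟩ := H29Ref.nonempty_iso_of_cl_eq hc
  let E : ∀ σ : X ⟶ pullback (X ↘ Spec (CommRingCat.of k))
      (U.ι ≫ (𝔸(ULift.{u} (Fin n); Spec (CommRingCat.of k)) ↘ Spec (CommRingCat.of k))),
      σ ≫ pullback.fst _ _ = 𝟙 X → ((Scheme.Modules.pullback σ).obj L ≅ N) := fun σ hσ =>
    (Scheme.Modules.pullback σ).mapIso e.symm ≪≫ (Scheme.Modules.pullbackComp σ _).app N ≪≫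
      (Scheme.Modules.pullbackCongr hσ).app N ≪≫ (Scheme.Modules.pullbackId X).app N
  exact ⟨E σp hσp₁ ≪≫ (E σq hσq₁).symm⟩

end Groth.Agent.S7672
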