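import Groth.Statements.S7674
import Mathlib
import Groth.Agent.H22Alg.IntersectDim

set_option autoImplicit false
universe u
open CategoryTheory CategoryTheory.Limits AlgebraicGeometry
open Variety

namespace Groth.Agent.S7674

/-- Let k be a field, n ≥ 0, and X, Y ⊆ A^n_k closed subsets which are equidimensional of dimensions r
and s. Then each irreducible component Z of the intersection X ∩ Y satisfies dim Z ≥ r + s − n. -/
theorem result (k : Type u) [Field k] (n r s : ℕ)
    (X Y : Set ↥(𝔸(ULift.{u} (Fin n); Spec (CommRingCat.of k)))) (hX : IsClosed X) (hY : IsClosed Y)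
    (hXr : ∀ Z ∈ irreducibleComponents X, topologicalKrullDim Z = r)
    (hYs : ∀ Z ∈ irreducibleComponents Y, topologicalKrullDim Z = s)
    (Z : Set ↥(X ∩ Y)) (hZ : Z ∈ irreducibleComponents ↥(X ∩ Y)) :
    ((r + s : ℕ) : WithBot ℕ∞) ≤ topologicalKrullDim Z + (n : WithBot ℕ∞) := by
  let T := MvPolynomial (ULift.{u} (Fin n)) k
  let e : ↥(𝔸(ULift.{u} (Fin n); Spec (CommRingCat.of k))) ≃ₜ PrimeSpectrum T :=
    (AffineSpace.SpecIso (ULift.{u} (Fin n)) (CommRingCat.of k)).hom.homeomorph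
  have hdim : ∀ a, topologicalKrullDim (closure ({a} : Set ↥(𝔸(ULift.{u} (Fin n); Spec (CommRingCat.of k))))) =
      ringKrullDim (T ⧸ (e a).asIdeal) := by
    intro a
    have h1 : e '' closure {a} = Set.range (PrimeSpectrum.comap (Ideal.Quotient.mk (e a).asIdeal)) := by
      rw [e.image_closure, Set.image_singleton, range_comap_of_surjective _ _ Ideal.Quotient.mk_surjective,
        Ideal.mk_ker, PrimeSpectrum.closure_singleton]
    rw [IsHomeomorph.topologicalKrullDim_eq _ (e.image (closure {a})).isHomeomorph, h1,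
      ← IsHomeomorph.topologicalKrullDim_eq _ ((PrimeSpectrum.isClosedEmbedding_comap_of_surjective _ _
        Ideal.Quotient.mk_surjective).isEmbedding.toHomeomorph).isHomeomorph,
      PrimeSpectrum.topologicalKrullDim_eq_ringKrullDim]
  have hgen : ∀ (A : Set ↥(𝔸(ULift.{u} (Fin n); Spec (CommRingCat.of k)))), IsClosed A → ∀ C ∈ irreducibleComponents A,
      ∃ a : A, IsGenericPoint a C ∧ topologicalKrullDim C = ringKrullDim (T ⧸ (e a.1).asIdeal) := by
    intro A hA C hC
    haveI : QuasiSober A := hA.isClosedEmbedding_subtypeVal.quasiSober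
    obtain ⟨a, ha⟩ := QuasiSober.sober hC.1 (isClosed_of_mem_irreducibleComponents C hC)
    refine ⟨a, ha, ?_⟩
    have himg : Subtype.val '' C = closure ({a.1} : Set ↥(𝔸(ULift.{u} (Fin n); Spec (CommRingCat.of k)))) := by
      rw [← ha.def, ← hA.isClosedEmbedding_subtypeVal.closure_image_eq, Set.image_singleton]
    rw [← hdim, ← himg]
    exact IsHomeomorph.topologicalKrullDim_eq _ ((Topology.IsEmbedding.subtypeVal.homeomorphImage C).isHomeomorph)
  obtain ⟨z, hz, hZd⟩ := hgen (X ∩ Y) (hX.inter hY) Z hZ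
  obtain ⟨x, hx, hxd⟩ := hgen X hX (irreducibleComponent ⟨z.1, z.2.1⟩) (irreducibleComponent_mem_irreducibleComponents _)
  obtain ⟨y, hy, hyd⟩ := hgen Y hY (irreducibleComponent ⟨z.1, z.2.2⟩) (irreducibleComponent_mem_irreducibleComponents _)
  rw [hXr _ (irreducibleComponent_mem_irreducibleComponents _)] at hxd
  rw [hYs _ (irreducibleComponent_mem_irreducibleComponents _)] at hyd
  have hxz : x.1 ⤳ z.1 := (subtype_specializes_iff x ⟨z.1, z.2.1⟩).mp (hx.specializes mem_irreducibleComponent)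
  have hyz : y.1 ⤳ z.1 := (subtype_specializes_iff y ⟨z.1, z.2.2⟩).mp (hy.specializes mem_irreducibleComponent)
  have hle : ∀ {a b}, a ⤳ b → (e a).asIdeal ≤ (e b).asIdeal := fun h =>
    (PrimeSpectrum.le_iff_specializes _ _).mpr (h.map e.continuous)
  have hspec : ∀ {a b}, (e a).asIdeal ≤ (e b).asIdeal → a ⤳ b := fun {a b} h => by
    have := ((PrimeSpectrum.le_iff_specializes (e a) (e b)).mp h).map e.symm.continuous
    rwa [e.symm_apply_apply, e.symm_apply_apply] at this
  have hmin : (e z.1).asIdeal ∈ ((e x.1).asIdeal ⊔ (e y.1).asIdeal).minimalPrimes := by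
    refine ⟨⟨inferInstance, sup_le (hle hxz) (hle hyz)⟩, fun Q hQ hQz => ?_⟩
    let w := e.symm ⟨Q, hQ.1⟩
    have hew : (e w).asIdeal = Q := by rw [e.apply_symm_apply]
    have hwX : w ∈ X := (hspec (b := w) (hew ▸ le_sup_left.trans hQ.2)).mem_closed hX x.2
    have hwY : w ∈ Y := (hspec (b := w) (hew ▸ le_sup_right.trans hQ.2)).mem_closed hY y.2
    have hwz : (⟨w, hwX, hwY⟩ : ↥(X ∩ Y)) ⤳ z :=
      (subtype_specializes_iff (⟨w, hwX, hwY⟩ : ↥(X ∩ Y)) z).mpr (hspec (hew ▸ hQz))
    have h1 : Z ⊆ closure {(⟨w, hwX, hwY⟩ : ↥(X ∩ Y))} := hz.def ▸ specializes_iff_closure_subset.mp hwz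
    have h3 : z ⤳ (⟨w, hwX, hwY⟩ : ↥(X ∩ Y)) :=
      hz.specializes (hZ.2 isIrreducible_singleton.closure h1 (subset_closure (Set.mem_singleton _)))
    rw [← hew]
    exact hle ((subtype_specializes_iff z (⟨w, hwX, hwY⟩ : ↥(X ∩ Y))).mp h3)
  have h := Groth.Agent.H22Alg.IntersectDim.dim_add_dim_le k _ _ _ hmin
  rw [← hxd, ← hyd, ← hZd] at h
  simpa [Fintype.card_ulift] using h

end Groth.Agent.S7674
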