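import Groth.Statements.S7675
import Mathlib
import Groth.Agent.H22Alg.ProjDim

set_option autoImplicit false
universe u
open CategoryTheory CategoryTheory.Limits AlgebraicGeometry
open Variety

namespace Groth.Agent.S7675

/-- Let k be a field, n ≥ 0 and X, Y ⊆ P^n_k nonempty closed subsets of dimensions r and s with r + s ≥
n. Then X ∩ Y is nonempty and dim(X ∩ Y) ≥ r + s − n. -/
theorem result (k : Type u) [Field k] (n r s : ℕ)
    (X Y : Set ↥(CohB1.ProjSpace n k)) (hX : IsClosed X) (hY : IsClosed Y)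
    (hXne : X.Nonempty) (hYne : Y.Nonempty)
    (hXr : topologicalKrullDim X = r) (hYs : topologicalKrullDim Y = s) (hrs : n ≤ r + s) :
    (X ∩ Y).Nonempty ∧ ((r + s : ℕ) : WithBot ℕ∞) ≤ topologicalKrullDim ↥(X ∩ Y) + (n : WithBot ℕ∞) := by
  have key : ∀ (X Y : Set (ProjectiveSpectrum (CohB1.polyGrading n k))), IsClosed X → IsClosed Y →
      topologicalKrullDim X = r → topologicalKrullDim Y = s →
      (X ∩ Y).Nonempty ∧ ((r + s : ℕ) : WithBot ℕ∞) ≤ topologicalKrullDim ↥(X ∩ Y) + (n : WithBot ℕ∞) := by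
    intro X Y hX hY hXr hYs
    obtain ⟨x, hx, hxd⟩ := Groth.Agent.H22Alg.ProjDim.exists_qdim_of_dim k n hX hXr
    obtain ⟨y, hy, hyd⟩ := Groth.Agent.H22Alg.ProjDim.exists_qdim_of_dim k n hY hYs
    obtain ⟨z, hxz, hyz, hd⟩ := Groth.Agent.H22Alg.ProjDim.exists_common k n x y (by omega)
    have hz : z ∈ X ∩ Y := ⟨Groth.Agent.H22Alg.ProjDim.mem_closed_of_le k n hX hx hxz,
      Groth.Agent.H22Alg.ProjDim.mem_closed_of_le k n hY hy hyz⟩
    refine ⟨⟨z, hz⟩, ?_⟩
    have hpos := Groth.Agent.H22Alg.ProjDim.qdim_pos k n z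
    have h1 := Groth.Agent.H22Alg.ProjDim.le_dim k n (hX.inter hY) hz (d := r + s - n) (by omega)
    calc ((r + s : ℕ) : WithBot ℕ∞) = ((r + s - n : ℕ) : WithBot ℕ∞) + (n : WithBot ℕ∞) := by
          rw [← Nat.cast_add]; congr 1; omega
      _ ≤ _ := add_le_add h1 le_rfl
  exact key X Y hX hY hXr hYs

end Groth.Agent.S7675
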