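import Groth.Statements.S7676
import Mathlib
import Groth.Agent.H22Alg.HyperplanePn

set_option autoImplicit false
universe u
open CategoryTheory CategoryTheory.Limits AlgebraicGeometry
open Variety

namespace Groth.Agent.S7676

/-- Let k be a field, n ≥ 1 and i : H → P^n_k a hyperplane, the zero scheme of a nonzero section of
O(1). Then there is an isomorphism φ : P^{n-1}_k → H under which i^*O(1) pulls back to O(1).
(Indexed here with P^{n+1} and P^n.) -/
theorem result (k : Type u) [Field k] (n : ℕ)
    (s : Coh.structureModule (CohB1.ProjSpace (n + 1) k) ⟶ Twist.twistProjSpace (n + 1) k 1) (hs : s ≠ 0) :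
    ∃ φ : CohB1.ProjSpace n k ≅ (PicF2.zeroScheme _ s).subscheme,
      Nonempty ((Scheme.Modules.pullback (φ.hom ≫ (PicF2.zeroScheme _ s).subschemeι)).obj
          (Twist.twistProjSpace (n + 1) k 1) ≅ Twist.twistProjSpace n k 1) := by
  obtain ⟨m, hm, hσ⟩ := H22Alg.PnSections.exists_globalSec (n := n + 1) (R := k) (SecTwist.val s ⊤)
  refine H22Alg.HyperplanePn.exists_iso hm s hσ fun h0 => hs ?_
  subst h0
  have hz : H11Tilde.globalSec (CohB1.polyGrading (n + 1) k) hm = 0 := by
    refine H11Tilde.sval_ext _ _ fun x => ?_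
    exact Localization.mk_zero _
  refine Scheme.Modules.hom_ext _ _ fun W => ?_
  ext r
  refine (H06Mod.app_unit s W r).trans
    ((congrArg _ ((congrArg _ (hσ.trans hz)).trans (map_zero _))).trans ((smul_zero _).trans ?_))
  rfl

end Groth.Agent.S7676
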