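import Groth.Statements.S7678
import Mathlib
import Groth.Agent.H22Alg.MacLane
import Groth.Agent.H22Alg.VarGeom

set_option autoImplicit false
universe u
open CategoryTheory CategoryTheory.Limits AlgebraicGeometry
open Variety

namespace Groth.Agent.S7678

/-- For a field k of positive characteristic p and a k-scheme X, the base change of X along the p-th
power map of k is a reduced scheme exactly when X is geometrically reduced over k. -/
theorem result (k : Type u) [Field k] (X : Scheme.{u}) [X.Over (Spec (CommRingCat.of k))]
    (p : ℕ) [Fact p.Prime] [CharP k p] :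
    GeometricallyReduced (X ↘ (Spec (CommRingCat.of k))) ↔
      IsReduced ↑(pullback (X ↘ (Spec (CommRingCat.of k))) (Spec.map (CommRingCat.ofHom (frobenius k p)))) := by
  open scoped TensorProduct in
  set f := X ↘ Spec (CommRingCat.of k)
  set g := Spec.map (CommRingCat.ofHom (frobenius k p))
  constructor
  · intro hg
    exact GeometricallyReduced.geometrically_isReduced g _ _ (.of_hasPullback f g)
  · intro hred
    refine Groth.Agent.H22Alg.VarGeom.geometricallyReduced_of_forall f fun R i _ φ hφ => ?_
    letI := φ.hom.toAlgebra
    let g' : Spec (CommRingCat.of (Groth.Agent.H22Alg.MacLane.FT k p)) ⟶ Spec (CommRingCat.of k) :=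
      Spec.map (CommRingCat.ofHom (algebraMap k (Groth.Agent.H22Alg.MacLane.FT k p)))
    haveI : IsReduced (pullback f g') := hred
    haveI : IsReduced (pullback (Spec.map φ) g') :=
      isReduced_of_isOpenImmersion
        (pullback.map (Spec.map φ) g' f g' i (𝟙 _) (𝟙 _) (by simpa using hφ) (by simp))
    haveI : IsReduced (Spec (CommRingCat.of (R ⊗[k] Groth.Agent.H22Alg.MacLane.FT k p))) :=
      isReduced_of_isOpenImmersion (pullbackSpecIso k R (Groth.Agent.H22Alg.MacLane.FT k p)).inv
    haveI : _root_.IsReduced (R ⊗[k] Groth.Agent.H22Alg.MacLane.FT k p) := (affine_isReduced_iff _).1 this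
    exact Groth.Agent.H22Alg.MacLane.isGeometricallyReduced_of_frobenius k p

end Groth.Agent.S7678
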