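import Groth.Statements.S7682
import Mathlib
import Groth.Agent.H22Alg.IntPullback

set_option autoImplicit false
universe u
open CategoryTheory CategoryTheory.Limits AlgebraicGeometry
open Variety

namespace Groth.Agent.S7682

/-- Let f : Y → X be a morphism of proper schemes over a field k, Z ⊆ Y an integral closed subscheme of
dimension d and L_1, …, L_d invertible modules on X. Then (f^*L_1 ⋯ f^*L_d · Z) = deg(Z → f(Z)) ·
(L_1 ⋯ L_d · f(Z)), f(Z) being the scheme-theoretic image and deg the degree of the function field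
extension, read as 0 when dim f(Z) < d (equivalently when that extension is infinite). Both
intersection numbers are the n_1⋯n_d-coefficients of the polynomials computing the corresponding
Euler characteristics. -/
theorem result (k : Type u) [Field k] (X Y : Scheme.{u})
    [X.Over (Spec (CommRingCat.of k))] [Y.Over (Spec (CommRingCat.of k))]
    [IsProper (X ↘ (Spec (CommRingCat.of k)))] [IsProper (Y ↘ (Spec (CommRingCat.of k)))]
    (f : Y ⟶ X) (hf : f ≫ (X ↘ (Spec (CommRingCat.of k))) = Y ↘ (Spec (CommRingCat.of k)))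
    (Z : Y.IdealSheafData) [IsIntegral Z.subscheme] (d : ℕ)
    (hZ : topologicalKrullDim (Z.support : Set Y) = d)
    (L : Fin d → X.Modules) (hL : ∀ i, PicF.IsInvertible (L i))
    (PY PX : MvPolynomial (Fin d) ℚ)
    (hPY : ∀ n : Fin d → ℕ, (Curv2.euler k Y (Curv2.tensorPows (ClSub.quotMod Z) d (fun i => (Scheme.Modules.pullback f).obj (L i)) n) : ℚ) = MvPolynomial.eval (fun i => (n i : ℚ)) PY)
    (hPX : ∀ n : Fin d → ℕ, (Curv2.euler k X (Curv2.tensorPows (ClSub.quotMod (Z.subschemeι ≫ f).ker) d L n) : ℚ) = MvPolynomial.eval (fun i => (n i : ℚ)) PX) :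
    MvPolynomial.coeff (Finsupp.equivFunOnFinite.symm fun _ : Fin d => 1) PY =
      ((Z.subschemeι ≫ f).residueDegree (genericPoint Z.subscheme) : ℚ) *
        MvPolynomial.coeff (Finsupp.equivFunOnFinite.symm fun _ : Fin d => 1) PX := by
  haveI := Groth.Agent.H28Int.isNoetherian k (X := X)
  haveI := Groth.Agent.H28Int.isNoetherian k (X := Y)
  have hdim : topologicalKrullDim Z.subscheme = (d : WithBot ℕ∞) := by
    rw [← hZ]
    exact (Z.subschemeι.isEmbedding.toHomeomorph.trans
      (Homeomorph.setCongr Z.range_subschemeι)).isHomeomorph.topologicalKrullDim_eq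
  have hl : ∀ A ∈ List.ofFn L, PicF.IsInvertible A := fun A hA => by
    obtain ⟨j, rfl⟩ := (List.mem_ofFn' _ A).1 hA
    exact hL _
  have key := Groth.Agent.H22Alg.IntPullback.D_pullback_subscheme k Z.subschemeι f hf (List.ofFn L) hl
    (by rw [List.length_ofFn, hdim])
  rw [List.map_ofFn, Z.ker_subschemeι] at key
  have hY : Coh.IsCoh (ClSub.quotMod Z) := Groth.Agent.LeadDev.isCoh_push_structure Z.subschemeι
  have hX : Coh.IsCoh (ClSub.quotMod (Z.subschemeι ≫ f).ker) := Groth.Agent.LeadDev.isCoh_push_structure _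
  have hYd : topologicalKrullDim (CohB1.support (ClSub.quotMod Z)) ≤ (d : WithBot ℕ∞) :=
    (Groth.Agent.H28Int.dim_le_of_subset (fun x hx => by
      by_contra hn
      exact Groth.Agent.LeadDev.notMem_support_push Z.subschemeι (Coh.structureModule Z.subscheme)
        (fun hr => hn (Z.range_subschemeι ▸ hr)) hx)).trans hZ.le
  have hXd : topologicalKrullDim (CohB1.support (ClSub.quotMod (Z.subschemeι ≫ f).ker)) ≤ (d : WithBot ℕ∞) := by
    rw [Groth.Agent.H22Alg.IntPullback.quotMod_ker]
    refine (Groth.Agent.H28Int.dim_le_of_subset (Groth.Agent.H25K.support_redMod_subset _)).trans ?_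
    let g := Z.subschemeι ≫ f
    let qZ := g ≫ (X ↘ (Spec (CommRingCat.of k)))
    haveI : LocallyOfFiniteType g := by
      haveI : LocallyOfFiniteType (f ≫ (X ↘ (Spec (CommRingCat.of k)))) := hf ▸ inferInstance
      haveI : LocallyOfFiniteType f := locallyOfFiniteType_of_comp f (X ↘ (Spec (CommRingCat.of k)))
      infer_instance
    refine le_of_le_of_eq ?_ ((Groth.Agent.H22Alg.VarDim.cdim_genericPoint Z.subscheme).trans hdim)
    rw [Groth.Agent.H8Props.FieldDim.cdim_eq_add qZ (X ↘ (Spec (CommRingCat.of k))) g rfl]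
    haveI := Groth.Agent.H8Props.FieldDim.locallyOfFiniteType_fiberToSpec g (g (genericPoint Z.subscheme))
    obtain ⟨b, hb⟩ := Groth.Agent.H8Props.FieldDim.exists_nat_cdim (k := X.residueField (g (genericPoint Z.subscheme)))
      (g.fiberToSpecResidueField (g (genericPoint Z.subscheme))) (g.asFiber (genericPoint Z.subscheme))
    exact le_add_of_nonneg_left (hb ▸ by positivity)
  rw [Groth.Agent.H22Alg.Snapper.coeff_one_eq_D k hY hYd
      (fun i => Groth.Agent.H11Ample.isInvertible_pullback f (hL i)) hPY,
    Groth.Agent.H22Alg.Snapper.coeff_one_eq_D k hX hXd hL hPX,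
    show (fun i => (Scheme.Modules.pullback f).obj (L i)) = (Scheme.Modules.pullback f).obj ∘ L from rfl, key]
  push_cast
  ring

end Groth.Agent.S7682
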