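import Groth.Statements.S7683
import Groth.Agent.H06DeltaBC.FieldExt
import Groth.Agent.H06DeltaBC.NormFibre

set_option autoImplicit false
universe u
open CategoryTheory CategoryTheory.Limits AlgebraicGeometry
open Variety

namespace Groth.Agent.S7683

/-- Let X be locally of finite type over a field k with normalization ν : X^ν → X, K/k a field
extension, y ∈ X_K a point with image x ∈ X. Assume O_{X,x} is reduced of dimension one, κ(x')/k is
separable for every x' ∈ X^ν over x, and dim O_{X_K,y} = 1. Then the δ-invariant of X at x equals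
the δ-invariant of X_K at y. (The published statement needs only O_{X,x} reduced; this row takes X
integral so that X^ν is the normalization of an integral scheme.) -/
theorem result (k : Type u) [Field k] (X : Scheme.{u}) [X.Over (Spec (CommRingCat.of k))]
    [IsIntegral X] [LocallyOfFiniteType (X ↘ (Spec (CommRingCat.of k)))]
    [QuasiCompact (X.fromSpecStalk (genericPoint X))] [QuasiSeparated (X.fromSpecStalk (genericPoint X))]
    (K : Type u) [Field K] [Algebra k K] (y : ↥(Curv2.bc k X K))
    (hdx : ringKrullDim (X.presheaf.stalk ((Curv2.bcFst k X K).base y)) = 1)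
    (hsep : letI : (Curv2.normalization X).Over (Spec (CommRingCat.of k)) :=
        ⟨Curv2.normalizationι X ≫ (X ↘ (Spec (CommRingCat.of k)))⟩
      ∀ x' : ↥(Curv2.normalization X), (Curv2.normalizationι X).base x' = (Curv2.bcFst k X K).base y →
        GeometricallyReduced (Spec.map (CommRingCat.ofHom (Curv2.resMap k (Curv2.normalization X) x'))))
    (hdy : ringKrullDim ((Curv2.bc k X K).presheaf.stalk y) = 1) :
    Curv2.deltaInv (X.presheaf.stalk ((Curv2.bcFst k X K).base y)) =
      Curv2.deltaInv ((Curv2.bc k X K).presheaf.stalk y) := by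
  let π : Curv2.bc k X K ⟶ X := Curv2.bcFst k X K
  haveI : Flat (Spec.map (CommRingCat.ofHom (algebraMap k K))) :=
    (HasRingHomProperty.Spec_iff (P := @Flat)).mpr (RingHom.flat_algebraMap_iff.mpr inferInstance)
  haveI : Flat π := MorphismProperty.pullback_fst _ _ ‹Flat (Spec.map (CommRingCat.ofHom (algebraMap k K)))›
  haveI : IsLocallyNoetherian X := LocallyOfFiniteType.isLocallyNoetherian (X ↘ (Spec (CommRingCat.of k)))
  haveI : IsLocallyNoetherian (Curv2.bc k X K) :=
    LocallyOfFiniteType.isLocallyNoetherian
      (pullback.snd (X ↘ Spec (CommRingCat.of k)) (Spec.map (CommRingCat.ofHom (algebraMap k K))))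
  let A : Type u := X.presheaf.stalk (π y)
  let B : Type u := (Curv2.bc k X K).presheaf.stalk y
  letI : Algebra k A := Curv2.stalkAlgebra k X (π y)
  obtain ⟨θ, q, hq, hloc, hθ⟩ := H06DeltaBC.exists_localization k X K y
  letI : Algebra A B := (π.stalkMap y).hom.toAlgebra
  letI : Algebra (TensorProduct k A K) B := θ.toAlgebra
  haveI : IsLocalization q.primeCompl B := hloc
  haveI : IsScalarTower A (TensorProduct k A K) B := IsScalarTower.of_algebraMap_eq' hθ.symm
  haveI : IsLocalHom (algebraMap A B) := inferInstanceAs (IsLocalHom (π.stalkMap y).hom)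
  haveI : Module.Flat A B := Flat.stalkMap π y
  haveI : Module.FaithfullyFlat A B := Module.FaithfullyFlat.of_flat_of_isLocalHom
  have hN : CAlg.IsNagata A := H06DeltaBC.isNagata_stalk k (X ↘ (Spec (CommRingCat.of k))) (π y)
  have hgr : ∀ P : Ideal (integralClosure A (FractionRing A)), P.IsMaximal →
      Algebra.IsGeometricallyReduced k (integralClosure A (FractionRing A) ⧸ P) := fun P hP =>
    H06DeltaBC.isGeometricallyReduced_quotient k X (π y) hsep P
  have hred : ∀ (F : Type u) [CommRing F] [Algebra A F] [Algebra k F] [IsScalarTower k A F]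
      [Algebra.IsGeometricallyReduced k F], IsReduced (TensorProduct A B F) := by
    intro F _ _ _ _ _
    haveI : IsReduced (TensorProduct k F K) := H06Red.isReduced_tensor k F K
    exact H06DeltaBC.isReduced_tensor_localization k K A B q.primeCompl F
  have hres : Algebra.IsGeometricallyReduced k (A ⧸ IsLocalRing.maximalIdeal A) := by
    obtain ⟨P, hP⟩ := Ideal.exists_maximal (integralClosure A (FractionRing A))
    have hPm : P.comap (algebraMap A _) = IsLocalRing.maximalIdeal A :=
      IsLocalRing.eq_maximalIdeal (Ideal.isMaximal_comap_of_isIntegral_of_isMaximal P)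
    haveI := hgr P hP
    exact Algebra.IsGeometricallyReduced.of_injective
      (Ideal.quotientMapₐ P (IsScalarTower.toAlgHom k A (integralClosure A (FractionRing A))) hPm.ge)
      (Ideal.quotientMap_injective' (H := hPm.ge) hPm.le)
  have hmB := H06DeltaBC.map_maximalIdeal_eq A B hdx hdy (hred (A ⧸ IsLocalRing.maximalIdeal A))
  exact (H06DeltaBC.deltaInv_eq' A B hN hdx hmB fun P hP =>
    haveI := hgr P hP
    hred (integralClosure A (FractionRing A) ⧸ P)).symm

end Groth.Agent.S7683
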