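import Groth.Statements.S7685
import Mathlib
import Groth.Agent.H22Alg.SnapperPoly

set_option autoImplicit false
universe u
open CategoryTheory CategoryTheory.Limits AlgebraicGeometry
open Variety

namespace Groth.Agent.S7685

/-- Let X be proper over a field k, Z ⊆ X a closed subscheme of dimension d and L_1, …, L_d invertible
modules. Then the intersection number (L_1 ⋯ L_d · Z), the coefficient of n_1⋯n_d in the polynomial
computing χ(X, O_Z ⊗ L_1^{⊗n_1} ⊗ ⋯ ⊗ L_d^{⊗n_d}) for all exponents in ℕ^d, is an integer. -/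
theorem result (k : Type u) [Field k] (X : Scheme.{u}) [X.Over (Spec (CommRingCat.of k))] [IsProper (X ↘ (Spec (CommRingCat.of k)))]
    (D : X.IdealSheafData) (d : ℕ) (hD : topologicalKrullDim (D.support : Set X) = d)
    (L : Fin d → X.Modules) (hL : ∀ i, PicF.IsInvertible (L i)) (P : MvPolynomial (Fin d) ℚ)
    (hP : ∀ n : Fin d → ℕ, (Curv2.euler k X (Curv2.tensorPows (ClSub.quotMod D) d L n) : ℚ) = MvPolynomial.eval (fun i => (n i : ℚ)) P) :
    ∃ z : ℤ, MvPolynomial.coeff (Finsupp.equivFunOnFinite.symm fun _ : Fin d => 1) P = (z : ℚ) := by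
  haveI := H28Int.isNoetherian k (X := X)
  haveI : IsLocallyNoetherian D.subscheme := LocallyOfFiniteType.isLocallyNoetherian D.subschemeι
  have hF : Coh.IsCoh (ClSub.quotMod D) := LeadDev.isCoh_push_structure D.subschemeι
  have hs : CohB1.support (ClSub.quotMod D) ⊆ (D.support : Set X) := fun x hx => by
    by_contra hn
    exact LeadDev.notMem_support_push D.subschemeι (Coh.structureModule D.subscheme)
      (fun hr => hn (D.range_subschemeι ▸ hr)) hx
  have hdeg := H22Alg.Snapper.totalDegree_le k hF ((H28Int.dim_le_of_subset hs).trans hD.le) hL hP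
  rw [H22Alg.Snapper.coeff_one_eq hdeg]
  refine ⟨∑ t ∈ (Finset.univ : Finset (Fin d)).powerset, (-1 : ℤ) ^ t.card *
    Curv2.euler k X (Curv2.tensorPows (ClSub.quotMod D) d L fun i => if i ∈ t then 0 else 1), ?_⟩
  push_cast
  refine Finset.sum_congr rfl fun t _ => ?_
  rw [hP]
  push_cast
  rfl

end Groth.Agent.S7685
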