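import Groth.Statements.S7686
import Mathlib
import Groth.Agent.H22Alg.SnapperCoeff
import Groth.Agent.H22Alg.DevLength

set_option autoImplicit false
universe u
open CategoryTheory CategoryTheory.Limits AlgebraicGeometry
open Variety

namespace Groth.Agent.S7686

/-- Let X be proper over a field k, Z ⊆ X a closed subscheme of dimension d with irreducible components
Z_i of dimension d (reduced induced structure, generic points ξ_i, multiplicities m_i = length of
O_{Z,ξ_i} over O_{X,ξ_i}) and L_1, …, L_d invertible modules. Then (L_1 ⋯ L_d · Z) = Σ m_i (L_1 ⋯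
L_d · Z_i). Intersection numbers are the n_1⋯n_d-coefficients of the polynomials computing the Euler
characteristics; the sum is written over all points ξ whose closure has dimension d (other terms
vanish). -/
theorem result (k : Type u) [Field k] (X : Scheme.{u}) [X.Over (Spec (CommRingCat.of k))] [IsProper (X ↘ (Spec (CommRingCat.of k)))]
    (D : X.IdealSheafData) (d : ℕ) (hD : topologicalKrullDim (D.support : Set X) = d)
    (L : Fin d → X.Modules) (hL : ∀ i, PicF.IsInvertible (L i)) (P : MvPolynomial (Fin d) ℚ)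
    (hP : ∀ n : Fin d → ℕ, (Curv2.euler k X (Curv2.tensorPows (ClSub.quotMod D) d L n) : ℚ) = MvPolynomial.eval (fun i => (n i : ℚ)) P)
    (Q : X → MvPolynomial (Fin d) ℚ)
    (hQ : ∀ ξ : X, topologicalKrullDim (closure ({ξ} : Set X)) = (d : WithBot ℕ∞) →
      ∀ n : Fin d → ℕ, (Curv2.euler k X (Curv2.tensorPows (ClSub.quotMod (Scheme.IdealSheafData.vanishingIdeal (⟨closure ({ξ} : Set X), isClosed_closure⟩ : TopologicalSpace.Closeds X))) d L n) : ℚ) = MvPolynomial.eval (fun i => (n i : ℚ)) (Q ξ)) :
    MvPolynomial.coeff (Finsupp.equivFunOnFinite.symm fun _ : Fin d => 1) P =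
      ∑ᶠ ξ : X, (if topologicalKrullDim (closure ({ξ} : Set X)) = (d : WithBot ℕ∞) then
        ((Module.length (X.presheaf.stalk ξ) ((ClSub.quotMod D).presheaf.stalk ξ)).toNat : ℚ) *
          MvPolynomial.coeff (Finsupp.equivFunOnFinite.symm fun _ : Fin d => 1) (Q ξ) else 0) := by
  classical
  haveI := H28Int.isNoetherian k (X := X)
  have hF : Coh.IsCoh (ClSub.quotMod D) := LeadDev.isCoh_push_structure D.subschemeι
  have hd : topologicalKrullDim (CohB1.support (ClSub.quotMod D)) ≤ (d : WithBot ℕ∞) :=
    (H28Int.dim_le_of_subset (fun x hx => by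
      by_contra hn
      exact LeadDev.notMem_support_push D.subschemeι (Coh.structureModule D.subscheme)
        (fun hr => hn (D.range_subschemeι ▸ hr)) hx)).trans hD.le
  have hl : ∀ A ∈ List.ofFn L, PicF.IsInvertible A := fun A hA => by
    obtain ⟨j, rfl⟩ := (List.mem_ofFn' _ A).1 hA
    exact hL _
  rw [H22Alg.Snapper.coeff_one_eq_D k hF hd hL hP,
    H22Alg.DevLength.eq_finsum (H28Int.isAddFn_D k _ hl) (d := d)
      (fun G hG h => H28Int.D_eq_zero k _ hl G hG (by simpa using h)) hF hd]
  rw [show ((-1 : ℚ) ^ d * ((∑ᶠ ξ : X, _ : ℤ) : ℚ)) = _ from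
    (congrArg _ ((Int.castAddHom ℚ).map_finsum_of_injective Int.cast_injective _)).trans (mul_finsum _ _)]
  refine finsum_congr fun ξ => ?_
  split_ifs with h
  · have hQ' : Coh.IsCoh (ClSub.quotMod (Scheme.IdealSheafData.vanishingIdeal (H22Alg.DevLength.cl ξ))) :=
      H25K.isCoh_redMod _
    rw [H22Alg.Snapper.coeff_one_eq_D k hQ' ((H28Int.dim_le_of_subset (H25K.support_redMod_subset _)).trans h.le)
      hL (hQ ξ h)]
    simp only [Int.coe_castAddHom, Int.cast_mul, Int.cast_natCast]
    change (-1 : ℚ) ^ d * (_ * _) = _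
    exact mul_left_comm _ _ _
  · simp

end Groth.Agent.S7686
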