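import Groth.Statements.S7690
import Mathlib
import Groth.Agent.H28Int.FieldExt
import Groth.Agent.H10Coh.Proper2
import Groth.Agent.H22Alg.RegSheaf
import Groth.Agent.H11Ample.Twist
import Groth.Agent.H17.ConsModModels

set_option autoImplicit false
universe u
open CategoryTheory CategoryTheory.Limits AlgebraicGeometry
open Variety

namespace Groth.Agent.S7690

/-- Let k'/k be a field extension (k' in the universe of k), n ≥ 0, F a coherent module on P^n_k with
pullback F' to P^n_{k'}. For every integer m, F is m-regular exactly when F' is. Here P^n_{k'} is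
taken as the base change P^n_k ×_k Spec k' and the m-regularity of F' is spelled out as the
vanishing of H^i(P^n_{k'}, (F(m − i))') for 1 ≤ i ≤ n, (F(m − i))' being the pullback of F ⊗ O(m −
i). -/
theorem result (k : Type u) [Field k] (n : ℕ)
    (k' : Type u) [Field k'] [Algebra k k'] (F : (CohB1.ProjSpace n k).Modules) (hF : Coh.IsCoh F) (m : ℤ) :
    Curv2.IsMRegular k n F m ↔
      ∀ i : ℕ, 1 ≤ i → i ≤ n →
        Subsingleton (Coh.HH (Curv2.bc k (CohB1.ProjSpace n k) k')
          ((Scheme.Modules.pullback (Curv2.bcFst k (CohB1.ProjSpace n k) k')).obj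
            (CohB1.tensorMod F (Twist.twistProjSpace n k (m - i)))) i) := by
  haveI : IsProper (CohB1.ProjSpace n k ↘ Spec (CommRingCat.of k)) :=
    inferInstanceAs (IsProper (CohB1.ProjSpace.toSpec n k))
  haveI := H28Int.isNoetherian k (X := CohB1.ProjSpace n k)
  have hG : ∀ a : ℤ, Coh.IsCoh (CohB1.tensorMod F (Twist.twistProjSpace n k a)) := fun a =>
    H11Ample.isCoh_tensor hF (H22Alg.RegSheaf.isInvertible_twistProjSpace n k a)
  have key : ∀ (a : ℤ) (i : ℕ), Subsingleton (Coh.HH (CohB1.ProjSpace n k) (CohB1.tensorMod F (Twist.twistProjSpace n k a)) i) ↔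
      Subsingleton (Coh.HH (Curv2.bc k (CohB1.ProjSpace n k) k')
          ((Scheme.Modules.pullback (Curv2.bcFst k (CohB1.ProjSpace n k) k')).obj
            (CohB1.tensorMod F (Twist.twistProjSpace n k a))) i) := fun a i => by
    letI : (Curv2.bc k (CohB1.ProjSpace n k) k').Over (Spec (CommRingCat.of k')) :=
      ⟨Curv2.bcSnd k (CohB1.ProjSpace n k) k'⟩
    haveI : IsProper (Curv2.bc k (CohB1.ProjSpace n k) k' ↘ Spec (CommRingCat.of k')) :=
      inferInstanceAs (IsProper (Limits.pullback.snd _ _))
    have h1 := H28Int.FieldExt.finrank_HH_bc k' (q := Curv2.bcFst k (CohB1.ProjSpace n k) k') (IsPullback.of_hasPullback _ _) (hG a) i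
    haveI := H10Coh.finite_HH_proper k _ _ (hG a) i
    have hG' := H17.ConsProp.isCoh_pullback (Curv2.bcFst k (CohB1.ProjSpace n k) k') (hG a)
    haveI := H10Coh.finite_HH_proper k' _ _ hG' i
    rw [← Module.finrank_eq_zero_iff_of_free (R := k), ← Module.finrank_eq_zero_iff_of_free (R := k')]
    exact Eq.congr_left h1.symm
  exact ⟨fun h i hi hin => (key _ i).1 (h i hi hin), fun h i hi hin => (key _ i).2 (h i hi hin)⟩

end Groth.Agent.S7690
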