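import Groth.Statements.S8256
import Groth.Agent.H11Aff.RelSpecUniv
import Groth.Agent.H7Lim.RelSpecLimit

set_option autoImplicit false
universe u
open CategoryTheory CategoryTheory.Limits AlgebraicGeometry Opposite TopologicalSpace
open EGA2

namespace Groth.Agent.S8256

/-- Let Y be affine over S (g : Y → S affine) and X, X' affine over Y (f, f' affine), and let Z = X ×_Y
X' with projections p : Z → X, p' : Z → X'. Then Z is affine over Y and over S, and its direct-image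
algebra on S is the tensor product: the square of quasi-coherent O_S-algebras A(Y) → A(X), A(Y) →
A(X'), A(X) → A(Z), A(X') → A(Z), whose maps are induced by f, f', p, p', is a pushout square in the
category of quasi-coherent O_S-algebras. -/
theorem result {X X' Y Z S : Scheme.{u}} (g : Y ⟶ S) [IsAffineHom g]
    (f : X ⟶ Y) [IsAffineHom f] (f' : X' ⟶ Y) [IsAffineHom f'] (p : Z ⟶ X) (p' : Z ⟶ X') [IsAffineHom p]
    (hZ : IsPullback p p' f f') :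
    IsPushout
      (C := RelSpec.QCAlg S)
      (⟨AffAlg.algHom g (f ≫ g) f rfl, AffAlg.algHom_comm g (f ≫ g) f rfl⟩ :
        RelSpec.QCAlg.directImage g ⟶ RelSpec.QCAlg.directImage (f ≫ g))
      (⟨AffAlg.algHom g (f' ≫ g) f' rfl, AffAlg.algHom_comm g (f' ≫ g) f' rfl⟩ :
        RelSpec.QCAlg.directImage g ⟶ RelSpec.QCAlg.directImage (f' ≫ g))
      (⟨AffAlg.algHom (f ≫ g) (p ≫ f ≫ g) p rfl, AffAlg.algHom_comm (f ≫ g) (p ≫ f ≫ g) p rfl⟩ :
        RelSpec.QCAlg.directImage (f ≫ g) ⟶ RelSpec.QCAlg.directImage (p ≫ f ≫ g))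
      (⟨AffAlg.algHom (f' ≫ g) (p ≫ f ≫ g) p'
          ((Category.assoc p' f' g).symm.trans ((congrArg (· ≫ g) hZ.w.symm).trans (Category.assoc p f g))),
        AffAlg.algHom_comm (f' ≫ g) (p ≫ f ≫ g) p'
          ((Category.assoc p' f' g).symm.trans ((congrArg (· ≫ g) hZ.w.symm).trans (Category.assoc p f g)))⟩ :
        RelSpec.QCAlg.directImage (f' ≫ g) ⟶ RelSpec.QCAlg.directImage (p ≫ f ≫ g)) := by
  have hw : p' ≫ f' ≫ g = p ≫ f ≫ g :=
    (Category.assoc p' f' g).symm.trans ((congrArg (· ≫ g) hZ.w.symm).trans (Category.assoc p f g))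
  refine IsPushout.of_isColimit' ⟨RelSpec.QCAlg.hom_ext ?_⟩ ?_
  · change AffAlg.algHom g (f ≫ g) f rfl ≫ AffAlg.algHom (f ≫ g) (p ≫ f ≫ g) p rfl =
      AffAlg.algHom g (f' ≫ g) f' rfl ≫ AffAlg.algHom (f' ≫ g) (p ≫ f ≫ g) p' hw
    rw [← H7Lim.RelSpecLimit.algHom_comp g (f ≫ g) (p ≫ f ≫ g) f p rfl rfl (Category.assoc p f g),
      ← H7Lim.RelSpecLimit.algHom_comp g (f' ≫ g) (p ≫ f ≫ g) f' p' rfl hw ((Category.assoc p' f' g).trans hw)]
    exact H7Lim.RelSpecLimit.algHom_congr _ _ hZ.w _ _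
  -- the morphism `Spec T ⟶ X` corresponding to an algebra map `A(X) ⟶ T`
  have key : ∀ (T : RelSpec.QCAlg S) (W : Scheme.{u}) (q : W ⟶ S) (_ : IsAffineHom q)
      (a : AffAlg.alg q ⟶ T.presheaf), q.c ≫ a = T.str →
      ∃ (v : T.spec ⟶ W) (e : v ≫ q = T.π),
        AffAlg.algHom q T.π v e = a ≫ H11Aff.RelSpecUniv.univMap T := by
    intro T W q hq a ha
    obtain ⟨⟨v, e⟩, hv⟩ := H11Aff.algOf_surjective q T.π ⟨a ≫ H11Aff.RelSpecUniv.univMap T, by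
      rw [← Category.assoc, ha, H11Aff.RelSpecUniv.str_univMap]⟩
    exact ⟨v, e, congrArg Subtype.val hv⟩
  have inj : ∀ (T : RelSpec.QCAlg S) (W : Scheme.{u}) (q : W ⟶ S) (_ : IsAffineHom q)
      (v₁ v₂ : T.spec ⟶ W) (e₁ : v₁ ≫ q = T.π) (e₂ : v₂ ≫ q = T.π),
      AffAlg.algHom q T.π v₁ e₁ = AffAlg.algHom q T.π v₂ e₂ → v₁ = v₂ := fun T W q hq v₁ v₂ e₁ e₂ h =>
    congrArg Subtype.val (H11Aff.algOf_injective q T.π (a₁ := ⟨v₁, e₁⟩) (a₂ := ⟨v₂, e₂⟩) (Subtype.ext h))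
  -- for a cocone, the morphism `Spec T ⟶ Z` whose algebra map restricts to the two legs
  have lift : ∀ (T : RelSpec.QCAlg S) (a : AffAlg.alg (f ≫ g) ⟶ T.presheaf) (a' : AffAlg.alg (f' ≫ g) ⟶ T.presheaf),
      (f ≫ g).c ≫ a = T.str → (f' ≫ g).c ≫ a' = T.str →
      AffAlg.algHom g (f ≫ g) f rfl ≫ a = AffAlg.algHom g (f' ≫ g) f' rfl ≫ a' →
      ∃ (w : T.spec ⟶ Z) (e : w ≫ (p ≫ f ≫ g) = T.π),
        AffAlg.algHom (f ≫ g) (p ≫ f ≫ g) p rfl ≫ AffAlg.algHom (p ≫ f ≫ g) T.π w e ≫ T.gammaMap = a ∧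
        AffAlg.algHom (f' ≫ g) (p ≫ f ≫ g) p' hw ≫ AffAlg.algHom (p ≫ f ≫ g) T.π w e ≫ T.gammaMap = a' := by
    intro T a a' ha ha' hcomm
    obtain ⟨v, e, hv⟩ := key T X (f ≫ g) inferInstance a ha
    obtain ⟨v', e', hv'⟩ := key T X' (f' ≫ g) inferInstance a' ha'
    have hvv : v ≫ f = v' ≫ f' := by
      refine inj T Y g inferInstance _ _ ((Category.assoc v f g).trans e) ((Category.assoc v' f' g).trans e') ?_
      rw [H7Lim.RelSpecLimit.algHom_comp g (f ≫ g) T.π f v rfl e, hv,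
        H7Lim.RelSpecLimit.algHom_comp g (f' ≫ g) T.π f' v' rfl e', hv', ← Category.assoc, hcomm, Category.assoc]
    have e1 := hZ.lift_fst v v' hvv
    have e2 := hZ.lift_snd v v' hvv
    refine ⟨hZ.lift v v' hvv, by rw [← Category.assoc, e1, e], ?_, ?_⟩
    · rw [← Category.assoc, ← H7Lim.RelSpecLimit.algHom_comp (f ≫ g) (p ≫ f ≫ g) T.π p _ rfl _
        (by rw [e1, e]), H7Lim.RelSpecLimit.algHom_congr _ _ e1 _ e, hv, Category.assoc,
        H11Aff.RelSpecUniv.univMap_gammaMap, Category.comp_id]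
    · rw [← Category.assoc, ← H7Lim.RelSpecLimit.algHom_comp (f' ≫ g) (p ≫ f ≫ g) T.π p' _ hw _
        (by rw [e2, e']), H7Lim.RelSpecLimit.algHom_congr _ _ e2 _ e', hv', Category.assoc,
        H11Aff.RelSpecUniv.univMap_gammaMap, Category.comp_id]
  choose w e hl hr using lift
  refine PushoutCocone.IsColimit.mk _
    (fun T => ⟨AffAlg.algHom (p ≫ f ≫ g) T.pt.π (w T.pt T.inl.hom T.inr.hom T.inl.comm T.inr.comm
      (congrArg RelSpec.QCAlg.Hom.hom T.condition)) (e _ _ _ _ _ _) ≫ T.pt.gammaMap, ?_⟩)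
    (fun T => RelSpec.QCAlg.hom_ext (hl _ _ _ _ _ _)) (fun T => RelSpec.QCAlg.hom_ext (hr _ _ _ _ _ _))
    fun T m h1 h2 => RelSpec.QCAlg.hom_ext ?_
  · change (p ≫ f ≫ g).c ≫ AffAlg.algHom (p ≫ f ≫ g) T.pt.π _ _ ≫ T.pt.gammaMap = T.pt.str
    rw [← Category.assoc, AffAlg.algHom_comm, T.pt.π_c_gammaMap]
  have H1 := congrArg RelSpec.QCAlg.Hom.hom h1
  have H2 := congrArg RelSpec.QCAlg.Hom.hom h2
  have L1 := hl T.pt T.inl.hom T.inr.hom T.inl.comm T.inr.comm (congrArg RelSpec.QCAlg.Hom.hom T.condition)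
  have L2 := hr T.pt T.inl.hom T.inr.hom T.inl.comm T.inr.comm (congrArg RelSpec.QCAlg.Hom.hom T.condition)
  change AffAlg.algHom (f ≫ g) (p ≫ f ≫ g) p rfl ≫ m.hom = _ at H1
  change AffAlg.algHom (f' ≫ g) (p ≫ f ≫ g) p' hw ≫ m.hom = _ at H2
  change m.hom = AffAlg.algHom (p ≫ f ≫ g) T.pt.π _ _ ≫ T.pt.gammaMap
  set W₀ := w T.pt T.inl.hom T.inr.hom T.inl.comm T.inr.comm (congrArg RelSpec.QCAlg.Hom.hom T.condition)
  obtain ⟨u, eu, hu⟩ := key T.pt Z (p ≫ f ≫ g) inferInstance m.hom m.comm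
  have hm : m.hom = AffAlg.algHom (p ≫ f ≫ g) T.pt.π u eu ≫ T.pt.gammaMap := by
    rw [hu, Category.assoc, H11Aff.RelSpecUniv.univMap_gammaMap, Category.comp_id]
  rw [hm] at H1 H2 ⊢
  have hgi : ∀ {q q' : AffAlg.alg (f ≫ g) ⟶ AffAlg.alg T.pt.π}, q ≫ T.pt.gammaMap = q' ≫ T.pt.gammaMap → q = q' :=
    fun h => by
      simpa [Category.assoc, H11Aff.RelSpecUniv.gammaMap_univMap] using
        congrArg (· ≫ H11Aff.RelSpecUniv.univMap T.pt) h
  have hgi' : ∀ {q q' : AffAlg.alg (f' ≫ g) ⟶ AffAlg.alg T.pt.π}, q ≫ T.pt.gammaMap = q' ≫ T.pt.gammaMap → q = q' :=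
    fun h => by
      simpa [Category.assoc, H11Aff.RelSpecUniv.gammaMap_univMap] using
        congrArg (· ≫ H11Aff.RelSpecUniv.univMap T.pt) h
  have q1 := hgi ((Category.assoc _ _ _).trans (H1.trans (L1.symm.trans (Category.assoc _ _ _).symm)))
  have q2 := hgi' ((Category.assoc _ _ _).trans (H2.trans (L2.symm.trans (Category.assoc _ _ _).symm)))
  have eW : W₀ ≫ p ≫ f ≫ g = T.pt.π := e _ _ _ _ _ _
  have p1 : u ≫ p = W₀ ≫ p := by
    refine inj T.pt X (f ≫ g) inferInstance _ _ ((Category.assoc _ _ _).trans eu) ((Category.assoc _ _ _).trans eW) ?_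
    rw [H7Lim.RelSpecLimit.algHom_comp (f ≫ g) (p ≫ f ≫ g) T.pt.π p u rfl eu,
      H7Lim.RelSpecLimit.algHom_comp (f ≫ g) (p ≫ f ≫ g) T.pt.π p W₀ rfl eW]
    exact q1
  have p2 : u ≫ p' = W₀ ≫ p' := by
    refine inj T.pt X' (f' ≫ g) inferInstance _ _ (by rw [Category.assoc, hw, eu])
      (by rw [Category.assoc, hw, eW]) ?_
    rw [H7Lim.RelSpecLimit.algHom_comp (f' ≫ g) (p ≫ f ≫ g) T.pt.π p' u hw eu,
      H7Lim.RelSpecLimit.algHom_comp (f' ≫ g) (p ≫ f ≫ g) T.pt.π p' W₀ hw eW]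
    exact q2
  rw [H7Lim.RelSpecLimit.algHom_congr _ _ (hZ.hom_ext p1 p2) eu eW]

end Groth.Agent.S8256
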