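import Groth.Statements.S8260
import Groth.Agent.H11Proj.RelProjGlue
import Mathlib.AlgebraicGeometry.ProjectiveSpectrum.Proper
import Mathlib.RingTheory.GradedAlgebra.Noetherian

set_option autoImplicit false
universe u
open CategoryTheory CategoryTheory.Limits AlgebraicGeometry Opposite TopologicalSpace
open scoped HomogeneousIdeal
open EGA2

namespace Groth.Agent.S8260

/-- If the quasi-coherent positively graded O_Y-algebra 𝒮 is of finite type (over every affine open U of
Y the ring 𝒮(U) is a finitely generated O_Y(U)-algebra), then its relative homogeneous spectrum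
Proj(𝒮) is of finite type over Y. -/
theorem result {Y P : Scheme.{u}} (𝒮 : RelProj.QCGrAlg Y)
    (hft : ∀ (U : Y.Opens) (hU : IsAffineOpen U), (𝒮.str.app (op U)).hom.FiniteType)
    (p : P ⟶ Y)
    (chart : ∀ (U : Y.Opens) (hU : IsAffineOpen U), (((p ⁻¹ᵁ U : P.Opens) : Scheme.{u}) ≅ Proj (𝒮.deg U hU)))
    (hP : RelProj.IsRelProj 𝒮 p chart) : LocallyOfFiniteType p ∧ QuasiCompact p := by
  suffices H : ∀ (U : Y.Opens) (hU : IsAffineOpen U),
      LocallyOfFiniteType (Proj.toSpecZero (𝒮.deg U hU) ≫ Spec.map (𝒮.strZero U hU)) ∧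
      QuasiCompact (Proj.toSpecZero (𝒮.deg U hU) ≫ Spec.map (𝒮.strZero U hU)) from
    ⟨Groth.Agent.H11Proj.relProj_of_charts (Q := @LocallyOfFiniteType.{u}) hP fun U hU => (H U hU).1,
      Groth.Agent.H11Proj.relProj_of_charts (Q := @QuasiCompact.{u}) hP fun U hU => (H U hU).2⟩
  intro U hU
  have hstr : (𝒮.str.app (op U)).hom =
      (algebraMap (𝒮.deg U hU 0) (𝒮.presheaf.obj (op U))).comp (𝒮.strZero U hU).hom := rfl
  have hA : RingHom.FiniteType (algebraMap (𝒮.deg U hU 0) (𝒮.presheaf.obj (op U))) :=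
    RingHom.FiniteType.of_comp_finiteType (hstr ▸ hft U hU)
  have : Algebra.FiniteType (𝒮.deg U hU 0) (𝒮.presheaf.obj (op U)) :=
    RingHom.finiteType_algebraMap.1 hA
  have h0 : (𝒮.strZero U hU).hom.FiniteType := by
    have h1 : ((GradedRing.projZeroRingHom' (𝒮.deg U hU)).comp (𝒮.str.app (op U)).hom).FiniteType :=
      (RingHom.FiniteType.of_surjective _ (GradedRing.projZeroRingHom'_surjective _)).comp (hft U hU)
    have h2 : (GradedRing.projZeroRingHom' (𝒮.deg U hU)).comp (𝒮.str.app (op U)).hom =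
        (𝒮.strZero U hU).hom := by
      refine RingHom.ext fun r => Subtype.ext ?_
      exact DirectSum.decompose_of_mem_same _ (𝒮.str_mem U hU r)
    exact h2 ▸ h1
  have h3 : LocallyOfFiniteType (Spec.map (𝒮.strZero U hU)) :=
    (HasRingHomProperty.Spec_iff (P := @LocallyOfFiniteType)).2 h0
  exact ⟨inferInstance, inferInstance⟩

end Groth.Agent.S8260
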