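import Groth.Statements.S8261
import Groth.Agent.H11Proj.RelProjGlue
import Groth.Agent.H11Proj.DegOne

set_option autoImplicit false
universe u
open CategoryTheory CategoryTheory.Limits AlgebraicGeometry Opposite TopologicalSpace
open scoped HomogeneousIdeal
open EGA2

namespace Groth.Agent.S8261

/-- Let 𝒮 be a quasi-coherent positively graded O_Y-algebra generated by 𝒮_1 with 𝒮_1 of finite type
over O_Y. Then Proj(𝒮) is of finite type over Y. -/
theorem result {Y P : Scheme.{u}} (𝒮 : RelProj.QCGrAlg Y)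
    (hgen : 𝒮.IsGenDegOne) (hft : 𝒮.IsFTDeg 1) (p : P ⟶ Y)
    (chart : ∀ (U : Y.Opens) (hU : IsAffineOpen U), (((p ⁻¹ᵁ U : P.Opens) : Scheme.{u}) ≅ Proj (𝒮.deg U hU)))
    (hP : RelProj.IsRelProj 𝒮 p chart) : LocallyOfFiniteType p ∧ QuasiCompact p := by
  suffices H : ∀ (U : Y.Opens) (hU : IsAffineOpen U),
      LocallyOfFiniteType (Proj.toSpecZero (𝒮.deg U hU) ≫ Spec.map (𝒮.strZero U hU)) ∧
      QuasiCompact (Proj.toSpecZero (𝒮.deg U hU) ≫ Spec.map (𝒮.strZero U hU)) from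
    ⟨Groth.Agent.H11Proj.relProj_of_charts (Q := @LocallyOfFiniteType.{u}) hP fun U hU => (H U hU).1,
      Groth.Agent.H11Proj.relProj_of_charts (Q := @QuasiCompact.{u}) hP fun U hU => (H U hU).2⟩
  intro U hU
  obtain ⟨T, hT, hT'⟩ := hft U hU
  exact Groth.Agent.H11Proj.lft_and_qc_of_degOne (𝒮.deg U hU) (𝒮.strZero U hU) T hT
    (fun x hx => hT' x hx) (hgen U hU)

end Groth.Agent.S8261
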