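import Groth.Statements.S8264
import Groth.Agent.H11Proj.Scheme

set_option autoImplicit false
universe u
open CategoryTheory CategoryTheory.Limits AlgebraicGeometry Opposite TopologicalSpace
open scoped HomogeneousIdeal
open EGA2

namespace Groth.Agent.S8264

/-- Let Y be an integral scheme and 𝒮 a quasi-coherent positively graded O_Y-algebra with 𝒮_0 = O_Y
which is integral, stated here affine-locally: over every nonempty affine open U the ring 𝒮(U) is an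
integral domain whose irrelevant ideal is nonzero (for Y integral this is equivalent to the
stalkwise condition of the published text: every stalk 𝒮_y an integral domain with (𝒮_y)_+ ≠ 0).
Then Proj(𝒮) is integral and its structure morphism to Y is dominant. -/
theorem result {Y P : Scheme.{u}} [IsIntegral Y] (𝒮 : RelProj.QCGrAlg Y)
    (h0 : ∀ (U : Y.Opens) (hU : IsAffineOpen U), Function.Bijective (𝒮.strZero U hU).hom)
    (hint : ∀ (U : Y.Opens) (hU : IsAffineOpen U), (U : Set Y).Nonempty →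
      IsDomain (𝒮.presheaf.obj (op U)) ∧ ((𝒮.deg U hU)₊).toIdeal ≠ ⊥)
    (p : P ⟶ Y)
    (chart : ∀ (U : Y.Opens) (hU : IsAffineOpen U), (((p ⁻¹ᵁ U : P.Opens) : Scheme.{u}) ≅ Proj (𝒮.deg U hU)))
    (hP : RelProj.IsRelProj 𝒮 p chart) : IsIntegral P ∧ DenseRange p.base := by
  classical
  -- facts over a nonempty affine open
  have key : ∀ (U : Y.Opens) (hU : IsAffineOpen U), (U : Set Y).Nonempty →
      IrreducibleSpace (p ⁻¹ᵁ U).toScheme ∧ Nonempty (p ⁻¹ᵁ U).toScheme ∧ IsReduced (p ⁻¹ᵁ U).toScheme := by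
    intro U hU hne
    obtain ⟨hdom, hne0⟩ := hint U hU hne
    have : IsDomain (𝒮.presheaf.obj (op U)) := hdom
    let x₀ : ProjectiveSpectrum (𝒮.deg U hU) :=
      { asHomogeneousIdeal := ⟨⊥, Ideal.IsHomogeneous.bot _⟩
        isPrime := Ideal.isPrime_bot
        not_irrelevant_le := fun h => hne0 (le_bot_iff.1 (fun a ha => h ha)) }
    have : IrreducibleSpace (Proj (𝒮.deg U hU)) := by
      have hgen : closure ({x₀} : Set (ProjectiveSpectrum (𝒮.deg U hU))) = Set.univ := by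
        rw [← ProjectiveSpectrum.zeroLocus_vanishingIdeal_eq_closure, Set.eq_univ_iff_forall]
        intro y a ha
        have : a ∈ x₀.asHomogeneousIdeal := by
          rw [ProjectiveSpectrum.vanishingIdeal_singleton] at ha
          exact ha
        rw [show a = 0 from (Submodule.mem_bot _).1 this]
        exact zero_mem _
      have hirr : IsIrreducible (Set.univ : Set (ProjectiveSpectrum (𝒮.deg U hU))) :=
        hgen ▸ isIrreducible_singleton.closure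
      exact (irreducibleSpace_def _).2 hirr
    have : IsReduced (Proj (𝒮.deg U hU)) :=
      Groth.Agent.H11Proj.isReduced_proj (fun f _ hf => hf.eq_zero)
    have e := Scheme.homeoOfIso (chart U hU)
    refine ⟨?_, ⟨e.symm x₀⟩, isReduced_of_isOpenImmersion (chart U hU).hom⟩
    exact e.irreducibleSpace_iff.2 inferInstance
  have hmeet : ∀ (U : Y.Opens), (U : Set Y).Nonempty → ∃ x : P, p.base x ∈ U := by
    rintro U ⟨y, hy⟩
    obtain ⟨_, ⟨(W : Y.Opens), hW, rfl⟩, hyW, hWU⟩ :=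
      Y.isBasis_affineOpens.exists_subset_of_mem_open hy U.2
    obtain ⟨-, ⟨x⟩, -⟩ := key W hW ⟨y, hyW⟩
    exact ⟨x.1, hWU x.2⟩
  have hne : Nonempty P := by
    obtain ⟨x, -⟩ := hmeet ⊤ ⟨genericPoint Y, trivial⟩
    exact ⟨x⟩
  have hpre : ∀ (O : P.Opens), (O : Set P).Nonempty → ∃ (U : Y.Opens) (_ : IsAffineOpen U) (z : P),
      z ∈ O ∧ p.base z ∈ U := by
    rintro O ⟨x, hx⟩
    obtain ⟨_, ⟨(U : Y.Opens), hU, rfl⟩, hxU, -⟩ :=
      Y.isBasis_affineOpens.exists_subset_of_mem_open (Set.mem_univ (p.base x)) isOpen_univ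
    exact ⟨U, hU, x, hx, hxU⟩
  have hirr : IrreducibleSpace P := by
    have : PreirreducibleSpace P := ⟨fun A B hA hB hAne hBne => by
      obtain ⟨a, -, ha⟩ := hAne
      obtain ⟨b, -, hb⟩ := hBne
      obtain ⟨U, hU, a', ha', haU⟩ := hpre ⟨A, hA⟩ ⟨a, ha⟩
      obtain ⟨V, hV, b', hb', hbV⟩ := hpre ⟨B, hB⟩ ⟨b, hb⟩
      obtain ⟨z, hzU, hzV⟩ : ((U : Set Y) ∩ V).Nonempty :=
        nonempty_preirreducible_inter U.2 V.2 ⟨p.base a', haU⟩ ⟨p.base b', hbV⟩
      obtain ⟨c, hcU, hcV⟩ := hmeet (U ⊓ V) ⟨z, hzU, hzV⟩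
      have hirrU := (key U hU ⟨z, hzU⟩).1
      have hirrV := (key V hV ⟨z, hzV⟩).1
      obtain ⟨d, hdA, hdV⟩ : (((p ⁻¹ᵁ U).ι.base ⁻¹' A) ∩ ((p ⁻¹ᵁ U).ι.base ⁻¹' (p ⁻¹ᵁ V : P.Opens))).Nonempty :=
        nonempty_preirreducible_inter (hA.preimage (p ⁻¹ᵁ U).ι.continuous)
          ((p ⁻¹ᵁ V).2.preimage (p ⁻¹ᵁ U).ι.continuous) ⟨⟨a', haU⟩, ha'⟩ ⟨⟨c, hcU⟩, hcV⟩
      obtain ⟨q, hqA, hqB⟩ : (((p ⁻¹ᵁ V).ι.base ⁻¹' A) ∩ ((p ⁻¹ᵁ V).ι.base ⁻¹' B)).Nonempty :=
        nonempty_preirreducible_inter (hA.preimage (p ⁻¹ᵁ V).ι.continuous)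
          (hB.preimage (p ⁻¹ᵁ V).ι.continuous) ⟨⟨d.1, hdV⟩, hdA⟩ ⟨⟨b', hbV⟩, hb'⟩
      exact ⟨q.1, trivial, hqA, hqB⟩⟩
    exact ⟨hne⟩
  have hred : IsReduced P := by
    have hst : ∀ x : P, _root_.IsReduced (P.presheaf.stalk x) := by
      intro x
      obtain ⟨U, hU, -, -, -⟩ := hpre ⊤ ⟨x, trivial⟩
      obtain ⟨_, ⟨(U : Y.Opens), hU, rfl⟩, hxU, -⟩ :=
        Y.isBasis_affineOpens.exists_subset_of_mem_open (Set.mem_univ (p.base x)) isOpen_univ
      have := (key U hU ⟨_, hxU⟩).2.2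
      exact isReduced_of_injective ((p ⁻¹ᵁ U).stalkIso ⟨x, hxU⟩).inv.hom
        ((p ⁻¹ᵁ U).stalkIso ⟨x, hxU⟩).symm.commRingCatIsoToRingEquiv.injective
    exact isReduced_of_isReduced_stalk P
  refine ⟨isIntegral_of_irreducibleSpace_of_isReduced P, ?_⟩
  rw [DenseRange, dense_iff_inter_open]
  intro O hO hOne
  obtain ⟨x, hx⟩ := hmeet ⟨O, hO⟩ hOne
  exact ⟨p.base x, hx, x, rfl⟩

end Groth.Agent.S8264
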