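import Groth.Statements.S8271
import Groth.Agent.H11Sym.VBundle
import Groth.Agent.H10Coh.QCohExt

set_option autoImplicit false
universe u
open CategoryTheory CategoryTheory.Limits AlgebraicGeometry Opposite TopologicalSpace
open EGA2

namespace Groth.Agent.S8271

/-- For quasi-coherent O_S-modules E and F, the vector bundle V(E ⊕ F) is identified with V(E) ×_S V(F):
with A_E, A_F, A the symmetric algebras of E, F, E ⊕ F and ψ_E : A_E → A, ψ_F : A_F → A the algebra
maps extending the inclusions of the two summands, the square formed by Spec(A) → Spec(A_E), Spec(A)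
→ Spec(A_F) and the two structure morphisms to S is a pullback square. -/
theorem result {S : Scheme.{u}} (E F : S.Modules) (hE : Coh.IsQCoh E) (hF : Coh.IsQCoh F)
    (AE AF A : RelSpec.QCAlg S) (jE : E ⟶ AE.toModule) (jF : F ⟶ AF.toModule) (j : E ⊞ F ⟶ A.toModule)
    (hAE : RelSpec.IsSymAlg E AE jE) (hAF : RelSpec.IsSymAlg F AF jF) (hA : RelSpec.IsSymAlg (E ⊞ F) A j)
    (ψE : AE ⟶ A) (ψF : AF ⟶ A)
    (hψE : jE ≫ RelSpec.QCAlg.Hom.toModuleMap ψE = biprod.inl ≫ j)
    (hψF : jF ≫ RelSpec.QCAlg.Hom.toModuleMap ψF = biprod.inr ≫ j) :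
    IsPullback (RelSpec.QCAlg.specMap ψE) (RelSpec.QCAlg.specMap ψF) AE.π AF.π := by
  have w : RelSpec.QCAlg.specMap ψE ≫ AE.π = RelSpec.QCAlg.specMap ψF ≫ AF.π := by
    rw [RelSpec.QCAlg.specMap_π, RelSpec.QCAlg.specMap_π]
  let c := pullback.lift (RelSpec.QCAlg.specMap ψE) (RelSpec.QCAlg.specMap ψF) w
  suffices IsIso c from IsPullback.of_iso_pullback ⟨w⟩ (asIso c) (pullback.lift_fst _ _ _) (pullback.lift_snd _ _ _)
  have hcπ : c ≫ pullback.fst AE.π AF.π ≫ AE.π = A.π := by
    rw [pullback.lift_fst_assoc, RelSpec.QCAlg.specMap_π]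
  refine IsZariskiLocalAtTarget.of_iSup_eq_top (P := MorphismProperty.isomorphisms Scheme.{u})
    (fun U : S.affineOpens => (pullback.fst AE.π AF.π ≫ AE.π) ⁻¹ᵁ U.1)
    (by rw [← Scheme.Hom.preimage_iSup, iSup_affineOpens_eq_top, Scheme.Hom.preimage_top]) fun U => ?_
  obtain ⟨U, hU⟩ := U
  have hgE : ∀ m, (ψE.hom.app (op U)).hom (H11Sym.japp jE U m) =
      H11Sym.japp j U ((biprod.inl (X := E) (Y := F)).app U m) :=
    fun m => congrArg (fun q : E ⟶ A.toModule => H11Sym.japp q U m) hψE
  have hgF : ∀ m, (ψF.hom.app (op U)).hom (H11Sym.japp jF U m) =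
      H11Sym.japp j U ((biprod.inr (X := E) (Y := F)).app U m) :=
    fun m => congrArg (fun q : F ⟶ A.toModule => H11Sym.japp q U m) hψF
  have hstr : ∀ {C D : RelSpec.QCAlg S} (ψ : C ⟶ D) r,
      (ψ.hom.app (op U)).hom (H11Sym.astr C U r) = H11Sym.astr D U r :=
    fun ψ r => ConcreteCategory.congr_hom (NatTrans.congr_app ψ.comm (op U)) r
  have hdec : ∀ p : Γ(E ⊞ F, U), p = (biprod.inl (X := E) (Y := F)).app U ((biprod.fst (X := E) (Y := F)).app U p) +
      (biprod.inr (X := E) (Y := F)).app U ((biprod.snd (X := E) (Y := F)).app U p) := fun p =>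
    (congrArg (fun φ => Scheme.Modules.Hom.app φ U p) (biprod.total (X := E) (Y := F))).symm
  have hAf : H11Sym.IsAffSym j := by
    refine hA.isAffSym ?_
    haveI : E.IsQuasicoherent := hE
    haveI : F.IsQuasicoherent := hF
    exact @H10Coh.isQuasicoherent_X₂ _ _
      ((ShortComplex.Splitting.ofHasBinaryBiproduct E F).shortExact) hE hF
  have hpo : IsPushout (AE.str.app (op U)) (AF.str.app (op U)) (ψE.hom.app (op U)) (ψF.hom.app (op U)) := by
    have wr : AE.str.app (op U) ≫ ψE.hom.app (op U) = AF.str.app (op U) ≫ ψF.hom.app (op U) :=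
      CommRingCat.hom_ext (RingHom.ext fun r => (hstr ψE r).trans (hstr ψF r).symm)
    have ex : ∀ s : PushoutCocone (AE.str.app (op U)) (AF.str.app (op U)), ∃ g : A.presheaf.obj (op U) ⟶ s.pt,
        ψE.hom.app (op U) ≫ g = s.inl ∧ ψF.hom.app (op U) ≫ g = s.inr ∧
          ∀ g' : A.presheaf.obj (op U) ⟶ s.pt, ψE.hom.app (op U) ≫ g' = s.inl →
            ψF.hom.app (op U) ≫ g' = s.inr → g' = g := by
      intro s
      obtain ⟨g, hg₀, hg₁⟩ := hAf.exists_lift hU (s.inl.hom.comp (H11Sym.astr AE U))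
        (AddMonoidHom.mk' (fun p => s.inl.hom (H11Sym.japp jE U ((biprod.fst (X := E) (Y := F)).app U p)) +
            s.inr.hom (H11Sym.japp jF U ((biprod.snd (X := E) (Y := F)).app U p))) fun a b => by
          rw [map_add, map_add, H11Sym.japp_add, H11Sym.japp_add, map_add, map_add]; ring)
        fun r m => by
          have e : ∀ t, s.inr.hom (H11Sym.astr AF U t) = s.inl.hom (H11Sym.astr AE U t) := fun t =>
            (ConcreteCategory.congr_hom s.condition t).symm
          simp only [AddMonoidHom.mk'_apply, RingHom.comp_apply]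
          rw [Scheme.Modules.Hom.app_smul, Scheme.Modules.Hom.app_smul, H11Sym.japp_smul, H11Sym.japp_smul,
            map_mul, map_mul, e]
          ring
      have hE' : ψE.hom.app (op U) ≫ CommRingCat.ofHom g = s.inl := by
        refine CommRingCat.hom_ext ((hAE.isAffSym hE).ringHom_ext hU (fun r => ?_) fun m => ?_)
        · exact (congrArg g (hstr ψE r)).trans (hg₀ r)
        · refine (congrArg g (hgE m)).trans ((hg₁ _).trans ?_)
          have e₁ := congrArg (fun φ => Scheme.Modules.Hom.app φ U m) (biprod.inl_fst (X := E) (Y := F))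
          have e₂ := congrArg (fun φ => Scheme.Modules.Hom.app φ U m) (biprod.inl_snd (X := E) (Y := F))
          change s.inl.hom (H11Sym.japp jE U ((biprod.inl ≫ biprod.fst : E ⟶ E).app U m)) +
            s.inr.hom (H11Sym.japp jF U ((biprod.inl ≫ biprod.snd : E ⟶ F).app U m)) = _
          rw [e₁, e₂]
          change s.inl.hom (H11Sym.japp jE U m) + s.inr.hom (H11Sym.japp jF U 0) = _
          rw [show H11Sym.japp jF U 0 = 0 from map_zero (jF.app U).hom, map_zero, add_zero]
      have hF' : ψF.hom.app (op U) ≫ CommRingCat.ofHom g = s.inr := by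
        refine CommRingCat.hom_ext ((hAF.isAffSym hF).ringHom_ext hU (fun r => ?_) fun m => ?_)
        · exact (congrArg g (hstr ψF r)).trans ((hg₀ r).trans (ConcreteCategory.congr_hom s.condition r))
        · refine (congrArg g (hgF m)).trans ((hg₁ _).trans ?_)
          have e₁ := congrArg (fun φ => Scheme.Modules.Hom.app φ U m) (biprod.inr_fst (X := E) (Y := F))
          have e₂ := congrArg (fun φ => Scheme.Modules.Hom.app φ U m) (biprod.inr_snd (X := E) (Y := F))
          change s.inl.hom (H11Sym.japp jE U ((biprod.inr ≫ biprod.fst : F ⟶ E).app U m)) +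
            s.inr.hom (H11Sym.japp jF U ((biprod.inr ≫ biprod.snd : F ⟶ F).app U m)) = _
          rw [e₁, e₂]
          change s.inl.hom (H11Sym.japp jE U 0) + s.inr.hom (H11Sym.japp jF U m) = _
          rw [show H11Sym.japp jE U 0 = 0 from map_zero (jE.app U).hom, map_zero, zero_add]
      refine ⟨CommRingCat.ofHom g, hE', hF', fun g' h₁ h₂ => ?_⟩
      refine CommRingCat.hom_ext (hAf.ringHom_ext hU (fun r => ?_) fun p => ?_)
      · rw [← hstr ψE r]
        exact ConcreteCategory.congr_hom (h₁.trans hE'.symm) _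
      · rw [hdec p, H11Sym.japp_add, map_add, map_add, ← hgE, ← hgF]
        exact congrArg₂ (· + ·) (ConcreteCategory.congr_hom (h₁.trans hE'.symm) _)
          (ConcreteCategory.congr_hom (h₂.trans hF'.symm) _)
    choose g hg₁ hg₂ hg₃ using ex
    exact ⟨⟨wr⟩, ⟨PushoutCocone.IsColimit.mk wr g hg₁ hg₂ hg₃⟩⟩
  have hpb : IsPullback (Spec.map (ψE.hom.app (op U))) (Spec.map (ψF.hom.app (op U)))
      (AE.ι U hU ≫ AE.π) (AF.ι U hU ≫ AF.π) := by
    rw [AE.ι_π, AF.ι_π]
    have h₁ := isPullback_SpecMap_of_isPushout _ _ _ _ hpo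
    exact ⟨⟨by rw [reassoc_of% h₁.w]⟩, ⟨PullbackCone.isLimitOfCompMono _ _ hU.fromSpec _ h₁.isLimit⟩⟩
  let m := pullback.map (AE.ι U hU ≫ AE.π) (AF.ι U hU ≫ AF.π) AE.π AF.π (AE.ι U hU) (AF.ι U hU) (𝟙 S)
    (by simp) (by simp)
  let k := hpb.isoPullback.hom ≫ m
  have hk : A.ι U hU ≫ c = k := by
    apply pullback.hom_ext
    · simp only [c, k, m, Category.assoc, pullback.lift_fst, pullback.map, RelSpec.QCAlg.ι_specMap,
        IsPullback.isoPullback_hom_fst_assoc]
    · simp only [c, k, m, Category.assoc, pullback.lift_snd, pullback.map, RelSpec.QCAlg.ι_specMap,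
        IsPullback.isoPullback_hom_snd_assoc]
  haveI : IsOpenImmersion k := inferInstance
  have hrange : k.opensRange = (pullback.fst AE.π AF.π ≫ AE.π) ⁻¹ᵁ U := by
    apply SetLike.coe_injective
    refine le_antisymm ?_ ?_
    · rintro _ ⟨y, rfl⟩
      change (pullback.fst AE.π AF.π ≫ AE.π).base (k.base y) ∈ U
      rw [← hk]
      change (c ≫ pullback.fst AE.π AF.π ≫ AE.π).base ((A.ι U hU).base y) ∈ U
      rw [hcπ]
      exact (A.π_preimage U hU).ge ⟨y, rfl⟩
    · intro q hq
      have hr : Set.range m.base = (pullback.fst AE.π AF.π).base ⁻¹' Set.range (AE.ι U hU).base ∩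
          (pullback.snd AE.π AF.π).base ⁻¹' Set.range (AF.ι U hU).base := Scheme.Pullback.range_map _ _ _ _ _ _ _ _ _
      have hq' : q ∈ Set.range m.base := by
        rw [hr]
        refine ⟨(AE.π_preimage U hU).le hq, (AF.π_preimage U hU).le ?_⟩
        change (pullback.snd AE.π AF.π ≫ AF.π).base q ∈ U
        rw [← pullback.condition]
        exact hq
      obtain ⟨y, rfl⟩ := hq'
      exact ⟨hpb.isoPullback.inv.base y, by simp [k, ← Scheme.Hom.comp_apply]⟩
  rw [← hrange]
  have hc' : c ⁻¹ᵁ k.opensRange = (A.ι U hU).opensRange := by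
    rw [hrange, ← A.π_preimage U hU, ← Scheme.Hom.comp_preimage, hcπ]
  have e : Arrow.mk (𝟙 (Spec (A.presheaf.obj (op U)))) ≅ Arrow.mk (c ∣_ k.opensRange) :=
    Arrow.isoMk ((A.ι U hU).isoOpensRange ≪≫ A.spec.isoOfEq hc'.symm) k.isoOpensRange (by
      rw [← cancel_mono k.opensRange.ι]
      simp [← hk])
  exact (MorphismProperty.arrow_mk_iso_iff (MorphismProperty.isomorphisms _) e).1
    (inferInstanceAs (IsIso (𝟙 (Spec (A.presheaf.obj (op U))))))

end Groth.Agent.S8271
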