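import Groth.Statements.S8272
import Groth.Agent.H11Proj.Scheme
import Mathlib.AlgebraicGeometry.IdealSheaf.Basic
import Mathlib.AlgebraicGeometry.ProjectiveSpectrum.Proper

set_option autoImplicit false
universe u
open CategoryTheory CategoryTheory.Limits AlgebraicGeometry Opposite TopologicalSpace
open EGA2

open Groth.Agent.H11Proj

namespace Groth.Agent.S8272

/-- Let T be a positively graded ring, Z = Proj T and g ∈ T_d (d > 0) a homogeneous element that is not
a zero divisor in T. Then Z is the smallest closed subscheme of Z containing the open D_+(g);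
equivalently the kernel (ideal sheaf) of the open immersion D_+(g) → Z vanishes. -/
theorem result {R A : Type u} [CommRing R] [CommRing A] [Algebra R A]
    (𝒜 : ℕ → Submodule R A) [GradedAlgebra 𝒜] {d : ℕ} (hd : 0 < d) (g : A) (hg : g ∈ 𝒜 d)
    (hnz : g ∈ nonZeroDivisors A) :
    (Proj.basicOpen 𝒜 g).ι.ker = ⊥ := by
  have hD : IsAffineOpen (Proj.basicOpen 𝒜 g) := Proj.isAffineOpen_basicOpen 𝒜 g hg hd
  have : IsAffine (Proj.basicOpen 𝒜 g : Scheme.{u}) := hD
  have : QuasiCompact (Proj.basicOpen 𝒜 g).ι := inferInstance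
  let U : (Σ i : PNat, 𝒜 i) → (Proj 𝒜).affineOpens := fun j =>
    ⟨Proj.basicOpen 𝒜 (j.2 : A), Proj.isAffineOpen_basicOpen 𝒜 _ j.2.2 j.1.2⟩
  refine Scheme.IdealSheafData.ext_of_iSup_eq_top U ?_ fun j => ?_
  · refine eq_top_iff.2 fun x _ => TopologicalSpace.Opens.mem_iSup.2 ?_
    obtain ⟨k, hk, f, hf, hfx⟩ : ∃ k, 0 < k ∧ ∃ f ∈ 𝒜 k, f ∉ x.asHomogeneousIdeal.toIdeal := by
      by_contra h
      push Not at h
      exact x.not_irrelevant_le ((irrelevant_le_iff 𝒜).2 fun d hd a ha => h d hd a ha)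
    exact ⟨⟨⟨k, hk⟩, f, hf⟩, hfx⟩
  obtain ⟨i, f, hf⟩ := j
  have hi : 0 < (i : ℕ) := i.2
  rw [Scheme.Hom.ker_apply, Scheme.IdealSheafData.ideal_bot, Pi.bot_apply, ← RingHom.injective_iff_ker_eq_bot,
    Scheme.Opens.ι_app]
  -- restriction from `D+(f)` to `D+(f g)` is injective
  have hinj : Function.Injective ((Proj 𝒜).presheaf.map
      (homOfLE (Proj.basicOpen_mono 𝒜 f (f * g) ⟨g, rfl⟩)).op).hom := by
    have hs : Function.Bijective (Proj.awayToSection 𝒜 f).hom :=
      ConcreteCategory.bijective_of_isIso (Proj.basicOpenIsoAway 𝒜 f hf hi).hom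
    have hs' : Function.Bijective (Proj.awayToSection 𝒜 (f * g)).hom :=
      ConcreteCategory.bijective_of_isIso (Proj.basicOpenIsoAway 𝒜 (f * g)
        (SetLike.mul_mem_graded hf hg) (Nat.add_pos_left hi d)).hom
    have hm : Function.Injective (HomogeneousLocalization.awayMap 𝒜 hg (rfl : f * g = f * g)) := by
      refine (injective_iff_map_eq_zero _).2 fun z hz => ?_
      obtain ⟨n, a, ha, rfl⟩ := HomogeneousLocalization.Away.mk_surjective 𝒜 hf z
      have h0 := congrArg HomogeneousLocalization.val hz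
      rw [HomogeneousLocalization.awayMap_mk, HomogeneousLocalization.Away.val_mk,
        HomogeneousLocalization.val_zero, mk_eq_zero_iff_exists_pow] at h0
      obtain ⟨l, hl⟩ := h0
      apply HomogeneousLocalization.val_injective
      rw [HomogeneousLocalization.val_zero, HomogeneousLocalization.Away.val_mk, mk_eq_zero_iff_exists_pow]
      refine ⟨l, ?_⟩
      refine (mul_right_mem_nonZeroDivisors_eq_zero_iff (pow_mem hnz (l + n))).1 ?_
      rw [← hl]
      ring
    intro x y hxy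
    obtain ⟨a, rfl⟩ := hs.2 x
    obtain ⟨b, rfl⟩ := hs.2 y
    have key := fun c => ConcreteCategory.congr_hom
      (Proj.awayMap_awayToSection 𝒜 hg (rfl : f * g = f * g)) c
    exact congrArg _ (hm (hs'.1 ((key a).trans (hxy.trans (key b).symm))))
  -- factor through that restriction
  let W := (Proj.basicOpen 𝒜 g).ι ''ᵁ (Proj.basicOpen 𝒜 g).ι ⁻¹ᵁ Proj.basicOpen 𝒜 f
  have hle : Proj.basicOpen 𝒜 (f * g) ≤ W := by
    rw [Proj.basicOpen_mul]
    rintro x ⟨hxf, hxg⟩
    exact ⟨⟨x, hxg⟩, hxf, rfl⟩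
  intro x y hxy
  apply hinj
  have := congrArg ((Proj 𝒜).presheaf.map (homOfLE hle).op).hom hxy
  refine Eq.trans ?_ (this.trans ?_)
  · exact ConcreteCategory.congr_hom ((Proj 𝒜).presheaf.map_comp _ (homOfLE hle).op) x
  · exact (ConcreteCategory.congr_hom ((Proj 𝒜).presheaf.map_comp _ (homOfLE hle).op) y).symm

end Groth.Agent.S8272
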