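import Groth.Statements.S8273
import Groth.Agent.H11Proj.RelProjGlue

set_option autoImplicit false
universe u
open CategoryTheory CategoryTheory.Limits AlgebraicGeometry Opposite TopologicalSpace
open scoped HomogeneousIdeal
open EGA2

namespace Groth.Agent.S8273

/-- Uniqueness of the relative homogeneous spectrum: two schemes over Y equipped with the chart data of
Proj(𝒮) are related by a unique morphism compatible with the charts (chartwise the identity of Proj
𝒮(U)), and that morphism is a Y-isomorphism. -/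
theorem result {Y P P' : Scheme.{u}} (𝒮 : RelProj.QCGrAlg Y) (p : P ⟶ Y)
    (chart : ∀ (U : Y.Opens) (hU : IsAffineOpen U), (((p ⁻¹ᵁ U : P.Opens) : Scheme.{u}) ≅ Proj (𝒮.deg U hU)))
    (hP : RelProj.IsRelProj 𝒮 p chart) (p' : P' ⟶ Y)
    (chart' : ∀ (U : Y.Opens) (hU : IsAffineOpen U), (((p' ⁻¹ᵁ U : P'.Opens) : Scheme.{u}) ≅ Proj (𝒮.deg U hU)))
    (hP' : RelProj.IsRelProj 𝒮 p' chart') :
    (∃! e : P ⟶ P', ∀ (U : Y.Opens) (hU : IsAffineOpen U),
        (p ⁻¹ᵁ U).ι ≫ e = (chart U hU).hom ≫ (chart' U hU).inv ≫ (p' ⁻¹ᵁ U).ι) ∧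
      ∀ e : P ⟶ P', (∀ (U : Y.Opens) (hU : IsAffineOpen U),
        (p ⁻¹ᵁ U).ι ≫ e = (chart U hU).hom ≫ (chart' U hU).inv ≫ (p' ⁻¹ᵁ U).ι) → IsIso e ∧ e ≫ p' = p := by
  have hg : ∀ (U : Y.Opens) (hU : IsAffineOpen U) (r : Γ(Y, U)),
      P.homOfLE (p.preimage_mono (Y.basicOpen_le r)) ≫
          ((chart U hU).hom ≫ (chart' U hU).inv ≫ (p' ⁻¹ᵁ U).ι) =
        (chart (Y.basicOpen r) (hU.basicOpen r)).hom ≫ (chart' (Y.basicOpen r) (hU.basicOpen r)).inv ≫
          (p' ⁻¹ᵁ Y.basicOpen r).ι := by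
    intro U hU r
    rw [← Category.assoc, hP.chart_res U hU r, Category.assoc]
    congr 1
    rw [← Scheme.homOfLE_ι P' (p'.preimage_mono (Y.basicOpen_le r)), ← Category.assoc, ← Category.assoc]
    congr 1
    rw [Iso.eq_inv_comp, ← Category.assoc, Iso.comp_inv_eq]
    exact (hP'.chart_res U hU r).symm
  obtain ⟨e, he, huniq⟩ := Groth.Agent.H11Proj.existsUnique_glue p
    (fun U hU => (chart U hU).hom ≫ (chart' U hU).inv ≫ (p' ⁻¹ᵁ U).ι) hg
  refine ⟨⟨e, he, huniq⟩, fun e he => ?_⟩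
  have hover : e ≫ p' = p := by
    refine Groth.Agent.H11Proj.hom_ext_affinePreimage p fun U hU => ?_
    rw [← Category.assoc, he U hU, Category.assoc, Category.assoc, ← hP'.chart_over U hU,
      Iso.inv_hom_id_assoc, hP.chart_over U hU]
  refine ⟨?_, hover⟩
  refine IsZariskiLocalAtTarget.of_openCover (P := MorphismProperty.isomorphisms Scheme)
    (Groth.Agent.H11Proj.affinePreimageCover p') fun (i : Y.affineOpens) => ?_
  obtain ⟨U, hU⟩ := i
  change IsAffineOpen U at hU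
  have hsq : IsPullback ((chart U hU).hom ≫ (chart' U hU).inv) (p ⁻¹ᵁ U).ι (p' ⁻¹ᵁ U).ι e := by
    refine IsOpenImmersion.isPullback _ _ _ _ ?_ ?_
    · rw [he U hU, Category.assoc]
    · rw [Scheme.Opens.opensRange_ι, Scheme.Opens.opensRange_ι, ← Scheme.Hom.comp_preimage, hover]
  have hi : IsIso ((chart U hU).hom ≫ (chart' U hU).inv) := inferInstance
  change IsIso (pullback.snd e (p' ⁻¹ᵁ U).ι)
  rw [← hsq.flip.isoPullback_hom_snd] at hi
  exact @IsIso.of_isIso_comp_left _ _ _ _ _ hsq.flip.isoPullback.hom _ (Iso.isIso_hom _) hi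

end Groth.Agent.S8273
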