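import Groth.Statements.S8276
import Groth.Agent.H11Proj.Natural

set_option autoImplicit false
universe u
open EGA2

open Groth.Agent.H11Proj Groth.Agent.H11Proj.Natural

namespace Groth.Agent.S8276

/-- For a positively graded ring S and the graded ring S♮ with S♮_n = S_{≥ n} = ⊕_{m ≥ n} S_m (presented
here as a graded ring S' with an injective algebra homomorphism φ : S' → S[X] carrying S'_n onto
S_{≥ n}·X^n for every n, so that S'_0 is identified with S): S♮ is Noetherian if and only if S is. -/
theorem result {R A B : Type u} [CommRing R] [CommRing A] [Algebra R A]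
    (𝒜 : ℕ → Submodule R A) [GradedAlgebra 𝒜] [CommRing B] [Algebra R B] (ℬ : ℕ → Submodule R B) [GradedAlgebra ℬ]
    (φ : B →ₐ[R] Polynomial A) (hφ : Function.Injective φ)
    (hdeg : ∀ n : ℕ, Submodule.map φ.toLinearMap (ℬ n) =
      Submodule.map ((Polynomial.monomial n : A →ₗ[A] Polynomial A).restrictScalars R) (⨆ (m : ℕ) (_ : n ≤ m), 𝒜 m)) :
    IsNoetherianRing B ↔ IsNoetherianRing A := by
  exact isNoetherianRing_natural_iff φ hφ hdeg

end Groth.Agent.S8276
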