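import Groth.Statements.S8277
import Groth.Agent.H11Proj.Natural

set_option autoImplicit false
universe u
open EGA2

open Groth.Agent.H11Proj Groth.Agent.H11Proj.Natural

namespace Groth.Agent.S8277

/-- For a positively graded ring S, the graded ring S♮ with S♮_n = S_{≥ n} = ⊕_{m ≥ n} S_m (presented
here as a graded ring S' with an injective algebra homomorphism φ : S' → S[X] carrying S'_n onto
S_{≥ n}·X^n for every n, so that S'_0 is identified with S), and n₀ ≥ 0: S♮_{n+1} = S♮_1 S♮_n for n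
≥ n₀ if and only if S_{n+1} = S_1 S_n for n ≥ n₀. -/
theorem result {R A B : Type u} [CommRing R] [CommRing A] [Algebra R A]
    (𝒜 : ℕ → Submodule R A) [GradedAlgebra 𝒜] [CommRing B] [Algebra R B] (ℬ : ℕ → Submodule R B) [GradedAlgebra ℬ]
    (φ : B →ₐ[R] Polynomial A) (hφ : Function.Injective φ)
    (hdeg : ∀ n : ℕ, Submodule.map φ.toLinearMap (ℬ n) =
      Submodule.map ((Polynomial.monomial n : A →ₗ[A] Polynomial A).restrictScalars R) (⨆ (m : ℕ) (_ : n ≤ m), 𝒜 m)) (n₀ : ℕ) :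
    (∀ n : ℕ, n₀ ≤ n → ℬ (n + 1) = ℬ 1 * ℬ n) ↔ (∀ n : ℕ, n₀ ≤ n → 𝒜 (n + 1) = 𝒜 1 * 𝒜 n) := by
  have key : ∀ n, ℬ (n + 1) = ℬ 1 * ℬ n ↔ tail 𝒜 (n + 1) = tail 𝒜 1 * tail 𝒜 n :=
    fun n => eq_iff_coeff φ hφ hdeg (map_mul_succ φ hdeg n)
  simp only [key]
  constructor
  · intro h n hn
    refine le_antisymm (fun a ha => ?_) ?_
    · have hmem : a ∈ tail 𝒜 1 * tail 𝒜 n := (h n hn).le (mem_tail_of_mem 𝒜 le_rfl ha)
      have : ∀ x ∈ tail 𝒜 1 * tail 𝒜 n, (DirectSum.decompose 𝒜 x (n + 1) : A) ∈ 𝒜 1 * 𝒜 n := by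
        intro x hx
        induction hx using Submodule.mul_induction_on' with
        | mem_mul_mem p hp q hq =>
          rw [add_comm n 1, decompose_mul_tail 𝒜 hp hq]
          exact Submodule.mul_mem_mul (DirectSum.decompose 𝒜 p 1).2 (DirectSum.decompose 𝒜 q n).2
        | add x _ y _ hx hy =>
          rw [DirectSum.decompose_add, DirectSum.add_apply, Submodule.coe_add]
          exact add_mem hx hy
      have := this a hmem
      rwa [DirectSum.decompose_of_mem_same 𝒜 ha] at this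
    · rw [Submodule.mul_le]
      intro x hx y hy
      rw [add_comm]
      exact graded_mul_mem 𝒜 hx hy
  · intro h n hn
    refine le_antisymm (iSup₂_le fun m hm => ?_) (by rw [add_comm]; exact tail_mul_le 𝒜 1 n)
    obtain ⟨j, rfl⟩ : ∃ j, m = j + 1 := ⟨m - 1, by omega⟩
    rw [h j (by omega)]
    exact mul_le_mul' (fun x hx => mem_tail_of_mem 𝒜 le_rfl hx) (fun x hx => mem_tail_of_mem 𝒜 (by omega) hx)

end Groth.Agent.S8277
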