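import Groth.Statements.S8278
import Groth.Agent.H11Proj.Natural

set_option autoImplicit false
universe u
open EGA2

open Groth.Agent.H11Proj Groth.Agent.H11Proj.Natural

namespace Groth.Agent.S8278

/-- For a positively graded ring S, the graded ring S♮ with S♮_n = S_{≥ n} = ⊕_{m ≥ n} S_m (presented
here as a graded ring S' with an injective algebra homomorphism φ : S' → S[X] carrying S'_n onto
S_{≥ n}·X^n for every n, so that S'_0 is identified with S), and n₀ ≥ 1: S♮_n = (S♮_1)^n for n ≥ n₀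
if and only if S_n = (S_1)^n for n ≥ n₀. (n₀ ≥ 1 because the zeroth power of a submodule is the span
of 1, not the degree-zero part.) -/
theorem result {R A B : Type u} [CommRing R] [CommRing A] [Algebra R A]
    (𝒜 : ℕ → Submodule R A) [GradedAlgebra 𝒜] [CommRing B] [Algebra R B] (ℬ : ℕ → Submodule R B) [GradedAlgebra ℬ]
    (φ : B →ₐ[R] Polynomial A) (hφ : Function.Injective φ)
    (hdeg : ∀ n : ℕ, Submodule.map φ.toLinearMap (ℬ n) =
      Submodule.map ((Polynomial.monomial n : A →ₗ[A] Polynomial A).restrictScalars R) (⨆ (m : ℕ) (_ : n ≤ m), 𝒜 m)) (n₀ : ℕ) (hn₀ : 1 ≤ n₀) :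
    (∀ n : ℕ, n₀ ≤ n → ℬ n = ℬ 1 ^ n) ↔ (∀ n : ℕ, n₀ ≤ n → 𝒜 n = 𝒜 1 ^ n) := by
  have key : ∀ n, n₀ ≤ n → (ℬ n = ℬ 1 ^ n ↔ tail 𝒜 n = tail 𝒜 1 ^ n) :=
    fun n hn => eq_iff_coeff φ hφ hdeg (map_pow_one φ hdeg n (hn₀.trans hn))
  have hle : ∀ n, tail 𝒜 1 ^ n ≤ tail 𝒜 n := by
    intro n
    induction n with
    | zero => rw [tail_zero]; exact le_top
    | succ n ih =>
      rw [pow_succ]
      exact (mul_le_mul' ih le_rfl).trans (tail_mul_le 𝒜 n 1)
  have hle' : ∀ n, 1 ≤ n → 𝒜 1 ^ n ≤ 𝒜 n := fun n _ => by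
    simpa using pow_graded_le 𝒜 1 n
  constructor
  · intro h n hn
    refine le_antisymm (fun a ha => ?_) (hle' n (hn₀.trans hn))
    have hmem : a ∈ tail 𝒜 1 ^ n := ((key n hn).1 (h n hn)).le (mem_tail_of_mem 𝒜 le_rfl ha)
    have : ∀ k, 1 ≤ k → ∀ x ∈ tail 𝒜 1 ^ k, (DirectSum.decompose 𝒜 x k : A) ∈ 𝒜 1 ^ k := by
      intro k hk
      induction k, hk using Nat.le_induction with
      | base =>
        intro x _
        rw [pow_one]
        exact (DirectSum.decompose 𝒜 x 1).2
      | succ k hk ih =>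
        intro x hx
        rw [pow_succ] at hx ⊢
        induction hx using Submodule.mul_induction_on' with
        | mem_mul_mem p hp q hq =>
          rw [decompose_mul_tail 𝒜 (hle k hp) hq]
          exact Submodule.mul_mem_mul (ih p hp) (DirectSum.decompose 𝒜 q 1).2
        | add x _ y _ hx hy =>
          rw [DirectSum.decompose_add, DirectSum.add_apply, Submodule.coe_add]
          exact add_mem hx hy
    have := this n (hn₀.trans hn) a hmem
    rwa [DirectSum.decompose_of_mem_same 𝒜 ha] at this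
  · intro h n hn
    refine (key n hn).2 (le_antisymm (iSup₂_le fun m hm => ?_) (hle n))
    obtain ⟨j, rfl⟩ : ∃ j, m = n + j := ⟨m - n, by omega⟩
    rw [h (n + j) (by omega)]
    obtain ⟨i, rfl⟩ : ∃ i, n = i + 1 := ⟨n - 1, by omega⟩
    rw [show i + 1 + j = i + (j + 1) by omega, pow_add, pow_succ (tail 𝒜 1)]
    refine mul_le_mul' (pow_le_pow_left' (fun x hx => mem_tail_of_mem 𝒜 le_rfl hx) _) ?_
    exact (hle' (j + 1) (by omega)).trans fun x hx => mem_tail_of_mem 𝒜 (by omega) hx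

end Groth.Agent.S8278
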