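import Groth.Statements.S8282
import Groth.Agent.H11Proj.EventuallyDegOne

set_option autoImplicit false
universe u
open CategoryTheory CategoryTheory.Limits AlgebraicGeometry
open EGA2

namespace Groth.Agent.S8282

/-- Let T be a positively graded ring which is a T_0-algebra of finite type, and T' = ⊕_n T_1^n → T the
injective graded homomorphism from the subalgebra generated by T_1 (T' presented as a graded ring
with φ : T' → T injective, bijective in degrees 0 and 1, and T'_n = (T'_1)^n for n ≥ 1). If the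
morphism of homogeneous spectra induced by φ is everywhere defined (its domain G(φ) is the whole of
Proj T) and is an isomorphism onto Proj T', then there is n₀ with T_n = T_1^n for all n ≥ n₀. -/
theorem result {R A B : Type u} [CommRing R] [CommRing A] [Algebra R A]
    (𝒜 : ℕ → Submodule R A) [GradedAlgebra 𝒜] [CommRing B] [Algebra R B] (ℬ : ℕ → Submodule R B) [GradedAlgebra ℬ]
    [Algebra.FiniteType (ℬ 0) B] (φ : 𝒜 →+*ᵍ ℬ) (hφ : Function.Injective φ)
    (h0 : Set.BijOn φ (𝒜 0) (ℬ 0)) (h1 : Set.BijOn φ (𝒜 1) (ℬ 1))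
    (hgen : ∀ n : ℕ, 1 ≤ n → 𝒜 n = 𝒜 1 ^ n)
    (hdom : PCone.dom φ = ⊤)
    (p : (PCone.dom φ : Scheme.{u}) ⟶ Proj 𝒜)
    (hp : ∀ (d : ℕ) (f : A) (hd : 0 < d) (hf : f ∈ 𝒜 d),
      PCone.chart φ hf hd ≫ p =
        Spec.map (CommRingCat.ofHom (HomogeneousLocalization.Away.map φ f)) ≫ Proj.awayι 𝒜 f hf hd)
    [IsIso p] :
    ∃ n₀ : ℕ, ∀ n : ℕ, n₀ ≤ n → ℬ n = ℬ 1 ^ n := by
  exact H11Proj.eventually_eq_pow_degOne φ h0 h1 hgen hdom p hp

end Groth.Agent.S8282
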