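import Groth.Statements.S8286
import Groth.Agent.H11Tilde.Rel

set_option autoImplicit false
universe u
open CategoryTheory CategoryTheory.Limits AlgebraicGeometry Opposite TopologicalSpace
open scoped HomogeneousIdeal
noncomputable section
open EGA2

open TopologicalSpace Opposite
namespace Groth.Agent.S8286

/-- If the quasi-coherent positively graded O_Y-algebra 𝒮 is generated by 𝒮_1, then on P = Proj(𝒮) the
twisting sheaves O_P(n) are invertible for every integer n. -/
theorem result {Y P : Scheme.{u}} (𝒮 : RelProj.QCGrAlg Y) (hgen : 𝒮.IsGenDegOne)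
    (p : P ⟶ Y)
    (chart : ∀ (U : Y.Opens) (hU : IsAffineOpen U), (((p ⁻¹ᵁ U : P.Opens) : Scheme.{u}) ≅ Proj (𝒮.deg U hU)))
    (hP : RelProj.IsRelProj 𝒮 p chart) (n : ℤ) (L : P.Modules)
    (lam : ∀ (U : Y.Opens) (hU : IsAffineOpen U),
      L ⟶ (Scheme.Modules.pushforward (RelProj.emb p chart U hU)).obj (GrTwist.twist (𝒮.deg U hU) n))
    (hL : RelProj.IsRelTwist 𝒮 p chart n L lam) : PicF.IsInvertible L := by
  refine Groth.Agent.H11Tilde.isInvertible_of_openImmersions
    (fun U : Y.affineOpens => RelProj.emb p chart U.1 U.2) (Groth.Agent.H11Tilde.exists_mem_range_emb p chart) L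
    fun U => ?_
  refine Groth.Agent.H11Tilde.isInvertible_of_iso
    (Groth.Agent.H11Tilde.isoOfBijectiveApp (RelProj.emb p chart U.1 U.2) (lam U.1 U.2) fun W hW =>
      hL.bijective U.1 U.2 W (hW.trans (Groth.Agent.H11Tilde.opensRange_emb p chart U.1 U.2).le)).symm ?_
  intro x
  obtain ⟨a, ha, hax⟩ := Groth.Agent.H11Tilde.exists_degOne_notMem (𝒮.deg U.1 U.2) (hgen U.1 U.2) x
  obtain ⟨e⟩ := Groth.Agent.H11Tilde.nonempty_twist_restrict_iso (𝒮.deg U.1 U.2) ha n
    (Proj.basicOpen (𝒮.deg U.1 U.2) a) le_rfl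
  rw [Nat.cast_one, mul_one] at e
  exact ⟨_, hax, ⟨e⟩⟩

end Groth.Agent.S8286
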