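import Groth.Statements.S8287
import Groth.Agent.H11QMap.TwistPullMap

set_option autoImplicit false
universe u
open CategoryTheory CategoryTheory.Limits AlgebraicGeometry Opposite TopologicalSpace
open scoped HomogeneousIdeal
noncomputable section
open EGA2

namespace Groth.Agent.S8287

/-- Let φ : 𝒜 → ℬ be a surjective graded homomorphism of quasi-coherent positively graded O_Y-algebras
with 𝒜 generated by 𝒜_1, and h : Proj(ℬ) → Proj(𝒜) the closed immersion it induces. Then for every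
integer n the inverse image h^*(O_{Proj(𝒜)}(n)) is isomorphic to O_{Proj(ℬ)}(n) (existence of an
isomorphism only; the published identification is canonical, and allows φ merely eventually
surjective). -/
theorem result {Y PA PB : Scheme.{u}} {𝒜 ℬ : RelProj.QCGrAlg Y}
    (φ : 𝒜.toQCAlg ⟶ ℬ.toQCAlg) (hφ : RelProj.IsGradedHom φ) (hgen : 𝒜.IsGenDegOne)
    (hsurj : ∀ (U : Y.Opens) (hU : IsAffineOpen U), Function.Surjective (φ.hom.app (op U)).hom)
    (hirr : ∀ (U : Y.Opens) (hU : IsAffineOpen U),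
      (ℬ.deg U hU)₊ ≤ ((𝒜.deg U hU)₊).map (RelProj.gradedHomAt φ hφ U hU))
    (pA : PA ⟶ Y) (pB : PB ⟶ Y)
    (chartA : ∀ (U : Y.Opens) (hU : IsAffineOpen U), (((pA ⁻¹ᵁ U : PA.Opens) : Scheme.{u}) ≅ Proj (𝒜.deg U hU)))
    (chartB : ∀ (U : Y.Opens) (hU : IsAffineOpen U), (((pB ⁻¹ᵁ U : PB.Opens) : Scheme.{u}) ≅ Proj (ℬ.deg U hU)))
    (hA : RelProj.IsRelProj 𝒜 pA chartA) (hB : RelProj.IsRelProj ℬ pB chartB)
    (h : PB ⟶ PA) (hh : RelProj.IsRelProjMap φ hφ hirr chartA chartB h) (n : ℤ)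
    (LA : PA.Modules)
    (lamA : ∀ (U : Y.Opens) (hU : IsAffineOpen U),
      LA ⟶ (Scheme.Modules.pushforward (RelProj.emb pA chartA U hU)).obj (GrTwist.twist (𝒜.deg U hU) n))
    (hLA : RelProj.IsRelTwist 𝒜 pA chartA n LA lamA)
    (LB : PB.Modules)
    (lamB : ∀ (U : Y.Opens) (hU : IsAffineOpen U),
      LB ⟶ (Scheme.Modules.pushforward (RelProj.emb pB chartB U hU)).obj (GrTwist.twist (ℬ.deg U hU) n))
    (hLB : RelProj.IsRelTwist ℬ pB chartB n LB lamB) :
    Nonempty ((Scheme.Modules.pullback h).obj LA ≅ LB) := by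
  exact H11QMap.nonempty_pullback_relProjMap_iso φ hφ hirr hA hB hh
    (fun U hU y => H11Tilde.exists_degOne_notMem (𝒜.deg U hU) (hgen U hU) y) hLA hLB

end Groth.Agent.S8287
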