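import Groth.Statements.S8290
import Groth.Agent.H11Tilde.Rel

set_option autoImplicit false
universe u
open CategoryTheory CategoryTheory.Limits AlgebraicGeometry Opposite TopologicalSpace
open scoped HomogeneousIdeal
noncomputable section
open EGA2

open TopologicalSpace Opposite
namespace Groth.Agent.S8290

/-- Let 𝒮 be a quasi-coherent positively graded O_Y-algebra, X = Proj(𝒮), and U a quasi-compact open
subset of X. There is an integer d > 0 such that for every n divisible by d the twisting sheaf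
O_X(n) restricted to U is invertible. (The published statement adds that its inverse is O_X(-n)|U.) -/
theorem result {Y X : Scheme.{u}} (𝒮 : RelProj.QCGrAlg Y) (q : X ⟶ Y)
    (chart : ∀ (U : Y.Opens) (hU : IsAffineOpen U), (((q ⁻¹ᵁ U : X.Opens) : Scheme.{u}) ≅ Proj (𝒮.deg U hU)))
    (hX : RelProj.IsRelProj 𝒮 q chart) (U : X.Opens) (hU : IsCompact (U : Set X)) :
    ∃ d : ℕ, 0 < d ∧ ∀ (n : ℤ), (d : ℤ) ∣ n →
      ∀ (L : X.Modules)
        (lam : ∀ (V : Y.Opens) (hV : IsAffineOpen V),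
          L ⟶ (Scheme.Modules.pushforward (RelProj.emb q chart V hV)).obj (GrTwist.twist (𝒮.deg V hV) n)),
        RelProj.IsRelTwist 𝒮 q chart n L lam → PicF.IsInvertible (L.restrict U.ι) := by
  classical
  have hloc : ∀ x : U, ∃ (V : Y.Opens) (hV : IsAffineOpen V) (e : ℕ) (f : 𝒮.presheaf.obj (op V))
      (y : Proj (𝒮.deg V hV)), 0 < e ∧ f ∈ 𝒮.deg V hV e ∧ y ∈ Proj.basicOpen (𝒮.deg V hV) f ∧
        (RelProj.emb q chart V hV).base y = x.1 := by
    intro x
    obtain ⟨⟨V, hV⟩, y, hy⟩ := Groth.Agent.H11Tilde.exists_mem_range_emb q chart x.1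
    obtain ⟨a, ha, hay⟩ := SetLike.not_le_iff_exists.1 y.not_irrelevant_le
    by_contra hne
    refine hay (show a ∈ y.asHomogeneousIdeal.toIdeal from ?_)
    rw [← DirectSum.sum_support_decompose (𝒮.deg V hV) a]
    refine Ideal.sum_mem _ fun d _ => ?_
    rcases Nat.eq_zero_or_pos d with rfl | hd
    · rw [show (DirectSum.decompose (𝒮.deg V hV) a 0 : 𝒮.presheaf.obj (op V)) = 0 from
        (HomogeneousIdeal.mem_irrelevant_iff (𝒮.deg V hV) a).1 ha]
      exact zero_mem _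
    · by_contra h
      exact hne ⟨V, hV, d, _, y, hd, (DirectSum.decompose (𝒮.deg V hV) a d).2, h, hy⟩
  choose V hV e f y he hf hyf hyx using hloc
  let O : U → X.Opens := fun x => RelProj.emb q chart (V x) (hV x) ''ᵁ Proj.basicOpen (𝒮.deg (V x) (hV x)) (f x)
  obtain ⟨T, hT⟩ := hU.elim_finite_subcover (fun x => (O x : Set X)) (fun x => (O x).isOpen)
    (fun x hx => Set.mem_iUnion.2 ⟨⟨x, hx⟩, ⟨_, hyf ⟨x, hx⟩, hyx ⟨x, hx⟩⟩⟩)
  refine ⟨∏ t ∈ T, e t, Finset.prod_pos fun t _ => he t, ?_⟩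
  rintro n ⟨m, rfl⟩ L lam hL x
  obtain ⟨t, htT, hxt⟩ : ∃ t ∈ T, x.1 ∈ O t := by
    have := hT x.2
    simpa using this
  obtain ⟨k, hk⟩ : e t ∣ ∏ t ∈ T, e t := Finset.dvd_prod_of_mem e htT
  obtain ⟨z, hz, hzx⟩ := hxt
  let j := RelProj.emb q chart (V t) (hV t)
  let W : (Proj (𝒮.deg (V t) (hV t))).Opens := Proj.basicOpen (𝒮.deg (V t) (hV t)) (f t) ⊓ j ⁻¹ᵁ U
  obtain ⟨e1⟩ := Groth.Agent.H11Tilde.nonempty_twist_restrict_iso (𝒮.deg (V t) (hV t)) (hf t) ((k : ℤ) * m)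
    W inf_le_left
  have hn : ((∏ t ∈ T, e t : ℕ) : ℤ) * m = (k : ℤ) * m * (e t : ℤ) := by rw [hk]; push_cast; ring
  rw [← hn] at e1
  let e2 : L.restrict (j ''ᵁ W).ι ≅ Coh.structureModule (↑(j ''ᵁ W) : Scheme.{u}) :=
    Groth.Agent.H11Tilde.restrictImageIso j L W ≪≫
      (Scheme.Modules.restrictFunctor (j.isoImage W).inv).mapIso
        ((Scheme.Modules.restrictFunctor W.ι).mapIso
          (Groth.Agent.H11Tilde.isoOfBijectiveApp j (lam (V t) (hV t)) fun W' hW' =>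
            hL.bijective _ _ W' (hW'.trans (Groth.Agent.H11Tilde.opensRange_emb q chart _ _).le)) ≪≫ e1) ≪≫
      Scheme.Modules.restrictUnitIso (j.isoImage W).inv
  have hle : j ''ᵁ W ≤ U := by
    rintro _ ⟨w, hw, rfl⟩
    exact hw.2
  refine ⟨U.ι ⁻¹ᵁ (j ''ᵁ W), ⟨z, ⟨hz, ?_⟩, hzx⟩, Groth.Agent.H11Tilde.restrict_restrict_trivial hle L e2⟩
  change j.base z ∈ U
  rw [show j.base z = x.1 from hzx]
  exact x.2

end Groth.Agent.S8290
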