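import Groth.Statements.S8291
import Groth.Agent.H11Proj.AwayBaseChange

set_option autoImplicit false
universe u
open CategoryTheory CategoryTheory.Limits AlgebraicGeometry Opposite TopologicalSpace
open scoped HomogeneousIdeal
noncomputable section
open EGA2

open Groth.Agent.H11Proj

namespace Groth.Agent.S8291

/-- Let ψ : Y' → Y be a morphism, 𝒮 a quasi-coherent positively graded O_Y-algebra and 𝒮' = ψ^*𝒮,
presented as a quasi-coherent graded O_{Y'}-algebra with a graded ψ-morphism u : 𝒮 → ψ_*𝒮' whose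
squares O_Y(U) → O_{Y'}(U'), 𝒮(U) → 𝒮'(U') over affine opens U' ⊆ ψ⁻¹(U) are pushouts of rings. If g
: Proj(𝒮') → Proj(𝒮) is chartwise the morphism of homogeneous spectra induced by 𝒮(U) → 𝒮'(U'), then
Proj(𝒮') together with g and its structure morphism is the fibre product Proj(𝒮) ×_Y Y'. -/
theorem result {Y Y' P P' : Scheme.{u}} (ψ : Y' ⟶ Y) (𝒮 : RelProj.QCGrAlg Y)
    (𝒮' : RelProj.QCGrAlg Y') (u : 𝒮.presheaf ⟶ ψ.base _* 𝒮'.presheaf)
    (hu : 𝒮.str ≫ u = ψ.c ≫ (TopCat.Presheaf.pushforward CommRingCat.{u} ψ.base).map 𝒮'.str)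
    (φ : ∀ (U : Y.Opens) (hU : IsAffineOpen U) (U' : Y'.Opens) (hU' : IsAffineOpen U') (_ : U' ≤ ψ ⁻¹ᵁ U),
      𝒮.deg U hU →+*ᵍ 𝒮'.deg U' hU')
    (hφ : ∀ (U : Y.Opens) (hU : IsAffineOpen U) (U' : Y'.Opens) (hU' : IsAffineOpen U') (hle : U' ≤ ψ ⁻¹ᵁ U),
      (φ U hU U' hU' hle).toRingHom =
        ((u.app (op U) : 𝒮.presheaf.obj (op U) ⟶ 𝒮'.presheaf.obj (op (ψ ⁻¹ᵁ U))) ≫
          𝒮'.presheaf.map (homOfLE hle).op).hom)
    (hpo : ∀ (U : Y.Opens) (hU : IsAffineOpen U) (U' : Y'.Opens) (hU' : IsAffineOpen U') (hle : U' ≤ ψ ⁻¹ᵁ U),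
      IsPushout (ψ.appLE U U' hle) (𝒮.str.app (op U)) (𝒮'.str.app (op U'))
        ((u.app (op U) : 𝒮.presheaf.obj (op U) ⟶ 𝒮'.presheaf.obj (op (ψ ⁻¹ᵁ U))) ≫
          𝒮'.presheaf.map (homOfLE hle).op))
    (hirr : ∀ (U : Y.Opens) (hU : IsAffineOpen U) (U' : Y'.Opens) (hU' : IsAffineOpen U') (hle : U' ≤ ψ ⁻¹ᵁ U),
      (𝒮'.deg U' hU')₊ ≤ ((𝒮.deg U hU)₊).map (φ U hU U' hU' hle))
    (p : P ⟶ Y)
    (chart : ∀ (U : Y.Opens) (hU : IsAffineOpen U), (((p ⁻¹ᵁ U : P.Opens) : Scheme.{u}) ≅ Proj (𝒮.deg U hU)))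
    (hP : RelProj.IsRelProj 𝒮 p chart) (p' : P' ⟶ Y')
    (chart' : ∀ (U' : Y'.Opens) (hU' : IsAffineOpen U'), (((p' ⁻¹ᵁ U' : P'.Opens) : Scheme.{u}) ≅ Proj (𝒮'.deg U' hU')))
    (hP' : RelProj.IsRelProj 𝒮' p' chart') (g : P' ⟶ P)
    (hg : ∀ (U : Y.Opens) (hU : IsAffineOpen U) (U' : Y'.Opens) (hU' : IsAffineOpen U') (hle : U' ≤ ψ ⁻¹ᵁ U),
      (p' ⁻¹ᵁ U').ι ≫ g =
        (chart' U' hU').hom ≫ Proj.map (φ U hU U' hU' hle) (hirr U hU U' hU' hle) ≫ RelProj.emb p chart U hU) :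
    IsPullback g p' p ψ := by
  -- the chart squares of a relative Proj
  have hII : ∀ {S Q : Scheme.{u}} (𝒯 : RelProj.QCGrAlg S) (q : Q ⟶ S)
      (c : ∀ (V : S.Opens) (hV : IsAffineOpen V), (((q ⁻¹ᵁ V : Q.Opens) : Scheme.{u}) ≅ Proj (𝒯.deg V hV)))
      (_ : RelProj.IsRelProj 𝒯 q c) (V : S.Opens) (hV : IsAffineOpen V),
      IsPullback (RelProj.emb q c V hV) (Proj.toSpecZero (𝒯.deg V hV) ≫ Spec.map (𝒯.strZero V hV)) q
        hV.fromSpec := by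
    intro S Q 𝒯 q c hQ V hV
    refine (IsOpenImmersion.isPullback (Proj.toSpecZero (𝒯.deg V hV) ≫ Spec.map (𝒯.strZero V hV))
      (RelProj.emb q c V hV) hV.fromSpec q ?_ ?_).flip
    · rw [← cancel_epi (c V hV).hom]
      simpa [RelProj.emb] using (hQ.chart_over V hV).symm
    · rw [hV.opensRange_fromSpec]
      simp [RelProj.emb, Scheme.Hom.opensRange_comp_of_isIso]
  let ι := {i : Y.affineOpens × Y'.affineOpens // (i.2 : Y'.Opens) ≤ ψ ⁻¹ᵁ (i.1 : Y.Opens)}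
  let 𝒰 : Y'.OpenCover := Scheme.Cover.mkOfCovers ι (fun i => Spec Γ(Y', (i.1.2 : Y'.Opens)))
    (fun i => i.1.2.2.fromSpec) (fun y => by
      obtain ⟨U, hU, hyU, -⟩ := exists_isAffineOpen_mem_and_subset (x := ψ.base y) (U := (⊤ : Y.Opens)) trivial
      obtain ⟨U', hU', hyU', hle⟩ := exists_isAffineOpen_mem_and_subset (x := y) (U := ψ ⁻¹ᵁ U) hyU
      have : y ∈ hU'.fromSpec.opensRange := by rwa [hU'.opensRange_fromSpec]
      exact ⟨⟨(⟨U, hU⟩, ⟨U', hU'⟩), hle⟩, this⟩) (fun i => inferInstance)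
  refine (Scheme.isPullback_of_openCover p' g ψ p 𝒰 fun (i : ι) => ?_).flip
  obtain ⟨⟨⟨U, hU⟩, ⟨U', hU'⟩⟩, hle⟩ := i
  change IsAffineOpen U at hU
  change IsAffineOpen U' at hU'
  change U' ≤ ψ ⁻¹ᵁ U at hle
  -- the square of the charts
  let R' := Γ(Y, U)
  let R := Γ(Y', U')
  let B := 𝒮.presheaf.obj (op U)
  let A := 𝒮'.presheaf.obj (op U')
  let c : B ⟶ A := (u.app (op U) : 𝒮.presheaf.obj (op U) ⟶ 𝒮'.presheaf.obj (op (ψ ⁻¹ᵁ U))) ≫
    𝒮'.presheaf.map (homOfLE hle).op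
  let _ : Algebra R' R := (ψ.appLE U U' hle).hom.toAlgebra
  let _ : Algebra R' B := (𝒮.str.app (op U)).hom.toAlgebra
  let _ : Algebra R A := (𝒮'.str.app (op U')).hom.toAlgebra
  let _ : Algebra B A := c.hom.toAlgebra
  let _ : Algebra R' A := (c.hom.comp (𝒮.str.app (op U)).hom).toAlgebra
  have hw := (hpo U hU U' hU' hle).w
  have : IsScalarTower R' B A := IsScalarTower.of_algebraMap_eq fun _ => rfl
  have : IsScalarTower R' R A := IsScalarTower.of_algebraMap_eq fun x =>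
    (ConcreteCategory.congr_hom hw x).symm
  have : Algebra.IsPushout R' R B A := CommRingCat.isPushout_iff_isPushout.1 (hpo U hU U' hU' hle)
  have hφA : ∀ b : B, φ U hU U' hU' hle b = algebraMap B A b :=
    fun b => RingHom.congr_fun (hφ U hU U' hU' hle) b
  have hI : IsPullback (Proj.map (φ U hU U' hU' hle) (hirr U hU U' hU' hle))
      (Proj.toSpecZero (𝒮'.deg U' hU') ≫ Spec.map (𝒮'.strZero U' hU'))
      (Proj.toSpecZero (𝒮.deg U hU) ≫ Spec.map (𝒮.strZero U hU))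
      (Spec.map (ψ.appLE U U' hle)) :=
    map_isPullback (R := R) (R' := R') (φ U hU U' hU' hle) hφA (hirr U hU U' hU' hle)
      (𝒮.str_mem U hU) (𝒮'.str_mem U' hU')
  have hsq := hI.paste_horiz (hII 𝒮 p chart hP U hU)
  rw [IsAffineOpen.SpecMap_appLE_fromSpec ψ hU hU' hle] at hsq
  have hemb : RelProj.emb p' chart' U' hU' ≫ g =
      Proj.map (φ U hU U' hU' hle) (hirr U hU U' hU' hle) ≫ RelProj.emb p chart U hU := by
    rw [RelProj.emb, Category.assoc, hg U hU U' hU' hle, Iso.inv_hom_id_assoc]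
  rw [← hemb] at hsq
  refine IsPullback.of_iso hsq.flip (hII 𝒮' p' chart' hP' U' hU').isoPullback (Iso.refl _) (Iso.refl _)
    (Iso.refl _) ?_ ?_ ?_ ?_
  · change _ ≫ 𝟙 _ = (hII 𝒮' p' chart' hP' U' hU').isoPullback.hom ≫ pullback.snd _ _
    rw [Category.comp_id]
    exact (hII 𝒮' p' chart' hP' U' hU').isoPullback_hom_snd.symm
  · change _ ≫ 𝟙 _ = (hII 𝒮' p' chart' hP' U' hU').isoPullback.hom ≫ pullback.fst _ _ ≫ g
    rw [Category.comp_id, IsPullback.isoPullback_hom_fst_assoc]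
  · change _ ≫ 𝟙 _ = 𝟙 _ ≫ _
    rw [Category.comp_id, Category.id_comp]
    rfl
  · simp

end Groth.Agent.S8291
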