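import Groth.Statements.S8294
import Groth.Agent.H11Cone.Contraction

set_option autoImplicit false
universe u
open CategoryTheory CategoryTheory.Limits AlgebraicGeometry Opposite TopologicalSpace
open scoped HomogeneousIdeal
noncomputable section
open EGA2

namespace Groth.Agent.S8294

/-- Let p : X → Y be a proper morphism, L an invertible O_X-module, V = V(L) = Spec(Sym L) the
associated line bundle (Sym L the graded symmetric algebra of L, with degree-zero part O_X), j0 : X
→ V its zero section and V0 the open complement of j0(X). Then L is ample relative to p if and only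
if there are a scheme C over Y with structure morphism g, a section ε of g and a proper morphism q :
V → C over Y with j0 ≫ q = p ≫ ε, such that the restriction of q to V0 is a quasi-compact open
immersion whose image is exactly the complement of ε(Y) (q contracts the zero section onto ε(Y) and
is an isomorphism of V0 onto C − ε(Y)). -/
theorem result {X Y : Scheme.{u}} (p : X ⟶ Y) [IsProper p]
    (L : X.Modules) (hL : PicF.IsInvertible L) (hLq : Coh.IsQCoh L) (𝒜 : RelProj.QCGrAlg X) (jL : L ⟶ 𝒜.toModule)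
    (hA : RelProj.IsGrSymAlg L 𝒜 jL) (h0 : RelCone.StrZeroBij 𝒜)
    (aug : 𝒜.toQCAlg ⟶ RelSpec.QCAlg.unit X) (haug : RelCone.IsAugmentation 𝒜 aug)
    (j0 : X ⟶ 𝒜.toQCAlg.spec) (hj0 : RelCone.IsVertex 𝒜 aug j0)
    (V0 : 𝒜.toQCAlg.spec.Opens) (hV0 : (V0 : Set 𝒜.toQCAlg.spec) = (Set.range j0.base)ᶜ) :
    RelAmple.IsRelAmple p L ↔
      ∃ (C : Scheme.{u}) (g : C ⟶ Y) (ε : Y ⟶ C) (q : 𝒜.toQCAlg.spec ⟶ C),
        ε ≫ g = 𝟙 Y ∧ q ≫ g = 𝒜.toQCAlg.π ≫ p ∧ j0 ≫ q = p ≫ ε ∧ IsProper q ∧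
          IsOpenImmersion (V0.ι ≫ q) ∧ QuasiCompact (V0.ι ≫ q) ∧
            Set.range (V0.ι ≫ q).base = (Set.range ε.base)ᶜ := by
  let D := H11Cone.mkLB hLq 𝒜 jL hA aug haug j0 hj0
  constructor
  · intro hamp
    obtain ⟨C, g, ε, q, h1, h2, h3, -, h5, h6, -, h8⟩ := H11Cone.exists_contraction D p hamp V0 hV0
    obtain ⟨h9, h10⟩ := h8 inferInstance
    exact ⟨C, g, ε, q, h1, h2, h3, h9, h5, h6, h10⟩
  · rintro ⟨C, g, ε, q, h1, h2, h3, -, h4, -, h6⟩
    refine @H11Cone.isRelAmple_of_contraction _ _ _ D hL p _ _ _ g ε q h1 h2 h3 V0 hV0 h4 ?_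
    exact Set.eq_empty_iff_forall_notMem.2 fun w hw => (h6.le hw.1) hw.2

end Groth.Agent.S8294
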