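import Groth.Statements.S8298
import Groth.Agent.H11QMap.ConeVertex

set_option autoImplicit false
universe u
open CategoryTheory CategoryTheory.Limits AlgebraicGeometry Opposite TopologicalSpace
open scoped HomogeneousIdeal
noncomputable section
open EGA2

namespace Groth.Agent.S8298

/-- The pointed projective cone: let 𝒮 be a quasi-coherent positively graded O_Y-algebra with 𝒮_0 = O_Y,
aug its augmentation and ε : Y → C = Spec(𝒮) the vertex section; let Ŝ = 𝒮[z] (given through a
graded homomorphism ι : 𝒮 → Ŝ and a degree-one global section z, polynomial over every affine open),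
Ĉ = Proj(Ŝ) its relative homogeneous spectrum with charts, and i : C → Ĉ the canonical open
immersion. Then the open subset of Ĉ which is the union, over the affine opens U of Y, of the chart
images of the opens of Proj Ŝ(U) where the morphism induced by ι(U) : 𝒮(U) → Ŝ(U) is defined (the
complement of V_+ of the ideal generated by ι(𝒮(U)_+)) has underlying set exactly the complement of
i(ε(Y)): the pointed projective cone Ê is Ĉ minus its vertex section. -/
theorem result {Y PC : Scheme.{u}} (𝒮 𝒮h : RelProj.QCGrAlg Y) (h0 : RelCone.StrZeroBij 𝒮)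
    (ι : 𝒮.toQCAlg ⟶ 𝒮h.toQCAlg) (z : 𝒮h.presheaf.obj (op ⊤)) (hz : RelCone.IsPolyOver 𝒮 𝒮h ι z)
    (pC : PC ⟶ Y)
    (chartC : ∀ (U : Y.Opens) (hU : IsAffineOpen U), (((pC ⁻¹ᵁ U : PC.Opens) : Scheme.{u}) ≅ Proj (𝒮h.deg U hU)))
    (hPC : RelProj.IsRelProj 𝒮h pC chartC)
    (aug : 𝒮.toQCAlg ⟶ RelSpec.QCAlg.unit Y) (haug : RelCone.IsAugmentation 𝒮 aug)
    (ε : Y ⟶ 𝒮.toQCAlg.spec) (hε : RelCone.IsVertex 𝒮 aug ε)
    (i : 𝒮.toQCAlg.spec ⟶ PC) (hi : RelCone.IsConeImm 𝒮 hz pC chartC i) :
    ((RelCone.pointedProjCone 𝒮 hz pC chartC : PC.Opens) : Set PC) = (Set.range (ε ≫ i).base)ᶜ := by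
  exact Groth.Agent.H11QMap.ConeVertex.pointedProjCone_eq_compl h0 haug hε hz hPC hi

end Groth.Agent.S8298
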