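import Groth.Statements.S8300
import Groth.Agent.H11QMap.ConeSpecMap

set_option autoImplicit false
universe u
open CategoryTheory CategoryTheory.Limits AlgebraicGeometry Opposite TopologicalSpace
open scoped HomogeneousIdeal
noncomputable section
open EGA2

namespace Groth.Agent.S8300

/-- Let q : Y' → Y be a morphism of schemes, 𝒮 and 𝒮' quasi-coherent positively graded algebras over O_Y
and O_{Y'} with 𝒮_0 = O_Y and 𝒮'_0 = O_{Y'}, and φ : 𝒮 → q_*𝒮' a graded q-morphism (a map of sheaves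
of rings compatible with the structure maps through q^♯, whose components 𝒮(U) → 𝒮'(U') for affine
opens U' ⊆ q⁻¹(U) preserve degrees, recorded as graded ring homomorphisms); let C = Spec(𝒮), C' =
Spec(𝒮') be the affine cones and Φ : C' → C the morphism Spec(φ), i.e. the morphism which on the
charts over affine opens U' ⊆ q⁻¹(U) is Spec of 𝒮(U) → 𝒮'(U'); let E ⊆ C and E' ⊆ C' be the pointed
affine cones (defined chart by chart as the complements of V(𝒮(U)_+), resp. V(𝒮'(U')_+)). Then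
Proj(φ) is everywhere defined, which here means that for all affine opens U' ⊆ q⁻¹(U) the open of
Proj 𝒮'(U') where the morphism induced by 𝒮(U) → 𝒮'(U') is defined (the complement of V_+ of the
ideal generated by the image of the irrelevant ideal of 𝒮(U)) is the whole of Proj 𝒮'(U'), if and
only if the inverse image of E under Φ equals E'. -/
theorem result {Y Y' : Scheme.{u}} (q : Y' ⟶ Y) (𝒮 : RelProj.QCGrAlg Y) (𝒮' : RelProj.QCGrAlg Y')
    (h0 : RelCone.StrZeroBij 𝒮) (h0' : RelCone.StrZeroBij 𝒮')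
    (u : 𝒮.presheaf ⟶ q.base _* 𝒮'.presheaf)
    (hu : 𝒮.str ≫ u = q.c ≫ (TopCat.Presheaf.pushforward CommRingCat.{u} q.base).map 𝒮'.str)
    (φ : ∀ (U : Y.Opens) (hU : IsAffineOpen U) (U' : Y'.Opens) (hU' : IsAffineOpen U') (_ : U' ≤ q ⁻¹ᵁ U),
      𝒮.deg U hU →+*ᵍ 𝒮'.deg U' hU')
    (hφ : ∀ (U : Y.Opens) (hU : IsAffineOpen U) (U' : Y'.Opens) (hU' : IsAffineOpen U') (hle : U' ≤ q ⁻¹ᵁ U),
      (φ U hU U' hU' hle).toRingHom =
        ((u.app (op U) : 𝒮.presheaf.obj (op U) ⟶ 𝒮'.presheaf.obj (op (q ⁻¹ᵁ U))) ≫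
          𝒮'.presheaf.map (homOfLE hle).op).hom)
    (Φ : 𝒮'.toQCAlg.spec ⟶ 𝒮.toQCAlg.spec)
    (hΦ : ∀ (U : Y.Opens) (hU : IsAffineOpen U) (U' : Y'.Opens) (hU' : IsAffineOpen U') (hle : U' ≤ q ⁻¹ᵁ U),
      𝒮'.toQCAlg.ι U' hU' ≫ Φ =
        Spec.map ((u.app (op U) : 𝒮.presheaf.obj (op U) ⟶ 𝒮'.presheaf.obj (op (q ⁻¹ᵁ U))) ≫
          𝒮'.presheaf.map (homOfLE hle).op) ≫ 𝒮.toQCAlg.ι U hU) :
    (∀ (U : Y.Opens) (hU : IsAffineOpen U) (U' : Y'.Opens) (hU' : IsAffineOpen U') (hle : U' ≤ q ⁻¹ᵁ U),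
        RelCone.domOpen (φ U hU U' hU' hle) = ⊤) ↔
      Φ ⁻¹ᵁ RelCone.pointedCone 𝒮 = RelCone.pointedCone 𝒮' := by
  let u' : RelSpec.QHom q 𝒮.toQCAlg 𝒮'.toQCAlg :=
    ⟨fun U => u.app (op U), fun {U V} i => (u.naturality (homOfLE i).op).symm,
      fun U => congrArg (fun k => k.app (op U)) hu⟩
  have hφ' : ∀ U hU U' hU' hle x, φ U hU U' hU' hle x = (u'.appLE U U' hle).hom x :=
    fun U hU U' hU' hle x => RingHom.congr_fun (hφ U hU U' hU' hle) x
  have hgr : ∀ (U : Y.Opens) (hU : IsAffineOpen U) (U' : Y'.Opens) (hU' : IsAffineOpen U') (hle : U' ≤ q ⁻¹ᵁ U) (d : ℕ)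
      (x : 𝒮.presheaf.obj (op U)), x ∈ 𝒮.deg U hU d → (u'.appLE U U' hle).hom x ∈ 𝒮'.deg U' hU' d :=
    fun U hU U' hU' hle d x hx => hφ' U hU U' hU' hle x ▸ (φ U hU U' hU' hle).2 hx
  exact Groth.Agent.H11QMap.ConeSpecMap.preimage_eq_iff u' hgr hΦ φ hφ'

end Groth.Agent.S8300
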