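import Groth.Statements.S8304
import Groth.Agent.H11Sym.SymSheaf

set_option autoImplicit false
universe u
open CategoryTheory CategoryTheory.Limits AlgebraicGeometry Opposite TopologicalSpace
open scoped HomogeneousIdeal
noncomputable section
open EGA2

namespace Groth.Agent.S8304

/-- At the level of graded algebras: let E be a quasi-coherent O_Y-module and 𝒮 = Sym(E) its graded
symmetric algebra (j : E → 𝒮 landing in degree one), and let Ŝ = 𝒮[z] be given through a graded
homomorphism ι : 𝒮 → Ŝ and a global section z of degree one with 𝒮(U)[X] → Ŝ(U), X ↦ z, bijective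
over every affine open U. If k : O_Y → Ŝ is a module homomorphism sending the unit section to z over
every open, then Ŝ together with the map E ⊕ O_Y → Ŝ whose components are j followed by ι, and k, is
the graded symmetric algebra of E ⊕ O_Y. Consequently the projective cone of V(E) = Spec(Sym E),
which is Proj(Ŝ), is the projective bundle P(E ⊕ O_Y), and its locus at infinity Proj(𝒮) is P(E). -/
theorem result {Y : Scheme.{u}} (E : Y.Modules) (hE : Coh.IsQCoh E)
    (𝒮 𝒮h : RelProj.QCGrAlg Y) (j : E ⟶ 𝒮.toModule) (hS : RelProj.IsGrSymAlg E 𝒮 j)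
    (ι : 𝒮.toQCAlg ⟶ 𝒮h.toQCAlg) (z : 𝒮h.presheaf.obj (op ⊤)) (hz : RelCone.IsPolyOver 𝒮 𝒮h ι z)
    (k : Coh.structureModule Y ⟶ 𝒮h.toModule)
    (hk : ∀ U : Y.Opens, (k.app U) (1 : Γ(Y, U)) = RelCone.restrictTop 𝒮h z U) :
    RelProj.IsGrSymAlg (E ⊞ Coh.structureModule Y) 𝒮h
      (biprod.desc (j ≫ RelSpec.QCAlg.Hom.toModuleMap ι) k) := by
  refine ⟨H11Sym.IsAffSym.isSymAlg fun U hU => ?_, ?_⟩
  swap
  · intro U hU x
    have hx : x = (biprod.inl (X := E) (Y := Coh.structureModule Y)).app U ((biprod.fst (X := E) (Y := Coh.structureModule Y)).app U x) +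
        (biprod.inr (X := E) (Y := Coh.structureModule Y)).app U ((biprod.snd (X := E) (Y := Coh.structureModule Y)).app U x) :=
      (congrArg (fun φ => Scheme.Modules.Hom.app φ U x) (biprod.total (X := E) (Y := Coh.structureModule Y))).symm
    rw [hx, map_add]
    refine add_mem ?_ ?_
    · have e := congrArg (fun φ => Scheme.Modules.Hom.app φ U ((biprod.fst (X := E) (Y := Coh.structureModule Y)).app U x))
        (biprod.inl_desc (j ≫ RelSpec.QCAlg.Hom.toModuleMap ι) k)
      exact (show _ = (ι.hom.app (op U)).hom (H11Sym.japp j U _) from e) ▸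
        hz.graded U hU _ _ (hS.2 U hU _)
    · have e := congrArg (fun φ => Scheme.Modules.Hom.app φ U ((biprod.snd (X := E) (Y := Coh.structureModule Y)).app U x))
        (biprod.inr_desc (j ≫ RelSpec.QCAlg.Hom.toModuleMap ι) k)
      refine (show _ = (k.app U) _ from e) ▸ ?_
      let r : Γ(Y, U) := (biprod.snd (X := E) (Y := Coh.structureModule Y)).app U x
      have hr : H11Sym.japp k U r = (𝒮h.str.app (op U)).hom r * RelCone.restrictTop 𝒮h z U := by
        refine Eq.trans (congrArg (H11Sym.japp k U) (mul_one r).symm) ((H11Sym.japp_smul k U r (1 : Γ(Y, U))).trans ?_)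
        exact congrArg _ (hk U)
      change H11Sym.japp k U r ∈ _
      rw [hr]
      have := SetLike.mul_mem_graded (A := 𝒮h.deg U hU) (𝒮h.str_mem U hU r) (hz.deg_z U hU)
      rwa [zero_add] at this
  letI := H11Sym.algOn 𝒮.toQCAlg U
  letI := H11Sym.algOn 𝒮h.toQCAlg U
  let P := Γ(E ⊞ Coh.structureModule Y, U)
  let L := SymmetricAlgebra Γ(Y, U) P
  let il : Γ(E, U) →+ L := (SymmetricAlgebra.ι Γ(Y, U) P).toAddMonoidHom.comp
    ((biprod.inl (X := E) (Y := Coh.structureModule Y)).app U).hom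
  have hil : ∀ (r : Γ(Y, U)) (m : Γ(E, U)), il (r • m) = algebraMap Γ(Y, U) L r * il m := fun r m => by
    rw [← Algebra.smul_def]
    exact (congrArg (SymmetricAlgebra.ι Γ(Y, U) P) (Scheme.Modules.Hom.app_smul _ r m)).trans (map_smul _ _ _)
  obtain ⟨gA, hgA₀, hgA₁⟩ := (hS.1.isAffSym hE).exists_lift hU (algebraMap Γ(Y, U) L) il hil
  let one' : L := SymmetricAlgebra.ι Γ(Y, U) P ((biprod.inr (X := E) (Y := Coh.structureModule Y)).app U (1 : Γ(Y, U)))
  let inv : 𝒮h.presheaf.obj (op U) →+* L :=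
    (Polynomial.eval₂RingHom gA one').comp (hz.polyEquiv U hU).symm.toRingHom
  let Φ := SymmetricAlgebra.lift (H11Sym.jlin (biprod.desc (j ≫ RelSpec.QCAlg.Hom.toModuleMap ι) k) U)
  have hΦι : ∀ p : P, Φ (SymmetricAlgebra.ι Γ(Y, U) P p) =
      H11Sym.japp (biprod.desc (j ≫ RelSpec.QCAlg.Hom.toModuleMap ι) k) U p :=
    fun p => SymmetricAlgebra.lift_ι_apply _ p
  have hdl : ∀ m, H11Sym.japp (biprod.desc (j ≫ RelSpec.QCAlg.Hom.toModuleMap ι) k) U
      ((biprod.inl (X := E) (Y := Coh.structureModule Y)).app U m) = (ι.hom.app (op U)).hom (H11Sym.japp j U m) := fun m =>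
    congrArg (fun φ => Scheme.Modules.Hom.app φ U m) (biprod.inl_desc (j ≫ RelSpec.QCAlg.Hom.toModuleMap ι) k)
  have hdr : H11Sym.japp (biprod.desc (j ≫ RelSpec.QCAlg.Hom.toModuleMap ι) k) U
      ((biprod.inr (X := E) (Y := Coh.structureModule Y)).app U (1 : Γ(Y, U))) = RelCone.restrictTop 𝒮h z U :=
    (congrArg (fun φ : Coh.structureModule Y ⟶ 𝒮h.toModule => Scheme.Modules.Hom.app φ U (1 : Γ(Y, U)))
      (biprod.inr_desc (j ≫ RelSpec.QCAlg.Hom.toModuleMap ι) k)).trans (hk U)
  have key : Φ.toRingHom.comp gA = (ι.hom.app (op U)).hom := by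
    refine (hS.1.isAffSym hE).ringHom_ext hU (fun r => ?_) fun m => ?_
    · rw [RingHom.comp_apply, hgA₀]
      exact (Φ.commutes r).trans (ConcreteCategory.congr_hom (NatTrans.congr_app ι.comm (op U)) r).symm
    · rw [RingHom.comp_apply, hgA₁]
      exact (hΦι _).trans (hdl m)
  have h1 : ∀ y, Φ (inv y) = y := by
    intro y
    obtain ⟨q, rfl⟩ := (hz.polyEquiv U hU).surjective y
    simp only [inv, RingHom.comp_apply, RingEquiv.toRingHom_eq_coe, RingHom.coe_coe, RingEquiv.symm_apply_apply]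
    rw [RelCone.IsPolyOver.polyEquiv_apply, Polynomial.coe_eval₂RingHom]
    refine (Polynomial.hom_eval₂ q gA Φ.toRingHom one').trans ?_
    rw [key]
    exact congrArg (fun t => Polynomial.eval₂ _ t q) ((hΦι _).trans hdr)
  have hinvι : ∀ a, inv ((ι.hom.app (op U)).hom a) = gA a := fun a => by
    have e : (hz.polyEquiv U hU).symm ((ι.hom.app (op U)).hom a) = Polynomial.C a := by
      rw [RingEquiv.symm_apply_eq, RelCone.IsPolyOver.polyEquiv_apply, Polynomial.eval₂_C]
    simp [inv, e]
  have hinvz : inv (RelCone.restrictTop 𝒮h z U) = one' := by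
    have e : (hz.polyEquiv U hU).symm (RelCone.restrictTop 𝒮h z U) = Polynomial.X := by
      rw [RingEquiv.symm_apply_eq, RelCone.IsPolyOver.polyEquiv_apply, Polynomial.eval₂_X]
    simp [inv, e]
  have hinvr : ∀ r, inv (algebraMap Γ(Y, U) (𝒮h.presheaf.obj (op U)) r) = algebraMap Γ(Y, U) L r := fun r => by
    rw [← hgA₀ r, ← hinvι]
    exact congrArg inv (ConcreteCategory.congr_hom (NatTrans.congr_app ι.comm (op U)) r).symm
  have h2 : inv.comp Φ.toRingHom = RingHom.id L := by
    refine H11Sym.ringHom_ext SymmetricAlgebra.isSymmetricAlgebra_ι (fun r => ?_) fun p => ?_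
    · exact (congrArg inv (Φ.commutes r)).trans (hinvr r)
    · obtain ⟨m, r, hp⟩ : ∃ (m : Γ(E, U)) (r : Γ(Y, U)),
          p = (biprod.inl (X := E) (Y := Coh.structureModule Y)).app U m +
            r • (biprod.inr (X := E) (Y := Coh.structureModule Y)).app U (1 : Γ(Y, U)) := by
        refine ⟨(biprod.fst (X := E) (Y := Coh.structureModule Y)).app U p,
          (show Γ(Y, U) from (biprod.snd (X := E) (Y := Coh.structureModule Y)).app U p), ?_⟩
        have hone : ∀ r' : Γ(Y, U), r' • (biprod.inr (X := E) (Y := Coh.structureModule Y)).app U (1 : Γ(Y, U)) =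
            (biprod.inr (X := E) (Y := Coh.structureModule Y)).app U r' := fun r' =>
          (Scheme.Modules.Hom.app_smul (biprod.inr (X := E) (Y := Coh.structureModule Y)) r' (1 : Γ(Y, U))).symm.trans
            (congrArg _ (mul_one r'))
        rw [hone]
        exact (congrArg (fun φ => Scheme.Modules.Hom.app φ U p)
          (biprod.total (X := E) (Y := Coh.structureModule Y))).symm
      subst hp
      change inv (Φ (SymmetricAlgebra.ι Γ(Y, U) P _)) = SymmetricAlgebra.ι Γ(Y, U) P _
      rw [map_add, map_add, map_smul, map_smul, hΦι, hΦι, hdl, hdr, map_add, Algebra.smul_def, map_mul, hinvι,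
        hinvz, hinvr, hgA₁, ← Algebra.smul_def]
      rfl
  exact Function.bijective_iff_has_inverse.2 ⟨inv, fun a => RingHom.congr_fun h2 a, h1⟩

end Groth.Agent.S8304
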