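import Groth.Statements.S8312
import Groth.Agent.H11Proj.Natural

set_option autoImplicit false
universe u
open scoped HomogeneousIdeal
open EGA2

open Groth.Agent.H11Proj Groth.Agent.H11Proj.Natural

namespace Groth.Agent.S8312

/-- Let S be a positively graded ring (an ℕ-graded R-algebra) and S♮ the graded ring with S♮_n = S_[n] =
⊕_{m ≥ n} S_m, presented as a graded ring S' with an injective algebra homomorphism φ : S' → S[X]
carrying S'_n onto S_[n]·X^n; for a homogeneous f ∈ S_d write f♮ for the element of S' with φ(f♮) =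
f·X^d (f placed in degree d of S♮). If (f_α) is a family of homogeneous elements of S of positive
degrees such that every element of the irrelevant ideal S_+ has a positive power in the ideal
generated by the f_α (that is, S_+ is the radical in S_+ of that ideal), then every element of the
irrelevant ideal S'_+ has a positive power in the ideal of S' generated by the f_α♮. -/
theorem result {R A B : Type u} [CommRing R] [CommRing A] [Algebra R A]
    (𝒜 : ℕ → Submodule R A) [GradedAlgebra 𝒜] [CommRing B] [Algebra R B] (ℬ : ℕ → Submodule R B) [GradedAlgebra ℬ]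
    (φ : B →ₐ[R] Polynomial A) (hφ : Function.Injective φ)
    (hdeg : ∀ n : ℕ, Submodule.map φ.toLinearMap (ℬ n) =
      Submodule.map ((Polynomial.monomial n : A →ₗ[A] Polynomial A).restrictScalars R) (⨆ (m : ℕ) (_ : n ≤ m), 𝒜 m))
    {ι : Type u} (d : ι → ℕ) (hd : ∀ a, 0 < d a) (f : ι → A) (hf : ∀ a, f a ∈ 𝒜 (d a))
    (hrad : ∀ g ∈ (HomogeneousIdeal.irrelevant 𝒜).toIdeal, ∃ n : ℕ, 0 < n ∧ g ^ n ∈ Ideal.span (Set.range f))
    (fn : ι → B) (hfn : ∀ a, φ (fn a) = Polynomial.monomial (d a) (f a)) :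
    ∀ g ∈ (HomogeneousIdeal.irrelevant ℬ).toIdeal, ∃ n : ℕ, 0 < n ∧ g ^ n ∈ Ideal.span (Set.range fn) := by
  classical
  intro g hg
  suffices g ∈ (Ideal.span (Set.range fn)).radical by
    obtain ⟨N, hN⟩ := this
    exact ⟨N + 1, N.succ_pos, by rw [pow_succ]; exact Ideal.mul_mem_right _ _ hN⟩
  rw [← DirectSum.sum_support_decompose ℬ g]
  refine sum_mem fun n _ => ?_
  rcases Nat.eq_zero_or_pos n with rfl | hn
  · have : (DirectSum.decompose ℬ g 0 : B) = 0 := decompose_zero_eq_zero_of_mem_irrelevant ℬ hg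
    rw [this]; exact zero_mem _
  obtain ⟨hb, hc⟩ := map_eq_monomial φ hdeg (DirectSum.decompose ℬ g n).2
  set b : B := (DirectSum.decompose ℬ g n : B)
  set c : A := (φ b).coeff n
  choose e he hee using fun m (h : n ≤ m) =>
    exists_lift φ hdeg (mem_tail_of_mem 𝒜 h (DirectSum.decompose 𝒜 c m).2)
  let e' : ℕ → B := fun m => if h : n ≤ m then e m h else 0
  have hsum : b = ∑ m ∈ (DirectSum.decompose 𝒜 c).support, e' m := by
    apply hφ
    rw [map_sum, hb]
    conv_lhs => rw [← DirectSum.sum_support_decompose 𝒜 c, map_sum]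
    refine Finset.sum_congr rfl fun m _ => ?_
    by_cases h : n ≤ m
    · simp only [e', dif_pos h, hee]
    · simp only [e', dif_neg h, map_zero, (mem_tail_iff 𝒜).1 hc m (not_le.1 h), Polynomial.monomial_zero_right]
  rw [hsum]
  refine sum_mem fun m _ => ?_
  by_cases hm : n ≤ m
  swap
  · simp only [e', dif_neg hm]; exact zero_mem _
  simp only [e', dif_pos hm]
  -- a homogeneous element of degree `m ≥ n`
  set a : A := (DirectSum.decompose 𝒜 c m : A)
  obtain ⟨N, hN0, hN⟩ := hrad a (mem_irrelevant_of_pos 𝒜 (hn.trans_le hm) (DirectSum.decompose 𝒜 c m).2)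
  obtain ⟨coef, hcoef⟩ := (Finsupp.mem_span_range_iff_exists_finsupp).1 hN
  set k := coef.support.sup d + 1
  have hK : ∀ i ∈ coef.support, d i ≤ n * (N * k) := fun i hi => by
    have h1 : d i ≤ coef.support.sup d := Finset.le_sup hi
    have h2 : k ≤ n * (N * k) := Nat.le_trans (Nat.le_mul_of_pos_left k hN0) (Nat.le_mul_of_pos_left _ hn)
    omega
  refine ⟨N * k, ?_⟩
  have hpowmem : a ^ (N * (k - 1)) ∈ 𝒜 (N * (k - 1) * m) :=
    SetLike.pow_mem_graded _ (DirectSum.decompose 𝒜 c m).2
  have hgi : ∀ i ∈ coef.support, ∃ q : A, q ∈ tail 𝒜 (n * (N * k) - d i) ∧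
      (DirectSum.decompose 𝒜 (a ^ (N * (k - 1)) * (coef i * f i)) (N * k * m) : A) = q * f i := by
    intro i hi
    refine ⟨(DirectSum.decompose 𝒜 (a ^ (N * (k - 1)) * coef i) (N * k * m - d i) : A),
      mem_tail_of_mem 𝒜 ?_ (DirectSum.decompose 𝒜 (a ^ (N * (k - 1)) * coef i) _).2, ?_⟩
    · have := Nat.mul_le_mul_right (N * k) hm
      rw [mul_comm (N * k) m]
      omega
    · rw [← mul_assoc, mul_comm (a ^ (N * (k - 1)) * coef i) (f i), proj_mul_of_mem 𝒜 (hf i),
        if_pos, mul_comm]
      have h1 := hK i hi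
      have := Nat.mul_le_mul_right (N * k) hm
      rw [mul_comm (N * k) m]
      omega
  choose q hq hqe using hgi
  choose l hl hle using fun i hi => exists_lift φ hdeg (hq i hi)
  have hmain : e m hm ^ (N * k) = ∑ i ∈ coef.support.attach, l i.1 i.2 * fn i.1 := by
    apply hφ
    rw [map_pow, map_sum, hee, Polynomial.monomial_pow]
    have hpow : a ^ (N * k) = (DirectSum.decompose 𝒜 (a ^ (N * (k - 1)) * a ^ N) (N * k * m) : A) := by
      rw [← pow_add, show N * (k - 1) + N = N * k by
        rw [← Nat.mul_succ, Nat.succ_eq_add_one, Nat.sub_add_cancel (Nat.le_add_left 1 _)]]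
      exact (DirectSum.decompose_of_mem_same 𝒜 (SetLike.pow_mem_graded (N * k) (DirectSum.decompose 𝒜 c m).2)).symm
    rw [hpow, ← hcoef, Finsupp.sum, Finset.mul_sum, DirectSum.decompose_sum, DFinsupp.finsetSum_apply,
      AddSubmonoidClass.coe_finsetSum, map_sum, ← Finset.sum_attach]
    refine Finset.sum_congr rfl fun i _ => ?_
    rw [map_mul φ, hfn, hle, Polynomial.monomial_mul_monomial, Nat.sub_add_cancel (hK i.1 i.2), smul_eq_mul,
      hqe i.1 i.2]
  rw [hmain]
  exact sum_mem fun i _ => Ideal.mul_mem_left _ _ (Ideal.subset_span ⟨i.1, rfl⟩)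

end Groth.Agent.S8312
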