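import Groth.Statements.S8317
import Groth.Agent.H11Cone.DirectImageNormal

set_option autoImplicit false
universe u
open CategoryTheory CategoryTheory.Limits AlgebraicGeometry Opposite TopologicalSpace
open scoped HomogeneousIdeal
noncomputable section
open EGA2

namespace Groth.Agent.S8317

/-- Let f : X → Y be a separated quasi-compact morphism such that f^♯ : O_Y → f_*O_X is an isomorphism,
L an invertible O_X-module, V = V(L) = Spec(Sym L) its line bundle with projection π : V → X, and C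
= Spec((f∘π)_*O_V) the relative spectrum over Y of the direct-image algebra of f∘π. (The published
statement takes C to be the affine cone Spec(O_Y ⊕ ⊕_{n≥1} f_*(L^{⊗n})); when f^♯ is an isomorphism
that cone is this relative spectrum.) Then: if X is integral, C is integral; and if X is locally
integral (every point has an integral open neighbourhood) and normal (all local rings integrally
closed domains), then C is normal. -/
theorem result {X Y : Scheme.{u}} (f : X ⟶ Y) [IsSeparated f] [QuasiCompact f]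
    (hlam : IsIso f.c) (L : X.Modules) (hL : PicF.IsInvertible L) (hLq : Coh.IsQCoh L)
    (𝒜 : RelSpec.QCAlg X) (jL : L ⟶ 𝒜.toModule) (hA : RelSpec.IsSymAlg L 𝒜 jL) :
    (IsIntegral X → IsIntegral (RelSpec.QCAlg.directImage (𝒜.π ≫ f)).spec) ∧
      ((∀ x : X, ∃ U : X.Opens, x ∈ U ∧ IsIntegral (U : Scheme.{u})) → Pi1.IsNormalScheme X →
        Pi1.IsNormalScheme (RelSpec.QCAlg.directImage (𝒜.π ≫ f)).spec) := by
  have hj := hA.isAffSym hLq
  let π := 𝒜.π
  obtain ⟨T, e, hcov, hT, he⟩ := Groth.Agent.H11Ample.exists_affine_gen_cover hL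
  have hmemT : ∀ x : X, ∃ i, x ∈ T i := fun x =>
    Opens.mem_iSup.1 (hcov.iSup_eq_top.ge (trivial : x ∈ (⊤ : X.Opens)))
  have hpoly : ∀ (i : X) (U : X.Opens), IsAffineOpen U → U ≤ T i →
      Nonempty (Polynomial Γ(X, U) ≃+* Γ(𝒜.spec, π ⁻¹ᵁ U)) := fun i U hU hle => by
    obtain ⟨E⟩ := Groth.Agent.H11Cone.exists_polynomial_equiv hj hU ((he i).res hle)
    exact ⟨E.trans (Groth.Agent.H11Cone.sectionsEquiv 𝒜 U).symm⟩
  have hdomV : ∀ (i : X) (U : X.Opens), IsAffineOpen U → U ≤ T i → IsDomain Γ(X, U) →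
      IsDomain Γ(𝒜.spec, π ⁻¹ᵁ U) := fun i U hU hle hd => by
    obtain ⟨E⟩ := hpoly i U hU hle
    exact E.symm.toMulEquiv.isDomain _
  haveI hUne : ∀ U : Y.Opens, (U : Set Y).Nonempty → (f ⁻¹ᵁ U : Set X).Nonempty := by
    intro U hU
    by_contra hemp
    have hbot : f ⁻¹ᵁ U = ⊥ := Opens.ext (Set.not_nonempty_iff_eq_empty.1 hemp)
    haveI hs : Subsingleton Γ(X, f ⁻¹ᵁ U) := by rw [hbot]; infer_instance
    haveI : IsIso (f.app U) := inferInstanceAs (IsIso (f.c.app (op U)))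
    haveI : Subsingleton Γ(Y, U) := (ConcreteCategory.bijective_of_isIso (f.app U)).1.subsingleton
    haveI : Nonempty U := hU.to_subtype
    exact false_of_nontrivial_of_subsingleton Γ(Y, U)
  let C := RelSpec.QCAlg.directImage (π ≫ f)
  have hC : ∀ U : Y.Opens, Nonempty (Γ(𝒜.spec, (π ≫ f) ⁻¹ᵁ U) ≃+* Γ(C.spec, C.π ⁻¹ᵁ U)) := fun U =>
    ⟨(Groth.Agent.H11Cone.sectionsEquiv C U).symm⟩
  refine ⟨fun hX => ?_, fun hli hN => ?_⟩
  · haveI := hX
    haveI : IsIntegral 𝒜.spec := by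
      refine Groth.Agent.H11Cone.isIntegral_of_domains π (fun U U' hU hU' =>
        nonempty_preirreducible_inter U.isOpen U'.isOpen hU hU') fun x => ?_
      obtain ⟨i, hi⟩ := hmemT x
      refine ⟨T i, hi, fun U hU hle hne => hdomV i U hU hle ?_⟩
      haveI : Nonempty U := hne.to_subtype
      exact IsIntegral.component_integral U
    have hmeet : ∀ U U' : Y.Opens, (U : Set Y).Nonempty → (U' : Set Y).Nonempty → ((U : Set Y) ∩ U').Nonempty :=
      fun U U' hU hU' => by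
        obtain ⟨x, hx, hx'⟩ := nonempty_preirreducible_inter (f ⁻¹ᵁ U).isOpen (f ⁻¹ᵁ U').isOpen (hUne U hU) (hUne U' hU')
        exact ⟨f x, hx, hx'⟩
    haveI : Nonempty Y := ⟨f (Classical.arbitrary X)⟩
    refine Groth.Agent.H11Cone.isIntegral_of_domains C.π hmeet fun y => ⟨⊤, trivial, fun U hU _ hne => ?_⟩
    obtain ⟨E⟩ := hC U
    obtain ⟨x, hx⟩ := hUne U hne
    obtain ⟨i, hi⟩ := hmemT x
    obtain ⟨W, hW, hxW, hle⟩ := exists_isAffineOpen_mem_and_subset (X := X) (x := x) (U := T i ⊓ f ⁻¹ᵁ U) ⟨hi, hx⟩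
    haveI : Nonempty W := ⟨⟨x, hxW⟩⟩
    haveI hdW := hdomV i W hW (fun z hz => (hle hz).1) (IsIntegral.component_integral W)
    haveI : Nonempty ((π ≫ f) ⁻¹ᵁ U : 𝒜.spec.Opens) := by
      by_contra hemp
      have hbot : π ⁻¹ᵁ W = ⊥ := le_bot_iff.1 fun v hv => hemp ⟨⟨v, (hle hv).2⟩⟩
      haveI : Subsingleton Γ(𝒜.spec, π ⁻¹ᵁ W) := by rw [hbot]; infer_instance
      exact false_of_nontrivial_of_subsingleton Γ(𝒜.spec, π ⁻¹ᵁ W)
    haveI : IsDomain Γ(𝒜.spec, (π ≫ f) ⁻¹ᵁ U) := IsIntegral.component_integral _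
    exact E.symm.toMulEquiv.isDomain _
  · have hloc : ∀ x : X, ∃ U : X.Opens, IsAffineOpen U ∧ x ∈ U ∧ IsDomain Γ(𝒜.spec, π ⁻¹ᵁ U) ∧
        IsIntegrallyClosed Γ(𝒜.spec, π ⁻¹ᵁ U) := by
      intro x
      obtain ⟨W, hxW, hW⟩ := hli x
      obtain ⟨i, hi⟩ := hmemT x
      obtain ⟨U, hU, hxU, hle⟩ := exists_isAffineOpen_mem_and_subset (X := X) (x := x) (U := T i ⊓ W) ⟨hi, hxW⟩
      haveI := hW
      haveI : Nonempty (U : Scheme.{u}) := ⟨⟨x, hxU⟩⟩
      haveI : IsIntegral (U : Scheme.{u}) := isIntegral_of_isOpenImmersion (X.homOfLE (fun z hz => (hle hz).2 : U ≤ W))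
      haveI : IsDomain Γ(X, U) := U.topIso.commRingCatIsoToRingEquiv.symm.toMulEquiv.isDomain _
      haveI : IsIntegrallyClosed Γ(X, U) := by
        haveI := Groth.Agent.H25Norm.isIntegrallyClosed_top (U : Scheme.{u}) fun t => by
          haveI := (hN t.1).2
          exact IsIntegrallyClosed.of_equiv (R := X.presheaf.stalk t.1) (U.stalkIso t).commRingCatIsoToRingEquiv.symm
        exact IsIntegrallyClosed.of_equiv U.topIso.commRingCatIsoToRingEquiv
      obtain ⟨E⟩ := hpoly i U hU (fun z hz => (hle hz).1)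
      exact ⟨U, hU, hxU, E.symm.toMulEquiv.isDomain _, IsIntegrallyClosed.of_equiv E⟩
    have hVN : Pi1.IsNormalScheme 𝒜.spec :=
      Groth.Agent.H11Cone.isNormalScheme_of_normalRings π fun x => by
        obtain ⟨U, hU, hxU, hd, hi⟩ := hloc x
        haveI := hd
        haveI := hi
        exact ⟨U, hU, hxU, Groth.Agent.H06EGA17.isNormalRing_of_isIntegrallyClosed _⟩
    have hVli : ∀ v : 𝒜.spec, ∃ W : 𝒜.spec.Opens, v ∈ W ∧ IsPreirreducible (W : Set 𝒜.spec) := by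
      intro v
      obtain ⟨U, hU, hxU, hd, -⟩ := hloc (π v)
      refine ⟨π ⁻¹ᵁ U, hxU, ?_⟩
      haveI : IsAffine (π ⁻¹ᵁ U : Scheme.{u}) := hU.preimage π
      haveI : Nonempty (π ⁻¹ᵁ U : Scheme.{u}) := ⟨⟨v, hxU⟩⟩
      haveI : IsDomain Γ((π ⁻¹ᵁ U : Scheme.{u}), ⊤) :=
        (π ⁻¹ᵁ U).topIso.commRingCatIsoToRingEquiv.toMulEquiv.isDomain _
      haveI := isIntegral_of_isAffine_of_isDomain (X := (π ⁻¹ᵁ U : Scheme.{u}))
      have h := (PreirreducibleSpace.isPreirreducible_univ (X := (π ⁻¹ᵁ U : Scheme.{u}))).image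
        (π ⁻¹ᵁ U).ι.base (π ⁻¹ᵁ U).ι.continuous.continuousOn
      rwa [Set.image_univ, Scheme.Opens.range_ι] at h
    refine Groth.Agent.H11Cone.isNormalScheme_of_normalRings C.π fun y => ?_
    obtain ⟨U, hU, hyU, -⟩ := exists_isAffineOpen_mem_and_subset (X := Y) (x := y) (U := ⊤) trivial
    refine ⟨U, hU, hyU, ?_⟩
    obtain ⟨E⟩ := hC U
    haveI : CompactSpace ((π ≫ f) ⁻¹ᵁ U : Scheme.{u}) :=
      isCompact_iff_compactSpace.1 ((π ≫ f).isCompact_preimage hU.isCompact)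
    haveI : IsAffine (U : Scheme.{u}) := hU
    haveI : QuasiSeparated ((π ≫ f) ∣_ U) := IsZariskiLocalAtTarget.restrict (P := @QuasiSeparated) inferInstance U
    haveI : QuasiSeparatedSpace ((π ≫ f) ⁻¹ᵁ U : Scheme.{u}) :=
      quasiSeparatedSpace_of_quasiSeparated ((π ≫ f) ∣_ U)
    exact Groth.Agent.H05EGA4.isNormalRing_of_ringEquiv E
      (Groth.Agent.H11Cone.isNormalRing_sections ((π ≫ f) ⁻¹ᵁ U) hVli hVN)

end Groth.Agent.S8317
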