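import Groth.Statements.S8318
import Groth.Agent.H11Cone.Factor

set_option autoImplicit false
universe u
open CategoryTheory CategoryTheory.Limits AlgebraicGeometry Opposite TopologicalSpace
open scoped HomogeneousIdeal
noncomputable section
open EGA2

namespace Groth.Agent.S8318

/-- Let p : X → Y be a proper morphism with p^♯ : O_Y → p_*O_X an isomorphism, L an invertible
O_X-module ample relative to p, V = V(L) = Spec(Sym L) with projection π and zero section j0 (the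
vertex section), C a scheme over Y (structure morphism g) with a section ε and a Y-morphism q : V →
C with j0 ≫ q = p ≫ ε; let C' = Spec(𝒮') with 𝒮' = ⊕_{n≥0} p_*(L^{⊗n}) = (p∘π)_*O_V (the relative
spectrum over Y of the direct-image algebra of p∘π) and q' : V → C' the canonical Y-morphism (the
one corresponding to the identity of (p∘π)_*O_V under the universal property of the relative
spectrum). Then there exists a unique morphism u : C' → C over Y such that q = q' ≫ u. -/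
theorem result {X Y C : Scheme.{u}} (p : X ⟶ Y) [IsProper p] (hθ : IsIso p.c)
    (L : X.Modules) (hL : PicF.IsInvertible L) (hLq : Coh.IsQCoh L) (hamp : RelAmple.IsRelAmple p L)
    (𝒜 : RelProj.QCGrAlg X) (jL : L ⟶ 𝒜.toModule) (hA : RelProj.IsGrSymAlg L 𝒜 jL) (h0 : RelCone.StrZeroBij 𝒜)
    (aug : 𝒜.toQCAlg ⟶ RelSpec.QCAlg.unit X) (haug : RelCone.IsAugmentation 𝒜 aug)
    (j0 : X ⟶ 𝒜.toQCAlg.spec) (hj0 : RelCone.IsVertex 𝒜 aug j0)
    (g : C ⟶ Y) (ε : Y ⟶ C) (hε : ε ≫ g = 𝟙 Y) (q : 𝒜.toQCAlg.spec ⟶ C)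
    (hqg : q ≫ g = 𝒜.toQCAlg.π ≫ p) (hjq : j0 ≫ q = p ≫ ε)
    (q' : 𝒜.toQCAlg.spec ⟶ (RelSpec.QCAlg.directImage (𝒜.toQCAlg.π ≫ p)).spec)
    (hq'π : q' ≫ (RelSpec.QCAlg.directImage (𝒜.toQCAlg.π ≫ p)).π = 𝒜.toQCAlg.π ≫ p)
    (hq' : AffAlg.algHom (RelSpec.QCAlg.directImage (𝒜.toQCAlg.π ≫ p)).π (𝒜.toQCAlg.π ≫ p) q' hq'π = (RelSpec.QCAlg.directImage (𝒜.toQCAlg.π ≫ p)).gammaMap) :
    ∃! u : (RelSpec.QCAlg.directImage (𝒜.toQCAlg.π ≫ p)).spec ⟶ C, u ≫ g = (RelSpec.QCAlg.directImage (𝒜.toQCAlg.π ≫ p)).π ∧ q' ≫ u = q := by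
  let D := H11Cone.mkLB hLq 𝒜 jL hA aug haug j0 hj0
  exact H11Cone.exists_factor D p hθ hamp _ q' hq'π
    (H11Cone.bijective_appLE_directImage (𝒜.toQCAlg.π ≫ p) q' hq'π hq') g ε q hqg hjq

end Groth.Agent.S8318
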