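import Groth.Statements.S8320
import Groth.Agent.H11Cone.Factor

set_option autoImplicit false
universe u
open CategoryTheory CategoryTheory.Limits AlgebraicGeometry Opposite TopologicalSpace
open scoped HomogeneousIdeal
noncomputable section
open EGA2

namespace Groth.Agent.S8320

/-- Let p : X → Y be a proper morphism with p^♯ : O_Y → p_*O_X an isomorphism, L an invertible
O_X-module ample relative to p, V = V(L) = Spec(Sym L) with projection π and zero section j0 (the
vertex section), C a scheme over Y (structure morphism g) with a section ε and a Y-morphism q : V →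
C with j0 ≫ q = p ≫ ε; let C' = Spec(𝒮') with 𝒮' = ⊕_{n≥0} p_*(L^{⊗n}) = (p∘π)_*O_V (the relative
spectrum over Y of the direct-image algebra of p∘π) and q' : V → C' the canonical Y-morphism (the
one corresponding to the identity of (p∘π)_*O_V under the universal property of the relative
spectrum); suppose moreover that X is integral, that C is normal (all its local rings are integrally
closed domains), that q is proper and that the restriction of q to V0 = V − j0(X) is an open
immersion with image exactly C − ε(Y). Then every morphism u : C' → C over Y with q = q' ≫ u is an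
isomorphism. (The published statement assumes only the commutativity j0 ≫ q = p ≫ ε; this row also
assumes q proper and q restricted to V − j0(X) an open immersion onto C − ε(Y), without which the
conclusion fails: for C = Y, ε the identity and q the structure morphism of V, the morphism u is the
structure morphism C' → Y, which is not an isomorphism in general (X the projective line over a
field k, Y = C = Spec k, L of degree one: C' is the affine plane).) -/
theorem result {X Y C : Scheme.{u}} (p : X ⟶ Y) [IsProper p] (hθ : IsIso p.c)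
    (L : X.Modules) (hL : PicF.IsInvertible L) (hLq : Coh.IsQCoh L) (hamp : RelAmple.IsRelAmple p L)
    (𝒜 : RelProj.QCGrAlg X) (jL : L ⟶ 𝒜.toModule) (hA : RelProj.IsGrSymAlg L 𝒜 jL) (h0 : RelCone.StrZeroBij 𝒜)
    (aug : 𝒜.toQCAlg ⟶ RelSpec.QCAlg.unit X) (haug : RelCone.IsAugmentation 𝒜 aug)
    (j0 : X ⟶ 𝒜.toQCAlg.spec) (hj0 : RelCone.IsVertex 𝒜 aug j0)
    (g : C ⟶ Y) (ε : Y ⟶ C) (hε : ε ≫ g = 𝟙 Y) (q : 𝒜.toQCAlg.spec ⟶ C)
    (hqg : q ≫ g = 𝒜.toQCAlg.π ≫ p) (hjq : j0 ≫ q = p ≫ ε)
    (q' : 𝒜.toQCAlg.spec ⟶ (RelSpec.QCAlg.directImage (𝒜.toQCAlg.π ≫ p)).spec)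
    (hq'π : q' ≫ (RelSpec.QCAlg.directImage (𝒜.toQCAlg.π ≫ p)).π = 𝒜.toQCAlg.π ≫ p)
    (hq' : AffAlg.algHom (RelSpec.QCAlg.directImage (𝒜.toQCAlg.π ≫ p)).π (𝒜.toQCAlg.π ≫ p) q' hq'π = (RelSpec.QCAlg.directImage (𝒜.toQCAlg.π ≫ p)).gammaMap)
    [IsIntegral X] (hC : Pi1.IsNormalScheme C)
    [IsProper q] (V0 : 𝒜.toQCAlg.spec.Opens) (hV0 : (V0 : Set 𝒜.toQCAlg.spec) = (Set.range j0.base)ᶜ)
    (hqo : IsOpenImmersion (V0.ι ≫ q)) (hqr : Set.range (V0.ι ≫ q).base = (Set.range ε.base)ᶜ)
    (u : (RelSpec.QCAlg.directImage (𝒜.toQCAlg.π ≫ p)).spec ⟶ C) (hug : u ≫ g = (RelSpec.QCAlg.directImage (𝒜.toQCAlg.π ≫ p)).π) (hu : q' ≫ u = q) :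
    IsIso u := by
  let D := H11Cone.mkLB hLq 𝒜 jL hA aug haug j0 hj0
  haveI : @IsProper D.A.spec C q := ‹_›
  exact H11Cone.isIso_factor D p hθ hamp _ q' hq'π
    (H11Cone.bijective_appLE_directImage (𝒜.toQCAlg.π ≫ p) q' hq'π hq') g ε q hjq V0 hV0 hqo hqr u hug hu hL hC

end Groth.Agent.S8320
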