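import Groth.Statements.S8324
import Groth.Agent.H11Tilde.Rel

set_option autoImplicit false
universe u
open CategoryTheory CategoryTheory.Limits AlgebraicGeometry Opposite TopologicalSpace
open scoped HomogeneousIdeal
noncomputable section
open EGA2

open TopologicalSpace Opposite
namespace Groth.Agent.S8324

/-- If the quasi-coherent graded 𝒮-module ℳ satisfies (TN) — its pieces of all large degrees vanish —
then the module (ℳ(n))~ on P = Proj(𝒮) (given through its chartwise identifications) is zero, for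
every integer n. -/
theorem result {Y P : Scheme.{u}} (𝒮 : RelProj.QCGrAlg Y) (p : P ⟶ Y)
    (chart : ∀ (U : Y.Opens) (hU : IsAffineOpen U), (((p ⁻¹ᵁ U : P.Opens) : Scheme.{u}) ≅ Proj (𝒮.deg U hU)))
    (hP : RelProj.IsRelProj 𝒮 p chart) (ℳ : RelProj.GrModule 𝒮)
    (hℳ : Coh.IsQCoh ((AMod.toOS 𝒮.toQCAlg).obj ℳ.mod)) (hTN : ℳ.IsTN) (n : ℤ) (F : P.Modules)
    (lam : ∀ (U : Y.Opens) (hU : IsAffineOpen U),
      F ⟶ (Scheme.Modules.pushforward (RelProj.emb p chart U hU)).obj (GrMod.tilde (𝒮.deg U hU) (ℳ.deg U hU) n))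
    (hF : RelProj.IsRelTilde 𝒮 p chart ℳ n F lam) : IsZero F := by
  obtain ⟨N, hN⟩ := hTN
  rw [IsZero.iff_id_eq_zero]
  refine Scheme.Modules.hom_ext _ _ fun W => ?_
  ext s
  refine TopCat.Sheaf.eq_of_locally_eq' ⟨F.presheaf, F.isSheaf⟩
    (fun U : Y.affineOpens => W ⊓ p ⁻¹ᵁ U.1) W (fun U => homOfLE inf_le_left) ?_ _ _ fun U => ?_
  · intro x hx
    obtain ⟨V, hV, hxV, -⟩ := exists_isAffineOpen_mem_and_subset (X := Y) (x := p.base x) (U := ⊤) trivial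
    exact Opens.mem_iSup.2 ⟨⟨V, hV⟩, hx, hxV⟩
  · letI := ℳ.decomp U.1 U.2
    haveI := ℳ.gradedSMul U.1 U.2
    apply (hF.bijective U.1 U.2 _ inf_le_right).1
    have hz := Groth.Agent.H11Tilde.tilde_isZero_of_kill (𝒮.deg U.1 U.2) (ℳ.deg U.1 U.2) n
      (fun i m hm d f hd hf => ⟨N, hN U.1 U.2 _ (le_add_right (Nat.le_mul_of_pos_right N hd)) _
        (SetLike.GradedSMul.smul_mem (SetLike.pow_mem_graded N hf) hm)⟩)
    have hss : ∀ (V : (Proj (𝒮.deg U.1 U.2)).Opens)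
        (t : Γ(GrMod.tilde (𝒮.deg U.1 U.2) (ℳ.deg U.1 U.2) n, V)), t = 0 := fun V t =>
      congrArg (fun φ : GrMod.tilde (𝒮.deg U.1 U.2) (ℳ.deg U.1 U.2) n ⟶ GrMod.tilde (𝒮.deg U.1 U.2) (ℳ.deg U.1 U.2) n =>
        φ.app V t) (IsZero.iff_id_eq_zero _ |>.1 hz)
    exact (hss _ _).trans (hss _ _).symm

end Groth.Agent.S8324
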