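import Groth.Statements.S8325
import Groth.Agent.H11Tilde.FinType
import Groth.Agent.S8322

set_option autoImplicit false
universe u
open CategoryTheory CategoryTheory.Limits AlgebraicGeometry Opposite TopologicalSpace
open scoped HomogeneousIdeal
noncomputable section
open EGA2

open TopologicalSpace Opposite
namespace Groth.Agent.S8325

/-- Let 𝒮 be a quasi-coherent positively graded O_Y-algebra generated by 𝒮_1, with 𝒮_1 of finite type,
and ℳ a quasi-coherent graded 𝒮-module satisfying (TF). Then the module ℳ~ on P = Proj(𝒮) (given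
through its chartwise identifications) is of finite type. -/
theorem result {Y P : Scheme.{u}} (𝒮 : RelProj.QCGrAlg Y) (p : P ⟶ Y)
    (chart : ∀ (U : Y.Opens) (hU : IsAffineOpen U), (((p ⁻¹ᵁ U : P.Opens) : Scheme.{u}) ≅ Proj (𝒮.deg U hU)))
    (hP : RelProj.IsRelProj 𝒮 p chart) (hgen : 𝒮.IsGenDegOne) (hft : 𝒮.IsFTDeg 1)
    (ℳ : RelProj.GrModule 𝒮) (hℳ : Coh.IsQCoh ((AMod.toOS 𝒮.toQCAlg).obj ℳ.mod)) (hTF : ℳ.IsTF) (F : P.Modules)
    (lam : ∀ (U : Y.Opens) (hU : IsAffineOpen U),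
      F ⟶ (Scheme.Modules.pushforward (RelProj.emb p chart U hU)).obj (GrMod.tilde (𝒮.deg U hU) (ℳ.deg U hU) 0))
    (hF : RelProj.IsRelTilde 𝒮 p chart ℳ 0 F lam) : CohB1.IsFT F := by
  classical
  haveI : F.IsQuasicoherent := Groth.Agent.S8322.result 𝒮 p chart hP ℳ hℳ 0 F lam hF
  let I : Type u := Σ U : Y.affineOpens, Σ d : ℕ, 𝒮.deg U.1 U.2 (d + 1)
  let V : I → P.Opens := fun i =>
    RelProj.emb p chart i.1.1 i.1.2 ''ᵁ Proj.basicOpen (𝒮.deg i.1.1 i.1.2) (i.2.2 : 𝒮.presheaf.obj (op i.1.1))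
  have haff : ∀ i, IsAffineOpen (V i) := fun i =>
    (Proj.isAffineOpen_basicOpen (𝒮.deg i.1.1 i.1.2) _ i.2.2.2 i.2.1.succ_pos).image_of_isOpenImmersion _
  refine (Groth.Agent.H10Coh.isFT_isFP_of_affineCover F V ?_ haff fun i => ?_).1
  · refine TopologicalSpace.IsOpenCover.mk (top_le_iff.1 fun x _ => ?_)
    obtain ⟨U, hx⟩ := Groth.Agent.H11Tilde.exists_mem_range_emb p chart x
    obtain ⟨y, rfl⟩ := hx
    obtain ⟨d, f, hd, hf, hfx⟩ := Groth.Agent.H11Tilde.exists_posHom_notMem (𝒮.deg U.1 U.2) y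
    obtain ⟨d, rfl⟩ : ∃ e, d = e + 1 := ⟨d - 1, by omega⟩
    exact Opens.mem_iSup.2 ⟨⟨U, ⟨d, ⟨f, hf⟩⟩⟩, ⟨y, hfx, rfl⟩⟩
  · obtain ⟨⟨U, hU⟩, d, f, hf⟩ := i
    change IsAffineOpen U at hU
    letI := ℳ.decomp U hU
    haveI := ℳ.gradedSMul U hU
    obtain ⟨n, hn⟩ := hTF
    obtain ⟨T, hT1, hT⟩ := hft U hU
    have hfg := Groth.Agent.H11Tilde.irrelevant_fg_of_genDegOne (𝒮.deg U hU) (hgen U hU) T hT1 fun x hx => by
      obtain ⟨c, rfl⟩ := hT x hx
      exact Ideal.sum_mem _ fun t ht => Ideal.mul_mem_left _ _ (Ideal.subset_span ht)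
    haveI := Groth.Agent.H11Tilde.finite_sections_basicOpen (𝒮.deg U hU) (ℳ.deg U hU) hfg ⟨n, hn U hU⟩ 0
      d.succ_pos hf
    let e := Groth.Agent.H11Tilde.isoOfBijectiveApp (RelProj.emb p chart U hU) (lam U hU) fun W hW =>
      hF.bijective U hU W (hW.trans (Groth.Agent.H11Tilde.opensRange_emb p chart U hU).le)
    refine (Groth.Agent.H10Coh.finite_restrict_iff (RelProj.emb p chart U hU) F _).1 ?_
    refine Groth.Agent.H10Coh.finite_of_semilinear (RingHom.id _)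
      (e.inv.app (Proj.basicOpen (𝒮.deg U hU) f)).hom (fun a m => Scheme.Modules.Hom.app_smul _ _ _) fun y =>
        ⟨e.hom.app (Proj.basicOpen (𝒮.deg U hU) f) y, ?_⟩
    exact congrArg (fun φ => φ.app (Proj.basicOpen (𝒮.deg U hU) f) y) e.hom_inv_id

end Groth.Agent.S8325
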