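import Groth.Statements.S8326
import Groth.Agent.H11Tilde.RelMap
import Groth.Agent.H11Proj.Graded

set_option autoImplicit false
universe u
open CategoryTheory CategoryTheory.Limits AlgebraicGeometry Opposite TopologicalSpace
open scoped HomogeneousIdeal
noncomputable section
open EGA2

open TopologicalSpace Opposite
namespace Groth.Agent.S8326

/-- Let Y be a scheme with quasi-compact underlying space, 𝒮 a quasi-coherent positively graded
O_Y-algebra generated by 𝒮_1 with 𝒮_1 of finite type, and ℳ a quasi-coherent graded 𝒮-module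
satisfying (TF). If ℳ~ = 0 on P = Proj(𝒮), then ℳ satisfies (TN). (With (TN) asking for one degree
bound over the whole base, the implication needs the base quasi-compact: over an infinite disjoint
union of points carrying the polynomial algebra in one variable, the module equal on the i-th point
to the residue field placed in degree i and killed by the variable satisfies (TF), has zero attached
module, and fails (TN). The published statement has no quasi-compactness hypothesis; its proof gives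
a bound on each affine open. The converse direction holds for any base and any graded module.) -/
theorem result {Y P : Scheme.{u}} (𝒮 : RelProj.QCGrAlg Y) (p : P ⟶ Y)
    (chart : ∀ (U : Y.Opens) (hU : IsAffineOpen U), (((p ⁻¹ᵁ U : P.Opens) : Scheme.{u}) ≅ Proj (𝒮.deg U hU)))
    (hP : RelProj.IsRelProj 𝒮 p chart) [CompactSpace Y] (hgen : 𝒮.IsGenDegOne)
    (hft : 𝒮.IsFTDeg 1) (ℳ : RelProj.GrModule 𝒮) (hℳ : Coh.IsQCoh ((AMod.toOS 𝒮.toQCAlg).obj ℳ.mod)) (hTF : ℳ.IsTF)
    (F : P.Modules)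
    (lam : ∀ (U : Y.Opens) (hU : IsAffineOpen U),
      F ⟶ (Scheme.Modules.pushforward (RelProj.emb p chart U hU)).obj (GrMod.tilde (𝒮.deg U hU) (ℳ.deg U hU) 0))
    (hF : RelProj.IsRelTilde 𝒮 p chart ℳ 0 F lam) (h0 : IsZero F) : ℳ.IsTN := by
  classical
  obtain ⟨n₁, hn₁⟩ := hTF
  -- sections of the chartwise modules vanish
  have hzero : ∀ (U : Y.Opens) (hU : IsAffineOpen U) (V : (Proj (𝒮.deg U hU)).Opens)
      (t : Γ(GrMod.tilde (𝒮.deg U hU) (ℳ.deg U hU) 0, V)), t = 0 := by
    intro U hU V t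
    have e : RelProj.emb p chart U hU ⁻¹ᵁ (RelProj.emb p chart U hU ''ᵁ V) = V := Scheme.Hom.preimage_image_eq _ V
    have key : ∀ t' : Γ(GrMod.tilde (𝒮.deg U hU) (ℳ.deg U hU) 0, RelProj.emb p chart U hU ⁻¹ᵁ (RelProj.emb p chart U hU ''ᵁ V)),
        t' = 0 := by
      intro t'
      obtain ⟨s, rfl⟩ := (hF.bijective U hU _
        ((Scheme.Hom.image_le_opensRange _ _).trans (Groth.Agent.H11Tilde.opensRange_emb p chart U hU).le)).2 t'
      have hs : s = 0 := congrArg (fun φ : F ⟶ F => φ.app _ s) ((IsZero.iff_id_eq_zero _).1 h0)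
      rw [hs]
      exact map_zero _
    revert t
    rw [← e]
    exact key
  -- a bound over each affine open
  have hbound : ∀ (U : Y.Opens) (hU : IsAffineOpen U), ∃ N : ℕ, ∀ k, N ≤ k → ∀ m ∈ ℳ.deg U hU k, m = 0 := by
    intro U hU
    letI := ℳ.decomp U hU
    haveI := ℳ.gradedSMul U hU
    obtain ⟨T₁, hT₁, hT₁'⟩ := hft U hU
    have hone : ∀ x ∈ 𝒮.deg U hU 1, x ∈ Ideal.span (T₁ : Set (𝒮.presheaf.obj (op U))) := by
      intro x hx
      obtain ⟨c, rfl⟩ := hT₁' x hx
      exact sum_mem fun t ht => Ideal.mul_mem_left _ _ (Ideal.subset_span ht)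
    have hsub : ∀ q : ℕ, ∀ x ∈ 𝒮.deg U hU q, x ∈ Ideal.span (T₁ : Set (𝒮.presheaf.obj (op U))) ^ q := by
      intro q
      induction q with
      | zero => intro x _; simp
      | succ q ih =>
        intro x hx
        have h1 : x ∈ Ideal.span (𝒮.deg U hU 1 : Set (𝒮.presheaf.obj (op U))) := by
          have := Groth.Agent.H11Tilde.sub_projZero_mem_span (𝒮.deg U hU) (hgen U hU) x
          rwa [GradedRing.projZeroRingHom_apply, DirectSum.decompose_of_mem_ne (𝒮.deg U hU) hx (Nat.succ_ne_zero q),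
            sub_zero] at this
        have h2 := Groth.Agent.H11Proj.proj_mem_closure_of_mem_span (𝒮.deg U hU) (fun _ => 1) (fun e he => he) h1 (q + 1)
        rw [DirectSum.decompose_of_mem_same (𝒮.deg U hU) hx] at h2
        refine AddSubmonoid.closure_induction ?_ (zero_mem _) (fun a b _ _ ha hb => add_mem ha hb) h2
        rintro y ⟨e, he, j, c, hc, hj, rfl⟩
        have hjq : j = q := by omega
        rw [pow_succ]
        exact Ideal.mul_mem_mul (ih c (hjq ▸ hc)) (hone e he)
    have hhom : ∀ (i : ℕ) (z : ℳ.mod.val.obj (op U)), z ∈ ℳ.deg U hU i → ∀ a ∈ T₁,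
        ∃ k : ℕ, (a : 𝒮.presheaf.obj (op U)) ^ k • z = 0 := by
      intro i z hz a ha
      refine Groth.Agent.H11Tilde.exists_pow_smul_eq_zero (𝒮.deg U hU) (ℳ.deg U hU) Nat.one_pos (hT₁ ha) hz
        fun x hx => ?_
      have hai : (a : 𝒮.presheaf.obj (op U)) ^ i ∈ 𝒮.deg U hU i := by
        simpa using SetLike.pow_mem_graded i (hT₁ ha)
      have h1 := congrArg (fun t => GrMod.val t (⟨x, hx⟩ : Proj.basicOpen (𝒮.deg U hU) a))
        (hzero U hU _ (Groth.Agent.H11Tilde.secOf (𝒮.deg U hU) (ℳ.deg U hU) hz hai (n := 0)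
          (V := Proj.basicOpen (𝒮.deg U hU) a)
          (fun y hy => Groth.Agent.H11Tilde.pow_notMem _ hy i) (by simp)))
      exact (Groth.Agent.H11Tilde.fracAt_eq_zero_iff (𝒮.deg U hU) x z _
        (Groth.Agent.H11Tilde.pow_notMem _ hx i)).1 h1
    obtain ⟨T, hT, hspan⟩ := (Submodule.fg_span_iff_fg_span_finset_subset _).1 (hn₁ U hU)
    have hkill : ∀ z : (T : Set (ℳ.mod.val.obj (op U))), ∃ (i L : ℕ), z.1 ∈ ℳ.deg U hU i ∧
        ∀ x ∈ Ideal.span (T₁ : Set (𝒮.presheaf.obj (op U))) ^ L, x • z.1 = 0 := by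
      intro z
      obtain ⟨i, -, hzi⟩ := Set.mem_iUnion₂.1 (hT z.2)
      let J : Ideal (𝒮.presheaf.obj (op U)) := LinearMap.ker (LinearMap.toSpanSingleton _ _ z.1)
      have hle : Ideal.span (T₁ : Set (𝒮.presheaf.obj (op U))) ≤ J.radical := by
        rw [Ideal.span_le]
        intro a ha
        obtain ⟨k, hk⟩ := hhom i z.1 hzi a ha
        exact ⟨k, by simpa [J] using hk⟩
      obtain ⟨L, hL⟩ := Ideal.exists_pow_le_of_le_radical_of_fg hle ⟨T₁, rfl⟩
      exact ⟨i, L, hzi, fun x hx => by simpa [J] using hL hx⟩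
    choose deg L hdeg hL using hkill
    refine ⟨max n₁ (Finset.univ.sup (fun z : (T : Set (ℳ.mod.val.obj (op U))) => L z + deg z)),
      fun k hk m hm => ?_⟩
    have hmem : m ∈ Submodule.span (𝒮.presheaf.obj (op U)) (T : Set (ℳ.mod.val.obj (op U))) := hspan ▸
      Submodule.subset_span (Set.mem_iUnion₂.2 ⟨k, le_of_max_le_left hk, hm⟩)
    rw [← DirectSum.decompose_of_mem_same (ℳ.deg U hU) hm]
    obtain ⟨c, hc⟩ := Submodule.mem_span_finset'.1 hmem
    rw [← hc, DirectSum.decompose_sum, DFinsupp.finsetSum_apply, AddSubmonoidClass.coe_finsetSum]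
    refine Finset.sum_eq_zero fun z _ => ?_
    rw [← DirectSum.sum_support_decompose (𝒮.deg U hU) (c z), Finset.sum_smul, DirectSum.decompose_sum,
      DFinsupp.finsetSum_apply, AddSubmonoidClass.coe_finsetSum]
    refine Finset.sum_eq_zero fun j _ => ?_
    have hj : (DirectSum.decompose (𝒮.deg U hU) (c z) j : 𝒮.presheaf.obj (op U)) • z.1 ∈ ℳ.deg U hU (j + deg z) :=
      SetLike.GradedSMul.smul_mem (DirectSum.decompose (𝒮.deg U hU) (c z) j).2 (hdeg z)
    by_cases hjk : j + deg z = k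
    · have hLj : L z ≤ j := by
        have h1 : L z + deg z ≤ Finset.univ.sup (fun z : (T : Set (ℳ.mod.val.obj (op U))) => L z + deg z) :=
          Finset.le_sup (f := fun z : (T : Set (ℳ.mod.val.obj (op U))) => L z + deg z) (Finset.mem_univ z)
        have h2 := le_of_max_le_right hk
        omega
      rw [hL z _ (Ideal.pow_le_pow_right hLj (hsub j _ (DirectSum.decompose (𝒮.deg U hU) (c z) j).2))]
      simp
    · rw [DirectSum.decompose_of_mem_ne (ℳ.deg U hU) hj hjk]
  choose b hb using hbound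
  obtain ⟨Ts, hTs⟩ := (isCompact_univ (X := Y)).elim_finite_subcover (fun U : Y.affineOpens => (U.1 : Set Y))
    (fun U => U.1.isOpen) (fun y _ => by
      obtain ⟨V, hV, hyV, -⟩ := exists_isAffineOpen_mem_and_subset (X := Y) (x := y) (U := ⊤) trivial
      exact Set.mem_iUnion.2 ⟨⟨V, hV⟩, hyV⟩)
  refine ⟨Ts.sup (fun U => b U.1 U.2), fun U hU k hk m hm => ?_⟩
  let Mo := (AMod.toOS 𝒮.toQCAlg).obj ℳ.mod
  refine Groth.Agent.H11Tilde.eq_of_locally (F := Mo) (W := U) m 0 fun y hy => ?_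
  obtain ⟨⟨V', hV'⟩, hUi, hyUi⟩ : ∃ Ui ∈ Ts, y ∈ Ui.1 := by simpa using hTs (Set.mem_univ y)
  change IsAffineOpen V' at hV'
  change y ∈ V' at hyUi
  obtain ⟨r, r', hrr, hyr⟩ := exists_basicOpen_le_affine_inter hU hV' y ⟨hy, hyUi⟩
  refine ⟨Y.basicOpen r, Y.basicOpen_le r, hyr, ?_⟩
  rw [map_zero]
  have hle : Y.basicOpen r ≤ V' := hrr.le.trans (Y.basicOpen_le r')
  letI := ℳ.decomp V' hV'
  letI := ℳ.decomp (Y.basicOpen r) (hU.basicOpen r)
  haveI : Mo.IsQuasicoherent := hℳ
  obtain ⟨e, z, hz⟩ := Groth.Agent.H10Coh.exists_pow_smul_eq_res Mo hV' r'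
    (Mo.presheaf.map (homOfLE hrr.ge).op (Mo.presheaf.map (homOfLE (Y.basicOpen_le r)).op m))
  have hz2 := congrArg (Mo.presheaf.map (homOfLE hrr.le).op) hz
  rw [Groth.Agent.H10Coh.mres_mres, Scheme.Modules.map_smul, Groth.Agent.H10Coh.mres_mres,
    Groth.Agent.H10Coh.mres_mres, Groth.Agent.H10Coh.rres_rres] at hz2
  have hunit : IsUnit (Y.presheaf.map (homOfLE hle).op (r' ^ e)) := by
    rw [map_pow]
    refine IsUnit.pow e ?_
    have h1 := RingedSpace.isUnit_res_basicOpen Y.toRingedSpace r'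
    have h2 := h1.map (Y.presheaf.map (homOfLE hrr.le).op).hom
    rw [show (Y.presheaf.map (homOfLE hle).op).hom r' = (Y.presheaf.map (homOfLE hrr.le).op).hom
      ((Y.presheaf.map (homOfLE (Y.basicOpen_le r')).op).hom r') from (Groth.Agent.H10Coh.rres_rres _ _ r').symm]
    exact h2
  refine hunit.smul_eq_zero.1 ?_
  refine hz2.symm.trans ?_
  let z' : ℳ.mod.val.obj (op V') := z
  let res : ℳ.mod.val.obj (op V') →+ ℳ.mod.val.obj (op (Y.basicOpen r)) :=
    (ℳ.res hV' (hU.basicOpen r) hle).toAddMonoidHom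
  have hcomp : (DirectSum.decompose (ℳ.deg _ (hU.basicOpen r)) (res z') k : ℳ.mod.val.obj (op (Y.basicOpen r))) =
      res (DirectSum.decompose (ℳ.deg V' hV') z' k) := by
    conv_lhs => rw [← DirectSum.sum_support_decompose (ℳ.deg V' hV') z', map_sum, DirectSum.decompose_sum,
      DFinsupp.finsetSum_apply, AddSubmonoidClass.coe_finsetSum]
    rw [Finset.sum_eq_single k]
    · exact DirectSum.decompose_of_mem_same _ (ℳ.res_mem hV' (hU.basicOpen r) hle k _ (DirectSum.decompose (ℳ.deg V' hV') z' k).2)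
    · intro j _ hj
      exact DirectSum.decompose_of_mem_ne _ (ℳ.res_mem hV' (hU.basicOpen r) hle j _ (DirectSum.decompose (ℳ.deg V' hV') z' j).2) hj
    · intro hnot
      rw [DFinsupp.notMem_support_iff.1 hnot]
      simp
  have hzk : res (DirectSum.decompose (ℳ.deg V' hV') z' k) = 0 := by
    rw [hb V' hV' k ((Finset.le_sup (f := fun U : Y.affineOpens => b U.1 U.2) hUi).trans hk) _
      (DirectSum.decompose (ℳ.deg V' hV') z' k).2, map_zero]
  have hdegk : res z' ∈ ℳ.deg _ (hU.basicOpen r) k := by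
    have h1 : res z' = (𝒮.str.app (op (Y.basicOpen r))).hom (Y.presheaf.map (homOfLE hle).op (r' ^ e)) •
        (show ℳ.mod.val.obj (op (Y.basicOpen r)) from (ℳ.mod.val.map (homOfLE (Y.basicOpen_le r)).op).hom m) := hz2
    rw [h1]
    haveI := ℳ.gradedSMul (Y.basicOpen r) (hU.basicOpen r)
    have h2 := (ℳ.gradedSMul (Y.basicOpen r) (hU.basicOpen r)).smul_mem
      (𝒮.str_mem _ (hU.basicOpen r) (Y.presheaf.map (homOfLE hle).op (r' ^ e)))
      (ℳ.map_mem hU (hU.basicOpen r) (Y.basicOpen_le r) hm)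
    change _ ∈ ℳ.deg _ (hU.basicOpen r) (0 + k) at h2
    rw [zero_add] at h2
    exact h2
  exact ((DirectSum.decompose_of_mem_same _ hdegk).symm.trans hcomp).trans hzk

end Groth.Agent.S8326
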