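import Groth.Statements.S8338
import Groth.Agent.H11Tilde.QCoh

set_option autoImplicit false
universe u
open CategoryTheory CategoryTheory.Limits AlgebraicGeometry Opposite TopologicalSpace
noncomputable section
open EGA2

open TopologicalSpace Opposite
open Groth.Agent.H11Tilde
namespace Groth.Agent.S8338

/-- For an exact sequence M₁ → M₂ → M₃ of graded S-modules with degree-preserving maps u, v and every
integer n, the induced morphisms M₁(n)~ → M₂(n)~ → M₃(n)~ of modules on X = Proj S give an exact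
sequence of sections over every basic open D_+(f), f homogeneous of positive degree (these opens are
affine and cover X, so the sequence of modules is exact). Gradings by additive subgroups, modules
graded in non-negative degrees. -/
theorem result {A σ : Type u} [CommRing A] [SetLike σ A] [AddSubgroupClass σ A] (𝒜 : ℕ → σ)
    [GradedRing 𝒜] {M₁ τ₁ : Type u} [AddCommGroup M₁] [Module A M₁] [SetLike τ₁ M₁] [AddSubgroupClass τ₁ M₁]
    (ℳ₁ : ℕ → τ₁) [SetLike.GradedSMul 𝒜 ℳ₁] [DirectSum.Decomposition ℳ₁]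
    {M₂ τ₂ : Type u} [AddCommGroup M₂] [Module A M₂] [SetLike τ₂ M₂] [AddSubgroupClass τ₂ M₂]
    (ℳ₂ : ℕ → τ₂) [SetLike.GradedSMul 𝒜 ℳ₂] [DirectSum.Decomposition ℳ₂]
    {M₃ τ₃ : Type u} [AddCommGroup M₃] [Module A M₃] [SetLike τ₃ M₃] [AddSubgroupClass τ₃ M₃]
    (ℳ₃ : ℕ → τ₃) [SetLike.GradedSMul 𝒜 ℳ₃] [DirectSum.Decomposition ℳ₃]
    (u : M₁ →ₗ[A] M₂) (hu : ∀ (i : ℕ) (m : M₁), m ∈ ℳ₁ i → u m ∈ ℳ₂ i)
    (v : M₂ →ₗ[A] M₃) (hv : ∀ (i : ℕ) (m : M₂), m ∈ ℳ₂ i → v m ∈ ℳ₃ i)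
    (hex : Function.Exact u v) (n : ℤ) {d : ℕ} (hd : 0 < d) (f : A) (hf : f ∈ 𝒜 d) :
    Function.Exact ((GrMod.map 𝒜 u hu n).app (Proj.basicOpen 𝒜 f))
      ((GrMod.map 𝒜 v hv n).app (Proj.basicOpen 𝒜 f)) := by
  classical

  intro s
  constructor
  · intro hs
    obtain ⟨k, i, m, hm, hi, hσ⟩ := exists_eq_fracAt 𝒜 ℳ₂ hd hf s
    obtain ⟨N, hN⟩ : ∃ N : ℕ, f ^ N • v m = 0 := by
      refine exists_pow_smul_eq_zero 𝒜 ℳ₃ hd hf (hv i m hm) fun x hx => ?_
      refine (fracAt_eq_zero_iff 𝒜 x (v m) (f ^ k) (pow_notMem 𝒜 hx k)).1 ?_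
      have h1 : GrMod.locMap v x (GrMod.val s ⟨x, hx⟩) = 0 :=
        (GrMod.map_app_val v hv n _ s ⟨x, hx⟩).symm.trans (congrArg (fun t => GrMod.val t ⟨x, hx⟩) hs)
      rw [show GrMod.val s ⟨x, hx⟩ = fracAt 𝒜 x m (f ^ k) (pow_notMem 𝒜 hx k) from hσ ⟨x, hx⟩ _] at h1
      exact (GrMod.locMap_mk v x m _).symm.trans h1
    rw [← map_smul] at hN
    obtain ⟨w, hw⟩ := (hex _).1 hN
    have hmem : f ^ N • m ∈ ℳ₂ (N * d + i) := SetLike.GradedSMul.smul_mem (SetLike.pow_mem_graded N hf) hm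
    have hw' : u (DirectSum.decompose ℳ₁ w (N * d + i) : M₁) = f ^ N • m := by
      rw [← DirectSum.decompose_of_mem_same ℳ₂ hmem, ← hw]
      conv_rhs => rw [← DirectSum.sum_support_decompose ℳ₁ w, map_sum, DirectSum.decompose_sum,
        DFinsupp.finsetSum_apply, AddSubmonoidClass.coe_finsetSum]
      rw [Finset.sum_eq_single (N * d + i)]
      · exact (DirectSum.decompose_of_mem_same ℳ₂ (hu _ _ (DirectSum.decompose ℳ₁ w _).2)).symm
      · intro j _ hj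
        exact DirectSum.decompose_of_mem_ne ℳ₂ (hu _ _ (DirectSum.decompose ℳ₁ w j).2) hj
      · intro hnot
        rw [DFinsupp.notMem_support_iff.1 hnot]
        simp
    refine ⟨secOf 𝒜 ℳ₁ (DirectSum.decompose ℳ₁ w (N * d + i)).2 (SetLike.pow_mem_graded (N + k) hf)
      (V := Proj.basicOpen 𝒜 f) (fun x hx => pow_notMem 𝒜 hx _) (by simp only [smul_eq_mul, Nat.cast_add, Nat.cast_mul]; rw [hi]; push_cast; ring), ?_⟩
    refine sval_ext 𝒜 ℳ₂ fun x => ?_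
    refine (GrMod.map_app_val u hu n _ _ x).trans ((GrMod.locMap_mk u x.1 _ _).trans ?_)
    refine Eq.trans ?_ (hσ x (pow_notMem 𝒜 x.2 k)).symm
    refine fracAt_eq_of 𝒜 x.1 (pow_notMem 𝒜 x.2 (N + k)) (pow_notMem 𝒜 x.2 k) ?_
    rw [hw', ← mul_smul, ← pow_add, add_comm]
  · rintro ⟨t, rfl⟩
    refine sval_ext 𝒜 ℳ₃ fun x => ?_
    refine (GrMod.map_app_val v hv n _ _ x).trans ?_
    rw [show GrMod.val ((GrMod.map 𝒜 u hu n).app (Proj.basicOpen 𝒜 f) t) x = GrMod.locMap u x.1 (GrMod.val t x) from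
      GrMod.map_app_val u hu n _ t x]
    refine Eq.trans ?_ (sval_zero 𝒜 ℳ₃ x).symm
    generalize GrMod.val t x = q
    induction q using LocalizedModule.induction_on with
    | h m s =>
      rw [GrMod.locMap_mk, GrMod.locMap_mk, (hex _).2 ⟨m, rfl⟩, LocalizedModule.zero_mk]

end Groth.Agent.S8338
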