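import Groth.Statements.S8333
import Groth.Agent.H11Proj.RelTwistAmple

set_option autoImplicit false
universe u
open CategoryTheory CategoryTheory.Limits AlgebraicGeometry Opposite TopologicalSpace
open scoped HomogeneousIdeal
noncomputable section
open EGA2

namespace Groth.Agent.S8333

/-- Let Y be a scheme with quasi-compact underlying space, 𝒮 a quasi-coherent positively graded
O_Y-algebra generated by 𝒮_1 with 𝒮_1 of finite type, p : P = Proj(𝒮) → Y, and F a quasi-coherent
O_P-module of finite type. Then there is n₀ such that for all n ≥ n₀ the canonical morphism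
p^*(p_*(F(n))) → F(n) is an epimorphism, where F(n) = F ⊗ O_P(n) with O_P(n) given through its
chartwise identifications. -/
theorem result {Y P : Scheme.{u}} (𝒮 : RelProj.QCGrAlg Y) (p : P ⟶ Y)
    (chart : ∀ (U : Y.Opens) (hU : IsAffineOpen U), (((p ⁻¹ᵁ U : P.Opens) : Scheme.{u}) ≅ Proj (𝒮.deg U hU)))
    (hP : RelProj.IsRelProj 𝒮 p chart) [CompactSpace Y] (hgen : 𝒮.IsGenDegOne)
    (hft : 𝒮.IsFTDeg 1) (F : P.Modules) (hFq : Coh.IsQCoh F) (hFt : CohB1.IsFT F) :
    ∃ n₀ : ℤ, ∀ (n : ℤ), n₀ ≤ n → ∀ (L : P.Modules)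
      (lam : ∀ (U : Y.Opens) (hU : IsAffineOpen U),
      L ⟶ (Scheme.Modules.pushforward (RelProj.emb p chart U hU)).obj (GrTwist.twist (𝒮.deg U hU) n)),
      RelProj.IsRelTwist 𝒮 p chart n L lam →
        Epi ((Scheme.Modules.pullbackPushforwardAdjunction p).counit.app (CohB1.tensorMod F L)) := by
  exact H11Proj.RelTwistAmple.eventually_epi_counit hP hgen hft F ⟨hFq, hFt⟩

end Groth.Agent.S8333
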