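import Groth.Statements.S8334
import Groth.Agent.H11Proj.RelTwistAmple
import Groth.Agent.H11Ample.CounitFT
import Groth.Agent.H10Coh.TensorBasics
import Groth.Agent.H10Coh.TwistExact
import Groth.Agent.H11Ample.UnitIso
import Groth.Agent.H11Proj.RelProjGlue
import Groth.Agent.S8286

set_option autoImplicit false
universe u
open CategoryTheory CategoryTheory.Limits AlgebraicGeometry Opposite TopologicalSpace
open scoped HomogeneousIdeal
noncomputable section
open EGA2

namespace Groth.Agent.S8334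

/-- Let Y be a quasi-compact separated scheme, or a scheme with Noetherian underlying space, 𝒮 a
quasi-coherent positively graded O_Y-algebra generated by 𝒮_1 with 𝒮_1 of finite type, p : P =
Proj(𝒮) → Y, and F a quasi-coherent O_P-module of finite type. Then there is n₀ such that for every
n ≥ n₀, F is a quotient of (p^*G)(−n) = p^*(G) ⊗ O_P(−n) for some quasi-coherent O_Y-module G of
finite type (which may vary with n), O_P(−n) being given through its chartwise identifications. -/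
theorem result {Y P : Scheme.{u}} (𝒮 : RelProj.QCGrAlg Y) (p : P ⟶ Y)
    (chart : ∀ (U : Y.Opens) (hU : IsAffineOpen U), (((p ⁻¹ᵁ U : P.Opens) : Scheme.{u}) ≅ Proj (𝒮.deg U hU)))
    (hP : RelProj.IsRelProj 𝒮 p chart)
    (hY : (CompactSpace Y ∧ Y.IsSeparated) ∨ NoetherianSpace Y) (hgen : 𝒮.IsGenDegOne)
    (hft : 𝒮.IsFTDeg 1) (F : P.Modules) (hFq : Coh.IsQCoh F) (hFt : CohB1.IsFT F) :
    ∃ n₀ : ℤ, ∀ (n : ℤ), n₀ ≤ n → ∀ (L : P.Modules)
      (lam : ∀ (U : Y.Opens) (hU : IsAffineOpen U),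
      L ⟶ (Scheme.Modules.pushforward (RelProj.emb p chart U hU)).obj (GrTwist.twist (𝒮.deg U hU) (-n))),
      RelProj.IsRelTwist 𝒮 p chart (-n) L lam →
        ∃ (G : Y.Modules) (π : CohB1.tensorMod ((Scheme.Modules.pullback p).obj G) L ⟶ F),
          Coh.IsQCoh G ∧ CohB1.IsFT G ∧ Epi π := by
  haveI : CompactSpace Y := by
    rcases hY with ⟨h, -⟩ | h
    · exact h
    · haveI := h; infer_instance
  haveI : QuasiSeparatedSpace Y := by
    rcases hY with ⟨-, h⟩ | h
    · haveI := h; infer_instance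
    · haveI := h; exact ⟨fun _ _ _ _ _ _ => NoetherianSpace.isCompact _⟩
  haveI := H11Proj.RelTwistAmple.quasiCompact hP hgen hft
  haveI := H11Proj.isSeparated_relProj hP
  haveI : CompactSpace P := QuasiCompact.compactSpace_of_compactSpace p
  obtain ⟨n₀, hn₀⟩ := H11Proj.RelTwistAmple.eventually_epi_counit hP hgen hft F ⟨hFq, hFt⟩
  refine ⟨max n₀ 0, fun n hn L' lam' hL' => ?_⟩
  obtain ⟨L, lam, hL⟩ := H11Tilde.exists_isRelTwist hP n
  obtain ⟨O0, lam0, h0⟩ := H11Tilde.exists_isRelTwist hP 0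
  obtain ⟨e⟩ := H11Tilde.nonempty_relTwist_tensor_iso hP hgen (show (0 : ℤ) = n + -n by ring) hL hL' h0
  obtain ⟨e₀⟩ := H11Tilde.nonempty_relTwist_zero_iso hP h0
  have hinv : PicF.IsInvertible L := S8286.result 𝒮 hgen p chart hP _ L lam hL
  have hinv' : PicF.IsInvertible L' := S8286.result 𝒮 hgen p chart hP _ L' lam' hL'
  have hM := H11Ample.isCoh_tensor (F := F) ⟨hFq, hFt⟩ hinv
  obtain ⟨G, π, hG, hGt, hπ⟩ := H11Ample.CounitFT.exists_epi_pullback (f := p) hM.1 hM.2
    (hn₀ n ((le_max_left _ _).trans hn) L lam hL)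
  haveI : Epi (LimSh.tensorModMap π L') := H10Coh.Tw.epi_map π hinv'
  exact ⟨G, LimSh.tensorModMap π L' ≫ (H11Ample.tensorAssocIso F L L').hom ≫
    (PicGrp.tensorModIso (Iso.refl F) (e ≪≫ e₀)).hom ≫ (H11Ample.tensorCommIso _ _).hom ≫
      (H11Ample.tensorLeftUnitIso F).hom, hG, hGt, inferInstance⟩

end Groth.Agent.S8334
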