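import Groth.Statements.S8339
import Groth.Agent.H11Tilde.RelMap

set_option autoImplicit false
universe u
open CategoryTheory CategoryTheory.Limits AlgebraicGeometry Opposite TopologicalSpace
open scoped HomogeneousIdeal
noncomputable section
open EGA2

open TopologicalSpace Opposite
namespace Groth.Agent.S8339

/-- Let ψ : S' → S be a homomorphism of graded rings with S_+ contained in the ideal generated by
ψ(S'_+), so that Φ : Proj S → Proj S' is everywhere defined, and let N be a graded S-module. If M is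
the graded S'-module obtained from N by restriction of scalars along ψ — given here as any graded
S'-module with a degree-preserving bijective ψ-semilinear map v : M → N — then the canonical
morphism M(n)~ → Φ_*(N(n)~), m/f ↦ v(m)/ψ(f), is an isomorphism for every integer n. (The published
statement is over the open G(ψ) where Φ is defined; the hypothesis on irrelevant ideals used here
forces G(ψ) = Proj S. For v not bijective this morphism is not an isomorphism in general. Gradings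
by additive subgroups; modules graded in non-negative degrees.) -/
theorem result {A σ : Type u} [CommRing A] [SetLike σ A] [AddSubgroupClass σ A] {𝒜 : ℕ → σ}
    [GradedRing 𝒜] {B σ' : Type u} [CommRing B] [SetLike σ' B] [AddSubgroupClass σ' B] {ℬ : ℕ → σ'} [GradedRing ℬ]
    (ψ : 𝒜 →+*ᵍ ℬ) (hψ : ℬ₊ ≤ (𝒜₊).map ψ)
    {M τ : Type u} [AddCommGroup M] [Module A M] [SetLike τ M] [AddSubgroupClass τ M] (ℳ : ℕ → τ)
    [SetLike.GradedSMul 𝒜 ℳ] [DirectSum.Decomposition ℳ]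
    {N τ' : Type u} [AddCommGroup N] [Module B N] [SetLike τ' N] [AddSubgroupClass τ' N] (𝒩 : ℕ → τ')
    [SetLike.GradedSMul ℬ 𝒩] [DirectSum.Decomposition 𝒩]
    (v : M →ₛₗ[ψ.toRingHom] N) (hv : ∀ (i : ℕ) (m : M), m ∈ ℳ i → v m ∈ 𝒩 i) (hbij : Function.Bijective v)
    (n : ℤ) : IsIso (GrMod.comap ψ hψ v hv n) := by
  classical
  have hinv : ∀ (i : ℕ) (x : M), v x ∈ 𝒩 i → x ∈ ℳ i := by
    intro i x hx
    have e : (DirectSum.decompose 𝒩 (v x) i : N) = v (DirectSum.decompose ℳ x i : M) := by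
      conv_lhs => rw [← DirectSum.sum_support_decompose ℳ x, map_sum]
      rw [DirectSum.decompose_sum, DFinsupp.finsetSum_apply, AddSubmonoidClass.coe_finsetSum,
        Finset.sum_eq_single i]
      · exact DirectSum.decompose_of_mem_same 𝒩 (hv i _ (DirectSum.decompose ℳ x i).2)
      · exact fun k _ hk => DirectSum.decompose_of_mem_ne 𝒩 (hv k _ (DirectSum.decompose ℳ x k).2) hk
      · intro hi
        rw [DFinsupp.notMem_support_iff.1 hi]
        simp
    rw [DirectSum.decompose_of_mem_same 𝒩 hx] at e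
    exact hbij.1 e ▸ (DirectSum.decompose ℳ x i).2
  have nhd : ∀ (W : (Proj 𝒜).Opens) (x : Proj 𝒜), x ∈ W → ∃ (e : ℕ) (g : A), 0 < e ∧ g ∈ 𝒜 e ∧
      x ∈ Proj.basicOpen 𝒜 g ∧ Proj.basicOpen 𝒜 g ≤ W := by
    intro W x hx
    obtain ⟨d, f, hd, hf, hfx⟩ := Groth.Agent.H11Tilde.exists_posHom_notMem 𝒜 x
    obtain ⟨e, g, he, hg, hgx, hgW⟩ := Groth.Agent.H11Tilde.exists_basicOpen_nhd 𝒜 hd hf hfx hx
    exact ⟨e, g, he, hg, hgx, fun y hy => (hgW y hy).1⟩
  have : Mono (GrMod.comap ψ hψ v hv n) := by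
    refine Groth.Agent.H11Tilde.mono_of_injective _ fun W s hs x hx => ?_
    obtain ⟨e, g, he, hg, hgx, hgW⟩ := nhd W x hx
    refine ⟨Proj.basicOpen 𝒜 g, hgW, hgx, Groth.Agent.H11Tilde.sval_ext 𝒜 ℳ fun z => ?_⟩
    obtain ⟨k, i, m, hm, hi, hσ⟩ := Groth.Agent.H11Tilde.exists_eq_fracAt 𝒜 ℳ he hg
      ((GrMod.tilde 𝒜 ℳ n).presheaf.map (homOfLE hgW).op s)
    have hzero : ∀ y : ProjectiveSpectrum ℬ, ψ g ∉ y.asHomogeneousIdeal →
        ∃ t, t ∉ y.asHomogeneousIdeal ∧ t • v m = 0 := by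
      intro y hy
      have hk : g ^ k ∉ (ProjectiveSpectrum.comap ψ hψ y).asHomogeneousIdeal :=
        Groth.Agent.H11Tilde.pow_notMem 𝒜 (x := ProjectiveSpectrum.comap ψ hψ y) (a := g) hy k
      have h0 : GrMod.val ((GrMod.comap ψ hψ v hv n).app W s) ⟨y, hgW hy⟩ = 0 :=
        congrArg (fun r => GrMod.val r (⟨y, hgW hy⟩ : ↥(Proj.map ψ hψ ⁻¹ᵁ W))) hs
      have h1 := (GrMod.comap_app_val ψ hψ v hv n W s ⟨y, hgW hy⟩).symm.trans h0
      have h2 : GrMod.val s ⟨ProjectiveSpectrum.comap ψ hψ y, hgW hy⟩ =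
          Groth.Agent.H11Tilde.fracAt 𝒜 (ProjectiveSpectrum.comap ψ hψ y) m (g ^ k) hk :=
        hσ ⟨ProjectiveSpectrum.comap ψ hψ y, hy⟩ hk
      rw [h2] at h1
      exact (Groth.Agent.H11Tilde.fracAt_eq_zero_iff ℬ y (v m) (ψ (g ^ k)) hk).1 h1
    obtain ⟨K, hK⟩ := Groth.Agent.H11Tilde.exists_pow_smul_eq_zero ℬ 𝒩 he (ψ.map_mem hg) (hv i m hm) hzero
    have hgm : g ^ K • m = 0 := by
      apply hbij.1
      rw [map_zero, LinearMap.map_smulₛₗ, map_pow]
      exact hK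
    refine Eq.trans ?_ (Groth.Agent.H11Tilde.sval_zero 𝒜 ℳ z).symm
    refine (hσ z (Groth.Agent.H11Tilde.pow_notMem 𝒜 z.2 k)).trans ?_
    exact (Groth.Agent.H11Tilde.fracAt_eq_zero_iff 𝒜 z.1 m _ _).2
      ⟨g ^ K, Groth.Agent.H11Tilde.pow_notMem 𝒜 z.2 K, hgm⟩
  have : Epi (GrMod.comap ψ hψ v hv n) := by
    refine Groth.Agent.H11Tilde.epi_of_locally_surjective _ fun W t x hx => ?_
    obtain ⟨e, g, he, hg, hgx, hgW⟩ := nhd W x hx
    obtain ⟨k, i, m', hm', hi, hσ⟩ := Groth.Agent.H11Tilde.exists_eq_fracAt ℬ 𝒩 he (ψ.map_mem hg)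
      (((Scheme.Modules.pushforward (Proj.map ψ hψ)).obj (GrMod.tilde ℬ 𝒩 n)).presheaf.map (homOfLE hgW).op t)
    obtain ⟨m, rfl⟩ := hbij.2 m'
    refine ⟨Proj.basicOpen 𝒜 g, hgW, hgx, Groth.Agent.H11Tilde.secOf 𝒜 ℳ (hinv i m hm')
      (SetLike.pow_mem_graded k hg) (V := Proj.basicOpen 𝒜 g) (fun y hy => Groth.Agent.H11Tilde.pow_notMem 𝒜 hy k)
      (by simp only [smul_eq_mul]; push_cast; exact hi), ?_⟩
    refine Groth.Agent.H11Tilde.sval_ext ℬ 𝒩 fun (y : ↥(Proj.basicOpen ℬ (ψ g))) => ?_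
    refine Eq.trans ?_ (hσ y (Groth.Agent.H11Tilde.pow_notMem ℬ y.2 k)).symm
    exact Groth.Agent.H11Tilde.fracAt_congr ℬ y.1 _ _ rfl (map_pow ψ g k)
  exact isIso_of_mono_of_epi _

end Groth.Agent.S8339
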