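import Groth.Statements.S8342
import Groth.Agent.H11Proj.ProjData
import Groth.Agent.H11Tilde.Global

set_option autoImplicit false
set_option linter.style.haveILetI false
universe u
open CategoryTheory CategoryTheory.Limits AlgebraicGeometry Opposite TopologicalSpace
open scoped HomogeneousIdeal
noncomputable section
open EGA2
open Groth.Agent.H11Tilde Groth.Agent.H11Ample Groth.Agent.H11Proj

namespace Groth.Agent.S8342

variable {X Y : Scheme.{u}} (j : Y ⟶ X) [IsOpenImmersion j] {L : X.Modules} {M : Y.Modules}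
  (l : L ⟶ (Scheme.Modules.pushforward j).obj M)

/-- The section read through `l`. -/
abbrev lval (V : X.Opens) (m : Γ(L, V)) : Γ(M, j ⁻¹ᵁ V) := l.app V m

theorem bij_transfer (V : X.Opens) (hV : V ≤ j.opensRange) (hl : Function.Bijective (l.app V)) (g : Γ(L, ⊤)) :
    (Function.Bijective fun r : Γ(X, V) => r • L.presheaf.map (homOfLE (le_top : V ≤ ⊤)).op g) ↔
      Function.Bijective fun r : Γ(Y, j ⁻¹ᵁ V) =>
        r • M.presheaf.map (homOfLE (le_top : j ⁻¹ᵁ V ≤ ⊤)).op (lval j l ⊤ g) := by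
  haveI := j.isIso_app V hV
  have hb : Function.Bijective (j.app V) := ConcreteCategory.bijective_of_isIso _
  have e : (lval j l V) ∘ (fun r : Γ(X, V) => r • L.presheaf.map (homOfLE (le_top : V ≤ ⊤)).op g) =
      (fun r : Γ(Y, j ⁻¹ᵁ V) => r • M.presheaf.map (homOfLE (le_top : j ⁻¹ᵁ V ≤ ⊤)).op (lval j l ⊤ g)) ∘ (j.app V) :=
    funext fun r => by
      change lval j l V (r • L.presheaf.map (homOfLE (le_top : V ≤ ⊤)).op g) = _
      exact (Scheme.Modules.Hom.app_smul l r _).trans
        (congrArg (fun z : Γ(M, j ⁻¹ᵁ V) => j.app V r • z) (app_map_apply l (le_top : V ≤ ⊤) g))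
  rw [← Function.Bijective.of_comp_iff' hl, ← Function.Bijective.of_comp_iff _ hb]
  exact Iff.of_eq (congrArg Function.Bijective e)

theorem bij_preimage_congr (m : Γ(M, ⊤)) (W W' : Y.Opens) (h : W = W') :
    (Function.Bijective fun r : Γ(Y, W) => r • M.presheaf.map (homOfLE (le_top : W ≤ ⊤)).op m) →
      Function.Bijective fun r : Γ(Y, W') => r • M.presheaf.map (homOfLE (le_top : W' ≤ ⊤)).op m := by
  subst h; exact id

/-- Let 𝒮 be a quasi-coherent positively graded O_Y-algebra generated by 𝒮_1, P = Proj(𝒮), and f a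
global section of 𝒮 of degree d > 0. Then the open X_f (chartwise D_+(f|U)) is the set of points of
P where the global section α_d(f) of the invertible module O_P(d) does not vanish — here: X_f equals
the largest open over which the module map O_P → O_P(d) defined by α_d(f) is an isomorphism; O_P(d)
is given through its chartwise identifications and α_d(f) is pinned as the section reading f|U / 1
on every chart. -/
theorem result {Y P : Scheme.{u}} (𝒮 : RelProj.QCGrAlg Y) (p : P ⟶ Y)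
    (chart : ∀ (U : Y.Opens) (hU : IsAffineOpen U), (((p ⁻¹ᵁ U : P.Opens) : Scheme.{u}) ≅ Proj (𝒮.deg U hU)))
    (hP : RelProj.IsRelProj 𝒮 p chart) (hgen : 𝒮.IsGenDegOne) {d : ℕ} (hd : 0 < d)
    (f : 𝒮.presheaf.obj (op ⊤))
    (hf : ∀ (U : Y.Opens) (hU : IsAffineOpen U), (𝒮.presheaf.map (homOfLE le_top).op).hom f ∈ 𝒮.deg U hU d)
    (Xf : P.Opens)
    (hXf : ∀ (U : Y.Opens) (hU : IsAffineOpen U),
      Xf ⊓ p ⁻¹ᵁ U =
        (p ⁻¹ᵁ U).ι ''ᵁ ((chart U hU).hom ⁻¹ᵁ
          Proj.basicOpen (𝒮.deg U hU) ((𝒮.presheaf.map (homOfLE le_top).op).hom f)))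
    (L : P.Modules)
    (lam : ∀ (U : Y.Opens) (hU : IsAffineOpen U),
      L ⟶ (Scheme.Modules.pushforward (RelProj.emb p chart U hU)).obj (GrTwist.twist (𝒮.deg U hU) (d : ℤ)))
    (hL : RelProj.IsRelTwist 𝒮 p chart (d : ℤ) L lam) (s : Coh.structureModule P ⟶ L)
    (hs : ∀ (U : Y.Opens) (hU : IsAffineOpen U) (y : Proj (𝒮.deg U hU)),
      GrTwist.val (V := RelProj.emb p chart U hU ⁻¹ᵁ ⊤)
        ((lam U hU).app ⊤ (s.app ⊤ (show Γ(Coh.structureModule P, ⊤) from (1 : Γ(P, ⊤))))) ⟨y, Set.mem_univ _⟩ =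
        Localization.mk ((𝒮.presheaf.map (homOfLE le_top).op).hom f) 1) :
    Xf = CohB1.genLocus L s := by
  classical
  rw [genLocus_eq_gen]
  set g : Γ(L, ⊤) := SecTwist.val s ⊤ with hg
  have key : ∀ (U : Y.Opens) (hU : IsAffineOpen U) (y : Proj (𝒮.deg U hU)),
      (RelProj.emb p chart U hU).base y ∈ Xf ↔
        y ∈ Proj.basicOpen (𝒮.deg U hU) ((𝒮.presheaf.map (homOfLE le_top).op).hom f) := by
    intro U hU y
    constructor
    · intro hy
      have h1 : (RelProj.emb p chart U hU).base y ∈ Xf ⊓ p ⁻¹ᵁ U := ⟨hy, (opensRange_emb p chart U hU).le ⟨y, rfl⟩⟩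
      rw [hXf U hU] at h1
      obtain ⟨z, hz, e⟩ := h1
      have e' : z = (chart U hU).inv.base y := (p ⁻¹ᵁ U).ι.isOpenEmbedding.injective e
      have e'' : (chart U hU).hom.base z = y := by
        rw [e']; exact congrArg (fun φ => φ.base y) (chart U hU).inv_hom_id
      exact e'' ▸ hz
    · intro hy
      refine ((hXf U hU).ge ⟨(chart U hU).inv.base y, ?_, rfl⟩).1
      show (chart U hU).hom.base ((chart U hU).inv.base y) ∈ Proj.basicOpen _ _
      have e'' : (chart U hU).hom.base ((chart U hU).inv.base y) = y :=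
        congrArg (fun φ => φ.base y) (chart U hU).inv_hom_id
      exact e''.symm ▸ hy
  have hG : ∀ (U : Y.Opens) (hU : IsAffineOpen U),
      lval (RelProj.emb p chart U hU) (lam U hU) ⊤ g = globalSec (𝒮.deg U hU) (hf U hU) := fun U hU =>
    sval_ext (𝒮.deg U hU) (𝒮.deg U hU) fun y => (hs U hU y.1).trans rfl
  refine le_antisymm (fun x hx => ?_) (fun x hx => ?_)
  · obtain ⟨U, hU, hxU, -⟩ := exists_isAffineOpen_mem_and_subset (X := Y) (x := p.base x) (U := ⊤) trivial
    refine le_sSup (a := Xf ⊓ p ⁻¹ᵁ U) ?_ ⟨hx, hxU⟩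
    refine (isIso_restrict_homOfGlobal_iff L g _).2 fun V hV => ?_
    refine (bij_transfer _ (lam U hU) V ((hV.trans inf_le_right).trans (opensRange_emb p chart U hU).ge)
      (hL.bijective U hU V (hV.trans inf_le_right)) g).2 ?_
    rw [hG U hU]
    exact bijective_smul_globalSec (𝒮.deg U hU) (hf U hU) fun y hy => (key U hU y).1 (hV hy).1
  · obtain ⟨U, hU, hxU, -⟩ := exists_isAffineOpen_mem_and_subset (X := Y) (x := p.base x) (U := ⊤) trivial
    obtain ⟨y, rfl⟩ := (opensRange_emb p chart U hU).ge hxU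
    obtain ⟨U0, hU0, hxU0⟩ := Opens.mem_sSup.1 hx
    have hb := (isIso_restrict_homOfGlobal_iff L g U0).1 hU0
    have hloc := genLocus_globalSec (𝒮.deg U hU) (hf U hU) fun z => by
      obtain ⟨a, ha, haz⟩ := exists_degOne_notMem (𝒮.deg U hU) (hgen U hU) z
      refine ⟨a ^ d, ?_, fun h => haz (z.isPrime.mem_of_pow_mem d h)⟩
      simpa using SetLike.pow_mem_graded d ha
    refine (key U hU y).2 (hloc.le (le_sSup (a := RelProj.emb p chart U hU ⁻¹ᵁ U0) ?_ hxU0))
    refine (isIso_restrict_homOfGlobal_iff _ _ _).2 fun W hW => ?_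
    have hWU : RelProj.emb p chart U hU ''ᵁ W ≤ p ⁻¹ᵁ U := fun z hz => by
      obtain ⟨w, -, rfl⟩ := hz
      exact (opensRange_emb p chart U hU).le ⟨w, rfl⟩
    have h2 := (bij_transfer _ (lam U hU) _ (hWU.trans (opensRange_emb p chart U hU).ge)
      (hL.bijective U hU _ hWU) g).1 (hb _ fun z hz => by
        obtain ⟨w, hw, rfl⟩ := hz
        exact hW hw)
    rw [hG U hU] at h2
    exact bij_preimage_congr _ _ _ ((RelProj.emb p chart U hU).preimage_image_eq W) h2

end Groth.Agent.S8342
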