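import Groth.Statements.S8346
import Groth.Agent.H28Top.Noeth

set_option autoImplicit false
universe u
open ConstrTop

namespace Groth.Agent.S8346

open TopologicalSpace in
/-- Let X be a topological space admitting a basis of open subsets which are retrocompact in X. Then
every locally constructible subset T of X is retrocompact in X. -/
theorem result {X : Type u} [TopologicalSpace X]
    {B : Set (Set X)} (hB : IsTopologicalBasis B) (hBr : ∀ U ∈ B, IsRetrocompact U) {T : Set X}
    (hT : Topology.IsLocallyConstructible T) : IsRetrocompact T := by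
  intro W hWc hWo
  have : ∀ x ∈ W, ∃ U ∈ B, x ∈ U ∧ IsCompact (T ∩ (U ∩ W)) := by
    intro x _
    obtain ⟨V, hVx, hVo, hV⟩ := hT x
    obtain ⟨U, hU, hxU, hUV⟩ := hB.mem_nhds_iff.mp hVx
    refine ⟨U, hU, hxU, ?_⟩
    have hUW : IsCompact (U ∩ W) := hBr U hU hWc hWo
    have h1 : IsCompact (Subtype.val ⁻¹' (U ∩ W) : Set V) := by
      rw [Subtype.isCompact_iff, Subtype.image_preimage_coe,
        Set.inter_eq_right.mpr (Set.inter_subset_left.trans hUV)]
      exact hUW
    have h2 := (Groth.Agent.H28Top.isRetrocompact_of_isConstructible hV h1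
      (((hB.isOpen hU).inter hWo).preimage continuous_subtype_val)).image continuous_subtype_val
    rwa [← Set.preimage_inter, Subtype.image_preimage_coe, Set.inter_eq_right.mpr
      (Set.inter_subset_right.trans (Set.inter_subset_left.trans hUV))] at h2
  choose U hU hxU hUc using this
  obtain ⟨t, ht⟩ := hWc.elim_finite_subcover (fun x : W => U x.1 x.2) (fun x => hB.isOpen (hU _ _))
    (fun x hx => Set.mem_iUnion.mpr ⟨⟨x, hx⟩, hxU x hx⟩)
  have : T ∩ W = ⋃ x ∈ t, T ∩ (U x.1 x.2 ∩ W) := by
    rw [← Set.inter_iUnion₂, ← Set.iUnion₂_inter, Set.inter_eq_right.mpr ht]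
  rw [this]
  exact t.finite_toSet.isCompact_biUnion fun x _ => hUc _ _

end Groth.Agent.S8346
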