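import Groth.Statements.S8348
import Mathlib.CategoryTheory.Preadditive.Injective.Basic

set_option autoImplicit false
universe v u
open CategoryTheory CategoryTheory.Limits
open HomAlg3

namespace Groth.Agent.S8348

/-- Let C be an abelian category and Q a cochain complex of objects of C in degrees 0, 1, 2, ... such
that every Q^i is injective, every homology object H^i(Q) with i ≥ 1 is zero, and every inclusion of
the cycles Z^i(Q) into Q^i (i ≥ 0) is a split monomorphism. Then Q is an injective object of the
category of cochain complexes of C indexed by the natural numbers. (The published statement is for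
the narrower class of complexes with Z^i(Q) = B^i(Q) for every i ≥ 0, which in degree 0, where there
is no incoming differential, forces Z^0(Q) = 0; this row allows a nonzero Z^0(Q), so that it pairs
with the embedding of an arbitrary complex into such a Q. Such a Q is the direct sum of Z^0(Q)
placed in degree 0 and of the two-term complexes with Z^{i+1}(Q) in degrees i and i+1 and the
identity as differential, and the published argument carries over with Z^i(Q) in place of B^i(Q) as
the first summand of Q^i.) -/
theorem result {C : Type u} [Category.{v} C] [Abelian C]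
    (Q : CochainComplex C ℕ) (hinj : ∀ i : ℕ, Injective (Q.X i)) (hac : ∀ i : ℕ, IsZero (Q.homology (i + 1)))
    (hsplit : ∀ i : ℕ, IsSplitMono (Q.iCycles i)) : Injective Q := by
  let r : ∀ i, Q.X i ⟶ Q.cycles i := fun i => (hsplit i).exists_splitMono.some.retraction
  have hr : ∀ i, Q.iCycles i ≫ r i = 𝟙 _ := fun i => (hsplit i).exists_splitMono.some.id
  haveI hZ : ∀ i, Injective (Q.cycles i) := fun i =>
    haveI := hinj i
    (⟨Q.iCycles i, r i, hr i⟩ : Retract (Q.cycles i) (Q.X i)).injective
  have hw : ∀ i, Q.iCycles i ≫ Q.toCycles i (i + 1) = 0 := fun i => by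
    rw [← cancel_mono (Q.iCycles (i + 1)), Category.assoc, Q.toCycles_i, Q.iCycles_d, zero_comp]
  have hsp : ∀ i, ∃ s : Q.cycles (i + 1) ⟶ Q.X i, r i ≫ Q.iCycles i + Q.toCycles i (i + 1) ≫ s = 𝟙 _ := by
    intro i
    let S := ShortComplex.mk (Q.iCycles i) (Q.toCycles i (i + 1)) (hw i)
    haveI : Mono S.f := inferInstanceAs (Mono (Q.iCycles i))
    haveI : Epi S.g := by
      have := ShortComplex.exact_of_g_is_cokernel
        (ShortComplex.mk (Q.toCycles i (i + 1)) (Q.homologyπ (i + 1)) (Q.toCycles_comp_homologyπ i (i + 1)))
        (Q.homologyIsCokernel i (i + 1) (by simp))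
      exact this.epi_f ((hac i).eq_of_tgt _ _)
    have hS : S.Exact := by
      refine ShortComplex.exact_of_f_is_kernel _ (KernelFork.IsLimit.ofι' _ _ fun {W} k hk => ?_)
      exact ⟨Q.liftCycles k (i + 1) (by simp) (by rw [← Q.toCycles_i, ← Category.assoc, hk, zero_comp]), Q.liftCycles_i _ _ _ _⟩
    let sp := ShortComplex.Splitting.ofExactOfRetraction S hS (r i) (hr i) inferInstance
    exact ⟨sp.s, sp.id⟩
  choose s hs using hsp
  have htc : ∀ i, Q.toCycles i (i + 1) = Q.d i (i + 1) ≫ r (i + 1) := fun i => by
    rw [← Q.toCycles_i, Category.assoc, hr, Category.comp_id]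
  refine ⟨fun {A B} f m _ => ?_⟩
  haveI : ∀ i, Mono (m.f i) := fun i => inferInstance
  let a : ∀ i, B.X i ⟶ Q.cycles i := fun i => Injective.factorThru (f.f i ≫ r i) (m.f i)
  have ha : ∀ i, m.f i ≫ a i = f.f i ≫ r i := fun i => Injective.comp_factorThru _ _
  let h : B ⟶ Q :=
    { f := fun i => a i ≫ Q.iCycles i + B.d i (i + 1) ≫ a (i + 1) ≫ s i
      comm' := fun i j hij => by
        obtain rfl : i + 1 = j := hij
        have e : s i ≫ Q.d i (i + 1) = Q.iCycles (i + 1) := by
          have h₁ : Q.toCycles i (i + 1) ≫ s i ≫ Q.toCycles i (i + 1) = Q.toCycles i (i + 1) := by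
            have := hs i =≫ Q.toCycles i (i + 1)
            rwa [Preadditive.add_comp, Category.assoc, hw, comp_zero, zero_add, Category.assoc, Category.id_comp] at this
          haveI : Epi (Q.toCycles i (i + 1)) := by
            have := ShortComplex.exact_of_g_is_cokernel
              (ShortComplex.mk (Q.toCycles i (i + 1)) (Q.homologyπ (i + 1)) (Q.toCycles_comp_homologyπ i (i + 1)))
              (Q.homologyIsCokernel i (i + 1) (by simp))
            exact this.epi_f ((hac i).eq_of_tgt _ _)
          have h₂ : s i ≫ Q.toCycles i (i + 1) = 𝟙 _ := (cancel_epi (Q.toCycles i (i + 1))).1 (by rw [h₁, Category.comp_id])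
          rw [← Q.toCycles_i, reassoc_of% h₂]
        simp [Preadditive.add_comp, Preadditive.comp_add, e] }
  refine ⟨h, ?_⟩
  ext i
  simp only [HomologicalComplex.comp_f, h, Preadditive.comp_add]
  rw [reassoc_of% ha i, m.comm_assoc, reassoc_of% ha (i + 1), ← f.comm_assoc, ← Category.assoc (Q.d i (i + 1)), ← htc i,
    ← Preadditive.comp_add, hs i, Category.comp_id]

end Groth.Agent.S8348
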