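import Groth.Statements.S8349
import Mathlib.CategoryTheory.Abelian.Refinements
import Mathlib.Algebra.Homology.Refinements

set_option autoImplicit false
universe v u
open CategoryTheory CategoryTheory.Limits
open HomAlg3

namespace Groth.Agent.S8349

/-- Let C be an abelian category in which every object embeds in an injective object, and let A be a
cochain complex of objects of C in degrees 0, 1, 2, .... Then there are a cochain complex Q, with
every Q^i injective, H^i(Q) = 0 for every i ≥ 1 and every cycle inclusion Z^i(Q) ⟶ Q^i (i ≥ 0) a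
split monomorphism, and a monomorphism of complexes A ⟶ Q. (The published statement asks Z^i(Q) =
B^i(Q) for every i ≥ 0; in degree 0, where there is no incoming differential, this makes Z^0(Q) = 0,
and then no complex with nonzero degree-0 cycles, for instance a nonzero object placed in degree 0,
embeds in such a Q, because the degree-0 component of a chain map into Q factors through Z^0(Q).
This row asks vanishing homology in positive degrees only; the published construction, which embeds
each A^i in an injective I^i and takes Q^i = I^i ⊕ I^{i+1}, proves that version once an injective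
I^0 containing A^0 is used in degree 0 as well.) -/
theorem result {C : Type u} [Category.{v} C] [Abelian C]
    [EnoughInjectives C] (A : CochainComplex C ℕ) :
    ∃ (Q : CochainComplex C ℕ) (f : A ⟶ Q), Mono f ∧ (∀ i : ℕ, Injective (Q.X i)) ∧
      (∀ i : ℕ, IsZero (Q.homology (i + 1))) ∧ ∀ i : ℕ, IsSplitMono (Q.iCycles i) := by
  let I : ℕ → C := fun n => Injective.under (A.X n)
  let X : ℕ → C := fun n => I n ⊞ I (n + 1)
  let d : ∀ n, X n ⟶ X (n + 1) := fun n => (biprod.snd : X n ⟶ I (n + 1)) ≫ (biprod.inl : I (n + 1) ⟶ X (n + 1))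
  let Q : CochainComplex C ℕ := CochainComplex.of X d (fun n => by simp [d, X])
  have hd : ∀ n, Q.d n (n + 1) = d n := fun n => CochainComplex.of_d X d n
  let f : A ⟶ Q :=
    { f := fun n => biprod.lift (Injective.ι (A.X n)) (A.d n (n + 1) ≫ Injective.ι (A.X (n + 1)))
      comm' := fun i j h => by
        obtain rfl : i + 1 = j := h
        rw [hd]
        apply biprod.hom_ext <;> simp [d, X, I] }
  haveI : ∀ n, Mono (f.f n) := fun n => by
    haveI : Mono (f.f n ≫ (biprod.fst : X n ⟶ I n)) := by
      have : f.f n ≫ (biprod.fst : X n ⟶ I n) = Injective.ι (A.X n) := biprod.lift_fst _ _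
      rw [this]; infer_instance
    exact mono_of_mono (f.f n) (biprod.fst : X n ⟶ I n)
  refine ⟨Q, f, HomologicalComplex.mono_of_mono_f f inferInstance, fun i => ?_, fun i => ?_, fun i => ?_⟩
  · exact inferInstanceAs (Injective (I i ⊞ I (i + 1)))
  · rw [← HomologicalComplex.exactAt_iff_isZero_homology, Q.exactAt_iff' i (i + 1) (i + 1 + 1) (by simp) (by simp),
      ShortComplex.exact_iff_exact_up_to_refinements]
    intro T (c : T ⟶ X (i + 1)) (hc : c ≫ Q.d (i + 1) (i + 1 + 1) = 0)
    rw [hd] at hc
    have hc' : c ≫ (biprod.snd : X (i + 1) ⟶ I (i + 1 + 1)) = 0 := by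
      simpa [d, X] using hc =≫ (biprod.fst : X (i + 1 + 1) ⟶ I (i + 1 + 1))
    refine ⟨T, 𝟙 T, inferInstance, (c ≫ (biprod.fst : X (i + 1) ⟶ I (i + 1))) ≫ biprod.inr, ?_⟩
    show 𝟙 T ≫ c = ((c ≫ (biprod.fst : X (i + 1) ⟶ I (i + 1))) ≫ (biprod.inr : I (i + 1) ⟶ X i)) ≫ Q.d i (i + 1)
    rw [hd]
    apply biprod.hom_ext <;> simp [d, X, hc']
  · have hi : Q.iCycles i ≫ (biprod.snd : X i ⟶ I (i + 1)) = 0 := by
      have h := Q.iCycles_d i (i + 1)
      rw [hd] at h
      simpa [d, X] using h =≫ (biprod.fst : X (i + 1) ⟶ I (i + 1))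
    refine IsSplitMono.mk' ⟨Q.liftCycles ((biprod.fst : X i ⟶ I i) ≫ (biprod.inl : I i ⟶ X i)) (i + 1) (by simp)
      (by rw [hd]; simp [d, X]), ?_⟩
    rw [← cancel_mono (Q.iCycles i), Category.assoc, HomologicalComplex.liftCycles_i, Category.id_comp]
    apply biprod.hom_ext <;> simp [X, hi]

end Groth.Agent.S8349
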