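import Groth.Statements.S8350
import Groth.Agent.H16Derived.FilD.FilRes

set_option autoImplicit false
universe v u
open CategoryTheory CategoryTheory.Limits
open HomAlg3

namespace Groth.Agent.S8350

/-- Let C be an abelian category in which every object embeds in an injective object, and let A be an
object of C with a finite decreasing filtration (F^i A). Then there are an injective resolution X of
A and a decreasing filtration of X by subcomplexes F^i X such that F^i X = X when F^i A = A, F^i X =
0 when F^i A = 0, and, for every i, F^i X is a complex of injective objects into which F^i A (placed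
in degree 0) maps, compatibly with the augmentation A ⟶ X, by a quasi-isomorphism; thus F^i X is an
injective resolution of F^i A. -/
theorem result {C : Type u} [Category.{v} C] [Abelian C] [EnoughInjectives C]
    (K : SpSeq.FilObj C) (hK : K.IsFinite) :
    ∃ (X : InjectiveResolution K.obj) (G : ℤ → Subobject X.cocomplex), Antitone G ∧
      (∀ i : ℤ, K.fil i = ⊤ → G i = ⊤) ∧ (∀ i : ℤ, K.fil i = ⊥ → G i = ⊥) ∧
      ∀ i : ℤ, (∀ j : ℕ, Injective ((G i : CochainComplex C ℕ).X j)) ∧
        ∃ ι : (CochainComplex.single₀ C).obj (K.step i) ⟶ (G i : CochainComplex C ℕ),
          ι ≫ (G i).arrow = (CochainComplex.single₀ C).map (K.fil i).arrow ≫ X.ι ∧ QuasiIso ι := by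
  exact Groth.Agent.H16Derived.FilLib.FilRes.exists_filteredResolution K hK

end Groth.Agent.S8350
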