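import Groth.Statements.S8352
import Groth.Agent.H16Derived.ML

set_option autoImplicit false
universe u
open CategoryTheory CategoryTheory.Limits Opposite
open HomAlg3

namespace Groth.Agent.S8352

open Groth.Agent.H16Derived.ML

/-- Category of abelian groups, system indexed by the natural numbers: Let (A_k) be an inverse system of
abelian groups satisfying the Mittag-Leffler condition, A = lim A_k with projections π_p : A ⟶ A_p.
Filter A and each A_k by the kernels of the maps to A_{p-1} (with A_{-1} = 0); the graded piece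
gr^p(A) is identified with Im(π_p) ∩ Ker(A_p ⟶ A_{p-1}) and gr^p(A_k), k ≥ p, with Im(A_k ⟶ A_p) ∩
Ker(A_p ⟶ A_{p-1}), a decreasing family of subgroups of A_p. The statement gr^p(A) ≅ lim_k gr^p(A_k)
then reads: Im(π_0) = ⋂_k Im(A_k ⟶ A_0), and for every p, Im(π_{p+1}) ∩ Ker(A_{p+1} ⟶ A_p) = ⋂_{k ≥
p+1} (Im(A_k ⟶ A_{p+1}) ∩ Ker(A_{p+1} ⟶ A_p)). -/
theorem result (F : ℕᵒᵖ ⥤ AddCommGrpCat.{u})
    (hF : (F ⋙ forget AddCommGrpCat).IsMittagLeffler) :
    (limit.π F (op 0)).hom.range = ⨅ k : ℕ, (F.map (homOfLE (Nat.zero_le k)).op).hom.range ∧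
      ∀ p : ℕ, (limit.π F (op (p + 1))).hom.range ⊓ (F.map (homOfLE (Nat.le_succ p)).op).hom.ker =
        ⨅ (k : ℕ) (hk : p + 1 ≤ k),
          (F.map (homOfLE hk).op).hom.range ⊓ (F.map (homOfLE (Nat.le_succ p)).op).hom.ker := by
  have key : ∀ p : ℕ, ∀ x : F.obj (op p),
      (∀ (k : ℕ) (hk : p ≤ k), x ∈ (F.map (homOfLE hk).op).hom.range) ↔
        x ∈ (limit.π F (op p)).hom.range := by
    intro p x
    constructor
    · intro h
      obtain ⟨s, hs, hs'⟩ := exists_section_through countable_cofinal_nat _ hF (i₀ := p) x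
        ((mem_eventualRange _ _).2 fun k hk => h k hk)
      obtain ⟨z, hz⟩ := exists_limit_element F (fun i => s i.unop)
        (fun i j f => hs j.unop i.unop (leOfHom f.unop))
      exact ⟨z, (hz (op p)).trans hs'⟩
    · rintro ⟨z, rfl⟩ k hk
      exact ⟨limit.π F (op k) z, limit_element_compat F z _⟩
  refine ⟨?_, fun p => ?_⟩
  · ext x
    simp only [AddSubgroup.mem_iInf]
    exact ((key 0 x).symm.trans ⟨fun h k => h k _, fun h k hk => h k⟩)
  · ext x
    simp only [AddSubgroup.mem_inf, AddSubgroup.mem_iInf]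
    constructor
    · exact fun h k hk => ⟨(key (p + 1) x).2 h.1 k hk, h.2⟩
    · exact fun h => ⟨(key (p + 1) x).1 fun k hk => (h k hk).1, (h (p + 1) le_rfl).2⟩

end Groth.Agent.S8352
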