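import Groth.Statements.S8356
import Groth.Agent.H20Lie.Bracket

set_option autoImplicit false
universe u
open CategoryTheory MonObj AlgebraicGeometry
open LieS

namespace Groth.Agent.S8356

/-- For a group scheme G over a scheme S and an affine S-scheme T = Spec B, the group Lie(G/S)(T) of
points of G with values in the dual numbers over T that restrict to the unit along the zero section,
with the group law of G and the rescaling action of B, is the additive group of a Lie algebra over
B: there are a Lie algebra L over B and a multiplicative isomorphism from L onto Lie(G/S)(T)
carrying the scalar multiplication of L to the rescaling action and the bracket of L to the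
infinitesimal commutator on the iterated dual numbers. In particular the group law of Lie(G/S)(T) is
commutative, the rescaling action makes it a B-module, and the bracket so defined is B-bilinear,
alternating and satisfies the Jacobi identity. -/
theorem result (S : Scheme.{u}) (G : Over S) [GrpObj G] (B : Type u) [CommRing B]
    (f : Spec (CommRingCat.of B) ⟶ S) :
    ∃ (L : Type u) (_ : LieRing L) (_ : LieAlgebra B L), Nonempty (LieS.Model G B f L) := by
  open Groth.Agent in
  let L := Additive (LieS.Lie G B f)
  letI : AddCommGroup L :=
    { (inferInstance : AddGroup (Additive (LieS.Lie G B f))) with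
      add_comm := fun a b => congrArg Additive.ofMul (Groth.Agent.H20Lie.mul_comm' f a.toMul b.toMul) }
  letI : LieRing L :=
    { (inferInstance : AddCommGroup L) with
      bracket := fun a b => Additive.ofMul (Groth.Agent.H20Lie.br f a.toMul b.toMul)
      add_lie := fun a b c => Groth.Agent.H20Lie.br_mul_left f a.toMul b.toMul c.toMul
      lie_add := fun a b c => Groth.Agent.H20Lie.br_mul_right f a.toMul b.toMul c.toMul
      lie_self := fun a => Groth.Agent.H20Lie.br_self f a.toMul
      leibniz_lie := fun a b c => Groth.Agent.H20Lie.jacobi f a.toMul b.toMul c.toMul }
  letI : Module B L :=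
    { smul := fun b a => Additive.ofMul (b • a.toMul)
      one_smul := fun a => Groth.Agent.H20Lie.one_smul' f a.toMul
      mul_smul := fun b c a => Groth.Agent.H20Lie.mul_smul' f b c a.toMul
      smul_zero := fun b => Subtype.ext (MonObj.comp_one _)
      smul_add := fun b a c => Groth.Agent.H20Lie.smul_mul' f b a.toMul c.toMul
      add_smul := fun b c a => Groth.Agent.H20Lie.add_smul' f b c a.toMul
      zero_smul := fun a => Groth.Agent.H20Lie.zero_smul' f a.toMul }
  letI : LieAlgebra B L := { lie_smul := fun b a c => Groth.Agent.H20Lie.br_smul_right f b a.toMul c.toMul }
  refine ⟨L, inferInstance, inferInstance, ⟨⟨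
    { toFun := fun a => a.toAdd.toMul
      invFun := fun v => Multiplicative.ofAdd (Additive.ofMul v)
      left_inv := fun a => rfl
      right_inv := fun v => rfl
      map_mul' := fun a b => rfl }, fun b a => rfl, fun a b => Groth.Agent.H20Lie.br_spec f a.toMul b.toMul⟩⟩⟩

end Groth.Agent.S8356
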