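import Groth.Statements.S8357
import Groth.Agent.H20Lie.Basic

set_option autoImplicit false
universe u
open CategoryTheory MonObj AlgebraicGeometry
open LieS

namespace Groth.Agent.S8357

/-- For a group scheme G over a scheme S and an affine S-scheme T = Spec B, the map induced on
Lie(G/S)(T) by the n-th power map of G is multiplication by n; that is, for v in Lie(G/S)(T) and an
integer n, the n-th power of v in the group law inherited from G is the rescaling of v by the image
of n in B. -/
theorem result (S : Scheme.{u}) (G : Over S) [GrpObj G] (B : Type u) [CommRing B]
    (f : Spec (CommRingCat.of B) ⟶ S) (v : LieS.Lie G B f) (n : ℤ) :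
    v ^ n = ((n : B) • v : LieS.Lie G B f) := by
  exact (Groth.Agent.H20Lie.intCast_smul f v n).symm

end Groth.Agent.S8357
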