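import Groth.Statements.S8358
import Groth.Agent.H20Lie.Basic

set_option autoImplicit false
universe u
open CategoryTheory MonObj AlgebraicGeometry
open LieS

namespace Groth.Agent.S8358
section
variable {R : Type u} [CommRing R] {M : Type} [AddCommGroup M] {B : Type u} [CommRing B] [Algebra R B]

/-- the algebra map of a point -/
noncomputable def P (v : LieS.dpt B (Spec.map (CommRingCat.ofHom (algebraMap R B))) ⟶ Red.diag R M) :
    WithConv (MonoidAlgebra R (Multiplicative M) →ₐ[R] DualNumber B) :=
  Spec.mapMulEquiv.symm ((LieS.dptIso B).inv ≫ v)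

theorem P_mul (v w : LieS.dpt B (Spec.map (CommRingCat.ofHom (algebraMap R B))) ⟶ Red.diag R M) :
    P (v * w) = P v * P w := by
  unfold P
  rw [MonObj.comp_mul, map_mul]

theorem P_injective : Function.Injective (P (R := R) (M := M) (B := B)) := fun v w h => by
  have h' := Spec.mapMulEquiv.symm.injective h
  rwa [Iso.cancel_iso_inv_left] at h'

theorem exists_P (a : WithConv (MonoidAlgebra R (Multiplicative M) →ₐ[R] DualNumber B)) :
    ∃ v : LieS.dpt B (Spec.map (CommRingCat.ofHom (algebraMap R B))) ⟶ Red.diag R M, P v = a :=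
  ⟨(LieS.dptIso B).hom ≫ Spec.mapMulEquiv a, by unfold P; rw [Iso.inv_hom_id_assoc, MulEquiv.symm_apply_apply]⟩

theorem P_left (v : LieS.dpt B (Spec.map (CommRingCat.ofHom (algebraMap R B))) ⟶ Red.diag R M) :
    Spec.map (CommRingCat.ofHom (P v).ofConv.toRingHom) = v.left := by
  have h : ((LieS.dptIso B).inv ≫ v : _ ⟶ Red.diag R M).left = v.left := by
    rw [Over.comp_left]; exact Category.id_comp _
  refine Eq.trans ?_ h
  exact congrArg (·.left) (Spec.mapMulEquiv.apply_symm_apply ((LieS.dptIso B).inv ≫ v))

theorem P_smul_apply (b : B) (v : LieS.dpt B (Spec.map (CommRingCat.ofHom (algebraMap R B))) ⟶ Red.diag R M)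
    (x : MonoidAlgebra R (Multiplicative M)) :
    (P (LieS.scale B (Spec.map (CommRingCat.ofHom (algebraMap R B))) b ≫ v)).ofConv x = LieS.scaleHom b ((P v).ofConv x) := by
  have h : Spec.map (CommRingCat.ofHom (P (LieS.scale B (Spec.map (CommRingCat.ofHom (algebraMap R B))) b ≫ v)).ofConv.toRingHom) =
      Spec.map (CommRingCat.ofHom ((LieS.scaleHom b).comp (P v).ofConv.toRingHom)) := by
    rw [P_left, ← LieS.specMap_comp, P_left, Over.comp_left]
    rfl
  exact RingHom.congr_fun (congrArg CommRingCat.Hom.hom (Spec.map_injective h)) x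

theorem mem_iff (v : LieS.dpt B (Spec.map (CommRingCat.ofHom (algebraMap R B))) ⟶ Red.diag R M) :
    v ∈ LieS.LieR (Red.diag R M) B ↔
      ∀ m : Multiplicative M, TrivSqZeroExt.fst ((P v).ofConv (MonoidAlgebra.single m 1)) = 1 := by
  let i0 : LieS.pt B (Spec.map (CommRingCat.ofHom (algebraMap R B))) ≅
      (Spec (CommRingCat.of B)).asOver (Spec (CommRingCat.of R)) :=
    Over.isoMk (Iso.refl (Spec (CommRingCat.of B))) (Category.id_comp _)
  let a : MonoidAlgebra R (Multiplicative M) →ₐ[R] B :=
    ((TrivSqZeroExt.fstHom B B B).restrictScalars R).comp (P v).ofConv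
  have h : LieS.zeroSec B (Spec.map (CommRingCat.ofHom (algebraMap R B))) ≫ v =
      i0.hom ≫ Spec.mapMulEquiv (WithConv.toConv a) := by
    ext
    rw [Over.comp_left, Over.comp_left]
    refine Eq.trans ?_ (Category.id_comp _).symm
    rw [← P_left v]
    change Spec.map _ ≫ Spec.map _ = Spec.map _
    rw [LieS.specMap_comp]
    rfl
  rw [LieS.mem_Lie_iff, h]
  have h1 : (1 : LieS.pt B (Spec.map (CommRingCat.ofHom (algebraMap R B))) ⟶ Red.diag R M) = i0.hom ≫ Spec.mapMulEquiv 1 := by
    rw [map_one, MonObj.comp_one]
  rw [h1, Iso.cancel_iso_hom_left, EquivLike.apply_eq_iff_eq]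
  constructor
  · intro e m
    have := AlgHom.congr_fun (congrArg WithConv.ofConv e) (MonoidAlgebra.single m 1)
    simpa [a, AlgHom.convOne_apply] using this
  · intro e
    apply WithConv.ofConv_injective
    refine MonoidAlgebra.algHom_ext (fun m => ?_) (Subsingleton.elim _ _)
    simpa [a, AlgHom.convOne_apply] using e m

theorem P_single_mul (v w : LieS.dpt B (Spec.map (CommRingCat.ofHom (algebraMap R B))) ⟶ Red.diag R M) (m : Multiplicative M) :
    (P (v * w)).ofConv (MonoidAlgebra.single m 1) =
      (P v).ofConv (MonoidAlgebra.single m 1) * (P w).ofConv (MonoidAlgebra.single m 1) := by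
  rw [P_mul]
  simp [AlgHom.convMul_apply, MonoidAlgebra.comul_single]

/-- the character derivative -/
noncomputable def der (v : LieS.LieR (Red.diag R M) B) : M →+ B :=
  AddMonoidHom.mk' (fun m => TrivSqZeroExt.snd ((P v.1).ofConv (MonoidAlgebra.single (Multiplicative.ofAdd m) 1)))
    fun m n => by
      have hm := (mem_iff v.1).1 v.2 (Multiplicative.ofAdd m)
      have hn := (mem_iff v.1).1 v.2 (Multiplicative.ofAdd n)
      rw [show MonoidAlgebra.single (Multiplicative.ofAdd (m + n)) (1 : R) =
        MonoidAlgebra.single (Multiplicative.ofAdd m) 1 * MonoidAlgebra.single (Multiplicative.ofAdd n) 1 by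
          simp, map_mul, DualNumber.snd_mul, hm, hn, _root_.one_mul, _root_.mul_one, add_comm]

theorem der_mul (v w : LieS.LieR (Red.diag R M) B) : der (v * w) = der v + der w := by
  ext m
  change TrivSqZeroExt.snd ((P (v.1 * w.1)).ofConv _) = der v m + der w m
  rw [P_single_mul, DualNumber.snd_mul, (mem_iff v.1).1 v.2, (mem_iff w.1).1 w.2, _root_.one_mul, _root_.mul_one,
    add_comm]
  rfl

theorem der_bijective : Function.Bijective (der (R := R) (M := M) (B := B)) := by
  constructor
  · intro v w h
    refine Subtype.ext (P_injective (WithConv.ofConv_injective ?_))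
    refine MonoidAlgebra.algHom_ext (fun m => TrivSqZeroExt.ext ?_ ?_) (Subsingleton.elim _ _)
    · rw [(mem_iff v.1).1 v.2, (mem_iff w.1).1 w.2]
    · exact DFunLike.congr_fun h m.toAdd
  · intro d
    let χ : Multiplicative M →* DualNumber B :=
      { toFun := fun m => 1 + TrivSqZeroExt.inr (d m.toAdd)
        map_one' := by simp
        map_mul' := fun m n => by
          apply TrivSqZeroExt.ext <;> simp [add_comm] }
    obtain ⟨v, hv⟩ := exists_P (WithConv.toConv (MonoidAlgebra.lift R (DualNumber B) (Multiplicative M) χ))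
    refine ⟨⟨v, (mem_iff v).2 fun m => by simp [hv, χ]⟩, ?_⟩
    ext m
    change TrivSqZeroExt.snd ((P v).ofConv _) = d m
    simp [hv, χ]

theorem der_smul (b : B) (v : LieS.LieR (Red.diag R M) B) : der (b • v) = b • der v := by
  ext m
  change TrivSqZeroExt.snd ((P (LieS.scale B _ b ≫ v.1)).ofConv _) = b • der v m
  rw [P_smul_apply]
  simp [LieS.scaleHom, TrivSqZeroExt.algebraMap_eq_inl, mul_comm]
  rfl

end


/-- First isomorphism: over an affine base: for a commutative ring R, a commutative group M, the
diagonalisable group D(M) = Spec R[M] over Spec R and a commutative R-algebra B, the group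
Lie(D(M))(Spec B) is identified with the additive group Hom(M, B) of group homomorphisms: there is a
multiplicative isomorphism which sends a point v of D(M) with values in B[ε], read as an R-algebra
homomorphism from R[M] to B[ε], to the homomorphism m ↦ (ε-coefficient of the image of m), and which
carries the rescaling action of b in B to multiplication of homomorphisms by b. -/
theorem result (R : Type u) [CommRing R] (M : Type) [AddCommGroup M]
    (B : Type u) [CommRing B] [Algebra R B] :
    ∃ e : LieS.LieR (Red.diag R M) B ≃* Multiplicative (M →+ B),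
      (∀ (v : LieS.LieR (Red.diag R M) B) (m : M),
        Multiplicative.toAdd (e v) m =
          TrivSqZeroExt.snd (((Spec.mapMulEquiv.symm ((LieS.dptIso B).inv ≫ v.1)).ofConv :
            MonoidAlgebra R (Multiplicative M) →ₐ[R] DualNumber B)
            (MonoidAlgebra.single (Multiplicative.ofAdd m) 1))) ∧
      ∀ (b : B) (v : LieS.LieR (Red.diag R M) B),
        e (b • v) = Multiplicative.ofAdd (b • Multiplicative.toAdd (e v)) := by
  let e : LieS.LieR (Red.diag R M) B ≃* Multiplicative (M →+ B) :=
    MulEquiv.ofBijective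
      ({ toFun := fun v => Multiplicative.ofAdd (der v)
         map_one' := by
           have := der_mul (1 : LieS.LieR (Red.diag R M) B) 1
           rw [_root_.one_mul] at this
           exact congrArg Multiplicative.ofAdd (left_eq_add.mp this)
         map_mul' := fun v w => congrArg Multiplicative.ofAdd (der_mul v w) } :
        LieS.LieR (Red.diag R M) B →* Multiplicative (M →+ B))
      (Multiplicative.ofAdd.bijective.comp der_bijective)
  exact ⟨e, fun v m => rfl, fun b v => congrArg Multiplicative.ofAdd (der_smul b v)⟩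

end Groth.Agent.S8358
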