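import Groth.Statements.S8359
import Groth.Agent.H21Diag.Diag
import Groth.Agent.H21Diag.Actions

set_option autoImplicit false
universe u
open CategoryTheory MonObj AlgebraicGeometry
open Red

namespace Groth.Agent.S8359


/-- Over an affine base S = Spec R with S₀ = Spec (R/I) for a nilpotent ideal I: for a commutative group
M, the diagonalisable group D(M) = Spec R[M] over S, a group scheme X locally of finite presentation
over S and a homomorphism f from D(M) to X, if the base change of f to S₀ is the unit homomorphism
then f is the unit homomorphism. (The published statement is over an arbitrary base scheme with S₀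
defined by a nilpotent quasi-coherent ideal; this row is its case of an affine base.) -/
theorem result (R : Type u) [CommRing R] (I : Ideal R) (hI : IsNilpotent I)
    (M : Type) [AddCommGroup M] (X : Over (Spec (CommRingCat.of R))) [GrpObj X]
    [LocallyOfFinitePresentation X.hom] (f : Red.diag R M ⟶ X) [IsMonHom f]
    (h : (Over.pullback (Spec.map (CommRingCat.ofHom (Ideal.Quotient.mk I)))).map f = 1) :
    f = 1 := by
  let B := MonoidAlgebra R (Multiplicative M)
  let y : Spec (CommRingCat.of B) ⟶ Spec (CommRingCat.of R) := Spec.map (CommRingCat.ofHom (algebraMap R B))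
  let e := H21Diag.diagTrivial R M
  let T : Over.mk (y ≫ 𝟙 _) ⟶ Red.diag R M :=
    Over.homMk (𝟙 (Spec (CommRingCat.of B))) ((Category.id_comp _).trans (Category.comp_id y).symm)
  obtain ⟨χ, hχ⟩ := H21Diag.gpt_surjective e y T
  have hJ : IsNilpotent (I.map (algebraMap R B)) := hI.map (Ideal.mapHom (algebraMap R B))
  have htriv : H21Diag.Triv e (H21Diag.transAct f) y (I.map (algebraMap R B)) := by
    intro B' _ φ hφ χ' x' hx'
    let l : R ⧸ I →+* B' := Ideal.Quotient.lift I (φ.comp (algebraMap R B)) fun r hr => by
      rw [← Ideal.mem_bot, ← hφ]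
      exact Ideal.mem_map_of_mem φ (Ideal.mem_map_of_mem _ hr)
    refine H21Diag.act_transAct_eq f e _ χ' x' hx' ?_
    refine H21Diag.comp_eq_one_of_pullback (Spec.map (CommRingCat.ofHom (Ideal.Quotient.mk I))) f h
      (Spec.map (CommRingCat.ofHom l)) ?_ _
    rw [Category.comp_id, ← H21Diag.specMap_comp, ← H21Diag.specMap_comp]
    rfl
  let one : Over.mk (y ≫ 𝟙 _) ⟶ X := 1
  have h1 := H21Diag.act_eq_self hJ htriv χ one.left (Over.w one)
  have h2 : (CartesianMonoidalCategory.lift T one ≫ (H21Diag.transAct f).act).left = one.left := by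
    rw [← hχ]; exact h1
  have h3 : T ≫ f = 1 := by
    have h4 := (H21Diag.lift_transAct f T one).symm.trans (Over.OverMorphism.ext h2)
    exact (_root_.mul_one (T ≫ f)).symm.trans h4
  let T' : Red.diag R M ⟶ Over.mk (y ≫ 𝟙 _) :=
    Over.homMk (𝟙 (Spec (CommRingCat.of B))) ((Category.id_comp _).trans (Category.comp_id y))
  have h5 : T' ≫ T = 𝟙 _ := Over.OverMorphism.ext (Category.id_comp _)
  exact (Category.id_comp f).symm.trans ((congrArg (· ≫ f) h5).symm.trans ((Category.assoc _ _ _).trans
    ((congrArg (T' ≫ ·) h3).trans (MonObj.comp_one _))))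

end Groth.Agent.S8359
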