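import Groth.Statements.S8360
import Groth.Agent.H21Diag.BcPoints
import Groth.Agent.H21Diag.Diag

set_option autoImplicit false
universe u
open CategoryTheory MonObj AlgebraicGeometry
open Red

namespace Groth.Agent.S8360

/-- Over the affine base S = Spec R with S₀ = Spec (R/I) for a nilpotent ideal I, for a commutative
group M, the diagonalisable group D(M) = Spec R[M] over S and a group scheme X smooth over S, every
homomorphism of S₀-group schemes from D(M) ×_S S₀ to X ×_S S₀ is the base change of a homomorphism
of S-group schemes from D(M) to X. -/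
theorem result (R : Type u) [CommRing R] (I : Ideal R)
    (hI : IsNilpotent I) (M : Type) [AddCommGroup M] (X : Over (Spec (CommRingCat.of R))) [GrpObj X]
    [Smooth X.hom]
    (f₀ : Red.bc (Spec.map (CommRingCat.ofHom (Ideal.Quotient.mk I))) (Red.diag R M) ⟶ Red.bc (Spec.map (CommRingCat.ofHom (Ideal.Quotient.mk I))) X) [IsMonHom f₀] :
    ∃ f : Red.diag R M ⟶ X, IsMonHom f ∧ (Over.pullback (Spec.map (CommRingCat.ofHom (Ideal.Quotient.mk I)))).map f = f₀ := by
  open CartesianMonoidalCategory Groth.Agent.H21Diag in
  have key : ∃ f : Red.diag R M ⟶ X, IsMonHom f ∧ (Over.pullback (modSpec I)).map f = f₀ := by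
    let Q : Pres (Red.diag R M) (RingHom.id R) M :=
      Pres.ofChart (diagTrivial R M) (𝟙 _) (RingHom.id R) (by
        rw [Category.comp_id, CommRingCat.ofHom_id, Spec.map_id])
    have : IsAffineHom (Red.diag R M).hom := by
      have : IsAffine (Red.diag R M).left := isAffine_Spec _
      infer_instance
    have : IsAffine (Red.diag R M).left := isAffine_Spec _
    obtain ⟨f, hm, hf⟩ := exists_hom_lift_smooth (G := X) inferInstance Q I hI (modHom f₀) fun Y p a b => by
      rw [lift_modHom, lift_modHom, lift_modHom, modApp_mul]
    exact ⟨f, hm, map_eq_of_points f₀ f fun D _ k p a => (hf D k p a).trans (lift_modHom f₀ p a)⟩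
  exact key

end Groth.Agent.S8360
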