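import Groth.Statements.S8361
import Groth.Agent.H20Lie.Basic

set_option autoImplicit false
universe u
open CategoryTheory MonObj AlgebraicGeometry
open LieS

namespace Groth.Agent.S8361

/-- Uniqueness of the bracket: for a group scheme G over a scheme S and an affine S-scheme T = Spec B:
an element of Lie(G/S)(T) is determined by its pull-back along the coordinate-multiplying map from
the iterated dual numbers over T to the dual numbers over T; in particular the bracket of x and y,
the element whose pull-back is the commutator of x read in the second dual coordinate with y read in
the first, is unique when it exists. -/
theorem result (S : Scheme.{u}) (G : Over S) [GrpObj G] (B : Type u) [CommRing B]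
    (f : Spec (CommRingCat.of B) ⟶ S) (x y z z' : LieS.Lie G B f)
    (h : LieS.IsBracket G B f x y z) (h' : LieS.IsBracket G B f x y z') : z = z' := by
  exact Groth.Agent.H20Lie.eq_of_mulMap_eq f (h.trans h'.symm)

end Groth.Agent.S8361
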