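import Groth.Statements.S8362
import Groth.Agent.H19Grp.SquareZero
import Mathlib

set_option autoImplicit false
universe u
open CategoryTheory AlgebraicGeometry
open SGA3

namespace Groth.Agent.S8362
open Limits

/-- Over an affine base S = Spec R with S₀ = Spec (R/J) for an ideal J of square zero: for an arbitrary
S-scheme X, every S-endomorphism of X inducing the identity on X ×_S S₀ is an automorphism. (The
published statement is over an arbitrary base scheme with a quasi-coherent ideal of square zero;
this row is its case of an affine base, to which it reduces since being an isomorphism is local on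
the base.) -/
theorem result (R : Type u) [CommRing R] (J : Ideal R) (hJ : J * J = ⊥)
    (X : Over (Spec (CommRingCat.of R))) (u : X ⟶ X)
    (h : (Over.pullback (Spec.map (CommRingCat.ofHom (Ideal.Quotient.mk J)))).map u = 𝟙 _) :
    IsIso u := by
  let i : Spec (CommRingCat.of (R ⧸ J)) ⟶ Spec (CommRingCat.of R) :=
    Spec.map (CommRingCat.ofHom (Ideal.Quotient.mk J))
  haveI : IsClosedImmersion i := IsClosedImmersion.spec_of_surjective _ Ideal.Quotient.mk_surjective
  haveI : Surjective i := by
    refine ⟨fun x => ?_⟩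
    have hxJ : x ∈ PrimeSpectrum.zeroLocus (J : Set R) := by
      intro r hr
      refine x.isPrime.mem_of_pow_mem 2 ?_
      have h0 : r ^ 2 = 0 := by
        rw [← Ideal.mem_bot, ← hJ, pow_two]; exact Ideal.mul_mem_mul hr hr
      rw [h0]; exact zero_mem _
    obtain ⟨y, hy⟩ : x ∈ Set.range (PrimeSpectrum.comap (Ideal.Quotient.mk J)) := by
      rw [range_comap_of_surjective _ _ Ideal.Quotient.mk_surjective, Ideal.mk_ker]; exact hxJ
    exact ⟨y, hy⟩
  let j := pullback.fst X.hom i
  haveI : Surjective j := MorphismProperty.pullback_fst _ _ inferInstance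
  have hj : j ≫ u.left = j := by
    have h1 := congr(($h).left ≫ pullback.fst X.hom i)
    simp [Over.pullback] at h1
    exact (pullback.lift_fst _ _ _).symm.trans h1
  have hb : ∀ x, u.left x = x := fun x => by
    obtain ⟨y, rfl⟩ := j.surjective x
    rw [← Scheme.Hom.comp_apply, hj]
  haveI : IsIso u.left := by
    refine (IsZariskiLocalAtTarget.iff_of_iSup_eq_top (P := MorphismProperty.isomorphisms Scheme)
      (fun V : X.left.affineOpens => (V : X.left.Opens)) (iSup_affineOpens_eq_top _)).mpr ?_
    rintro ⟨V, (hV : IsAffineOpen V)⟩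
    have hpre : u.left ⁻¹ᵁ V = V := by ext x; show u.left x ∈ V ↔ x ∈ V; rw [hb]
    obtain ⟨φ, hφ⟩ := Spec.map_surjective (hV.fromSpec ≫ X.hom)
    let σ := u.left.appLE V V hpre.ge
    have hσ : Spec.map σ ≫ hV.fromSpec = hV.fromSpec ≫ u.left :=
      IsAffineOpen.SpecMap_appLE_fromSpec u.left hV hV hpre.ge
    have hρ : φ ≫ σ = φ := by
      apply Spec.map_injective
      rw [Spec.map_comp, hφ, reassoc_of% hσ, Over.w u]
    have hbij : Function.Bijective σ.hom := by
      refine H19Grp.bijective_of_sub_mem φ.hom J hJ σ.hom (congrArg CommRingCat.Hom.hom hρ)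
        fun a => ?_
      let I := J.map φ.hom
      let q : Spec (CommRingCat.of (Γ(X.left, V) ⧸ I)) ⟶ X.left :=
        Spec.map (CommRingCat.ofHom (Ideal.Quotient.mk I)) ≫ hV.fromSpec
      let b : R ⧸ J →+* Γ(X.left, V) ⧸ I := Ideal.quotientMap I φ.hom Ideal.le_comap_map
      have hq : q ≫ X.hom = Spec.map (CommRingCat.ofHom b) ≫ i := by
        simp only [q, i, Category.assoc, ← hφ, ← Spec.map_comp]
        rfl
      have hqu : q ≫ u.left = q := by
        have : q = pullback.lift q _ hq ≫ j := (pullback.lift_fst _ _ _).symm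
        rw [this, Category.assoc, hj]
      have h2 : Spec.map (CommRingCat.ofHom (Ideal.Quotient.mk I)) ≫ Spec.map σ =
          Spec.map (CommRingCat.ofHom (Ideal.Quotient.mk I)) := by
        rw [← cancel_mono hV.fromSpec, Category.assoc, hσ]
        simpa only [q, Category.assoc] using hqu
      rw [← Spec.map_comp] at h2
      have h3 := ConcreteCategory.congr_hom (Spec.map_injective h2) a
      exact Ideal.Quotient.eq.mp h3
    haveI : IsIso σ := (ConcreteCategory.isIso_iff_bijective σ).mpr hbij
    let e : ↑(u.left ⁻¹ᵁ V) ⟶ (V : Scheme.{u}) :=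
      (X.left.isoOfEq hpre).hom ≫ hV.isoSpec.hom ≫ Spec.map σ ≫ hV.isoSpec.inv
    have he : u.left ∣_ V = e := by
      rw [← cancel_mono V.ι, morphismRestrict_ι]
      simp only [e, Category.assoc, IsAffineOpen.isoSpec_inv_ι]
      rw [hσ, reassoc_of% hV.isoSpec_hom_fromSpec]
      exact (Scheme.isoOfEq_hom_ι_assoc _ hpre u.left).symm
    show IsIso _
    rw [he]
    infer_instance
  haveI : IsIso ((Over.forget _).map u) := ‹IsIso u.left›
  exact isIso_of_reflects_iso u (Over.forget _)

end Groth.Agent.S8362
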