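import Groth.Statements.S8364
import Groth.Agent.H19Grp.SquareZero

set_option autoImplicit false
universe u
open SGA3

namespace Groth.Agent.S8364

/-- For a commutative ring R, an ideal J of R of square zero, a smooth R-algebra A and the extended
ideal I = J·A, every R-algebra automorphism of A/I lifts to an R-algebra automorphism of A. (The
published statement concerns the automorphism functor of a smooth affine S-scheme E and affine test
schemes Y; this row is the case Y = S = Spec R, E = Spec A, which gives the general one after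
replacing R by the ring of Y.) -/
theorem result (R A : Type u) [CommRing R] [CommRing A] [Algebra R A]
    [Algebra.Smooth R A] (J : Ideal R) (hJ : J * J = ⊥)
    (φ₀ : (A ⧸ Ideal.map (algebraMap R A) J) ≃ₐ[R] (A ⧸ Ideal.map (algebraMap R A) J)) :
    ∃ φ : A ≃ₐ[R] A,
      (Ideal.Quotient.mkₐ R (Ideal.map (algebraMap R A) J)).comp φ.toAlgHom =
        φ₀.toAlgHom.comp (Ideal.Quotient.mkₐ R (Ideal.map (algebraMap R A) J)) := by
  let I := Ideal.map (algebraMap R A) J
  have hI : I = Ideal.map (algebraMap R A) J := rfl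
  have hI2 : IsNilpotent I := ⟨2, by
    rw [pow_two, hI, ← Ideal.map_mul, hJ, Ideal.map_bot, Ideal.zero_eq_bot]⟩
  let π : A →ₐ[R] A ⧸ I := Ideal.Quotient.mkₐ R I
  have mk_lift : ∀ e : (A ⧸ I) ≃ₐ[R] (A ⧸ I), ∃ φ : A →ₐ[R] A, ∀ a, π (φ a) = e (π a) :=
    fun e => ⟨Algebra.FormallySmooth.lift I hI2 (e.toAlgHom.comp π),
      fun a => Algebra.FormallySmooth.mk_lift I hI2 (e.toAlgHom.comp π) a⟩
  obtain ⟨φ, hφ⟩ := mk_lift φ₀
  obtain ⟨ψ, hψ⟩ := mk_lift φ₀.symm
  have hb : ∀ (f g : A →ₐ[R] A) (e : (A ⧸ I) ≃ₐ[R] (A ⧸ I)), (∀ a, π (f a) = e (π a)) →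
      (∀ a, π (g a) = e.symm (π a)) → Function.Bijective (g ∘ f) := by
    intro f g e hf hg
    refine Groth.Agent.H19Grp.bijective_of_sub_mem (algebraMap R A) J hJ (g.comp f).toRingHom
      (RingHom.ext fun r => (g.comp f).commutes r) fun a => ?_
    rw [← Ideal.Quotient.eq]
    show π (g (f a)) = π a
    rw [hg, hf, AlgEquiv.symm_apply_apply]
  have hbij : Function.Bijective φ :=
    ⟨((hb φ ψ φ₀ hφ hψ).1).of_comp, ((hb ψ φ φ₀.symm hψ (by simpa using hφ)).2).of_comp⟩
  exact ⟨AlgEquiv.ofBijective φ hbij, AlgHom.ext fun a => hφ a⟩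

end Groth.Agent.S8364
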