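import Groth.Statements.S8366
import Groth.Agent.H19Grp.NilIso

set_option autoImplicit false
set_option maxHeartbeats 1000000
set_option synthInstance.maxHeartbeats 100000
set_option linter.style.haveILetI false
set_option backward.isDefEq.respectTransparency false
universe u
open CategoryTheory MonoidalCategory MonObj AlgebraicGeometry
open SGA3

namespace Groth.Agent.S8366

open CategoryTheory.Limits MonoidalCategory CartesianMonoidalCategory MonObj Groth.Agent.H19Grp.NilIso in
theorem grp_of_mod_nilpotent (R : Type u) [CommRing R] (I : Ideal R)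
    (hI : IsNilpotent I) (X : Over (Spec (CommRingCat.of R))) [Flat X.hom]
    (hX : QuasiCompact X.hom ∨ LocallyOfFinitePresentation X.hom) (P : X ⊗ X ⟶ X)
    (hassoc : (P ▷ X) ≫ P = (α_ X X X).hom ≫ (X ◁ P) ≫ P)
    (h0 : ∃ _ : GrpObj ((Over.pullback (thick I)).obj X),
      μ[(Over.pullback (thick I)).obj X] =
        Functor.LaxMonoidal.μ (Over.pullback (thick I)) X X ≫ (Over.pullback (thick I)).map P) :
    ∃ _ : GrpObj X, μ[X] = P := by
  obtain ⟨inst, hμ⟩ := h0
  letI := inst
  let F := Over.pullback (thick I)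
  have hFP : ∀ {T : Over (Spec (CommRingCat.of (R ⧸ I)))} (t : T ⟶ F.obj (X ⊗ X)),
      t ≫ F.map P = (t ≫ F.map (fst X X)) * (t ≫ F.map (snd X X)) := by
    intro T t
    have h1 : F.map P = Functor.OplaxMonoidal.δ F X X ≫ μ[F.obj X] := by
      rw [hμ, ← Category.assoc, Functor.Monoidal.δ_μ, Category.id_comp]
    rw [h1, Hom.mul_def, ← Category.assoc]
    congr 1
    apply CartesianMonoidalCategory.hom_ext <;> simp
  -- the shears
  let l : X ⊗ X ⟶ X ⊗ X := lift (fst X X) P
  let r : X ⊗ X ⟶ X ⊗ X := lift P (snd X X)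
  have hsplit : ∀ {T : Over (Spec (CommRingCat.of (R ⧸ I)))} (t t' : T ⟶ F.obj (X ⊗ X)),
      t ≫ F.map (fst X X) = t' ≫ F.map (fst X X) → t ≫ F.map (snd X X) = t' ≫ F.map (snd X X) → t = t' := by
    intro T t t' h1 h2
    rw [← cancel_mono (Functor.OplaxMonoidal.δ F X X)]
    apply CartesianMonoidalCategory.hom_ext
    · simpa using h1
    · simpa using h2
  have hbuild : ∀ {T : Over (Spec (CommRingCat.of (R ⧸ I)))} (a b : T ⟶ F.obj X),
      ∃ t : T ⟶ F.obj (X ⊗ X), t ≫ F.map (fst X X) = a ∧ t ≫ F.map (snd X X) = b := fun a b =>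
    ⟨lift a b ≫ Functor.LaxMonoidal.μ F X X, by simp, by simp⟩
  haveI hl0 : IsIso (F.map l) := by
    rw [isIso_iff_yoneda_map_bijective]
    intro T
    have e1 : F.map l ≫ F.map (fst X X) = F.map (fst X X) := by rw [← F.map_comp, lift_fst]
    have e2 : F.map l ≫ F.map (snd X X) = F.map P := by rw [← F.map_comp, lift_snd]
    refine ⟨fun t t' h => ?_, fun t => ?_⟩
    · have h1 := congrArg (· ≫ F.map (fst X X)) h
      have h2 := congrArg (· ≫ F.map (snd X X)) h
      simp only [Category.assoc, e1, e2, hFP] at h1 h2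
      rw [h1] at h2
      exact hsplit _ _ h1 (mul_left_cancel h2)
    · obtain ⟨s, hs1, hs2⟩ := hbuild (t ≫ F.map (fst X X))
        ((t ≫ F.map (fst X X))⁻¹ * (t ≫ F.map (snd X X)))
      refine ⟨s, hsplit _ _ ?_ ?_⟩
      · simp only [Category.assoc, e1, hs1]
      · simp only [Category.assoc, e2, hFP, hs1, hs2, mul_inv_cancel_left]
  haveI hr0 : IsIso (F.map r) := by
    rw [isIso_iff_yoneda_map_bijective]
    intro T
    have e1 : F.map r ≫ F.map (fst X X) = F.map P := by rw [← F.map_comp, lift_fst]
    have e2 : F.map r ≫ F.map (snd X X) = F.map (snd X X) := by rw [← F.map_comp, lift_snd]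
    refine ⟨fun t t' h => ?_, fun t => ?_⟩
    · have h1 := congrArg (· ≫ F.map (fst X X)) h
      have h2 := congrArg (· ≫ F.map (snd X X)) h
      simp only [Category.assoc, e1, e2, hFP] at h1 h2
      rw [h2] at h1
      exact hsplit _ _ (mul_right_cancel h1) h2
    · obtain ⟨s, hs1, hs2⟩ := hbuild ((t ≫ F.map (fst X X)) * (t ≫ F.map (snd X X))⁻¹)
        (t ≫ F.map (snd X X))
      refine ⟨s, hsplit _ _ ?_ ?_⟩
      · simp only [Category.assoc, e1, hFP, hs1, hs2, inv_mul_cancel_right]
      · simp only [Category.assoc, e2, hs2]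
  haveI : Flat (X ⊗ X).hom := inferInstanceAs (Flat (pullback.fst X.hom X.hom ≫ X.hom))
  haveI := isIso_of_isIso_mod I hI l
  haveI := isIso_of_isIso_mod I hI r
  -- multiplication of points
  let m : ∀ {T : Over (Spec (CommRingCat.of R))}, (T ⟶ X) → (T ⟶ X) → (T ⟶ X) := fun a b => lift a b ≫ P
  have massoc : ∀ {T : Over (Spec (CommRingCat.of R))} (a b c : T ⟶ X), m (m a b) c = m a (m b c) := by
    intro T a b c
    have h := congrArg (lift (lift a b) c ≫ ·) hassoc
    simpa [m, ← Category.assoc, lift_whiskerRight, lift_whiskerLeft] using h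
  have lcancel : ∀ {T : Over (Spec (CommRingCat.of R))} (a b b' : T ⟶ X), m a b = m a b' → b = b' := by
    intro T a b b' h
    have h1 : lift a b ≫ l = lift a b' ≫ l := by
      simp only [l, comp_lift, lift_fst]
      exact congrArg (lift a) h
    simpa using congrArg (· ≫ snd X X) ((cancel_mono l).1 h1)
  have rcancel : ∀ {T : Over (Spec (CommRingCat.of R))} (a a' b : T ⟶ X), m a b = m a' b → a = a' := by
    intro T a a' b h
    have h1 : lift a b ≫ r = lift a' b ≫ r := by
      simp only [r, comp_lift, lift_snd]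
      exact congrArg (fun z => lift z b) h
    simpa using congrArg (· ≫ fst X X) ((cancel_mono r).1 h1)
  have ldiv : ∀ {T : Over (Spec (CommRingCat.of R))} (a c : T ⟶ X), ∃ b, m a b = c := by
    intro T a c
    refine ⟨lift a c ≫ inv l ≫ snd X X, ?_⟩
    have h2 : (lift a c ≫ inv l) ≫ fst X X = a := by
      have : inv l ≫ fst X X = fst X X := by rw [IsIso.inv_comp_eq, lift_fst]
      rw [Category.assoc, this, lift_fst]
    show lift a (lift a c ≫ inv l ≫ snd X X) ≫ P = c
    have h4 : lift a (lift a c ≫ inv l ≫ snd X X) = lift a c ≫ inv l := by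
      apply CartesianMonoidalCategory.hom_ext
      · rw [lift_fst]; exact h2.symm
      · rw [lift_snd, Category.assoc]
    have h3 : inv l ≫ P = snd X X := by rw [IsIso.inv_comp_eq, lift_snd]
    rw [h4]
    rw [Category.assoc, h3, lift_snd]
  obtain ⟨e', he'⟩ := ldiv (𝟙 X) (𝟙 X)
  have hre : ∀ {T : Over (Spec (CommRingCat.of R))} (a : T ⟶ X), m a (a ≫ e') = a := by
    intro T a
    have h := congrArg (a ≫ ·) he'
    dsimp only [m] at h ⊢
    rwa [← Category.assoc, comp_lift, Category.comp_id] at h
  have hel : ∀ {T : Over (Spec (CommRingCat.of R))} (a b : T ⟶ X), m (a ≫ e') b = b := fun a b =>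
    lcancel a _ _ (by rw [← massoc, hre])
  have hconst : ∀ {T : Over (Spec (CommRingCat.of R))} (p q : T ⟶ X), p ≫ e' = q ≫ e' := fun p q =>
    rcancel _ _ p ((hel p p).trans (hel q p).symm)
  -- descend e' to the base
  haveI : Surjective X.hom := ⟨fun y => by
    let x₀ := η[F.obj X].left ≫ pullback.fst X.hom (thick I)
    haveI : Surjective (thick I) := ⟨fun p => by
      obtain ⟨n, hn⟩ := hI
      have hle : I ≤ p.asIdeal := fun x hx => p.2.mem_of_pow_mem n (by
        have := Ideal.pow_mem_pow hx n
        rw [hn] at this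
        rw [show x ^ n = 0 from this]
        exact zero_mem _)
      have hp : p ∈ Set.range (PrimeSpectrum.comap (Ideal.Quotient.mk I)) := by
        rw [range_comap_of_surjective _ _ Ideal.Quotient.mk_surjective, PrimeSpectrum.mem_zeroLocus,
          Ideal.mk_ker]
        exact hle
      exact hp⟩
    obtain ⟨y₀, rfl⟩ := (thick I).surjective y
    refine ⟨x₀ y₀, ?_⟩
    have : x₀ ≫ X.hom = thick I := by
      show (η[F.obj X].left ≫ pullback.fst X.hom (thick I)) ≫ X.hom = thick I
      rw [Category.assoc, pullback.condition, ← Category.assoc]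
      exact (congrArg (· ≫ thick I) (Over.w η[F.obj X])).trans (Category.id_comp _)
    rw [← Scheme.Hom.comp_apply, this]
    rfl⟩
  haveI : EffectiveEpi X.hom := by
    rcases hX with h | h
    · haveI := h; infer_instance
    · haveI := h; infer_instance
  have hcond : ∀ {W : Scheme.{u}} (g₁ g₂ : W ⟶ X.left), g₁ ≫ X.hom = g₂ ≫ X.hom →
      g₁ ≫ e'.left = g₂ ≫ e'.left := fun g₁ g₂ hg =>
    congrArg CommaMorphism.left (hconst (T := Over.mk (g₁ ≫ X.hom)) (Over.homMk g₁ rfl) (Over.homMk g₂ hg.symm))
  let e₀ := EffectiveEpi.desc X.hom e'.left hcond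
  have he₀ : X.hom ≫ e₀ = e'.left := EffectiveEpi.fac X.hom e'.left hcond
  let e : 𝟙_ (Over (Spec (CommRingCat.of R))) ⟶ X := Over.homMk e₀ (by
    haveI : Epi X.hom := inferInstance
    rw [← cancel_epi X.hom, reassoc_of% he₀, Over.w e']
    exact (Category.comp_id _).symm)
  have hee : e' = toUnit X ≫ e := Over.OverMorphism.ext he₀.symm
  have hone : ∀ {T : Over (Spec (CommRingCat.of R))} (a : T ⟶ X), a ≫ e' = toUnit T ≫ e := fun a => by
    rw [hee, ← Category.assoc, toUnit_unique (a ≫ toUnit X) (toUnit _)]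
  letI instM : MonObj X :=
    { one := e
      mul := P
      one_mul := by
        have h := hel (snd (𝟙_ _) X) (snd (𝟙_ _) X)
        rw [hone] at h
        rw [leftUnitor_hom]
        refine Eq.trans ?_ h
        show _ = lift _ _ ≫ P
        congr 1
      mul_one := by
        have h := hre (fst X (𝟙_ _))
        rw [hone] at h
        rw [rightUnitor_hom]
        refine Eq.trans ?_ h
        show _ = lift _ _ ≫ P
        congr 1
        apply CartesianMonoidalCategory.hom_ext
        · simp
        · simp [toUnit_unique (toUnit (X ⊗ 𝟙_ _)) (snd X _)]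
      mul_assoc := hassoc }
  obtain ⟨iv, hiv⟩ := ldiv (𝟙 X) (toUnit X ≫ e)
  refine ⟨{ instM with inv := iv, left_inv := ?_, right_inv := hiv }, rfl⟩
  show m iv (𝟙 X) = toUnit X ≫ e
  apply lcancel (𝟙 X)
  rw [← massoc, hiv, ← hone (𝟙 X), hel, hre]


/-- Over an affine base S = Spec R with S₀ = Spec (R/I) for a nilpotent ideal I: let X be an S-scheme
which is flat and either quasi-compact or locally of finite presentation over S, and P : X ×_S X → X
a composition law. If P is associative and its base change to S₀ is the multiplication of some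
group-scheme structure on X ×_S S₀, then P is the multiplication of a group-scheme structure on X.
(The published statement is over an arbitrary base scheme with S₀ defined by a nilpotent
quasi-coherent ideal; this row is its case of an affine base.) -/
theorem result (R : Type u) [CommRing R] (I : Ideal R)
    (hI : IsNilpotent I) (X : Over (Spec (CommRingCat.of R))) [Flat X.hom]
    (hX : QuasiCompact X.hom ∨ LocallyOfFinitePresentation X.hom) (P : X ⊗ X ⟶ X)
    (hassoc : (P ▷ X) ≫ P = (α_ X X X).hom ≫ (X ◁ P) ≫ P)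
    (h0 : ∃ _ : GrpObj ((Over.pullback (Spec.map (CommRingCat.ofHom (Ideal.Quotient.mk I)))).obj X),
      μ[(Over.pullback (Spec.map (CommRingCat.ofHom (Ideal.Quotient.mk I)))).obj X] =
        Functor.LaxMonoidal.μ (Over.pullback (Spec.map (CommRingCat.ofHom (Ideal.Quotient.mk I)))) X X ≫ (Over.pullback (Spec.map (CommRingCat.ofHom (Ideal.Quotient.mk I)))).map P) :
    ∃ _ : GrpObj X, μ[X] = P := by
  exact grp_of_mod_nilpotent R I hI X hX P hassoc h0

end Groth.Agent.S8366
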