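import Groth.Statements.S8367
import Groth.Agent.H19Grp.GroupCI
import Groth.Agent.H13CI.FibreImmScheme
import Groth.Agent.S8855
import Groth.Agent.H26Base.FibreReg

set_option autoImplicit false
set_option maxHeartbeats 1000000
set_option synthInstance.maxHeartbeats 100000
set_option linter.style.haveILetI false
set_option backward.isDefEq.respectTransparency false
universe u
open CategoryTheory MonObj AlgebraicGeometry
open SGA3

namespace Groth.Agent.S8367

open CategoryTheory Limits AlgebraicGeometry in
theorem main {S : Scheme.{u}} (X Y : Over S) [GrpObj Y] [Smooth X.hom] [Flat Y.hom]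
    [LocallyOfFinitePresentation Y.hom] (i : Y ⟶ X) [IsImmersion i.left] :
    RegImm.IsRegularImmersion .regular i.left := by
  refine ⟨inferInstance, fun z => ?_⟩
  let W := i.left.coborderRange
  let j : Y.left ⟶ (W : Scheme.{u}) := i.left.liftCoborder
  have hji : j ≫ W.ι = i.left := i.left.liftCoborder_ι
  let g : (W : Scheme.{u}) ⟶ S := W.ι ≫ X.hom
  have hjg : j ≫ g = Y.hom := by rw [← Over.w i, ← hji, Category.assoc]
  haveI : Flat (j ≫ g) := hjg ▸ inferInstance
  haveI : LocallyOfFinitePresentation (j ≫ g) := hjg ▸ inferInstance
  haveI : Smooth (g.fiberToSpecResidueField (g (j z))) := MorphismProperty.pullback_snd _ _ inferInstance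
  haveI : IsRegularLocalRing (CInt.fiberStalk g (j z)) :=
    H19Grp.isRegularLocalRing_stalk_of_smooth (k := S.residueField (g (j z)))
      (g.fiberToSpecResidueField (g (j z))) (g.asFiber (j z))
  haveI : LocallyOfFiniteType Y.hom := inferInstance
  have hCI : Pi1.IsCompleteIntersection (CInt.fiberStalk (j ≫ g) z) := by
    rw [hjg]
    exact H19Grp.GroupCI.isCI_fiberStalk Y z
  obtain ⟨V, hzV, -, hreg⟩ := (H13CI.FibreImm.regularNear_iff_isCI g j z).mpr hCI
  obtain ⟨U, hU, hzU, rs, hrs, hker⟩ := hreg ⟨z, hzV⟩
  rw [← hji]
  refine S8855.regularAt_of_open W j (V.ι ''ᵁ U) (hU.image_of_isOpenImmersion V.ι) z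
    ⟨_, hzU, morphismRestrict_base_coe j V ⟨z, hzV⟩⟩ rs hrs ?_
  refine Eq.trans ?_ hker
  rw [Scheme.Hom.ker_apply, morphismRestrict_app]
  ext a
  show (j.app (V.ι ''ᵁ U)).hom a = 0 ↔ (Y.left.presheaf.map _).hom ((j.app (V.ι ''ᵁ U)).hom a) = 0
  exact (map_eq_zero_iff _ (ConcreteCategory.bijective_of_isIso _).1).symm


/-- For a scheme S, a group scheme X smooth over S and a sub-group-scheme Y of X (a homomorphism of
S-group schemes from Y to X which is an immersion) with Y flat and locally of finite presentation
over S, the immersion of Y in X is regular: each point of Y has an affine open neighbourhood in X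
over which the immersion is closed and cut out by a regular sequence. (The published statement
concludes that Y is a local complete intersection in X, in the Koszul sense; this row states the
stronger conclusion that the immersion is regular, which is what the printed proof establishes.) -/
theorem result (S : Scheme.{u}) (X Y : Over S) [GrpObj X] [GrpObj Y]
    [Smooth X.hom] [Flat Y.hom] [LocallyOfFinitePresentation Y.hom] (i : Y ⟶ X) [IsMonHom i]
    [IsImmersion i.left] :
    RegImm.IsRegularImmersion .regular i.left := by
  exact main X Y i

end Groth.Agent.S8367
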