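import Groth.Statements.S8368
import Groth.Agent.H17.KoszulBC
import Groth.Agent.H19Grp.KoszulSqZero

set_option autoImplicit false
set_option maxHeartbeats 1000000
set_option synthInstance.maxHeartbeats 100000
set_option linter.style.haveILetI false
set_option backward.isDefEq.respectTransparency false
universe u
open SGA3

namespace Groth.Agent.S8368

open CategoryTheory TensorProduct in
theorem main {A B : Type u} [CommRing A] [CommRing B] [Algebra A B] [Module.Flat A B] (J : Ideal A)
    (hJ : J * J = ⊥) (rs : List B)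
    (hreg : LCI.IsKoszulRegularSeq (B ⧸ Ideal.map (algebraMap A B) J)
      (rs.map (Ideal.Quotient.mk (Ideal.map (algebraMap A B) J))))
    (hflat : Module.Flat (A ⧸ J) ((B ⧸ Ideal.map (algebraMap A B) J) ⧸
      Ideal.ofList (rs.map (Ideal.Quotient.mk (Ideal.map (algebraMap A B) J))))) :
    LCI.IsKoszulRegularSeq B rs ∧ Module.Flat A (B ⧸ Ideal.ofList rs) := by
  set JB := Ideal.map (algebraMap A B) J
  let B₀ := B ⧸ JB
  let K := Koszul.koszul B rs
  obtain ⟨e, he⟩ := H17.KoszulBC.exists_equiv B₀ rs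
  letI instA : ∀ i, Module A (K.X i) := fun i => Module.compHom _ (algebraMap A B)
  haveI instT : ∀ i, IsScalarTower A B (K.X i) := fun i => IsScalarTower.of_algebraMap_smul fun _ _ => rfl
  haveI hKfl : ∀ i, Module.Flat A (K.X i) := fun i => by
    haveI := (H8Props.PseudoCoh.koszul_finite_free rs i).2
    exact Module.Flat.trans A B _
  have hJJ : ∀ a ∈ J, ∀ b ∈ J, a * b = 0 := fun a ha b hb => by
    have h := Ideal.mul_mem_mul ha hb
    rwa [hJ, Ideal.mem_bot] at h
  have hnil : IsNilpotent J := ⟨2, by rw [pow_two, hJ]; rfl⟩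
  let d : ∀ i j, K.X i →ₗ[A] K.X j := fun i j => (K.d i j).hom.restrictScalars A
  have hdd : ∀ i j k x, d j k (d i j x) = 0 := fun i j k x => by
    show ((K.d i j) ≫ K.d j k).hom x = 0
    rw [K.d_comp_d]; rfl
  have hker : ∀ i (x : K.X i), (1 : B₀) ⊗ₜ[B] x = 0 ↔ x ∈ J • (⊤ : Submodule A (K.X i)) := by
    intro i x
    rw [← (TensorProduct.quotTensorEquivQuotSMul (K.X i) JB).map_eq_zero_iff]
    rw [show (1 : B₀) = Ideal.Quotient.mk JB 1 from rfl, TensorProduct.quotTensorEquivQuotSMul_mk_tmul, one_smul,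
      Submodule.Quotient.mk_eq_zero]
    rw [← Submodule.restrictScalars_mem A, Ideal.smul_restrictScalars, Submodule.restrictScalars_top]
  have hsurj : ∀ i (z : B₀ ⊗[B] K.X i), ∃ x, (1 : B₀) ⊗ₜ[B] x = z := by
    intro i z
    induction z using TensorProduct.induction_on with
    | zero => exact ⟨0, TensorProduct.tmul_zero _ _⟩
    | add a b ha hb =>
      obtain ⟨x, rfl⟩ := ha
      obtain ⟨y, rfl⟩ := hb
      exact ⟨x + y, TensorProduct.tmul_add _ _ _⟩
    | tmul b x =>
      obtain ⟨b, rfl⟩ := Ideal.Quotient.mk_surjective b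
      refine ⟨b • x, ?_⟩
      rw [← TensorProduct.smul_tmul]
      congr 1
      show Ideal.Quotient.mk JB (b • 1) = _
      rw [smul_eq_mul, mul_one]
  have hmod : ∀ h i j, h + 1 = i → i + 1 = j → i ≠ 0 → ∀ m, d i j m ∈ J • (⊤ : Submodule A (K.X j)) →
      m ∈ LinearMap.range (d h i) ⊔ J • (⊤ : Submodule A (K.X i)) := by
    intro h i j hhi hij hi m hm
    have h0 : (Koszul.koszul B₀ (rs.map (algebraMap B B₀))).d i j (e i (1 ⊗ₜ m)) = 0 := by
      rw [he i j hij, LinearMap.baseChange_tmul]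
      exact (congrArg (e j) ((hker j _).2 hm)).trans (map_zero _)
    obtain ⟨w', hw'⟩ := H29Slice.exists_preimage_of_isZero_homology _ h i j hhi hij (hreg i hi) _ h0
    obtain ⟨z, rfl⟩ := (e h).surjective w'
    obtain ⟨w, rfl⟩ := hsurj h z
    have h2 : (1 : B₀) ⊗ₜ[B] d h i w = 1 ⊗ₜ m := (e i).injective ((he h i hhi (1 ⊗ₜ w)).symm.trans hw')
    have h1 : m - d h i w ∈ J • (⊤ : Submodule A (K.X i)) := by
      rw [← hker, TensorProduct.tmul_sub, sub_eq_zero]
      exact h2.symm
    exact Submodule.mem_sup.2 ⟨_, ⟨w, rfl⟩, _, h1, add_sub_cancel _ _⟩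
  obtain ⟨ε, hε⟩ := H8Props.PseudoCoh.koszul_zero rs
  have hrange : LinearMap.range (d (-1) 0) = (Submodule.comap ε.toLinearMap (Ideal.ofList rs)).restrictScalars A := by
    ext x
    rw [Submodule.restrictScalars_mem, Submodule.mem_comap, ← hε]
    exact ⟨fun hx => ⟨x, hx, rfl⟩, fun ⟨y, hy, hyx⟩ => ε.injective hyx ▸ hy⟩
  let q : (K.X 0 ⧸ LinearMap.range (d (-1) 0)) ≃ₗ[A] B ⧸ Ideal.ofList rs :=
    (Submodule.Quotient.equiv _ ((Ideal.ofList rs).restrictScalars A) (ε.restrictScalars A) (by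
      rw [hrange]
      ext b
      rw [Submodule.mem_map_equiv]
      show ε (ε.symm b) ∈ Ideal.ofList rs ↔ _
      rw [ε.apply_symm_apply]; rfl)).trans (Submodule.Quotient.restrictScalarsEquiv A _)
  haveI hQ0 : Module.Flat (A ⧸ J) ((A ⧸ J) ⊗[A] (B ⧸ Ideal.ofList rs)) := by
    haveI := hflat
    let T := (B ⧸ JB) ⧸ Ideal.ofList (rs.map (Ideal.Quotient.mk JB))
    have hle : Ideal.ofList rs ≤ RingHom.ker ((Ideal.Quotient.mk (Ideal.ofList (rs.map (Ideal.Quotient.mk JB)))).comp
        (Ideal.Quotient.mk JB)) := by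
      intro x hx
      rw [RingHom.mem_ker, RingHom.comp_apply, Ideal.Quotient.eq_zero_iff_mem, ← Ideal.map_ofList]
      exact Ideal.mem_map_of_mem _ hx
    let r : (B ⧸ Ideal.ofList rs) →ₗ[A] T :=
      { toFun := Ideal.Quotient.lift _ _ hle
        map_add' := map_add _
        map_smul' := fun a x => by
          obtain ⟨x, rfl⟩ := Ideal.Quotient.mk_surjective x
          rfl }
    refine Module.Flat.of_linearEquiv (M := T) (LinearEquiv.ofBijective (r.liftBaseChange (A ⧸ J)) ⟨?_, ?_⟩)
    · rw [injective_iff_map_eq_zero]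
      intro z hz
      obtain ⟨y, rfl⟩ := (TensorProduct.quotTensorEquivQuotSMul (B ⧸ Ideal.ofList rs) J).symm.surjective z
      obtain ⟨y, rfl⟩ := Submodule.Quotient.mk_surjective _ y
      obtain ⟨b, rfl⟩ := Ideal.Quotient.mk_surjective y
      rw [TensorProduct.quotTensorEquivQuotSMul_symm_mk] at hz ⊢
      rw [LinearMap.liftBaseChange_tmul, one_smul] at hz
      replace hz : Ideal.Quotient.mk JB b ∈ (Ideal.ofList rs).map (Ideal.Quotient.mk JB) := by
        rw [Ideal.map_ofList]; exact Ideal.Quotient.eq_zero_iff_mem.1 hz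
      rw [← Ideal.mem_comap, Ideal.comap_map_of_surjective' _ Ideal.Quotient.mk_surjective, Ideal.mk_ker] at hz
      obtain ⟨b₁, hb₁, b₂, hb₂, rfl⟩ := Submodule.mem_sup.1 hz
      rw [← TensorProduct.quotTensorEquivQuotSMul_symm_mk, LinearEquiv.map_eq_zero_iff, Submodule.Quotient.mk_eq_zero,
        map_add, Ideal.Quotient.eq_zero_iff_mem.2 hb₁, zero_add]
      rw [Ideal.smul_top_eq_map, Submodule.restrictScalars_mem]
      exact Ideal.map_map (I := J) (algebraMap A B) (Ideal.Quotient.mk (Ideal.ofList rs)) ▸ Ideal.mem_map_of_mem _ hb₂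
    · intro t
      obtain ⟨t, rfl⟩ := Ideal.Quotient.mk_surjective t
      obtain ⟨b, rfl⟩ := Ideal.Quotient.mk_surjective t
      exact ⟨1 ⊗ₜ Ideal.Quotient.mk _ b, (LinearMap.liftBaseChange_tmul _ _ _ _).trans (one_smul _ _)⟩
  have hbase : Module.Flat A (K.X 0 ⧸ LinearMap.range (d (-1) 0)) := by
    haveI : Module.Flat (A ⧸ J) ((A ⧸ J) ⊗[A] (K.X 0 ⧸ LinearMap.range (d (-1) 0))) :=
      Module.Flat.of_linearEquiv (LinearEquiv.baseChange A (A ⧸ J) _ _ q)
    refine H19Grp.KoszulSqZero.flat_coker J hnil _ fun p hp => ?_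
    obtain ⟨_, ⟨w, rfl⟩, p', hp', rfl⟩ := Submodule.mem_sup.1 (hmod (-2) (-1) 0 (by norm_num) (by norm_num) (by norm_num) p hp)
    exact ⟨p', hp', by rw [map_add, hdd, zero_add]⟩
  have key : ∀ (n : ℕ) (h i : ℤ), h + 1 = i → i = -(n : ℤ) → Module.Flat A (K.X i ⧸ LinearMap.range (d h i)) := by
    intro n
    induction n with
    | zero =>
      intro h i hhi hi
      obtain rfl : i = 0 := by omega
      obtain rfl : h = -1 := by omega
      exact hbase
    | succ n ih =>
      intro h i hhi hi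
      haveI := ih i (i + 1) rfl (by omega)
      exact (H19Grp.KoszulSqZero.step J hJJ (d h i) (d i (i + 1)) (hdd _ _ _)
        (hmod h i (i + 1) hhi rfl (by omega))).2
  refine ⟨fun i hi => ?_, haveI := hbase; Module.Flat.of_linearEquiv q.symm⟩
  rcases lt_or_gt_of_ne hi with h | h
  · haveI := key (-(i + 1)).toNat i (i + 1) rfl (by omega)
    have hex := (H19Grp.KoszulSqZero.step J hJJ (d (i - 1) i) (d i (i + 1)) (hdd _ _ _)
        (hmod (i - 1) i (i + 1) (by omega) rfl (by omega))).1
    rw [← HomologicalComplex.exactAt_iff_isZero_homology,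
      HomologicalComplex.exactAt_iff' _ (i - 1) i (i + 1) (by simp) (by simp), ShortComplex.moduleCat_exact_iff]
    intro x hx
    exact hex x hx
  · rw [← HomologicalComplex.exactAt_iff_isZero_homology]
    exact ShortComplex.exact_of_isZero_X₂ _ (H8Props.PseudoCoh.koszul_isZero rs i (Or.inr h))


/-- Let A be a commutative ring, J an ideal of A of square zero, B a flat A-algebra and f₁, …, f_d
elements of B (a linear map from a free B-module of rank d to B). If the reductions of the f_i to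
B/JB form a Koszul-regular sequence and the quotient of B/JB by them is flat over A/J, then f₁, …,
f_d is a Koszul-regular sequence in B and B/(f₁, …, f_d) is flat over A. -/
theorem result (A B : Type u) [CommRing A] [CommRing B] [Algebra A B]
    [Module.Flat A B] (J : Ideal A) (hJ : J * J = ⊥) (rs : List B)
    (hreg : LCI.IsKoszulRegularSeq (B ⧸ Ideal.map (algebraMap A B) J)
      (rs.map (Ideal.Quotient.mk (Ideal.map (algebraMap A B) J))))
    (hflat : Module.Flat (A ⧸ J) ((B ⧸ Ideal.map (algebraMap A B) J) ⧸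
      Ideal.ofList (rs.map (Ideal.Quotient.mk (Ideal.map (algebraMap A B) J))))) :
    LCI.IsKoszulRegularSeq B rs ∧ Module.Flat A (B ⧸ Ideal.ofList rs) := by
  exact main J hJ rs hreg hflat

end Groth.Agent.S8368
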