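import Groth.Statements.S8369
import Mathlib.RingTheory.Smooth.Quotient


set_option autoImplicit false
universe u v
open SGA3

namespace Groth.Agent.S8369

/-- Let A be a commutative ring, J a nilpotent ideal, N ⊆ M A-modules with M/N flat over A. If elements
of N have images generating the image of N in M/JM, then they generate N. (The published statement
takes finitely many elements; this row allows an arbitrary set, which the same argument permits.) -/
theorem result (A : Type u) [CommRing A] (J : Ideal A) (hJ : IsNilpotent J)
    (M : Type v) [AddCommGroup M] [Module A M] (N : Submodule A M) [Module.Flat A (M ⧸ N)] (s : Set M)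
    (hs : s ⊆ N)
    (hgen : (Submodule.span A s).map (J • (⊤ : Submodule A M)).mkQ = N.map (J • (⊤ : Submodule A M)).mkQ) :
    Submodule.span A s = N := by
  refine le_antisymm (Submodule.span_le.mpr hs) ?_
  obtain ⟨n, hn⟩ := hJ
  have h1 : N ≤ Submodule.span A s ⊔ J • (⊤ : Submodule A M) := by
    have := Submodule.le_comap_map (J • (⊤ : Submodule A M)).mkQ N
    rw [← hgen, Submodule.comap_map_mkQ, sup_comm] at this
    exact this
  have h2 : N ⊓ J • (⊤ : Submodule A M) ≤ J • N := by
    rintro x ⟨hxN, hxJ⟩
    have h := LinearMap.ker_inf_smul_top_eq_smul_of_flat J N.mkQ (Submodule.mkQ_surjective N)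
    rw [Submodule.ker_mkQ] at h
    exact h ▸ ⟨hxN, hxJ⟩
  have h3 : N ≤ Submodule.span A s ⊔ J • N := by
    intro x hx
    obtain ⟨a, ha, b, hb, rfl⟩ := Submodule.mem_sup.mp (h1 hx)
    refine Submodule.add_mem_sup ha (h2 ⟨?_, hb⟩)
    have : a ∈ N := Submodule.span_le.mpr hs ha
    simpa using N.sub_mem hx this
  have key : ∀ k : ℕ, N ≤ Submodule.span A s ⊔ J ^ k • N := by
    intro k
    induction k with
    | zero => simp
    | succ k ih =>
      calc N ≤ Submodule.span A s ⊔ J ^ k • N := ih
        _ ≤ Submodule.span A s ⊔ J ^ k • (Submodule.span A s ⊔ J • N) :=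
            sup_le_sup_left (smul_mono_right _ h3) _
        _ ≤ Submodule.span A s ⊔ J ^ (k + 1) • N := by
            rw [Submodule.smul_sup, pow_succ, Submodule.mul_smul, ← sup_assoc]
            exact sup_le_sup_right (sup_le le_rfl Submodule.smul_le_right) _
  simpa [hn] using key n

end Groth.Agent.S8369
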