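import Groth.Statements.S8370
import Groth.Agent.H20Lie.Basic

set_option autoImplicit false
universe u
open CategoryTheory MonObj AlgebraicGeometry
open LieS

namespace Groth.Agent.S8370
theorem affine_comm {S : Scheme.{u}} {G K : Over S} [GrpObj G] [GrpObj K] (i : K ⟶ G) {B : Type u} [CommRing B]
    (f : Spec (CommRingCat.of B) ⟶ S) (x : LieS.Lie G B f) {B' : Type u} [CommRing B'] (φ : DualNumber B →+* B')
    (H : ∀ (h : B →+* B') (k : LieS.pt B' (Spec.map (CommRingCat.ofHom h) ≫ f) ⟶ K),
      LieS.Ad G B' (Spec.map (CommRingCat.ofHom h) ≫ f) (k ≫ i) (LieS.pull G f h x) = LieS.pull G f h x)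
    (k : LieS.pt B' (Spec.map (CommRingCat.ofHom (φ.comp (algebraMap B (DualNumber B)))) ≫ f) ⟶ K)
    (y : LieS.pt B' (Spec.map (CommRingCat.ofHom (φ.comp (algebraMap B (DualNumber B)))) ≫ f) ⟶ LieS.dpt B f)
    (hy : y.left = Spec.map (CommRingCat.ofHom φ)) :
    (y ≫ x.1) * (k ≫ i) = (k ≫ i) * (y ≫ x.1) := by
  have hφ : φ DualNumber.eps * φ DualNumber.eps = 0 := by rw [← map_mul, LieS.eps_sq, map_zero]
  let h' := φ.comp (algebraMap B (DualNumber B))
  let f' := Spec.map (CommRingCat.ofHom h') ≫ f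
  let ψ : DualNumber B' →+* B' := LieS.dualHom (RingHom.id B') (φ DualNumber.eps) hφ
  have hψ : ψ.comp (algebraMap B' (DualNumber B')) = RingHom.id B' := LieS.dualHom_comp_algebraMap _ _ _
  let w : LieS.pt B' f' ⟶ LieS.dpt B' f' :=
    Over.homMk (Spec.map (CommRingCat.ofHom ψ)) (by
      change Spec.map _ ≫ Spec.map _ ≫ f' = f'
      rw [← Category.assoc, LieS.specMap_comp, hψ, CommRingCat.ofHom_id]
      erw [Spec.map_id]; exact Category.id_comp f')
  have hw : w ≫ LieS.proj B' f' = 𝟙 _ := by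
    ext; change Spec.map _ ≫ Spec.map _ = 𝟙 _
    rw [LieS.specMap_comp, hψ, CommRingCat.ofHom_id]; erw [Spec.map_id]
  have hw' : w ≫ LieS.dptMap f h' = y := by
    ext; rw [Over.comp_left, hy]
    change Spec.map _ ≫ Spec.map _ = Spec.map _
    rw [LieS.specMap_comp]
    congr 2
    refine RingHom.ext fun z => ?_
    simp only [RingHom.comp_apply, LieS.bcHom, LieS.dualHom_apply, map_add, map_mul, ψ, h',
      TrivSqZeroExt.algebraMap_eq_inl, TrivSqZeroExt.fst_inl, TrivSqZeroExt.snd_inl, RingHom.id_apply,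
      DualNumber.fst_eps, DualNumber.snd_eps, map_one, map_zero, zero_mul, add_zero, zero_add, one_mul, mul_zero,
      mul_one]
    rw [_root_.one_mul, ← map_mul, ← map_add]
    congr 1
    exact TrivSqZeroExt.ext (by simp) (by simp)
  have e : (LieS.proj B' f' ≫ k ≫ i) * (LieS.dptMap f h' ≫ x.1) =
      (LieS.dptMap f h' ≫ x.1) * (LieS.proj B' f' ≫ k ≫ i) :=
    mul_inv_eq_iff_eq_mul.mp (congrArg Subtype.val (H h' k))
  have := congrArg (w ≫ ·) e
  simp only [MonObj.comp_mul, ← Category.assoc, hw, hw', Category.id_comp] at this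
  exact this.symm

theorem cover_comm {S : Scheme.{u}} {G K : Over S} [GrpObj G] [GrpObj K] (i : K ⟶ G) {B : Type u} [CommRing B]
    (f : Spec (CommRingCat.of B) ⟶ S) (x : LieS.Lie G B f)
    (H : ∀ (B' : Type u) [CommRing B'] (h : B →+* B')
      (k : LieS.pt B' (Spec.map (CommRingCat.ofHom h) ≫ f) ⟶ K),
      LieS.Ad G B' (Spec.map (CommRingCat.ofHom h) ≫ f) (k ≫ i) (LieS.pull G f h x) = LieS.pull G f h x)
    (X' : Over S) (y : X' ⟶ LieS.dpt B f) (h : X' ⟶ K) : (y ≫ x.1) * (h ≫ i) = (h ≫ i) * (y ≫ x.1) := by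
  refine Over.OverMorphism.ext (X'.left.affineCover.hom_ext _ _ fun j => ?_)
  let g := X'.left.affineCover.f j
  let φ := (Spec.preimage (g ≫ y.left : _ ⟶ Spec (CommRingCat.of (DualNumber B)))).hom
  let f' := Spec.map (CommRingCat.ofHom (φ.comp (algebraMap B (DualNumber B)))) ≫ f
  have hφ : Spec.map (CommRingCat.ofHom φ) = g ≫ y.left := Spec.map_preimage _
  let u : LieS.pt _ f' ⟶ X' := Over.homMk g (by
    change g ≫ X'.hom = Spec.map _ ≫ f
    rw [← LieS.specMap_comp, Category.assoc, hφ, ← Over.w y]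
    exact (Category.assoc _ _ _).symm)
  have key := affine_comm i f x φ (fun h k => H _ h k) (u ≫ h) (u ≫ y) hφ.symm
  have e : u ≫ ((y ≫ x.1) * (h ≫ i)) = u ≫ ((h ≫ i) * (y ≫ x.1)) := by
    rw [MonObj.comp_mul, MonObj.comp_mul, ← Category.assoc, ← Category.assoc, key]
  exact congrArg (·.left) e


/-- For a group scheme G over a scheme S (the group law of the Lie algebra functor of a group scheme is
commutative, which the published statement assumes), a sub-group-scheme K of G given by a
monomorphic homomorphism i, and an affine S-scheme T = Spec B: an element x of Lie(G/S)(T) belongs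
to the Lie algebra of the centraliser of K, i.e. the point x of G with values in the dual numbers
I_T commutes with every point of K with values in any scheme over I_T, if and only if x is fixed by
the adjoint action of every point of K with values in an affine scheme T' = Spec B' over T (acting
on the restriction of x to T'). -/
theorem result (S : Scheme.{u}) (G K : Over S) [GrpObj G] [GrpObj K] (i : K ⟶ G)
    [IsMonHom i] [Mono i] (B : Type u) [CommRing B] (f : Spec (CommRingCat.of B) ⟶ S) (x : LieS.Lie G B f) :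
    (∀ (X' : Over S) (y : X' ⟶ LieS.dpt B f) (h : X' ⟶ K), (y ≫ x.1) * (h ≫ i) = (h ≫ i) * (y ≫ x.1)) ↔
    (∀ (B' : Type u) [CommRing B'] (h : B →+* B')
      (k : LieS.pt B' (Spec.map (CommRingCat.ofHom h) ≫ f) ⟶ K),
      LieS.Ad G B' (Spec.map (CommRingCat.ofHom h) ≫ f) (k ≫ i) (LieS.pull G f h x) = LieS.pull G f h x) := by
  constructor
  · intro H B' _ h k
    refine Subtype.ext (mul_inv_eq_iff_eq_mul.mpr ?_)
    have := H (LieS.dpt B' (Spec.map (CommRingCat.ofHom h) ≫ f)) (LieS.dptMap f h) (LieS.proj B' _ ≫ k)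
    rw [Category.assoc] at this
    exact this.symm
  · intro H X' y h
    exact cover_comm i f x (fun B' _ h k => H B' h k) X' y h

end Groth.Agent.S8370
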