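import Groth.Statements.S8371
import Groth.Agent.H20Lie.Basic

set_option autoImplicit false
universe u
open CategoryTheory MonObj AlgebraicGeometry
open LieS

namespace Groth.Agent.S8371

/-- The sequence of Lie algebras, with M = O_S: if 1 → G' → G → G'' → 1 is a sequence of homomorphisms
of group schemes over a scheme S which is exact on points with values in every S-scheme, then for
every affine S-scheme T = Spec B the derived morphisms give an exact sequence 1 → Lie(G'/S)(T) →
Lie(G/S)(T) → Lie(G''/S)(T) → 1: the first is injective, the second surjective, and the kernel of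
the second is the image of the first. -/
theorem result (S : Scheme.{u}) (G' G G'' : Over S) [GrpObj G'] [GrpObj G] [GrpObj G'']
    (i : G' ⟶ G) [IsMonHom i] (q : G ⟶ G'') [IsMonHom q]
    (hex : ∀ T : Over S, Function.Injective (fun a : T ⟶ G' => a ≫ i) ∧
      Function.Surjective (fun b : T ⟶ G => b ≫ q) ∧ ∀ b : T ⟶ G, b ≫ q = 1 ↔ ∃ a : T ⟶ G', a ≫ i = b)
    (B : Type u) [CommRing B] (f : Spec (CommRingCat.of B) ⟶ S) :
    Function.Injective (LieS.map B f i) ∧ Function.Surjective (LieS.map B f q) ∧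
      ∀ v : LieS.Lie G B f, LieS.map B f q v = 1 ↔ ∃ w : LieS.Lie G' B f, LieS.map B f i w = v := by
  have hinj : ∀ T : Over S, Function.Injective (fun a : T ⟶ G' => a ≫ i) := fun T => (hex T).1
  refine ⟨?_, ?_, ?_⟩
  · intro v w h
    exact Subtype.ext (hinj _ (congrArg Subtype.val h))
  · intro v
    obtain ⟨b, hb⟩ := (hex (LieS.dpt B f)).2.1 v.1
    let c : LieS.dpt B f ⟶ G := LieS.proj B f ≫ LieS.zeroSec B f ≫ b
    refine ⟨⟨b * c⁻¹, ?_⟩, Subtype.ext ?_⟩
    · rw [LieS.mem_Lie_iff, MonObj.comp_mul, GrpObj.comp_inv, ← Category.assoc, LieS.zeroSec_proj, Category.id_comp,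
        _root_.mul_inv_cancel]
    · change (b * c⁻¹) ≫ q = v.1
      rw [MonObj.mul_comp, GrpObj.inv_comp, Category.assoc, Category.assoc, show b ≫ q = v.1 from hb]
      rw [(LieS.mem_Lie_iff G'' B f v.1).1 v.2, MonObj.comp_one, inv_one, _root_.mul_one]
  · intro v
    constructor
    · intro h
      obtain ⟨a, ha⟩ := ((hex (LieS.dpt B f)).2.2 v.1).1 (congrArg Subtype.val h)
      refine ⟨⟨a, ?_⟩, Subtype.ext ha⟩
      rw [LieS.mem_Lie_iff]
      refine hinj _ ?_
      change (LieS.zeroSec B f ≫ a) ≫ i = 1 ≫ i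
      rw [Category.assoc, ha, (LieS.mem_Lie_iff G B f v.1).1 v.2, MonObj.one_comp]
    · rintro ⟨w, rfl⟩
      refine Subtype.ext ?_
      exact ((hex (LieS.dpt B f)).2.2 (w.1 ≫ i)).2 ⟨w.1, rfl⟩

end Groth.Agent.S8371
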