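import Groth.Statements.S8373
import Groth.Agent.H20Cartan.Criterion

set_option autoImplicit false
universe u
open scoped TensorProduct
open SGA3t2b

namespace Groth.Agent.S8373

/-- Over an affine base Spec A: let L be a Lie algebra over A which is a finitely generated projective
A-module, H a Cartan subalgebra of L relative to A, a an element of H which is quasi-regular in L,
and u an automorphism of the Lie algebra L over A. Then u(H) = H if and only if u(a) ∈ H. -/
theorem result {A : Type u} [CommRing A] {L : Type u} [LieRing L]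
    [LieAlgebra A L] [Module.Finite A L] [Module.Projective A L]
    (H : LieSubalgebra A L) (hH : SGA3t2b.IsCartanRel H) (a : L) (haH : a ∈ H)
    (ha : SGA3t2b.IsQuasiRegular A L a) (u : L ≃ₗ⁅A⁆ L) :
    H.map u.toLieHom = H ↔ u a ∈ H := by
  refine ⟨fun h => h ▸ (LieSubalgebra.mem_map _ _ _).2 ⟨a, haH, rfl⟩, fun hua => ?_⟩
  have hq : SGA3t2b.IsQuasiRegular A L (u a) := fun p => by
    have h := (H20Cartan.isRegular_equiv_iff (H20Cartan.congrLie p.asIdeal.ResidueField u) _).2 (ha p)
    rwa [H20Cartan.congrLie_tmul] at h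
  have hpow : ∀ (n : ℕ) (y : L), (LieAlgebra.ad A L (u a) ^ n) (u y) = u ((LieAlgebra.ad A L a ^ n) y) := by
    intro n
    induction n with
    | zero => exact fun y => rfl
    | succ n ih =>
      intro y
      rw [pow_succ, pow_succ, Module.End.mul_apply, Module.End.mul_apply, LieAlgebra.ad_apply, LieAlgebra.ad_apply,
        ← ih]
      exact congrArg _ (u.map_lie a y).symm
  have h1 := H20Cartan.eq_engel H hH haH ha
  have h2 := H20Cartan.eq_engel H hH hua hq
  have hmap : (LieSubalgebra.engel A a).map u.toLieHom = LieSubalgebra.engel A (u a) := by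
    refine LieSubalgebra.ext _ _ fun y => ?_
    rw [LieSubalgebra.mem_map, LieSubalgebra.mem_engel_iff]
    constructor
    · rintro ⟨z, hz, rfl⟩
      obtain ⟨n, hn⟩ := (LieSubalgebra.mem_engel_iff A a z).1 hz
      refine ⟨n, (hpow n z).trans ?_⟩
      rw [hn]
      exact map_zero u.toLinearEquiv
    · rintro ⟨n, hn⟩
      obtain ⟨z, rfl⟩ := u.toLinearEquiv.surjective y
      refine ⟨z, (LieSubalgebra.mem_engel_iff A a z).2 ⟨n, u.toLinearEquiv.injective ?_⟩, rfl⟩
      rw [map_zero]
      exact (hpow n z).symm.trans hn
  calc H.map u.toLieHom = (LieSubalgebra.engel A a).map u.toLieHom := by rw [← h1]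
    _ = LieSubalgebra.engel A (u a) := hmap
    _ = H := h2.symm

end Groth.Agent.S8373
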