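import Groth.Statements.S8377
import Groth.Agent.H20Cartan.Open

set_option autoImplicit false
universe u
open scoped TensorProduct
open SGA3t2b

namespace Groth.Agent.S8377

/-- Let L be a Lie algebra over the commutative ring A which is a finitely generated projective
A-module. Suppose that the nilpotent rank of the fibres κ(p) ⊗ L is locally constant on Spec A, that
for every A-algebra A' every quasi-regular element of A' ⊗ L is regular (condition (C₂)), and that
every fibre κ(p) ⊗ L has a regular element (automatic when every residue field of A is infinite).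
Then L acquires a relative Cartan subalgebra after a faithfully flat etale base change A → A'
(condition (C′₁)). (The published implication (C₂) ⇒ (C′₁) is over an arbitrary base and has no
hypothesis on regular elements of the fibres; this row is over an affine base and assumes every
fibre has a regular element, the case in which the published argument, through the existence of a
Cartan subalgebra Zariski-locally near each such point, is complete.) -/
theorem result {A : Type u} [CommRing A] {L : Type u} [LieRing L]
    [LieAlgebra A L] [Module.Finite A L] [Module.Projective A L]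
    (hC2 : ((∀ p : PrimeSpectrum A, ∃ f : A, f ∉ p.asIdeal ∧ ∀ q : PrimeSpectrum A, f ∉ q.asIdeal →
        LieAlgebra.rank q.asIdeal.ResidueField (q.asIdeal.ResidueField ⊗[A] L) =
          LieAlgebra.rank p.asIdeal.ResidueField (p.asIdeal.ResidueField ⊗[A] L)) ∧
      ∀ (A' : Type u) [CommRing A'] [Algebra A A'] (a' : A' ⊗[A] L),
        SGA3t2b.IsQuasiRegular A' (A' ⊗[A] L) a' → SGA3t2b.IsRegularRel A' (A' ⊗[A] L) a'))
    (hreg : ∀ p : PrimeSpectrum A, ∃ x : p.asIdeal.ResidueField ⊗[A] L, LieAlgebra.IsRegular p.asIdeal.ResidueField x) :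
    ∃ (A' : Type u) (_ : CommRing A') (_ : Algebra A A'), Algebra.Etale A A' ∧ Module.FaithfullyFlat A A' ∧
        ∃ H : LieSubalgebra A' (A' ⊗[A] L), SGA3t2b.IsCartanRel H := by
  classical
  have hopen := fun a : L => H20Cartan.isOpen_regular ((H20Cartan.forall_exists_iff_isLocallyConstant _).1 hC2.1) a
  have hloc : ∀ p : PrimeSpectrum A, ∃ a : L, ∃ f : A, f ∉ p.asIdeal ∧ ∀ q : PrimeSpectrum A, f ∉ q.asIdeal →
      LieAlgebra.IsRegular q.asIdeal.ResidueField ((1 : q.asIdeal.ResidueField) ⊗ₜ[A] a) := fun p => by
    obtain ⟨x, hx⟩ := hreg p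
    obtain ⟨a, s, -, hs, hax⟩ := H20Cartan.exists_smul_eq_one_tmul p (⊤ : Submodule A L) (z := x)
      (by rw [Submodule.baseChange_top]; trivial)
    have hr : LieAlgebra.IsRegular p.asIdeal.ResidueField ((1 : p.asIdeal.ResidueField) ⊗ₜ[A] a) := by
      rw [← hax]
      exact (H20Cartan.isRegular_smul _ (fun h => hs (Ideal.algebraMap_residueField_eq_zero.1 h)) x).2 hx
    obtain ⟨_, ⟨f, rfl⟩, hf, hfU⟩ := PrimeSpectrum.isTopologicalBasis_basic_opens.exists_subset_of_mem_open
      (show p ∈ {q : PrimeSpectrum A | LieAlgebra.IsRegular q.asIdeal.ResidueField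
        ((1 : q.asIdeal.ResidueField) ⊗ₜ[A] a)} from hr) (hopen a)
    exact ⟨a, f, hf, fun q hq => hfU hq⟩
  choose a f hf hfreg using hloc
  obtain ⟨t, ht⟩ := isCompact_univ.elim_finite_subcover
    (fun p : PrimeSpectrum A => (PrimeSpectrum.basicOpen (f p) : Set (PrimeSpectrum A)))
    (fun p => (PrimeSpectrum.basicOpen (f p)).isOpen) (fun p _ => Set.mem_iUnion.2 ⟨p, hf p⟩)
  have hcov : ∀ p : PrimeSpectrum A, ∃ i : t, f i ∉ p.asIdeal := fun p => by
    obtain ⟨i, hi, hp⟩ := Set.mem_iUnion₂.1 (ht (Set.mem_univ p))
    exact ⟨⟨i, hi⟩, hp⟩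
  let A' : Type u := ∀ i : t, Localization.Away (f i)
  haveI : ∀ i : t, Algebra.Etale A (Localization.Away (f i)) := fun i =>
    Algebra.Etale.of_isLocalizationAway (f i)
  haveI hetale : Algebra.Etale A A' := inferInstance
  haveI : Module.Flat A A' := inferInstance
  have hsurj : Function.Surjective (PrimeSpectrum.comap (algebraMap A A')) := fun p => by
    obtain ⟨i, hi⟩ := hcov p
    have hr : p ∈ Set.range (PrimeSpectrum.comap (algebraMap A (Localization.Away (f i)))) := by
      rw [PrimeSpectrum.localization_away_comap_range (Localization.Away (f i)) (f i)]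
      exact hi
    obtain ⟨q, hq⟩ := hr
    exact ⟨PrimeSpectrum.comap (Pi.evalRingHom _ i) q, hq⟩
  refine ⟨A', inferInstance, inferInstance, hetale, Module.FaithfullyFlat.of_comap_surjective hsurj, ?_⟩
  let e : t → A' := fun i => Pi.single i 1
  have hq : SGA3t2b.IsQuasiRegular A' (A' ⊗[A] L) (∑ i : t, e i ⊗ₜ[A] a i) := fun q => by
    obtain ⟨i, hi⟩ : ∃ i, e i ∉ q.asIdeal := by
      by_contra! h
      refine q.isPrime.ne_top ((Ideal.eq_top_iff_one _).2 ?_)
      rw [← Finset.univ_sum_single (1 : A')]
      exact Ideal.sum_mem _ fun i _ => h i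
    have hj : ∀ j, j ≠ i → e j ∈ q.asIdeal := fun j hji => by
      refine (q.isPrime.mem_or_mem (x := e j) (y := e i) ?_).resolve_right hi
      have h0 : e j * e i = 0 := by
        funext k
        show e j k * e i k = 0
        by_cases hk : k = j
        · subst hk
          rw [show e i k = 0 from Pi.single_eq_of_ne hji _, mul_zero]
        · rw [show e j k = 0 from Pi.single_eq_of_ne hk _, zero_mul]
      rw [h0]
      exact zero_mem _
    have hqi : f i ∉ (PrimeSpectrum.comap (algebraMap A A') q).asIdeal := fun h => by
      refine hi ?_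
      have h1 : e i = algebraMap A A' (f i) *
          Pi.single i ((IsLocalization.Away.invSelf (f i) : Localization.Away (f i))) := by
        funext k
        show e i k = algebraMap A (Localization.Away (f k)) (f i) *
          (Pi.single i (IsLocalization.Away.invSelf (f i)) : A') k
        by_cases hk : k = i
        · subst hk
          rw [show e k k = 1 from Pi.single_eq_same _ _, Pi.single_eq_same, IsLocalization.Away.mul_invSelf]
        · rw [show e i k = 0 from Pi.single_eq_of_ne hk _, Pi.single_eq_of_ne hk, mul_zero]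
      rw [h1]
      exact Ideal.mul_mem_right _ _ h
    refine (H20Cartan.isRegular_equiv_iff (H20Cartan.cancelLie A A' q.asIdeal.ResidueField L) _).1 ?_
    have hsum : H20Cartan.cancelLie A A' q.asIdeal.ResidueField L
        ((1 : q.asIdeal.ResidueField) ⊗ₜ[A'] (∑ j : t, e j ⊗ₜ[A] a j)) =
          (1 : q.asIdeal.ResidueField) ⊗ₜ[A] a i := by
      show TensorProduct.AlgebraTensorModule.cancelBaseChange A A' _ _ L _ = _
      rw [TensorProduct.tmul_sum, map_sum, Finset.sum_eq_single i]
      · rw [TensorProduct.AlgebraTensorModule.cancelBaseChange_tmul, Algebra.smul_def, mul_one]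
        congr 1
        have h0 : e i * (e i - 1) = 0 := by
          funext k
          show e i k * (e i k - 1) = 0
          by_cases hk : k = i
          · subst hk
            rw [show e k k = 1 from Pi.single_eq_same _ _, sub_self, mul_zero]
          · rw [show e i k = 0 from Pi.single_eq_of_ne hk _, zero_mul]
        have h1 : e i - 1 ∈ q.asIdeal :=
          (q.isPrime.mem_or_mem (by rw [h0]; exact zero_mem _)).resolve_left hi
        rwa [← Ideal.algebraMap_residueField_eq_zero, map_sub, map_one, sub_eq_zero] at h1
      · intro j _ hji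
        rw [TensorProduct.AlgebraTensorModule.cancelBaseChange_tmul, Algebra.smul_def, mul_one,
          Ideal.algebraMap_residueField_eq_zero.2 (hj j hji), TensorProduct.zero_tmul]
      · exact fun h => absurd (Finset.mem_univ i) h
    rw [hsum]
    exact (H20Cartan.isRegular_residue_iff q (a i)).2 (hfreg i _ hqi)
  obtain ⟨-, H, hH, -⟩ := hC2.2 A' _ hq
  exact ⟨H, hH⟩

end Groth.Agent.S8377
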