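import Groth.Statements.S8378
import Groth.Agent.H20Cartan.Open

set_option autoImplicit false
universe u
open scoped TensorProduct
open SGA3t2b

namespace Groth.Agent.S8378

/-- Over an affine base Spec A: let L be a Lie algebra over A which is a finitely generated projective
A-module. If for some faithfully flat A-algebra A' the Lie algebra A' ⊗ L has a Cartan subalgebra
relative to A' (condition (C₁)), then the nilpotent rank of the fibres κ(p) ⊗ L is a locally
constant function of p ∈ Spec A (condition (C₀)). -/
theorem result {A : Type u} [CommRing A] {L : Type u} [LieRing L]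
    [LieAlgebra A L] [Module.Finite A L] [Module.Projective A L]
    (hC1 : ∃ (A' : Type u) (_ : CommRing A') (_ : Algebra A A'), Module.FaithfullyFlat A A' ∧
        ∃ H : LieSubalgebra A' (A' ⊗[A] L), SGA3t2b.IsCartanRel H) :
    ∀ p : PrimeSpectrum A, ∃ f : A, f ∉ p.asIdeal ∧ ∀ q : PrimeSpectrum A, f ∉ q.asIdeal →
        LieAlgebra.rank q.asIdeal.ResidueField (q.asIdeal.ResidueField ⊗[A] L) =
          LieAlgebra.rank p.asIdeal.ResidueField (p.asIdeal.ResidueField ⊗[A] L) := by
  obtain ⟨A', _, _, _, H, hH⟩ := hC1
  refine (H20Cartan.forall_exists_iff_isLocallyConstant _).2 ?_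
  have h := H20Cartan.isLocallyConstant_rank H hH
  have hsurj := PrimeSpectrum.comap_surjective_of_faithfullyFlat (A := A) (B := A')
  have hquot := PrimeSpectrum.isQuotientMap_of_generalizingMap hsurj
    (Algebra.HasGoingDown.iff_generalizingMap_primeSpectrumComap.1 inferInstance)
  intro s
  rw [← hquot.isOpen_preimage, ← Set.preimage_comp]
  have he : (fun p : PrimeSpectrum A => LieAlgebra.rank p.asIdeal.ResidueField (p.asIdeal.ResidueField ⊗[A] L)) ∘
      PrimeSpectrum.comap (algebraMap A A') = fun q : PrimeSpectrum A' =>
        LieAlgebra.rank q.asIdeal.ResidueField (q.asIdeal.ResidueField ⊗[A'] (A' ⊗[A] L)) :=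
    funext fun q => ((H20Cartan.fibre_baseChange q (0 : L)).1).symm
  rw [he]
  exact h s

end Groth.Agent.S8378
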