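import Groth.Statements.S8383
import Mathlib.LinearAlgebra.Matrix.NonsingularInverse
import Mathlib.LinearAlgebra.Determinant
import Mathlib.LinearAlgebra.Dual.Lemmas
import Mathlib.RingTheory.TensorProduct.Basic

set_option autoImplicit false
universe u
open scoped TensorProduct
open SGA3t2b

namespace Groth.Agent.S8383

/-- Let k be a finite field with algebraic closure K, V a finite-dimensional vector space over k, and
θ₁, …, θₙ a basis of the dual of the K-vector space K ⊗ V. Then there is x ∈ V with θᵢ(1 ⊗ x) ≠ 0
for every i. -/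
theorem result (k : Type u) [Field k] [Finite k]
    (V : Type u) [AddCommGroup V] [Module k V] [Module.Finite k V] {ι : Type} [Fintype ι]
    (θ : Module.Basis ι (AlgebraicClosure k) (Module.Dual (AlgebraicClosure k) (AlgebraicClosure k ⊗[k] V))) :
    ∃ x : V, ∀ i : ι, θ i ((1 : AlgebraicClosure k) ⊗ₜ[k] x) ≠ 0 := by
  classical
  let K := AlgebraicClosure k
  let W := K ⊗[k] V
  haveI : Module.Finite K W := inferInstance
  have hcard : Fintype.card ι = Module.finrank k V := by
    rw [← Module.finrank_eq_card_basis θ, Subspace.dual_finrank_eq, Module.finrank_baseChange]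
  let e : Module.Basis ι k V := (Module.finBasis k V).reindex (Fintype.equivFinOfCardEq hcard).symm
  let eK : Module.Basis ι K W := e.baseChange K
  let M : Matrix ι ι K := fun i j => θ i (eK j)
  have hM : M.det ≠ 0 := by
    have hli : LinearIndependent K (fun i => M i) := by
      let Φ : Module.Dual K W →ₗ[K] (ι → K) :=
        { toFun := fun f j => f (eK j), map_add' := fun f g => rfl, map_smul' := fun c f => rfl }
      have hker : LinearMap.ker Φ = ⊥ := LinearMap.ker_eq_bot'.mpr fun f hf => eK.ext fun j => congrFun hf j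
      exact θ.linearIndependent.map' Φ hker
    exact fun h0 => (Matrix.isUnit_iff_isUnit_det M).mp (Matrix.linearIndependent_rows_iff_isUnit.mp hli) |>.ne_zero h0
  let β := Module.Free.chooseBasis k K
  let A : ι → Finset (Module.Free.ChooseBasisIndex k K) := fun i => Finset.univ.biUnion fun j => (β.repr (M i j)).support
  let g : (i : ι) → Module.Free.ChooseBasisIndex k K → ι → K := fun i b j => β.repr (M i j) b • β b
  have hrow : M = fun i => ∑ b ∈ A i, g i b := by
    funext i j
    rw [Finset.sum_apply]
    conv_lhs => rw [← β.linearCombination_repr (M i j), Finsupp.linearCombination_apply]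
    exact Finset.sum_subset (Finset.subset_biUnion_of_mem (fun j => (β.repr (M i j)).support) (Finset.mem_univ j))
      fun b _ hb => by simp [Finsupp.notMem_support_iff.mp hb]
  rw [hrow] at hM
  have hsum := (Matrix.detRowAlternating : (ι → K) [⋀^ι]→ₗ[K] K).toMultilinearMap.map_sum_finset g A
  obtain ⟨r, -, hr⟩ : ∃ r ∈ Fintype.piFinset A, Matrix.det (fun i => g i (r i)) ≠ 0 := by
    by_contra hno
    push Not at hno
    exact hM (hsum.trans (Finset.sum_eq_zero fun r hr => hno r hr))
  let N : Matrix ι ι k := fun i j => β.repr (M i j) (r i)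
  have hN : IsUnit N.det := by
    refine isUnit_iff_ne_zero.mpr fun h0 => hr ?_
    have e1 : (fun i => g i (r i)) = Matrix.of fun i j => β (r i) * (N.map (algebraMap k K)) i j := by
      funext i j
      simp [g, N, Algebra.smul_def, mul_comm, Matrix.map_apply]
      try exact Or.inl rfl
    rw [e1, Matrix.det_mul_column, ← RingHom.mapMatrix_apply, ← RingHom.map_det, h0, map_zero, mul_zero]
  obtain ⟨c, hc⟩ := Matrix.mulVec_surjective_iff_isUnit.mpr ((Matrix.isUnit_iff_isUnit_det N).mpr hN) (fun _ => 1)
  refine ⟨∑ j, c j • e j, fun i h0 => ?_⟩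
  have hx : θ i ((1 : K) ⊗ₜ[k] ∑ j, c j • e j) = ∑ j, c j • M i j := by
    simp only [TensorProduct.tmul_sum, TensorProduct.tmul_smul, map_sum]
    refine Finset.sum_congr rfl fun j _ => ?_
    rw [← algebraMap_smul K (c j) ((1 : K) ⊗ₜ[k] e j), map_smul, algebraMap_smul]
    simp only [M, eK]
    congr 2
    exact (Module.Basis.baseChange_apply K e j).symm
  rw [hx] at h0
  have h1 := congrArg (fun z => β.repr z (r i)) h0
  have h2 := congrFun hc i
  simp only [map_sum, map_smul, Finsupp.coe_finsetSum, Finset.sum_apply, Finsupp.smul_apply, map_zero,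
    Finsupp.coe_zero, Pi.zero_apply, smul_eq_mul] at h1
  simp only [Matrix.mulVec, dotProduct, N] at h2
  refine one_ne_zero (α := k) (h2.symm.trans (Eq.trans ?_ h1))
  exact Finset.sum_congr rfl fun j _ => mul_comm _ _

end Groth.Agent.S8383
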