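import Groth.Statements.S8386
import Groth.Agent.H21EtPt.Subgroup

set_option autoImplicit false
set_option linter.style.haveILetI false
set_option synthInstance.maxHeartbeats 400000
set_option maxHeartbeats 1000000
universe u
open CategoryTheory MonoidalCategory CartesianMonoidalCategory MonObj GrpObj AlgebraicGeometry
open SGA3x

set_option backward.isDefEq.respectTransparency false

namespace Groth.Agent.S8386

/-- Over an affine base: let A be a ring, J an ideal of A all of whose elements are nilpotent, S = Spec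
A, S₀ = Spec(A/J), G an S-group scheme flat and of finite presentation over S, and H₀ a subgroup
scheme of G₀ = G ×_S S₀ which is smooth and finite over S₀, of multiplicative type and central in
G₀. Then there is a subgroup scheme H of G of multiplicative type with H ×_S S₀ = H₀ as subgroups of
G₀; it is unique (any two such are isomorphic over G); and H is central in G. -/
theorem result (A : Type u) [CommRing A] (J : Ideal A)
    (hJ : ∀ x ∈ J, IsNilpotent x) (G : Over (Spec (CommRingCat.of A))) [GrpObj G] [Flat G.hom] [QuasiCompact G.hom]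
    [QuasiSeparated G.hom] [LocallyOfFinitePresentation G.hom]
    (H₀ : Over (Spec (CommRingCat.of (A ⧸ J)))) [GrpObj H₀] (j₀ : H₀ ⟶ Red.bc (Spec.map (CommRingCat.ofHom (Ideal.Quotient.mk J))) G) [IsMonHom j₀] [Mono j₀]
    [Smooth H₀.hom] [IsFinite H₀.hom] (hm₀ : SGA3x.IsMultTypeFT H₀)
    (hc₀ : (∀ (X : Over _) (x : X ⟶ _) (g : X ⟶ Red.bc (Spec.map (CommRingCat.ofHom (Ideal.Quotient.mk J))) G), (x ≫ j₀) * g = g * (x ≫ j₀))) :
    (∃ (H : Over (Spec (CommRingCat.of A))) (_ : GrpObj H) (j : H ⟶ G), IsMonHom j ∧ Mono j ∧ SGA3x.IsMultTypeFT H ∧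
      (∃ e : Red.bc (Spec.map (CommRingCat.ofHom (Ideal.Quotient.mk J))) H ≅ H₀, e.hom ≫ j₀ = (Over.pullback (Spec.map (CommRingCat.ofHom (Ideal.Quotient.mk J)))).map j) ∧
      (∀ (X : Over _) (x : X ⟶ _) (g : X ⟶ G), (x ≫ j) * g = g * (x ≫ j)) ∧
      ∀ (H' : Over (Spec (CommRingCat.of A))) [GrpObj H'] (j' : H' ⟶ G) [IsMonHom j'] [Mono j'], SGA3x.IsMultTypeFT H' →
        (∃ e' : Red.bc (Spec.map (CommRingCat.ofHom (Ideal.Quotient.mk J))) H' ≅ H₀, e'.hom ≫ j₀ = (Over.pullback (Spec.map (CommRingCat.ofHom (Ideal.Quotient.mk J)))).map j') →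
        ∃ φ : H' ≅ H, φ.hom ≫ j = j') := by
  let q : Spec (CommRingCat.of (A ⧸ J)) ⟶ Spec (CommRingCat.of A) :=
    Spec.map (CommRingCat.ofHom (Ideal.Quotient.mk J))
  haveI : IsClosedImmersion q := IsClosedImmersion.spec_of_surjective _ Ideal.Quotient.mk_surjective
  haveI : Surjective q := H21EtPt.spec_mk_surjective J hJ
  obtain ⟨A₀, _, _, ⟨e₀⟩, -, hfp⟩ := H21Hom.exists_model H₀
  haveI := hfp inferInstance
  have hm₁ := H21Hom.isMultType_of_specGrp (H21Hom.isMultTypeFT_of_iso hm₀ e₀)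
  obtain ⟨B, _, _, hB, ⟨eB⟩⟩ := S2979.result A J hJ A₀ (S2973.result _ A₀ inferInstance hm₁)
  haveI : Module.Finite (A ⧸ J) A₀ := by
    haveI : IsIso e₀.inv.hom.hom.left := ((Over.forget _).mapIso ((Grp.forget _).mapIso e₀.symm)).isIso_hom
    have hw : e₀.inv.hom.hom.left ≫ H₀.hom = Spec.map (CommRingCat.ofHom (algebraMap (A ⧸ J) A₀)) :=
      Over.w e₀.inv.hom.hom
    have h1 : IsFinite (Spec.map (CommRingCat.ofHom (algebraMap (A ⧸ J) A₀))) := by rw [← hw]; infer_instance
    exact RingHom.finite_algebraMap.mp ((IsFinite.SpecMap_iff _).mp h1)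
  haveI : Module.Finite (A ⧸ J) (TensorProduct A (A ⧸ J) B) :=
    Module.Finite.equiv (AlgEquivClass.toAlgEquiv eB).toLinearEquiv.symm
  haveI : Module.Finite A B := H21EtPt.finite_of_isQuasiIsotrivial J hJ B hB
  let H := H21Hom.specGrp A B
  have hH : SGA3x.IsMultTypeFT H :=
    H21Hom.isMultTypeFT_specGrp inferInstance (H21Mono.isMultType_of_isQuasiIsotrivial hB)
  haveI : IsFinite H.hom := (IsFinite.SpecMap_iff _).mpr (RingHom.finite_algebraMap.mpr ‹Module.Finite A B›)
  haveI : Flat H.hom := H21EtPt.flat_of_multTypeFT hH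
  haveI : LocallyOfFinitePresentation H.hom := H21Diag.lfp_of_multTypeFT hH
  obtain ⟨b⟩ := H21Hom.nonempty_bc_specGrp (R := A) B (A ⧸ J)
  obtain ⟨c⟩ := H21Hom.nonempty_iso_of_bialgEquiv eB.symm
  let Φ : Grp.mk (Red.bc q H) ≅ Grp.mk H₀ := b ≪≫ c ≪≫ e₀.symm
  let φ : Red.bc q H ≅ H₀ := (Grp.forget _).mapIso Φ
  haveI : IsMonHom φ.hom := inferInstanceAs (IsMonHom Φ.hom.hom.hom)
  haveI : IsMonHom φ.inv := inferInstanceAs (IsMonHom Φ.inv.hom.hom)
  haveI : Etale H₀.hom := (H06Unram.etale_iff_smooth_and_locallyQuasiFinite H₀.hom).mpr ⟨inferInstance, inferInstance⟩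
  haveI : FormallyUnramified (Red.bc q H).hom := by
    haveI : IsIso φ.hom.left := ((Over.forget _).mapIso φ).isIso_hom
    rw [← Over.w φ.hom]
    infer_instance
  haveI := H21EtPt.etale_of_thickening q H
  have hk := fun t => H21EtPt.exists_killed H hH t
  obtain ⟨u, hu, hFu, hcu, -⟩ := H21EtPt.exists_hom_lift q (φ.hom ≫ j₀) hk
    fun X x g => by simpa only [Category.assoc] using hc₀ X (x ≫ φ.hom) g
  haveI := hu
  haveI : LocallyOfFiniteType (u.left ≫ G.hom) := by rw [Over.w u]; infer_instance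
  haveI : LocallyOfFiniteType u.left := locallyOfFiniteType_of_comp u.left G.hom
  haveI : IsClosedImmersion (Limits.pullback.fst G.hom q) :=
    MorphismProperty.pullback_fst (P := @IsClosedImmersion) _ _ inferInstance
  haveI : Surjective (Limits.pullback.fst G.hom q) :=
    MorphismProperty.pullback_fst (P := @Surjective) _ _ inferInstance
  have hmono : Mono ((Over.pullback q).map u) := by rw [hFu]; infer_instance
  haveI : Mono ((Over.pullback q).map u).left := (Over.forget _).map_mono ((Over.pullback q).map u)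
  haveI : Mono u.left := (H7Flat.mono_iff_of_thickening _ (Limits.pullback.fst G.hom q) _ u.left
    (H21Mono.sqBC q u).flip).1 inferInstance
  haveI : Mono u := Over.mono_of_mono_left u
  have hcomm₀ : ∀ (X : Over _) (a b : X ⟶ Red.bc q H), a * b = b * a := fun X a b => by
    rw [← cancel_mono (φ.hom ≫ j₀), MonObj.mul_comp, MonObj.mul_comp]
    simpa only [Category.assoc] using hc₀ X (a ≫ φ.hom) (b ≫ φ.hom ≫ j₀)
  refine ⟨H, inferInstance, u, hu, inferInstance, hH, ⟨φ, hFu.symm⟩, hcu, fun H' _ j' _ _ hH' he' => ?_⟩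
  obtain ⟨e', he'⟩ := he'
  haveI : Flat H'.hom := H21EtPt.flat_of_multTypeFT hH'
  haveI : LocallyOfFinitePresentation H'.hom := H21Diag.lfp_of_multTypeFT hH'
  haveI : IsAffineHom H'.hom := H21Diag.isAffineHom_of_multTypeFT hH'
  haveI hme : IsMonHom e'.hom := H21EtPt.isMonHom_of_comp_mono e'.hom j₀ (he' ▸ inferInstance)
  haveI hmi : IsMonHom e'.inv := H21Diag.isMonHom_of_mul _ fun a b => by
    rw [← cancel_mono e'.hom, MonObj.mul_comp]
  haveI : IsIso e'.hom.left := ((Over.forget _).mapIso e').isIso_hom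
  haveI : FormallyUnramified (Red.bc q H').hom := by rw [← Over.w e'.hom]; infer_instance
  haveI : IsFinite (Red.bc q H').hom := by rw [← Over.w e'.hom]; infer_instance
  haveI := H21EtPt.etale_of_thickening q H'
  haveI := H21EtPt.isFinite_of_thickening q H'
  have hk' := fun t => H21EtPt.exists_killed H' hH' t
  obtain ⟨ψ, hψ, hFψ⟩ := H21EtPt.exists_iso_lift q hk hk' (e'.hom ≫ φ.inv) (φ.hom ≫ e'.inv) (by simp) (by simp) hcomm₀
  haveI := hψ
  refine ⟨ψ, ?_⟩
  obtain ⟨w, -, -, -, huniq⟩ := H21EtPt.exists_hom_lift q (e'.hom ≫ j₀) hk'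
    fun X x g => by simpa only [Category.assoc] using hc₀ X (x ≫ e'.hom) g
  rw [huniq (ψ.hom ≫ u) inferInstance (by simp [Functor.map_comp, hFψ, hFu]), huniq j' inferInstance he'.symm]

end Groth.Agent.S8386
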