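import Groth.Statements.S8388
import Groth.Agent.H21Adic.Levels
import Groth.Agent.H21EtPt.CentralLift

set_option autoImplicit false
universe u
open CategoryTheory MonoidalCategory CartesianMonoidalCategory MonObj GrpObj AlgebraicGeometry
open SGA3x

set_option linter.style.haveILetI false
set_option backward.isDefEq.respectTransparency false
set_option synthInstance.maxHeartbeats 400000
set_option maxHeartbeats 1000000

namespace Groth.Agent.S8388

set_option linter.unusedSectionVars false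

open Limits H21Adic H21Diag H21EtPt

variable {A : Type u} [CommRing A] [IsLocalRing A] [IsNoetherianRing A]
  [IsAdicComplete (IsLocalRing.maximalIdeal A) A]

/-- Restrict a point over the closed point to the first thickening. -/
noncomputable abbrev fromQ : Tst (lvl A 0) ⟶ Tst (Ideal.Quotient.mk (IsLocalRing.maximalIdeal A)) :=
  tst (Ideal.Quotient.factor (by rw [zero_add, pow_one])) (RingHom.ext fun _ => rfl)

/-- The first thickening is the closed point. -/
noncomputable abbrev toQ : Tst (Ideal.Quotient.mk (IsLocalRing.maximalIdeal A)) ⟶ Tst (lvl A 0) :=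
  tst (Ideal.Quotient.factor (by rw [zero_add, pow_one])) (RingHom.ext fun _ => rfl)

theorem packIso_inv_eps (X : Over (Spec (CommRingCat.of A)))
    (p : (Over.map (qm A)).obj (Red.bc (qm A) X) ⟶ Tst (Ideal.Quotient.mk (IsLocalRing.maximalIdeal A)))
    (hp : p.left = (Red.bc (qm A) X).hom) :
    ∃ i : pack p ⟶ Red.bc (qm A) X, i.left = 𝟙 _ ∧
      bcEquiv (qm A) X (pack p) ((packIso p).inv ≫ eps (qm A) X) = i := by
  refine ⟨Over.homMk (𝟙 _) ((Category.id_comp _).trans hp.symm), rfl, ?_⟩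
  apply (bcEquiv (qm A) X (pack p)).symm.injective
  rw [Equiv.symm_apply_apply]
  refine Eq.trans ?_ ((Over.mapPullbackAdj (qm A)).homEquiv_counit _ _ _).symm
  ext : 1
  rfl

/-- Let A be a complete Noetherian local ring with residue field k, S = Spec A, S₀ = Spec k the closed
point, M an S-group scheme finite over S and of multiplicative type, and G an S-group scheme smooth
over S. Then every homomorphism of S₀-groups u₀ : M₀ → G₀ between the closed fibres is the
restriction of a homomorphism of S-groups u : M → G; and if u, u′ : M → G are homomorphisms with the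
same restriction to S₀, there is g ∈ G(S) restricting to the unit of G(S₀) with u′ = int(g) ∘ u. -/
theorem result (A : Type u) [CommRing A]
    [IsLocalRing A] [IsNoetherianRing A] [IsAdicComplete (IsLocalRing.maximalIdeal A) A]
    (M : Over (Spec (CommRingCat.of A))) [GrpObj M] [IsFinite M.hom] (hM : SGA3x.IsMultTypeFT M)
    (G : Over (Spec (CommRingCat.of A))) [GrpObj G] [Smooth G.hom] :
    (∀ (u₀ : Red.bc (Spec.map (CommRingCat.ofHom (Ideal.Quotient.mk (IsLocalRing.maximalIdeal A)))) M ⟶ Red.bc (Spec.map (CommRingCat.ofHom (Ideal.Quotient.mk (IsLocalRing.maximalIdeal A)))) G) [IsMonHom u₀],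
      ∃ u : M ⟶ G, IsMonHom u ∧ (Over.pullback (Spec.map (CommRingCat.ofHom (Ideal.Quotient.mk (IsLocalRing.maximalIdeal A))))).map u = u₀) ∧
    (∀ (u u' : M ⟶ G) [IsMonHom u] [IsMonHom u'],
      (Over.pullback (Spec.map (CommRingCat.ofHom (Ideal.Quotient.mk (IsLocalRing.maximalIdeal A))))).map u = (Over.pullback (Spec.map (CommRingCat.ofHom (Ideal.Quotient.mk (IsLocalRing.maximalIdeal A))))).map u' →
      ∃ g : 𝟙_ (Over (Spec (CommRingCat.of A))) ⟶ G,
        (Over.pullback (Spec.map (CommRingCat.ofHom (Ideal.Quotient.mk (IsLocalRing.maximalIdeal A))))).map g = toUnit _ ≫ η[Red.bc (Spec.map (CommRingCat.ofHom (Ideal.Quotient.mk (IsLocalRing.maximalIdeal A)))) G] ∧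
        ∀ (X : Over (Spec (CommRingCat.of A))) (x : X ⟶ M), x ≫ u' = (toUnit X ≫ g) * (x ≫ u) * (toUnit X ≫ g)⁻¹) := by
  haveI := isDiagLoc_of_isMultTypeFT hM
  have hD := isDiagLoc_of_isMultTypeFT hM
  have hG : Smooth G.hom := inferInstance
  let q := qm A
  obtain ⟨B, _, _, _, ⟨e⟩⟩ := exists_aff_iso M
  refine ⟨fun u₀ _ => ?_, fun u u' _ _ hres => ?_⟩
  · let φ₀ : Tst (lvl A 0) ⊗ M ⟶ G := lift (fst _ _ ≫ fromQ) (snd _ _) ≫ fam u₀
    have hφ₀ : ∀ {X : Over (Spec (CommRingCat.of A))} (p : X ⟶ Tst (lvl A 0)) (x : X ⟶ M),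
        lift p x ≫ φ₀ = lift (p ≫ fromQ) x ≫ fam u₀ := fun {X} p x => by
      rw [← Category.assoc, comp_lift, lift_fst_assoc, lift_snd]
    let Mul : ∀ k, (Tst (lvl A k) ⊗ M ⟶ G) → Prop := fun k φ =>
      ∀ (X : Over (Spec (CommRingCat.of A))) (p : X ⟶ Tst (lvl A k)) (x y : X ⟶ M),
        lift p (x * y) ≫ φ = (lift p x ≫ φ) * (lift p y ≫ φ)
    choose next hnext hres using fun k (φ : {φ // Mul k φ}) =>
      exists_fam_lift (lvl A (k + 1)) (lvl A k) (lvlMap A k) (lvlMap_comp k) hG hD (lvlMap_surjective k)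
        (isNilpotent_ker_lvlMap k) φ.1 φ.2
    let Φ : ∀ k, {φ // Mul k φ} :=
      Nat.rec ⟨φ₀, fun X p x y => by rw [hφ₀, hφ₀, hφ₀, fam_mul]⟩ fun k φ => ⟨next k φ, hnext k φ⟩
    let w : ∀ k, lv A B (k + 1) ⟶ G := fun k => lift (lvPt B k) (lvIncl A B (k + 1) ≫ e.hom) ≫ (Φ k).1
    obtain ⟨x, hx⟩ := exists_glue B w fun k => by
      change _ ≫ lift _ _ ≫ next k (Φ k) = lift _ _ ≫ (Φ k).1
      rw [← Category.assoc, comp_lift, ← hres k (Φ k), ← Category.assoc _ _ e.hom, lvMap_incl]
      congr 2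
      exact tst_quot_unique _ _
    let u : M ⟶ G := e.inv ≫ x
    have hu : ∀ (k : ℕ) (T : Over (Spec (CommRingCat.of A))) (p : T ⟶ Tst (lvl A k)) (a : T ⟶ M),
        a ≫ u = lift p a ≫ (Φ k).1 := fun k T p a => by
      obtain ⟨y, hy⟩ := exists_lv_point B p (a ≫ e.inv)
      rw [← Category.assoc, ← hy, Category.assoc, hx k p y]
      change y ≫ lift _ _ ≫ _ = _
      rw [← Category.assoc, comp_lift, ← Category.assoc y, hy, Category.assoc, e.inv_hom_id, Category.comp_id]
      congr 2
      exact tst_quot_unique _ _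
    refine ⟨u, ?_, ?_⟩
    · haveI : IsFinite (M ⊗ M).hom := inferInstanceAs (IsFinite (pullback.fst M.hom M.hom ≫ M.hom))
      have hmul : (fst M M * snd M M) ≫ u = (fst M M ≫ u) * (snd M M ≫ u) := by
        refine hom_ext_lvl fun k T p t => ?_
        rw [MonObj.comp_mul, ← Category.assoc t (fst M M * snd M M) u, ← Category.assoc t (fst M M) u,
          ← Category.assoc t (snd M M) u, MonObj.comp_mul, hu k T p, hu k T p, hu k T p]
        exact (Φ k).2 T p _ _
      refine isMonHom_of_mul _ fun {X} a b => ?_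
      have h := congrArg (lift a b ≫ ·) hmul
      simpa only [← Category.assoc, MonObj.comp_mul, lift_fst, lift_snd] using h
    · apply (bcEquiv q G (Red.bc q M)).symm.injective
      rw [← eps_comp]
      let p : (Over.map q).obj (Red.bc q M) ⟶ Tst (Ideal.Quotient.mk (IsLocalRing.maximalIdeal A)) :=
        Over.homMk (Red.bc q M).hom rfl
      obtain ⟨i, hi, hiM⟩ := packIso_inv_eps M p rfl
      rw [hu 0 _ (p ≫ toQ)]
      change lift (p ≫ toQ) _ ≫ φ₀ = _
      rw [hφ₀, tst_quot_unique ((p ≫ toQ) ≫ fromQ) p, lift_fam, ev, hiM, bcHom_precomp]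
      ext : 1
      change 𝟙 _ ≫ i.left ≫ _ = _
      rw [hi, Category.id_comp, Category.id_comp]
      rfl
  · let P : ∀ k, (Tst (lvl A k) ⟶ G) → Prop := fun k c =>
      ∀ (X : Over (Spec (CommRingCat.of A))) (p : X ⟶ Tst (lvl A k)) (h : X ⟶ M),
        h ≫ u' = (p ≫ c) * (h ≫ u) * (p ≫ c)⁻¹
    have h0 : P 0 1 := fun X p h => by
      rw [MonObj.comp_one, _root_.one_mul, inv_one, _root_.mul_one]
      have h1 := congrArg (bcEquiv q G (Red.bc q M)).symm hres
      rw [← eps_comp, ← eps_comp] at h1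
      let hR : pack (p ≫ fromQ) ⟶ Red.bc q M := bcEquiv q M _ ((packIso (p ≫ fromQ)).inv ≫ h)
      have h2 : h = (packIso (p ≫ fromQ)).hom ≫ (Over.map q).map hR ≫ eps q M := by
        rw [← Iso.inv_comp_eq]
        refine Eq.trans ?_ ((Over.mapPullbackAdj q).homEquiv_counit _ _ _)
        exact ((bcEquiv q M _).symm_apply_apply _).symm
      rw [h2, Category.assoc, Category.assoc, Category.assoc, Category.assoc, h1]
    choose next hnext hP using fun k (c : {c // P k c}) =>
      exists_conj_lift (lvl A (k + 1)) (lvl A k) (lvlMap A k) (lvlMap_comp k) hG hD (lvlMap_surjective k)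
        (isNilpotent_ker_lvlMap k) u u' c.1 c.2
    let C : ∀ k, {c // P k c} := Nat.rec ⟨1, h0⟩ fun k c => ⟨next k c, hP k c⟩
    let w : ∀ k, lv A A (k + 1) ⟶ G := fun k => lvPt A k ≫ (C k).1
    obtain ⟨x, hx⟩ := exists_glue A w fun k => by
      change _ ≫ _ ≫ next k (C k) = _ ≫ (C k).1
      rw [← hnext k (C k), ← Category.assoc, ← Category.assoc]
      congr 1
      exact tst_quot_unique _ _
    let ιA : 𝟙_ (Over (Spec (CommRingCat.of A))) ⟶ aff A A := Over.homMk (𝟙 _) (by
      change 𝟙 _ ≫ Spec.map (CommRingCat.ofHom (algebraMap A A)) = 𝟙 _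
      rw [Algebra.algebraMap_self, CommRingCat.ofHom_id, Spec.map_id]
      exact Category.id_comp _)
    let g : 𝟙_ (Over (Spec (CommRingCat.of A))) ⟶ G := ιA ≫ x
    have hg : ∀ (k : ℕ) (T : Over (Spec (CommRingCat.of A))) (p : T ⟶ Tst (lvl A k)),
        toUnit T ≫ g = p ≫ (C k).1 := fun k T p => by
      obtain ⟨y, hy⟩ := exists_lv_point A p (toUnit T ≫ ιA)
      rw [← Category.assoc, ← hy, Category.assoc, hx k p y]
      change y ≫ _ ≫ _ = _
      rw [← Category.assoc]
      congr 1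
      exact tst_quot_unique _ _
    refine ⟨g, ?_, fun X h => ?_⟩
    · apply (bcEquiv q G (Red.bc q (𝟙_ _))).symm.injective
      rw [← eps_comp, toUnit_unique (eps q (𝟙_ _)) (toUnit _),
        hg 0 _ ((Over.homMk (Red.bc q (𝟙_ _)).hom rfl :
          (Over.map q).obj (Red.bc q (𝟙_ _)) ⟶ Tst (Ideal.Quotient.mk (IsLocalRing.maximalIdeal A))) ≫ toQ)]
      change _ ≫ (1 : Tst (lvl A 0) ⟶ G) = bcHom q G _ 1
      rw [MonObj.comp_one, map_one]
    · have huniv : u' = (toUnit M ≫ g) * u * (toUnit M ≫ g)⁻¹ := hom_ext_lvl fun k T p t => by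
        rw [(C k).2 T p t, MonObj.comp_mul, MonObj.comp_mul, GrpObj.comp_inv, ← Category.assoc,
          toUnit_unique (t ≫ toUnit M) (toUnit T), hg k T p]
      conv_lhs => rw [huniv]
      rw [MonObj.comp_mul, MonObj.comp_mul, GrpObj.comp_inv, ← Category.assoc,
        toUnit_unique (h ≫ toUnit M) (toUnit X)]

end Groth.Agent.S8388
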