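import Groth.Statements.S8389
import Groth.Agent.H21EtPt.Complete
import Groth.Agent.H21EtPt.Connected
import Groth.Agent.H21EtPt.Killed
import Groth.Agent.H12AlgSp.LocPCancel

set_option autoImplicit false
universe u
open CategoryTheory MonoidalCategory CartesianMonoidalCategory MonObj GrpObj AlgebraicGeometry
open SGA3x

set_option linter.style.haveILetI false
set_option backward.isDefEq.respectTransparency false
set_option synthInstance.maxHeartbeats 400000
set_option maxHeartbeats 1000000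

namespace Groth.Agent.S8389

open H21EtPt in
theorem eps_nat {S S₀ : Scheme.{u}} (iS : S₀ ⟶ S) {X Y : Over S} (v : X ⟶ Y) :
    eps iS X ≫ v = (Over.map iS).map ((Over.pullback iS).map v) ≫ eps iS Y :=
  ((Over.mapPullbackAdj iS).counit.naturality v).symm

open H21EtPt in
/-- A finite scheme over an affine one is the spectrum of a finite algebra. -/
theorem exists_aff {A : Type u} [CommRing A] (X : Over (Spec (CommRingCat.of A))) [IsFinite X.hom] :
    ∃ (B : Type u) (_ : CommRing B) (_ : Algebra A B), Module.Finite A B ∧ Nonempty (aff A B ≅ X) := by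
  haveI : IsAffine X.left := isAffine_of_isAffineHom X.hom
  let φ := Spec.preimage (X.left.isoSpec.inv ≫ X.hom)
  letI : Algebra A Γ(X.left, ⊤) := φ.hom.toAlgebra
  have hφ : Spec.map (CommRingCat.ofHom (algebraMap A Γ(X.left, ⊤))) = X.left.isoSpec.inv ≫ X.hom :=
    Spec.map_preimage _
  refine ⟨Γ(X.left, ⊤), inferInstance, φ.hom.toAlgebra, ?_, ⟨Over.isoMk X.left.isoSpec.symm hφ.symm⟩⟩
  have h : IsFinite (Spec.map (CommRingCat.ofHom (algebraMap A Γ(X.left, ⊤)))) := by
    rw [hφ]
    infer_instance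
  exact RingHom.finite_algebraMap.mp ((IsFinite.SpecMap_iff _).mp h)

variable {A : Type u} [CommRing A] [IsLocalRing A] [IsNoetherianRing A] [IsAdicComplete (IsLocalRing.maximalIdeal A) A]
  {G : Over (Spec (CommRingCat.of A))} [GrpObj G] [Flat G.hom] [LocallyOfFinitePresentation G.hom] (n : ℕ)
  (hn : ∀ (X : Over (Spec (CommRingCat.of A))) (t : X.left), (n : X.left.residueField t) ≠ 0)

open H21EtPt in
include hn in
theorem lift_ext_fin {X : Over (Spec (CommRingCat.of A))} [IsFinite X.hom] {a b : X ⟶ G} (ha : a ^ n = 1)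
    (hb : b ^ n = 1) (hc : Central (eps (qm A) X ≫ a)) (h : eps (qm A) X ≫ a = eps (qm A) X ≫ b) : a = b := by
  obtain ⟨B, _, _, _, ⟨e⟩⟩ := exists_aff X
  rw [← cancel_epi e.hom]
  refine lift_ext_aff A B n hn (by rw [← MonObj.comp_pow, ha, MonObj.comp_one])
    (by rw [← MonObj.comp_pow, hb, MonObj.comp_one]) ?_ ?_
  · rw [← Category.assoc, eps_nat, Category.assoc]
    exact hc.comp _
  · rw [← Category.assoc, ← Category.assoc, eps_nat, Category.assoc, Category.assoc, h]

open H21EtPt in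
include hn in
theorem exists_lift_fin (X : Over (Spec (CommRingCat.of A))) [IsFinite X.hom]
    {x₀ : (Over.map (qm A)).obj (Red.bc (qm A) X) ⟶ G} (hc : Central x₀) (hx : x₀ ^ n = 1) :
    ∃ x : X ⟶ G, x ^ n = 1 ∧ eps (qm A) X ≫ x = x₀ := by
  obtain ⟨B, _, _, _, ⟨e⟩⟩ := exists_aff X
  let F := Over.pullback (qm A)
  let M := Over.map (qm A)
  obtain ⟨x, hxn, hxe⟩ := exists_lift_aff A B n hn (x₀ := M.map (F.map e.hom) ≫ x₀) (hc.comp _)
    (by rw [← MonObj.comp_pow, hx, MonObj.comp_one])
  refine ⟨e.inv ≫ x, by rw [← MonObj.comp_pow, hxn, MonObj.comp_one], ?_⟩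
  rw [← Category.assoc, eps_nat, Category.assoc, hxe, ← Category.assoc, ← Functor.map_comp, ← Functor.map_comp,
    e.inv_hom_id, F.map_id, M.map_id, Category.id_comp]

/-- Let A be a complete Noetherian local ring with residue field k, S = Spec A, S₀ = Spec k the closed
point, M an S-group scheme of multiplicative type which is smooth and finite over S, G an S-group
scheme flat and of finite type over S, and u₀ : M₀ → G₀ a central homomorphism between the closed
fibres. Then u₀ is the restriction of exactly one homomorphism u : M → G; and u is central when the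
fibres of G are connected. -/
theorem result (A : Type u) [CommRing A]
    [IsLocalRing A] [IsNoetherianRing A] [IsAdicComplete (IsLocalRing.maximalIdeal A) A]
    (M : Over (Spec (CommRingCat.of A))) [GrpObj M] [IsFinite M.hom] [Smooth M.hom] (hM : SGA3x.IsMultTypeFT M)
    (G : Over (Spec (CommRingCat.of A))) [GrpObj G] [Flat G.hom] [QuasiCompact G.hom] [LocallyOfFiniteType G.hom]
    (u₀ : Red.bc (Spec.map (CommRingCat.ofHom (Ideal.Quotient.mk (IsLocalRing.maximalIdeal A)))) M ⟶ Red.bc (Spec.map (CommRingCat.ofHom (Ideal.Quotient.mk (IsLocalRing.maximalIdeal A)))) G) [IsMonHom u₀]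
    (hc₀ : ∀ (X : Over _) (x : X ⟶ Red.bc (Spec.map (CommRingCat.ofHom (Ideal.Quotient.mk (IsLocalRing.maximalIdeal A)))) M) (g : X ⟶ Red.bc (Spec.map (CommRingCat.ofHom (Ideal.Quotient.mk (IsLocalRing.maximalIdeal A)))) G), (x ≫ u₀) * g = g * (x ≫ u₀)) :
    (∃ u : M ⟶ G, IsMonHom u ∧ (Over.pullback (Spec.map (CommRingCat.ofHom (Ideal.Quotient.mk (IsLocalRing.maximalIdeal A))))).map u = u₀ ∧
      ∀ u' : M ⟶ G, IsMonHom u' → (Over.pullback (Spec.map (CommRingCat.ofHom (Ideal.Quotient.mk (IsLocalRing.maximalIdeal A))))).map u' = u₀ → u' = u) ∧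
    ((∀ s : (Spec (CommRingCat.of A)), _root_.IsConnected (G.hom.base ⁻¹' {s})) →
      ∀ u : M ⟶ G, IsMonHom u → (Over.pullback (Spec.map (CommRingCat.ofHom (Ideal.Quotient.mk (IsLocalRing.maximalIdeal A))))).map u = u₀ →
        ∀ (X : Over (Spec (CommRingCat.of A))) (x : X ⟶ M) (g : X ⟶ G), (x ≫ u) * g = g * (x ≫ u)) := by
  let q := H21EtPt.qm A
  haveI : LocallyOfFinitePresentation G.hom := H12AlgSp.lfp_of_lft_of_isLocallyNoetherian G.hom
  haveI : IsClosedImmersion q := IsClosedImmersion.spec_of_surjective _ Ideal.Quotient.mk_surjective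
  obtain ⟨V, n, hcV, hK⟩ := H21EtPt.exists_killed M hM (IsLocalRing.closedPoint A)
  have hall : ∀ z : Spec (CommRingCat.of A), z ∈ V := fun z =>
    (IsLocalRing.specializes_closedPoint z).mem_open V.isOpen hcV
  have hn : ∀ (X : Over (Spec (CommRingCat.of A))) (t : X.left), (n : X.left.residueField t) ≠ 0 := fun X t =>
    hK.ne_zero (fun z => hall _) t
  have hidn : (𝟙 M : M ⟶ M) ^ n = 1 := hK.pow_eq_one _ fun z => hall _
  have hC := H21EtPt.central_pt₀ q u₀ hc₀
  have hx₀ : (H21EtPt.pt₀ q u₀) ^ n = 1 := by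
    have h := H21EtPt.pt₀_pow q u₀ (𝟙 M) n hidn
    rw [(Over.pullback q).map_id, (Over.map q).map_id] at h
    simpa only [Category.id_comp] using h
  obtain ⟨u, hun, hεu⟩ := exists_lift_fin n hn M hC hx₀
  haveI : IsFinite (M ⊗ M).hom :=
    inferInstanceAs (IsFinite (Limits.pullback.fst M.hom M.hom ≫ M.hom))
  let a : M ⊗ M ⟶ G := fst M M ≫ u
  let b : M ⊗ M ⟶ G := snd M M ≫ u
  have han : a ^ n = 1 := by rw [← MonObj.comp_pow, hun, MonObj.comp_one]
  have hbn : b ^ n = 1 := by rw [← MonObj.comp_pow, hun, MonObj.comp_one]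
  have hεx : ∀ {X : Over (Spec (CommRingCat.of A))} (x : X ⟶ M), H21EtPt.eps q X ≫ x ≫ u =
      (Over.map q).map ((Over.pullback q).map x) ≫ H21EtPt.pt₀ q u₀ := fun {X} x => by
    rw [← Category.assoc, eps_nat, Category.assoc, hεu]
  have hca : H21EtPt.Central (H21EtPt.eps q _ ≫ a) := by
    rw [hεx]
    exact hC.comp _
  have hcomm : Commute a b := by
    have h : b * a * b⁻¹ = a := by
      refine (lift_ext_fin n hn han (by rw [conj_pow, han, _root_.mul_one, mul_inv_cancel]) hca ?_).symm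
      have hc' := hca _ (𝟙 _) (H21EtPt.eps q _ ≫ b)
      simp only [Category.id_comp] at hc'
      rw [MonObj.comp_mul, MonObj.comp_mul, GrpObj.comp_inv, ← hc', mul_inv_cancel_right]
    exact (mul_inv_eq_iff_eq_mul.mp h).symm
  have hu : IsMonHom u := by
    have hmul : (fst M M * snd M M) ≫ u = a * b := by
      refine lift_ext_fin n hn (by rw [← MonObj.comp_pow, hun, MonObj.comp_one])
        (by rw [hcomm.mul_pow, han, hbn, _root_.mul_one]) (by rw [hεx]; exact hC.comp _) ?_
      rw [MonObj.comp_mul, hεx, hεx, hεx, H21EtPt.pt₀_map, H21EtPt.pt₀_map, H21EtPt.pt₀_map,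
        ← H21Diag.bcEquiv_symm_mul, ← MonObj.mul_comp]
      exact congrArg _ (congrArg (· ≫ u₀)
        (map_mul (Functor.homMonoidHom (Over.pullback q) (X := M ⊗ M) (M := M)) (fst M M) (snd M M)))
    refine H21Diag.isMonHom_of_mul _ fun {X} x y => ?_
    have h := congrArg (lift x y ≫ ·) hmul
    simpa only [a, b, ← Category.assoc, MonObj.comp_mul, lift_fst, lift_snd] using h
  have hFu : (Over.pullback q).map u = u₀ := by
    apply (H21Diag.bcEquiv q G (Red.bc q M)).symm.injective
    rw [← H21EtPt.eps_comp, hεu]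
  have huniq : ∀ u' : M ⟶ G, IsMonHom u' → (Over.pullback q).map u' = u₀ → u' = u := fun u' hu' hF' => by
    have h : H21EtPt.eps q M ≫ u' = H21EtPt.eps q M ≫ u := by
      rw [H21EtPt.eps_comp q u', H21EtPt.eps_comp q u, hF', hFu]
    refine (lift_ext_fin n hn hun ?_ (hεu ▸ hC) h.symm).symm
    have h' := H21EtPt.pow_comp (𝟙 M) u' n
    rwa [hidn, MonObj.one_comp, Category.id_comp, eq_comm] at h'
  refine ⟨⟨u, hu, hFu, huniq⟩, fun hG u' hu' hF' X x g => ?_⟩
  obtain rfl := huniq u' hu' hF'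
  refine H21EtPt.central_of_connected n hG u' hun (fun t => ?_) X x g
  have hcl : M.hom t ⤳ IsLocalRing.closedPoint A := IsLocalRing.specializes_closedPoint _
  obtain ⟨t', htt', ht'⟩ := M.hom.isClosedMap.specializingMap hcl
  haveI : Nonempty (Spec (CommRingCat.of (A ⧸ IsLocalRing.maximalIdeal A))) :=
    inferInstanceAs (Nonempty (PrimeSpectrum (A ⧸ IsLocalRing.maximalIdeal A)))
  obtain ⟨c⟩ := ‹Nonempty (Spec (CommRingCat.of (A ⧸ IsLocalRing.maximalIdeal A)))›
  have hqc : q c = IsLocalRing.closedPoint A := PrimeSpectrum.ext ((IsLocalRing.maximalIdeal.isMaximal A).eq_of_le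
    (q c).isPrime.ne_top fun x hx => by
      change Ideal.Quotient.mk _ x ∈ c.asIdeal
      rw [Ideal.Quotient.eq_zero_iff_mem.mpr hx]
      exact zero_mem _).symm
  obtain ⟨t₀, ht₀, -⟩ := Scheme.Pullback.exists_preimage_pullback (f := M.hom) (g := q) t' c (ht'.trans hqc.symm)
  refine (htt'.map u'.left.continuous).mem_open (H21EtPt.powLocus G n).isOpen ?_
  have ht : (H21EtPt.eps q M).left t₀ = t' := by
    rw [show (H21EtPt.eps q M).left = Limits.pullback.fst M.hom q by simp [H21EtPt.eps]]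
    exact ht₀
  rw [← ht, ← Scheme.Hom.comp_apply, ← Over.comp_left, hεu]
  let t₁ : ((Over.map q).obj (Red.bc q M)).left := t₀
  have hmem := H21EtPt.mem_powLocus n hC t₁ (hn _ t₁)
  exact hmem

end Groth.Agent.S8389
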