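import Groth.Statements.S8439
import Groth.Agent.H21Cent.SubDescent

set_option autoImplicit false
universe u
open CategoryTheory MonoidalCategory CartesianMonoidalCategory MonObj GrpObj AlgebraicGeometry
open SGA3x

set_option linter.style.haveILetI false
set_option backward.isDefEq.respectTransparency false
set_option synthInstance.maxHeartbeats 400000
set_option maxHeartbeats 1000000

namespace Groth.Agent.S8439

section
open CategoryTheory.Limits
open Groth.Agent.H21Desc

set_option maxHeartbeats 800000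

variable {S S' : Scheme.{u}} {G : Over S} [GrpObj G] {π : S' ⟶ S} {Z' : Over S'} [GrpObj Z'] (z' : Z' ⟶ Red.bc π G)

/-- points of a central homomorphism of multiplicative type over the base factor through the reductive
centre given over the cover -/
theorem exists_factor_point
    (huniv : ∀ (S'' : Scheme.{u}) (f' : S'' ⟶ S') (H : Over S'') [GrpObj H] (v : H ⟶ Red.bc f' (Red.bc π G)) [IsMonHom v],
        SGA3x.IsMultTypeFT H →
        (∀ (X : Over S'') (x : X ⟶ H) (g : X ⟶ Red.bc f' (Red.bc π G)), (x ≫ v) * g = g * (x ≫ v)) →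
        ∃ w : H ⟶ Red.bc f' Z', w ≫ (Over.pullback f').map z' = v)
    {S₁ : Scheme.{u}} (f₁ : S₁ ⟶ S) (H : Over S₁) [GrpObj H] (v : H ⟶ Red.bc f₁ G) [IsMonHom v]
    (hH : SGA3x.IsMultTypeFT H)
    (hv : ∀ (X : Over S₁) (x : X ⟶ H) (g : X ⟶ Red.bc f₁ G), (x ≫ v) * g = g * (x ≫ v))
    {T : Scheme.{u}} (t : T ⟶ H.left) (x : T ⟶ S') (hx : t ≫ H.hom ≫ f₁ = x ≫ π) :
    ∃ v' : T ⟶ Z'.left, v' ≫ Z'.hom = x ∧
      v' ≫ z'.left ≫ pullback.fst G.hom π = t ≫ v.left ≫ pullback.fst G.hom f₁ := by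
  let p₁ := pullback.fst f₁ π
  let p₂ := pullback.snd f₁ π
  let q := p₂ ≫ π
  let vY : Red.bc p₁ H ⟶ Red.bc q G := H21Cent.subY v p₁ pullback.condition
  haveI : IsMonHom vY := H21Cent.isMonHom_subY v _
  let θ : Red.bc p₂ (Red.bc π G) ⟶ Red.bc q G := H21Cent.subY (𝟙 (Red.bc π G)) p₂ rfl
  haveI : IsMonHom θ := H21Cent.isMonHom_subY _ _
  have hθ : θ.left ≫ pullback.fst G.hom q = pullback.fst (pullback.snd G.hom π) p₂ ≫ pullback.fst G.hom π :=
    (H21Cent.subY_fst (𝟙 (Red.bc π G)) (r := p₂) (q := q) rfl).trans (congrArg _ (Category.id_comp _))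
  have hθs : θ.left ≫ pullback.snd G.hom q = pullback.snd (pullback.snd G.hom π) p₂ := Over.w θ
  let a : Red.bc q G ⟶ Red.bc p₂ (Red.bc π G) :=
    Over.homMk (pullback.lift (pullback.lift (pullback.fst G.hom q) (pullback.snd G.hom q ≫ p₂)
      (by rw [pullback.condition, Category.assoc])) (pullback.snd G.hom q) (pullback.lift_snd _ _ _))
      (pullback.lift_snd _ _ _)
  have haθ : a ≫ θ = 𝟙 _ := Over.OverMorphism.ext (pullback.hom_ext
    (by
      rw [Over.comp_left, Category.assoc, hθ]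
      simp [a])
    ((Over.w (a ≫ θ)).trans (Category.id_comp _).symm))
  have hθa : θ ≫ a = 𝟙 _ := by
    refine Over.OverMorphism.ext (pullback.hom_ext (pullback.hom_ext ?_ ?_) ((Over.w (θ ≫ a)).trans (Category.id_comp _).symm))
    · simp only [a, Over.comp_left, Over.homMk_left, Category.assoc]
      simp [hθ]
    · simp only [a, Over.comp_left, Over.homMk_left, Category.assoc]
      simp only [pullback.lift_fst_assoc, pullback.lift_snd]
      rw [reassoc_of% hθs]
      exact pullback.condition.symm.trans (Category.id_comp _).symm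
  haveI : IsIso θ := ⟨a, hθa, haθ⟩
  haveI : IsMonHom a := H21Diag.isMonHom_of_mul _ fun b c => by
    rw [← cancel_mono θ, MonObj.mul_comp (b ≫ a) (c ≫ a) θ, Category.assoc, Category.assoc, Category.assoc,
      haθ, Category.comp_id, Category.comp_id, Category.comp_id]
  haveI : IsMonHom (vY ≫ a) := inferInstance
  obtain ⟨w, hw⟩ := huniv _ p₂ (Red.bc p₁ H) (vY ≫ a) (H21Diag.isMultTypeFT_bc hH p₁) fun X y g => by
    have h := H21Cent.central_subY v (r := p₁) (q := q) pullback.condition (fun X g h => (hv X h g).symm) (g ≫ θ) y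
    have h' := congrArg (· ≫ a) h
    simp only [MonObj.mul_comp, Category.assoc, hθa, Category.comp_id] at h'
    exact h'.symm
  let y : T ⟶ pullback f₁ π := pullback.lift (t ≫ H.hom) x (by rw [Category.assoc, hx])
  let t₃ : T ⟶ (Red.bc p₁ H).left := pullback.lift t y (pullback.lift_fst _ _ _).symm
  refine ⟨t₃ ≫ w.left ≫ pullback.fst Z'.hom p₂, ?_, ?_⟩
  · have hws : w.left ≫ pullback.snd Z'.hom p₂ = pullback.snd H.hom p₁ := Over.w w
    rw [Category.assoc, Category.assoc, pullback.condition, reassoc_of% hws,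
      show t₃ ≫ pullback.snd H.hom p₁ ≫ p₂ = (t₃ ≫ pullback.snd H.hom p₁) ≫ p₂ from (Category.assoc _ _ _).symm,
      pullback.lift_snd, pullback.lift_snd]
  · have hm : ((Over.pullback p₂).map z').left ≫ pullback.fst (pullback.snd G.hom π) p₂ =
        pullback.fst Z'.hom p₂ ≫ z'.left := pullback.lift_fst _ _ _
    have h1 := congrArg (fun k => t₃ ≫ (k ≫ θ).left ≫ pullback.fst G.hom q) hw
    simp only [Category.assoc, haθ, Category.comp_id, Over.comp_left] at h1
    rw [hθ, reassoc_of% hm, show vY.left ≫ pullback.fst G.hom q = _ from H21Cent.subY_fst v _] at h1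
    simp only [Category.assoc]
    rw [h1, ← Category.assoc, pullback.lift_fst]

end

open CategoryTheory.Limits

/-- Let G be an S-group scheme of finite presentation over S with affine fibres. If G admits a reductive
centre locally for the faithfully flat quasi-compact topology — after some flat surjective base
change S′ → S which is an fpqc covering — then G admits a reductive centre. -/
theorem result (S : Scheme.{u}) (G : Over S) [GrpObj G]
    [QuasiCompact G.hom] [QuasiSeparated G.hom] [LocallyOfFinitePresentation G.hom]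
    (haff : ∀ s : S, IsAffine (Limits.pullback G.hom (S.fromSpecResidueField s)))
    (h : (∃ (S' : Scheme.{u}) (f : S' ⟶ S), Flat f ∧ Surjective f ∧
      (∀ V : S.Opens, IsAffineOpen V → ∃ W : S'.Opens, IsCompact (W : Set ↥S') ∧ f.base '' (W : Set ↥S') = (V : Set ↥S)) ∧
      ∃ (Z' : Over S') (_ : GrpObj Z') (z' : Z' ⟶ Red.bc f G), (IsMonHom z' ∧ Mono z' ∧ SGA3x.IsMultTypeFT Z' ∧
      (∀ (X : Over S') (x : X ⟶ Z') (g : X ⟶ (Red.bc f G)), (x ≫ z') * g = g * (x ≫ z')) ∧
      ∀ (S'' : Scheme.{u}) (f' : S'' ⟶ S') (H : Over S'') [GrpObj H] (v : H ⟶ Red.bc f' (Red.bc f G)) [IsMonHom v],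
        SGA3x.IsMultTypeFT H →
        (∀ (X : Over S'') (x : X ⟶ H) (g : X ⟶ Red.bc f' (Red.bc f G)), (x ≫ v) * g = g * (x ≫ v)) →
        ∃ w : H ⟶ Red.bc f' Z', w ≫ (Over.pullback f').map z' = v))) :
    ∃ (Z : Over S) (_ : GrpObj Z) (z : Z ⟶ G), (IsMonHom z ∧ Mono z ∧ SGA3x.IsMultTypeFT Z ∧
      (∀ (X : Over S) (x : X ⟶ Z) (g : X ⟶ G), (x ≫ z) * g = g * (x ≫ z)) ∧
      ∀ (S' : Scheme.{u}) (f : S' ⟶ S) (H : Over S') [GrpObj H] (v : H ⟶ Red.bc f G) [IsMonHom v],
        SGA3x.IsMultTypeFT H →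
        (∀ (X : Over S') (x : X ⟶ H) (g : X ⟶ Red.bc f G), (x ≫ v) * g = g * (x ≫ v)) →
        ∃ w : H ⟶ Red.bc f Z, w ≫ (Over.pullback f).map z = v) := by
  obtain ⟨S', π, hflat, hsurj, hcov, Z', gZ', z', hz'm, hz'mono, hZ', hcen', huniv⟩ := h
  haveI := hflat
  haveI := hsurj
  letI := gZ'
  haveI := hz'm
  haveI := hz'mono
  haveI : Mono z'.left := (Over.forget S').map_mono z'
  haveI : IsAffineHom Z'.hom := H21Diag.isAffineHom_of_multTypeFT hZ'
  have hπ := H21Cent.singleton_mem_fpqc π hcov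
  have hmove : ∀ (T : Scheme.{u}) (x₀ x₁ : T ⟶ S') (_ : x₀ ≫ π = x₁ ≫ π) (v : Desc.Lifts Z' x₀),
      ∃ v' : Desc.Lifts Z' x₁, v'.1 ≫ z'.left ≫ pullback.fst G.hom π = v.1 ≫ z'.left ≫ pullback.fst G.hom π := by
    intro T x₀ x₁ hx v
    obtain ⟨v', h1, h2⟩ := exists_factor_point z' huniv π Z' z' hZ' hcen' v.1 x₁
      (by rw [← Category.assoc, v.2, hx])
    exact ⟨⟨v', h1⟩, h2⟩
  obtain ⟨U, j, φ, hφ⟩ := H21Cent.exists_descended_obj π z' hπ hmove
  haveI : Mono ((Over.pullback π).map j).left := by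
    rw [← hφ]
    haveI : IsIso φ.hom.left := ((Over.forget S').mapIso φ).isIso_hom
    rw [Over.comp_left]; infer_instance
  haveI : Mono j.left := ⟨fun {A} w₁ w₂ hw => by
    have ha : w₁ ≫ U.hom = w₂ ≫ U.hom := by
      rw [← Over.w j, ← Category.assoc, hw, Category.assoc]
    let l₁ := pullback.lift (pullback.snd π (w₁ ≫ U.hom) ≫ w₁) (pullback.fst π (w₁ ≫ U.hom))
      (f := U.hom) (g := π) (by rw [Category.assoc, pullback.condition])
    let l₂ := pullback.lift (pullback.snd π (w₁ ≫ U.hom) ≫ w₂) (pullback.fst π (w₁ ≫ U.hom))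
      (f := U.hom) (g := π) (by rw [Category.assoc, ← ha, pullback.condition])
    have hm : ((Over.pullback π).map j).left ≫ pullback.fst G.hom π = pullback.fst U.hom π ≫ j.left :=
      pullback.lift_fst _ _ _
    have hms : ((Over.pullback π).map j).left ≫ pullback.snd G.hom π = pullback.snd U.hom π :=
      pullback.lift_snd _ _ _
    have hl : l₁ = l₂ := (cancel_mono ((Over.pullback π).map j).left).mp (pullback.hom_ext
      (by simp [l₁, l₂, hm, hw]) (by simp [l₁, l₂, hms]))
    have h' := congrArg (· ≫ pullback.fst U.hom π) hl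
    simp only [l₁, l₂, pullback.lift_fst] at h'
    exact (H21Cent.existsUnique_desc π hπ (w₁ ≫ U.hom) (pullback.snd π (w₁ ≫ U.hom) ≫ w₁) fun T a b e => by
      rw [← Category.assoc, e, Category.assoc]).unique rfl h'.symm⟩
  obtain ⟨gU, hj, hU⟩ := H21Cent.exists_grpObj_desc π z' hcov hZ' hφ
  haveI := hj
  haveI : Mono j := Over.mono_of_mono_left _
  refine ⟨U, gU, j, hj, inferInstance, hU, ?_, ?_⟩
  · intro X x g
    obtain ⟨h, hh⟩ := H21Cent.exists_upPt_of_lift z' hφ x
    have hu : H21Cent.upPt π ((x ≫ j) * g) = H21Cent.upPt π (g * (x ≫ j)) := by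
      rw [H21Cent.upPt_mul, H21Cent.upPt_mul, ← hh]
      exact hcen' _ h _
    have h2 := congrArg (fun k => k.left ≫ pullback.fst G.hom π) hu
    simp only [H21Cent.upPt_fst] at h2
    exact Over.OverMorphism.ext ((H21Cent.existsUnique_desc π hπ X.hom (pullback.snd π X.hom ≫ ((x ≫ j) * g).left)
      fun T a b e => by rw [← Category.assoc, e, Category.assoc]).unique rfl h2.symm)
  · intro S₁ f₁ H _ v _ hH hv
    let T : Over S := (Over.map f₁).obj H
    let a : T ⟶ G := (H21Diag.bcEquiv f₁ G H).symm v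
    have ha : a.left = v.left ≫ pullback.fst G.hom f₁ := H21Cent.tr_left v
    obtain ⟨v', h1, h2⟩ := exists_factor_point z' huniv f₁ H v hH hv (pullback.snd π T.hom) (pullback.fst π T.hom)
      pullback.condition.symm
    obtain ⟨b, hb⟩ := H21Cent.exists_lift_of_upPt z' hπ hφ a (Over.homMk v' h1)
      (Over.OverMorphism.ext (pullback.hom_ext
        (by
          rw [Over.comp_left, H21Cent.upPt_fst, ha, ← h2]
          exact Category.assoc _ _ _)
        ((Over.w (Over.homMk v' h1 ≫ z' : Over.mk (pullback.fst π T.hom) ⟶ Red.bc π G)).trans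
          (Over.w (H21Cent.upPt π a)).symm)))
    refine ⟨H21Diag.bcEquiv f₁ U H b, ?_⟩
    apply (H21Diag.bcEquiv f₁ G H).symm.injective
    refine ((Over.mapPullbackAdj f₁).homEquiv_naturality_right_symm _ j).trans ?_
    exact (congrArg (· ≫ j) ((H21Diag.bcEquiv f₁ U H).symm_apply_apply b)).trans hb

end Groth.Agent.S8439
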