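import Groth.Statements.S8399
import Groth.Agent.H21Diag.CentreGlue
import Groth.Agent.H21Diag.EtaleTorus
import Groth.Agent.S8439

set_option autoImplicit false
universe u
open CategoryTheory MonoidalCategory CartesianMonoidalCategory MonObj GrpObj AlgebraicGeometry
open SGA3x

set_option linter.style.haveILetI false
set_option backward.isDefEq.respectTransparency false
set_option synthInstance.maxHeartbeats 400000
set_option maxHeartbeats 1000000

namespace Groth.Agent.S8399

open CategoryTheory.Limits in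
theorem isMaximalTorus_of_hasRedRank {S P : Scheme.{u}} (G : Over S) [GrpObj G] [Smooth G.hom] [IsAffineHom G.hom]
    (m : ℕ) (e : P ⟶ S) (i : Red.DS P (Fin m → ℤ) ⟶ Red.bc e G) [IsMonHom i] [Mono i]
    (h : ∀ t : P, SGA3x.HasRedRank G (e.base t) (m : WithBot ℕ∞)) : Red.IsMaximalTorus i := by
  refine H21Diag.isMaximalTorus_of_rank i fun t => ⟨⊤, trivial, m, ⟨H21Diag.bcDSIso _ _⟩, fun n u _ _ => ?_⟩
  let z := Red.geomPt t ≫ e
  let ψ := H21Red0.bcTrans (Red.geomPt t) e z rfl G
  haveI : IsMonHom ψ.hom := H21Red0.isMonHom_bcTrans (Red.geomPt t) e z rfl G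
  have h1 := H21Diag.rank_le_of_hasRedRank (h t) z (by
    rw [Scheme.Hom.comp_apply]
    exact congrArg e.base ((Scheme.Hom.comp_apply _ _ _).trans (Scheme.fromSpecResidueField_apply t _))) (u ≫ ψ.hom)
  exact_mod_cast h1

open CategoryTheory.Limits in
/-- an affine étale neighbourhood with a split maximal torus -/
theorem exists_affine_maxTorus {S : Scheme.{u}} (G : Over S) [GrpObj G] [Smooth G.hom] [IsAffineHom G.hom]
    (hr : SGA3x.RedRankLocallyConstant G) (s : S) :
    ∃ (R : CommRingCat.{u}) (e : Spec R ⟶ S) (p : PrimeSpectrum R) (m : ℕ)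
      (i : Red.DS (Spec R) (Fin m → ℤ) ⟶ Red.bc e G), Etale e ∧ e.base p = s ∧ Red.IsMaximalTorus i := by
  obtain ⟨W₀, hsW, r, hr⟩ := hr s
  obtain ⟨T, gT, i, hi, hd⟩ := hr s hsW
  letI := gT
  obtain ⟨hi1, hi2, hT, -⟩ := id hi
  haveI := hi1
  haveI := hi2
  obtain ⟨m, ⟨ε⟩⟩ := H21Diag.exists_DS_iso_algClosed T hT
  have hrm : r = (m : WithBot ℕ∞) := by
    rw [← hd]
    exact (Scheme.homeoOfIso ((Over.forget _).mapIso ((Grp.forget _).mapIso ε))).isHomeomorph.topologicalKrullDim_eq.trans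
      (H21Diag.dim_DS_field m)
  haveI : IsMonHom ε.inv.hom.hom := ε.inv.hom.isMonHom_hom
  haveI : IsIso ε.inv.hom.hom := ((Grp.forget _).mapIso ε).isIso_inv
  obtain ⟨U, e, he, ⟨p₁, hp₁⟩, v, hv, hv'⟩ :=
    H21Diag.exists_etale_splitTorus (Red.geomPt s) G m (ε.inv.hom.hom ≫ i)
  haveI := he
  haveI := hv
  haveI := hv'
  have hps : e.base p₁ = s := by
    rw [hp₁, Scheme.Hom.comp_apply]
    exact Scheme.fromSpecResidueField_apply s _
  obtain ⟨A, hA, hpA, hAW⟩ := exists_isAffineOpen_mem_and_subset (U := e ⁻¹ᵁ W₀) (x := p₁)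
    (show e.base p₁ ∈ W₀ by rw [hps]; exact hsW)
  let c : Spec Γ(U, A) ⟶ U := hA.fromSpec
  obtain ⟨p, hp⟩ : p₁ ∈ Set.range c.base := by
    rw [show Set.range c.base = (A : Set U) from hA.range_fromSpec]; exact hpA
  let θ := H21Red0.bcTrans c e (c ≫ e) rfl G
  haveI : IsMonHom θ.hom := H21Red0.isMonHom_bcTrans c e _ rfl G
  haveI := (Over.mapPullbackAdj c).isRightAdjoint
  haveI : Mono ((Over.pullback c).map v) := inferInstance
  haveI : IsMonHom ((Over.pullback c).map v) := H21Diag.isMonHom_map c v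
  let ε' := H21Diag.bcDSIso c (Fin m → ℤ)
  haveI : IsMonHom ε'.inv.hom.hom := ε'.inv.hom.isMonHom_hom
  haveI : IsIso ε'.inv.hom.hom := ((Grp.forget _).mapIso ε').isIso_inv
  refine ⟨Γ(U, A), c ≫ e, p, m, ε'.inv.hom.hom ≫ (Over.pullback c).map v ≫ θ.hom, inferInstance,
    by rw [Scheme.Hom.comp_apply, hp, hps],
    isMaximalTorus_of_hasRedRank G m (c ≫ e) _ fun t => ?_⟩
  have h : c.base t ∈ Set.range c.base := ⟨t, rfl⟩
  rw [show Set.range c.base = (A : Set U) from hA.range_fromSpec] at h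
  rw [← hrm]
  exact hr _ (show (c ≫ e).base t ∈ W₀ by rw [Scheme.Hom.comp_apply]; exact hAW h)

open CategoryTheory.Limits in
/-- a reductive centre exists over an étale cover -/
theorem exists_cover {S : Scheme.{u}} (G : Over S) [GrpObj G] [Smooth G.hom] [IsAffineHom G.hom]
    (hconn : ∀ s : S, _root_.IsConnected (G.hom.base ⁻¹' {s})) (hr : SGA3x.RedRankLocallyConstant G) :
    ∃ (U : S → Scheme.{u}) (π : ∀ s, U s ⟶ S), (∀ s, Etale (π s)) ∧ (∀ s, s ∈ Set.range (π s).base) ∧
      ∃ (M : S → Type) (gM : ∀ s, AddCommGroup (M s)) (_ : ∀ s, AddGroup.FG (M s)) (Z : ∀ s, Over (U s))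
        (gZ : ∀ s, GrpObj (Z s)) (z : ∀ s, Z s ⟶ Red.bc (π s) G),
        (∀ s, Nonempty (Grp.mk (Z s) ≅ Grp.mk (Red.DS (U s) (M s)))) ∧
          ∀ s, H21Diag.IsPieceCentre (π s) G (z s) := by
  have key : ∀ s : S, ∃ (U : Scheme.{u}) (π : U ⟶ S), Etale π ∧ s ∈ Set.range π.base ∧
      ∃ (M : Type) (gM : AddCommGroup M) (_ : AddGroup.FG M) (Z : Over U) (gZ : GrpObj Z) (z : Z ⟶ Red.bc π G),
        Nonempty (Grp.mk Z ≅ Grp.mk (Red.DS U M)) ∧ H21Diag.IsPieceCentre π G z := by
    intro s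
    obtain ⟨R, e, p, m, i, he, hps, hi⟩ := exists_affine_maxTorus G hr s
    haveI := he
    haveI : AddGroup.FG (Fin m → ℤ) := Module.Finite.iff_addGroup_fg.mp inferInstance
    obtain ⟨W, Λ, z, hpW, hz⟩ := H21Diag.exists_pieceCentre (R := R) e G hconn i hi p
    exact ⟨W, W.ι ≫ e, inferInstance, ⟨⟨p, hpW⟩, (Scheme.Hom.comp_apply _ _ _).trans hps⟩, _, inferInstance,
      inferInstance, _, inferInstance, z, ⟨H21Diag.bcDSIso W.ι _⟩, hz⟩
  choose U π hπ hs M gM fM Z gZ z hiso hz using key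
  exact ⟨U, π, hπ, hs, M, gM, fM, Z, gZ, z, hiso, hz⟩

/-- Let G be an S-group scheme, smooth and affine over S with connected fibres, whose reductive rank is
locally constant on S. Then G admits a reductive centre, that is, a subgroup scheme Z which is
central and of multiplicative type, such that for every S′ → S, every central homomorphism H → G ×_S
S′ from an S′-group H of multiplicative type and of finite type factors through Z ×_S S′. (The
published item c) also asserts that the quotient G/Z has unipotent rank zero; this row states only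
the existence of the reductive centre.) -/
theorem result (S : Scheme.{u}) (G : Over S) [GrpObj G]
    [Smooth G.hom] [IsAffineHom G.hom] (hconn : ∀ s : S, _root_.IsConnected (G.hom.base ⁻¹' {s})) (hr : SGA3x.RedRankLocallyConstant G) :
    ∃ (Z : Over S) (_ : GrpObj Z) (z : Z ⟶ G), (IsMonHom z ∧ Mono z ∧ SGA3x.IsMultTypeFT Z ∧
      (∀ (X : Over S) (x : X ⟶ Z) (g : X ⟶ G), (x ≫ z) * g = g * (x ≫ z)) ∧
      ∀ (S' : Scheme.{u}) (f : S' ⟶ S) (H : Over S') [GrpObj H] (v : H ⟶ Red.bc f G) [IsMonHom v],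
        SGA3x.IsMultTypeFT H →
        (∀ (X : Over S') (x : X ⟶ H) (g : X ⟶ Red.bc f G), (x ≫ v) * g = g * (x ≫ v)) →
        ∃ w : H ⟶ Red.bc f Z, w ≫ (Over.pullback f).map z = v) := by
  have hGs : Smooth G.hom := inferInstance
  have hGa : IsAffineHom G.hom := inferInstance
  obtain ⟨U, π, hπ, hs, M, gM, fM, Z, gZ, z, hiso, hz⟩ := exists_cover G hconn hr
  let f : (Limits.sigmaObj U) ⟶ S := Limits.Sigma.desc π
  haveI : Etale f := IsZariskiLocalAtSource.sigmaDesc (P := @Etale) hπ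
  haveI : Surjective f := ⟨fun s => ⟨(Limits.Sigma.ι U s).base (hs s).choose, by
    rw [← Scheme.Hom.comp_apply, Limits.Sigma.ι_desc]; exact (hs s).choose_spec⟩⟩
  exact S8439.result S G (fun s => by
    haveI : IsAffineHom (Limits.pullback.snd G.hom (S.fromSpecResidueField s)) :=
      MorphismProperty.pullback_snd (P := @IsAffineHom) _ _ hGa
    exact isAffine_of_isAffineHom (Limits.pullback.snd G.hom (S.fromSpecResidueField s)))
    ⟨_, f, inferInstance, inferInstance, H21Diag.qc_cover_of_openMap f f.isOpenMap,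
      H21Diag.exists_centre_sigma G U π M gM fM Z gZ z hiso hz⟩

end Groth.Agent.S8399
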