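import Groth.Statements.S8404
import Groth.Agent.S4115
import Groth.Agent.H21Diag.CentralMaxTorus
import Groth.Agent.H21Nilp.Family

set_option autoImplicit false
universe u
open CategoryTheory MonoidalCategory CartesianMonoidalCategory MonObj GrpObj AlgebraicGeometry
open SGA3x

set_option linter.style.haveILetI false
set_option backward.isDefEq.respectTransparency false
set_option synthInstance.maxHeartbeats 400000
set_option maxHeartbeats 1000000

namespace Groth.Agent.S8404

/-- Let G be an S-group scheme, smooth and affine over S, such that every geometric fibre of G is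
connected and nilpotent (its group of points over the algebraic closure is a nilpotent group), and
such that the reductive rank of G is locally constant. Then G has a unique maximal torus T; T is
central and contains every subtorus of G. -/
theorem result (S : Scheme.{u}) (G : Over S) [GrpObj G]
    [Smooth G.hom] [IsAffineHom G.hom]
    (hconn : ∀ s : S, ConnectedSpace ↥(Red.geomFibre s G).left)
    (hnil : ∀ s : S, Group.IsNilpotent
      (𝟙_ (Over (Spec (CommRingCat.of (AlgebraicClosure (S.residueField s))))) ⟶ Red.geomFibre s G))
    (hr : SGA3x.RedRankLocallyConstant G) :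
    ∃ (T : Over S) (_ : GrpObj T) (i : T ⟶ G), Red.IsMaximalTorus i ∧
      (∀ (X : Over S) (t : X ⟶ T) (g : X ⟶ G), (t ≫ i) * g = g * (t ≫ i)) ∧
      ∀ (R : Over S) [GrpObj R] (j : R ⟶ G) [IsMonHom j] [Mono j], Red.IsTorus R → ∃ f : R ⟶ T, f ≫ i = j := by
  refine H21Diag.exists_central_maxTorus G ((S4115.result S G).mp hr) ?_ ?_
  · intro Y f _ R _ j _ hR X x g
    haveI : Smooth (Red.bc f G).hom := MorphismProperty.pullback_snd (P := @Smooth) _ _ inferInstance
    haveI : IsAffineHom (Red.bc f G).hom := MorphismProperty.pullback_snd (P := @IsAffineHom) _ _ inferInstance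
    exact H21Nilp.central_of_nilFibres (H21Nilp.hasNilFibres_bc f hconn hnil) j hR X x g
  · intro R _ j _ hR X x g
    refine H21Nilp.central_of_nilFibres (fun s => ?_) j hR X x g
    exact ⟨_, inferInstance, inferInstance, Red.geomPt s, Scheme.fromSpecResidueField_apply s _, hconn s, hnil s⟩

end Groth.Agent.S8404
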