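import Groth.Statements.S8405
import Groth.Agent.S14575
import Groth.Agent.S5236
import Groth.Agent.S5938
import Groth.Agent.H21Quot.OfKernel
import Groth.Agent.H19Grp.Kernel

set_option autoImplicit false
set_option linter.style.haveILetI false
set_option backward.isDefEq.respectTransparency false
universe u
open CategoryTheory MonoidalCategory CartesianMonoidalCategory MonObj GrpObj AlgebraicGeometry
open SGA3x

namespace Groth.Agent.S8405

/-- Let G be a connected algebraic group (a group scheme of finite type) over a field k, z : Z → G the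
centre of G and q : G → Q a morphism representing the fppf quotient G/Z. Then Q is an affine scheme.
(The published statement allows any subgroup of finite index in the centre; this row takes Z to be
the centre itself.) -/
theorem result (k : Type u) [Field k]
    (G : Over (Spec (CommRingCat.of k))) [GrpObj G] [QuasiCompact G.hom] [LocallyOfFiniteType G.hom] [ConnectedSpace ↥G.left]
    (Z : Over (Spec (CommRingCat.of k))) [GrpObj Z] (z : Z ⟶ G) (hZ : Red.IsCentre z)
    (Q : Over (Spec (CommRingCat.of k))) (q : G ⟶ Q) (hq : RedSub.IsQuotient z q) : IsAffine Q.left := by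
  haveI : IsMonHom z := hZ.1
  haveI : Mono z := hZ.2.1
  have hn : AlgGrp.IsNormalHom z := fun T g n => ⟨n, by
    have h := (hZ.2.2 T (n ≫ z)).1 ⟨n, rfl⟩ T (𝟙 T) g
    rw [Category.id_comp, Category.comp_id] at h
    rw [← h, _root_.mul_assoc, mul_inv_cancel, _root_.mul_one]⟩
  obtain ⟨gQ, hgQ, -⟩ := Groth.Agent.S5236.result z hn q hq
  letI := gQ
  haveI : IsMonHom q := hgQ
  haveI := hq.1; haveI := hq.2.1; haveI := hq.2.2.1
  haveI : LocallyOfFiniteType (q.left ≫ Q.hom) := by rw [Over.w]; infer_instance
  haveI : LocallyOfFiniteType Q.hom := Groth.Agent.S5938.result q.left Q.hom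
  haveI : CompactSpace G.left := QuasiCompact.compactSpace_of_compactSpace G.hom
  haveI : CompactSpace Q.left := ⟨by
    rw [← q.left.surjective.range_eq]
    exact isCompact_range q.left.continuous⟩
  haveI : QuasiCompact Q.hom := (quasiCompact_iff_compactSpace Q.hom).2 inferInstance
  refine Groth.Agent.S14575.result k G Z z hZ Q q (Groth.Agent.H19Grp.isKernel_of ?_ ?_ ?_)
  · exact (Groth.Agent.H21Quot.comp_eq_one_iff hq z).2 ⟨𝟙 Z, Category.id_comp z⟩
  · exact fun T a b h => (cancel_mono z).1 h
  · exact fun T x hx => (Groth.Agent.H21Quot.comp_eq_one_iff hq x).1 hx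

end Groth.Agent.S8405
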