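import Groth.Statements.S8407
import Groth.Agent.H21Fix.SubgroupTop
import Groth.Agent.H19Grp.AffinizationKernel
import Groth.Agent.H19Grp.Affinization
import Groth.Agent.H12AlgSp.LocPCancel
import Groth.Agent.S7996
import Groth.Agent.S16611
import Groth.Agent.S0352
import Groth.Agent.H19Grp.PointsEq

set_option autoImplicit false
universe u
open CategoryTheory MonoidalCategory CartesianMonoidalCategory MonObj GrpObj AlgebraicGeometry
open SGA3x

namespace Groth.Agent.S8407

/-- Let G be a smooth connected algebraic group (not necessarily affine) over an algebraically closed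
field k, T a torus in G and C its centralizer. Then C is smooth and connected. -/
theorem result (k : Type u) [Field k] [IsAlgClosed k]
    (G : Over (Spec (CommRingCat.of k))) [GrpObj G] [Smooth G.hom] [QuasiCompact G.hom] [ConnectedSpace ↥G.left]
    (T : Over (Spec (CommRingCat.of k))) [GrpObj T] (j : T ⟶ G) [IsMonHom j] [Mono j] (hT : Red.IsTorus T)
    (C : Over (Spec (CommRingCat.of k))) [GrpObj C] (c : C ⟶ G) (hC : Red.IsCentralizerOf j c) :
    Smooth C.hom ∧ ConnectedSpace ↥C.left := by
  haveI : Mono c := hC.2.1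
  haveI : IsSeparated G.hom := H19Grp.PointsDense.isSeparated_grp G
  have hnorm : ∀ (X : Over (Spec (CommRingCat.of k))) (q : X ⟶ T) (h : X ⟶ G), ∃ h' : X ⟶ G,
      (q ≫ j) * (h ≫ 𝟙 G) * (q ≫ j)⁻¹ = h' ≫ 𝟙 G := fun X q h => ⟨_, (Category.comp_id _).symm⟩
  obtain ⟨a, hact, hmul⟩ := H21Fix.exists_conj_action j (𝟙 G) hnorm
  have hfix : H21Fix.IsFixedLocusOver a c := fun X g => by
    refine (hC.2.2 X g).trans (forall_congr' fun X' => forall_congr' fun x => forall_congr' fun t => ?_)
    have h := hact X' t (x ≫ g)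
    simp only [Category.comp_id] at h
    rw [h, mul_inv_eq_iff_eq_mul, eq_comm]
  have hT' := S16611.multTypeFT_of_torus hT
  obtain ⟨F, f, hf, -, hF⟩ := H21Diag.exists_inv_locus (H21Diag.isDiagLoc_of_isMultTypeFT hT') a
  haveI := hf
  haveI : Mono f := (Over.forget _).mono_of_mono_map (show Mono f.left from inferInstance)
  obtain ⟨e, he⟩ := H21Fix.exists_iso_fixedLocus c f hfix hF
  haveI : IsClosedImmersion c.left := by
    haveI : IsIso e.hom.left := ((Over.forget _).mapIso e).isIso_hom
    rw [← he]; exact inferInstanceAs (IsClosedImmersion (e.hom.left ≫ f.left))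
  refine ⟨H21Fix.smooth_fixedLocus_multTypeFT hT' a c hfix, ?_⟩
  -- the affinization
  haveI : QuasiSeparated G.hom := inferInstance
  obtain ⟨_, hρ⟩ := H19Grp.Affinization.exists_grpObj G
  obtain ⟨hfl, hsu, hlft⟩ := H19Grp.Affinization.flat_surjective G
  haveI := hρ
  haveI := hfl
  haveI := hsu
  haveI := hlft
  let A := H19Grp.Affinization.aff G
  let ρ : G ⟶ A := H19Grp.Affinization.rho G
  let ν := H19Grp.AffinizationKernel.incl G
  obtain ⟨hO, hNs, hNc⟩ := H19Grp.AffinizationKernel.smooth_and_connected G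
  obtain ⟨_, hν⟩ := H19Grp.AffinizationKernel.exists_grpObj G
  haveI := hν
  haveI := hNs
  haveI := hNc
  haveI : Mono ν := (Over.forget _).mono_of_mono_map (show Mono ν.left from inferInstance)
  have hνρ : ν ≫ ρ = 1 := by
    show ν ≫ ρ = (1 : H19Grp.AffinizationKernel.N G ⟶ A)
    rw [show ν ≫ ρ = toUnit _ ≫ η[G] ≫ ρ from H19Grp.AffinizationKernel.incl_rho G, ← Category.assoc, ← Hom.one_def,
      MonObj.one_comp]
  have hker : AlgGrp.IsKernel ν ρ := H19Grp.isKernel_of hνρ (fun _ _ _ h => (cancel_mono ν).mp h) fun X x hx =>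
    H19Grp.AffinizationKernel.lift_rho G x (by
      rw [hx, ← Category.assoc, ← Hom.one_def, MonObj.one_comp])
  haveI : QuasiCompact ρ.left := by
    haveI : QuasiCompact (ρ.left ≫ A.hom) := by rw [Over.w ρ]; infer_instance
    exact QuasiCompact.of_comp ρ.left A.hom
  haveI : Smooth ρ.left := H21Fix.smooth_of_kernel ρ ν hker
  haveI : IsSeparated A.hom := by
    haveI : IsAffineHom A.hom := isAffineHom_of_isAffine A.hom
    infer_instance
  haveI : ConnectedSpace A.left := hsu.surj.connectedSpace (H19Grp.Affinization.rho G).left.continuous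
  -- the fixed points in the affinization
  have hnormA : ∀ (X : Over (Spec (CommRingCat.of k))) (q : X ⟶ T) (h : X ⟶ A), ∃ h' : X ⟶ A,
      (q ≫ j ≫ ρ) * (h ≫ 𝟙 A) * (q ≫ j ≫ ρ)⁻¹ = h' ≫ 𝟙 A := fun X q h => ⟨_, (Category.comp_id _).symm⟩
  obtain ⟨b, hbact, hbmul⟩ := H21Fix.exists_conj_action (j ≫ ρ) (𝟙 A) hnormA
  obtain ⟨Z', z', hz', -, hZ'⟩ := H21Diag.exists_inv_locus (H21Diag.isDiagLoc_of_isMultTypeFT hT') b
  haveI := hz'
  haveI : Mono z' := (Over.forget _).mono_of_mono_map (show Mono z'.left from inferInstance)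
  have hfixA : H21Fix.IsFixedLocusOver b z' := hZ'
  obtain ⟨n, eT, heT⟩ := H21Dyn.exists_split_algClosed T hT
  haveI := heT
  haveI : LocallyOfFiniteType A.hom := hlft
  haveI : ConnectedSpace Z'.left := H21Dyn.connectedSpace_centralizer_split A T eT heT (j ≫ ρ) Z' z' fun X g => by
    refine (hfixA X g).trans (forall_congr' fun X' => forall_congr' fun x => forall_congr' fun t => ?_)
    have h := hbact X' t (x ≫ g)
    simp only [Category.comp_id] at h
    rw [h, mul_inv_eq_iff_eq_mul, eq_comm]
  obtain ⟨_, hz'hom⟩ := H21Fix.exists_grpObj_fixed b hbmul z' hfixA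
  haveI := hz'hom
  have hequiv : (T ◁ ρ) ≫ b.act = a.act ≫ ρ := by
    have h1 := hbact (T ⊗ G) (fst T G) (snd T G ≫ ρ)
    have h2 := congrArg (· ≫ ρ) (hact (T ⊗ G) (fst T G) (snd T G))
    simp only [Category.comp_id, lift_fst_snd, Category.id_comp, MonObj.mul_comp, GrpObj.inv_comp,
      Category.assoc] at h1 h2
    rw [h2, ← h1]
    congr 1
  obtain ⟨g, hg⟩ := (hfixA C (c ≫ ρ)).mpr fun X' x t => by
    have h := (hfix _ c).mp ⟨𝟙 C, Category.id_comp c⟩ X' x t
    have h' := congrArg (lift t (x ≫ c) ≫ ·) hequiv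
    simp only [← Category.assoc, lift_whiskerLeft] at h'
    rw [← Category.assoc x c ρ]
    exact h'.trans (congrArg (· ≫ ρ) h)
  haveI := hC.1
  haveI : IsMonHom g := H21Diag.isMonHom_of_mul g fun p p' => by
    rw [← cancel_mono z', MonObj.mul_comp _ _ z', Category.assoc, Category.assoc, Category.assoc, hg,
      ← Category.assoc, MonObj.mul_comp, MonObj.mul_comp, Category.assoc, Category.assoc]
  -- it is smooth
  let φ : (Spec (CommRingCat.of (H21Dyn.Lat k n))).asOver (Spec (CommRingCat.of k)) ⟶ T := eT.hom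
  haveI : LocallyOfFiniteType (c.left ≫ G.hom) := inferInstance
  haveI : LocallyOfFiniteType (g.left ≫ Z'.hom) := by rw [Over.w g, ← Over.w c]; infer_instance
  haveI : LocallyOfFiniteType g.left := locallyOfFiniteType_of_comp g.left Z'.hom
  haveI : LocallyOfFiniteType Z'.hom := by rw [← Over.w z']; infer_instance
  haveI : IsLocallyNoetherian Z'.left := LocallyOfFiniteType.isLocallyNoetherian Z'.hom
  haveI : LocallyOfFinitePresentation g.left := H12AlgSp.lfp_of_lft_of_isLocallyNoetherian g.left
  haveI : Smooth g.left := H21Fix.smooth_fixedLocus (H21Fix.integralMonoidAlgebra k _) (a.restrict φ) (b.restrict φ) ρ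
    (by simp only [AlgGrp.Action.restrict_act, Category.assoc, ← hequiv, whisker_exchange_assoc]) c z'
    (H21Fix.isFixedLocusOver_restrict hfix φ) (H21Fix.isFixedLocusOver_restrict hfixA φ) g hg
  -- it is surjective
  have hopen : IsOpenMap g.left := g.left.isOpenMap
  have hclosed := S0352.result k C Z' g hopen.isOpen_range
  have hsurj : Function.Surjective g.left := by
    refine Set.range_eq_univ.mp ((isClopen_iff.mp ⟨hclosed, hopen.isOpen_range⟩).resolve_left fun h => ?_)
    exact (Set.eq_empty_iff_forall_notMem.mp h) _ ⟨η[C].left (IsLocalRing.closedPoint k : PrimeSpectrum k), rfl⟩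
  -- the kernel
  haveI : LocallyOfFiniteType (H19Grp.AffinizationKernel.N G).hom := by rw [← Over.w ν]; infer_instance
  haveI : QuasiCompact (H19Grp.AffinizationKernel.N G).hom := by rw [← Over.w ν]; infer_instance
  have hcentral : ∀ (X' : Over (Spec (CommRingCat.of k))) (x : X' ⟶ H19Grp.AffinizationKernel.N G) (t : X' ⟶ T),
      (x ≫ ν) * (t ≫ j) = (t ≫ j) * (x ≫ ν) := fun X' x t => by
    have := S7996.result k (H19Grp.AffinizationKernel.N G) G ((H19Grp.AntiAffine.isIso_appTop_iff _).mp hO) ν
      X' x X' (𝟙 _) (t ≫ j)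
    simpa using this
  obtain ⟨νC, hνC⟩ := (hC.2.2 _ ν).mpr fun X' x t => hcentral X' x t
  have hkerC : AlgGrp.IsKernel νC g := by
    refine H19Grp.isKernel_of ?_ (fun X p p' h => ?_) fun X x hx => ?_
    · rw [← cancel_mono z', Category.assoc, hg, ← Category.assoc, hνC, hνρ, MonObj.one_comp]
    · rw [← cancel_mono ν, ← hνC, ← Category.assoc, h, Category.assoc]
    · obtain ⟨w, hw⟩ := H19Grp.kernel_lift hker (x ≫ c) (by
        rw [Category.assoc, ← hg, ← Category.assoc, hx, MonObj.one_comp])
      exact ⟨w, by rw [← cancel_mono c, Category.assoc, hνC, hw]⟩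
  haveI : GeometricallyIrreducible (H19Grp.AffinizationKernel.N G).hom :=
    H19Grp.geometricallyIrreducible_of_connectedSpace_group _
  exact H21Fix.connectedSpace_of_fibres hopen hsurj fun y => H21Fix.isPreconnected_fibre g νC hkerC y

end Groth.Agent.S8407
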