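import Groth.Statements.S8409
import Groth.Agent.H20Borel.AlgGroupNorm
import Groth.Agent.H21Nilp.Torus
import Groth.Agent.S3929
import Groth.Agent.S8406

set_option autoImplicit false
set_option linter.style.haveILetI false
set_option backward.isDefEq.respectTransparency false
set_option synthInstance.maxHeartbeats 400000
set_option maxHeartbeats 1000000
universe u
open CategoryTheory MonoidalCategory CartesianMonoidalCategory MonObj GrpObj AlgebraicGeometry
open SGA3x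

namespace Groth.Agent.S8409

open Groth.Agent.H27Witt

variable {k : Type u} [Field k] [IsAlgClosed k] {G : Over (Sk k)} [GrpObj G] [Smooth G.hom] [QuasiCompact G.hom]
  [ConnectedSpace G.left]

theorem central_of_nilpotent (h : Group.IsNilpotent (𝟙_ (Over (Sk k)) ⟶ G)) {T : Over (Sk k)} [GrpObj T] (j : T ⟶ G)
    [IsMonHom j] (hT : Red.IsTorus T) (X : Over (Sk k)) (t : X ⟶ T) (g : X ⟶ G) :
    (t ≫ j) * g = g * (t ≫ j) := by
  obtain ⟨L, gL, l, hl⟩ := H20Borel.exists_isAffPart (G := G)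
  haveI := hl.hom; haveI := hl.closed; haveI := hl.affine; haveI := hl.smooth; haveI := hl.conn
  haveI : Mono l := Over.mono_of_mono_left _
  let ψ : (𝟙_ (Over (Sk k)) ⟶ L) →* (𝟙_ (Over (Sk k)) ⟶ G) :=
    MonoidHom.mk' (fun a => a ≫ l) fun a b => MonObj.mul_comp a b l
  haveI := h
  obtain ⟨n, hn⟩ := h.nilpotent'
  haveI : Group.IsNilpotent (𝟙_ (Over (Sk k)) ⟶ L) := ⟨⟨n, eq_top_iff.2 fun x _ => by
    have : ∀ m, (Subgroup.upperCentralSeries (𝟙_ (Over (Sk k)) ⟶ G) m).comap ψ ≤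
        Subgroup.upperCentralSeries (𝟙_ (Over (Sk k)) ⟶ L) m := by
      intro m
      induction m with
      | zero =>
        intro y hy
        rw [Subgroup.mem_comap, Subgroup.upperCentralSeries_zero, Subgroup.mem_bot] at hy
        rw [Subgroup.upperCentralSeries_zero, Subgroup.mem_bot]
        exact (cancel_mono l).1 (hy.trans (MonObj.one_comp l).symm)
      | succ m ih =>
        intro y hy
        rw [Subgroup.mem_comap, Subgroup.mem_upperCentralSeries_succ_iff] at hy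
        refine Subgroup.mem_upperCentralSeries_succ_iff.2 fun z => ih ?_
        rw [Subgroup.mem_comap, map_commutatorElement]
        exact hy (ψ z)
    exact this n (by simp [Subgroup.mem_comap, hn])⟩⟩
  obtain ⟨hTa, hTs, hTc⟩ := H20Borel.torus_props T hT
  haveI := hTs
  obtain ⟨v, hv, hvm⟩ := hl.univ T j hTa hTs hTc
  haveI := hvm
  haveI : IsSeparated G.hom := Groth.Agent.H19Grp.AffineQuotient.isSeparated_of_grp G
  have e := H20Borel.commute_of_pts j (𝟙 G) (fun x y => by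
    obtain ⟨a, m, hy⟩ := hl.decomp y
    have h1 : (x ≫ v) * a = a * (x ≫ v) := by
      have := Groth.Agent.H21Nilp.torus_central v hT _ x a
      exact this
    have h2 := congrArg (· ≫ l) h1
    simp only [MonObj.mul_comp, Category.assoc, hv] at h2
    rw [Category.comp_id, hy, ← _root_.mul_assoc, h2, _root_.mul_assoc, ← H20Borel.antiAffine_comm m,
      ← _root_.mul_assoc]) t g
  rwa [Category.comp_id] at e

theorem unique_of_central
    (h : ∀ (T : Over (Sk k)) [GrpObj T] (j : T ⟶ G) [IsMonHom j] [Mono j], Red.IsTorus T →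
      ∀ (X : Over (Sk k)) (t : X ⟶ T) (g : X ⟶ G), (t ≫ j) * g = g * (t ≫ j))
    {T₁ T₂ : Over (Sk k)} [GrpObj T₁] [GrpObj T₂] {i₁ : T₁ ⟶ G} {i₂ : T₂ ⟶ G}
    (h₁ : Red.IsMaximalTorus i₁) (h₂ : Red.IsMaximalTorus i₂) : ∃ φ : T₁ ≅ T₂, φ.hom ≫ i₂ = i₁ := by
  obtain ⟨g, φ, hφ⟩ := Groth.Agent.S8406.result k G T₁ T₂ i₁ i₂ h₁ h₂
  haveI := h₁.1; haveI := h₁.2.1
  have e := h T₁ i₁ h₁.2.2.1 T₁ (𝟙 T₁) (toUnit T₁ ≫ g)
  rw [Category.id_comp] at e
  exact ⟨φ, by rw [← hφ, ← e, mul_inv_cancel_right]⟩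

theorem nilpotent_of_unique
    (h : ∀ (T₁ T₂ : Over (Sk k)) [GrpObj T₁] [GrpObj T₂] (i₁ : T₁ ⟶ G) (i₂ : T₂ ⟶ G),
      Red.IsMaximalTorus i₁ → Red.IsMaximalTorus i₂ → ∃ φ : T₁ ≅ T₂, φ.hom ≫ i₂ = i₁) :
    Group.IsNilpotent (𝟙_ (Over (Sk k)) ⟶ G) := by
  obtain ⟨L, gL, l, hl⟩ := H20Borel.exists_isAffPart (G := G)
  haveI := hl.hom; haveI := hl.closed; haveI := hl.affine; haveI := hl.smooth; haveI := hl.conn
  haveI : Mono l := Over.mono_of_mono_left _
  have hup : ∀ (T : Over (Sk k)) [GrpObj T] (v : T ⟶ L), AGF.IsMaxTorus v → Red.IsMaximalTorus (v ≫ l) := by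
    intro T _ v hv
    obtain ⟨hm, hmo, hT, hmax⟩ := hv
    replace hmax := PLift.up hmax
    haveI := hm; haveI := hmo
    refine H20Borel.isMaximalTorus_of_isMax ⟨inferInstance, inferInstance, hT, fun Z _ j _ _ f hZ hf => ?_⟩
    obtain ⟨hZa, hZs, hZc⟩ := H20Borel.torus_props Z hZ
    obtain ⟨j', hj', hj'm⟩ := hl.univ Z j hZa hZs hZc
    haveI := hj'm
    haveI : Mono (j' ≫ l) := hj'.symm ▸ inferInstance
    haveI : Mono j' := mono_of_mono j' l
    exact hmax.down Z j' f hZ ((cancel_mono l).1 (by rw [Category.assoc, hj', hf]))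
  obtain ⟨n, hn⟩ := Groth.Agent.S3929.result k L fun T T' _ _ v v' hv hv' => by
    obtain ⟨φ, hφ⟩ := h T T' (v ≫ l) (v' ≫ l) (hup T v hv) (hup T' v' hv')
    exact ⟨φ, (cancel_mono l).1 (by rw [Category.assoc, hφ])⟩
  haveI : Group.IsNilpotent (𝟙_ (Over (Sk k)) ⟶ L) := ⟨⟨n, hn _⟩⟩
  let ψ : (𝟙_ (Over (Sk k)) ⟶ L) →*
      (𝟙_ (Over (Sk k)) ⟶ G) ⧸ Subgroup.center (𝟙_ (Over (Sk k)) ⟶ G) :=
    (QuotientGroup.mk' _).comp (MonoidHom.mk' (fun a => a ≫ l) fun a b => MonObj.mul_comp a b l)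
  haveI : Group.IsNilpotent ((𝟙_ (Over (Sk k)) ⟶ G) ⧸ Subgroup.center (𝟙_ (Over (Sk k)) ⟶ G)) :=
    Group.nilpotent_of_surjective ψ fun q => by
      obtain ⟨g, rfl⟩ := QuotientGroup.mk'_surjective _ q
      obtain ⟨x, m, hg⟩ := hl.decomp g
      refine ⟨x, (QuotientGroup.eq (a := x ≫ l) (b := g)).mpr ?_⟩
      rw [hg, inv_mul_cancel_left]
      exact Subgroup.mem_center_iff.mpr fun y => (H20Borel.antiAffine_comm m y).symm
  exact Group.of_quotient_center_nilpotent inferInstance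

/-- Let G be a smooth connected algebraic group (not necessarily affine) over an algebraically closed
field k. Then G is nilpotent (the group G(k) is nilpotent) if and only if every torus in G is
central, if and only if G has only one maximal torus. (The published statement adds that the unique
maximal torus is then the largest subtorus of G; this row omits that clause.) -/
theorem result (k : Type u) [Field k] [IsAlgClosed k]
    (G : Over (Spec (CommRingCat.of k))) [GrpObj G] [Smooth G.hom] [QuasiCompact G.hom] [ConnectedSpace ↥G.left] :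
    (Group.IsNilpotent (𝟙_ (Over (Spec (CommRingCat.of k))) ⟶ G) ↔
      ∀ (T : Over (Spec (CommRingCat.of k))) [GrpObj T] (j : T ⟶ G) [IsMonHom j] [Mono j], Red.IsTorus T →
        ∀ (X : Over (Spec (CommRingCat.of k))) (t : X ⟶ T) (g : X ⟶ G), (t ≫ j) * g = g * (t ≫ j)) ∧
    (Group.IsNilpotent (𝟙_ (Over (Spec (CommRingCat.of k))) ⟶ G) ↔
      ∀ (T₁ T₂ : Over (Spec (CommRingCat.of k))) [GrpObj T₁] [GrpObj T₂] (i₁ : T₁ ⟶ G) (i₂ : T₂ ⟶ G),
        Red.IsMaximalTorus i₁ → Red.IsMaximalTorus i₂ → ∃ φ : T₁ ≅ T₂, φ.hom ≫ i₂ = i₁) := by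
  refine ⟨⟨fun h T _ j _ _ hT => central_of_nilpotent h j hT, fun h => ?_⟩,
    ⟨fun h T₁ T₂ _ _ i₁ i₂ h₁ h₂ => unique_of_central (fun T _ j _ _ hT => central_of_nilpotent h j hT) h₁ h₂, fun h => ?_⟩⟩
  · exact nilpotent_of_unique fun T₁ T₂ _ _ i₁ i₂ h₁ h₂ => unique_of_central h h₁ h₂
  · exact nilpotent_of_unique h

end Groth.Agent.S8409
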