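import Groth.Statements.S8422
import Groth.Agent.H20Borel.AlgGroupNorm

set_option autoImplicit false
set_option linter.style.haveILetI false
set_option backward.isDefEq.respectTransparency false
set_option synthInstance.maxHeartbeats 400000
set_option maxHeartbeats 1000000
universe u
open CategoryTheory MonoidalCategory CartesianMonoidalCategory MonObj GrpObj AlgebraicGeometry
open SGA3x

namespace Groth.Agent.S8422

/-- Borel subgroups are Borel subgroups of the identity component. -/
theorem borel_lift {k : Type u} [Field k] [IsAlgClosed k] {G E B : Over (Spec (CommRingCat.of k))} [GrpObj G]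
    [GrpObj E] [GrpObj B] (e : E ⟶ G) [IsMonHom e] [IsClosedImmersion e.left]
    (huniv : ∀ (H : Over (Spec (CommRingCat.of k))) [GrpObj H] (i : H ⟶ G) [IsMonHom i], ConnectedSpace H.left →
      ∃ v : H ⟶ E, v ≫ e = i ∧ IsMonHom v)
    {b : B ⟶ G} (hb : Red.IsBorelOver k b) : ∃ v : B ⟶ E, v ≫ e = b ∧ Red.IsBorelOver k v := by
  obtain ⟨hm, hbc, hBs, hBn, hsol, hmax⟩ := hb
  replace hmax := PLift.up hmax
  haveI := hm; haveI := hbc
  obtain ⟨v, hv, hvm⟩ := huniv B b hBn
  haveI : IsClosedImmersion (v.left ≫ e.left) := by rw [← Over.comp_left, hv]; infer_instance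
  haveI : IsClosedImmersion v.left := IsClosedImmersion.of_comp v.left e.left
  refine ⟨v, hv, hvm, inferInstance, hBs, hBn, hsol, fun B' _ i' _ f hi' hs hn hsol' hf => ?_⟩
  haveI := hi'
  haveI : IsClosedImmersion (i' ≫ e).left := by rw [Over.comp_left]; infer_instance
  exact hmax.down B' (i' ≫ e) f inferInstance hs hn hsol' (by rw [← Category.assoc, hf, hv])


/-- Let G be a smooth algebraic group (not necessarily affine) over an algebraically closed field k.
Then the Borel subgroups of G are conjugate; the maximal tori of a Borel subgroup B are maximal tori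
of G; and if G is connected, the Cartan subgroups of B are Cartan subgroups of G. (The published
statement also asserts that G/B is projective; this row omits that assertion.) -/
theorem result (k : Type u) [Field k] [IsAlgClosed k]
    (G : Over (Spec (CommRingCat.of k))) [GrpObj G] [Smooth G.hom] [QuasiCompact G.hom] :
    (∀ (B₁ B₂ : Over (Spec (CommRingCat.of k))) [GrpObj B₁] [GrpObj B₂] (b₁ : B₁ ⟶ G) (b₂ : B₂ ⟶ G),
      Red.IsBorelOver k b₁ → Red.IsBorelOver k b₂ → ∃ g : 𝟙_ (Over (Spec (CommRingCat.of k))) ⟶ G, SGA3x.ConjBy b₁ b₂ g) ∧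
    (∀ (B : Over (Spec (CommRingCat.of k))) [GrpObj B] (b : B ⟶ G), Red.IsBorelOver k b →
      ∀ (T : Over (Spec (CommRingCat.of k))) [GrpObj T] (t : T ⟶ B), Red.IsMaximalTorus t → Red.IsMaximalTorus (t ≫ b)) ∧
    (ConnectedSpace ↥G.left → ∀ (B : Over (Spec (CommRingCat.of k))) [GrpObj B] (b : B ⟶ G), Red.IsBorelOver k b →
      ∀ (C : Over (Spec (CommRingCat.of k))) [GrpObj C] (c : C ⟶ B), SGA3x.IsCartanOver k c → SGA3x.IsCartanOver k (c ≫ b)) := by
  refine ⟨fun B₁ B₂ _ _ b₁ b₂ h₁ h₂ => ?_, fun B _ b hb T _ t ht => ?_, fun hn B _ b hb C _ c hc => ?_⟩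
  · obtain ⟨E, gE, e, he, hec, hEn, hEs, hEq, huniv⟩ := H20Borel.exists_neutral G
    haveI := he; haveI := hec; haveI := hEn; haveI := hEs; haveI := hEq
    obtain ⟨v₁, hv₁, hb₁⟩ := borel_lift e huniv h₁
    obtain ⟨v₂, hv₂, hb₂⟩ := borel_lift e huniv h₂
    obtain ⟨g, φ, hφ⟩ := H20Borel.exists_conj_borel hb₁ hb₂
    refine ⟨g ≫ e, φ, ?_⟩
    rw [← hv₂, ← Category.assoc φ.hom, hφ, AGF.conjBy, MonObj.mul_comp, MonObj.mul_comp, GrpObj.inv_comp, hv₁,
      Category.assoc]
  · obtain ⟨E, gE, e, he, hec, hEn, hEs, hEq, huniv⟩ := H20Borel.exists_neutral G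
    haveI := he; haveI := hec; haveI := hEn; haveI := hEs; haveI := hEq
    obtain ⟨v, hv, hbE⟩ := borel_lift e huniv hb
    haveI : Mono e := Over.mono_of_mono_left _
    have hTE := H20Borel.isMaxTorus_comp_borel hbE t (H20Conj.isMaxTorus_of_isMaximalTorus ht)
    obtain ⟨hm, hmo, hT, hmax⟩ := hTE
    replace hmax := PLift.up hmax
    haveI := hm; haveI := hmo
    have htb : t ≫ b = (t ≫ v) ≫ e := by rw [Category.assoc, hv]
    rw [htb]
    refine H20Borel.isMaximalTorus_of_isMax ⟨inferInstance, inferInstance, hT, fun Z _ j _ _ f hZ hf => ?_⟩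
    obtain ⟨hZa, hZs, hZc⟩ := H20Borel.torus_props Z hZ
    obtain ⟨j', hj', hj'm⟩ := huniv Z j hZc
    haveI := hj'm
    haveI : Mono (j' ≫ e) := hj'.symm ▸ inferInstance
    haveI : Mono j' := mono_of_mono j' e
    exact hmax.down Z j' f hZ ((cancel_mono e).1 (by rw [Category.assoc, hj', hf]))
  · haveI := hn
    obtain ⟨hcm, hcmo, T, gT, i, hi, hic⟩ := hc
    haveI := hcm; haveI := hcmo; haveI := hb.1; haveI := hb.2.1
    haveI : Mono b := Over.mono_of_mono_left _
    have hTG := H20Borel.isMaxTorus_comp_borel hb i (H20Conj.isMaxTorus_of_isMaximalTorus hi)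
    refine ⟨inferInstance, inferInstance, T, gT, i ≫ b, H20Borel.isMaximalTorus_of_isMax hTG, inferInstance,
      inferInstance, fun X g => ⟨?_, fun hg => ?_⟩⟩
    · rintro ⟨z, rfl⟩ X' x h
      have e := (hic.2.2 X (z ≫ c)).mp ⟨z, rfl⟩ X' x h
      have e' := congrArg (· ≫ b) e
      simpa only [MonObj.mul_comp, Category.assoc] using e'
    · obtain ⟨y, rfl⟩ := H20Borel.mem_borel_of_commute hb i (H20Conj.isMaxTorus_of_isMaximalTorus hi) g hg
      obtain ⟨z, hz⟩ := (hic.2.2 X y).mpr fun X' x h => (cancel_mono b).1 (by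
        simpa only [MonObj.mul_comp, Category.assoc] using hg X' x h)
      exact ⟨z, by rw [← Category.assoc, hz]⟩

end Groth.Agent.S8422
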