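import Groth.Statements.S8423
import Groth.Agent.H21Aff.Borel
import Groth.Agent.H20Borel.Exists
import Groth.Agent.S3910

set_option autoImplicit false
universe u
open CategoryTheory MonoidalCategory CartesianMonoidalCategory MonObj GrpObj AlgebraicGeometry
open SGA3x

set_option linter.style.haveILetI false
set_option backward.isDefEq.respectTransparency false
set_option synthInstance.maxHeartbeats 400000
set_option maxHeartbeats 1000000

namespace Groth.Agent.S8423

/-- Let G be a smooth connected algebraic group (not necessarily affine) over an algebraically closed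
field k. Then every element of G(k) is contained in a Borel subgroup of G. -/
theorem result (k : Type u) [Field k] [IsAlgClosed k]
    (G : Over (Spec (CommRingCat.of k))) [GrpObj G] [Smooth G.hom] [QuasiCompact G.hom] [ConnectedSpace ↥G.left]
    (g : 𝟙_ (Over (Spec (CommRingCat.of k))) ⟶ G) :
    ∃ (B : Over (Spec (CommRingCat.of k))) (_ : GrpObj B) (b : B ⟶ G), Red.IsBorelOver k b ∧ ∃ g' : 𝟙_ (Over (Spec (CommRingCat.of k))) ⟶ B, g' ≫ b = g := by
  obtain ⟨L, gL, l, hl, hlc, hLa, hLs, hLc, hdec⟩ := H21Aff.exists_pts_decomp G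
  haveI := hl; haveI := hlc; haveI := hLa; haveI := hLs; haveI := hLc
  obtain ⟨x, m, hg⟩ := hdec g
  obtain ⟨B₀, gB₀, b₀, hB₀⟩ := H20Borel.exists_isBorelOver (G := L)
  obtain ⟨y, z, hz⟩ := S3910.result k L B₀ b₀ hB₀ x
  obtain ⟨hb₀, hb₀c, hB₀s, hB₀n, hB₀sol, -⟩ := hB₀
  haveI := hb₀; haveI := hb₀c; haveI := hB₀s; haveI := hB₀n
  -- conjugate inside the affine part
  let c : L ⟶ L := H20Mu.conj y⁻¹
  have hc : z ≫ b₀ ≫ c = x := by
    rw [← Category.assoc, H20Mu.comp_conj, GrpObj.comp_inv, _root_.inv_inv, toUnit_unique (toUnit _) (𝟙 _), Category.id_comp]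
    exact hz
  haveI : IsIso c := ⟨H20Mu.conj y, by
    have h := H20Mu.comp_conj_conj y⁻¹ (𝟙 L)
    rwa [Category.id_comp, _root_.inv_inv] at h, by
    have h := H20Mu.comp_conj_conj y (𝟙 L)
    rwa [Category.id_comp] at h⟩
  haveI : IsIso c.left := inferInstanceAs (IsIso ((Over.forget _).map c))
  haveI : IsMonHom (b₀ ≫ c ≫ l) := inferInstance
  haveI : IsClosedImmersion (b₀ ≫ c ≫ l).left := by rw [Over.comp_left, Over.comp_left]; infer_instance
  obtain ⟨C, gC, cC, hC, hCc, hCs, hCn, hCsol, hpts⟩ :=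
    H21Aff.exists_solvable_with_antiAffine G B₀ (b₀ ≫ c ≫ l) hB₀sol
  haveI := hC; haveI := hCc
  obtain ⟨w, hw⟩ := hpts z m
  obtain ⟨B, gB, b, hB, f, hf⟩ := H21Aff.exists_borel_ge G C cC hCs hCn hCsol
  refine ⟨B, gB, b, hB, w ≫ f, ?_⟩
  rw [Category.assoc, hf, hw, hg, ← hc]
  simp only [Category.assoc]

end Groth.Agent.S8423
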