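import Groth.Statements.S8424
import Groth.Agent.H20Borel.AlgGroupNorm

set_option autoImplicit false
set_option linter.style.haveILetI false
set_option backward.isDefEq.respectTransparency false
set_option synthInstance.maxHeartbeats 400000
set_option maxHeartbeats 1000000
universe u
open CategoryTheory MonoidalCategory CartesianMonoidalCategory MonObj GrpObj AlgebraicGeometry
open SGA3x

namespace Groth.Agent.S8424

open Groth.Agent.H27Witt in
open scoped commutatorElement in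
/-- In a connected solvable group, normalizing a maximal torus is centralizing it. -/
theorem commute_of_normalizes {k : Type u} [Field k] [IsAlgClosed k] {B T X : Over (Sk k)} [GrpObj B] [GrpObj T]
    [Smooth B.hom] [QuasiCompact B.hom] [ConnectedSpace B.left] (hsol : Red.IsSolvableGrp B) {i : T ⟶ B}
    (hT : Red.IsMaximalTorus i) (g : X ⟶ B)
    (hg : ∀ (X' : Over (Sk k)) (x : X' ⟶ X) (h : X' ⟶ T),
      (∃ h' : X' ⟶ T, (x ≫ g) * (h ≫ i) * (x ≫ g)⁻¹ = h' ≫ i) ∧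
      (∃ h' : X' ⟶ T, (x ≫ g)⁻¹ * (h ≫ i) * (x ≫ g) = h' ≫ i))
    (X' : Over (Sk k)) (x : X' ⟶ X) (h : X' ⟶ T) : (x ≫ g) * (h ≫ i) = (h ≫ i) * (x ≫ g) := by
  obtain ⟨L, gL, l, hl⟩ := H20Borel.exists_isAffPart (G := B)
  haveI := hl.hom; haveI := hl.closed; haveI := hl.affine; haveI := hl.smooth; haveI := hl.conn
  haveI : Mono l := Over.mono_of_mono_left _
  obtain ⟨v, hv, hvT⟩ := H20Borel.exists_torus_affPart hl hT
  haveI := hT.1; haveI := hT.2.1; haveI := hvT.1; haveI := hvT.2.1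
  obtain ⟨hTa, hTs, hTc⟩ := H20Borel.torus_props T hT.2.2.1
  haveI := hTs
  haveI : IsClosedImmersion v.left := H20Borel.isClosedImmersion_torus v hT.2.2.1
  haveI : IsClosedImmersion i.left := by rw [← hv, Over.comp_left]; infer_instance
  haveI : LocallyOfFinitePresentation B.hom := inferInstance
  haveI : IsSeparated B.hom := Groth.Agent.H19Grp.AffineQuotient.isSeparated_of_grp B
  haveI : QuasiSeparated B.hom := inferInstance
  obtain ⟨-, N, gN, n, hn, -, hNs⟩ := Groth.Agent.S3006.result (Sk k) B T i inferInstance hT.2.2.1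
  letI := gN; haveI := hNs
  have hpts : ∀ (p : 𝟙_ (Over (Sk k)) ⟶ N) (t : 𝟙_ (Over (Sk k)) ⟶ T),
      (p ≫ n) * (t ≫ i) = (t ≫ i) * (p ≫ n) := by
    intro p t
    obtain ⟨⟨t', ht'⟩, -⟩ := (hn.2.2 _ (p ≫ n)).mp ⟨p, rfl⟩ _ (𝟙 _) t
    rw [Category.id_comp] at ht'
    obtain ⟨y, m, hym⟩ := hl.decomp (p ≫ n)
    rw [hym, ← hv] at ht' ⊢
    have hc : (m ≫ Groth.Agent.H19Grp.AffinizationKernel.incl B) * (t ≫ v ≫ l) =
        (t ≫ v ≫ l) * (m ≫ Groth.Agent.H19Grp.AffinizationKernel.incl B) := H20Borel.antiAffine_comm m _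
    have e1 : y * (t ≫ v) * y⁻¹ = t' ≫ v := (cancel_mono l).1 (by
      simp only [MonObj.mul_comp, GrpObj.inv_comp, Category.assoc]
      rw [← ht', _root_.mul_inv_rev, _root_.mul_assoc (y ≫ l) _ (t ≫ v ≫ l), hc]
      group)
    have e2 : (t' * t⁻¹) ≫ v = ⁅y, t ≫ v⁆ ≫ 𝟙 L := by
      rw [Category.comp_id, commutatorElement_def, e1, MonObj.mul_comp, GrpObj.inv_comp]
    have e3 := H20Borel.commutator_eq_one_of_mem_torus (H20Borel.isSolvableGrp_mono l hsol) (𝟙 L) v hT.2.2.1 y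
      (t ≫ v) _ e2
    rw [MonObj.mul_comp, GrpObj.inv_comp, mul_inv_eq_one] at e3
    rw [e3] at e1
    have e4 := congrArg (· ≫ l) (mul_inv_eq_iff_eq_mul.mp e1)
    simp only [MonObj.mul_comp, Category.assoc] at e4
    rw [_root_.mul_assoc, hc, ← _root_.mul_assoc, e4, _root_.mul_assoc]
  obtain ⟨z, hz⟩ := (hn.2.2 X g).mpr hg
  rw [← hz, ← Category.assoc]
  exact H20Borel.commute_of_pts n i hpts (x ≫ z) h


/-- Let G be a smooth algebraic group (not necessarily affine) over an algebraically closed field k, B a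
Borel subgroup of G, C a Cartan subgroup of B and N the normalizer of C in G. Then N ∩ B = C: a
point of G with values in a k-scheme factors through N and through B if and only if it factors
through C. -/
theorem result (k : Type u) [Field k] [IsAlgClosed k]
    (G : Over (Spec (CommRingCat.of k))) [GrpObj G] [Smooth G.hom] [QuasiCompact G.hom]
    (B : Over (Spec (CommRingCat.of k))) [GrpObj B] (b : B ⟶ G) (hB : Red.IsBorelOver k b)
    (C : Over (Spec (CommRingCat.of k))) [GrpObj C] (c : C ⟶ B) (hC : SGA3x.IsCartanOver k c)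
    (N : Over (Spec (CommRingCat.of k))) [GrpObj N] (n : N ⟶ G) (hN : Red.IsNormalizerOf (c ≫ b) n)
    (X : Over (Spec (CommRingCat.of k))) (g : X ⟶ G) :
    ((∃ x : X ⟶ N, x ≫ n = g) ∧ (∃ y : X ⟶ B, y ≫ b = g)) ↔ ∃ z : X ⟶ C, z ≫ c ≫ b = g := by
  obtain ⟨hcm, hcmo, T, gT, i, hi, hic⟩ := hC
  haveI := hcm; haveI := hcmo; haveI := hB.1; haveI := hB.2.1; haveI := hB.2.2.1; haveI := hB.2.2.2.1
  haveI : Mono b := Over.mono_of_mono_left _
  haveI : QuasiCompact B.hom := by rw [← Over.w b]; infer_instance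
  constructor
  · rintro ⟨⟨x, hx⟩, ⟨y, hy⟩⟩
    have hnC : ∀ (X' : Over (Spec (CommRingCat.of k))) (p : X' ⟶ X) (h : X' ⟶ C),
        (∃ h' : X' ⟶ C, (p ≫ y) * (h ≫ c) * (p ≫ y)⁻¹ = h' ≫ c) ∧
        (∃ h' : X' ⟶ C, (p ≫ y)⁻¹ * (h ≫ c) * (p ≫ y) = h' ≫ c) := by
      intro X' p h
      obtain ⟨⟨h', e'⟩, ⟨h'', e''⟩⟩ := (hN.2.2 X g).mp ⟨x, hx⟩ X' p h
      refine ⟨⟨h', (cancel_mono b).1 ?_⟩, ⟨h'', (cancel_mono b).1 ?_⟩⟩ <;>
        simpa only [MonObj.mul_comp, GrpObj.inv_comp, Category.assoc, hy]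
    have hnT := (H20Borel.normalizes_cartan_iff hi hic y).mp hnC
    obtain ⟨z, hz⟩ := (hic.2.2 X y).mpr fun X' p h => commute_of_normalizes hB.2.2.2.2.1 hi y hnT X' p h
    exact ⟨z, by rw [← Category.assoc, hz, hy]⟩
  · rintro ⟨z, rfl⟩
    refine ⟨(hN.2.2 X _).mpr fun X' p h => ?_, ⟨z ≫ c, by rw [Category.assoc]⟩⟩
    refine ⟨⟨(p ≫ z) * h * (p ≫ z)⁻¹, ?_⟩, ⟨(p ≫ z)⁻¹ * h * (p ≫ z), ?_⟩⟩ <;>
      simp only [MonObj.mul_comp, GrpObj.inv_comp, Category.assoc]

end Groth.Agent.S8424
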