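import Groth.Statements.S8441
import Mathlib.LinearAlgebra.RootSystem.Base
import Mathlib.LinearAlgebra.RootSystem.Defs

set_option autoImplicit false
universe u v w
open SGA3t2b

namespace Groth.Agent.S8441

/-- Let R be a root system with a system of simple roots a₁, …, aₙ and simple reflections rᵢ, and put θᵢ
= rₙ ⋯ rᵢ₊₁(aᵢ). Then the θᵢ form a basis of the group generated by the roots. Stated for a root
pairing over ℤ (Mathlib) with a base whose support is enumerated by Fin n: the θᵢ are ℤ-linearly
independent and their ℤ-span is the ℤ-span of all roots. -/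
theorem result {ι : Type u} {M : Type v} {N : Type w} [AddCommGroup M] [Module ℤ M]
    [AddCommGroup N] [Module ℤ N] (P : RootPairing ι ℤ M N) (b : P.Base) (n : ℕ) (e : Fin n ≃ ↥b.support) :
    LinearIndependent ℤ (fun i : Fin n =>
      ((List.finRange n).filter (fun j => i < j)).foldl (fun x j => P.reflection (e j : ι) x) (P.root (e i : ι))) ∧
    Submodule.span ℤ (Set.range (fun i : Fin n =>
      ((List.finRange n).filter (fun j => i < j)).foldl (fun x j => P.reflection (e j : ι) x) (P.root (e i : ι)))) =
      Submodule.span ℤ (Set.range P.root) := by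
  rename_i iA iM iB iN
  obtain rfl : iM = AddCommGroup.toIntModule M := Subsingleton.elim _ _
  classical
  let a : Fin n → M := fun i => P.root (e i : ι)
  let θ : Fin n → M := fun i =>
    ((List.finRange n).filter (fun j => i < j)).foldl (fun x j => P.reflection (e j : ι) x) (P.root (e i : ι))
  have hfold : ∀ (L : List (Fin n)) (x : M), L.foldl (fun x j => P.reflection (e j : ι) x) x - x ∈
      Submodule.span ℤ (a '' {j | j ∈ L}) := by
    intro L
    induction L with
    | nil => intro x; simp
    | cons j L ih =>
      intro x
      rw [List.foldl_cons]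
      have h1 := ih (P.reflection (e j : ι) x)
      have hmono : Submodule.span ℤ (a '' {i | i ∈ L}) ≤ Submodule.span ℤ (a '' {i | i ∈ j :: L}) :=
        Submodule.span_mono (Set.image_mono fun i (hi : i ∈ L) => List.mem_cons_of_mem _ hi)
      have h2 : P.reflection (e j : ι) x - x ∈ Submodule.span ℤ (a '' {i | i ∈ j :: L}) := by
        rw [P.reflection_apply, sub_sub_cancel_left]
        exact neg_mem (Submodule.smul_mem _ _ (Submodule.subset_span ⟨j, List.mem_cons_self, rfl⟩))
      simpa using add_mem (hmono h1) h2
  have hd : ∀ i, ∃ d : Fin n → ℤ, (∀ j, ¬ i < j → d j = 0) ∧ θ i = a i + ∑ j, d j • a j := by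
    intro i
    have h := hfold ((List.finRange n).filter (fun j => i < j)) (P.root (e i : ι))
    rw [Finsupp.mem_span_image_iff_linearCombination] at h
    obtain ⟨l, hl, hl'⟩ := h
    refine ⟨fun j => l j, fun j hj => ?_, ?_⟩
    · by_contra hne
      have := hl (Finsupp.mem_support_iff.2 hne)
      simp at this
      exact hj this
    · rw [Finsupp.linearCombination_apply, Finsupp.sum_fintype _ _ (fun j => zero_smul ℤ (a j)), eq_sub_iff_add_eq'] at hl'
      exact hl'.symm
  choose d hd0 hdθ using hd
  have hali : LinearIndependent ℤ a :=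
    (b.linearIndepOn_root.linearIndependent).comp (fun i => (e i : b.support)) e.injective
  refine ⟨?_, ?_⟩
  · rw [Fintype.linearIndependent_iff]
    intro c hc
    have h1 : ∑ j, (c j + ∑ i, c i * d i j) • a j = 0 := by
      rw [← hc]
      show _ = ∑ i, c i • θ i
      simp only [hdθ, smul_add, Finset.smul_sum, smul_smul, add_smul, Finset.sum_add_distrib, Finset.sum_smul]
      rw [Finset.sum_comm]
    have h2 := Fintype.linearIndependent_iff.1 hali _ h1
    intro j
    induction j using WellFoundedLT.induction with
    | ind j ih =>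
      have h3 := h2 j
      rwa [Finset.sum_eq_zero (fun i _ => ?_), add_zero] at h3
      by_cases hij : i < j
      · rw [ih i hij, zero_mul]
      · rw [hd0 i j hij, mul_zero]
  · have hspan : Submodule.span ℤ (Set.range a) = Submodule.span ℤ (Set.range P.root) := by
      rw [← b.span_int_root_support]
      congr 1
      ext x
      constructor
      · rintro ⟨i, rfl⟩; exact ⟨(e i : ι), (e i).2, rfl⟩
      · rintro ⟨i, hi, rfl⟩; exact ⟨e.symm ⟨i, hi⟩, by simp [a]⟩
    rw [← hspan]
    show Submodule.span ℤ (Set.range θ) = _
    refine le_antisymm (Submodule.span_le.2 ?_) (Submodule.span_le.2 ?_)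
    · rintro _ ⟨i, rfl⟩
      rw [SetLike.mem_coe, hdθ]
      exact add_mem (Submodule.subset_span ⟨i, rfl⟩)
        (Submodule.sum_mem _ fun j _ => Submodule.smul_mem _ _ (Submodule.subset_span ⟨j, rfl⟩))
    · rintro _ ⟨i, rfl⟩
      induction i using WellFoundedGT.induction with
      | ind i ih =>
        rw [SetLike.mem_coe, show a i = θ i - ∑ j, d i j • a j by rw [hdθ, add_sub_cancel_right]]
        refine sub_mem (Submodule.subset_span ⟨i, rfl⟩) (Submodule.sum_mem _ fun j _ => ?_)
        by_cases hij : i < j
        · exact Submodule.smul_mem _ _ (ih j hij)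
        · rw [hd0 i j hij, zero_smul]; exact zero_mem _

end Groth.Agent.S8441
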