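import Groth.Statements.S8449
import Groth.Agent.H21Rank1.Rules

set_option autoImplicit false
universe u
open CategoryTheory MonoidalCategory CartesianMonoidalCategory MonObj GrpObj AlgebraicGeometry CategoryTheory.Limits
open Red

namespace Groth.Agent.S8449

/-- Let G be an S-group scheme, i : T ⟶ G a torus of G (a monomorphism of groups), α : T ⟶ 𝔾_m and α^* :
𝔾_m ⟶ T homomorphisms with α ∘ α^* the squaring map, and p₊, p₋ : 𝔾_a ⟶ G homomorphisms normalised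
by T with multipliers α and α⁻¹ which satisfy the rank-one commutation rule: whenever 1 + xy is
invertible, p₊(x) p₋(y) = p₋(y/(1+xy)) · i(α^*(1+xy)) · p₊(x/(1+xy)) (the situation of any reductive
group of semisimple rank 1 with trivialised root groups, where α^* is the coroot). With w(x) = p₊(x)
p₋(-x⁻¹) p₊(x) for a point x of 𝔾_a with invertible coordinate: for two such points x, y one has
w(x) w(y) = i(α^*(-x y⁻¹)), and in particular w(x)² = i(α^*(-1)). (The published statement is for a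
reductive group of semisimple rank one with a maximal torus and a root; this row assumes only the
commutation rule, the normalisation of p₊, p₋ by T and α ∘ α^* the squaring map, which is all the
published proof uses.) -/
theorem result (S : Scheme.{u}) (G T : Over S) [GrpObj G] [GrpObj T] (i : T ⟶ G) [IsMonHom i] [Mono i] (hT : Red.IsTorus T)
    (α : T ⟶ Red.Gm S) [IsMonHom α]
    (pp pm : Red.Ga S ⟶ G) [IsMonHom pp] [IsMonHom pm]
    (hpp : ∀ (X : Over S) (t : X ⟶ T) (x : X ⟶ Red.Ga S), ∃ x' : X ⟶ Red.Ga S,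
      x' ≫ pp = (t ≫ i) * (x ≫ pp) * (t ≫ i)⁻¹ ∧ Red.gaFn x' = Red.gmFn (t ≫ α) * Red.gaFn x)
    (hpm : ∀ (X : Over S) (t : X ⟶ T) (y : X ⟶ Red.Ga S), ∃ y' : X ⟶ Red.Ga S,
      y' ≫ pm = (t ≫ i) * (y ≫ pm) * (t ≫ i)⁻¹ ∧ Red.gaFn y' * Red.gmFn (t ≫ α) = Red.gaFn y)
    (av : Red.Gm S ⟶ T) [IsMonHom av] (h2 : av ≫ α = (𝟙 (Red.Gm S)) ^ 2)
    (hF : ∀ (X : Over S) (x y : X ⟶ Red.Ga S), IsUnit (1 + Red.gaFn x * Red.gaFn y) →
      ∃ (x' y' : X ⟶ Red.Ga S) (z : X ⟶ Red.Gm S), Red.gmFn z = 1 + Red.gaFn x * Red.gaFn y ∧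
        Red.gaFn x' * Red.gmFn z = Red.gaFn x ∧ Red.gaFn y' * Red.gmFn z = Red.gaFn y ∧
        (x ≫ pp) * (y ≫ pm) = (y' ≫ pm) * (z ≫ av ≫ i) * (x' ≫ pp))
    (X : Over S) (x x' y y' : X ⟶ Red.Ga S) (hx : Red.gaFn x' * Red.gaFn x = -1) (hy : Red.gaFn y' * Red.gaFn y = -1)
    (m n : X ⟶ Red.Gm S) (hm : Red.gmFn m * Red.gaFn y = - Red.gaFn x) (hn : Red.gmFn n = -1) :
    ((x ≫ pp) * (x' ≫ pm) * (x ≫ pp)) * ((y ≫ pp) * (y' ≫ pm) * (y ≫ pp)) = m ≫ av ≫ i ∧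
      ((x ≫ pp) * (x' ≫ pm) * (x ≫ pp)) ^ 2 = n ≫ av ≫ i := by
  exact Groth.Agent.H21Rank1.w_mul_w hpp hpm h2 hF x x' y y' hx hy m n hm hn

end Groth.Agent.S8449
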