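import Groth.Statements.S8455
import Groth.Agent.H21Rank1.FFlat

set_option autoImplicit false
universe u
open CategoryTheory MonoidalCategory CartesianMonoidalCategory MonObj GrpObj AlgebraicGeometry CategoryTheory.Limits
open Red

namespace Groth.Agent.S8455

/-- Let (G, T, α, p₊, p₋, α^*) and (G', T', α', p'₊, p'₋, α'^*) be two rank-one systems over S: G
reductive, i : T ⟶ G a maximal torus, α a character of T non-trivial on every geometric fibre, p₊,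
p₋ : 𝔾_a ⟶ G monomorphisms normalised by T with multipliers α, α⁻¹ whose cell map (y, t, x) ↦ p₋(y)
i(t) p₊(x) is an open immersion, α^* : 𝔾_m ⟶ T with α ∘ α^* the squaring map and p₊(x) p₋(y) =
p₋(y/(1+xy)) · i(α^*(1+xy)) · p₊(x/(1+xy)) whenever 1 + xy is invertible; likewise for the primed
data. Let q > 0 be an integer such that x ↦ x^q is additive on all functions of S-schemes. Assume q
= 1: let c be an S-point of 𝔾_m and f_T : T ⟶ T' a homomorphism with α' ∘ f_T = α and f_T ∘ α^* =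
α'^* which is faithfully flat (flat and surjective) with kernel k : Q ⟶ T. Then a homomorphism f : G
⟶ G' extending f_T with f(p₊(x)) = p'₊(c x) for all points x is faithfully flat and quasi-compact,
with kernel Q (through k and i); so G' is the quotient G/Q. -/
theorem result (S : Scheme.{u}) (G T : Over S) [GrpObj G] [GrpObj T] (i : T ⟶ G) [IsMonHom i] [Mono i] (hG : Red.IsReductive G) (hTm : Red.IsMaximalTorus i)
    (α : T ⟶ Red.Gm S) [IsMonHom α] (hα : ∀ s : S, (Over.pullback (Red.geomPt s)).map α ≠ 1)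
    (pp pm : Red.Ga S ⟶ G) [IsMonHom pp] [Mono pp] [IsMonHom pm] [Mono pm]
    (hpp : ∀ (X : Over S) (t : X ⟶ T) (x : X ⟶ Red.Ga S), ∃ x' : X ⟶ Red.Ga S,
      x' ≫ pp = (t ≫ i) * (x ≫ pp) * (t ≫ i)⁻¹ ∧ Red.gaFn x' = Red.gmFn (t ≫ α) * Red.gaFn x)
    (hpm : ∀ (X : Over S) (t : X ⟶ T) (y : X ⟶ Red.Ga S), ∃ y' : X ⟶ Red.Ga S,
      y' ≫ pm = (t ≫ i) * (y ≫ pm) * (t ≫ i)⁻¹ ∧ Red.gaFn y' * Red.gmFn (t ≫ α) = Red.gaFn y)
    (hΩ : IsOpenImmersion (((pm ⊗ₘ i) ⊗ₘ pp) ≫ (μ[G] ▷ G) ≫ μ[G]).left)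
    (av : Red.Gm S ⟶ T) [IsMonHom av] (h2 : av ≫ α = (𝟙 (Red.Gm S)) ^ 2)
    (hF : ∀ (X : Over S) (x y : X ⟶ Red.Ga S), IsUnit (1 + Red.gaFn x * Red.gaFn y) →
      ∃ (x' y' : X ⟶ Red.Ga S) (z : X ⟶ Red.Gm S), Red.gmFn z = 1 + Red.gaFn x * Red.gaFn y ∧
        Red.gaFn x' * Red.gmFn z = Red.gaFn x ∧ Red.gaFn y' * Red.gmFn z = Red.gaFn y ∧
        (x ≫ pp) * (y ≫ pm) = (y' ≫ pm) * (z ≫ av ≫ i) * (x' ≫ pp))
    (G' T' : Over S) [GrpObj G'] [GrpObj T'] (i' : T' ⟶ G') [IsMonHom i'] [Mono i'] (hG' : Red.IsReductive G') (hTm' : Red.IsMaximalTorus i')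
    (α' : T' ⟶ Red.Gm S) [IsMonHom α'] (hα' : ∀ s : S, (Over.pullback (Red.geomPt s)).map α' ≠ 1)
    (pp' pm' : Red.Ga S ⟶ G') [IsMonHom pp'] [Mono pp'] [IsMonHom pm'] [Mono pm']
    (hpp' : ∀ (X : Over S) (t : X ⟶ T') (x : X ⟶ Red.Ga S), ∃ x' : X ⟶ Red.Ga S,
      x' ≫ pp' = (t ≫ i') * (x ≫ pp') * (t ≫ i')⁻¹ ∧ Red.gaFn x' = Red.gmFn (t ≫ α') * Red.gaFn x)
    (hpm' : ∀ (X : Over S) (t : X ⟶ T') (y : X ⟶ Red.Ga S), ∃ y' : X ⟶ Red.Ga S,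
      y' ≫ pm' = (t ≫ i') * (y ≫ pm') * (t ≫ i')⁻¹ ∧ Red.gaFn y' * Red.gmFn (t ≫ α') = Red.gaFn y)
    (hΩ' : IsOpenImmersion (((pm' ⊗ₘ i') ⊗ₘ pp') ≫ (μ[G'] ▷ G') ≫ μ[G']).left)
    (av' : Red.Gm S ⟶ T') [IsMonHom av'] (h2' : av' ≫ α' = (𝟙 (Red.Gm S)) ^ 2)
    (hF' : ∀ (X : Over S) (x y : X ⟶ Red.Ga S), IsUnit (1 + Red.gaFn x * Red.gaFn y) →
      ∃ (x' y' : X ⟶ Red.Ga S) (z : X ⟶ Red.Gm S), Red.gmFn z = 1 + Red.gaFn x * Red.gaFn y ∧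
        Red.gaFn x' * Red.gmFn z = Red.gaFn x ∧ Red.gaFn y' * Red.gmFn z = Red.gaFn y ∧
        (x ≫ pp') * (y ≫ pm') = (y' ≫ pm') * (z ≫ av' ≫ i') * (x' ≫ pp'))
    (c : 𝟙_ (Over S) ⟶ Red.Gm S) (fT : T ⟶ T') [IsMonHom fT] (hfl : Flat fT.left) (hsu : Surjective fT.left)
    (Q : Over S) (k : Q ⟶ T) (hk : AlgGrp.IsKernel k fT)
    (hfTα : fT ≫ α' = α) (hfTav : av ≫ fT = av') (f : G ⟶ G') [IsMonHom f] (hfT : i ≫ f = fT ≫ i')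
    (hf : ∀ (X : Over S) (x y : X ⟶ Red.Ga S), Red.gaFn y = Red.gmFn (toUnit X ≫ c) * Red.gaFn x →
      (x ≫ pp) ≫ f = y ≫ pp') :
    Flat f.left ∧ Surjective f.left ∧ QuasiCompact f.left ∧ AlgGrp.IsKernel (k ≫ i) f := by
  obtain ⟨f1, f2, f3⟩ := H21Rank1.flat_surjective_qc hpp hpm h2 hF hpp' hpm' hΩ hTm.2.2.1 hG hΩ' hTm'.2.2.1 hG' h2' hF' c fT
    hfl hsu hfTα hfTav f hfT hf
  exact ⟨f1, f2, f3, H21Rank1.kernel_isPullback hpp hpm h2 hF hpp' hpm' hΩ hTm.2.2.1 hG hΩ' hTm'.2.2.1 hG' h2' hF' c fT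
    hfTα hfTav f hfT hf k hk⟩

end Groth.Agent.S8455
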