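import Groth.Statements.S8456
import Groth.Agent.H21Rank1.Closed

set_option autoImplicit false
universe u
open CategoryTheory MonoidalCategory CartesianMonoidalCategory MonObj GrpObj AlgebraicGeometry CategoryTheory.Limits
open Red

namespace Groth.Agent.S8456

/-- Let G be a reductive S-group, i : T ⟶ G a maximal torus, α a character of T non-trivial on every
geometric fibre, and p₊, p₋ : 𝔾_a ⟶ G monomorphisms of groups normalised by T with multipliers α and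
α⁻¹ such that 𝔾_a ×_S T ×_S 𝔾_a ⟶ G, (y, t, x) ↦ p₋(y) i(t) p₊(x), is an open immersion (a rank-one
system: G has semisimple rank 1 and p₊, p₋ trivialise the root groups of α and -α). Then the
subgroups U_α = im p₊, U_{-α} = im p₋, T·U_α and T·U_{-α} are closed in G: p₊ and p₋ are closed
immersions, and so are the morphisms T ×_S 𝔾_a ⟶ G, (t, x) ↦ i(t) p₊(x) and (t, y) ↦ i(t) p₋(y). -/
theorem result (S : Scheme.{u}) (G T : Over S) [GrpObj G] [GrpObj T] (i : T ⟶ G) [IsMonHom i] [Mono i] (hG : Red.IsReductive G) (hTm : Red.IsMaximalTorus i)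
    (α : T ⟶ Red.Gm S) [IsMonHom α] (hα : ∀ s : S, (Over.pullback (Red.geomPt s)).map α ≠ 1)
    (pp pm : Red.Ga S ⟶ G) [IsMonHom pp] [Mono pp] [IsMonHom pm] [Mono pm]
    (hpp : ∀ (X : Over S) (t : X ⟶ T) (x : X ⟶ Red.Ga S), ∃ x' : X ⟶ Red.Ga S,
      x' ≫ pp = (t ≫ i) * (x ≫ pp) * (t ≫ i)⁻¹ ∧ Red.gaFn x' = Red.gmFn (t ≫ α) * Red.gaFn x)
    (hpm : ∀ (X : Over S) (t : X ⟶ T) (y : X ⟶ Red.Ga S), ∃ y' : X ⟶ Red.Ga S,
      y' ≫ pm = (t ≫ i) * (y ≫ pm) * (t ≫ i)⁻¹ ∧ Red.gaFn y' * Red.gmFn (t ≫ α) = Red.gaFn y)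
    (hΩ : IsOpenImmersion (((pm ⊗ₘ i) ⊗ₘ pp) ≫ (μ[G] ▷ G) ≫ μ[G]).left) :
    IsClosedImmersion pp.left ∧ IsClosedImmersion pm.left ∧
      IsClosedImmersion ((i ⊗ₘ pp) ≫ μ[G]).left ∧ IsClosedImmersion ((i ⊗ₘ pm) ≫ μ[G]).left := by
  have := hG.1
  have hP : ∀ (X : Over S) (t : X ⟶ T) (x : X ⟶ Red.Ga S), ∃ x' : X ⟶ Red.Ga S,
      x' ≫ pp = (t ≫ i) * (x ≫ pp) * (t ≫ i)⁻¹ := fun X t x => (hpp X t x).imp fun _ h => h.1
  have hN : ∀ (X : Over S) (t : X ⟶ T) (y : X ⟶ Red.Ga S), ∃ y' : X ⟶ Red.Ga S,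
      y' ≫ pm = (t ≫ i) * (y ≫ pm) * (t ≫ i)⁻¹ := fun X t y => (hpm X t y).imp fun _ h => h.1
  obtain ⟨h1, h2⟩ := H21Rank1.closed_pos hN hP hΩ hG hTm.2.2.1
  obtain ⟨h3, h4⟩ := H21Rank1.closed_pos hP hN (H21Rank1.isOpenImmersion_swap hΩ) hG hTm.2.2.1
  exact ⟨h1, h3, h2, h4⟩

end Groth.Agent.S8456
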