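import Groth.Statements.S8457
import Groth.Agent.H21Rank1.Presentation

set_option autoImplicit false
universe u
open CategoryTheory MonoidalCategory CartesianMonoidalCategory MonObj GrpObj AlgebraicGeometry CategoryTheory.Limits
open Red

namespace Groth.Agent.S8457

/-- Generators and relations for a group of semisimple rank 1: for H an S-group scheme. Let G be a
reductive S-group, i : T ⟶ G a maximal torus, α a character of T non-trivial on every geometric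
fibre, p₊, p₋ : 𝔾_a ⟶ G monomorphisms of groups normalised by T with multipliers α and α⁻¹ whose
cell map (y, t, x) ↦ p₋(y) i(t) p₊(x) is an open immersion 𝔾_a ×_S T ×_S 𝔾_a ⟶ G, and α^* : 𝔾_m ⟶ T
the coroot: α ∘ α^* is the squaring map and p₊(x) p₋(y) = p₋(y/(1+xy)) · i(α^*(1+xy)) · p₊(x/(1+xy))
whenever 1 + xy is invertible (so p₊ and p₋ are dual to each other). Let e₁, em be the S-points of
𝔾_a with coordinates 1, -1 and m the S-point of 𝔾_m with coordinate -1; put u = p₊(e₁) and w =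
p₊(e₁) p₋(em) p₊(e₁). Let H be an S-group scheme, f_T : T ⟶ H and f_α : 𝔾_a ⟶ H homomorphisms and h
an S-point of H. Then there is exactly one homomorphism f : G ⟶ H with f ∘ i = f_T, f ∘ p₊ = f_α and
f(w) = h if and only if: (1) f_T(t) f_α(x) f_T(t)⁻¹ = f_α(α(t) x) for all points t of T and x of
𝔾_a; (2) h f_T(t) h⁻¹ = f_T(t · α^*(α(t))⁻¹) for all points t of T; (3) h² = f_T(α^*(m)); (4) (h ·
f_α(e₁))³ = e. (The published statement allows H to be any fppf sheaf of groups.) -/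
theorem result (S : Scheme.{u}) (G T : Over S) [GrpObj G] [GrpObj T] (i : T ⟶ G) [IsMonHom i] [Mono i] (hG : Red.IsReductive G) (hTm : Red.IsMaximalTorus i)
    (α : T ⟶ Red.Gm S) [IsMonHom α] (hα : ∀ s : S, (Over.pullback (Red.geomPt s)).map α ≠ 1)
    (pp pm : Red.Ga S ⟶ G) [IsMonHom pp] [Mono pp] [IsMonHom pm] [Mono pm]
    (hpp : ∀ (X : Over S) (t : X ⟶ T) (x : X ⟶ Red.Ga S), ∃ x' : X ⟶ Red.Ga S,
      x' ≫ pp = (t ≫ i) * (x ≫ pp) * (t ≫ i)⁻¹ ∧ Red.gaFn x' = Red.gmFn (t ≫ α) * Red.gaFn x)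
    (hpm : ∀ (X : Over S) (t : X ⟶ T) (y : X ⟶ Red.Ga S), ∃ y' : X ⟶ Red.Ga S,
      y' ≫ pm = (t ≫ i) * (y ≫ pm) * (t ≫ i)⁻¹ ∧ Red.gaFn y' * Red.gmFn (t ≫ α) = Red.gaFn y)
    (hΩ : IsOpenImmersion (((pm ⊗ₘ i) ⊗ₘ pp) ≫ (μ[G] ▷ G) ≫ μ[G]).left)
    (av : Red.Gm S ⟶ T) [IsMonHom av] (h2 : av ≫ α = (𝟙 (Red.Gm S)) ^ 2)
    (hF : ∀ (X : Over S) (x y : X ⟶ Red.Ga S), IsUnit (1 + Red.gaFn x * Red.gaFn y) →
      ∃ (x' y' : X ⟶ Red.Ga S) (z : X ⟶ Red.Gm S), Red.gmFn z = 1 + Red.gaFn x * Red.gaFn y ∧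
        Red.gaFn x' * Red.gmFn z = Red.gaFn x ∧ Red.gaFn y' * Red.gmFn z = Red.gaFn y ∧
        (x ≫ pp) * (y ≫ pm) = (y' ≫ pm) * (z ≫ av ≫ i) * (x' ≫ pp))
    (e₁ em : 𝟙_ (Over S) ⟶ Red.Ga S) (he₁ : Red.gaFn e₁ = 1) (hem : Red.gaFn em = -1)
    (m : 𝟙_ (Over S) ⟶ Red.Gm S) (hm : Red.gmFn m = -1)
    (H : Over S) [GrpObj H] (fT : T ⟶ H) [IsMonHom fT] (fα : Red.Ga S ⟶ H) [IsMonHom fα] (h : 𝟙_ (Over S) ⟶ H) :
    (∃! f : G ⟶ H, IsMonHom f ∧ i ≫ f = fT ∧ pp ≫ f = fα ∧ ((e₁ ≫ pp) * (em ≫ pm) * (e₁ ≫ pp)) ≫ f = h) ↔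
      ((∀ (X : Over S) (t : X ⟶ T) (x x' : X ⟶ Red.Ga S), Red.gaFn x' = Red.gmFn (t ≫ α) * Red.gaFn x →
          (t ≫ fT) * (x ≫ fα) * (t ≫ fT)⁻¹ = x' ≫ fα) ∧
        (∀ (X : Over S) (t : X ⟶ T), (toUnit X ≫ h) * (t ≫ fT) * (toUnit X ≫ h)⁻¹ = (t * (t ≫ α ≫ av)⁻¹) ≫ fT) ∧
        h ^ 2 = m ≫ av ≫ fT ∧ (h * (e₁ ≫ fα)) ^ 3 = 1) := by
  constructor
  · rintro ⟨f, ⟨hfm, hfi, hfp, hfw⟩, -⟩
    have hh' := H21Rank1.weyl_hh (av := av) (e₁ := e₁) (em := em) he₁ hTm.2.2.1 h2 hpp hpm hF hem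
    have hsq' := H21Rank1.weyl_sq (av := av) (e₁ := e₁) (em := em) he₁ hm h2 hpp hpm hF hem
    have hcube' := H21Rank1.weyl_cube (av := av) (e₁ := e₁) (em := em) he₁ h2 hpp hpm hF hem
    refine ⟨fun X t x x' hx => ?_, fun X t => ?_, ?_, ?_⟩
    · obtain ⟨x'', e1, e2⟩ := hpp X t x
      have e : x'' = x' := H27Witt.GaCoord.gaFn_injective (e2.trans hx.symm)
      subst e
      have e3 := congrArg (· ≫ f) e1
      simp only [MonObj.mul_comp, GrpObj.inv_comp, Category.assoc, hfi, hfp] at e3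
      exact e3.symm
    · have e3 := congrArg (· ≫ f) (hh' X t)
      simp only [MonObj.mul_comp, GrpObj.inv_comp, Category.assoc, hfi] at e3
      rw [← hfw]
      simpa only [MonObj.mul_comp, GrpObj.inv_comp, Category.assoc] using e3
    · have e3 := congrArg (· ≫ f) hsq'
      simp only [MonObj.pow_comp, Category.assoc, hfi] at e3
      rwa [hfw] at e3
    · have e3 := congrArg (· ≫ f) hcube'
      simp only [MonObj.pow_comp, MonObj.one_comp] at e3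
      rwa [MonObj.mul_comp, hfw, Category.assoc, hfp] at e3
  · rintro ⟨r1, r2, r3, r4⟩
    refine H21Rank1.exists_presented h he₁ hm hTm.2.2.1 h2 (fun X t x => ?_) r2 r3 r4 hα hpp hpm hF hem hΩ hG
    have e := H21Rank1.gaFn_gaPt (X := X) (Red.gmFn (t ≫ α) * Red.gaFn x)
    exact ⟨_, (r1 X t x _ e).symm, e⟩

end Groth.Agent.S8457
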