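import Groth.Statements.S8469
import Groth.Agent.H21Split.Red0.TypeEq

set_option autoImplicit false
universe u
open CategoryTheory MonoidalCategory CartesianMonoidalCategory MonObj GrpObj AlgebraicGeometry CategoryTheory.Limits
open Red

namespace Groth.Agent.S8469

/-- Let G and G' be reductive S-groups each admitting a splitting, and let s be a point of S such that
the geometric fibres G_{s̄} and G'_{s̄} have the same type: both are split of type Q for one root
datum Q. Then G and G' are isomorphic as S-group schemes. -/
theorem result (S : Scheme.{u}) (G G' : Over S) [GrpObj G] [GrpObj G']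
    (D : Red.SplitRed G) (D' : Red.SplitRed G') (s : S)
    {ι' M' N' : Type} [AddCommGroup M'] [Module ℤ M'] [AddCommGroup N'] [Module ℤ N'] (Q : RootPairing ι' ℤ M' N')
    (hs : Red.IsSplitOfType Q (Red.geomFibre s G)) (hs' : Red.IsSplitOfType Q (Red.geomFibre s G')) :
    Nonempty (Grp.mk G ≅ Grp.mk G') := by
  exact H21Red0.nonempty_iso_of_geomFibre D D' s Q hs hs'

end Groth.Agent.S8469
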