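import Groth.Statements.S8471
import Mathlib

set_option autoImplicit false
open Red

open Polynomial

namespace Groth.Agent.S8471

theorem aeval_div_eq_zero {k A L K' : Type} [Field k] [CommRing A] [IsDomain A] [Algebra k A] [Field L] [Algebra k L]
    [Algebra A L] [IsScalarTower k A L] [IsFractionRing A L] [Field K'] [Algebra k K'] (φ : A →ₐ[k] K')
    (N D : A) (hD : φ D ≠ 0) {p : k[X]} (hp : aeval (algebraMap A L N / algebraMap A L D) p = 0) :
    aeval (φ N / φ D) p = 0 := by
  have hD0 : D ≠ 0 := fun h => hD (by rw [h, map_zero])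
  let Ad := Localization.Away D
  have hmem : Submonoid.powers D ≤ nonZeroDivisors A := powers_le_nonZeroDivisors_of_noZeroDivisors hD0
  have hDL : IsUnit (algebraMap A L D) := isUnit_iff_ne_zero.mpr ((map_ne_zero_iff _ (IsFractionRing.injective A L)).mpr hD0)
  have hDK : IsUnit (φ.toRingHom D) := isUnit_iff_ne_zero.mpr hD
  let j : Ad →ₐ[k] L :=
    { IsLocalization.Away.lift (S := Ad) D (g := algebraMap A L) hDL with
      commutes' := fun c => by
        change IsLocalization.Away.lift D hDL (algebraMap k Ad c) = _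
        rw [IsScalarTower.algebraMap_apply k A Ad, IsLocalization.Away.lift_eq, ← IsScalarTower.algebraMap_apply] }
  have hj : ∀ a, j (algebraMap A Ad a) = algebraMap A L a := fun a => IsLocalization.Away.lift_eq D hDL a
  let ψ : Ad →ₐ[k] K' :=
    { IsLocalization.Away.lift (S := Ad) D (g := φ.toRingHom) hDK with
      commutes' := fun c => by
        change IsLocalization.Away.lift D hDK (algebraMap k Ad c) = _
        rw [IsScalarTower.algebraMap_apply k A Ad, IsLocalization.Away.lift_eq]
        exact φ.commutes c }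
  have hψ : ∀ a, ψ (algebraMap A Ad a) = φ a := fun a => IsLocalization.Away.lift_eq D hDK a
  let b : Ad := algebraMap A Ad N * IsLocalization.Away.invSelf D
  have hmul : b * algebraMap A Ad D = algebraMap A Ad N := by
    rw [mul_assoc, mul_comm (IsLocalization.Away.invSelf D), IsLocalization.Away.mul_invSelf, mul_one]
  have hjb : j b = algebraMap A L N / algebraMap A L D := by
    rw [eq_div_iff ((map_ne_zero_iff _ (IsFractionRing.injective A L)).mpr hD0), ← hj D, ← map_mul, hmul, hj]
  have hψb : ψ b = φ N / φ D := by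
    rw [eq_div_iff hD, ← hψ D, ← map_mul, hmul, hψ]
  have hinj : Function.Injective j := by
    refine (IsLocalization.lift_injective_iff (M := Submonoid.powers D) (S := Ad) _).mpr fun x y => ?_
    rw [(IsLocalization.injective Ad hmem).eq_iff, (IsFractionRing.injective A L).eq_iff]
  have h0 : aeval b p = 0 := hinj (by rw [← aeval_algHom_apply, hjb, hp, map_zero])
  rw [← hψb, aeval_algHom_apply, h0, map_zero]


/-- Let k be a field and F ∈ k(X) a rational function whose denominator does not vanish at 0 and with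
F(0) = 1. Suppose that in the field of fractions L of k[X₀, X₁] one has F(X₀ + X₁ · F(X₀)) = F(X₀) ·
F(X₁) (the functional equation F(x + y F(x)) = F(x) F(y)). Then there is a ∈ k with F = 1 + a X.
(The published statement takes the identity on an open neighbourhood of the origin of 𝔾_a × 𝔾_a on
which all terms are defined; this row takes it as an identity of rational functions in two
variables.) -/
theorem result (k : Type) [Field k] (F : RatFunc k)
    (h0 : F.denom.eval 0 ≠ 0) (h1 : F.num.eval 0 = F.denom.eval 0)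
    (hFE : RatFunc.eval (algebraMap k (FractionRing (MvPolynomial (Fin 2) k)))
        (algebraMap (MvPolynomial (Fin 2) k) (FractionRing (MvPolynomial (Fin 2) k)) (MvPolynomial.X 0) +
          algebraMap (MvPolynomial (Fin 2) k) (FractionRing (MvPolynomial (Fin 2) k)) (MvPolynomial.X 1) *
            RatFunc.eval (algebraMap k (FractionRing (MvPolynomial (Fin 2) k)))
              (algebraMap (MvPolynomial (Fin 2) k) (FractionRing (MvPolynomial (Fin 2) k)) (MvPolynomial.X 0)) F) F =
      RatFunc.eval (algebraMap k (FractionRing (MvPolynomial (Fin 2) k)))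
          (algebraMap (MvPolynomial (Fin 2) k) (FractionRing (MvPolynomial (Fin 2) k)) (MvPolynomial.X 0)) F *
        RatFunc.eval (algebraMap k (FractionRing (MvPolynomial (Fin 2) k)))
          (algebraMap (MvPolynomial (Fin 2) k) (FractionRing (MvPolynomial (Fin 2) k)) (MvPolynomial.X 1)) F) :
    ∃ a : k, F = 1 + RatFunc.C a * RatFunc.X := by
  classical
  let ι₀ : (MvPolynomial (Fin 2) k) →ₐ[k] (FractionRing (MvPolynomial (Fin 2) k)) := IsScalarTower.toAlgHom k (MvPolynomial (Fin 2) k) (FractionRing (MvPolynomial (Fin 2) k))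
  have hinj : Function.Injective ι₀ := IsFractionRing.injective (MvPolynomial (Fin 2) k) (FractionRing (MvPolynomial (Fin 2) k))
  let P := F.num
  let Q := F.denom
  let X0 : (MvPolynomial (Fin 2) k) := MvPolynomial.X 0
  let X1 : (MvPolynomial (Fin 2) k) := MvPolynomial.X 1
  let Px : (MvPolynomial (Fin 2) k) := aeval X0 P
  let Qx : (MvPolynomial (Fin 2) k) := aeval X0 Q
  let Py : (MvPolynomial (Fin 2) k) := aeval X1 P
  let Qy : (MvPolynomial (Fin 2) k) := aeval X1 Q
  let ev0 : (MvPolynomial (Fin 2) k) →ₐ[k] k := MvPolynomial.aeval fun _ => (0 : k)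
  let φ : (MvPolynomial (Fin 2) k) →ₐ[k] RatFunc k := MvPolynomial.aeval fun i => if i = 0 then 0 else RatFunc.X
  have hev : ∀ (i : Fin 2) (R : k[X]), ev0 (aeval (MvPolynomial.X i : (MvPolynomial (Fin 2) k)) R) = R.eval 0 := fun i R => by
    rw [← aeval_algHom_apply]; simp [ev0]
  have hQx : Qx ≠ 0 := fun h => h0 (by
    have h2 : ev0 Qx = Q.eval 0 := hev 0 Q
    rw [h, map_zero] at h2
    exact h2.symm)
  have hQy : Qy ≠ 0 := fun h => h0 (by
    have h2 : ev0 Qy = Q.eval 0 := hev 1 Q
    rw [h, map_zero] at h2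
    exact h2.symm)
  have hP0 : P.eval 0 ≠ 0 := fun h => h0 (h1.symm.trans h)
  have hPx : Px ≠ 0 := fun h => hP0 (by
    have h2 : ev0 Px = P.eval 0 := hev 0 P
    rw [h, map_zero] at h2
    exact h2.symm)
  have hPy : Py ≠ 0 := fun h => hP0 (by
    have h2 : ev0 Py = P.eval 0 := hev 1 P
    rw [h, map_zero] at h2
    exact h2.symm)
  have hne : ∀ a : (MvPolynomial (Fin 2) k), a ≠ 0 → ι₀ a ≠ 0 := fun a => (map_ne_zero_iff _ hinj).mpr
  let x := ι₀ X0
  let y := ι₀ X1
  have hFdef : ∀ z : (FractionRing (MvPolynomial (Fin 2) k)), RatFunc.eval (algebraMap k (FractionRing (MvPolynomial (Fin 2) k))) z F = aeval z P / aeval z Q := fun z => rfl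
  have hx : aeval x P / aeval x Q = ι₀ Px / ι₀ Qx := by simp only [x, Px, Qx, aeval_algHom_apply]
  have hy : aeval y P / aeval y Q = ι₀ Py / ι₀ Qy := by simp only [y, Py, Qy, aeval_algHom_apply]
  have hxQ : aeval x Q ≠ 0 := by
    rw [show aeval x Q = ι₀ Qx by simp only [x, Qx, aeval_algHom_apply]]; exact hne _ hQx
  have hyQ : aeval y Q ≠ 0 := by
    rw [show aeval y Q = ι₀ Qy by simp only [y, Qy, aeval_algHom_apply]]; exact hne _ hQy
  -- the two sums
  let u := x + y * (aeval x P / aeval x Q)
  let v := y + x * (aeval y P / aeval y Q)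
  have hFE' : aeval u P / aeval u Q = (aeval x P / aeval x Q) * (aeval y P / aeval y Q) := hFE
  -- transcendence
  have htr : ∀ (z : (FractionRing (MvPolynomial (Fin 2) k))) (N D : (MvPolynomial (Fin 2) k)), z = ι₀ N / ι₀ D → φ D ≠ 0 → φ N / φ D = RatFunc.X →
      ∀ R : k[X], R ≠ 0 → aeval z R ≠ 0 := by
    intro z N D hz hD hND R hR h
    rw [hz] at h
    have h2 := aeval_div_eq_zero (L := FractionRing (MvPolynomial (Fin 2) k)) φ N D hD h
    rw [hND, ← RatFunc.algebraMap_X, aeval_algebraMap_apply, aeval_X_left_apply] at h2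
    exact hR ((map_eq_zero_iff _ (RatFunc.algebraMap_injective k)).mp h2)
  have hφ : ∀ R : k[X], φ (aeval X0 R) = algebraMap k (RatFunc k) (R.eval 0) ∧
      φ (aeval X1 R) = algebraMap k[X] (RatFunc k) R := fun R => by
    refine ⟨?_, ?_⟩
    · rw [← aeval_algHom_apply, show φ X0 = algebraMap k (RatFunc k) 0 by simp [φ, X0], aeval_algebraMap_apply,
        coe_aeval_eq_eval]
    · rw [← aeval_algHom_apply, show φ X1 = algebraMap k[X] (RatFunc k) Polynomial.X by simp [φ, X1, RatFunc.algebraMap_X],
        aeval_algebraMap_apply, aeval_X_left_apply]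
  have hφ0 : φ X0 = 0 := by simp [φ, X0]
  have hφ1 : φ X1 = RatFunc.X := by simp [φ, X1]
  have hu : u = ι₀ (X0 * Qx + X1 * Px) / ι₀ Qx := by
    simp only [u, hx, map_add, map_mul]
    have := hne _ hQx
    field_simp
    ring
  have hv : v = ι₀ (X1 * Qy + X0 * Py) / ι₀ Qy := by
    simp only [v, hy, map_add, map_mul]
    have := hne _ hQy
    field_simp
    ring
  have hQ0 : Q ≠ 0 := F.denom_ne_zero
  have huQ : aeval u Q ≠ 0 := by
    refine htr u _ _ hu ?_ ?_ Q hQ0
    · rw [show φ Qx = _ from (hφ Q).1]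
      exact (map_ne_zero_iff _ (algebraMap k (RatFunc k)).injective).mpr h0
    · rw [map_add, map_mul, map_mul, hφ0, hφ1, show φ Qx = _ from (hφ Q).1, show φ Px = _ from (hφ P).1,
        show P.eval 0 = Q.eval 0 from h1, zero_mul, zero_add, mul_div_assoc, div_self, mul_one]
      exact (map_ne_zero_iff _ (algebraMap k (RatFunc k)).injective).mpr h0
  have hvQ : aeval v Q ≠ 0 := by
    refine htr v _ _ hv ?_ ?_ Q hQ0
    · rw [show φ Qy = _ from (hφ Q).2]
      exact (map_ne_zero_iff _ (RatFunc.algebraMap_injective k)).mpr hQ0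
    · rw [map_add, map_mul, map_mul, hφ0, hφ1, show φ Qy = _ from (hφ Q).2, zero_mul, add_zero, mul_div_assoc,
        div_self, mul_one]
      exact (map_ne_zero_iff _ (RatFunc.algebraMap_injective k)).mpr hQ0
  -- the equation at arbitrary points
  let n := max P.natDegree Q.natDegree
  let H : k[X] → (MvPolynomial (Fin 2) k) := fun R => ∑ i ∈ Finset.range (n + 1),
    algebraMap k (MvPolynomial (Fin 2) k) (R.coeff i) * (X0 * Qx + X1 * Px) ^ i * Qx ^ (n - i)
  let Id : (MvPolynomial (Fin 2) k) := H P * Qx * Qy - H Q * Px * Py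
  have hev2 : ∀ (a b : (FractionRing (MvPolynomial (Fin 2) k))), aeval a Q ≠ 0 →
      MvPolynomial.aeval ![a, b] Id = aeval a Q ^ n *
        (aeval (a + b * (aeval a P / aeval a Q)) P * aeval a Q * aeval b Q -
          aeval (a + b * (aeval a P / aeval a Q)) Q * aeval a P * aeval b P) := by
    intro a b ha
    let θ : (MvPolynomial (Fin 2) k) →ₐ[k] (FractionRing (MvPolynomial (Fin 2) k)) := MvPolynomial.aeval ![a, b]
    have hθ0 : ∀ R : k[X], θ (aeval X0 R) = aeval a R := fun R => by rw [← aeval_algHom_apply]; simp [θ, X0]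
    have hθ1 : ∀ R : k[X], θ (aeval X1 R) = aeval b R := fun R => by rw [← aeval_algHom_apply]; simp [θ, X1]
    have hH : ∀ R : k[X], R.natDegree ≤ n → θ (H R) = aeval a Q ^ n * aeval (a + b * (aeval a P / aeval a Q)) R := by
      intro R hR
      simp only [H, map_sum, map_mul, map_pow, map_add, AlgHom.commutes]
      rw [aeval_eq_sum_range' (Nat.lt_succ_iff.mpr hR), Finset.mul_sum]
      refine Finset.sum_congr rfl fun i hi => ?_
      have hin : i ≤ n := Nat.lt_succ_iff.mp (Finset.mem_range.mp hi)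
      rw [show θ Qx = aeval a Q from hθ0 Q, show θ Px = aeval a P from hθ0 P,
        show θ X0 = a by simp [θ, X0], show θ X1 = b by simp [θ, X1],
        show a * aeval a Q + b * aeval a P = aeval a Q * (a + b * (aeval a P / aeval a Q)) by field_simp,
        mul_pow, Algebra.smul_def]
      have : aeval a Q ^ n = aeval a Q ^ i * aeval a Q ^ (n - i) := by rw [← pow_add, Nat.add_sub_cancel' hin]
      rw [this]
      ring
    change θ Id = _
    simp only [Id, map_sub, map_mul]
    rw [hH P (le_max_left _ _), hH Q (le_max_right _ _), show θ Qx = aeval a Q from hθ0 Q,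
      show θ Px = aeval a P from hθ0 P, show θ Qy = aeval b Q from hθ1 Q, show θ Py = aeval b P from hθ1 P]
    ring
  have hxy : (MvPolynomial.aeval ![x, y] : (MvPolynomial (Fin 2) k) →ₐ[k] (FractionRing (MvPolynomial (Fin 2) k))) = ι₀ := by
    refine MvPolynomial.algHom_ext fun i => ?_
    fin_cases i <;> simp [x, y, X0, X1]
  have hId : Id = 0 := by
    refine hinj ?_
    rw [map_zero, ← hxy, hev2 x y hxQ, mul_eq_zero]
    refine Or.inr (sub_eq_zero.mpr ?_)
    rw [div_mul_div_comm, div_eq_div_iff huQ (mul_ne_zero hxQ hyQ)] at hFE'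
    linear_combination hFE'
  have hgen : ∀ a b : (FractionRing (MvPolynomial (Fin 2) k)), aeval a Q ≠ 0 →
      aeval (a + b * (aeval a P / aeval a Q)) P * aeval a Q * aeval b Q =
        aeval (a + b * (aeval a P / aeval a Q)) Q * aeval a P * aeval b P := by
    intro a b ha
    have h := hev2 a b ha
    rw [hId, map_zero, eq_comm, mul_eq_zero] at h
    exact sub_eq_zero.mp (h.resolve_left (pow_ne_zero _ ha))
  -- the product is symmetric
  have hFv : aeval v P / aeval v Q = (aeval x P / aeval x Q) * (aeval y P / aeval y Q) := by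
    have h := hgen y x hyQ
    rw [show y + x * (aeval y P / aeval y Q) = v from rfl] at h
    rw [div_mul_div_comm, div_eq_div_iff hvQ (mul_ne_zero hxQ hyQ)]
    linear_combination h
  let G := (aeval x P / aeval x Q) * (aeval y P / aeval y Q)
  have hG : G ≠ 0 := by
    simp only [G, hx, hy]
    exact mul_ne_zero (div_ne_zero (hne _ hPx) (hne _ hQx)) (div_ne_zero (hne _ hPy) (hne _ hQy))
  let b := (u - v) / G
  have hkey := hgen v b hvQ
  have hc : v + b * (aeval v P / aeval v Q) = u := by
    rw [hFv, div_mul_cancel₀ _ hG]; ring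
  rw [hc] at hkey
  have huP : aeval u P = G * aeval u Q := (div_eq_iff huQ).mp hFE'
  have hvP : aeval v P = G * aeval v Q := (div_eq_iff hvQ).mp hFv
  rw [huP, hvP] at hkey
  have hz : aeval b (P - Q) = 0 := by
    rw [map_sub, sub_eq_zero]
    refine mul_left_cancel₀ (mul_ne_zero (mul_ne_zero hG huQ) hvQ) ?_
    linear_combination -hkey
  by_cases hPQ : P - Q = 0
  · refine ⟨0, ?_⟩
    rw [map_zero, zero_mul, add_zero, ← RatFunc.num_div_denom F, show F.num = F.denom from sub_eq_zero.mp hPQ, div_self]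
    exact RatFunc.algebraMap_ne_zero hQ0
  -- `b` is algebraic, hence zero
  let NB : (MvPolynomial (Fin 2) k) := X1 * (Px - Qx) * Qy - X0 * (Py - Qy) * Qx
  have hb : b = ι₀ NB / ι₀ (Px * Py) := by
    have := hne _ hQx
    have := hne _ hQy
    have := hne _ hPx
    have := hne _ hPy
    simp only [b, G, u, v, hx, hy, NB, map_sub, map_mul]
    change (ι₀ X0 + ι₀ X1 * (ι₀ Px / ι₀ Qx) - (ι₀ X1 + ι₀ X0 * (ι₀ Py / ι₀ Qy))) / (ι₀ Px / ι₀ Qx * (ι₀ Py / ι₀ Qy)) = _
    field_simp
    ring
  have hNB0 : ev0 NB = 0 := by simp [NB, ev0, X0, X1]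
  have hDB0 : ev0 (Px * Py) ≠ 0 := by
    rw [map_mul, show ev0 Px = _ from hev 0 P, show ev0 Py = _ from hev 1 P]
    exact mul_ne_zero hP0 hP0
  have hb0 : b = 0 := by
    by_contra hb0
    obtain ⟨g, hg, hndvd⟩ := Polynomial.exists_eq_pow_rootMultiplicity_mul_and_not_dvd (P - Q) hPQ 0
    rw [map_zero, sub_zero] at hg hndvd
    rw [hg, map_mul, map_pow, aeval_X, mul_eq_zero] at hz
    have hgb : aeval b g = 0 := hz.resolve_left (pow_ne_zero _ hb0)
    rw [hb] at hgb
    have h2 := aeval_div_eq_zero (L := FractionRing (MvPolynomial (Fin 2) k)) ev0 NB (Px * Py) hDB0 hgb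
    rw [hNB0, zero_div, coe_aeval_eq_eval] at h2
    exact hndvd (X_dvd_iff.mpr (by rwa [coeff_zero_eq_eval_zero]))
  have hNB : NB = 0 := hinj (by
    rw [hb] at hb0
    rw [map_zero]
    exact (div_eq_zero_iff.mp hb0).resolve_right (hne _ (mul_ne_zero hPx hPy)))
  obtain ⟨M, hM⟩ : Polynomial.X ∣ P - Q := X_dvd_iff.mpr (by
    rw [coeff_zero_eq_eval_zero, eval_sub, sub_eq_zero]; exact h1)
  let Mx : (MvPolynomial (Fin 2) k) := aeval X0 M
  let My : (MvPolynomial (Fin 2) k) := aeval X1 M
  have hMx : Px - Qx = X0 * Mx := by simp only [Px, Qx, Mx, ← map_sub, hM, map_mul, aeval_X]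
  have hMy : Py - Qy = X1 * My := by simp only [Py, Qy, My, ← map_sub, hM, map_mul, aeval_X]
  have hMQ : Mx * Qy = My * Qx := by
    refine mul_left_cancel₀ (mul_ne_zero (MvPolynomial.X_ne_zero (0 : Fin 2)) (MvPolynomial.X_ne_zero (R := k) (1 : Fin 2))) ?_
    change X0 * X1 * (Mx * Qy) = X0 * X1 * (My * Qx)
    have h := hNB
    simp only [NB, hMx, hMy] at h
    linear_combination h
  let π : (MvPolynomial (Fin 2) k) →ₐ[k] k[X] := MvPolynomial.aeval fun i => if i = 0 then Polynomial.X else 0
  have hπ : ∀ R : k[X], π (aeval X0 R) = R ∧ π (aeval X1 R) = C (R.eval 0) := fun R => by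
    refine ⟨by rw [← aeval_algHom_apply]; simp [π, X0], ?_⟩
    rw [← aeval_algHom_apply, show π X1 = algebraMap k k[X] 0 by simp [π, X1], aeval_algebraMap_apply, coe_aeval_eq_eval]
    rfl
  have hM2 := congrArg π hMQ
  rw [map_mul, map_mul, (hπ M).1, (hπ Q).2, (hπ M).2, (hπ Q).1] at hM2
  refine ⟨M.eval 0 / Q.eval 0, ?_⟩
  have hP : P = Q * (1 + C (M.eval 0 / Q.eval 0) * Polynomial.X) := by
    have hc : C (Q.eval 0) * C (M.eval 0 / Q.eval 0) = C (M.eval 0) := by rw [← C_mul, mul_div_cancel₀ _ h0]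
    refine mul_left_cancel₀ (C_ne_zero.mpr h0) ?_
    linear_combination C (Q.eval 0) * hM + Polynomial.X * hM2 - Q * Polynomial.X * hc
  conv_lhs => rw [← RatFunc.num_div_denom F, show F.num = P from rfl, hP, map_mul,
    show F.denom = Q from rfl, mul_div_assoc]
  rw [mul_div_left_comm, div_self (RatFunc.algebraMap_ne_zero hQ0), mul_one, map_add, map_one, map_mul,
    RatFunc.algebraMap_C, RatFunc.algebraMap_X]

end Groth.Agent.S8471
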