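import Groth.Statements.S8473
import Groth.Agent.H21Rank1.NormalEtale

set_option autoImplicit false
universe u
open CategoryTheory MonoidalCategory CartesianMonoidalCategory MonObj GrpObj AlgebraicGeometry CategoryTheory.Limits
open Red

namespace Groth.Agent.S8473

/-- Let k be an algebraically closed field, T a k-torus, α : T ⟶ 𝔾_m a non-trivial character and P the
semi-direct product T ⋉_α 𝔾_a, given as a k-group P with homomorphisms j_T : T ⟶ P and j_U : 𝔾_a ⟶ P
such that (t, x) ↦ j_T(t) j_U(x) is an isomorphism of schemes T × 𝔾_a ≅ P and j_T(t) j_U(x) j_T(t)⁻¹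
= j_U(α(t) x). Let n : N ⟶ P be a normal subgroup scheme which is étale over k and such that N ∩ T
is trivial (a point of N whose image is in j_T(T) is the unit). Then N is the trivial group. -/
theorem result (K : Type u) [Field K] [IsAlgClosed K]
    (T P N : Over (Spec (CommRingCat.of K))) [GrpObj T] [GrpObj P] [GrpObj N] (hT : Red.IsTorus T)
    (α : T ⟶ Red.Gm (Spec (CommRingCat.of K))) [IsMonHom α] (hα : α ≠ 1)
    (jT : T ⟶ P) [IsMonHom jT] (jU : Red.Ga (Spec (CommRingCat.of K)) ⟶ P) [IsMonHom jU] (hiso : IsIso ((jT ⊗ₘ jU) ≫ μ[P]))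
    (hconj : ∀ (X : Over (Spec (CommRingCat.of K))) (t : X ⟶ T) (x x' : X ⟶ Red.Ga (Spec (CommRingCat.of K))), Red.gaFn x' = Red.gmFn (t ≫ α) * Red.gaFn x →
      (t ≫ jT) * (x ≫ jU) * (t ≫ jT)⁻¹ = x' ≫ jU)
    (n : N ⟶ P) [IsMonHom n] [Mono n] (hn : AlgGrp.IsNormalHom n) (het : Etale N.hom)
    (hNT : ∀ (X : Over (Spec (CommRingCat.of K))) (t : X ⟶ T) (m : X ⟶ N), t ≫ jT = m ≫ n → m = 1) :
    Red.IsTrivialGrp N := by
  exact H21Rank1.isTrivialGrp_of_normal hT α hα jT jU hiso hconj n hn hNT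

end Groth.Agent.S8473
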