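import Groth.Statements.S8479
import Groth.Agent.H21Split.R2.ChevTable

set_option autoImplicit false
universe u
open CategoryTheory MonoidalCategory CartesianMonoidalCategory MonObj GrpObj AlgebraicGeometry CategoryTheory.Limits
open Red

set_option backward.isDefEq.respectTransparency false
set_option linter.unusedVariables false
set_option linter.style.haveILetI false
set_option synthInstance.maxHeartbeats 400000

namespace Groth.Agent.S8479

open Groth.Agent.H21Split Groth.Agent.H21Split.R2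

/-- The cases (p, q) = (1,1), (2,1), (3,1) of the table. Let G be a split reductive S-group with
splitting D (torus T ≅ D_S(M), root datum) and a Chevalley system at the level of root groups: for
every root c a root homomorphism v_c : 𝔾_a ⟶ G (normalised by T through the character of c) with a
dual root homomorphism v_c⁻ (v_c(x) v_c⁻(y) = v_c⁻(y/(1+xy)) c^∨(1+xy) v_c(x/(1+xy)) for 1 + xy
invertible), such that with n_c = v_c(1) v_c⁻(1)⁻¹ v_c(1) one has, for all roots c, b, n_c v_b(x)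
n_c⁻¹ = v_{s_c(b)}(± x) for a sign depending on (c, b). Let a, b be two linearly independent roots
with |⟨a, b^∨⟩| ≤ |⟨b, a^∨⟩| (a is not longer than b). Suppose a + b is a root, with index c, and b
+ 2a is not a root (q = 1); let p ≥ 1 be such that b - k a is a root for k < p and b - p a is not a
root. Then there is a sign ε ∈ {1, -1} with v_b(y) v_a(x) v_b(y)⁻¹ v_a(x)⁻¹ = v_c(ε p x y) for all
points x, y of 𝔾_a. -/
theorem result (S : Scheme.{u}) (e₁ : 𝟙_ (Over S) ⟶ Red.Ga S) (he₁ : Red.gaFn e₁ = 1)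
    (G : Over S) [GrpObj G] (D : Red.SplitRed G)
    (avc : D.idx → (Red.Gm S ⟶ D.T))
    (havc : ∀ a, avc a = Red.DSmap S (D.P.coroot a).toAddMonoidHom ≫ D.split.inv.hom.hom)
    (v vd : D.idx → (Red.Ga S ⟶ G)) (hv : ∀ c, Red.IsRootHom D.i (D.split.hom.hom.hom ≫ Red.chi S (D.P.root c)) (v c))
    (hvd : ∀ c, IsMonHom (vd c) ∧ ∀ (X : Over S) (x y : X ⟶ Red.Ga S), IsUnit (1 + Red.gaFn x * Red.gaFn y) →
        ∃ (x' y' : X ⟶ Red.Ga S) (z : X ⟶ Red.Gm S), Red.gmFn z = 1 + Red.gaFn x * Red.gaFn y ∧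
          Red.gaFn x' * Red.gmFn z = Red.gaFn x ∧ Red.gaFn y' * Red.gmFn z = Red.gaFn y ∧
          (x ≫ v c) * (y ≫ vd c) = (y' ≫ vd c) * (z ≫ avc c ≫ D.i) * (x' ≫ v c))
    (n : D.idx → (𝟙_ (Over S) ⟶ G)) (hn : ∀ c, n c = (e₁ ≫ v c) * (e₁ ≫ vd c)⁻¹ * (e₁ ≫ v c))
    (hSC : ∀ c b, ∃ ε : ℤ, (ε = 1 ∨ ε = -1) ∧ ∀ (X : Over S) (x y : X ⟶ Red.Ga S),
      Red.gaFn y = (ε : Γ(X.left, ⊤)) * Red.gaFn x →
        (toUnit X ≫ n c) * (x ≫ v b) * (toUnit X ≫ n c)⁻¹ = y ≫ v (D.P.reflectionPerm c b))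
    (a b : D.idx) (hind : ∀ r s : ℤ, r • D.P.root a + s • D.P.root b = 0 → r = 0 ∧ s = 0)
    (hlen : |D.P.pairing a b| ≤ |D.P.pairing b a|)
    (c : D.idx) (hc : D.P.root c = D.P.root a + D.P.root b) (hq : D.P.root b + (2 : ℤ) • D.P.root a ∉ Set.range D.P.root)
    (p : ℕ) (hp1 : 1 ≤ p) (hpk : ∀ k : ℕ, k < p → D.P.root b - (k : ℤ) • D.P.root a ∈ Set.range D.P.root)
    (hp : D.P.root b - (p : ℤ) • D.P.root a ∉ Set.range D.P.root) :
    ∃ ε : ℤ, (ε = 1 ∨ ε = -1) ∧ ∀ (X : Over S) (x y z : X ⟶ Red.Ga S),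
      Red.gaFn z = (ε : Γ(X.left, ⊤)) * (p : Γ(X.left, ⊤)) * Red.gaFn x * Red.gaFn y → (y ≫ v b) * (x ≫ v a) * (y ≫ v b)⁻¹ * (x ≫ v a)⁻¹ = z ≫ v c := by
  obtain ⟨s, hs⟩ := exists_signs D avc havc e₁ he₁ v vd hv hvd n hn hSC
  let D' := withU D v hv
  haveI := isAffineHom_hom D
  haveI : Finite D.idx := @Finite.of_fintype _ D.fintypeIdx
  have hind' := indep_of_forall D.P hind
  obtain ⟨r, rfl⟩ : ∃ r, p = r + 1 := ⟨p - 1, by omega⟩
  have hq1 : D.P.root b + ((1 : ℕ) : ℤ) • D.P.root a ∈ Set.range D.P.root := ⟨c, by rw [hc, Nat.cast_one, one_zsmul, add_comm]⟩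
  have hpair : D.P.pairing b a = (r : ℤ) - 1 := by
    have := pairing_of_string D.P hind' (hpk r (by omega)) (by push_cast at hp; exact hp) hq1
      (by simpa [show (1 : ℤ) + 1 = 2 from rfl] using hq)
    simpa using this
  obtain ⟨d, hd⟩ := hpk r (by omega)
  have hind2 := indep_shift D.P hind' (-(r : ℤ)) (d := d) (by rw [hd, neg_smul, sub_eq_add_neg])
  have hA : D.P.pairing d a = -((r : ℤ) + 1) := by
    rw [← D.P.root_coroot'_eq_pairing, hd, map_sub, map_zsmul, D.P.root_coroot'_eq_pairing, D.P.root_coroot'_eq_pairing,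
      hpair, D.P.pairing_same, smul_eq_mul]
    ring
  have hB : D.P.pairing a d = -1 := pairing_partner D.P hind2 (by omega) hA fun h1 => by
    obtain rfl : r = 0 := by omega
    obtain rfl : d = b := D.P.root.injective (by simpa using hd)
    rw [hpair] at hlen
    simpa using hlen
  have hr : r ≤ 2 := by
    have := pairing_prod_lt_four D.P hind2
    rw [hA, hB] at this
    omega
  interval_cases r
  · obtain rfl : d = b := D.P.root.injective (by simpa using hd)
    refine ⟨_, sign_cases (s d a), fun X x y z hz => hom_ext_pt fun R _ g j => ?_⟩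
    have hu : ∀ (k : D.idx) (w : X ⟶ Red.Ga S), j ≫ w ≫ v k = uPt g D' k (gv g (j ≫ w)) := fun k w => comp_u D' g j w k
    simp only [MonObj.comp_mul, GrpObj.comp_inv, hu]
    rw [comm_11 (D := D') hs g a d c (by simpa using hA) hB (by simpa using hp) hc]
    congr 1
    simp [gv_comp, hz]
  · refine ⟨_, sign_cases (s a d * s d a), fun X x y z hz => hom_ext_pt fun R _ g j => ?_⟩
    have hu : ∀ (k : D.idx) (w : X ⟶ Red.Ga S), j ≫ w ≫ v k = uPt g D' k (gv g (j ≫ w)) := fun k w => comp_u D' g j w k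
    simp only [MonObj.comp_mul, GrpObj.comp_inv, hu]
    rw [comm_21 (D := D') hs g a b d c (by simpa using hd) (by simpa using hA) hB hc]
    congr 1
    simp [gv_comp, hz, map_ofNat]
    ring
  · obtain ⟨e, he⟩ := hpk 1 (by norm_num)
    refine ⟨_, sign_cases (-(s a d * s a e * s d a)), fun X x y z hz => hom_ext_pt fun R _ g j => ?_⟩
    have hu : ∀ (k : D.idx) (w : X ⟶ Red.Ga S), j ≫ w ≫ v k = uPt g D' k (gv g (j ≫ w)) := fun k w => comp_u D' g j w k
    simp only [MonObj.comp_mul, GrpObj.comp_inv, hu]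
    rw [comm_31 (D := D') hs g a b d e c (by simpa using hd) (by simpa using he) (by simpa using hA) hB hc]
    congr 1
    simp [gv_comp, hz, map_ofNat]
    ring

end Groth.Agent.S8479
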