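import Groth.Statements.S8481
import Groth.Agent.H21Split.R2.ChevTable

set_option autoImplicit false
universe u
open CategoryTheory MonoidalCategory CartesianMonoidalCategory MonObj GrpObj AlgebraicGeometry CategoryTheory.Limits
open Red

set_option backward.isDefEq.respectTransparency false
set_option linter.unusedVariables false
set_option linter.style.haveILetI false
set_option synthInstance.maxHeartbeats 400000

namespace Groth.Agent.S8481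

open Groth.Agent.H21Split Groth.Agent.H21Split.R2

/-- The case (p, q) = (1,3) of the table. Let G be a split reductive S-group with splitting D (torus T ≅
D_S(M), root datum) and a Chevalley system at the level of root groups: for every root c a root
homomorphism v_c : 𝔾_a ⟶ G (normalised by T through the character of c) with a dual root
homomorphism v_c⁻ (v_c(x) v_c⁻(y) = v_c⁻(y/(1+xy)) c^∨(1+xy) v_c(x/(1+xy)) for 1 + xy invertible),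
such that with n_c = v_c(1) v_c⁻(1)⁻¹ v_c(1) one has, for all roots c, b, n_c v_b(x) n_c⁻¹ =
v_{s_c(b)}(± x) for a sign depending on (c, b). Let a, b be two linearly independent roots with |⟨a,
b^∨⟩| ≤ |⟨b, a^∨⟩| (a is not longer than b). Suppose b - a is not a root and a + b, 2a + b, 3a + b,
3a + 2b are roots with indices c₁, c₂, c₃, c₄. Then there are signs ε₁, …, ε₄ ∈ {1, -1} with v_b(y)
v_a(x) v_b(y)⁻¹ v_a(x)⁻¹ = v_{c₁}(ε₁ x y) v_{c₂}(ε₂ x² y) v_{c₃}(ε₃ x³ y) v_{c₄}(ε₄ x³ y²) for all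
points x, y of 𝔾_a. -/
theorem result (S : Scheme.{u}) (e₁ : 𝟙_ (Over S) ⟶ Red.Ga S) (he₁ : Red.gaFn e₁ = 1)
    (G : Over S) [GrpObj G] (D : Red.SplitRed G)
    (avc : D.idx → (Red.Gm S ⟶ D.T))
    (havc : ∀ a, avc a = Red.DSmap S (D.P.coroot a).toAddMonoidHom ≫ D.split.inv.hom.hom)
    (v vd : D.idx → (Red.Ga S ⟶ G)) (hv : ∀ c, Red.IsRootHom D.i (D.split.hom.hom.hom ≫ Red.chi S (D.P.root c)) (v c))
    (hvd : ∀ c, IsMonHom (vd c) ∧ ∀ (X : Over S) (x y : X ⟶ Red.Ga S), IsUnit (1 + Red.gaFn x * Red.gaFn y) →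
        ∃ (x' y' : X ⟶ Red.Ga S) (z : X ⟶ Red.Gm S), Red.gmFn z = 1 + Red.gaFn x * Red.gaFn y ∧
          Red.gaFn x' * Red.gmFn z = Red.gaFn x ∧ Red.gaFn y' * Red.gmFn z = Red.gaFn y ∧
          (x ≫ v c) * (y ≫ vd c) = (y' ≫ vd c) * (z ≫ avc c ≫ D.i) * (x' ≫ v c))
    (n : D.idx → (𝟙_ (Over S) ⟶ G)) (hn : ∀ c, n c = (e₁ ≫ v c) * (e₁ ≫ vd c)⁻¹ * (e₁ ≫ v c))
    (hSC : ∀ c b, ∃ ε : ℤ, (ε = 1 ∨ ε = -1) ∧ ∀ (X : Over S) (x y : X ⟶ Red.Ga S),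
      Red.gaFn y = (ε : Γ(X.left, ⊤)) * Red.gaFn x →
        (toUnit X ≫ n c) * (x ≫ v b) * (toUnit X ≫ n c)⁻¹ = y ≫ v (D.P.reflectionPerm c b))
    (a b : D.idx) (hind : ∀ r s : ℤ, r • D.P.root a + s • D.P.root b = 0 → r = 0 ∧ s = 0)
    (hlen : |D.P.pairing a b| ≤ |D.P.pairing b a|)
    (hm : D.P.root b - D.P.root a ∉ Set.range D.P.root) (c₁ c₂ c₃ c₄ : D.idx) (hc₁ : D.P.root c₁ = D.P.root a + D.P.root b)
    (hc₂ : D.P.root c₂ = (2 : ℤ) • D.P.root a + D.P.root b) (hc₃ : D.P.root c₃ = (3 : ℤ) • D.P.root a + D.P.root b)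
    (hc₄ : D.P.root c₄ = (3 : ℤ) • D.P.root a + (2 : ℤ) • D.P.root b) :
    ∃ ε : Fin 4 → ℤ, (∀ j, ε j = 1 ∨ ε j = -1) ∧ ∀ (X : Over S) (x y z₁ z₂ z₃ z₄ : X ⟶ Red.Ga S),
      Red.gaFn z₁ = (ε 0 : Γ(X.left, ⊤)) * Red.gaFn x * Red.gaFn y →
      Red.gaFn z₂ = (ε 1 : Γ(X.left, ⊤)) * Red.gaFn x ^ 2 * Red.gaFn y →
      Red.gaFn z₃ = (ε 2 : Γ(X.left, ⊤)) * Red.gaFn x ^ 3 * Red.gaFn y →
      Red.gaFn z₄ = (ε 3 : Γ(X.left, ⊤)) * Red.gaFn x ^ 3 * Red.gaFn y ^ 2 →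
        (y ≫ v b) * (x ≫ v a) * (y ≫ v b)⁻¹ * (x ≫ v a)⁻¹ = (z₁ ≫ v c₁) * (z₂ ≫ v c₂) * (z₃ ≫ v c₃) * (z₄ ≫ v c₄) := by
  obtain ⟨s, hs⟩ := exists_signs D avc havc e₁ he₁ v vd hv hvd n hn hSC
  let D' := withU D v hv
  haveI := isAffineHom_hom D
  haveI : Finite D.idx := @Finite.of_fintype _ D.fintypeIdx
  have hind' := indep_of_forall D.P hind
  have hq : D.P.root c₃ = D.P.root b + (3 : ℤ) • D.P.root a := by rw [hc₃, add_comm]
  have hA := pairing_of_long_string D.P hind' hq hm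
  have hB : D.P.pairing a b = -1 := pairing_partner D.P hind' (by norm_num) hA (by norm_num)
  refine ⟨![((s b a : ℤˣ) : ℤ), ((-(s a c₁ * s b a) : ℤˣ) : ℤ), ((-(s a b) : ℤˣ) : ℤ), ((s b c₃ * s a b : ℤˣ) : ℤ)],
    fun j => by fin_cases j <;> exact sign_cases _, fun X x y z₁ z₂ z₃ z₄ h₁ h₂ h₃ h₄ => hom_ext_pt fun R _ g j => ?_⟩
  have hu : ∀ (k : D.idx) (w : X ⟶ Red.Ga S), j ≫ w ≫ v k = uPt g D' k (gv g (j ≫ w)) := fun k w => comp_u D' g j w k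
  simp only [MonObj.comp_mul, GrpObj.comp_inv, hu]
  rw [comm_13 (D := D') hs g a b c₁ c₂ c₃ c₄ hA hB hc₁ hc₂ hc₃ hc₄]
  simp [gv_comp, h₁, h₂, h₃, h₄, Matrix.cons_val_zero, Matrix.cons_val_one]

end Groth.Agent.S8481
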