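import Groth.Statements.S8482
import Groth.Agent.H21Split.R2.ChevTable

set_option autoImplicit false
universe u
open CategoryTheory MonoidalCategory CartesianMonoidalCategory MonObj GrpObj AlgebraicGeometry CategoryTheory.Limits
open Red

set_option backward.isDefEq.respectTransparency false
set_option linter.unusedVariables false
set_option linter.style.haveILetI false
set_option synthInstance.maxHeartbeats 400000

namespace Groth.Agent.S8482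

open Groth.Agent.H21Split Groth.Agent.H21Split.R2

/-- The case (p, q) = (2,2) of the table. Let G be a split reductive S-group with splitting D (torus T ≅
D_S(M), root datum) and a Chevalley system at the level of root groups: for every root c a root
homomorphism v_c : 𝔾_a ⟶ G (normalised by T through the character of c) with a dual root
homomorphism v_c⁻ (v_c(x) v_c⁻(y) = v_c⁻(y/(1+xy)) c^∨(1+xy) v_c(x/(1+xy)) for 1 + xy invertible),
such that with n_c = v_c(1) v_c⁻(1)⁻¹ v_c(1) one has, for all roots c, b, n_c v_b(x) n_c⁻¹ =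
v_{s_c(b)}(± x) for a sign depending on (c, b). Let a, b be two linearly independent roots with |⟨a,
b^∨⟩| ≤ |⟨b, a^∨⟩| (a is not longer than b). Suppose b - a is a root and b - 2a is not, a + b and 2a
+ b are roots with indices c₁, c₂, 3a + b is not a root, and a + 2b is a root with index c₃. Then
there are signs ε₁, ε₂, ε₃ ∈ {1, -1} with v_b(y) v_a(x) v_b(y)⁻¹ v_a(x)⁻¹ = v_{c₁}(2 ε₁ x y)
v_{c₂}(3 ε₂ x² y) v_{c₃}(3 ε₃ x y²) for all points x, y of 𝔾_a. -/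
theorem result (S : Scheme.{u}) (e₁ : 𝟙_ (Over S) ⟶ Red.Ga S) (he₁ : Red.gaFn e₁ = 1)
    (G : Over S) [GrpObj G] (D : Red.SplitRed G)
    (avc : D.idx → (Red.Gm S ⟶ D.T))
    (havc : ∀ a, avc a = Red.DSmap S (D.P.coroot a).toAddMonoidHom ≫ D.split.inv.hom.hom)
    (v vd : D.idx → (Red.Ga S ⟶ G)) (hv : ∀ c, Red.IsRootHom D.i (D.split.hom.hom.hom ≫ Red.chi S (D.P.root c)) (v c))
    (hvd : ∀ c, IsMonHom (vd c) ∧ ∀ (X : Over S) (x y : X ⟶ Red.Ga S), IsUnit (1 + Red.gaFn x * Red.gaFn y) →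
        ∃ (x' y' : X ⟶ Red.Ga S) (z : X ⟶ Red.Gm S), Red.gmFn z = 1 + Red.gaFn x * Red.gaFn y ∧
          Red.gaFn x' * Red.gmFn z = Red.gaFn x ∧ Red.gaFn y' * Red.gmFn z = Red.gaFn y ∧
          (x ≫ v c) * (y ≫ vd c) = (y' ≫ vd c) * (z ≫ avc c ≫ D.i) * (x' ≫ v c))
    (n : D.idx → (𝟙_ (Over S) ⟶ G)) (hn : ∀ c, n c = (e₁ ≫ v c) * (e₁ ≫ vd c)⁻¹ * (e₁ ≫ v c))
    (hSC : ∀ c b, ∃ ε : ℤ, (ε = 1 ∨ ε = -1) ∧ ∀ (X : Over S) (x y : X ⟶ Red.Ga S),
      Red.gaFn y = (ε : Γ(X.left, ⊤)) * Red.gaFn x →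
        (toUnit X ≫ n c) * (x ≫ v b) * (toUnit X ≫ n c)⁻¹ = y ≫ v (D.P.reflectionPerm c b))
    (a b : D.idx) (hind : ∀ r s : ℤ, r • D.P.root a + s • D.P.root b = 0 → r = 0 ∧ s = 0)
    (hlen : |D.P.pairing a b| ≤ |D.P.pairing b a|)
    (hm1 : D.P.root b - D.P.root a ∈ Set.range D.P.root) (hm2 : D.P.root b - (2 : ℤ) • D.P.root a ∉ Set.range D.P.root)
    (c₁ c₂ c₃ : D.idx) (hc₁ : D.P.root c₁ = D.P.root a + D.P.root b)
    (hc₂ : D.P.root c₂ = (2 : ℤ) • D.P.root a + D.P.root b) (hq : D.P.root b + (3 : ℤ) • D.P.root a ∉ Set.range D.P.root)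
    (hc₃ : D.P.root c₃ = D.P.root a + (2 : ℤ) • D.P.root b) :
    ∃ ε₁ ε₂ ε₃ : ℤ, (ε₁ = 1 ∨ ε₁ = -1) ∧ (ε₂ = 1 ∨ ε₂ = -1) ∧ (ε₃ = 1 ∨ ε₃ = -1) ∧
      ∀ (X : Over S) (x y z₁ z₂ z₃ : X ⟶ Red.Ga S),
      Red.gaFn z₁ = 2 * (ε₁ : Γ(X.left, ⊤)) * Red.gaFn x * Red.gaFn y →
      Red.gaFn z₂ = 3 * (ε₂ : Γ(X.left, ⊤)) * Red.gaFn x ^ 2 * Red.gaFn y →
      Red.gaFn z₃ = 3 * (ε₃ : Γ(X.left, ⊤)) * Red.gaFn x * Red.gaFn y ^ 2 →
        (y ≫ v b) * (x ≫ v a) * (y ≫ v b)⁻¹ * (x ≫ v a)⁻¹ = (z₁ ≫ v c₁) * (z₂ ≫ v c₂) * (z₃ ≫ v c₃) := by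
  obtain ⟨s, hs⟩ := exists_signs D avc havc e₁ he₁ v vd hv hvd n hn hSC
  let D' := withU D v hv
  haveI := isAffineHom_hom D
  haveI : Finite D.idx := @Finite.of_fintype _ D.fintypeIdx
  have hind' := indep_of_forall D.P hind
  obtain ⟨d, hd⟩ := hm1
  have hA' : D.P.pairing b a = -1 := by
    have := pairing_of_string D.P hind' (r := 1) (q := 2) (by simpa using ⟨d, hd⟩) (by simpa [show (1 : ℤ) + 1 = 2 from rfl] using hm2)
      ⟨c₂, by rw [hc₂, add_comm]; norm_num⟩ (by simpa [show (2 : ℤ) + 1 = 3 from rfl] using hq)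
    simpa using this
  have hA : D.P.pairing d a = -3 := by
    rw [← D.P.root_coroot'_eq_pairing, hd, map_sub, D.P.root_coroot'_eq_pairing, D.P.root_coroot'_eq_pairing,
      hA', D.P.pairing_same]
    norm_num
  have hind2 := indep_shift D.P hind' (-1) (d := d) (by rw [hd, neg_smul, one_smul, sub_eq_add_neg])
  have hB : D.P.pairing a d = -1 := pairing_partner D.P hind2 (by norm_num) hA (by norm_num)
  refine ⟨_, _, _, sign_cases (s a b), sign_cases (s a d * s d a), sign_cases (s d c₂ * s a d),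
    fun X x y z₁ z₂ z₃ h₁ h₂ h₃ => hom_ext_pt fun R _ g j => ?_⟩
  have hu : ∀ (k : D.idx) (w : X ⟶ Red.Ga S), j ≫ w ≫ v k = uPt g D' k (gv g (j ≫ w)) := fun k w => comp_u D' g j w k
  simp only [MonObj.comp_mul, GrpObj.comp_inv, hu]
  rw [comm_22 (D := D') hs g a b d c₁ c₂ c₃ hd hA hB hc₁ hc₂ hc₃]
  simp [gv_comp, h₁, h₂, h₃, map_ofNat]

end Groth.Agent.S8482
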