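import Groth.Statements.S8483
import Groth.Agent.H21Rank1.Braid

set_option autoImplicit false
universe u
open CategoryTheory MonoidalCategory CartesianMonoidalCategory MonObj GrpObj AlgebraicGeometry CategoryTheory.Limits
open Red

namespace Groth.Agent.S8483

/-- Let G be a reductive S-group, i : T ⟶ G a maximal torus, α a character of T non-trivial on every
geometric fibre, p₊, p₋ : 𝔾_a ⟶ G monomorphisms of groups normalised by T with multipliers α and α⁻¹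
whose cell map (y, t, x) ↦ p₋(y) i(t) p₊(x) is an open immersion 𝔾_a ×_S T ×_S 𝔾_a ⟶ G, and α^* :
𝔾_m ⟶ T the coroot: α ∘ α^* is the squaring map and p₊(x) p₋(y) = p₋(y/(1+xy)) · i(α^*(1+xy)) ·
p₊(x/(1+xy)) whenever 1 + xy is invertible (so p₊ and p₋ are dual to each other). For points x, y of
𝔾_a with invertible coordinates put w(x) = p₊(x) p₋(-x⁻¹) p₊(x) and w₋(y) = p₋(y) p₊(-y⁻¹) p₋(y).
Then w₋(x⁻¹) = w(x)⁻¹ = w(-x), and w(x) w₋(y) = i(α^*(x y)). -/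
theorem result (S : Scheme.{u}) (G T : Over S) [GrpObj G] [GrpObj T] (i : T ⟶ G) [IsMonHom i] [Mono i] (hG : Red.IsReductive G) (hTm : Red.IsMaximalTorus i)
    (α : T ⟶ Red.Gm S) [IsMonHom α] (hα : ∀ s : S, (Over.pullback (Red.geomPt s)).map α ≠ 1)
    (pp pm : Red.Ga S ⟶ G) [IsMonHom pp] [Mono pp] [IsMonHom pm] [Mono pm]
    (hpp : ∀ (X : Over S) (t : X ⟶ T) (x : X ⟶ Red.Ga S), ∃ x' : X ⟶ Red.Ga S,
      x' ≫ pp = (t ≫ i) * (x ≫ pp) * (t ≫ i)⁻¹ ∧ Red.gaFn x' = Red.gmFn (t ≫ α) * Red.gaFn x)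
    (hpm : ∀ (X : Over S) (t : X ⟶ T) (y : X ⟶ Red.Ga S), ∃ y' : X ⟶ Red.Ga S,
      y' ≫ pm = (t ≫ i) * (y ≫ pm) * (t ≫ i)⁻¹ ∧ Red.gaFn y' * Red.gmFn (t ≫ α) = Red.gaFn y)
    (hΩ : IsOpenImmersion (((pm ⊗ₘ i) ⊗ₘ pp) ≫ (μ[G] ▷ G) ≫ μ[G]).left)
    (av : Red.Gm S ⟶ T) [IsMonHom av] (h2 : av ≫ α = (𝟙 (Red.Gm S)) ^ 2)
    (hF : ∀ (X : Over S) (x y : X ⟶ Red.Ga S), IsUnit (1 + Red.gaFn x * Red.gaFn y) →
      ∃ (x' y' : X ⟶ Red.Ga S) (z : X ⟶ Red.Gm S), Red.gmFn z = 1 + Red.gaFn x * Red.gaFn y ∧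
        Red.gaFn x' * Red.gmFn z = Red.gaFn x ∧ Red.gaFn y' * Red.gmFn z = Red.gaFn y ∧
        (x ≫ pp) * (y ≫ pm) = (y' ≫ pm) * (z ≫ av ≫ i) * (x' ≫ pp))
    (X : Over S) (x x' nx nx' y y' : X ⟶ Red.Ga S) (hx : Red.gaFn x' * Red.gaFn x = -1) (hnx : Red.gaFn nx = - Red.gaFn x)
    (hnx' : Red.gaFn nx' = - Red.gaFn x') (hy : Red.gaFn y' * Red.gaFn y = -1) (z : X ⟶ Red.Gm S)
    (hz : Red.gmFn z = Red.gaFn x * Red.gaFn y) :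
    (nx' ≫ pm) * (nx ≫ pp) * (nx' ≫ pm) = ((x ≫ pp) * (x' ≫ pm) * (x ≫ pp))⁻¹ ∧
      (nx ≫ pp) * (nx' ≫ pm) * (nx ≫ pp) = ((x ≫ pp) * (x' ≫ pm) * (x ≫ pp))⁻¹ ∧
      ((x ≫ pp) * (x' ≫ pm) * (x ≫ pp)) * ((y ≫ pm) * (y' ≫ pp) * (y ≫ pm)) = z ≫ av ≫ i := by
  exact Groth.Agent.H21Rank1.w_minus_rules hpp hpm h2 hF x x' nx nx' y y' hx hnx hnx' hy z hz

end Groth.Agent.S8483
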