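import Groth.Statements.S8489
import Groth.Agent.H21Rank1.RootMono

set_option backward.isDefEq.respectTransparency false

set_option autoImplicit false
universe u
open CategoryTheory MonoidalCategory CartesianMonoidalCategory MonObj GrpObj AlgebraicGeometry CategoryTheory.Limits
open Red

namespace Groth.Agent.S8489

/-- At the level of root homomorphisms. Let G be a reductive S-group, i : T ⟶ G a maximal torus, α a
character of T non-trivial on every geometric fibre, and p₊, p₋ : 𝔾_a ⟶ G monomorphisms of groups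
normalised by T with multipliers α and α⁻¹ such that 𝔾_a ×_S T ×_S 𝔾_a ⟶ G, (y, t, x) ↦ p₋(y) i(t)
p₊(x), is an open immersion (a rank-one system: G has semisimple rank 1 and p₊, p₋ trivialise the
root groups of α and -α). Then every monomorphism of groups p : 𝔾_a ⟶ G normalised by T with
multiplier α is a rescaling of p₊ by a unit: there is exactly one S-point c of 𝔾_m with p(x) = p₊(c
x) for all points x of 𝔾_a. (The published statement is a bijection between the nowhere-vanishing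
sections of the root line bundle and such monomorphisms; this row states it after fixing p₊.) -/
theorem result (S : Scheme.{u}) (G T : Over S) [GrpObj G] [GrpObj T] (i : T ⟶ G) [IsMonHom i] [Mono i] (hG : Red.IsReductive G) (hTm : Red.IsMaximalTorus i)
    (α : T ⟶ Red.Gm S) [IsMonHom α] (hα : ∀ s : S, (Over.pullback (Red.geomPt s)).map α ≠ 1)
    (pp pm : Red.Ga S ⟶ G) [IsMonHom pp] [Mono pp] [IsMonHom pm] [Mono pm]
    (hpp : ∀ (X : Over S) (t : X ⟶ T) (x : X ⟶ Red.Ga S), ∃ x' : X ⟶ Red.Ga S,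
      x' ≫ pp = (t ≫ i) * (x ≫ pp) * (t ≫ i)⁻¹ ∧ Red.gaFn x' = Red.gmFn (t ≫ α) * Red.gaFn x)
    (hpm : ∀ (X : Over S) (t : X ⟶ T) (y : X ⟶ Red.Ga S), ∃ y' : X ⟶ Red.Ga S,
      y' ≫ pm = (t ≫ i) * (y ≫ pm) * (t ≫ i)⁻¹ ∧ Red.gaFn y' * Red.gmFn (t ≫ α) = Red.gaFn y)
    (hΩ : IsOpenImmersion (((pm ⊗ₘ i) ⊗ₘ pp) ≫ (μ[G] ▷ G) ≫ μ[G]).left)
    (p : Red.Ga S ⟶ G) [IsMonHom p] [Mono p]
    (hp : ∀ (X : Over S) (t : X ⟶ T) (x : X ⟶ Red.Ga S), ∃ x' : X ⟶ Red.Ga S,
      x' ≫ p = (t ≫ i) * (x ≫ p) * (t ≫ i)⁻¹ ∧ Red.gaFn x' = Red.gmFn (t ≫ α) * Red.gaFn x) :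
    ∃! c : 𝟙_ (Over S) ⟶ Red.Gm S, ∀ (X : Over S) (x y : X ⟶ Red.Ga S),
      Red.gaFn y = Red.gmFn (toUnit X ≫ c) * Red.gaFn x → x ≫ p = y ≫ pp := by
  exact Groth.Agent.H21Rank1.existsUnique_unit hpp hpm hΩ hTm.2.2.1 hα p hp

end Groth.Agent.S8489
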