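import Groth.Statements.S8509
import Groth.Agent.H21Hens.Lift
import Groth.Agent.S18366
import Groth.Agent.H19Grp.ImageGroup
import Groth.Agent.S5038
import Groth.Agent.S0505
import Groth.Agent.H21Diag.FpqcLocal

set_option autoImplicit false
open CategoryTheory MonoidalCategory CartesianMonoidalCategory MonObj GrpObj AlgebraicGeometry
universe u
open RedSub

namespace Groth.Agent.S8509

section

open CategoryTheory.Limits

/-- A compact open of the source mapping onto a given compact open of the target of an open map. -/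
theorem exists_compact_open_image {X Y : Scheme.{u}} (g : X ⟶ Y) (ho : IsOpenMap g.base) [Surjective g]
    (V : Y.Opens) (hV : IsCompact (V : Set Y)) :
    ∃ K : X.Opens, IsCompact (K : Set X) ∧ g.base '' (K : Set X) = (V : Set Y) := by
  classical
  have hb : ∀ y ∈ (V : Set Y), ∃ K : X.Opens, IsCompact (K : Set X) ∧ g.base '' (K : Set X) ⊆ V ∧
      y ∈ g.base '' (K : Set X) := by
    intro y hy
    obtain ⟨x, rfl⟩ := g.surjective y
    obtain ⟨K, hK, hxK, hKW⟩ := exists_isAffineOpen_mem_and_subset (U := g ⁻¹ᵁ V) (x := x) hy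
    exact ⟨K, hK.isCompact, Set.image_subset_iff.mpr hKW, x, hxK, rfl⟩
  choose! K hKc hKW hyK using hb
  obtain ⟨F, hF⟩ := hV.elim_finite_subcover (fun y : (V : Set Y) => g.base '' (K y.1 : Set X))
    (fun y => ho _ (K y.1).isOpen) fun y hy => Set.mem_iUnion.mpr ⟨⟨y, hy⟩, hyK y hy⟩
  refine ⟨⨆ y ∈ F, K y.1, ?_, ?_⟩
  · simp only [TopologicalSpace.Opens.coe_iSup]
    exact F.isCompact_biUnion fun y _ => hKc y.1 y.2
  · simp only [TopologicalSpace.Opens.coe_iSup, Set.image_iUnion]
    exact Set.Subset.antisymm (Set.iUnion₂_subset fun y _ => hKW y.1 y.2) hF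

/-- The structure map of a torsor under a smooth group is smooth. -/
theorem smooth_of_torsor {S : Scheme.{u}} {G P : Over S} [GrpObj G] [Smooth G.hom]
    (a : AlgGrp.Action G P) (ha : RedSub.IsTorsor a) : Smooth P.hom := by
  obtain ⟨hs, hf, hp, hiso⟩ := ha
  let e := lift a.act (snd G P)
  have : IsIso e.left := inferInstanceAs (IsIso ((Over.forget S).map e))
  have he : e.left ≫ pullback.snd P.hom P.hom = pullback.snd G.hom P.hom :=
    congrArg CommaMorphism.left (lift_snd a.act (snd G P))
  have h1 : Smooth (pullback.snd P.hom P.hom) := by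
    rw [(IsIso.eq_inv_comp e.left).mpr he]
    infer_instance
  refine Groth.Agent.H21Diag.of_fpqc_cover_base (@Smooth) P.hom (fun V hV => ?_) P.hom fun p => ?_
  · exact exists_compact_open_image P.hom P.hom.isOpenMap V hV.isCompact
  · refine ⟨⊤, trivial, ?_⟩
    rw [← pullbackLeftPullbackSndIso_inv_snd_snd P.hom P.hom (⊤ : P.left.Opens).ι,
      MorphismProperty.cancel_left_of_respectsIso (P := @Smooth)]
    exact MorphismProperty.pullback_snd _ _ h1

/-- A smooth nonempty scheme over a field has a point in a finite separable extension. -/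
theorem exists_separable_point_of_smooth {k : Type u} [Field k] {X : Scheme.{u}}
    (q : X ⟶ Spec (CommRingCat.of k)) [Smooth q] [Nonempty X] :
    ∃ (L : Type u) (_ : Field L) (_ : Algebra k L) (_ : FiniteDimensional k L) (_ : Algebra.IsSeparable k L)
      (w : Spec (CommRingCat.of L) ⟶ X), w ≫ q = Spec.map (CommRingCat.ofHom (algebraMap k L)) := by
  classical
  obtain ⟨x⟩ := ‹Nonempty X›
  obtain ⟨W, hW, hxW, -⟩ := exists_isAffineOpen_mem_and_subset (U := (⊤ : X.Opens)) (x := x) trivial
  obtain ⟨ψ, hψ⟩ := Spec.map_surjective (hW.fromSpec ≫ q)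
  let K := SeparableClosure k
  let bK : Spec (CommRingCat.of K) ⟶ Spec (CommRingCat.of k) := Spec.map (CommRingCat.ofHom (algebraMap k K))
  have hsm : Smooth (Spec.map ψ) := by rw [hψ]; infer_instance
  let qK := pullback.snd (Spec.map ψ) bK
  have : Smooth qK := MorphismProperty.pullback_snd _ _ hsm
  have : QuasiCompact (Spec.map ψ) := inferInstance
  have : QuasiCompact qK := MorphismProperty.pullback_snd _ _ inferInstance
  have : GeometricallyReduced qK := Groth.Agent.H19Grp.geometricallyReduced_of_smooth qK
  have hbK : Surjective bK := ⟨fun y => ⟨IsLocalRing.closedPoint K,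
    (inferInstance : Subsingleton (PrimeSpectrum k)).elim _ _⟩⟩
  have : Nonempty ↥(pullback (Spec.map ψ) bK) := by
    have hWne : Nonempty ↥(Spec Γ(X, W)) := ⟨hW.isoSpec.hom.base ⟨x, hxW⟩⟩
    obtain ⟨w⟩ := hWne
    obtain ⟨y, hy⟩ := (MorphismProperty.pullback_fst (P := @Surjective) (Spec.map ψ) bK hbK).surj w
    exact ⟨y⟩
  obtain ⟨s, hs⟩ := Groth.Agent.S18366.result K qK
  obtain ⟨χ, hχ⟩ := Spec.map_surjective (s ≫ pullback.fst (Spec.map ψ) bK)
  have hcomp : ψ ≫ χ = CommRingCat.ofHom (algebraMap k K) := by
    apply Spec.map_injective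
    rw [Spec.map_comp, hχ, Category.assoc, pullback.condition, reassoc_of% hs]
  algebraize [ψ.hom]
  have hc : ∀ c, χ.hom (ψ.hom c) = algebraMap k K c :=
    fun c => congrArg (fun φ : CommRingCat.of k ⟶ CommRingCat.of K => φ.hom c) hcomp
  let χA : Γ(X, W) →ₐ[k] K := { χ.hom with commutes' := hc }
  have hft : ψ.hom.FiniteType := (HasRingHomProperty.Spec_iff (P := @LocallyOfFiniteType)).mp inferInstance
  obtain ⟨t, ht⟩ := (show Algebra.FiniteType k Γ(X, W) from hft).out
  let L : IntermediateField k K := IntermediateField.adjoin k (χA '' (t : Set Γ(X, W)))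
  have : Finite (χA '' (t : Set Γ(X, W)) : Set K) := (t.finite_toSet.image _).to_subtype
  have : FiniteDimensional k L := IntermediateField.finiteDimensional_adjoin
    fun z _ => Algebra.IsIntegral.isIntegral z
  have hle : ∀ c, χA c ∈ L := fun c => by
    have h1 : (Algebra.adjoin k (t : Set Γ(X, W))) ≤ L.toSubalgebra.comap χA :=
      Algebra.adjoin_le fun b hb => IntermediateField.subset_adjoin k _ ⟨b, hb, rfl⟩
    exact h1 (ht ▸ Algebra.mem_top)
  let χL : Γ(X, W) →ₐ[k] L := χA.codRestrict L.toSubalgebra hle
  refine ⟨L, inferInstance, inferInstance, inferInstance, inferInstance,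
    Spec.map (CommRingCat.ofHom χL.toRingHom) ≫ hW.fromSpec, ?_⟩
  rw [Category.assoc, ← hψ, ← Spec.map_comp]
  congr 1
  exact CommRingCat.hom_ext (RingHom.ext fun c => χL.commutes c)

end

/-- Let A be a henselian local ring, S = Spec A, and G an S-group scheme which is smooth and affine over
S. Then every torsor P under G (a representable principal homogeneous bundle) is isotrivial: there
is a finite etale surjective morphism S' ⟶ S such that P_{S'} has a section. (The published
statement asks only that every finite set of points of G lie in an affine open; this row takes G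
affine over S.) -/
theorem result (A : Type u) [CommRing A] [HenselianLocalRing A]
    {G P : Over (Spec (CommRingCat.of A))} [GrpObj G] [Smooth G.hom] [IsAffineHom G.hom] (a : AlgGrp.Action G P)
    (ha : RedSub.IsTorsor a) :
    ∃ (S' : Scheme.{u}) (f : S' ⟶ Spec (CommRingCat.of A)), IsFinite f ∧ Etale f ∧ Surjective f ∧
      RedSub.HasSection (Red.bc f P) := by
  classical
  have hsm : Smooth P.hom := smooth_of_torsor a ha
  have hsur : Surjective P.hom := ha.1
  let r : Spec (CommRingCat.of (IsLocalRing.ResidueField A)) ⟶ Spec (CommRingCat.of A) :=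
    Spec.map (CommRingCat.ofHom (IsLocalRing.residue A))
  let q₀ := Limits.pullback.snd P.hom r
  have : Smooth q₀ := MorphismProperty.pullback_snd _ _ hsm
  have : Nonempty ↥(Limits.pullback P.hom r) := by
    obtain ⟨y, -⟩ := (MorphismProperty.pullback_snd (P := @Surjective) P.hom r hsur).surj
      (IsLocalRing.closedPoint (IsLocalRing.ResidueField A))
    exact ⟨y⟩
  obtain ⟨L, _, _, _, _, w, hw⟩ := exists_separable_point_of_smooth q₀
  obtain ⟨E, _, _, _, hfin, het, θ, hθ⟩ := Groth.Agent.H21Hens.exists_etale_lift A L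
  have : HenselianLocalRing E := Groth.Agent.S0505.result A E
  let f : Spec (CommRingCat.of E) ⟶ Spec (CommRingCat.of A) :=
    Spec.map (CommRingCat.ofHom (algebraMap A E))
  have hff : IsFinite f := by rw [IsFinite.SpecMap_iff]; exact RingHom.finite_algebraMap.mpr hfin
  have hfe : Etale f := (HasRingHomProperty.Spec_iff (P := @Etale)).mpr (RingHom.etale_algebraMap.mpr het)
  have : IsLocalHom (algebraMap A E) := ⟨fun c hc => by
    by_contra hn
    have h0 : IsLocalRing.residue A c = 0 := (IsLocalRing.residue_eq_zero_iff c).mpr hn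
    have := hθ c
    rw [h0, map_zero, map_zero] at this
    exact (hc.map (IsLocalRing.residue E)).ne_zero this.symm⟩
  have hfs : Surjective f := by
    refine ⟨fun p => ?_⟩
    obtain ⟨z, hz⟩ : IsLocalRing.closedPoint A ∈ Set.range f.base :=
      ⟨IsLocalRing.closedPoint E, IsLocalRing.comap_closedPoint (algebraMap A E)⟩
    have : IsOpen (Set.range f.base) := f.isOpenMap.isOpen_range
    exact Specializes.mem_open (x := p) (y := IsLocalRing.closedPoint A) (s := Set.range f.base)
      (IsLocalRing.specializes_closedPoint p) this ⟨z, hz⟩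
  let rE : Spec (CommRingCat.of (IsLocalRing.ResidueField E)) ⟶ Spec (CommRingCat.of E) :=
    Spec.map (CommRingCat.ofHom (IsLocalRing.residue E))
  let u₀ : Spec (CommRingCat.of (IsLocalRing.ResidueField E)) ⟶ Limits.pullback P.hom f :=
    Limits.pullback.lift (Spec.map (CommRingCat.ofHom θ.toRingHom) ≫ w ≫ Limits.pullback.fst P.hom r) rE (by
      rw [Category.assoc, Category.assoc, Limits.pullback.condition, reassoc_of% hw]
      simp only [r, f, rE, ← Spec.map_comp]
      congr 1
      exact CommRingCat.hom_ext (RingHom.ext fun c => hθ c))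
  have : Smooth (Limits.pullback.snd P.hom f) := MorphismProperty.pullback_snd _ _ hsm
  obtain ⟨v, hv, -⟩ := Groth.Agent.S5038.result E (Limits.pullback.snd P.hom f) u₀
    (Limits.pullback.lift_snd _ _ _)
  exact ⟨_, f, hff, hfe, hfs, ⟨Over.homMk v hv⟩⟩

end Groth.Agent.S8509
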