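import Groth.Statements.S8513


set_option autoImplicit false
open CategoryTheory MonoidalCategory CartesianMonoidalCategory MonObj GrpObj AlgebraicGeometry
universe u
open Par

open CategoryTheory.Limits
set_option backward.isDefEq.respectTransparency false

namespace Groth.Agent.S8513

/-- Let G be a reductive S-group and P, Q two parabolic subgroups of G in transversal position (the
multiplication morphism P ×_S Q ⟶ G is smooth). Then P ∩ Q (a fibre product of P and Q over G) is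
smooth over S. -/
theorem result {S : Scheme.{u}} {G P Q I : Over S} [GrpObj G] [GrpObj P] [GrpObj Q]
    (hG : Red.IsReductive G) (p : P ⟶ G) (q : Q ⟶ G) (hP : Red.IsParabolic p) (hQ : Red.IsParabolic q)
    (htr : Smooth ((p ⊗ₘ q) ≫ μ[G]).left) (m : I ⟶ P) (m' : I ⟶ Q) (hI : IsPullback m m' p q) :
    Smooth I.hom := by
  have := hP.1
  have := hQ.1
  let q' : Q ⟶ G := q
  let u : I ⟶ P ⊗ Q := lift m (m' ≫ GrpObj.inv)
  have hinv : ∀ {T : Over S} (b : T ⟶ Q), (b ≫ GrpObj.inv) ≫ q = (b ≫ q)⁻¹ := by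
    intro T b
    rw [show b ≫ GrpObj.inv = b⁻¹ from rfl, GrpObj.inv_comp]
  have hw : u ≫ (p ⊗ₘ q) ≫ μ[G] = toUnit I ≫ η[G] := by
    rw [lift_map_assoc, ← Hom.one_def, ← Hom.mul_def, hinv, hI.w, mul_inv_cancel]
  have hpb : IsPullback u (toUnit I) ((p ⊗ₘ q) ≫ μ[G]) η[G] := by
    refine ⟨⟨hw⟩, ⟨PullbackCone.isLimitAux' _ fun s => ?_⟩⟩
    have hs : (s.fst ≫ fst P Q) ≫ p = (s.fst ≫ snd P Q)⁻¹ ≫ q := by
      have h := s.condition
      rw [toUnit_unique s.snd (toUnit _), ← Hom.one_def, ← Category.assoc, show s.fst ≫ (p ⊗ₘ q) = lift ((s.fst ≫ fst P Q) ≫ p) ((s.fst ≫ snd P Q) ≫ q) by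
        rw [← lift_map, ← comp_lift, lift_fst_snd, Category.comp_id], ← Hom.mul_def] at h
      rw [GrpObj.inv_comp]
      exact eq_inv_of_mul_eq_one_left h
    refine ⟨hI.lift _ _ hs, ?_, toUnit_unique _ _, fun {g} h1 h2 => ?_⟩
    · change hI.lift _ _ hs ≫ lift m (m' ≫ GrpObj.inv) = s.fst
      rw [comp_lift, hI.lift_fst, ← Category.assoc, hI.lift_snd, show ∀ b : s.pt ⟶ Q, b ≫ GrpObj.inv = b⁻¹ from fun b => rfl,
        _root_.inv_inv, ← comp_lift, lift_fst_snd, Category.comp_id]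
    · have h1' : g ≫ lift m (m' ≫ GrpObj.inv) = s.fst := h1
      refine hI.hom_ext ?_ ?_
      · rw [hI.lift_fst, ← h1', Category.assoc, lift_fst]
      · rw [hI.lift_snd, ← h1', Category.assoc, lift_snd, ← Category.assoc, show ∀ b : s.pt ⟶ Q, b ≫ GrpObj.inv = b⁻¹ from fun b => rfl, _root_.inv_inv]
  have h := MorphismProperty.of_isPullback (P := @Smooth) (hpb.map (Over.forget S)) htr
  rw [show I.hom = (toUnit I).left ≫ (𝟙_ (Over S)).hom from (Over.w (toUnit I)).symm]
  have : Smooth (toUnit I).left := h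
  have : Smooth (𝟙_ (Over S)).hom := (inferInstance : Smooth (𝟙 S))
  infer_instance

end Groth.Agent.S8513
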