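import Groth.Statements.S8517
import Groth.Agent.H21Root.Inversions

set_option autoImplicit false
open CategoryTheory MonoidalCategory CartesianMonoidalCategory MonObj GrpObj AlgebraicGeometry
universe u
open RedSub

namespace Groth.Agent.S8517


/-- Let R be the set of roots of a root pairing over ℤ with finitely many roots, and R₁, R₂ two closed
subsets of R (if a, b ∈ Rᵢ and root a + root b is a root c then c ∈ Rᵢ), each containing a system of
positive roots (the positive roots of some base). If R₁ ∪ R₂ = R, then R₁ ∩ (−R₂) (the roots of R₁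
whose negative is a root in R₂) contains a system of positive roots. -/
theorem result {idx M N : Type} [Finite idx] [AddCommGroup M] [AddCommGroup N] (P : RootPairing idx ℤ M N) (R₁ R₂ : Set idx)
    (h₁ : ∀ a b c : idx, a ∈ R₁ → b ∈ R₁ → P.root a + P.root b = P.root c → c ∈ R₁)
    (h₂ : ∀ a b c : idx, a ∈ R₂ → b ∈ R₂ → P.root a + P.root b = P.root c → c ∈ R₂)
    (hb₁ : ∃ b : P.Base, RedSub.posRoots P b ⊆ R₁) (hb₂ : ∃ b : P.Base, RedSub.posRoots P b ⊆ R₂)
    (hunion : R₁ ∪ R₂ = Set.univ) :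
    ∃ b : P.Base, RedSub.posRoots P b ⊆ {a | a ∈ R₁ ∧ ∃ c ∈ R₂, P.root a = -P.root c} := by
  have hcov : ∀ (R : Set idx), (∀ a b c : idx, a ∈ R → b ∈ R → P.root a + P.root b = P.root c → c ∈ R) →
      (∃ b : P.Base, RedSub.posRoots P b ⊆ R) → ∀ i, i ∈ R ∨ H21Root.opp P i ∈ R := by
    rintro R - ⟨b, hb⟩ i
    have hS := (H21Root.simpleZ_base b).isPosSys
    exact (hS.cover i).imp (fun h => hb h) (fun h => hb h)
  have c₁ := hcov R₁ h₁ hb₁
  have c₂ := hcov R₂ h₂ hb₂
  set T : Set idx := {a | a ∈ R₁ ∧ ∃ c ∈ R₂, P.root a = -P.root c} with hT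
  have hmem : ∀ a, a ∈ T ↔ a ∈ R₁ ∧ H21Root.opp P a ∈ R₂ := by
    intro a
    refine and_congr_right fun _ => ⟨?_, fun h => ⟨_, h, by rw [H21Root.root_opp, neg_neg]⟩⟩
    rintro ⟨c, hc, he⟩
    rwa [H21Root.eq_opp_of_root_eq_neg P he, H21Root.opp_opp]
  have hclosed : RootD.IsClosedSub P T := by
    intro i j k hi hj he
    rw [hmem] at hi hj ⊢
    refine ⟨h₁ _ _ _ hi.1 hj.1 he.symm, h₂ _ _ _ hi.2 hj.2 ?_⟩
    rw [H21Root.root_opp, H21Root.root_opp, H21Root.root_opp, ← neg_add, he]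
  have hTcov : ∀ i, i ∈ T ∨ H21Root.opp P i ∈ T := by
    intro i
    rw [hmem, hmem, H21Root.opp_opp]
    have u1 : i ∈ R₁ ∨ i ∈ R₂ := (Set.eq_univ_iff_forall.mp hunion i)
    have u2 : H21Root.opp P i ∈ R₁ ∨ H21Root.opp P i ∈ R₂ :=
      (Set.eq_univ_iff_forall.mp hunion _)
    have := c₁ i
    have := c₂ i
    tauto
  obtain ⟨b, -⟩ := hb₁
  have hS := (H21Root.simpleZ_base (P := P) b).isPosSys
  obtain ⟨g, -, hg⟩ := H21Root.exists_weyl_image_subset hS hclosed hTcov
  obtain ⟨b', hb'⟩ := H21Root.exists_base_image P b g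
  refine ⟨b', fun a ha => H21Root.mem_of_natSpan P hclosed (H21Root.natSpan_mono P ?_ ha)⟩
  rw [hb']
  exact (Set.image_mono (H21Root.subset_posOf P _)).trans hg

end Groth.Agent.S8517
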