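import Groth.Statements.S8524
import Groth.Agent.H18Et.Stalk
import Mathlib

set_option autoImplicit false
universe u
open CategoryTheory CategoryTheory.Limits AlgebraicGeometry Opposite
open EtAcyc

namespace Groth.Agent.S8524

/-- For the small etale site of a scheme and abelian sheaves: let L be a set of primes, F an abelian
L-torsion sheaf on the small etale site of a scheme X, and U an etale X-scheme with quasi-compact
underlying space. Then every section of F over U is killed by some positive integer all of whose
prime factors lie in L. -/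
theorem result {X : Scheme.{u}} (L : Set ℕ) (F : EtCoh.Ab X)
    (hF : EtAcyc.IsLTorsion L F) (U : X.Etale) [CompactSpace U.left] (s : EtCoh.sect F U) :
    ∃ m : ℕ, EtAcyc.PrimesIn L m ∧ m • s = 0 := by
  classical
  choose V g m hv hm hs using fun x : U.left => hF U s x
  have hopen : ∀ x : U.left, IsOpen (Set.range (g x).left.base) := fun x => by
    haveI : Etale ((g x).left ≫ U.hom) := by rw [CategoryTheory.MorphismProperty.Over.w (g x)]; exact (V x).prop
    haveI : Etale U.hom := U.prop
    haveI : Etale (g x).left := MorphismProperty.of_postcomp @Etale (g x).left U.hom ‹_› ‹_›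
    exact (g x).left.isOpenMap.isOpen_range
  obtain ⟨t, ht⟩ := isCompact_univ.elim_finite_subcover (fun x => Set.range (g x).left.base) hopen
    (fun x _ => Set.mem_iUnion.2 ⟨x, hv x⟩)
  refine ⟨∏ x ∈ t, m x, ⟨Finset.prod_pos fun x _ => (hm x).1, fun p hp hdvd => ?_⟩, ?_⟩
  · obtain ⟨x, -, hx⟩ := (hp.prime.dvd_finset_prod_iff m).1 hdvd
    exact (hm x).2 p hp hx
  · refine Presieve.IsSeparatedFor.ext (P := F.obj ⋙ CategoryTheory.forget _)
      (R := (Presheaf.equalizerSieve (F := F.obj) ((∏ x ∈ t, m x) • s) 0).arrows) ?_ ?_
    · refine (((isSheaf_iff_isSheaf_of_type _ _).1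
        ((sheafCompose _ (CategoryTheory.forget _)).obj F).property) _ ?_).isSeparatedFor
      refine Groth.Agent.H18Et.mem_topology_of_forall_point _ fun u => ?_
      obtain ⟨x, hx, v, hvu⟩ : ∃ x ∈ t, ∃ v, (g x).left.base v = u := by
        simpa using ht (Set.mem_univ u)
      refine ⟨V x, g x, v, ?_, hvu⟩
      show F.obj.map (g x).op ((∏ x ∈ t, m x) • s) = F.obj.map (g x).op 0
      obtain ⟨c, hc⟩ := Finset.dvd_prod_of_mem m hx
      rw [map_zero, map_nsmul, hc, mul_comm, mul_smul]
      refine (congrArg (c • ·) ?_).trans (smul_zero c)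
      exact hs x
    · intro W a ha
      exact ha

end Groth.Agent.S8524
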