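import Groth.Statements.S8525
import Groth.Agent.H18Et.Stalk
import Mathlib

set_option autoImplicit false
universe u
open CategoryTheory CategoryTheory.Limits AlgebraicGeometry Opposite
open EtAcyc

namespace Groth.Agent.S8525

open Groth.Agent.H18Et

/-- Let L be a set of primes and F an abelian sheaf on the small etale site of a scheme X. Then F is an
L-torsion sheaf if and only if for every geometric point ξ of X every element of the stalk F_ξ is
killed by a positive integer all of whose prime factors lie in L. -/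
theorem result {X : Scheme.{u}} (L : Set ℕ) (F : EtCoh.Ab X) :
    EtAcyc.IsLTorsion L F ↔
      ∀ (Ω : Type u) [Field Ω] [IsSepClosed Ω] (ξ : Spec (CommRingCat.of Ω) ⟶ X)
        (t : (EtCoh.stalk ξ).obj F), ∃ m : ℕ, EtAcyc.PrimesIn L m ∧ m • t = 0 := by
  constructor
  · intro h Ω _ _ ξ t
    obtain ⟨U, x, s, rfl⟩ := germ_surjective ξ F t
    let R : Sieve U :=
      { arrows := fun V g => ∃ m : ℕ, EtAcyc.PrimesIn L m ∧ m • F.obj.map g.op s = 0
        downward_closed := fun {V W g} ⟨m, hm, hs⟩ g' => ⟨m, hm, by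
          rw [op_comp, F.obj.map_comp, ConcreteCategory.comp_apply, ← map_nsmul, hs, map_zero]⟩ }
    have hR : R ∈ X.smallEtaleTopology U := mem_topology_of_forall_point R fun u => by
      obtain ⟨V, g, m, ⟨v, hv⟩, hm, hs⟩ := h U s u
      exact ⟨V, g, v, ⟨m, hm, hs⟩, hv⟩
    obtain ⟨V, g, ⟨m, hm, hs⟩, y, hy⟩ := (Scheme.pointSmallEtale ξ).jointly_surjective R hR x
    refine ⟨m, hm, ?_⟩
    rw [← map_nsmul]
    refine ((germ_eq_iff ξ F U x _ 0).2 ⟨V, g, y, hy, ?_⟩).trans (map_zero _)
    rw [map_nsmul, hs, map_zero]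
  · intro h U s u
    obtain ⟨x, hx⟩ := exists_fiber_over u (geomPt (U.hom.base u)) (geomPt_base _)
    obtain ⟨m, hm, hz⟩ := h _ (geomPt (U.hom.base u)) (germ _ F U x s)
    rw [← map_nsmul] at hz
    obtain ⟨V, g, y, hy, e⟩ := (germ_eq_iff _ F U x (m • s) 0).1 (hz.trans (map_zero _).symm)
    refine ⟨V, g, m, ⟨ptOf y, ?_⟩, hm, ?_⟩
    · rw [ptOf_map, hy, hx]
    · rwa [map_nsmul, map_zero] at e

end Groth.Agent.S8525
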