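import Groth.Statements.S8528
import Groth.Agent.H18UnibrConst.Basic
import Groth.Agent.H1DFun.EdgeExt
import Groth.Agent.H05EGA4.EtTors.Vanish

set_option autoImplicit false
universe u
open scoped Groth.Agent.H18Et
open CategoryTheory CategoryTheory.Limits AlgebraicGeometry Opposite
open EtPBC

namespace Groth.Agent.S8528

/-- Let X be an irreducible scheme all of whose strict localizations are irreducible (for every point x
and every strict henselization R of the local ring at x, Spec R is irreducible; that is, X is
geometrically unibranch), and M a torsion-free abelian group. Then H^1(X, M_X) = 0 for the constant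
sheaf M_X on the small etale site. -/
theorem result (X : Scheme.{u}) [IrreducibleSpace X]
    (hX : ∀ (x : X) (R : Type u) [CommRing R] [IsLocalRing R] [Algebra (X.presheaf.stalk x) R]
      [IsLocalHom (algebraMap (X.presheaf.stalk x) R)] [Hensel.IsStrictHenselization (X.presheaf.stalk x) R],
      IrreducibleSpace (PrimeSpectrum R))
    (M : Type) [AddCommGroup M] [IsAddTorsionFree M] :
    Subsingleton (EtCoh.H X (EtCoh.const X M) 1) := by
  let η := genericPoint X
  let K := X.residueField η
  let f : Spec (CommRingCat.of K) ⟶ X := X.fromSpecResidueField η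
  haveI : PreservesFiniteLimits (EtCoh.pull f) := Groth.Agent.H18Et.pull_preservesFiniteLimits f
  haveI : PreservesFiniteColimits (EtCoh.pull f) := ((EtCoh.pullPushAdj f).leftAdjoint_preservesColimits : PreservesColimitsOfSize.{0, 0} _).preservesFiniteColimits
  haveI : PreservesFiniteLimits (EtCoh.push f) := ((EtCoh.pullPushAdj f).rightAdjoint_preservesLimits : PreservesLimitsOfSize.{0, 0} _).preservesFiniteLimits
  let A := AddCommGrpCat.of (ULift.{u + 1} M)
  haveI : IsIso ((EtCoh.pullPushAdj f).unit.app (EtCoh.const X M)) :=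
    Groth.Agent.H18Et.ConstSheaf.isIso_unit f Groth.Agent.H18UnibrConst.denseRange_residueField
      (Groth.Agent.H18UnibrConst.unibranchAlong_residueField hX)
      (Groth.Agent.H18Et.ConstSheaf.isConstant_unitTop (X := X) A)
  haveI := Groth.Agent.H05EGA4.EtTors.subsingleton_H1_const K M
  haveI : Subsingleton (Abelian.Ext ((EtCoh.pull f).obj (EtCoh.const X ℤ)) ((EtCoh.pull f).obj (EtCoh.const X M)) 1) := by
    refine Function.Injective.subsingleton (β := EtCoh.H (Spec (CommRingCat.of K)) (EtCoh.const _ M) 1)
      (f := fun e => ((Abelian.Ext.mk₀ (EtCore.pullConst f ℤ).inv).comp e (zero_add 1)).comp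
        (Abelian.Ext.mk₀ (EtCore.pullConst f M).hom) (add_zero 1)) fun a b e => ?_
    have h := congrArg (fun z => ((Abelian.Ext.mk₀ (EtCore.pullConst f ℤ).hom).comp z (zero_add 1)).comp
      (Abelian.Ext.mk₀ (EtCore.pullConst f M).inv) (add_zero 1)) e
    simpa [Abelian.Ext.comp_assoc_of_second_deg_zero, Abelian.Ext.comp_assoc_of_third_deg_zero] using h
  haveI : Subsingleton (EtCoh.H X ((EtCoh.push f).obj ((EtCoh.pull f).obj (EtCoh.const X M))) 1) :=
    (Groth.Agent.H1DFun.edge_injective_one (EtCoh.pullPushAdj f) (EtCoh.const X ℤ)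
      ((EtCoh.pull f).obj (EtCoh.const X M))).subsingleton
  let e := ((EtCoh.HF X 1).mapIso (asIso ((EtCoh.pullPushAdj f).unit.app
    (EtCoh.const X M)))).addCommGroupIsoToAddEquiv
  exact Function.Injective.subsingleton (β := EtCoh.H X ((EtCoh.push f).obj ((EtCoh.pull f).obj (EtCoh.const X M))) 1) e.injective

end Groth.Agent.S8528
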