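import Groth.Statements.S8532
import Groth.Agent.H13AlgSp.GeomFinrank
import Groth.Agent.H15Site.IntDesc.PushH
import Groth.Agent.H1DFun.LTorsion
import Groth.Agent.H15Site.Trace.Main

set_option autoImplicit false
universe u
open CategoryTheory CategoryTheory.Limits AlgebraicGeometry Opposite
open EtAcyc

namespace Groth.Agent.S8532

set_option backward.isDefEq.respectTransparency false
set_option backward.isDefEq.respectTransparency.types false

set_option linter.style.haveILetI false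

open scoped Groth.Agent.H18Et
open Groth.Agent.H18Et

theorem isIso_nsmul {X : Scheme.{u}} (L : Set ℕ) (F : EtCoh.Ab X) (hF : EtAcyc.IsLTorsion L F) (d : ℕ)
    (hL : ∀ p : ℕ, p.Prime → p ∈ L → ¬ p ∣ d) : IsIso (d • 𝟙 F : F ⟶ F) := by
  rw [Groth.Agent.H18Et.isIso_iff_stalk]
  intro Ω _ _ ξ
  rw [ConcreteCategory.isIso_iff_bijective]
  have key : ∀ p : (EtCoh.stalk ξ).obj F, ∃ m : ℕ, m.Coprime d ∧ m • p = 0 := by
    intro p
    obtain ⟨U, z, s, rfl⟩ := germ_surjective ξ F p
    obtain ⟨V, g, m, ⟨v, hv⟩, hm, hms⟩ := hF U s (ptOf z)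
    obtain ⟨y, hy⟩ := exists_fiber_lift g z v hv
    refine ⟨m, Nat.coprime_of_dvd fun k hk hkm hkd => hL k hk (hm.2 k hk hkm) hkd, ?_⟩
    have h1 : germ ξ F V y (F.obj.map g.op s) = germ ξ F U z s := by
      rw [← hy]
      exact (Scheme.pointSmallEtale ξ).toPresheafFiber_w_apply g y F.obj s
    rw [← h1, ← map_nsmul, hms, map_zero]
  refine ⟨(injective_iff_map_eq_zero _).2 fun p hp => ?_, fun p => ?_⟩
  · rw [H1DFun.stalk_map_nsmul] at hp
    obtain ⟨m, hc, hmp⟩ := key p
    have h1 : addOrderOf p ∣ Nat.gcd m d :=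
      Nat.dvd_gcd (addOrderOf_dvd_of_nsmul_eq_zero hmp) (addOrderOf_dvd_of_nsmul_eq_zero hp)
    rw [hc.gcd_eq_one] at h1
    exact AddMonoid.addOrderOf_eq_one_iff.1 (Nat.dvd_one.1 h1)
  · obtain ⟨m, hc, hmp⟩ := key p
    obtain ⟨a, b, hab⟩ : ∃ a b : ℤ, a * m + b * d = 1 :=
      Int.isCoprime_iff_gcd_eq_one.2 (by simpa [Int.gcd_natCast_natCast] using hc)
    refine ⟨b • p, ?_⟩
    rw [H1DFun.stalk_map_nsmul]
    have h2 := congrArg (fun k : ℤ => k • p) hab
    simp only [add_smul, mul_smul, natCast_zsmul, hmp, smul_zero, zero_add, one_zsmul] at h2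
    rw [smul_comm]
    exact h2

/-- Let f : X' → X be finite etale of constant degree d (every geometric fibre has exactly d points), L
a set of primes such that no prime in L divides d, F an abelian L-torsion sheaf on the small etale
site of X, and q a natural number. If H^q(X', f⁻¹F) = 0, then H^q(X, F) = 0. -/
theorem result {X X' : Scheme.{u}} (f : X' ⟶ X) [IsFinite f] [Etale f]
    (d : ℕ) (hd : ∀ (Ω : Type u) [Field Ω] [IsSepClosed Ω] (ξ : Spec (CommRingCat.of Ω) ⟶ X),
      Nat.card ↥(pullback f ξ) = d)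
    (L : Set ℕ) (hL : ∀ p : ℕ, p.Prime → p ∈ L → ¬ p ∣ d) (F : EtCoh.Ab X) (hF : EtAcyc.IsLTorsion L F)
    [PreservesFiniteLimits (EtCoh.pull f)] (q : ℕ)
    (h : Subsingleton (EtCoh.H X' ((EtCoh.pull f).obj F) q)) :
    Subsingleton (EtCoh.H X F q) := by
  have hdeg : ∀ x : X, f.finrank x = d := fun x => by
    let η := H15Site.Shriek.algPt x
    haveI : Finite (Groth.Agent.H18Et.Pts f η) := Groth.Agent.H18Et.finite_pts f η
    have e : H7Weight.pt η = x := (congrArg (fun a => η.base a) (Subsingleton.elim _ _)).trans (H15Site.Shriek.algPt_base x)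
    rw [← e, H13AlgSp.Degree.finrank_eq_natCard_pts f η, ← hd _ η]
    exact Nat.card_congr (Equiv.ofBijective _
      ⟨Groth.Agent.H18Et.injective_qOf (f := f) (η := η), Groth.Agent.H18Et.surjective_qOf (f := f) (η := η)⟩)
  haveI := isIso_nsmul L F hF d hL
  obtain ⟨i⟩ := H15Site.IntDesc.nonempty_H_push f ((EtCoh.pull f).obj F) q
  haveI : Subsingleton ((EtCoh.HF X q).obj ((EtCoh.push f).obj ((EtCoh.pull f).obj F))) :=
    haveI := h
    Function.Injective.subsingleton (α := EtCoh.H X ((EtCoh.push f).obj ((EtCoh.pull f).obj F)) q)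
      i.addCommGroupIsoToAddEquiv.injective
  have hc := H15Site.Trace.unit_trace f F d hdeg
  have hbij := ConcreteCategory.bijective_of_isIso ((EtCoh.HF X q).map (d • 𝟙 F : F ⟶ F))
  refine ⟨fun (a b : (EtCoh.HF X q).obj F) => hbij.1 ?_⟩
  rw [← hc, Functor.map_comp, ConcreteCategory.comp_apply, ConcreteCategory.comp_apply]
  exact congrArg _ (Subsingleton.elim (α := (EtCoh.HF X q).obj ((EtCoh.push f).obj ((EtCoh.pull f).obj F))) _ _)

end Groth.Agent.S8532
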