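import Groth.Statements.S8535
import Groth.Agent.H16Derived.DeltaUniversal

set_option autoImplicit false
universe v v' u u'
open CategoryTheory CategoryTheory.Limits
open DeltaF

namespace Groth.Agent.S8535

open CategoryTheory CategoryTheory.Limits
open Groth.Agent.H16Derived.DeltaUniversal

/-- Let A and B be abelian categories, T and T' cohomological delta-functors from A to B in degrees ≥ 0
whose degree-0 components are left exact (they vanish in negative degrees), such that T^i is
effaceable for every i > 0, and let φ : T → T' be a morphism of delta-functors and n a natural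
number. Then the following are equivalent: (a) φ^i is an isomorphism for i ≤ n and a monomorphism
for i = n + 1; (b) φ^0 is a monomorphism and φ^i is an epimorphism for every i ≤ n; (c) φ^0 is an
isomorphism and, for 0 < i ≤ n, T'^i is effaceable (every object X admits a monomorphism X → Y
killed by T'^i). -/
theorem result {A : Type u} [Category.{v} A] [Abelian A]
    {B : Type u'} [Category.{v'} B] [Abelian B] (T T' : DeltaF.CohDeltaFunctor A B ℕ)
    (h0 : T.ZeroMono) (h0' : T'.ZeroMono) (hT : T.IsEffaceable) (φ : T ⟶ T') (n : ℕ) :
    ((∀ i : ℕ, i ≤ n → IsIso (φ.app i)) ∧ Mono (φ.app (n + 1)) ↔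
      (Mono (φ.app 0) ∧ ∀ i : ℕ, i ≤ n → Epi (φ.app i))) ∧
    ((∀ i : ℕ, i ≤ n → IsIso (φ.app i)) ∧ Mono (φ.app (n + 1)) ↔
      (IsIso (φ.app 0) ∧ ∀ i : ℕ, 0 < i → i ≤ n → ∀ X : A, ∃ (Y : A) (u : X ⟶ Y), Mono u ∧ (T'.F i).map u = 0)) := by
  constructor
  · constructor
    · rintro ⟨h, -⟩
      exact ⟨by have := h 0 (Nat.zero_le n); infer_instance, fun i hi => by have := h i hi; infer_instance⟩
    · rintro ⟨h₀, he⟩
      have hm : ∀ i, i ≤ n + 1 → Mono (φ.app i) := by
        intro i
        induction i with
        | zero => exact fun _ => h₀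
        | succ i ih => exact fun hi => mono_succ φ hT (ih (by lia)) (he i (by lia))
      refine ⟨fun i hi => ?_, hm _ le_rfl⟩
      have := hm i (by lia)
      have := he i hi
      exact isIso_of_mono_of_epi _
  · constructor
    · rintro ⟨h, -⟩
      refine ⟨h 0 (Nat.zero_le n), fun i hi hin X => ?_⟩
      obtain ⟨k, rfl⟩ : ∃ k, i = k + 1 := ⟨i - 1, by lia⟩
      obtain ⟨Y, u, hu, h0⟩ := hT k X
      have := h (k + 1) hin
      refine ⟨Y, u, hu, ?_⟩
      rw [← cancel_epi ((φ.app (k + 1)).app X), ← (φ.app (k + 1)).naturality, h0, zero_comp, comp_zero]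
    · rintro ⟨h₀, he⟩
      have key : ∀ i, i ≤ n → IsIso (φ.app i) := by
        intro i
        induction i with
        | zero => exact fun _ => h₀
        | succ i ih =>
          intro hi
          have hiso := ih (by lia)
          have := mono_succ φ hT inferInstance (inferInstance : Epi (φ.app i))
          have : ∀ X, Epi ((φ.app (i + 1)).app X) := by
            intro X
            obtain ⟨Y, u, hu, h0⟩ := he (i + 1) (by lia) hi X
            have := epi_δ (T := T') (shortExact_seq u) i h0
            exact epi_of_epi_fac (φ.comm _ (shortExact_seq u) i (i + 1) rfl)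
          have := NatTrans.epi_of_epi_app (φ.app (i + 1))
          exact isIso_of_mono_of_epi _
      exact ⟨key, mono_succ φ hT (by have := key n le_rfl; infer_instance) (by have := key n le_rfl; infer_instance)⟩

end Groth.Agent.S8535
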