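import Groth.Statements.S8536
import Groth.Agent.H10Coh.ExtMap
import Groth.Agent.S8525
import Mathlib

set_option autoImplicit false
universe u
open CategoryTheory CategoryTheory.Limits AlgebraicGeometry Opposite
open EtAcyc

namespace Groth.Agent.S8536

open CategoryTheory CategoryTheory.Limits AlgebraicGeometry Opposite

theorem isLTorsion_of_epi {X : Scheme.{u}} (L : Set ℕ) {F G : EtCoh.Ab X} (π : F ⟶ G) [Epi π]
    (hF : EtAcyc.IsLTorsion L F) : EtAcyc.IsLTorsion L G := by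
  rw [Groth.Agent.S8525.result] at hF ⊢
  intro Ω _ _ ξ t
  haveI : Epi ((EtCoh.stalk ξ).map π) := Functor.map_epi _ _
  obtain ⟨s, rfl⟩ := (AddCommGrpCat.epi_iff_surjective _).1 this t
  obtain ⟨m, hm, hs⟩ := hF Ω ξ s
  exact ⟨m, hm, (map_nsmul _ m s).symm.trans ((congrArg _ hs).trans (map_zero _))⟩


/-- Let h : Y → X be a morphism of quasi-compact quasi-separated schemes, L a set of primes and n a
natural number, and suppose that for every abelian L-torsion sheaf on X the pullback map on etale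
cohomology along h is bijective in degrees ≤ n and injective in degree n + 1. Let u : F → G be a
monomorphism of abelian L-torsion sheaves on X and ξ a class in H^{n+1}(Y, h⁻¹F) whose image in
H^{n+1}(Y, h⁻¹G) comes from H^{n+1}(X, G). Then ξ comes from H^{n+1}(X, F). -/
theorem result {X Y : Scheme.{u}} [CompactSpace X] [QuasiSeparatedSpace X]
    [CompactSpace Y] [QuasiSeparatedSpace Y] (h : Y ⟶ X) (L : Set ℕ) (n : ℕ) (hc : EtAcyc.CompN h L n)
    [PreservesFiniteLimits (EtCoh.pull h)] {F G : EtCoh.Ab X} (u : F ⟶ G) [Mono u]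
    (hF : EtAcyc.IsLTorsion L F) (hG : EtAcyc.IsLTorsion L G)
    (ξ : EtCoh.H Y ((EtCoh.pull h).obj F) (n + 1))
    (hξ : (EtCoh.HF Y (n + 1)).map ((EtCoh.pull h).map u) ξ ∈ Set.range (EtCore.Hpull h G (n + 1))) :
    ξ ∈ Set.range (EtCore.Hpull h F (n + 1)) := by
  let e := (EtCore.pullConst h ℤ).inv
  let S : ShortComplex (EtCoh.Ab X) := ShortComplex.mk u (cokernel.π u) (cokernel.condition u)
  have hS : S.ShortExact :=
    { exact := ShortComplex.exact_of_g_is_cokernel _ (cokernelIsCokernel u)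
      mono_f := ‹Mono u›
      epi_g := inferInstanceAs (Epi (cokernel.π u)) }
  have hQ : EtAcyc.IsLTorsion L S.X₃ := isLTorsion_of_epi L (cokernel.π u) hG
  obtain ⟨η, hη⟩ := hξ
  have hS' := hS.map_of_exact (EtCoh.pull h)
  have hnat : ∀ {A B : EtCoh.Ab X} (φ : A ⟶ B) (m : ℕ) (x : EtCoh.H X A m),
      EtCore.Hpull h B m (x.comp (Abelian.Ext.mk₀ φ) (add_zero m)) =
        (EtCore.Hpull h A m x).comp (Abelian.Ext.mk₀ ((EtCoh.pull h).map φ)) (add_zero m) :=
    fun φ m x => Groth.Agent.H10Coh.extMap_naturality (EtCoh.pull h) e φ m x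
  have hη' : EtCore.Hpull h G (n + 1) η = ξ.comp (Abelian.Ext.mk₀ ((EtCoh.pull h).map u)) (add_zero _) := hη
  have h0 : η.comp (Abelian.Ext.mk₀ S.g) (add_zero _) = 0 := by
    refine (hc S.X₃ hQ).2 ?_
    rw [hnat, map_zero, hη', Abelian.Ext.comp_assoc_of_second_deg_zero, Abelian.Ext.mk₀_comp_mk₀, ← Functor.map_comp,
      show u ≫ S.g = 0 from cokernel.condition u, Functor.map_zero, Abelian.Ext.mk₀_zero, Abelian.Ext.comp_zero]
  obtain ⟨η', hη''⟩ := Abelian.Ext.covariant_sequence_exact₂ _ hS η h0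
  let ζ := ξ - EtCore.Hpull h F (n + 1) η'
  have hζ : ζ.comp (Abelian.Ext.mk₀ ((S.map (EtCoh.pull h)).f)) (add_zero _) = 0 := by
    show (ξ - EtCore.Hpull h F (n + 1) η').comp (Abelian.Ext.mk₀ ((EtCoh.pull h).map u)) _ = 0
    rw [sub_eq_add_neg, Abelian.Ext.add_comp, Abelian.Ext.neg_comp, ← sub_eq_add_neg, ← hnat, ← hη', show η'.comp (Abelian.Ext.mk₀ u) (add_zero _) = η from hη'', sub_self]
  obtain ⟨c, hc'⟩ := Abelian.Ext.covariant_sequence_exact₁ _ hS' ζ hζ (n₀ := n) rfl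
  obtain ⟨d, hd⟩ := ((hc S.X₃ hQ).1 n le_rfl).2 c
  refine ⟨η' + d.comp hS.extClass rfl, ?_⟩
  have hδ : EtCore.Hpull h F (n + 1) (d.comp hS.extClass rfl) = (EtCore.Hpull h S.X₃ n d).comp hS'.extClass rfl :=
    Groth.Agent.H10Coh.extMap_extClass (EtCoh.pull h) e hS n d
  rw [map_add, hδ, hd]
  refine (congrArg (EtCore.Hpull h F (n + 1) η' + ·) hc').trans ?_
  show _ + (ξ - _) = ξ
  abel

end Groth.Agent.S8536
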