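import Groth.Statements.S8538
import Groth.Agent.S9126
import Groth.Agent.S3433
import Groth.Agent.H24Algz.FiniteTypeDelta
import Groth.Agent.H9Hens.CatenaryColim
import Groth.Agent.H22Alg.FibreCount
import Groth.Agent.H17.DimImage.Main
import Groth.Agent.H8Props.FieldDimFibre

set_option autoImplicit false
universe u
open CategoryTheory CategoryTheory.Limits AlgebraicGeometry Opposite
open EtCd

namespace Groth.Agent.S8538

section Order
variable {Y : Type u} [TopologicalSpace Y]

theorem length_le_codimPt {v w : Y} (h : w ⤳ v) (s : LTSeries (Specialization Y))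
    (h1 : Specialization.toEquiv v ≤ s.head) (h2 : s.last = Specialization.toEquiv w) :
    (s.length : ℕ∞) ≤ Algz.codimPt w v h := by
  let s' : LTSeries (Set.Ici (Specialization.toEquiv v)) :=
    { length := s.length
      toFun := fun i => ⟨s i, h1.trans (s.head_le i)⟩
      step := fun i => s.step i }
  exact Order.length_le_height (p := s') (le_of_eq (Subtype.ext h2))

theorem exists_series_codimPt {v w : Y} (h : w ⤳ v) {k : ℕ} (hk : Algz.codimPt w v h = k) :
    ∃ s : LTSeries (Specialization Y), Specialization.toEquiv v ≤ s.head ∧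
      s.last = Specialization.toEquiv w ∧ s.length = k := by
  obtain ⟨p, hp, hlen⟩ := Order.exists_series_of_height_eq_coe _ hk
  exact ⟨p.map Subtype.val fun _ _ hab => hab, (p.head).2, congrArg Subtype.val hp, hlen⟩

theorem dim_closure_eq_height [QuasiSober Y] [T0Space Y] (x : Y) :
    topologicalKrullDim (closure ({x} : Set Y)) = (Order.height (Specialization.toEquiv x) : WithBot ℕ∞) := by
  haveI : QuasiSober (closure ({x} : Set Y)) := (isClosed_closure.isClosedEmbedding_subtypeVal).quasiSober
  rw [Order.height_eq_krullDim_Iic]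
  letI : PartialOrder (closure ({x} : Set Y)) := specializationOrder _
  refine (Order.krullDim_eq_of_orderIso irreducibleSetEquivPoints).trans ?_
  exact Order.krullDim_eq_of_orderIso
    { toFun := fun z => ⟨Specialization.toEquiv z.1,
        (specializes_iff_mem_closure.mpr z.2 : x ⤳ z.1)⟩
      invFun := fun z => ⟨Specialization.ofEquiv z.1, specializes_iff_mem_closure.mp (z.2 : x ⤳ _)⟩
      left_inv := fun _ => rfl
      right_inv := fun _ => rfl
      map_rel_iff' := fun {a b} =>
        (show (b.1 ⤳ a.1) ↔ (b ⤳ a) from (subtype_specializes_iff (x := b) (y := a)).symm) }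

end Order

theorem codimPt_spec {A : Type u} [CommRing A] [IsNoetherianRing A] (hA : CAlg.IsCatenary A)
    {p q : PrimeSpectrum A} (h : (p : ↥(Spec (CommRingCat.of A))) ⤳ q) :
    Algz.codimPt (Y := ↥(Spec (CommRingCat.of A))) p q h = H9Hens.htBetween p.asIdeal q.asIdeal := by
  have hle : p ≤ q := (PrimeSpectrum.le_iff_specializes p q).mpr h
  obtain ⟨n, hn⟩ := hA.1 p q hle
  have hup : H9Hens.htBetween p.asIdeal q.asIdeal ≤ n := H9Hens.htBetween_le hle hn
  refine le_antisymm (Order.height_le fun l hl => ?_) ?_
  · let s : LTSeries (PrimeSpectrum A) :=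
      { length := l.length
        toFun := fun i => (Specialization.ofEquiv (l.toFun i.rev).1 : PrimeSpectrum A)
        step := fun i => by
          have hj : l.toFun i.succ.rev < l.toFun i.castSucc.rev := by
            rw [Fin.rev_succ, Fin.rev_castSucc]; exact l.step i.rev
          exact lt_of_le_not_ge ((PrimeSpectrum.le_iff_specializes _ _).mpr hj.le)
            fun h2 => hj.not_ge ((PrimeSpectrum.le_iff_specializes _ _).mp h2) }
    have h3 : s.head = p := by
      show (Specialization.ofEquiv (l.toFun (0 : Fin (l.length + 1)).rev).1 : PrimeSpectrum A) = p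
      rw [Fin.rev_zero]
      exact congrArg Subtype.val hl
    have h2 : s.last.asIdeal ≤ q.asIdeal := by
      have e : s.last = (Specialization.ofEquiv (l.toFun 0).1 : PrimeSpectrum A) := by
        show (Specialization.ofEquiv (l.toFun (Fin.last l.length).rev).1 : PrimeSpectrum A) = _
        rw [Fin.rev_last]
      rw [e]
      exact (PrimeSpectrum.le_iff_specializes _ _).mpr (l.toFun 0).2
    have := H9Hens.length_le_htBetween s
    rw [h3] at this
    refine this.trans ?_
    exact Ideal.height_mono (Ideal.map_mono h2)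
  · obtain ⟨m, hm⟩ := ENat.ne_top_iff_exists.mp (ne_top_of_le_ne_top (ENat.coe_ne_top n) hup)
    rw [← hm]
    by_contra hlt
    obtain ⟨s, hs0, hs1, hsl⟩ : ∃ s : LTSeries (PrimeSpectrum A), s.head = p ∧ s.last = q ∧ m ≤ s.length := by
      by_contra hcon
      push Not at hcon
      rcases Nat.eq_zero_or_pos m with rfl | hpos
      · exact hlt zero_le
      · have : H9Hens.htBetween p.asIdeal q.asIdeal ≤ ((m - 1 : ℕ) : ℕ∞) :=
          H9Hens.htBetween_le hle fun s a b => by have := hcon s a b; omega
        rw [← hm] at this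
        have : m ≤ m - 1 := by exact_mod_cast this
        omega
    let l : LTSeries (Specialization ↥(Spec (CommRingCat.of A))) :=
      { length := s.length
        toFun := fun i => Specialization.toEquiv (s.toFun i.rev : PrimeSpectrum A)
        step := fun i => by
          have hj : s.toFun i.succ.rev < s.toFun i.castSucc.rev := by
            rw [Fin.rev_succ, Fin.rev_castSucc]; exact s.step i.rev
          exact lt_of_le_not_ge ((PrimeSpectrum.le_iff_specializes _ _).mp hj.le)
            fun h2 => hj.not_ge ((PrimeSpectrum.le_iff_specializes _ _).mpr h2) }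
    refine hlt (le_trans (by exact_mod_cast hsl) (length_le_codimPt h l (le_of_eq ?_) ?_))
    · show _ = Specialization.toEquiv (s.toFun (0 : Fin (s.length + 1)).rev : PrimeSpectrum A)
      rw [Fin.rev_zero]
      exact congrArg Specialization.toEquiv hs1.symm
    · show Specialization.toEquiv (s.toFun (Fin.last s.length).rev : PrimeSpectrum A) = _
      rw [Fin.rev_last]
      exact congrArg Specialization.toEquiv hs0

theorem codim_add_dim {A : Type u} [CommRing A] [IsNoetherianRing A] [IsLocalRing A] (hA : CAlg.IsCatenary A)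
    {p q : PrimeSpectrum A} (h : p ≤ q) :
    ((H9Hens.htBetween p.asIdeal q.asIdeal : ℕ∞) : WithBot ℕ∞) + ringKrullDim (A ⧸ q.asIdeal) =
      ringKrullDim (A ⧸ p.asIdeal) := by
  have key : ∀ r : PrimeSpectrum A, ((H9Hens.htBetween r.asIdeal (IsLocalRing.maximalIdeal A) : ℕ∞) : WithBot ℕ∞) =
      ringKrullDim (A ⧸ r.asIdeal) := by
    intro r
    haveI : IsLocalRing (A ⧸ r.asIdeal) := .of_surjective' _ Ideal.Quotient.mk_surjective
    rw [← IsLocalRing.maximalIdeal_height_eq_ringKrullDim (R := A ⧸ r.asIdeal)]
    refine congrArg (fun I : Ideal (A ⧸ r.asIdeal) => (I.height : WithBot ℕ∞)) ?_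
    haveI : ((IsLocalRing.maximalIdeal A).map (Ideal.Quotient.mk r.asIdeal)).IsMaximal :=
      Ideal.IsMaximal.map_of_surjective_of_ker_le Ideal.Quotient.mk_surjective
        (by rw [Ideal.mk_ker]; exact IsLocalRing.le_maximalIdeal r.2.ne_top)
    exact IsLocalRing.eq_maximalIdeal inferInstance
  rw [← key q, ← key p, ← WithBot.coe_add]
  have h' := H9Hens.htBetween_add hA (Q' := IsLocalRing.closedPoint A) h
    (IsLocalRing.le_maximalIdeal q.2.ne_top)
  exact congrArg WithBot.some h'

theorem trdeg_of_isClosed {X S : Scheme.{u}} (f : X ⟶ S) [LocallyOfFiniteType f] (y : X)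
    (hy : IsClosed ({y} : Set X)) :
    @Algebra.trdeg (S.residueField (f.base y)) (X.residueField y) _ _ (f.residueFieldMap y).hom.toAlgebra =
      ((0 : ℕ) : Cardinal) := by
  obtain ⟨n, hn, hn'⟩ := H8Props.FieldDim.exists_trdeg_fiber f (f.asFiber y)
  rw [f.fiberι_asFiber y] at hn'
  haveI : LocallyOfFiniteType (f.fiberToSpecResidueField (f y)) := MorphismProperty.pullback_snd _ _ inferInstance
  have hcl : IsClosed ({f.asFiber y} : Set (f.fiber (f y))) := by
    have h := hy.preimage (f.fiberι (f y)).continuous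
    convert h using 1
    ext u
    exact ⟨fun hu => by rw [Set.mem_singleton_iff.mp hu]; exact f.fiberι_asFiber y,
      fun hu => (f.fiberι (f y)).isEmbedding.injective (hu.trans (f.fiberι_asFiber y).symm)⟩
  rw [(H22Alg.FibreCount.isClosed_iff_cdim_eq_zero (k := S.residueField (f y)) (f.fiberToSpecResidueField (f y)) _).mp hcl] at hn
  have : n = 0 := by exact_mod_cast hn.symm
  rw [hn', this]

theorem dim_eq_one_of_closed_point {A : Type u} [CommRing A] [IsNoetherianRing A] [IsLocalRing A]
    {X : Scheme.{u}} (f : X ⟶ Spec (CommRingCat.of A)) [LocallyOfFiniteType f] [QuasiCompact f]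
    (y : X) (hy : IsClosed ({y} : Set X)) (hne : (f y : PrimeSpectrum A) ≠ IsLocalRing.closedPoint A) :
    ringKrullDim (A ⧸ (f.base y).asIdeal) = 1 := by
  haveI : LocallyOfFinitePresentation f := inferInstance
  haveI : IsLocallyNoetherian X := LocallyOfFiniteType.isLocallyNoetherian f
  haveI : CompactSpace X := QuasiCompact.compactSpace_of_compactSpace f
  haveI : IsNoetherian X := ⟨⟩
  have hc : Topology.IsConstructible ({f y} : Set ↥(Spec (CommRingCat.of A))) := by
    rw [← Set.image_singleton]
    exact f.isConstructible_image ((Topology.isConstructible_compl).mp (((TopologicalSpace.NoetherianSpace.isCompact _).isConstructible hy.isOpen_compl)))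
  obtain ⟨U, hU, hyU, hsub⟩ := H17.DimImage.exists_open_closure_inter hc (Set.mem_singleton (f y))
  obtain ⟨hJ, hcl⟩ := S3433.result A
  let q : ↥({IsLocalRing.closedPoint A}ᶜ : Set (PrimeSpectrum A)) := ⟨f y, hne⟩
  haveI := hJ
  have hlc : IsLocallyClosed ({q} : Set ↥({IsLocalRing.closedPoint A}ᶜ : Set (PrimeSpectrum A))) := by
    refine ⟨Subtype.val ⁻¹' U, closure {q}, hU.preimage continuous_subtype_val, isClosed_closure, ?_⟩
    refine Set.Subset.antisymm (Set.singleton_subset_iff.mpr ⟨hyU, subset_closure rfl⟩) fun z hz => ?_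
    refine Subtype.ext (hsub ⟨?_, hz.1⟩)
    have := image_closure_subset_closure_image continuous_subtype_val (Set.mem_image_of_mem Subtype.val hz.2)
    rwa [Set.image_singleton] at this
  obtain ⟨z, hz, hzc⟩ := nonempty_inter_closedPoints (Set.singleton_nonempty q) hlc
  rw [Set.mem_singleton_iff.mp hz, mem_closedPoints_iff] at hzc
  exact (hcl q).mp hzc

/-- Let A be a Noetherian universally catenary local ring, f : X → Spec A a morphism of finite type, x a
point of X with image y, and X₀ the closed fibre of f. Put δ(x) = dim closure(y) + trdeg(κ(x)/κ(y))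
= dim(A/p_y) + trdeg(κ(x)/κ(y)) and d(x) = dim closure(x) (topological Krull dimension of the
closure of x in X). Then d(x) = δ(x) when the closure of x meets X₀, and d(x) + 1 = δ(x) when it
does not. -/
theorem result (A : Type u) [CommRing A] [IsNoetherianRing A] [IsLocalRing A]
    (hA : CAlg.IsUniversallyCatenary A) {X : Scheme.{u}} (f : X ⟶ Spec (CommRingCat.of A)) [LocallyOfFiniteType f]
    [QuasiCompact f] (x : X) (a b d : ℕ) (ha : ringKrullDim (A ⧸ (f.base x).asIdeal) = a)
    (hb : letI := (f.residueFieldMap x).hom.toAlgebra;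
      Algebra.trdeg ((Spec (CommRingCat.of A)).residueField (f.base x)) (X.residueField x) = b)
    (hd : topologicalKrullDim ↥(closure ({x} : Set X)) = d) :
    ((closure ({x} : Set X) ∩ f.base ⁻¹' {((IsLocalRing.closedPoint A : PrimeSpectrum A) : ↥(Spec (CommRingCat.of A)))}).Nonempty →
        d = a + b) ∧
    (closure ({x} : Set X) ∩ f.base ⁻¹' {((IsLocalRing.closedPoint A : PrimeSpectrum A) : ↥(Spec (CommRingCat.of A)))} = ∅ →
        d + 1 = a + b) := by
  haveI : IsLocallyNoetherian X := LocallyOfFiniteType.isLocallyNoetherian f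
  have hcat : CAlg.IsCatenary A := hA.2 A inferInstance
  have hS : ∀ s : ↥(Spec (CommRingCat.of A)), CAlg.IsUniversallyCatenary ((Spec (CommRingCat.of A)).presheaf.stalk s) := by
    intro s
    letI : Algebra A ((Spec (CommRingCat.of A)).presheaf.stalk s) := StructureSheaf.stalkAlgebra A s
    haveI : IsLocalization.AtPrime ((Spec (CommRingCat.of A)).presheaf.stalk s) s.asIdeal :=
      StructureSheaf.IsLocalization.to_stalk A s
    haveI : Algebra.EssFiniteType A ((Spec (CommRingCat.of A)).presheaf.stalk s) :=
      Algebra.EssFiniteType.of_isLocalization _ s.asIdeal.primeCompl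
    exact S9126.result A _ hA
  have hdh : Order.height (Specialization.toEquiv x) = (d : ℕ∞) := by
    have := (dim_closure_eq_height x).symm.trans hd
    exact_mod_cast this
  have main : ∀ y : X, ∀ hxy : x ⤳ y, ∃ k e t : ℕ, Algz.codimPt x y hxy = k ∧
      ringKrullDim (A ⧸ (f.base y).asIdeal) = e ∧ k + t + e = a + b ∧
      @Algebra.trdeg ((Spec (CommRingCat.of A)).residueField (f.base y)) (X.residueField y) _ _ (f.residueFieldMap y).hom.toAlgebra = t := by
    intro y hxy
    obtain ⟨t, -, ht⟩ := H8Props.FieldDim.exists_trdeg_fiber f (f.asFiber y)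
    rw [f.fiberι_asFiber y] at ht
    obtain ⟨k, m, hk, hm, he⟩ := H24Algz.FiniteTypeDelta.codimPt_formula f hS hxy b t hb ht
    let P : PrimeSpectrum A := f.base x
    let Q : PrimeSpectrum A := f.base y
    have hle : P ≤ Q :=
      (PrimeSpectrum.le_iff_specializes _ _).mpr (hxy.map f.continuous)
    have hm' := (codimPt_spec hcat (p := P) (q := Q) (hxy.map f.continuous)).symm.trans hm
    have h2 := codim_add_dim hcat hle
    rw [hm'] at h2
    simp only [P, Q] at h2
    rw [ha] at h2
    obtain ⟨e, he'⟩ : ∃ e : ℕ, ringKrullDim (A ⧸ (f.base y).asIdeal) = e := by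
      revert h2
      generalize ringKrullDim (A ⧸ (f.base y).asIdeal) = E
      intro h2
      match E, h2 with
      | ⊥, h2 => rw [WithBot.add_bot] at h2; exact absurd h2.symm (WithBot.natCast_ne_bot _)
      | (e : ℕ∞), h2 =>
        have h3 : (m : ℕ∞) + e = (a : ℕ∞) := WithBot.coe_injective h2
        obtain ⟨e', rfl⟩ := ENat.ne_top_iff_exists.mp (ne_top_of_le_ne_top (ENat.coe_ne_top a) (h3 ▸ le_add_self))
        exact ⟨e', rfl⟩
    rw [he'] at h2
    have h4 : m + e = a := by exact_mod_cast h2
    exact ⟨k, e, t, hk, he', by omega, ht⟩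
  obtain ⟨s, hlast, hlen⟩ := Order.exists_series_of_height_eq_coe _ hdh
  have htop : ∀ (y : X) (hxy : x ⤳ y) (k : ℕ), Algz.codimPt x y hxy = k → k ≤ d := by
    intro y hxy k hk
    obtain ⟨s', -, h', hlen'⟩ := exists_series_codimPt hxy hk
    have := Order.length_le_height (p := s') (le_of_eq h')
    rw [hdh, hlen'] at this
    exact_mod_cast this
  obtain ⟨y₁, hxy₁, hk₁⟩ : ∃ (y : X) (hxy : x ⤳ y), (d : ℕ∞) ≤ Algz.codimPt x y hxy := by
    have hh : x ⤳ Specialization.ofEquiv s.head := by
      have h := s.head_le_last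
      rw [hlast] at h
      exact h
    exact ⟨_, hh, hlen ▸ length_le_codimPt hh s le_rfl hlast⟩
  have hclosed : ∀ {C : Set X}, IsClosed C → C.Nonempty → ∃ y ∈ C, IsClosed ({y} : Set X) := fun hC hne => by
    haveI : CompactSpace X := QuasiCompact.compactSpace_of_compactSpace f
    obtain ⟨V, hVsub, hVne, hVc, hVmin⟩ := hC.exists_minimal_nonempty_closed_subset hne
    obtain ⟨y, hy⟩ := hVne
    refine ⟨y, hVsub hy, ?_⟩
    have : V = {y} := by
      refine Set.Subset.antisymm (fun z hz => ?_) (Set.singleton_subset_iff.mpr hy)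
      have h1 := hVmin (closure {y}) (closure_minimal (Set.singleton_subset_iff.mpr hy) hVc)
        ⟨y, subset_closure rfl⟩ isClosed_closure
      have h2 := hVmin (closure {z}) (closure_minimal (Set.singleton_subset_iff.mpr hz) hVc)
        ⟨z, subset_closure rfl⟩ isClosed_closure
      have h3 : y ⤳ z := specializes_iff_mem_closure.mpr (h1.symm ▸ hz)
      have h4 : z ⤳ y := specializes_iff_mem_closure.mpr (h2.symm ▸ hy)
      exact (h4.antisymm h3).eq
    exact this ▸ hVc
  let m₀ : ↥(Spec (CommRingCat.of A)) := (IsLocalRing.closedPoint A : PrimeSpectrum A)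
  constructor
  · intro hne
    have hcl : IsClosed (closure ({x} : Set X) ∩ f.base ⁻¹' {m₀}) :=
      isClosed_closure.inter ((IsLocalRing.isClosed_singleton_closedPoint A).preimage f.continuous)
    obtain ⟨y, ⟨hy, hy0⟩, hyc⟩ := hclosed hcl hne
    obtain ⟨k, e, t, hk, he, hsum, ht⟩ := main y (specializes_iff_mem_closure.mpr hy)
    have ht0 : t = 0 := Nat.cast_injective (R := Cardinal.{u}) (ht.symm.trans (trdeg_of_isClosed f y hyc))
    have he0 : e = 0 := by
      have h0 : ringKrullDim (A ⧸ (f.base y).asIdeal) = 0 := by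
        haveI : (f.base y).asIdeal.IsMaximal := by
          rw [show (f.base y) = (IsLocalRing.closedPoint A : PrimeSpectrum A) from hy0]
          exact IsLocalRing.maximalIdeal.isMaximal A
        exact ringKrullDim_eq_zero_of_isField ((Ideal.Quotient.maximal_ideal_iff_isField_quotient _).mp inferInstance)
      rw [h0] at he
      exact_mod_cast he.symm
    have h1 := htop y _ k hk
    obtain ⟨k', e', t', hk', -, hsum', -⟩ := main y₁ hxy₁
    rw [hk'] at hk₁
    have h2 : d ≤ k' := by exact_mod_cast hk₁
    omega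
  · intro hempty
    have hmiss : ∀ y : X, x ⤳ y → (f.base y : PrimeSpectrum A) ≠ IsLocalRing.closedPoint A := fun y hxy heq =>
      (Set.eq_empty_iff_forall_notMem.mp hempty y) ⟨specializes_iff_mem_closure.mp hxy, heq⟩
    obtain ⟨y, hy, hyc⟩ := hclosed (isClosed_closure (s := ({x} : Set X))) ⟨x, subset_closure rfl⟩
    have hxy : x ⤳ y := specializes_iff_mem_closure.mpr hy
    obtain ⟨k, e, t, hk, he, hsum, ht⟩ := main y hxy
    have ht0 : t = 0 := Nat.cast_injective (R := Cardinal.{u}) (ht.symm.trans (trdeg_of_isClosed f y hyc))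
    rw [dim_eq_one_of_closed_point f y hyc (hmiss y hxy)] at he
    have he1 : e = 1 := by exact_mod_cast he.symm
    have h1 := htop y hxy k hk
    obtain ⟨k', e', t', hk', he', hsum', -⟩ := main y₁ hxy₁
    rw [hk'] at hk₁
    have h2 : d ≤ k' := by exact_mod_cast hk₁
    have he'1 : e' ≠ 0 := by
      rintro rfl
      refine hmiss y₁ hxy₁ (PrimeSpectrum.ext ?_)
      haveI : Ring.KrullDimLE 0 (A ⧸ (f.base y₁).asIdeal) := Ring.krullDimLE_iff.mpr he'.le
      exact IsLocalRing.eq_maximalIdeal (Ideal.Quotient.maximal_of_isField _ Ring.KrullDimLE.isField_of_isDomain)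
    omega

end Groth.Agent.S8538
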