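import Groth.Statements.S8539
import Groth.Agent.H8Props.StrictStage.Apps
import Groth.Agent.H9Hens.BranchNormal
import Groth.Agent.S0538

set_option autoImplicit false
universe u
open CategoryTheory CategoryTheory.Limits AlgebraicGeometry Opposite
open EtCd

namespace Groth.Agent.S8539

/-- Let X be a scheme of finite type over a field k, x a point of X and A a strict henselization of the
local ring of X at x. Then there are a separably closed field k', a scheme X' of finite type over k'
and a closed point x' of X' such that A is (isomorphic to) a strict henselization of the local ring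
of X' at x': some local algebra structure over that local ring makes A a strict henselization of it. -/
theorem result (k : Type u) [Field k] {X : Scheme.{u}}
    (f : X ⟶ Spec (CommRingCat.of k)) [LocallyOfFiniteType f] [QuasiCompact f] (x : X)
    (A : Type u) [CommRing A] [IsLocalRing A] [Algebra (X.presheaf.stalk x) A]
    [IsLocalHom (algebraMap (X.presheaf.stalk x) A)] [Hensel.IsStrictHenselization (X.presheaf.stalk x) A] :
    ∃ (k' : Type u) (_ : Field k') (_ : IsSepClosed k') (X' : Scheme.{u}) (f' : X' ⟶ Spec (CommRingCat.of k'))
      (_ : LocallyOfFiniteType f') (_ : QuasiCompact f') (x' : X') (_ : IsClosed ({x'} : Set X'))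
      (_ : Algebra (X'.presheaf.stalk x') A) (_ : IsLocalHom (algebraMap (X'.presheaf.stalk x') A)),
      Hensel.IsStrictHenselization (X'.presheaf.stalk x') A := by
  obtain ⟨d, _, R', _, _, _, _, _, X', f', hf', hq', x', hx', -, _, _, hA⟩ :=
    H8Props.StrictStage.exists_scheme_model k f x (Subsingleton.elim (α := PrimeSpectrum k) _ _) A
  let 𝔭 : Ideal (MvPolynomial (Fin d) k) := (IsLocalRing.maximalIdeal k).map MvPolynomial.C
  have h𝔭 : 𝔭 = ⊥ := by
    show Ideal.map _ _ = _
    rw [IsLocalRing.maximalIdeal_eq_bot, Ideal.map_bot]
  have hm : IsLocalRing.maximalIdeal R' = ⊥ := by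
    have h0 : 𝔭.map (algebraMap (MvPolynomial (Fin d) k) (Localization.AtPrime 𝔭)) = ⊥ :=
      (congrArg (Ideal.map _) h𝔭).trans Ideal.map_bot
    rw [← Groth.Agent.S0538.result (Localization.AtPrime 𝔭) R', ← Localization.AtPrime.map_eq_maximalIdeal,
      h0, Ideal.map_bot]
  have hF : IsField R' := IsLocalRing.isField_iff_maximalIdeal_eq.2 hm
  letI := hF.toField
  haveI := (Hensel.IsStrictHenselization.isSepClosure (R := Localization.AtPrime 𝔭) (S := R')).1
  haveI : IsSepClosed R' := H9Hens.isSepClosed_of_ringEquiv (RingEquiv.ofBijective (IsLocalRing.residue R')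
    ⟨(IsLocalRing.residue R').injective, IsLocalRing.residue_surjective⟩).symm
  exact ⟨R', inferInstance, inferInstance, X', f', hf', hq', x', hx', inferInstance, inferInstance, hA⟩

end Groth.Agent.S8539
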