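import Groth.Statements.S8541
import Groth.Agent.H26FlatCI.Regular
import Groth.Agent.H26FlatCI.Algebra
import Groth.Agent.H26FlatCI.ProjFlat
import Groth.Agent.H26FlatCI.Fibre
import Groth.Agent.H11Proj.ClosedSub
import Groth.Agent.H27Weil.Geometry

set_option autoImplicit false
universe u
open CategoryTheory CategoryTheory.Limits AlgebraicGeometry Opposite
open EtCd

namespace Groth.Agent.S8541

set_option linter.style.haveILetI false
set_option backward.isDefEq.respectTransparency false

open MvPolynomial Groth.Agent.H26FlatCI Groth.Agent.H22Alg Groth.Agent.H11Proj IsLocalRing CohB1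

theorem map_homogeneousComponent {A B : Type u} [CommRing A] [CommRing B] {N : ℕ} (f : A →+* B) (e : ℕ)
    (a : MvPolynomial (Fin (N + 1)) A) :
    MvPolynomial.map f (homogeneousComponent e a) = homogeneousComponent e (MvPolynomial.map f a) := by
  refine MvPolynomial.ext _ _ fun d => ?_
  rw [coeff_map, coeff_homogeneousComponent, coeff_homogeneousComponent, coeff_map, apply_ite f, map_zero]

theorem irrelevant_le_span {A : Type u} [CommRing A] (N : ℕ) :
    (HomogeneousIdeal.irrelevant (polyGrading N A)).toIdeal ≤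
      Ideal.span (Set.range fun i : ULift.{u} (Fin (N + 1)) => (MvPolynomial.X i.down : MvPolynomial (Fin (N + 1)) A)) := by
  intro p hp
  have h0 : homogeneousComponent 0 p = 0 := by
    have h := (HomogeneousIdeal.mem_irrelevant_iff _ p).1 hp
    rw [GradedRing.proj_apply] at h
    rw [← decomposition.decompose'_apply]
    exact h
  have h : p ∈ idealOfVars (Fin (N + 1)) A := by
    rw [← pow_one (idealOfVars (Fin (N + 1)) A), mem_pow_idealOfVars_iff']
    intro d hd
    have hd0 : d = 0 := (Finsupp.degree_eq_zero_iff d).1 (Nat.lt_one_iff.1 hd)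
    have := congrArg (coeff 0) h0
    rw [coeff_homogeneousComponent] at this
    simpa [hd0] using this
  refine Ideal.span_le.2 ?_ h
  rintro _ ⟨i, rfl⟩
  exact Ideal.subset_span ⟨⟨i⟩, rfl⟩

theorem ker_isHomogeneous {A B : Type u} [CommRing A] [CommRing B] [Algebra A B] {N : ℕ} {ℬ : ℕ → Submodule A B}
    [GradedAlgebra ℬ] (φ : polyGrading N A →+*ᵍ ℬ) : (RingHom.ker φ).IsHomogeneous (polyGrading N A) := by
  classical
  intro e a ha
  rw [RingHom.mem_ker]
  have h1 : φ (∑ i ∈ (DirectSum.decompose (polyGrading N A) a).support,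
      (DirectSum.decompose (polyGrading N A) a i : MvPolynomial (Fin (N + 1)) A)) = 0 := by
    rw [DirectSum.sum_support_decompose]
    exact ha
  rw [map_sum] at h1
  have h2 := congrArg (fun b => (DirectSum.decompose ℬ b e : B)) h1
  simp only [DirectSum.decompose_sum, DirectSum.decompose_zero, DirectSum.zero_apply, ZeroMemClass.coe_zero] at h2
  rw [DFinsupp.finsetSum_apply, AddSubmonoidClass.coe_finsetSum, Finset.sum_eq_single e] at h2
  · have hm : φ (DirectSum.decompose (polyGrading N A) a e : MvPolynomial (Fin (N + 1)) A) ∈ ℬ e :=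
      φ.2 (DirectSum.decompose (polyGrading N A) a e).2
    rwa [DirectSum.decompose_of_mem_same ℬ hm] at h2
  · intro i _ hi
    have hm : φ (DirectSum.decompose (polyGrading N A) a i : MvPolynomial (Fin (N + 1)) A) ∈ ℬ i :=
      φ.2 (DirectSum.decompose (polyGrading N A) a i).2
    rw [DirectSum.decompose_of_mem_ne ℬ hm hi]
  · intro he
    rw [DFinsupp.notMem_support_iff.1 he]
    simp

theorem exists_lift_forms {A : Type u} [CommRing A] [IsLocalRing A] {N : ℕ}
    (I : Ideal (MvPolynomial (Fin (N + 1)) A)) (hI : I.IsHomogeneous (polyGrading N A))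
    {m r : ℕ} (hr : r + m ≤ N)
    (hdim : ∀ x : ProjectiveSpectrum (polyGrading N (ResidueField A)),
      I.map (MvPolynomial.map (residue A)) ≤ x.asHomogeneousIdeal.toIdeal →
        ProjDim.qdim (ResidueField A) N x ≤ m + 1) :
    ∃ G : Fin r → MvPolynomial (Fin (N + 1)) A, (∀ j, ∃ d, (G j).IsHomogeneous d) ∧ (∀ j, G j ∈ I) ∧
      FibreRegular G ∧ ∀ x : ProjectiveSpectrum (polyGrading N (ResidueField A)),
        (Ideal.span (Set.range G)).map (MvPolynomial.map (residue A)) ≤ x.asHomogeneousIdeal.toIdeal →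
          ProjDim.qdim (ResidueField A) N x + r ≤ N + 1 := by
  classical
  have hIk : (I.map (MvPolynomial.map (residue A))).IsHomogeneous (polyGrading N (ResidueField A)) :=
    (HomogeneousIdeal.map (PnBC.coeffMap N A (ResidueField A)) ⟨I, hI⟩).isHomogeneous
  obtain ⟨h, hd, hmem, hcut⟩ := exists_forms (ResidueField A) N _ hIk m hdim r hr
  choose d hd0 hhd using hd
  have hlift : ∀ j, ∃ a ∈ I, MvPolynomial.map (residue A) a = h j := fun j =>
    (Ideal.mem_map_iff_of_surjective _ (MvPolynomial.map_surjective _ residue_surjective)).1 (hmem j)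
  choose a ha hah using hlift
  let G := fun j => homogeneousComponent (d j) (a j)
  have hG : ∀ j, MvPolynomial.map (residue A) (G j) = h j := fun j => by
    rw [map_homogeneousComponent, hah, homogeneousComponent_of_mem (hhd j), if_pos rfl]
  refine ⟨G, fun j => ⟨d j, homogeneousComponent_isHomogeneous _ _⟩, fun j => ?_, fun s hs b hb => ?_,
    fun x hx => hcut r le_rfl x fun j _ => hG j ▸ hx (Ideal.mem_map_of_mem _ (Ideal.subset_span ⟨j, rfl⟩))⟩
  · have h1 := hI (d j) (ha j)
    rwa [show ((DirectSum.decompose (polyGrading N A) (a j) (d j) : MvPolynomial (Fin (N + 1)) A)) = G j from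
      MvPolynomial.decomposition.decompose'_apply _ _] at h1
  · simp only [hG] at hb ⊢
    exact H26FlatCI.mem_of_mul_mem (ResidueField A) N (r := s) (by omega) (fun i => h ⟨i, by omega⟩)
      (fun i => ⟨_, hd0 _, hhd _⟩)
      (fun x hx => hcut (s + 1) hs x fun j hj => hx ⟨j, hj⟩) b hb

/-- Let A be a Noetherian local ring, S = Spec A, and X a closed subscheme of the projective space P^N_S
(closed immersion i) whose fibres over S all have dimension at most n. Then there is a closed
subscheme Z of P^N_S which is flat over S with all fibres of dimension at most n and which contains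
X: a closed immersion j : Z → P^N_S with Z → S flat of relative dimension ≤ n and a closed immersion
g : X → Z with g ≫ j = i. -/
theorem result (A : Type u) [CommRing A] [IsNoetherianRing A] [IsLocalRing A]
    (N n : ℕ) {X : Scheme.{u}} (i : X ⟶ CohB1.ProjSpaceOver N (Spec (CommRingCat.of A))) [IsClosedImmersion i]
    (hdim : ∀ s : ↥(Spec (CommRingCat.of A)),
      topologicalKrullDim ↥((i ≫ CohB1.ProjSpaceOver.toBase N (Spec (CommRingCat.of A))).fiber s) ≤ n) :
    ∃ (Z : Scheme.{u}) (j : Z ⟶ CohB1.ProjSpaceOver N (Spec (CommRingCat.of A))) (g : X ⟶ Z),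
      IsClosedImmersion j ∧ IsClosedImmersion g ∧ g ≫ j = i ∧
      Flat (j ≫ CohB1.ProjSpaceOver.toBase N (Spec (CommRingCat.of A))) ∧
      ∀ s : ↥(Spec (CommRingCat.of A)),
        topologicalKrullDim ↥((j ≫ CohB1.ProjSpaceOver.toBase N (Spec (CommRingCat.of A))).fiber s) ≤ n := by
  obtain ⟨φ0, hφ0⟩ := PnBC.isPullback_projSpaceOver N A
  let i' : X ⟶ Proj (polyGrading N A) := i ≫ φ0.hom
  haveI : IsClosedImmersion φ0.hom := inferInstance
  haveI : IsClosedImmersion i' := MorphismProperty.comp_mem _ _ _ ‹IsClosedImmersion i› ‹IsClosedImmersion φ0.hom›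
  let f0 : ULift.{u} (Fin (N + 1)) → MvPolynomial (Fin (N + 1)) A := fun i => MvPolynomial.X i.down
  have hf0 : ∀ i, f0 i ∈ polyGrading N A 1 := fun i =>
    (mem_homogeneousSubmodule 1 _).2 (isHomogeneous_X A i.down)
  have hcov : ∀ x : Proj (polyGrading N A), ∃ j, f0 j ∉ x.asHomogeneousIdeal := fun x => by
    by_contra! hall
    exact x.not_irrelevant_le fun p hp =>
      (Ideal.span_le.2 (by rintro _ ⟨j, rfl⟩; exact hall j)) (irrelevant_le_span N hp)
  obtain ⟨B, _, _, ℬ, _, φ, hs, -, hφ, e, he⟩ := exists_quotient_iso' (polyGrading N A) f0 hf0 i' hcov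
  let f := Proj.map φ hφ ≫ ProjSpace.toSpec N A
  have hif : i ≫ ProjSpaceOver.toBase N _ = e.hom ≫ f := by
    rw [← hφ0]
    show _ = e.hom ≫ Proj.map φ hφ ≫ ProjSpace.toSpec N A
    rw [← Category.assoc e.hom, he]
    exact (Category.assoc _ _ _).symm
  have hXs : topologicalKrullDim ↥(f.fiber (closedPoint A)) ≤ n := by
    refine le_trans (le_of_eq ?_) (hdim (closedPoint A))
    rw [hif, IsHomeomorph.topologicalKrullDim_eq _ (f.fiberHomeo _).isHomeomorph,
      IsHomeomorph.topologicalKrullDim_eq _ ((e.hom ≫ f).fiberHomeo _).isHomeomorph]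
    have himg : e.hom '' ((e.hom ≫ f) ⁻¹' {closedPoint A}) = f ⁻¹' {closedPoint A} :=
      Set.image_preimage_eq (f ⁻¹' {closedPoint A}) e.hom.surjective
    rw [← himg]
    exact (IsHomeomorph.topologicalKrullDim_eq _
      (e.hom.isClosedEmbedding.isEmbedding.homeomorphImage _).isHomeomorph).symm
  rw [dim_closedFibre φ hφ hs] at hXs
  let I := RingHom.ker φ
  let m := min n N
  have hdimI : ∀ x : ProjectiveSpectrum (polyGrading N (ResidueField A)),
      I.map (MvPolynomial.map (residue A)) ≤ x.asHomogeneousIdeal.toIdeal →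
        ProjDim.qdim (ResidueField A) N x ≤ m + 1 := fun x hx => by
    have hpos := ProjDim.qdim_pos (ResidueField A) N x
    have hcl : IsClosed {y : ProjectiveSpectrum (polyGrading N (ResidueField A)) |
        I.map (MvPolynomial.map (residue A)) ≤ y.asHomogeneousIdeal.toIdeal} :=
      ProjectiveSpectrum.isClosed_zeroLocus (polyGrading N (ResidueField A))
        ((I.map (MvPolynomial.map (residue A))) : Set (MvPolynomial (Fin (N + 1)) (ResidueField A)))
    have h1 := (ProjDim.le_dim (ResidueField A) N hcl hx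
      (d := ProjDim.qdim (ResidueField A) N x - 1) (by omega)).trans hXs
    have h2 : ProjDim.qdim (ResidueField A) N x - 1 ≤ n := by exact_mod_cast h1
    have h3 := ProjDim.qdim_le_succ (ResidueField A) N x
    omega
  obtain ⟨G, hGd, hGI, hGreg, hGdim⟩ :=
    exists_lift_forms I (ker_isHomogeneous φ) (r := N - m) (m := m) (by omega) hdimI
  let J := Ideal.span (Set.range G)
  have hJ : J.IsHomogeneous (polyGrading N A) := Ideal.homogeneous_span _ _ (by rintro _ ⟨j, rfl⟩; exact hGd j)
  letI := quotGradedAlgebra (polyGrading N A) J hJ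
  let ψ := quotHom (polyGrading N A) J hJ
  have hψ := irrelevant_quot_le (polyGrading N A) J hJ
  haveI := isClosedImmersion_map ψ hψ Ideal.Quotient.mk_surjective
  haveI : Module.Projective A (MvPolynomial (Fin (N + 1)) A ⧸ J) := projective_quotient G hGd hGreg
  let q := Proj.map ψ hψ ≫ ProjSpace.toSpec N A
  have hqflat : Flat q := by
    have hirr : (HomogeneousIdeal.irrelevant (quotPiece (polyGrading N A) J)).toIdeal ≤
        Ideal.span (Set.range fun i => ψ (f0 i)) := by
      refine le_trans (show (HomogeneousIdeal.irrelevant (quotPiece (polyGrading N A) J)).toIdeal ≤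
        (HomogeneousIdeal.irrelevant (polyGrading N A)).toIdeal.map ψ from hψ) ?_
      refine le_trans (Ideal.map_mono (irrelevant_le_span N)) ?_
      rw [Ideal.map_span, ← Set.range_comp]
      exact le_rfl
    refine IsZariskiLocalAtSource.of_openCover (P := @Flat)
      (Proj.affineOpenCoverOfIrrelevantLESpan (quotPiece (polyGrading N A) J) (fun i => ψ (f0 i))
        (fun i => ψ.2 (hf0 i)) (fun _ => Nat.one_pos) hirr).openCover fun i => ?_
    show Flat (Proj.awayι _ (ψ (f0 i)) (ψ.2 (hf0 i)) Nat.one_pos ≫ Proj.map ψ hψ ≫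
      Proj.toSpecZero (polyGrading N A) ≫ Spec.map (CommRingCat.ofHom (algebraMap A (polyGrading N A 0))))
    rw [Proj.awayι_comp_map_assoc ψ hψ Nat.one_pos (f0 i) (hf0 i), Proj.awayι_toSpecZero_assoc,
      ← Spec.map_comp, ← Spec.map_comp]
    refine (HasRingHomProperty.Spec_iff (P := @Flat)).2 ?_
    convert! flat_away (quotPiece (polyGrading N A) J) (ψ.2 (hf0 i)) using 1
  let ρ : quotPiece (polyGrading N A) J →+*ᵍ ℬ :=
    { Ideal.Quotient.lift J φ.toRingHom (fun a ha => Ideal.span_le.2 (by rintro _ ⟨j, rfl⟩; exact hGI j) ha) with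
      map_mem := fun {d x} hx => by
        obtain ⟨a, ha, rfl⟩ := hx
        exact φ.2 ha }
  have hρ : HomogeneousIdeal.irrelevant ℬ ≤ (HomogeneousIdeal.irrelevant (quotPiece (polyGrading N A) J)).map ρ := by
    refine hφ.trans (HomogeneousIdeal.map_le_of_le_comap φ ?_)
    exact (HomogeneousIdeal.toIdeal_irrelevant_le (𝒜 := polyGrading N A)).2 fun d hd a ha =>
      Ideal.mem_map_of_mem ρ (HomogeneousIdeal.mem_irrelevant_of_mem _ hd (ψ.2 ha))
  have hρs : Function.Surjective ρ := fun b => by
    obtain ⟨a, rfl⟩ := hs b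
    exact ⟨Ideal.Quotient.mk J a, rfl⟩
  haveI := isClosedImmersion_map ρ hρ hρs
  have hcomp : Proj.map ρ hρ ≫ Proj.map ψ hψ = Proj.map φ hφ := by
    rw [← Proj.map_comp ψ ρ hψ hρ]
    rfl
  let j : Proj (quotPiece (polyGrading N A) J) ⟶ ProjSpaceOver N (Spec (CommRingCat.of A)) :=
    Proj.map ψ hψ ≫ φ0.inv
  have hj : j ≫ ProjSpaceOver.toBase N _ = q := by
    rw [← hφ0]
    simp only [j, q, Category.assoc, Iso.inv_hom_id_assoc]
  haveI : IsClosedImmersion j := MorphismProperty.comp_mem _ _ _ ‹IsClosedImmersion (Proj.map ψ hψ)› inferInstance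
  refine ⟨_, j, e.hom ≫ Proj.map ρ hρ, inferInstance,
    MorphismProperty.comp_mem _ _ _ inferInstance ‹IsClosedImmersion (Proj.map ρ hρ)›, ?_, hj ▸ hqflat, fun s => ?_⟩
  · simp only [j, Category.assoc]
    rw [← Category.assoc (Proj.map ρ hρ), hcomp, ← Category.assoc, he]
    simp [i']
  · rw [hj]
    haveI : IsProper q := MorphismProperty.comp_mem _ _ _ inferInstance inferInstance
    refine dim_fiber_le q n ?_ s
    rw [dim_closedFibre ψ hψ Ideal.Quotient.mk_surjective]
    have hker : RingHom.ker ψ = J := Ideal.mk_ker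
    rw [hker]
    have hcl : IsClosed {y : ProjectiveSpectrum (polyGrading N (ResidueField A)) |
        J.map (MvPolynomial.map (residue A)) ≤ y.asHomogeneousIdeal.toIdeal} :=
      ProjectiveSpectrum.isClosed_zeroLocus (polyGrading N (ResidueField A))
        ((J.map (MvPolynomial.map (residue A))) : Set (MvPolynomial (Fin (N + 1)) (ResidueField A)))
    refine (ProjDim.dim_le (ResidueField A) N (d := m) hcl fun x hx => ?_).trans
      (by exact_mod_cast (min_le_left n N))
    have := hGdim x hx
    omega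

end Groth.Agent.S8541
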