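import Groth.Statements.S8543
import Groth.Agent.H8Props.StrictStage.Apps
import Groth.Agent.S0506
import Groth.Agent.S9262

set_option autoImplicit false
universe u
open CategoryTheory CategoryTheory.Limits AlgebraicGeometry Opposite
open EtCd

namespace Groth.Agent.S8543

/-- Let R be a discrete valuation ring, X a scheme of finite type over Spec R, x a point of X over the
closed point of Spec R, and A a strict henselization of the local ring of X at x. Then there are a
strictly henselian discrete valuation ring R' (henselian, with separably closed residue field), a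
scheme X' of finite type over Spec R', a closed point x' of X' over the closed point of Spec R', and
a local algebra structure over the local ring of X' at x' for which A is a strict henselization of
that local ring. -/
theorem result (R : Type u) [CommRing R] [IsDomain R]
    [IsDiscreteValuationRing R] {X : Scheme.{u}} (f : X ⟶ Spec (CommRingCat.of R)) [LocallyOfFiniteType f]
    [QuasiCompact f] (x : X)
    (hx : f.base x = ((IsLocalRing.closedPoint R : PrimeSpectrum R) : ↥(Spec (CommRingCat.of R))))
    (A : Type u) [CommRing A] [IsLocalRing A] [Algebra (X.presheaf.stalk x) A]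
    [IsLocalHom (algebraMap (X.presheaf.stalk x) A)] [Hensel.IsStrictHenselization (X.presheaf.stalk x) A] :
    ∃ (R' : Type u) (_ : CommRing R') (_ : IsDomain R') (_ : IsDiscreteValuationRing R') (_ : HenselianLocalRing R')
      (_ : IsSepClosed (IsLocalRing.ResidueField R'))
      (X' : Scheme.{u}) (f' : X' ⟶ Spec (CommRingCat.of R')) (_ : LocallyOfFiniteType f') (_ : QuasiCompact f')
      (x' : X') (_ : IsClosed ({x'} : Set X'))
      (_ : f'.base x' = ((IsLocalRing.closedPoint R' : PrimeSpectrum R') : ↥(Spec (CommRingCat.of R'))))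
      (_ : Algebra (X'.presheaf.stalk x') A) (_ : IsLocalHom (algebraMap (X'.presheaf.stalk x') A)),
      Hensel.IsStrictHenselization (X'.presheaf.stalk x') A := by
  obtain ⟨d, _, R', _, _, _, _, _, X', f', hf', hq', x', hx', hfx, _, _, hA⟩ :=
    H8Props.StrictStage.exists_scheme_model R f x hx A
  let 𝔭 : Ideal (MvPolynomial (Fin d) R) := (IsLocalRing.maximalIdeal R).map MvPolynomial.C
  let R₀ := Localization.AtPrime 𝔭
  haveI : IsDomain R₀ := IsLocalization.isDomain_of_le_nonZeroDivisors R₀ 𝔭.primeCompl_le_nonZeroDivisors
  haveI : IsNoetherianRing R₀ := IsLocalization.isNoetherianRing 𝔭.primeCompl R₀ inferInstance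
  obtain ⟨π, hπ⟩ := IsDiscreteValuationRing.exists_irreducible R
  have hmR₀ : IsLocalRing.maximalIdeal R₀ =
      Ideal.span {algebraMap (MvPolynomial (Fin d) R) R₀ (MvPolynomial.C π)} := by
    rw [← Localization.AtPrime.map_eq_maximalIdeal]
    show (Ideal.map _ _).map _ = _
    rw [hπ.maximalIdeal_eq, Ideal.map_span, Ideal.map_span, Set.image_singleton, Set.image_singleton]
  have hnf : ¬ IsField R₀ := fun h => by
    have h0 := hmR₀.symm.trans (IsLocalRing.isField_iff_maximalIdeal_eq.1 h)
    rw [Ideal.span_singleton_eq_bot, ← map_zero (algebraMap (MvPolynomial (Fin d) R) R₀),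
      (IsLocalization.injective R₀ 𝔭.primeCompl_le_nonZeroDivisors).eq_iff, MvPolynomial.C_eq_zero] at h0
    exact hπ.ne_zero h0
  have hp₀ : (IsLocalRing.maximalIdeal R₀).IsPrincipal := ⟨⟨_, hmR₀⟩⟩
  have hdvr : IsDiscreteValuationRing R₀ :=
    ((IsDiscreteValuationRing.TFAE R₀ hnf).out 0 4).2 hp₀
  obtain ⟨H, _, _, _, _, _⟩ := Groth.Agent.S0506.result R₀
  obtain ⟨hdom, hdvr'⟩ := (Groth.Agent.S9262.result R₀ H R').2.1 ⟨inferInstance, hdvr⟩
  haveI := Hensel.IsStrictHenselization.henselian (R := R₀) (S := R')
  haveI := (Hensel.IsStrictHenselization.isSepClosure (R := R₀) (S := R')).1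
  exact ⟨R', inferInstance, hdom, hdvr', inferInstance, inferInstance, X', f', hf', hq', x', hx', hfx, inferInstance,
    inferInstance, hA⟩

end Groth.Agent.S8543
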