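import Groth.Statements.S8547

set_option autoImplicit false
universe u
open CategoryTheory CategoryTheory.Limits AlgebraicGeometry Opposite
open EtBC

namespace Groth.Agent.S8547

theorem map_map {X : Scheme.{u}} (G : EtDesc.Sh X) {A B C : X.Etale} (a : A ⟶ B) (b : B ⟶ C)
    (x : EtDesc.sect G C) : G.obj.map a.op (G.obj.map b.op x) = G.obj.map (a ≫ b).op x := by
  rw [op_comp, G.obj.map_comp]
  rfl

theorem baseChange_secPull {X Y Xb Yb : Scheme.{u}} (h : Y ⟶ X) (p : Xb ⟶ X) (hb : Yb ⟶ Xb) (pY : Yb ⟶ Y)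
    (w : hb ≫ p = pY ≫ h) (Fb : EtDesc.Sh Xb) (s : EtDesc.sect ((EtDesc.pushSh p).obj Fb) (EtCoh.top X)) :
    (EtBC.baseChange0Sh p h pY hb w Fb).hom.app (op (EtCoh.top Y)) (EtDesc.secPull h _ s) =
      ((EtDesc.pullSh hb).obj Fb).obj.map (EtCore.bcTopIso pY).hom.op
        (EtDesc.secPull hb Fb (Fb.obj.map (EtCore.bcTopIso p).inv.op s)) := by
  let G := (EtDesc.pullSh hb).obj Fb
  let u := (EtDesc.adjSh hb).unit.app Fb
  let bc := EtBC.baseChange0Sh p h pY hb w Fb
  have hm : (EtDesc.adjSh h).unit.app _ ≫ (EtDesc.pushSh h).map bc =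
      (EtDesc.pushSh p).map u ≫ (EtDesc.pushCompSh p hb).hom.app _ ≫
      (EtBC.pushCongrSh w).hom.app _ ≫ (EtDesc.pushCompSh h pY).inv.app _ :=
    ((EtDesc.adjSh h).homEquiv_unit _ _ _).symm.trans (Equiv.apply_symm_apply _ _)
  have h1 := congrArg (fun m : (EtDesc.pushSh p).obj Fb ⟶ (EtDesc.pushSh h).obj ((EtDesc.pushSh pY).obj G) =>
    m.hom.app (op (EtCoh.top X)) s) hm
  refine (ConcreteCategory.congr_hom (bc.hom.naturality (EtCore.bcTopIso h).inv.op) _).trans ?_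
  refine (congrArg (((EtDesc.pushSh pY).obj G).obj.map (EtCore.bcTopIso h).inv.op) h1).trans ?_
  have hn : u.hom.app (op (EtCoh.top Xb)) (Fb.obj.map (EtCore.bcTopIso p).inv.op s) =
      G.obj.map ((EtCoh.bc hb).map (EtCore.bcTopIso p).inv).op (u.hom.app (op ((EtCoh.bc p).obj (EtCoh.top X))) s) :=
    ConcreteCategory.congr_hom (u.hom.naturality (EtCore.bcTopIso p).inv.op) s
  unfold EtDesc.secPull
  rw [hn]
  show G.obj.map ((EtCoh.bc pY).map (EtCore.bcTopIso h).inv).op (G.obj.map _ (G.obj.map _ (G.obj.map _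
      (u.hom.app (op ((EtCoh.bc p).obj (EtCoh.top X))) s)))) =
    G.obj.map _ (G.obj.map _ (G.obj.map _ (u.hom.app (op ((EtCoh.bc p).obj (EtCoh.top X))) s)))
  simp only [← Functor.map_comp_apply]
  refine congrArg (fun m => G.obj.map m _) (Quiver.Hom.unop_inj ?_)
  exact ((EtCore.topIsTerminal Yb).ofIso ((EtCoh.bc hb).mapIso (EtCore.bcTopIso p) ≪≫ EtCore.bcTopIso hb).symm).hom_ext _ _

theorem bijective_map {X : Scheme.{u}} (G : EtDesc.Sh X) {A B : X.Etale} (e : A ≅ B) :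
    Function.Bijective (G.obj.map e.hom.op) :=
  (isIso_iff_bijective (G.obj.map e.hom.op)).1 inferInstance

/-- Let h : Y → X and p : X̄ → X be morphisms of schemes with X, Y, X̄ quasi-compact and quasi-separated
(p need not be surjective), and Ȳ = Y ×_X X̄ with projections h̄ : Ȳ → X̄ and p_Y : Ȳ → Y. If the
pullback map on global sections Γ(X, F) → Γ(Y, h^*F) is injective for every sheaf of sets F on X and
the base change morphism h^* p_* F̄ → p_{Y*} h̄^* F̄ is a monomorphism for every sheaf of sets F̄ on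
X̄, then Γ(X̄, F̄) → Γ(Ȳ, h̄^*F̄) is injective for every F̄. If the maps for h are bijective and the
base change morphisms are isomorphisms, then the maps for h̄ are bijective. -/
theorem result {X Y Xb Yb : Scheme.{u}} [CompactSpace X]
    [QuasiSeparatedSpace X] [CompactSpace Y] [QuasiSeparatedSpace Y] [CompactSpace Xb] [QuasiSeparatedSpace Xb]
    (h : Y ⟶ X) (p : Xb ⟶ X) (hb : Yb ⟶ Xb) (pY : Yb ⟶ Y) (sq : IsPullback hb pY p h) :
    ((∀ F : EtDesc.Sh X, Function.Injective (EtDesc.secPull h F)) →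
      (∀ Fb : EtDesc.Sh Xb, Mono (EtBC.baseChange0Sh p h pY hb sq.w Fb)) →
      ∀ Fb : EtDesc.Sh Xb, Function.Injective (EtDesc.secPull hb Fb)) ∧
    ((∀ F : EtDesc.Sh X, Function.Bijective (EtDesc.secPull h F)) →
      (∀ Fb : EtDesc.Sh Xb, IsIso (EtBC.baseChange0Sh p h pY hb sq.w Fb)) →
      ∀ Fb : EtDesc.Sh Xb, Function.Bijective (EtDesc.secPull hb Fb)) := by
  have key := baseChange_secPull h p hb pY sq.w
  refine ⟨fun hinj hbc Fb => ?_, fun hbij hbc Fb => ?_⟩
  all_goals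
    let φ := EtBC.baseChange0Sh p h pY hb sq.w Fb
    have e1 := bijective_map ((EtDesc.pullSh hb).obj Fb) (EtCore.bcTopIso pY)
    have e2 := bijective_map Fb (EtCore.bcTopIso p).symm
    have k : ∀ s, φ.hom.app (op (EtCoh.top Y)) (EtDesc.secPull h _ s) =
        ((EtDesc.pullSh hb).obj Fb).obj.map (EtCore.bcTopIso pY).hom.op
          (EtDesc.secPull hb Fb (Fb.obj.map (EtCore.bcTopIso p).inv.op s)) := key Fb
  · haveI : Mono φ := hbc Fb
    have h1 : Mono (φ.hom.app (op (EtCoh.top Y))) :=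
      inferInstanceAs (Mono ((sheafToPresheaf _ _ ⋙ (evaluation _ _).obj (op (EtCoh.top Y))).map φ))
    intro a b hab
    obtain ⟨s, rfl⟩ := e2.2 a
    obtain ⟨t, rfl⟩ := e2.2 b
    exact congrArg _ (hinj _ ((mono_iff_injective _).1 h1 ((k s).trans ((congrArg _ hab).trans (k t).symm))))
  · haveI : IsIso φ := hbc Fb
    have h1 : IsIso (φ.hom.app (op (EtCoh.top Y))) :=
      inferInstanceAs (IsIso ((sheafToPresheaf _ _ ⋙ (evaluation _ _).obj (op (EtCoh.top Y))).map φ))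
    have h2 := ((isIso_iff_bijective _).1 h1).comp (hbij ((EtDesc.pushSh p).obj Fb))
    refine ⟨fun a b hab => ?_, fun b => ?_⟩
    · obtain ⟨s, rfl⟩ := e2.2 a
      obtain ⟨t, rfl⟩ := e2.2 b
      exact congrArg _ (h2.1 ((k s).trans ((congrArg _ hab).trans (k t).symm)))
    · obtain ⟨s, hs⟩ := h2.2 (((EtDesc.pullSh hb).obj Fb).obj.map (EtCore.bcTopIso pY).hom.op b)
      exact ⟨_, e1.1 ((k s).symm.trans hs)⟩

end Groth.Agent.S8547
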