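import Groth.Statements.S8549
import Groth.Agent.H11SetBC.LocalData
import Groth.Agent.H11SetBC.QcData
import Groth.Agent.H11SetBC.Apply

set_option autoImplicit false
universe u
open CategoryTheory CategoryTheory.Limits AlgebraicGeometry Opposite
open EtAcyc

namespace Groth.Agent.S8549

/-- Flat with separable fibres: let g : X → Y be surjective and flat with separable fibres (every base
change of a fibre of g to a field is a reduced scheme), and assume either that X and Y are locally
Noetherian and g is quasi-compact and quasi-separated or universally open, or that g is locally of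
finite presentation. Then g is a morphism of universal effective descent for etale sheaves of sets:
for every base change g₁ : X₁ → Y₁ of g and every sheaf of sets on the small etale site of X₁ with
an isomorphism pr₁^* F' ≅ pr₂^* F' satisfying the cocycle condition, the datum is effective. -/
theorem result {X Y : Scheme.{u}} (g : X ⟶ Y) [Surjective g] [Flat g]
    (hsep : ∀ (K : Type u) [Field K] (k : Spec (CommRingCat.of K) ⟶ Y), IsReduced (pullback g k))
    (h : (IsLocallyNoetherian X ∧ IsLocallyNoetherian Y ∧ ((QuasiCompact g ∧ QuasiSeparated g) ∨ UniversallyOpen g)) ∨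
      LocallyOfFinitePresentation g) :
    ∀ ⦃X₁ Y₁ : Scheme.{u}⦄ (g₁ : X₁ ⟶ Y₁) (b' : X₁ ⟶ X) (b : Y₁ ⟶ Y), IsPullback b' g₁ g b →
      ∀ (F' : EtDesc.Sh X₁)
        (φ : (EtDesc.pullSh (pullback.fst g₁ g₁)).obj F' ≅ (EtDesc.pullSh (pullback.snd g₁ g₁)).obj F'),
        EtDesc.IsCocycle F' φ → EtDesc.IsEffective g₁ F' φ := by
  haveI : GeometricallyReduced g := ⟨fun K _ k Z fst snd hZ =>
    haveI := hsep K k
    isReduced_of_isOpenImmersion hZ.isoPullback.hom⟩
  intro X₁ Y₁ g₁ b' b sq F' φ hφ
  haveI : Flat g₁ := MorphismProperty.of_isPullback (P := @Flat) sq inferInstance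
  haveI : Surjective g₁ := MorphismProperty.of_isPullback (P := @Surjective) sq inferInstance
  haveI : GeometricallyReduced g₁ := MorphismProperty.of_isPullback (P := @GeometricallyReduced) sq inferInstance
  rcases h with ⟨_, hY, ⟨hqc, hqs⟩ | ho⟩ | hlfp
  · haveI := hY
    haveI := hqc
    haveI := hqs
    haveI : QuasiCompact g₁ := MorphismProperty.of_isPullback (P := @QuasiCompact) sq inferInstance
    haveI : QuasiSeparated g₁ := MorphismProperty.of_isPullback (P := @QuasiSeparated) sq inferInstance
    exact H11SetBC.SubDesc.isEffective_of_submersive hφ (H18PBC.isUnivSubmersive_of_flat g₁)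
      (H11SetBC.SubDesc.hasSubmersiveData_of_subConn hφ
        (H11SetBC.subConn_of_shConn (H11SetBC.shConnFibres_of_noetherian g₁ sq)))
  · haveI := hY
    haveI := ho
    haveI ho₁ : UniversallyOpen g₁ := MorphismProperty.of_isPullback (P := @UniversallyOpen) sq inferInstance
    refine H15Site.EffDesc.isEffective_of_open hφ ho₁
      (H11SetBC.SubDesc.hasLocalData_of_subConn hφ ho₁ fun X0 => ?_)
    exact H11SetBC.subConn_of_shConn (H11SetBC.shConnFibres_of_noetherian _
      ((IsPullback.of_hasPullback g₁ X0.ι).paste_horiz sq))
  · haveI := hlfp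
    haveI : LocallyOfFinitePresentation g₁ :=
      MorphismProperty.of_isPullback (P := @LocallyOfFinitePresentation) sq inferInstance
    haveI ho₁ : UniversallyOpen g₁ := inferInstance
    refine H15Site.EffDesc.isEffective_of_open hφ ho₁
      (H11SetBC.SubDesc.hasLocalData_of_subConn hφ ho₁ fun X0 => ?_)
    haveI : Flat (pullback.snd g₁ X0.ι) := inferInstance
    haveI : LocallyOfFinitePresentation (pullback.snd g₁ X0.ι) := inferInstance
    haveI : GeometricallyReduced (pullback.snd g₁ X0.ι) := inferInstance
    exact H11SetBC.subConn_of_shConn (H11SetBC.shConnFibres_of_lfp _)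

end Groth.Agent.S8549
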