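import Groth.Statements.S8552
import Groth.Agent.H05EGA4.EtCl.Dev.Main

set_option autoImplicit false
set_option backward.isDefEq.respectTransparency false
set_option backward.isDefEq.respectTransparency.types false
universe u
open CategoryTheory CategoryTheory.Limits AlgebraicGeometry Opposite
open EtCd

namespace Groth.Agent.S8552

/-- (ii) ⇒ (i): let X be a Noetherian scheme, ℓ a prime, and φ an ℕ-valued function on schemes over X
which, on integral schemes finite over X, is monotone for X-morphisms and strictly monotone for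
closed immersions that are not isomorphisms (for a general Y finite over X one puts φ(Y) = the sup
of φ over its irreducible components with reduced structure). If H^q(Y, Z/ℓ) = 0 for every integral
Y finite over X and every q > φ(Y), then for every Y finite over X, every abelian ℓ-torsion sheaf F
on Y and every q with q > φ(Z) for all integral closed subschemes Z of Y inside the closure of the
support of F, one has H^q(Y, F) = 0. (The converse implication is the special case F = Z/ℓ.) -/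
theorem result (X : Scheme.{u}) [IsNoetherian X] (ℓ : ℕ) (hℓ : ℓ.Prime)
    (φ : ∀ (Y : Scheme.{u}), (Y ⟶ X) → ℕ)
    (hmono : ∀ (Y₁ Y₂ : Scheme.{u}) (g₁ : Y₁ ⟶ X) (g₂ : Y₂ ⟶ X) [IsIntegral Y₁] [IsIntegral Y₂] [IsFinite g₁] [IsFinite g₂]
      (m : Y₁ ⟶ Y₂), m ≫ g₂ = g₁ → φ Y₁ g₁ ≤ φ Y₂ g₂ ∧ (IsClosedImmersion m → ¬ IsIso m → φ Y₁ g₁ < φ Y₂ g₂))
    (h2 : ∀ (Y : Scheme.{u}) (g : Y ⟶ X) [IsIntegral Y] [IsFinite g] (q : ℕ), φ Y g < q →
      Subsingleton (EtCoh.H Y (EtCoh.const Y (ZMod ℓ)) q))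
    (Y : Scheme.{u}) (g : Y ⟶ X) [IsFinite g] (F : EtCoh.Ab Y) (hF : EtAcyc.IsLTorsion {ℓ} F) (q : ℕ)
    (hq : ∀ (Z : Scheme.{u}) (c : Z ⟶ Y) [IsIntegral Z] [IsClosedImmersion c],
      Set.range c.base ⊆ closure (EtPBC.supp F) → φ Z (c ≫ g) < q) :
    Subsingleton (EtCoh.H Y F q) := by
  haveI : Fact ℓ.Prime := ⟨hℓ⟩
  have hφ : Groth.Agent.H05EGA4.EtCl.Dev.Mono' φ := hmono
  have hF' : Dix.IsPrimaryTorsion ℓ F := fun U s x => by
    obtain ⟨V, e, m, hv, ⟨hm0, hm⟩, hms⟩ := hF U s x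
    exact ⟨V, e, hv, _, (Nat.eq_prime_pow_of_unique_prime_dvd hm0.ne' fun {d} hd hdm => hm d hd hdm) ▸ hms⟩
  refine Groth.Agent.H05EGA4.EtCl.Dev.van hφ h2 q Y g F hF' (fun y hy => ?_) q le_rfl
  refine hq _ (Groth.Agent.H05EGA4.EtCl.Dev.clι y) ?_
  show Set.range (Groth.Agent.H05EGA4.EtCl.Dev.clι y) ⊆ _
  rw [Groth.Agent.H05EGA4.EtCl.Dev.range_clι]
  exact closure_mono (Set.singleton_subset_iff.2 hy)


end Groth.Agent.S8552
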