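import Groth.Statements.S8554
import Groth.Agent.H18NAH1.Godement
import Groth.Agent.H18Et.Stalk

set_option autoImplicit false
universe u
open CategoryTheory CategoryTheory.Limits AlgebraicGeometry Opposite
open NonAbH1

namespace Groth.Agent.S8554

/-- Every sheaf of groups F on the small etale site of a scheme X embeds into a sheaf of groups G with
vanishing first non-abelian cohomology on every etale X-scheme: there are G and a morphism u : F ⟶
G, injective on sections over every object of the site, such that for every etale X-scheme U every
torsor under the restriction of G to the induced site over U is trivial, i.e. H¹(U, G) is reduced to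
its base point. (The published statement adds that the first higher direct images of G along any
morphism of schemes then vanish as pointed sheaves; that clause follows from this one and is not
stated here.) -/
theorem result {X : Scheme.{u}}
    (F : Sheaf X.smallEtaleTopology GrpCat.{u + 1}) :
    ∃ (G : Sheaf X.smallEtaleTopology GrpCat.{u + 1}) (φ : F ⟶ G),
      (∀ U : X.Etaleᵒᵖ, Function.Injective (φ.hom.app U)) ∧
      ∀ (U : X.Etale) (P : NonAbH1.Torsor (G.over U)), P.IsTrivial := by
  let Φ : X → GrothendieckTopology.Point.{u} X.smallEtaleTopology := fun x =>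
    Scheme.pointSmallEtale (Groth.Agent.H18Et.geomPt x)
  refine ⟨H18NAH1.Godement.sky Φ _, H18NAH1.Godement.toSky Φ F, fun U => ?_, fun U P => ?_⟩
  · refine H18NAH1.Godement.toSky_injective Φ F U (fun S hS => ?_)
    refine Groth.Agent.H18Et.mem_topology_of_forall_point _ (fun w => ?_)
    obtain ⟨t, ht⟩ := Groth.Agent.H18Et.exists_fiber_over w
      (Groth.Agent.H18Et.geomPt (U.unop.hom w)) (Groth.Agent.H18Et.geomPt_base _)
    obtain ⟨V, k, v, hk, rfl⟩ := hS (U.unop.hom w) t
    exact ⟨V, k, Groth.Agent.H18Et.ptOf v, hk, (Groth.Agent.H18Et.ptOf_map k v).trans ht⟩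
  · exact H18NAH1.isTrivial_of_hasSection P (H18NAH1.Godement.hasSection_over Φ _ P)

end Groth.Agent.S8554
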