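import Groth.Statements.S8557
import Groth.Agent.H18NAH1.Boundary

set_option autoImplicit false
universe u
open CategoryTheory CategoryTheory.Limits AlgebraicGeometry Opposite
open NonAbH1

namespace Groth.Agent.S8557

/-- The equivalence relation defined by the boundary map is the one given by the action of the global
sections of G on those of Q: let u : F ⟶ G be a morphism of sheaves of groups on the small etale
site of a scheme X that is injective on sections over every object, and let the G-sheaf Q with its
equivariant map π from G (acting on itself by left translation) be the quotient G/F (π identifies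
two sections of G exactly when they differ by right multiplication by a section of F, and is locally
surjective). Let c and c' be global sections of Q and let T and T' be F-sheaves which are the
sheaves of local liftings of c and of c' to G (F acting by f · g = g u(f)⁻¹). Then T and T' are
equivariantly isomorphic, i.e. ∂c = ∂c' in H¹(X, F), if and only if there is a global section g of G
with g · c = c' (componentwise over every object of the site). -/
theorem result {X : Scheme.{u}} {F G : Sheaf X.smallEtaleTopology GrpCat.{u + 1}}
    (u : F ⟶ G) (hu : ∀ U : X.Etaleᵒᵖ, Function.Injective (u.hom.app U))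
    {Q : NonAbH1.GSheaf G} (π : NonAbH1.GSheaf.trivial.{u + 1, u, u + 1} G ⟶ Q) (hQ : NonAbH1.GSheaf.IsQuotientBy.{u + 1, u, u + 1} u π)
    (c c' : Q.P.obj.sections) (T T' : NonAbH1.GSheaf F)
    (hT : NonAbH1.GSheaf.IsFibreOver.{u + 1, u, u + 1} u π c T) (hT' : NonAbH1.GSheaf.IsFibreOver.{u + 1, u, u + 1} u π c' T') :
    Nonempty (T ≅ T') ↔
      ∃ g : (NonAbH1.GSheaf.uSh.{u + 1, u, u + 1} G).obj.sections,
        ∀ U : X.Etaleᵒᵖ, Q.smul (NonAbH1.GSheaf.toGrp.{u + 1, u, u + 1} (g.1 U)) (c.1 U) = c'.1 U := by
  exact ⟨fun ⟨φ⟩ => H18NAH1.exists_translate_of_iso hu hQ hT hT' φ.hom,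
    fun ⟨g, hg⟩ => H18NAH1.exists_hom_of_translate.{u + 1, u, u + 1} hT hT' g hg⟩

end Groth.Agent.S8557
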