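import Groth.Statements.S8560
import Groth.Agent.H1DFun.LTorsion

set_option autoImplicit false
universe u
open CategoryTheory CategoryTheory.Limits AlgebraicGeometry Opposite
open EtAcyc

namespace Groth.Agent.S8560

/-- For the etale sites of schemes and a set of primes L: if f : X ⟶ Y is a quasi-compact and
quasi-separated morphism of schemes and F is an abelian L-torsion sheaf on the small etale site of X
(every section is, etale-locally around each point, killed by a positive integer all of whose prime
factors lie in L), then each higher direct image R^q f_* F is an L-torsion sheaf on Y. (The
published statement, for topoi, asks only that the morphism be quasi-compact; this row also assumes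
f quasi-separated: for the spectrum of a polynomial ring in countably many variables over a
separably closed field glued to a copy of itself along the complement of the origin, and the direct
sum of the skyscraper sheaves ℤ/pⁿ at the points where exactly the n-th variable is 1, the structure
morphism to the field is quasi-compact but H¹ contains a class of infinite order.) -/
theorem result {X Y : Scheme.{u}} (f : X ⟶ Y) [QuasiCompact f] [QuasiSeparated f]
    [EtCoh.BCCont f] (L : Set ℕ) (F : EtCoh.Ab X) (hF : EtAcyc.IsLTorsion L F) (q : ℕ) :
    EtAcyc.IsLTorsion L ((EtCoh.Rpush f q).obj F) := by
  exact H1DFun.isLTorsion_Rpush f L F hF q

end Groth.Agent.S8560
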