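import Groth.Statements.S8562
import Groth.Agent.H18Et.Subterminal

set_option autoImplicit false
universe u
open CategoryTheory CategoryTheory.Limits AlgebraicGeometry Opposite
open NonAbH1

namespace Groth.Agent.S8562

/-- Exactness of the sequence 0 → H¹(Y, f_*F) → H¹(X, F) → H⁰(Y, R¹f_*F) at its middle term, in terms of
torsors: let f : X ⟶ Y be a morphism of schemes, F a sheaf of groups on the small etale site of X,
f_*F its direct image on Y (sections over an etale Y-scheme V are the sections of F over X ×_Y V),
and Q an F-torsor. Then Q is the image of a class in H¹(Y, f_*F), in the sense that there are an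
f_*F-torsor P on Y and a morphism of sheaves of sets from P to the direct image of the sheaf
underlying Q which is equivariant for the actions of f_*F, if and only if the class of Q is locally
trivial over Y: there is a jointly surjective family of etale Y-schemes Y_i such that Q has a
section over every X ×_Y Y_i. -/
theorem result {X Y : Scheme.{u}} (f : X ⟶ Y)
    [EtCoh.BCCont f] (F : Sheaf X.smallEtaleTopology GrpCat.{u + 1}) (Q : NonAbH1.Torsor F) :
    (∃ (P : NonAbH1.Torsor (((EtCoh.bc f).sheafPushforwardContinuous GrpCat.{u + 1}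
        Y.smallEtaleTopology X.smallEtaleTopology).obj F))
      (φ : P.P ⟶ ((EtCoh.bc f).sheafPushforwardContinuous (Type (u + 1))
        Y.smallEtaleTopology X.smallEtaleTopology).obj Q.P),
      ∀ (V : Y.Etaleᵒᵖ) (g : F.obj.obj (op ((EtCoh.bc f).obj V.unop))) (s : P.P.obj.obj V),
        φ.hom.app V (P.smul g s) = Q.smul g (φ.hom.app V s)) ↔
    ∃ (ι : Type u) (V : ι → Y.Etale), EtCoh.Covers V ∧
      ∀ i, Nonempty (Q.P.obj.obj (op ((EtCoh.bc f).obj (V i)))) := by
  constructor
  · rintro ⟨P, φ, -⟩
    obtain ⟨S, hS, hS'⟩ := P.isTorsor.2 (Scheme.Etale.mk (𝟙 Y))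
    choose V g z hg hz using fun y : Y => Groth.Agent.H18Et.Subterminal.exists_mem_of_cover hS y
    refine ⟨Y, V, fun y => ⟨y, z y, ?_⟩, fun y => (hS' (g y) (hg y)).map (φ.hom.app _)⟩
    rw [show (V y).hom = (g y).left ≫ 𝟙 Y from (Over.w (g y).hom).symm]
    erw [Category.comp_id]
    exact hz y
  · rintro ⟨ι, V, hV, hs⟩
    refine ⟨⟨
      { P := ((EtCoh.bc f).sheafPushforwardContinuous (Type (u + 1))
          Y.smallEtaleTopology X.smallEtaleTopology).obj Q.P
        smul := fun g p => Q.smul g p
        one_smul := fun p => Q.one_smul p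
        mul_smul := fun g h p => Q.mul_smul g h p
        map_smul := fun e g p => Q.map_smul ((EtCoh.bc f).map e.unop).op g p },
      fun W p q => Q.isTorsor.1 _ p q, fun W => ?_⟩, 𝟙 _, fun W g p => rfl⟩
    let T : Sieve W :=
      { arrows := fun W' _ => Nonempty (Q.P.obj.obj (op ((EtCoh.bc f).obj W')))
        downward_closed := fun {_ _ _} h k => h.map (Q.P.obj.map ((EtCoh.bc f).map k).op) }
    refine ⟨T, Groth.Agent.H18Et.mem_topology_of_forall_point _ (fun w => ?_), fun W' a ha => ha⟩
    obtain ⟨i, v, hv⟩ := hV (W.hom w)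
    haveI : Etale (V i).hom := (V i).prop
    haveI : Etale W.hom := W.prop
    obtain ⟨y, hy, -⟩ := Scheme.Pullback.exists_preimage_pullback w v hv.symm
    let W' : Y.Etale := Scheme.Etale.mk (pullback.fst W.hom (V i).hom ≫ W.hom)
    let p : W' ⟶ W := MorphismProperty.Over.homMk (pullback.fst _ _) rfl
    let q : W' ⟶ V i := MorphismProperty.Over.homMk (pullback.snd _ _) pullback.condition.symm
    exact ⟨W', p, y, (hs i).map (Q.P.obj.map ((EtCoh.bc f).map q).op), hy⟩

end Groth.Agent.S8562
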