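import Groth.Statements.S8564
import Groth.Prelude.Def_FreeSh
import Mathlib.CategoryTheory.Sites.Limits
import Mathlib.Algebra.Category.Grp.Limits
import Mathlib.Algebra.Category.Grp.Adjunctions
import Mathlib.CategoryTheory.Adjunction.Whiskering
import Mathlib.Algebra.Homology.DerivedCategory.Ext.EnoughInjectives
import Groth.Agent.H10Coh.ExtMap

open CategoryTheory.Abelian Groth.Agent.H10Coh

set_option linter.style.haveILetI false
open CategoryTheory CategoryTheory.Limits Opposite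

set_option autoImplicit false
open CategoryTheory CategoryTheory.Limits
universe u
open CohCx

namespace Groth.Agent.S8564

section
open Groth.Agent.H10Coh

variable {C : Type u} [SmallCategory C] {J : GrothendieckTopology C}

/-- Free abelian sheaf on a presheaf of sets. -/
noncomputable abbrev L : (Cᵒᵖ ⥤ Type u) ⥤ Sheaf J AddCommGrpCat.{u} :=
  (Functor.whiskeringRight _ _ _).obj AddCommGrpCat.free.{u} ⋙ presheafToSheaf J AddCommGrpCat.{u}

theorem lift_free (U : C) (Q : Sheaf J AddCommGrpCat.{u}) (φ : CohCx.freeSheaf J U ⟶ Q) :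
    ∃ ψ : L.obj (sheafify J (yoneda.obj U)) ⟶ Q, L.map (toSheafify J (yoneda.obj U)) ≫ ψ = φ := by
  let A := (AddCommGrpCat.adj.{u}.whiskerRight Cᵒᵖ).comp (sheafificationAdjunction J AddCommGrpCat.{u})
  refine ⟨(A.homEquiv _ Q).symm (sheafifyLift J (A.homEquiv (yoneda.obj U) Q φ)
    ((sheafCompose J (CategoryTheory.forget AddCommGrpCat.{u})).obj Q).property), ?_⟩
  refine (A.homEquiv_naturality_left_symm _ _).symm.trans ?_
  exact (congrArg (A.homEquiv _ Q).symm (toSheafify_sheafifyLift _ _ _)).trans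
    ((A.homEquiv _ Q).symm_apply_apply φ)

theorem surjective_free {S : ShortComplex (Sheaf J AddCommGrpCat.{u})} (hS : S.ShortExact)
    (h : CohCx.IsTotallyAcyclic S.X₁) (U : C) :
    Function.Surjective fun φ : CohCx.freeSheaf J U ⟶ S.X₂ => φ ≫ S.g := by
  intro φ
  obtain ⟨ψ, rfl⟩ := lift_free U S.X₃ φ
  have := h ⟨sheafify J (yoneda.obj U), (presheafToSheaf J (Type u)).obj (yoneda.obj U) |>.property⟩ 0
  obtain ⟨y, hy⟩ := Ext.covariant_sequence_exact₃ (L.obj (sheafify J (yoneda.obj U))) hS (Ext.mk₀ ψ) rfl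
    (this.elim _ _)
  obtain ⟨y, rfl⟩ := (Ext.mk₀_bijective _ _).2 y
  rw [Ext.mk₀_comp_mk₀] at hy
  exact ⟨L.map (toSheafify J (yoneda.obj U)) ≫ y,
    (Category.assoc _ _ _).trans (congrArg (L.map (toSheafify J (yoneda.obj U)) ≫ ·) ((Ext.mk₀_bijective _ _).1 hy))⟩

theorem acyclic_X₃ {S : ShortComplex (Sheaf J AddCommGrpCat.{u})} (hS : S.ShortExact) [Injective S.X₂]
    (h : CohCx.IsTotallyAcyclic S.X₁) : CohCx.IsTotallyAcyclic S.X₃ := fun K p =>
  subsingleton_of_forall_eq 0 fun x => by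
    have : Subsingleton (CohCx.HK K S.X₂ (p + 1)) :=
      subsingleton_of_forall_eq 0 fun y => Ext.eq_zero_of_injective y
    exact comp_extClass_injective hS ((h K (p + 1)).elim _ _)

theorem seq {T : Type u} (F : T → Sheaf J AddCommGrpCat.{u}) (hF : ∀ t, CohCx.IsTotallyAcyclic (F t)) :
    ∃ (g : (∏ᶜ fun t => (injSeq (F t)).X₂) ⟶ ∏ᶜ fun t => (injSeq (F t)).X₃)
      (f : (∏ᶜ F) ⟶ ∏ᶜ fun t => (injSeq (F t)).X₂) (w : f ≫ g = 0),
      (ShortComplex.mk f g w).ShortExact ∧
      ∀ (A : Sheaf J AddCommGrpCat.{u}),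
      (∀ t, Function.Surjective fun φ : A ⟶ (injSeq (F t)).X₂ => φ ≫ (injSeq (F t)).g) →
        Function.Surjective fun φ : A ⟶ ∏ᶜ (fun t => (injSeq (F t)).X₂) => φ ≫ g := by
  let S : T → ShortComplex (Sheaf J AddCommGrpCat.{u}) := fun t => injSeq (F t)
  have hS : ∀ t, (S t).ShortExact := fun t => injSeq_shortExact (F t)
  let P : ShortComplex (Sheaf J AddCommGrpCat.{u}) :=
    ShortComplex.mk (Limits.Pi.map fun t => (S t).f) (Limits.Pi.map fun t => (S t).g)
      (Pi.hom_ext _ _ fun t => by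
        rw [Category.assoc, Pi.map_π, Pi.map_π_assoc, (S t).zero, comp_zero, zero_comp])
  have hlift : ∀ (A : Sheaf J AddCommGrpCat.{u}),
      (∀ t, Function.Surjective fun φ : A ⟶ (S t).X₂ => φ ≫ (S t).g) →
        Function.Surjective fun φ : A ⟶ P.X₂ => φ ≫ P.g := by
    intro A hA φ
    choose ψ hψ using fun t => hA t (φ ≫ Pi.π (fun t => (S t).X₃) t)
    refine ⟨Pi.lift ψ, Pi.hom_ext _ _ fun t => ?_⟩
    change (Pi.lift ψ ≫ Limits.Pi.map fun t => (S t).g) ≫ _ = _
    rw [Category.assoc, Pi.map_π, Pi.lift_π_assoc]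
    exact hψ t
  have hm : ∀ t, Mono (S t).f := fun t => (hS t).mono_f
  have hP : P.ShortExact := by
    have hmono : Mono P.f := inferInstanceAs (Mono (Limits.Pi.map fun t => (S t).f))
    have hepi : Epi P.g := by
      have : ∀ U : Cᵒᵖ, Epi (((sheafToPresheaf J AddCommGrpCat.{u}).map P.g).app U) := fun U => by
        rw [AddCommGrpCat.epi_iff_surjective]
        intro s
        obtain ⟨φ, hφ⟩ := hlift (CohCx.freeSheaf J U.unop) (fun t => surjective_free (hS t) (hF t) U.unop)
          ((CohFree.homEquivSect J U.unop P.X₃).symm s)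
        refine ⟨CohFree.homEquivSect J U.unop P.X₂ φ, ?_⟩
        exact (congrArg (CohFree.homEquivSect J U.unop P.X₃) hφ).trans (AddEquiv.apply_symm_apply _ _)
      exact (sheafToPresheaf J AddCommGrpCat.{u}).epi_of_epi_map (@NatTrans.epi_of_epi_app _ _ _ _ _ _ _ this)
    refine { exact := ShortComplex.exact_of_f_is_kernel _ (KernelFork.IsLimit.ofι' _ _ fun {W} k hk => ?_),
             mono_f := hmono, epi_g := hepi }
    have hk' : ∀ t, (k ≫ Pi.π (fun t => (S t).X₂) t) ≫ (S t).g = 0 := fun t => by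
      rw [Category.assoc, ← Pi.map_π (fun t => (S t).g) t, ← Category.assoc]
      exact (congrArg (· ≫ Pi.π (fun t => (S t).X₃) t) hk).trans zero_comp
    refine ⟨Pi.lift fun t => (hS t).exact.lift (k ≫ Pi.π (fun t => (S t).X₂) t) (hk' t), Pi.hom_ext _ _ fun t => ?_⟩
    change (_ ≫ Limits.Pi.map fun t => (S t).f) ≫ _ = _
    rw [Category.assoc, Pi.map_π, Pi.lift_π_assoc, ShortComplex.Exact.lift_f]
  exact ⟨P.g, P.f, P.zero, hP, hlift⟩

theorem main (p : ℕ) : ∀ {T : Type u} (F : T → Sheaf J AddCommGrpCat.{u}),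
    (∀ t, CohCx.IsTotallyAcyclic (F t)) → ∀ K : Sheaf J (Type u),
      Subsingleton (CohCx.HK K (∏ᶜ F) (p + 1)) := by
  induction p with
  | zero =>
    intro T F hF K
    obtain ⟨g, f, w, hP, hlift⟩ := seq F hF
    let A := (presheafToSheaf J AddCommGrpCat.{u}).obj (K.obj ⋙ AddCommGrpCat.free.{u})
    have : Subsingleton (Ext A (∏ᶜ fun t => (injSeq (F t)).X₂) 1) :=
      subsingleton_of_forall_eq 0 fun y => Ext.eq_zero_of_injective y
    refine @subsingleton_ext_one _ _ _ _ A _ hP this (hlift A fun t φ => ?_)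
    obtain ⟨y, hy⟩ := Ext.covariant_sequence_exact₃ A (injSeq_shortExact (F t)) (Ext.mk₀ φ) rfl
      ((hF t K 0).elim _ _)
    obtain ⟨y, rfl⟩ := (Ext.mk₀_bijective _ _).2 y
    rw [Ext.mk₀_comp_mk₀] at hy
    exact ⟨y, (Ext.mk₀_bijective _ _).1 hy⟩
  | succ p ih =>
    intro T F hF K
    obtain ⟨g, f, w, hP, hlift⟩ := seq F hF
    let A := (presheafToSheaf J AddCommGrpCat.{u}).obj (K.obj ⋙ AddCommGrpCat.free.{u})
    have : Subsingleton (Ext A (∏ᶜ fun t => (injSeq (F t)).X₂) (p + 1 + 1)) :=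
      subsingleton_of_forall_eq 0 fun y => Ext.eq_zero_of_injective y
    exact @subsingleton_ext_X₁ _ _ _ _ A _ hP _ this
      (ih (fun t => (injSeq (F t)).X₃) (fun t => acyclic_X₃ (injSeq_shortExact (F t)) (hF t)) K)
end

/-- Let (F_t) be a family of abelian sheaves on a small site, indexed by a small set, such that each F_t
is totally acyclic, i.e. H^p(K, F_t) = 0 for every sheaf of sets K and every p > 0. Then the product
sheaf of the family is totally acyclic. (The published statement is for modules over a ringed topos;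
this row is the case of abelian sheaves.) -/
theorem result {C : Type u} [SmallCategory C] (J : GrothendieckTopology C)
    {T : Type u} (F : T → Sheaf J AddCommGrpCat.{u}) (hF : ∀ t, CohCx.IsTotallyAcyclic (F t)) :
    CohCx.IsTotallyAcyclic (∏ᶜ F) := by
  exact fun K p => main p F hF K

end Groth.Agent.S8564
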