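import Groth.Statements.S8565
import Mathlib
import Groth.Agent.H15Site.CoskLib
import Groth.Agent.H15Site.CoskHomotopy

open Groth.Agent.H15Site CategoryTheory.MonoidalCategory

set_option linter.style.haveILetI false
open CategoryTheory CategoryTheory.Limits Opposite Simplicial

set_option autoImplicit false
open CategoryTheory CategoryTheory.Limits Opposite
universe v u
open Hyper

namespace Groth.Agent.S8565

/-- Let E be a category with finite limits, n a natural number and f, g : X ⟶ X' two morphisms of
simplicial objects of E whose components agree in every degree p < n. Then there is a simplicial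
homotopy between the morphisms cosk_n(f) and cosk_n(g) of n-coskeleta (cosk_n = right Kan extension
of the n-truncation; Mathlib's combinatorial simplicial homotopies). For n = 0 the hypothesis is
empty. -/
theorem result {E : Type u} [Category.{v} E] [HasFiniteLimits E] (n : ℕ)
    [∀ (F : (SimplexCategory.Truncated n)ᵒᵖ ⥤ E), (SimplexCategory.Truncated.inclusion n).op.HasRightKanExtension F]
    {X X' : SimplicialObject E} (f g : X ⟶ X')
    (hfg : ∀ p : ℕ, p < n → f.app (op (SimplexCategory.mk p)) = g.app (op (SimplexCategory.mk p))) :
    Nonempty (SimplicialObject.Homotopy ((SimplicialObject.cosk n).map f) ((SimplicialObject.cosk n).map g)) := by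
  let adj := SimplicialObject.coskAdj (C := E) n
  have hpw := hasPointwiseRightKanExtension_inclusion (C := E) n
  have hε : IsIso adj.counit := SimplicialObject.Truncated.cosk_reflective n
  have hε' : IsIso (adj.counit.app ((SimplicialObject.truncation n).obj X')) := NatIso.isIso_app_of_isIso _ _
  have hc : ((SimplicialObject.cosk n).obj X').IsCoskeletal n := by
    rw [SimplicialObject.isCoskeletal_iff_isIso]
    have h1 := adj.right_triangle_components ((SimplicialObject.truncation n).obj X')
    have h2 : IsIso ((SimplicialObject.Truncated.cosk n).map (adj.counit.app ((SimplicialObject.truncation n).obj X'))) :=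
      Functor.map_isIso _ _
    have h3 : IsIso (𝟙 ((SimplicialObject.Truncated.cosk n).obj ((SimplicialObject.truncation n).obj X'))) := IsIso.id _
    exact IsIso.of_isIso_fac_right h1
  refine CoskHomotopy.nonempty_homotopy (n := n) fun p hp => ?_
  let Δ : (SimplexCategory.Truncated n)ᵒᵖ := op ⟨⦋p⦌, hp.le⟩
  have := (NatTrans.isIso_iff_isIso_app _).1 hε' Δ
  apply (cancel_mono ((adj.counit.app ((SimplicialObject.truncation n).obj X')).app Δ)).1
  have n1 := NatTrans.congr_app (adj.counit.naturality ((SimplicialObject.truncation n).map f)) Δ
  have n2 := NatTrans.congr_app (adj.counit.naturality ((SimplicialObject.truncation n).map g)) Δ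
  refine n1.trans (Eq.trans ?_ n2.symm)
  exact congrArg (_ ≫ ·) (hfg p hp)

end Groth.Agent.S8565
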