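import Groth.Statements.S8566
import Groth.Agent.H16Derived.Double.Total
import Groth.Agent.H16Derived.KInjRes.Main
import Groth.Agent.H16Derived.AcyclicLES

set_option autoImplicit false
open CategoryTheory CategoryTheory.Limits
universe v u
open CohDer

namespace Groth.Agent.S8566

open Groth.Agent.H16Derived Groth.Agent.H16Derived.Double HomologicalComplex

set_option linter.style.haveILetI false

theorem acyclic_iso {B : Type*} [Category B] [Abelian B] {M N : CochainComplex B ℤ} (h : M.Acyclic)
    (e : M ≅ N) : N.Acyclic := fun n => HomologicalComplex.ExactAt.of_iso (h n) e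

variable {A : Type u} [Category.{v} A] [Abelian A]

theorem isZero_of_total {Z X Y : A} (i : X ⟶ Z) (j : Y ⟶ Z) (p : Z ⟶ X) (q : Z ⟶ Y)
    (h : p ≫ i + q ≫ j = 𝟙 Z) (hX : IsZero X) (hY : IsZero Y) : IsZero Z := by
  rw [IsZero.iff_id_eq_zero, ← h, hX.eq_of_tgt p 0, hY.eq_of_tgt q 0, zero_comp, zero_comp, add_zero]

/-- Mono quasi-isomorphisms. -/
theorem quasiIso_total_of_mono {K L : Dbl A} (φ : K ⟶ L) [Mono φ]
    [QuasiIso (C := HomologicalComplex A (ComplexShape.up ℤ)) φ] {a b : ℤ} (hK : Bdd K a b) (hL : Bdd L a b)
    [K.HasTotal (ComplexShape.up ℤ)] [L.HasTotal (ComplexShape.up ℤ)] :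
    QuasiIso (HomologicalComplex₂.total.map φ (ComplexShape.up ℤ)) := by
  let S : ShortComplex (Dbl A) := ShortComplex.mk φ (cokernel.π φ) (cokernel.condition φ)
  have hS : S.ShortExact :=
    { exact := ShortComplex.exact_of_g_is_cokernel _ (cokernelIsCokernel φ)
      mono_f := inferInstanceAs (Mono φ)
      epi_g := inferInstanceAs (Epi (cokernel.π φ)) }
  have hC : Bdd S.X₃ a b := fun p q h => by
    haveI : Epi ((S.g.f p).f q) :=
      ((hS.map_of_exact (HomologicalComplex.eval (HomologicalComplex A (ComplexShape.up ℤ))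
        (ComplexShape.up ℤ) p)).map_of_exact (HomologicalComplex.eval A (ComplexShape.up ℤ) q)).epi_g
    exact IsZero.of_epi ((S.g.f p).f q) (hL p q h)
  haveI := hasTotal hC
  have hac : HomologicalComplex.Acyclic (C := HomologicalComplex A (ComplexShape.up ℤ)) S.X₃ :=
    hS.acyclic_X₃ (inferInstanceAs (QuasiIso (C := HomologicalComplex A (ComplexShape.up ℤ)) φ))
  obtain ⟨w, h⟩ := shortExact_total hS hK hL hC
  haveI := h.mono_f
  exact KInjRes.quasiIso_of_mono _ (acyclic_iso (acyclic_total hC hac)
    (IsColimit.coconePointUniqueUpToIso h.gIsCokernel (colimit.isColimit _)))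

/-- Let A be an abelian category, K and L double complexes in A with integer bidegrees whose terms
vanish in every bidegree (p, q) with p < a or q < b, and φ : K ⟶ L a morphism which is a
quasi-isomorphism when K and L are viewed as complexes (first index) with values in the abelian
category of complexes (second index). Then the morphism of total complexes induced by φ is a
quasi-isomorphism; in words, the simple (total) complex functor preserves quasi-isomorphisms. (The
published statement is for bounded below complexes of bounded below complexes; this row takes the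
two bounds uniform, so that every term of the total complex is a finite sum.) -/
theorem result {A : Type u} [Category.{v} A] [Abelian A]
    (K L : HomologicalComplex₂ A (ComplexShape.up ℤ) (ComplexShape.up ℤ)) (φ : K ⟶ L) (a b : ℤ)
    (hK : ∀ p q : ℤ, p < a ∨ q < b → IsZero ((K.X p).X q))
    (hL : ∀ p q : ℤ, p < a ∨ q < b → IsZero ((L.X p).X q))
    [K.HasTotal (ComplexShape.up ℤ)] [L.HasTotal (ComplexShape.up ℤ)] [QuasiIso φ] :
    QuasiIso (HomologicalComplex₂.total.map φ (ComplexShape.up ℤ)) := by
  letI := HasDerivedCategory.standard (HomologicalComplex A (ComplexShape.up ℤ))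
  let K' : CochainComplex (HomologicalComplex A (ComplexShape.up ℤ)) ℤ := K
  let L' : CochainComplex (HomologicalComplex A (ComplexShape.up ℤ)) ℤ := L
  let φ' : K' ⟶ L' := φ
  haveI : QuasiIso φ' := inferInstanceAs (QuasiIso φ)
  let P := CochainComplex.mappingCone (𝟙 K')
  have hPac : P.Acyclic := (AcyclicLES.quasiIso_iff_acyclic_mappingCone (𝟙 K')).1 inferInstance
  have hP : Bdd P (a - 1) b := fun p q h => by
    let ev := HomologicalComplex.eval A (ComplexShape.up ℤ) q
    let e : P.X p ≅ K'.X (p + 1) ⊞ K'.X p :=
      HomologicalComplex.homotopyCofiber.XIsoBiprod (𝟙 K') p (p + 1) rfl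
    refine IsZero.of_iso ?_ (ev.mapIso e)
    refine isZero_of_total (ev.map biprod.inl) (ev.map biprod.inr) (ev.map biprod.fst) (ev.map biprod.snd)
      (by rw [← ev.map_comp, ← ev.map_comp, ← ev.map_add, biprod.total, ev.map_id]) ?_ ?_
    · exact hK (p + 1) q (h.imp (by omega) id)
    · exact hK p q (h.imp (by omega) id)
  let M := L' ⊞ P
  have hM : Bdd M (a - 1) b := fun p q h => by
    let ev := HomologicalComplex.eval (HomologicalComplex A (ComplexShape.up ℤ)) (ComplexShape.up ℤ) p ⋙
      HomologicalComplex.eval A (ComplexShape.up ℤ) q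
    refine isZero_of_total (Z := ev.obj M) (ev.map biprod.inl) (ev.map biprod.inr) (ev.map biprod.fst)
      (ev.map biprod.snd) (by rw [← ev.map_comp, ← ev.map_comp, ← ev.map_add, biprod.total, ev.map_id])
      (hL p q (h.imp (by omega) id)) (hP p q h)
  haveI := hasTotal hP
  haveI := hasTotal hM
  let ψ : K' ⟶ M := biprod.lift φ' (CochainComplex.mappingCone.inr (𝟙 K'))
  haveI : Mono (CochainComplex.mappingCone.inr (𝟙 K')) := by
    haveI : ∀ p, Mono ((CochainComplex.mappingCone.inr (𝟙 K')).f p) := fun p =>
      mono_of_mono_fac (CochainComplex.mappingCone.inr_f_snd_v (𝟙 K') p)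
    exact HomologicalComplex.mono_of_mono_f _ inferInstance
  haveI : Mono ψ := mono_of_mono_fac (show ψ ≫ biprod.snd = _ from biprod.lift_snd _ _)
  haveI : QuasiIso (biprod.inl : L' ⟶ M) := by
    exact KInjRes.quasiIso_of_mono _ (acyclic_iso hPac (cokernelBiprodInlIso (X := L') (Y := P)).symm)
  haveI : QuasiIso (biprod.fst : M ⟶ L') := by
    haveI : QuasiIso ((biprod.inl : L' ⟶ M) ≫ biprod.fst) := by rw [biprod.inl_fst]; infer_instance
    exact quasiIso_of_comp_left (biprod.inl : L' ⟶ M) _
  haveI : QuasiIso ψ := by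
    haveI : QuasiIso (ψ ≫ biprod.fst) := by rw [biprod.lift_fst]; infer_instance
    exact quasiIso_of_comp_right ψ (biprod.fst : M ⟶ L')
  have hK' : Bdd K' (a - 1) b := fun p q h => hK p q (h.imp (by omega) id)
  have hL' : Bdd L' (a - 1) b := fun p q h => hL p q (h.imp (by omega) id)
  haveI : HomologicalComplex₂.HasTotal K' (ComplexShape.up ℤ) := ‹K.HasTotal _›
  haveI : HomologicalComplex₂.HasTotal L' (ComplexShape.up ℤ) := ‹L.HasTotal _›
  haveI hψ : QuasiIso (HomologicalComplex₂.total.map (K := K') (L := M) ψ (ComplexShape.up ℤ)) :=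
    quasiIso_total_of_mono ψ hK' hM
  haveI hinl : QuasiIso (HomologicalComplex₂.total.map (K := L') (L := M) biprod.inl (ComplexShape.up ℤ)) :=
    quasiIso_total_of_mono _ hL' hM
  haveI hfst : QuasiIso (HomologicalComplex₂.total.map (K := M) (L := L') biprod.fst (ComplexShape.up ℤ)) := by
    haveI : QuasiIso (HomologicalComplex₂.total.map (K := L') (L := M) biprod.inl (ComplexShape.up ℤ) ≫
        HomologicalComplex₂.total.map (K := M) (L := L') biprod.fst (ComplexShape.up ℤ)) := by
      rw [← HomologicalComplex₂.total.map_comp, biprod.inl_fst]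
      erw [HomologicalComplex₂.total.map_id]
      infer_instance
    exact quasiIso_of_comp_left
      (HomologicalComplex₂.total.map (K := L') (L := M) biprod.inl (ComplexShape.up ℤ)) _
  have e : HomologicalComplex₂.total.map φ (ComplexShape.up ℤ) =
      HomologicalComplex₂.total.map (K := K') (L := M) ψ (ComplexShape.up ℤ) ≫
        HomologicalComplex₂.total.map (K := M) (L := L') biprod.fst (ComplexShape.up ℤ) :=
    (congrArg (fun t => HomologicalComplex₂.total.map (K := K') (L := L') t (ComplexShape.up ℤ))
      (biprod.lift_fst φ' (CochainComplex.mappingCone.inr (𝟙 K'))).symm).trans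
      (HomologicalComplex₂.total.map_comp (K := K') (L := M) (M := L') ψ biprod.fst _)
  rw [e]
  exact quasiIso_comp _ _

end Groth.Agent.S8566
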