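import Groth.Statements.S8567
import Groth.Agent.H15Site.PBC.Restrict

set_option autoImplicit false
open CategoryTheory TopologicalSpace Opposite
universe u
open CohTop

set_option linter.style.haveILetI false
set_option backward.isDefEq.respectTransparency false

open CategoryTheory CategoryTheory.Limits Opposite TopologicalSpace

namespace Groth.Agent.S8567.Aux

open Groth.Agent.H15Site Groth.Agent.H15Site.PBC

attribute [local instance 10000] SiteInst.hasSheafifySite SiteInst.hasWeakSheafifySite
  SiteInst.hasExtSite SiteInst.enoughInjSite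

variable {X K A : TopCat.{u}} (i : K ⟶ X) (j : A ⟶ K)

theorem surjective [CompactSpace K] [CompactSpace A] (hi : Topology.IsEmbedding i)
    (hj : Topology.IsClosedEmbedding j) (hs : SepIn (Set.range i)) (F : CohTop.Ab X)
    (hF : H10Coh.Flasque F) (t : ((CohTop.pull j).obj ((CohTop.pull i).obj F)).obj.obj (op ⊤)) :
    ∃ s : ((CohTop.pull i).obj F).obj.obj (op ⊤),
      (un ((CohTop.pull i).obj F) j).hom.app (op ⊤) s = t := by
  haveI := t2_of_sep i hi hs
  let G := (CohTop.pull i).obj F
  obtain ⟨U, hU, s, hs'⟩ := exists_rest_eq j G hj.isEmbedding (sepIn_of_t2 _) t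
  obtain ⟨s', hs''⟩ := soft_pull i F hi hs hF (Set.range j) hj.isClosed_range
    (fun x => gm G x.1 (hU x.2) s) (fun x => ⟨U, hU x.2, s, fun _ _ => rfl⟩)
  refine ⟨s', TopCat.Presheaf.section_ext ((CohTop.pull j).obj G : TopCat.Sheaf AddCommGrpCat.{u} A)
    ((Opens.map j).obj ⊤) _ _ fun a _ => ?_⟩
  refine (cmap_gm G j a (U := ⊤) (Opens.mem_top _) s').symm.trans ?_
  refine (congrArg _ (hs'' ⟨j a, Set.mem_range_self a⟩)).trans ?_
  refine (gm_rest j G U hU a s).symm.trans ?_
  rw [hs']
  rfl

end Groth.Agent.S8567.Aux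


namespace Groth.Agent.S8567

/-- Let X be a topological space, K ⊆ X a compact subset such that any two distinct points of K have
disjoint neighbourhoods in X, and F a flasque abelian sheaf on X. Then the inverse image F|K of F on
the subspace K is a soft sheaf: for every closed subset A of K, every section of (F|K)|A over A is
the restriction of a section of F|K over K (the restriction map is the unit of the inverse image /
direct image adjunction for the inclusion A → K, taken on global sections). -/
theorem result {X : TopCat.{u}} {K : Set X} (hK : IsCompact K)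
    (hsep : ∀ x ∈ K, ∀ y ∈ K, x ≠ y → ∃ U V : Set X, IsOpen U ∧ IsOpen V ∧ x ∈ U ∧ y ∈ V ∧ Disjoint U V)
    (F : CohTop.Ab X) [TopCat.Sheaf.IsFlasque F] {A : Set K} (hA : IsClosed A) :
    Function.Surjective
      ((((TopCat.Sheaf.pullbackPushforwardAdjunction AddCommGrpCat.{u}
        (TopCat.ofHom ⟨((↑) : A → K), continuous_subtype_val⟩ : TopCat.of A ⟶ TopCat.of K)).unit.app
        ((CohTop.pull (TopCat.ofHom ⟨((↑) : K → X), continuous_subtype_val⟩ : TopCat.of K ⟶ X)).obj F)).hom.app
        (op ⊤)).hom) := by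
  intro t
  haveI : CompactSpace (TopCat.of K) := isCompact_iff_compactSpace.1 hK
  haveI : CompactSpace (TopCat.of A) :=
    isCompact_iff_compactSpace.1 (hA.isCompact : IsCompact (A : Set (TopCat.of K)))
  obtain ⟨s, hs⟩ := Aux.surjective
    (TopCat.ofHom ⟨((↑) : K → X), continuous_subtype_val⟩ : TopCat.of K ⟶ X)
    (TopCat.ofHom ⟨((↑) : A → K), continuous_subtype_val⟩ : TopCat.of A ⟶ TopCat.of K)
    Topology.IsEmbedding.subtypeVal hA.isClosedEmbedding_subtypeVal
    (by rintro _ ⟨a, rfl⟩ _ ⟨b, rfl⟩ hab; exact hsep a.1 a.2 b.1 b.2 hab) F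
    ((Groth.Agent.H10Coh.flasque_iff F).2 inferInstance) t
  exact ⟨s, hs⟩

end Groth.Agent.S8567
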