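import Groth.Statements.S8570
import Groth.Agent.H15Site.DescTop.ClosedCoverH

set_option autoImplicit false
open CategoryTheory TopologicalSpace
universe u
open CohTop

set_option linter.style.haveILetI false
set_option backward.isDefEq.respectTransparency false

open CategoryTheory CategoryTheory.Limits Opposite TopologicalSpace

namespace Groth.Agent.S8570.Aux

open Groth.Agent.H15Site Groth.Agent.H15Site.DescTop Groth.Agent.H15Site.DescTop.ClosedCover

attribute [local instance 10000] SiteInst.hasSheafifySite SiteInst.hasWeakSheafifySite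
  SiteInst.hasExtSite SiteInst.enoughInjSite

variable {S : TopCat.{u}} (F : CohTop.Ab S) {I : Type u} (U : I → Set S)
  (hU : ∀ i, IsClosed (U i)) (hlf : LocallyFinite U)

/-- The augmentation term. -/
noncomputable def aug : F ⟶ X F U 0 := Pi.lift fun σ => η F (Zs U σ)

include hU hlf in
theorem isIso_aug : IsIso (aug F U) := by
  haveI : ∀ x : S, IsIso ((TopCat.Presheaf.stalkFunctor AddCommGrpCat.{u} x).map (aug F U).hom) := by
    intro x
    have hc : ∀ a, coord F U x 0 (((stk x).map (aug F U)).hom a) = fun _ => a := fun a => by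
      funext s
      haveI := isIso_stk_η F (Zs U (fun j => (s j).1)) (mem_Zs U x s)
      refine ((ConcreteCategory.bijective_of_isIso
        ((stk x).map (η F (Zs U (fun j => (s j).1))))).1 ?_)
      refine (η_coord F U x _ s).trans ?_
      refine (ConcreteCategory.congr_hom ((stk x).map_comp (aug F U) _) a).symm.trans ?_
      rw [aug, Pi.lift_π]
    refine (ConcreteCategory.isIso_iff_bijective _).2 ⟨fun a b h => ?_, fun c => ?_⟩
    · have h' := (hc a).symm.trans ((congrArg (coord F U x 0) h).trans (hc b))
      exact congrFun h' Fin.elim0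
    · refine ⟨coord F U x 0 c Fin.elim0, coord_injective F U hU hlf x 0 ((hc _).trans ?_)⟩
      funext s
      exact congrArg (coord F U x 0 c) (funext fun j => j.elim0)
  haveI : ∀ x : S, IsIso ((TopCat.Presheaf.stalkFunctor AddCommGrpCat.{u} x).map
      ((TopCat.Sheaf.forget AddCommGrpCat.{u} S).map (aug F U))) := this
  exact TopCat.Presheaf.isIso_of_stalkFunctor_map_iso (aug F U)

end Groth.Agent.S8570.Aux


namespace Groth.Agent.S8570

/-- Let (U_i), i in I, be a locally finite covering of a topological space X by closed subsets and F an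
abelian sheaf on X. The disjoint union of the U_i is then of cohomological descent over X, and the
descent spectral sequence reads, in existence form: there is a bounded spectral sequence of abelian
groups starting at page one, with E_1^{p,q} isomorphic for p, q ≥ 0 to the product, over all ordered
(p+1)-tuples of indices (i_0, ..., i_p), of the groups H^q(U_{i_0} ∩ ... ∩ U_{i_p}, F|(U_{i_0} ∩ ...
∩ U_{i_p})) (inverse image of F on the closed subspace) and zero otherwise, together with abutment
data whose filtrations are finite on H^n(X, F) for n ≥ 0 (zero for n < 0). (The E_1 identifications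
and the abutment isomorphisms are asserted to exist only; the first differential, which is the
alternating sum of the restriction maps, is not part of this statement.) -/
theorem result {X : TopCat.{u}} {I : Type u} (U : I → Set X)
    (hU : ∀ i, IsClosed (U i)) (hlf : LocallyFinite U) (hcov : ⋃ i, U i = Set.univ) (F : CohTop.Ab X) :
    ∃ (E : CohomologicalSpectralSequence AddCommGrpCat.{u} 1)
      (a : SpSeq.Abutment E (fun n : ℤ =>
        if 0 ≤ n then AddCommGrpCat.of (CohTop.H F n.toNat) else AddCommGrpCat.of PUnit.{u + 1})),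
      (∀ n, a.IsFinite n) ∧ SpSeq.IsBounded E ∧
      ∀ p q : ℤ, Nonempty ((E.page 1 le_rfl).X (p, q) ≅
        (if 0 ≤ p ∧ 0 ≤ q then
          AddCommGrpCat.of (∀ σ : Fin (p.toNat + 1) → I,
            CohTop.H ((CohTop.pull (TopCat.ofHom ⟨((↑) : (⋂ k, U (σ k) : Set X) → X), continuous_subtype_val⟩ :
              TopCat.of (⋂ k, U (σ k) : Set X) ⟶ X)).obj F) q.toNat)
         else AddCommGrpCat.of PUnit.{u + 1})) := by
  classical
  let J := Opens.grothendieckTopology X
  letI := @Groth.Agent.H15Site.SiteInst.hasExtSite
  haveI := Aux.isIso_aug F U hU hlf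
  refine Groth.Agent.H15Site.DescTop.resolution_spectralSequence
    (Groth.Agent.H15Site.DescTop.ClosedCover.cx F U hU hlf)
    (Groth.Agent.H15Site.DescTop.ClosedCover.acyclic_cx F U hU hlf hcov)
    (Groth.Agent.H15Site.DescTop.ClosedCover.isZero_cx F U hU hlf) (fun p q => if 0 ≤ p ∧ 0 ≤ q then _ else AddCommGrpCat.of PUnit.{u + 1}) _
    (fun p q hp hq => ?_) (fun p q h => ?_) (fun n hn => ?_) (fun n hn => ?_)
  · obtain ⟨e⟩ := Groth.Agent.H15Site.DescTop.ClosedCover.nonempty_H_X_iso F U hU hlf (p.toNat + 1) q.toNat
    rw [if_pos ⟨hp, hq⟩]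
    exact ⟨(Sheaf.functorH J q.toNat).mapIso
      (Groth.Agent.H15Site.DescTop.ClosedCover.cxXIso F U hU hlf (p.toNat + 1) p (by omega)) ≪≫ e⟩
  · simp only [if_neg h]
    exact AddCommGrpCat.isZero_of_subsingleton _
  · rw [if_pos hn]
    exact ⟨(Sheaf.functorH J n.toNat).mapIso
      (Groth.Agent.H15Site.DescTop.ClosedCover.cxXIso F U hU hlf 0 (-1) (by omega) ≪≫
        (asIso (Aux.aug F U)).symm)⟩
  · simp only [if_neg (not_le.2 hn)]
    exact AddCommGrpCat.isZero_of_subsingleton _

end Groth.Agent.S8570
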