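import Groth.Statements.S8571
import Groth.Agent.H15Site.DescSimp.Proper

set_option autoImplicit false
open CategoryTheory CategoryTheory.Limits TopologicalSpace
universe u
open CohTop

set_option backward.isDefEq.respectTransparency false
set_option backward.isDefEq.respectTransparency.types false


namespace Groth.Agent.S8571

/-- Consider a continuous map f : X → S that is proper and surjective, where proper means universally
closed and such that two distinct points lying in the same fibre admit disjoint open neighbourhoods
in X; take F an abelian sheaf on the space S. Then f is a morphism of cohomological descent, and the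
associated descent spectral sequence is stated here in existence form: one can find a bounded
spectral sequence of abelian groups beginning at page one, whose term E_1^{p,q} is isomorphic to
H^q(X_p, F|X_p) when p, q ≥ 0 and is zero otherwise, with X_p denoting the (p+1)-fold fibre product
of X over S and F|X_p the pullback of F along the projection X_p → S; it comes with abutment data
having finite filtrations on H^n(S, F) for n ≥ 0 (and zero for n < 0). (Only the existence of the
E_1 identifications and of the abutment isomorphisms is claimed; the differentials are not part of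
this statement.) -/
theorem result {X S : TopCat.{u}} (f : X ⟶ S) (hf : IsProperMap f)
    (hs : ∀ x x' : X, f x = f x' → x ≠ x' → ∃ U V : Set X, IsOpen U ∧ IsOpen V ∧ x ∈ U ∧ x' ∈ V ∧ Disjoint U V)
    (hsurj : Function.Surjective f) (F : CohTop.Ab S) :
    ∃ (E : CohomologicalSpectralSequence AddCommGrpCat.{u} 1)
      (a : SpSeq.Abutment E (fun n : ℤ =>
        if 0 ≤ n then AddCommGrpCat.of (CohTop.H F n.toNat) else AddCommGrpCat.of PUnit.{u + 1})),
      (∀ n, a.IsFinite n) ∧ SpSeq.IsBounded E ∧
      ∀ p q : ℤ, Nonempty ((E.page 1 le_rfl).X (p, q) ≅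
        (if 0 ≤ p ∧ 0 ≤ q then
          AddCommGrpCat.of (CohTop.H ((CohTop.pull
            (WidePullback.base (fun _ : Fin (p.toNat + 1) => f) :
              widePullback S (fun _ : Fin (p.toNat + 1) => X) (fun _ => f) ⟶ S)).obj F) q.toNat)
         else AddCommGrpCat.of PUnit.{u + 1})) := by
  refine Groth.Agent.H15Site.DescSimp.exists_descentSS (FibDesc.cechAug f)
    (Groth.Agent.H15Site.DescSimp.Proper.isCohDescentMap f hf hs hsurj) F
    (fun p q : ℤ => if 0 ≤ p ∧ 0 ≤ q then
      AddCommGrpCat.of (CohTop.H ((CohTop.pull
        (WidePullback.base (fun _ : Fin (p.toNat + 1) => f) :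
          widePullback S (fun _ : Fin (p.toNat + 1) => X) (fun _ => f) ⟶ S)).obj F) q.toNat)
      else AddCommGrpCat.of PUnit.{u + 1})
    (fun n : ℤ =>
      if 0 ≤ n then AddCommGrpCat.of (CohTop.H F n.toNat) else AddCommGrpCat.of PUnit.{u + 1}) ?_ ?_ ?_ ?_
  · intro n q
    refine ⟨eqToIso ?_⟩
    rw [if_pos ⟨Int.natCast_nonneg n, Int.natCast_nonneg q⟩]
    exact congrArg (fun g => AddCommGrpCat.of (CohTop.H ((CohTop.pull g).obj F) q))
      (Groth.Agent.H15Site.DescSimp.Proper.tB_lv f n)
  · intro p q h
    rw [if_neg h]
    exact AddCommGrpCat.isZero_of_subsingleton _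
  · intro q
    exact ⟨eqToIso (if_pos (Int.natCast_nonneg q)).symm⟩
  · intro n hn
    rw [if_neg (not_le.2 hn)]
    exact AddCommGrpCat.isZero_of_subsingleton _

end Groth.Agent.S8571
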