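import Groth.Statements.S8574
import Groth.Agent.H15Site.FppfEt.DescSS

set_option autoImplicit false
set_option linter.style.haveILetI false
set_option backward.isDefEq.respectTransparency false
open CategoryTheory CategoryTheory.Limits AlgebraicGeometry
universe u
open EtDesc

namespace Groth.Agent.S8574

/-- Let f : X → Y be a surjective morphism of schemes which is flat and locally of finite presentation,
and F any abelian sheaf on the small etale site of Y (sheaves of Z/n-modules for every n ≥ 0 are
allowed, n = 0 giving all abelian sheaves). Then f is of cohomological descent for F, and the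
descent spectral sequence reads, in existence form: there is a bounded spectral sequence of abelian
groups starting at page one with E_1^{p,q} isomorphic, for p, q ≥ 0, to the etale cohomology group
H^q(X_p, F|X_p), where X_p is the (p+1)-fold fibre product of X over Y and F|X_p the inverse image
of F along its projection to Y, and zero otherwise, together with abutment data whose filtrations
are finite on H^n(Y_et, F) for n ≥ 0 (zero for n < 0). (The E_1 identifications and the abutment
isomorphisms are asserted to exist only; the differentials are not part of this statement.) -/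
theorem result {X Y : Scheme.{u}} (f : X ⟶ Y)
    [Flat f] [LocallyOfFinitePresentation f] [Surjective f] (F : EtCoh.Ab Y) :
    ∃ (E : CohomologicalSpectralSequence AddCommGrpCat.{u + 1} 1)
      (a : SpSeq.Abutment E (fun n : ℤ =>
        if 0 ≤ n then AddCommGrpCat.of (EtCoh.H Y F n.toNat) else AddCommGrpCat.of PUnit.{u + 2})),
      (∀ n, a.IsFinite n) ∧ SpSeq.IsBounded E ∧
      ∀ p q : ℤ, Nonempty ((E.page 1 le_rfl).X (p, q) ≅
        (if 0 ≤ p ∧ 0 ≤ q then
          AddCommGrpCat.of (EtCoh.H (widePullback Y (fun _ : Fin (p.toNat + 1) => X) (fun _ => f))
            ((EtCoh.pull (WidePullback.base (fun _ : Fin (p.toNat + 1) => f) :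
              widePullback Y (fun _ : Fin (p.toNat + 1) => X) (fun _ => f) ⟶ Y)).obj F) q.toNat)
         else AddCommGrpCat.of PUnit.{u + 2})) := by
  classical
  refine H15Site.FppfEt.descent_spectralSequence f F _ _ (fun p q => ?_) (fun p q hpq => ?_) (fun n => ?_)
    (fun n hn => ?_)
  · rw [if_pos ⟨Int.natCast_nonneg p, Int.natCast_nonneg q⟩]
    exact ⟨Iso.refl _⟩
  · rw [if_neg hpq]; exact AddCommGrpCat.isZero_of_subsingleton _
  · simp only [if_pos (Int.natCast_nonneg n)]
    exact ⟨Iso.refl _⟩
  · simp only [if_neg (not_le.2 hn)]; exact AddCommGrpCat.isZero_of_subsingleton _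

end Groth.Agent.S8574
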