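import Groth.Statements.S8575
import Groth.Agent.H15Site.IntDesc.Cech
import Groth.Agent.H15Site.IntDesc.ResSS
import Groth.Agent.H15Site.IntDesc.PushH

set_option autoImplicit false
set_option linter.style.haveILetI false
set_option backward.isDefEq.respectTransparency false
open CategoryTheory CategoryTheory.Limits AlgebraicGeometry
universe u
open EtDesc

namespace Groth.Agent.S8575.Aux

open Opposite Simplicial Groth.Agent.H15Site.IntDesc

variable {S : Scheme.{u}} (F : EtCoh.Ab S)

/-- Cohomology of the direct image of `π⁻¹F` along an integral scheme over the base. -/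
theorem nonempty_H_C {P : Scheme.{u}} (a : P ⟶ S) [IsIntegralHom a] (q : ℕ) :
    Nonempty (AddCommGrpCat.of (EtCoh.H S (C F (Over.mk a)) q) ≅
      AddCommGrpCat.of (EtCoh.H P ((EtCoh.pull a).obj F) q)) :=
  ⟨(nonempty_H_push a (G F (Over.mk a)) q).some ≪≫
    (EtCoh.HF P q).mapIso (Groth.Agent.H13Desc.BigRes.resPiIso a F)⟩

/-- At the base. -/
theorem nonempty_H_C_id (q : ℕ) :
    Nonempty (AddCommGrpCat.of (EtCoh.H S (C F (Over.mk (𝟙 S))) q) ≅
      AddCommGrpCat.of (EtCoh.H S F q)) :=
  ⟨(nonempty_H_C F (𝟙 S) q).some ≪≫ (EtCoh.HF S q).mapIso ((pullIdIso S).app F)⟩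

theorem isZero_punit : IsZero (AddCommGrpCat.of PUnit.{u + 2}) :=
  AddCommGrpCat.isZero_of_subsingleton _

end Groth.Agent.S8575.Aux

namespace Groth.Agent.S8575

/-- Let f : X → Y be an integral surjective morphism of schemes and F any abelian sheaf on the small
etale site of Y. Then f is of cohomological descent for F, and the descent spectral sequence reads,
in existence form: there is a bounded spectral sequence of abelian groups starting at page one with
E_1^{p,q} isomorphic, for p, q ≥ 0, to the etale cohomology group H^q(X_p, F|X_p), where X_p is the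
(p+1)-fold fibre product of X over Y and F|X_p the inverse image of F along its projection to Y, and
zero otherwise, together with abutment data whose filtrations are finite on H^n(Y_et, F) for n ≥ 0
(zero for n < 0). (The E_1 identifications and the abutment isomorphisms are asserted to exist only;
the differentials are not part of this statement.) -/
theorem result {X Y : Scheme.{u}} (f : X ⟶ Y)
    [IsIntegralHom f] [Surjective f] (F : EtCoh.Ab Y) :
    ∃ (E : CohomologicalSpectralSequence AddCommGrpCat.{u + 1} 1)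
      (a : SpSeq.Abutment E (fun n : ℤ =>
        if 0 ≤ n then AddCommGrpCat.of (EtCoh.H Y F n.toNat) else AddCommGrpCat.of PUnit.{u + 2})),
      (∀ n, a.IsFinite n) ∧ SpSeq.IsBounded E ∧
      ∀ p q : ℤ, Nonempty ((E.page 1 le_rfl).X (p, q) ≅
        (if 0 ≤ p ∧ 0 ≤ q then
          AddCommGrpCat.of (EtCoh.H (widePullback Y (fun _ : Fin (p.toNat + 1) => X) (fun _ => f))
            ((EtCoh.pull (WidePullback.base (fun _ : Fin (p.toNat + 1) => f) :
              widePullback Y (fun _ : Fin (p.toNat + 1) => X) (fun _ => f) ⟶ Y)).obj F) q.toNat)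
         else AddCommGrpCat.of PUnit.{u + 2})) := by
  classical
  have hC := H15Site.IntDesc.acyclic_cech f F
  refine H15Site.IntDesc.ResSS.resolution_spectralSequence (Z := H15Site.IntDesc.ZE Y)
    (C := H15Site.IntDesc.descCx F (H15Site.IntDesc.cech f)) hC (fun p hp => ?_) _ _
    (fun p q hp hq => ?_) (fun p q hpq => ?_) (fun n hn => ?_) (fun n hn => ?_)
  · exact (H15Site.IntDesc.augCx F (H15Site.IntDesc.cech f)).isZero_extend_X
      (ComplexShape.embeddingUpIntGE (-1)) p fun i (hi : -1 + (i : ℤ) = p) => by omega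
  · rw [if_pos ⟨hp, hq⟩]
    obtain ⟨n, rfl⟩ := Int.eq_ofNat_of_zero_le hp
    haveI := H15Site.IntDesc.isIntegralHom_powBase f n
    let i := (H15Site.IntDesc.augCx F (H15Site.IntDesc.cech f)).extendXIso
      (ComplexShape.embeddingUpIntGE (-1)) (i := n + 1) (i' := (n : ℤ))
      (show -1 + ((n + 1 : ℕ) : ℤ) = (n : ℤ) by omega)
    exact ⟨(EtCoh.HF Y q.toNat).mapIso i ≪≫
      (Aux.nonempty_H_C F (H15Site.IntDesc.powBase f (n + 1)) q.toNat).some⟩
  · rw [if_neg hpq]; exact Aux.isZero_punit
  · simp only [if_pos hn]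
    let i := (H15Site.IntDesc.augCx F (H15Site.IntDesc.cech f)).extendXIso
      (ComplexShape.embeddingUpIntGE (-1)) (i := 0) (i' := (-1 : ℤ)) (show (-1 : ℤ) + ((0:ℕ):ℤ) = -1 by omega)
    exact ⟨(EtCoh.HF Y n.toNat).mapIso i ≪≫ (Aux.nonempty_H_C_id F n.toNat).some⟩
  · simp only [if_neg (not_le.2 hn)]; exact Aux.isZero_punit

end Groth.Agent.S8575
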