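import Groth.Statements.S8576
import Groth.Agent.H15Site.FppfEt.RelSS
import Groth.Agent.H15Site.UnivOpen.Scheme

set_option autoImplicit false
set_option linter.style.haveILetI false
set_option backward.isDefEq.respectTransparency false
open CategoryTheory CategoryTheory.Limits AlgebraicGeometry
universe u
open EtDesc

namespace Groth.Agent.S8576

/-- Let Y be a locally Noetherian scheme, f : X → Y a surjective morphism which is universally open and
locally of finite presentation, and F any abelian sheaf on the small etale site of Y. Then f is of
cohomological descent for F, and the descent spectral sequence reads, in existence form: there is a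
bounded spectral sequence of abelian groups starting at page one with E_1^{p,q} isomorphic, for p, q
≥ 0, to the etale cohomology group H^q(X_p, F|X_p), where X_p is the (p+1)-fold fibre product of X
over Y and F|X_p the inverse image of F along its projection to Y, and zero otherwise, together with
abutment data whose filtrations are finite on H^n(Y_et, F) for n ≥ 0 (zero for n < 0). (The E_1
identifications and the abutment isomorphisms are asserted to exist only; the differentials are not
part of this statement.) -/
theorem result {X Y : Scheme.{u}} [IsLocallyNoetherian Y] (f : X ⟶ Y)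
    [UniversallyOpen f] [LocallyOfFinitePresentation f] [Surjective f] (F : EtCoh.Ab Y) :
    ∃ (E : CohomologicalSpectralSequence AddCommGrpCat.{u + 1} 1)
      (a : SpSeq.Abutment E (fun n : ℤ =>
        if 0 ≤ n then AddCommGrpCat.of (EtCoh.H Y F n.toNat) else AddCommGrpCat.of PUnit.{u + 2})),
      (∀ n, a.IsFinite n) ∧ SpSeq.IsBounded E ∧
      ∀ p q : ℤ, Nonempty ((E.page 1 le_rfl).X (p, q) ≅
        (if 0 ≤ p ∧ 0 ≤ q then
          AddCommGrpCat.of (EtCoh.H (widePullback Y (fun _ : Fin (p.toNat + 1) => X) (fun _ => f))
            ((EtCoh.pull (WidePullback.base (fun _ : Fin (p.toNat + 1) => f) :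
              widePullback Y (fun _ : Fin (p.toNat + 1) => X) (fun _ => f) ⟶ Y)).obj F) q.toNat)
         else AddCommGrpCat.of PUnit.{u + 2})) := by
  classical
  have hqs : H15Site.FppfEt.Rel.HasQuasiSections f := fun y => by
    obtain ⟨V, T, e, π, h, h1, h2, h3, h4, h5⟩ := H15Site.UnivOpen.exists_quasiSection f y
    exact ⟨V, T, e, π, h, h1, h2, inferInstance, h4, h5⟩
  refine H15Site.FppfEt.Rel.descent_spectralSequence f F
    (H15Site.FppfEt.Rel.ex_descent f F hqs _) _ _ (fun p q => ?_) (fun p q hpq => ?_) (fun n => ?_)
    (fun n hn => ?_)
  · rw [if_pos ⟨Int.natCast_nonneg p, Int.natCast_nonneg q⟩]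
    exact ⟨Iso.refl _⟩
  · rw [if_neg hpq]; exact AddCommGrpCat.isZero_of_subsingleton _
  · simp only [if_pos (Int.natCast_nonneg n)]
    exact ⟨Iso.refl _⟩
  · simp only [if_neg (not_le.2 hn)]; exact AddCommGrpCat.isZero_of_subsingleton _

end Groth.Agent.S8576
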