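import Groth.Statements.S8577
import Groth.Agent.H15Site.DescHyper.ProperHyper
import Groth.Agent.H15Site.DescSimp.DescSS

set_option autoImplicit false
open CategoryTheory CategoryTheory.Limits TopologicalSpace Opposite
universe u
open CohTop

set_option backward.isDefEq.respectTransparency false
set_option backward.isDefEq.respectTransparency.types false


namespace Groth.Agent.S8577

/-- In the setting of topological spaces and proper surjective maps, let S be a topological space and K
a simplicial object of spaces over S which is a proper hypercovering: the structure map K_0 → S and,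
for every n, the canonical map K_{n+1} → (cosk_n K)_{n+1} (n-coskeleton computed in spaces over S,
assumed to exist as a right Kan extension) are proper and surjective, proper meaning universally
closed with any two distinct points of a fibre separated by disjoint open subsets. Then K is of
cohomological descent over S, and the descent spectral sequence reads, in existence form: for every
abelian sheaf F on S there is a bounded spectral sequence of abelian groups starting at page one
with E_1^{p,q} isomorphic, for p, q ≥ 0, to H^q(K_p, F|K_p) (inverse image of F along K_p → S) and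
zero otherwise, together with abutment data whose filtrations are finite on H^n(S, F) for n ≥ 0
(zero for n < 0). (The E_1 identifications and the abutment isomorphisms are asserted to exist only;
the differentials are not part of this statement.) -/
theorem result {S : TopCat.{u}}
    [∀ (n : ℕ) (G : (SimplexCategory.Truncated n)ᵒᵖ ⥤ Over S),
      (SimplexCategory.Truncated.inclusion n).op.HasRightKanExtension G]
    (K : SimplicialObject (Over S))
    (h0c : IsProperMap (K.obj (op (SimplexCategory.mk 0))).hom)
    (h0s : ∀ x x' : (K.obj (op (SimplexCategory.mk 0))).left, (K.obj (op (SimplexCategory.mk 0))).hom x =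
      (K.obj (op (SimplexCategory.mk 0))).hom x' → x ≠ x' →
      ∃ U V : Set (K.obj (op (SimplexCategory.mk 0))).left, IsOpen U ∧ IsOpen V ∧ x ∈ U ∧ x' ∈ V ∧ Disjoint U V)
    (h0j : Function.Surjective (K.obj (op (SimplexCategory.mk 0))).hom)
    (hc : ∀ n : ℕ, IsProperMap (((SimplicialObject.coskAdj n).unit.app K).app (op (SimplexCategory.mk (n + 1)))).left)
    (hs : ∀ (n : ℕ) (x x' : (K.obj (op (SimplexCategory.mk (n + 1)))).left),
      (((SimplicialObject.coskAdj n).unit.app K).app (op (SimplexCategory.mk (n + 1)))).left x =
        (((SimplicialObject.coskAdj n).unit.app K).app (op (SimplexCategory.mk (n + 1)))).left x' → x ≠ x' →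
      ∃ U V : Set (K.obj (op (SimplexCategory.mk (n + 1)))).left, IsOpen U ∧ IsOpen V ∧ x ∈ U ∧ x' ∈ V ∧ Disjoint U V)
    (hj : ∀ n : ℕ, Function.Surjective (((SimplicialObject.coskAdj n).unit.app K).app (op (SimplexCategory.mk (n + 1)))).left)
    (F : CohTop.Ab S) :
    ∃ (E : CohomologicalSpectralSequence AddCommGrpCat.{u} 1)
      (a : SpSeq.Abutment E (fun n : ℤ =>
        if 0 ≤ n then AddCommGrpCat.of (CohTop.H F n.toNat) else AddCommGrpCat.of PUnit.{u + 1})),
      (∀ n, a.IsFinite n) ∧ SpSeq.IsBounded E ∧
      ∀ p q : ℤ, Nonempty ((E.page 1 le_rfl).X (p, q) ≅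
        (if 0 ≤ p ∧ 0 ≤ q then
          AddCommGrpCat.of (CohTop.H ((CohTop.pull (K.obj (op (SimplexCategory.mk p.toNat))).hom).obj F) q.toNat)
         else AddCommGrpCat.of PUnit.{u + 1})) := by
  refine Groth.Agent.H15Site.DescSimp.exists_descentSS (Groth.Agent.H15Site.DescHyper.augSpace K)
    (Groth.Agent.H15Site.DescHyper.isCohDescentTop_augSpace K
      (Groth.Agent.H15Site.DescHyper.isUnivCohDescentMap_of_proper _ h0c h0s h0j)
      (fun n => Groth.Agent.H15Site.DescHyper.isUnivCohDescentMap_of_proper _ (hc n) (hs n) (hj n))) F
    (fun p q : ℤ => if 0 ≤ p ∧ 0 ≤ q then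
      AddCommGrpCat.of (CohTop.H ((CohTop.pull (K.obj (op (SimplexCategory.mk p.toNat))).hom).obj F) q.toNat)
      else AddCommGrpCat.of PUnit.{u + 1})
    (fun n : ℤ =>
      if 0 ≤ n then AddCommGrpCat.of (CohTop.H F n.toNat) else AddCommGrpCat.of PUnit.{u + 1}) ?_ ?_ ?_ ?_
  · intro n q
    refine ⟨eqToIso ?_⟩
    rw [if_pos ⟨Int.natCast_nonneg n, Int.natCast_nonneg q⟩]
    exact congrArg (fun g => AddCommGrpCat.of (CohTop.H ((CohTop.pull g).obj F) q))
      (Groth.Agent.H15Site.DescHyper.tB_augSpace K (SimplexCategory.mk n))
  · intro p q h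
    rw [if_neg h]
    exact AddCommGrpCat.isZero_of_subsingleton _
  · intro q
    exact ⟨eqToIso (if_pos (Int.natCast_nonneg q)).symm⟩
  · intro n hn
    rw [if_neg (not_le.2 hn)]
    exact AddCommGrpCat.isZero_of_subsingleton _

end Groth.Agent.S8577
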