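import Groth.Statements.S8580
import Groth.Agent.H15Site.Etale.BigFun
import Groth.Agent.H15Site.ColumnSS
import Mathlib.AlgebraicTopology.ExtraDegeneracy
import Mathlib.Algebra.Homology.Embedding.ExtendHomology

set_option autoImplicit false
open CategoryTheory CategoryTheory.Limits AlgebraicGeometry
universe u
open EtDesc

open CategoryTheory CategoryTheory.Limits Opposite Simplicial AlgebraicTopology

set_option linter.style.haveILetI false
set_option backward.isDefEq.respectTransparency false

namespace Groth.Agent.S8580.Aux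

open Groth.Agent.H15Site

variable {X S : Scheme.{u}} (f : X ⟶ S)

/-- The augmented Čech nerve over the base. -/
noncomputable def cech : SimplicialObject.Augmented (Over S) where
  left :=
    { obj := fun n => Over.mk (WidePullback.base (fun _ : Fin (n.unop.len + 1) => f))
      map := fun g => Over.homMk ((Arrow.mk f).cechNerve.map g) (WidePullback.lift_base _ _ _ _)
      map_id := fun n => Over.OverMorphism.ext ((Arrow.mk f).cechNerve.map_id n)
      map_comp := fun g h => Over.OverMorphism.ext ((Arrow.mk f).cechNerve.map_comp g h) }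
  right := Over.mk (𝟙 S)
  hom :=
    { app := fun n => Over.homMk (WidePullback.base (fun _ : Fin (n.unop.len + 1) => f))
        (Category.comp_id _)
      naturality := fun _ _ g => Over.OverMorphism.ext
        ((Arrow.mk f).augmentedCechNerve.hom.naturality g) }

/-- A section gives an extra degeneracy. -/
noncomputable def ed (s : S ⟶ X) (hs : s ≫ f = 𝟙 S) :
    SimplicialObject.Augmented.ExtraDegeneracy (cech f) :=
  let e := Arrow.AugmentedCechNerve.extraDegeneracy (Arrow.mk f) ⟨s, hs⟩
  { s' := Over.homMk e.s' (e.s'_comp_ε)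
    s := fun n => Over.homMk (e.s n)
      (Arrow.AugmentedCechNerve.ExtraDegeneracy.s_comp_base (Arrow.mk f) ⟨s, hs⟩ n)
    s'_comp_ε := Over.OverMorphism.ext e.s'_comp_ε
    s₀_comp_δ₁ := Over.OverMorphism.ext e.s₀_comp_δ₁
    s_comp_δ₀ := fun n => Over.OverMorphism.ext (e.s_comp_δ₀ n)
    s_comp_δ := fun n i => Over.OverMorphism.ext (e.s_comp_δ n i)
    s_comp_σ := fun n i => Over.OverMorphism.ext (e.s_comp_σ n i) }

variable (F : EtCoh.Ab S)

/-- The augmented simplicial group. -/
noncomputable def aug (q : ℕ) : SimplicialObject.Augmented (AddCommGrpCat.{u + 1}ᵒᵖ) :=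
  ((SimplicialObject.Augmented.whiskering _ _).obj (Etale.BigFun.A F q).rightOp).obj (cech f)

/-- Row `q`. -/
noncomputable def rowNat (q : ℕ) : CochainComplex AddCommGrpCat.{u + 1} ℕ :=
  (AlternatingFaceMapComplex.obj (SimplicialObject.Augmented.drop.obj (aug f F q))).unop

/-- Row `q` indexed by integers. -/
noncomputable def row (q : ℤ) : CochainComplex AddCommGrpCat.{u + 1} ℤ :=
  if 0 ≤ q then (rowNat f F q.toNat).extend ComplexShape.embeddingUpNat else
    (HomologicalComplex.single AddCommGrpCat.{u + 1} (ComplexShape.up ℤ) 0).obj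
      (AddCommGrpCat.of PUnit.{u + 2})

/-- The value at the base is the cohomology of `F`. -/
theorem nonempty_iso_base (q : ℕ) :
    Nonempty ((Etale.BigFun.A F q).obj (op (Over.mk (𝟙 S))) ≅ AddCommGrpCat.of (EtCoh.H S F q)) :=
  Etale.BigFun.nonempty_A_iso_base F q

/-- The homotopy equivalence. -/
noncomputable def hEquiv (s : S ⟶ X) (hs : s ≫ f = 𝟙 S) (q : ℕ) :=
  ((ed f s hs).map (Etale.BigFun.A F q).rightOp).homotopyEquiv

theorem isZero_punit : IsZero (AddCommGrpCat.of PUnit.{u + 2}) :=
  AddCommGrpCat.isZero_of_subsingleton _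

theorem homology_rowNat (s : S ⟶ X) (hs : s ≫ f = 𝟙 S) (q : ℕ) :
    Nonempty ((rowNat f F q).homology 0 ≅ AddCommGrpCat.of (EtCoh.H S F q)) ∧
      ∀ i, i ≠ 0 → IsZero ((rowNat f F q).homology i) := by
  let K := AlternatingFaceMapComplex.obj (SimplicialObject.Augmented.drop.obj (aug f F q))
  let h := fun i => (hEquiv f F s hs q).toHomologyIso i
  obtain ⟨e⟩ := nonempty_iso_base F q
  refine ⟨⟨HomologicalComplex.homologyUnop K 0 ≪≫ (h 0).symm.unop ≪≫
    (HomologicalComplex.singleObjHomologySelfIso (ComplexShape.down ℕ) 0 _).symm.unop ≪≫ e⟩,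
    fun i hi => ?_⟩
  refine IsZero.of_iso ?_ (HomologicalComplex.homologyUnop K i ≪≫ (h i).symm.unop)
  exact (HomologicalComplex.isZero_single_obj_homology (ComplexShape.down ℕ) 0 _ i hi).unop

theorem rowNat_X (q p : ℕ) :
    (rowNat f F q).X p =
      (Etale.BigFun.A F q).obj (op (Over.mk (WidePullback.base (fun _ : Fin (p + 1) => f)))) := rfl

end Groth.Agent.S8580.Aux

namespace Groth.Agent.S8580

/-- In the setting of schemes and abelian sheaves on their small etale sites (where every morphism is
flat for the inverse image of sheaves), let f : X → Y be a morphism of schemes with a section s, s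
followed by f being the identity, and F any abelian sheaf on the small etale site of Y. Then f is of
universal cohomological descent, and the descent spectral sequence reads, in existence form: there
is a bounded spectral sequence of abelian groups starting at page one with E_1^{p,q} isomorphic, for
p, q ≥ 0, to the etale cohomology group H^q(X_p, F|X_p), where X_p is the (p+1)-fold fibre product
of X over Y and F|X_p the inverse image of F along its projection to Y, and zero otherwise, together
with abutment data whose filtrations are finite on H^n(Y_et, F) for n ≥ 0 (zero for n < 0). (The E_1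
identifications and the abutment isomorphisms are asserted to exist only; the differentials are not
part of this statement.) -/
theorem result {X Y : Scheme.{u}} (f : X ⟶ Y) (s : Y ⟶ X)
    (hs : s ≫ f = 𝟙 Y) (F : EtCoh.Ab Y) :
    ∃ (E : CohomologicalSpectralSequence AddCommGrpCat.{u + 1} 1)
      (a : SpSeq.Abutment E (fun n : ℤ =>
        if 0 ≤ n then AddCommGrpCat.of (EtCoh.H Y F n.toNat) else AddCommGrpCat.of PUnit.{u + 2})),
      (∀ n, a.IsFinite n) ∧ SpSeq.IsBounded E ∧
      ∀ p q : ℤ, Nonempty ((E.page 1 le_rfl).X (p, q) ≅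
        (if 0 ≤ p ∧ 0 ≤ q then
          AddCommGrpCat.of (EtCoh.H (widePullback Y (fun _ : Fin (p.toNat + 1) => X) (fun _ => f))
            ((EtCoh.pull (WidePullback.base (fun _ : Fin (p.toNat + 1) => f) :
              widePullback Y (fun _ : Fin (p.toNat + 1) => X) (fun _ => f) ⟶ Y)).obj F) q.toNat)
         else AddCommGrpCat.of PUnit.{u + 2})) := by
  classical
  refine Groth.Agent.H15Site.ColumnSS.exists_spectralSequence _ _ (Aux.row f F) (fun p q => ?_)
    (fun p q hpq => ?_) (fun q => ?_) (fun q p hp => ?_)
  · by_cases hq : 0 ≤ q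
    · rw [Aux.row, if_pos hq]
      by_cases hp : 0 ≤ p
      · rw [if_pos ⟨hp, hq⟩]
        obtain ⟨n, rfl⟩ := Int.eq_ofNat_of_zero_le hp
        obtain ⟨e⟩ := Groth.Agent.H15Site.Etale.BigFun.nonempty_A_iso F q.toNat
          (Over.mk (WidePullback.base (fun _ : Fin (n + 1) => f)))
        exact ⟨(Aux.rowNat f F q.toNat).extendXIso ComplexShape.embeddingUpNat (i := n) rfl ≪≫
          eqToIso (Aux.rowNat_X f F q.toNat n) ≪≫ e⟩
      · rw [if_neg (fun h => hp h.1)]
        refine ⟨IsZero.iso (HomologicalComplex.isZero_extend_X _ _ _ fun i hi => hp ?_) Aux.isZero_punit⟩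
        rw [← hi]
        exact Int.natCast_nonneg i
    · rw [Aux.row, if_neg hq, if_neg (fun h => hq h.2)]
      refine ⟨IsZero.iso ?_ Aux.isZero_punit⟩
      by_cases hp : p = 0
      · subst hp
        exact Aux.isZero_punit.of_iso (HomologicalComplex.singleObjXSelf _ _ _)
      · exact HomologicalComplex.isZero_single_obj_X _ _ _ _ hp
  · rw [if_neg hpq]
    exact Aux.isZero_punit
  · try dsimp only
    by_cases hq : 0 ≤ q
    · obtain ⟨e⟩ := (Aux.homology_rowNat f F s hs q.toNat).1
      rw [Aux.row, if_pos hq, if_pos hq]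
      exact ⟨(Aux.rowNat f F q.toNat).extendHomologyIso ComplexShape.embeddingUpNat (j := 0) rfl ≪≫ e⟩
    · rw [Aux.row, if_neg hq, if_neg hq]
      exact ⟨HomologicalComplex.singleObjHomologySelfIso _ _ _⟩
  · by_cases hq : 0 ≤ q
    · rw [Aux.row, if_pos hq]
      by_cases hp' : 0 ≤ p
      · obtain ⟨n, rfl⟩ := Int.eq_ofNat_of_zero_le hp'
        refine IsZero.of_iso ((Aux.homology_rowNat f F s hs q.toNat).2 n fun h => hp (by simp [h])) ?_
        exact (Aux.rowNat f F q.toNat).extendHomologyIso ComplexShape.embeddingUpNat (j := n) rfl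
      · rw [← HomologicalComplex.exactAt_iff_isZero_homology]
        refine ShortComplex.exact_of_isZero_X₂ _
          (HomologicalComplex.isZero_extend_X _ _ _ fun i hi => hp' ?_)
        rw [← hi]
        exact Int.natCast_nonneg i
    · rw [Aux.row, if_neg hq]
      exact HomologicalComplex.isZero_single_obj_homology _ _ _ _ hp

end Groth.Agent.S8580
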