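import Groth.Statements.S8586
import Mathlib.RingTheory.Ideal.KrullsHeightTheorem
import Mathlib.Logic.Relation

set_option autoImplicit false
universe u
open CAlg

namespace Groth.Agent.S8586

open IsLocalRing

section

variable {A : Type u} [CommRing A] [IsNoetherianRing A] [IsLocalRing A] {d : ℕ}

def Good (u : Fin d → A) : Prop :=
  (∀ i, u i ∈ maximalIdeal A) ∧ maximalIdeal A ≤ (Ideal.span (Set.range u)).radical

def Step (u v : Fin d → A) : Prop := Good v ∧ ∃ i : Fin d, ∀ i', i' ≠ i → u i' = v i'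

theorem span_range_eq (u : Fin d → A) (k : Fin d) :
    Ideal.span (Set.range u) = Ideal.span (u '' {i | i ≠ k}) ⊔ Ideal.span {u k} := by
  rw [← Ideal.span_union]
  congr 1
  ext z
  constructor
  · rintro ⟨i, rfl⟩
    by_cases h : i = k
    · exact Or.inr (h ▸ rfl)
    · exact Or.inl ⟨i, h, rfl⟩
  · rintro (⟨i, -, rfl⟩ | rfl) <;> exact ⟨_, rfl⟩

/-- The bad primes for replacing the `k`-th element. -/
theorem good_update (hd : ringKrullDim A = d) (u : Fin d → A) (hu : Good u) (k : Fin d) (w : A) (hw : w ∈ maximalIdeal A)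
    (hav : ∀ P ∈ (Ideal.span (u '' {i | i ≠ k})).minimalPrimes, w ∉ P) : Good (Function.update u k w) := by
  classical
  refine ⟨fun i => ?_, ?_⟩
  · by_cases h : i = k
    · subst h; rwa [Function.update_self]
    · rw [Function.update_of_ne h]; exact hu.1 i
  set I := Ideal.span (u '' {i | i ≠ k})
  have himg : Function.update u k w '' {i | i ≠ k} = u '' {i | i ≠ k} := Set.image_congr fun i hi => Function.update_of_ne hi _ _
  rw [span_range_eq _ k, himg, Function.update_self]
  rw [Ideal.radical_eq_sInf]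
  refine le_sInf fun Q ⟨hQle, hQ⟩ => ?_
  haveI := hQ
  by_contra hne
  obtain ⟨P, hP, hPQ⟩ := Ideal.exists_minimalPrimes_le (le_sup_left.trans hQle)
  haveI := hP.1.1
  have hwQ : w ∈ Q := hQle (Ideal.mem_sup_right (Ideal.mem_span_singleton_self w))
  have hPQ' : P < Q := lt_of_le_of_ne hPQ fun e => hav P hP (e ▸ hwQ)
  have hQm : Q < maximalIdeal A := lt_of_le_of_ne (le_maximalIdeal hQ.ne_top) fun e => hne e.ge
  have hIm : I ≤ maximalIdeal A := Ideal.span_le.mpr (by rintro _ ⟨i, -, rfl⟩; exact hu.1 i)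
  have hmin : maximalIdeal A ∈ (I ⊔ Ideal.span {u k}).minimalPrimes := by
    refine ⟨⟨inferInstance, sup_le hIm ((Ideal.span_singleton_le_iff_mem _).mpr (hu.1 k))⟩, fun R hR _ => ?_⟩
    exact hu.2.trans ((span_range_eq u k).symm ▸ hR.1.radical_le_iff.mpr hR.2)
  have h1 := Ideal.map_height_le_one_of_mem_minimalPrimes hmin
  have hIP : I ≤ P := hP.1.2
  have hs : Function.Surjective (Ideal.Quotient.mk I) := Ideal.Quotient.mk_surjective
  haveI hP' : (P.map (Ideal.Quotient.mk I)).IsPrime := Ideal.map_isPrime_of_surjective hs (by rwa [Ideal.mk_ker])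
  haveI hQ' : (Q.map (Ideal.Quotient.mk I)).IsPrime := Ideal.map_isPrime_of_surjective hs (by rw [Ideal.mk_ker]; exact hIP.trans hPQ)
  haveI hm' : ((maximalIdeal A).map (Ideal.Quotient.mk I)).IsPrime := Ideal.map_isPrime_of_surjective hs (by rw [Ideal.mk_ker]; exact hIm)
  have hlt : ∀ {J K : Ideal A}, I ≤ J → J < K → J.map (Ideal.Quotient.mk I) < K.map (Ideal.Quotient.mk I) := by
    intro J K hIJ hJK
    refine lt_of_le_of_ne (Ideal.map_mono hJK.le) fun e => hJK.ne ?_
    have := congrArg (Ideal.comap (Ideal.Quotient.mk I)) e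
    rwa [Ideal.comap_map_of_surjective' _ hs, Ideal.comap_map_of_surjective' _ hs, Ideal.mk_ker, sup_eq_left.mpr hIJ,
      sup_eq_left.mpr (hIJ.trans hJK.le)] at this
  have h2 := Ideal.height_strict_mono_of_isPrime (hlt hIP hPQ')
  have h3 := Ideal.height_strict_mono_of_isPrime (hlt (hIP.trans hPQ) hQm)
  exact absurd h1 (not_le.mpr (lt_of_le_of_lt (Order.one_le_iff_pos.mpr (lt_of_le_of_lt (zero_le) h2)) h3))

theorem exists_avoid (hd : ringKrullDim A = d) (u v : Fin d → A) (k : Fin d) :
    ∃ w ∈ maximalIdeal A, (∀ P ∈ (Ideal.span (u '' {i | i ≠ k})).minimalPrimes, w ∉ P) ∧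
      (∀ P ∈ (Ideal.span (v '' {i | i ≠ k})).minimalPrimes, w ∉ P) := by
  classical
  set S := (Ideal.span (u '' {i | i ≠ k})).minimalPrimes ∪ (Ideal.span (v '' {i | i ≠ k})).minimalPrimes
  have hfin : S.Finite := (Ideal.finite_minimalPrimes_of_isNoetherianRing A _).union (Ideal.finite_minimalPrimes_of_isNoetherianRing A _)
  have hnle : ∀ P ∈ S, ¬ maximalIdeal A ≤ P := by
    have key : ∀ (x : Fin d → A), ∀ P ∈ (Ideal.span (x '' {i | i ≠ k})).minimalPrimes, ¬ maximalIdeal A ≤ P := by
      intro x P hP hle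
      haveI := hP.1.1
      have hPm : P = maximalIdeal A := (maximalIdeal.isMaximal A).eq_of_le hP.1.1.ne_top hle |>.symm
      have hfs : ((Finset.univ.erase k).image x : Set A) = x '' {i | i ≠ k} := by
        rw [Finset.coe_image, Finset.coe_erase, Finset.coe_univ]
        congr 1
        ext i
        simp
      rw [← hfs] at hP
      have h := Ideal.height_le_card_of_mem_minimalPrimes_span_finset hP
      have hh : P.height = (d : ℕ∞) := WithBot.coe_injective (by
        rw [hPm]; exact (maximalIdeal_height_eq_ringKrullDim).trans hd)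
      rw [hh] at h
      have h' : d ≤ ((Finset.univ.erase k).image x).card := by exact_mod_cast h
      have h'' : ((Finset.univ.erase k).image x).card ≤ d - 1 := Finset.card_image_le.trans (by simp)
      have := k.pos
      omega
    rintro P (hP | hP)
    · exact key u P hP
    · exact key v P hP
  by_contra hne
  push Not at hne
  have hsub : (maximalIdeal A : Set A) ⊆ ⋃ P ∈ S, (P : Set A) := by
    intro w hw
    by_cases h : ∀ P ∈ (Ideal.span (u '' {i | i ≠ k})).minimalPrimes, w ∉ P
    · obtain ⟨P, hP, hwP⟩ := hne w hw h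
      exact Set.mem_biUnion (Or.inr hP) hwP
    · push Not at h
      obtain ⟨P, hP, hwP⟩ := h
      exact Set.mem_biUnion (Or.inl hP) hwP
  obtain ⟨P, hP, hle⟩ := (Ideal.subset_union_prime_finite hfin (f := id) ⊥ ⊥ fun P hP _ _ =>
    hP.elim (fun h => h.1.1) (fun h => h.1.1)).mp hsub
  exact hnle P hP hle

theorem connected (hd : ringKrullDim A = d) : ∀ (n : ℕ), n ≤ d → ∀ u v : Fin d → A, Good u → Good v →
    (∀ i : Fin d, n ≤ i.1 → u i = v i) → Relation.ReflTransGen (Step (A := A)) u v := by
  classical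
  intro n
  induction n with
  | zero =>
    intro _ u v _ _ h
    rw [show u = v from funext fun i => h i (Nat.zero_le _)]
  | succ n ih =>
    intro hn u v hu hv h
    let k : Fin d := ⟨n, hn⟩
    obtain ⟨w, hw, hwu, hwv⟩ := exists_avoid hd u v k
    have hu' := good_update hd u hu k w hw hwu
    have hv' := good_update hd v hv k w hw hwv
    have h1 : Step u (Function.update u k w) := ⟨hu', k, fun i hi => (Function.update_of_ne hi _ _).symm⟩
    have h2 : Step (Function.update v k w) v := ⟨hv, k, fun i hi => Function.update_of_ne hi _ _⟩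
    refine (Relation.ReflTransGen.head h1 (ih (by omega) _ _ hu' hv' fun i hi => ?_)).tail h2
    by_cases he : i = k
    · subst he; rw [Function.update_self, Function.update_self]
    · rw [Function.update_of_ne he, Function.update_of_ne he]
      exact h i (Nat.succ_le_of_lt (lt_of_le_of_ne hi fun e => he (Fin.ext e.symm)))

end

/-- Suppose A is a Cohen–Macaulay local ring whose Krull dimension is d, and consider two systems of
parameters u = (u_1, ..., u_d) and v = (v_1, ..., v_d) of A (that is, d-tuples of elements of the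
maximal ideal m such that the ideal they generate has radical m). Then one can find a finite
sequence w_0 = u, w_1, ..., w_m = v, each term a system of parameters of A, where w_{k+1} arises
from w_k by altering just one coordinate. -/
theorem result (A : Type u) [CommRing A] [LocCoh.IsCohenMacaulayLocalRing A]
    (d : ℕ) (hd : ringKrullDim A = d) (u v : Fin d → A)
    (hu : ∀ i, u i ∈ IsLocalRing.maximalIdeal A) (hu' : IsLocalRing.maximalIdeal A ≤ (Ideal.span (Set.range u)).radical)
    (hv : ∀ i, v i ∈ IsLocalRing.maximalIdeal A) (hv' : IsLocalRing.maximalIdeal A ≤ (Ideal.span (Set.range v)).radical) :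
    ∃ (m : ℕ) (w : Fin (m + 1) → Fin d → A), w 0 = u ∧ w (Fin.last m) = v ∧
      (∀ k : Fin (m + 1), (∀ i, w k i ∈ IsLocalRing.maximalIdeal A) ∧
        IsLocalRing.maximalIdeal A ≤ (Ideal.span (Set.range (w k))).radical) ∧
      (∀ k : Fin m, ∃ i : Fin d, ∀ i' : Fin d, i' ≠ i → w k.castSucc i' = w k.succ i') := by
  have h := connected hd d le_rfl u v ⟨hu, hu'⟩ ⟨hv, hv'⟩ fun i hi => absurd i.2 (not_lt.mpr hi)
  suffices ∃ (m : ℕ) (w : Fin (m + 1) → Fin d → A), w 0 = u ∧ w (Fin.last m) = v ∧
      (∀ k, Good (w k)) ∧ (∀ k : Fin m, ∃ i : Fin d, ∀ i' : Fin d, i' ≠ i → w k.castSucc i' = w k.succ i') from this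
  clear hv hv'
  induction h with
  | refl => exact ⟨0, fun _ => u, rfl, rfl, fun _ => ⟨hu, hu'⟩, fun k => k.elim0⟩
  | @tail b c _ hstep ih =>
    obtain ⟨m, w, h0, hm, hgood, hst⟩ := ih
    refine ⟨m + 1, Fin.snoc w c, by rw [← Fin.castSucc_zero, Fin.snoc_castSucc, h0], Fin.snoc_last _ _, fun k => ?_, fun k => ?_⟩
    · refine Fin.lastCases ?_ (fun j => ?_) k
      · rw [Fin.snoc_last]; exact hstep.1
      · rw [Fin.snoc_castSucc]; exact hgood j
    · refine Fin.lastCases ?_ (fun j => ?_) k
      · obtain ⟨i, hi⟩ := hstep.2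
        exact ⟨i, fun i' hi' => by rw [Fin.snoc_castSucc, hm, Fin.succ_last, Fin.snoc_last]; exact hi i' hi'⟩
      · obtain ⟨i, hi⟩ := hst j
        exact ⟨i, fun i' hi' => by rw [Fin.snoc_castSucc, Fin.succ_castSucc, Fin.snoc_castSucc]; exact hi i' hi'⟩

end Groth.Agent.S8586
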