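import Groth.Statements.S8591
import Mathlib.RingTheory.AdjoinRoot
import Mathlib.LinearAlgebra.Matrix.Polynomial
import Mathlib.LinearAlgebra.Matrix.Charpoly.Basic
import Mathlib.RingTheory.Norm.Basic
import Mathlib.LinearAlgebra.Charpoly.ToMatrix

set_option autoImplicit false
universe u
open CAlg

namespace Groth.Agent.S8591

open Polynomial in
theorem det_aeval_eq_of_charpoly_eq {R : Type u} [CommRing R] {n m : ℕ} (A : Matrix (Fin n) (Fin n) R)
    (B : Matrix (Fin m) (Fin m) R) (h : A.charpoly = B.charpoly) (P : R[X]) :
    (aeval A P).det = (aeval B P).det := by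
  nontriviality R
  obtain rfl : n = m := by
    have := congr_arg natDegree h
    simpa [Matrix.charpoly_natDegree_eq_dim] using this
  -- the monic case over every ring
  have key : ∀ (T : Type u) [CommRing T] (C D : Matrix (Fin n) (Fin n) T),
      C.charpoly = D.charpoly → ∀ Q : T[X], Q.Monic → (aeval C Q).det = (aeval D Q).det := by
    intro T _ C D hCD Q hQ
    rcases subsingleton_or_nontrivial T with hT | hT
    · exact Subsingleton.elim _ _
    obtain ⟨S, _, _, _, _, _, hS⟩ := hQ.exists_splits_map
    haveI := Module.Free.instFaithfulSMulOfNontrivial T S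
    refine FaithfulSMul.algebraMap_injective T S ?_
    change Algebra.ofId T S _ = Algebra.ofId T S _
    rw [AlgHom.map_det (Algebra.ofId T S), AlgHom.map_det (Algebra.ofId T S)]
    have hm : ∀ E : Matrix (Fin n) (Fin n) T, (Algebra.ofId T S).mapMatrix (aeval E Q) =
        aeval (E.map (algebraMap T S)) (Q.map (algebraMap T S)) := by
      intro E
      rw [← Polynomial.aeval_algHom_apply, aeval_map_algebraMap]
      rfl
    rw [hm, hm]
    have hc : (C.map (algebraMap T S)).charpoly = (D.map (algebraMap T S)).charpoly := by
      rw [Matrix.charpoly_map, Matrix.charpoly_map, hCD]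
    obtain ⟨rts, hrts⟩ := Polynomial.splits_iff_exists_multiset.mp hS
    rw [hrts, (hQ.map _).leadingCoeff]
    have hlin : ∀ E : Matrix (Fin n) (Fin n) S, ∀ a : S,
        (aeval E (X - Polynomial.C a)).det = (-1) ^ n * E.charpoly.eval a := by
      intro E a
      rw [Matrix.eval_charpoly, map_sub, aeval_X, aeval_C, ← neg_sub (algebraMap S _ a) E,
        Matrix.det_neg, Fintype.card_fin]
      rfl
    have hprod : ∀ E : Matrix (Fin n) (Fin n) S, ∀ s : Multiset S,
        (aeval E ((Polynomial.C (1 : S)) * (s.map fun a => X - Polynomial.C a).prod)).det =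
          (s.map fun a => (-1) ^ n * E.charpoly.eval a).prod := by
      intro E s
      rw [map_one, one_mul]
      induction s using Multiset.induction with
      | empty => simp
      | cons a s ih => rw [Multiset.map_cons, Multiset.prod_cons, map_mul, Matrix.det_mul, ih, hlin,
          Multiset.map_cons, Multiset.prod_cons]
    rw [hprod, hprod, hc]
  -- deform an arbitrary polynomial to a monic one
  let N := P.natDegree + 1
  let Q : R[X][X] := X ^ N + Polynomial.C (X : R[X]) * P.map C
  have hQ : Q.Monic := by
    refine monic_X_pow_add ?_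
    refine lt_of_le_of_lt degree_le_natDegree (Nat.cast_lt.mpr ?_)
    exact Nat.lt_succ_of_le ((natDegree_C_mul_le _ _).trans natDegree_map_le)
  have hev : ∀ E : Matrix (Fin n) (Fin n) R, aeval (E.map C) Q =
      (X : R[X]) • (aeval E P).map C + (E ^ N).map C := by
    intro E
    have h1 : aeval (E.map (C : R →+* R[X])) (P.map C) = (aeval E P).map C := by
      rw [show P.map C = P.map (algebraMap R R[X]) from rfl, aeval_map_algebraMap]
      exact aeval_algHom_apply ((Algebra.ofId R R[X]).mapMatrix) E P
    rw [map_add, map_mul, map_pow, aeval_X, aeval_C, ← Algebra.smul_def, h1, add_comm, Matrix.map_pow]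
  have hkey := key R[X] (A.map C) (B.map C) (by rw [Matrix.charpoly_map, Matrix.charpoly_map, h]) Q hQ
  rw [hev, hev] at hkey
  have := congr_arg (fun p => coeff p (Fintype.card (Fin n))) hkey
  simpa only [Polynomial.coeff_det_X_add_C_card] using this

/-- Let k be a commutative ring, M a finite free k-module, u an endomorphism of M with characteristic
polynomial χ, and P a polynomial over k. Then the norm, from the k-algebra k[T]/(χ) (free of rank
the rank of M) down to k, of the class of P(T) equals det(P(u)). (The published statement writes the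
quotient by det(u - T), which generates the same ideal as χ(T) = det(T - u).) -/
theorem result (k : Type u) [CommRing k] (M : Type u) [AddCommGroup M] [Module k M]
    [Module.Free k M] [Module.Finite k M] (u : M →ₗ[k] M) (P : Polynomial k) :
    Algebra.norm k (AdjoinRoot.mk u.charpoly P) = LinearMap.det (Polynomial.aeval u P) := by
  nontriviality k
  classical
  set g := u.charpoly with hg
  have hmon : g.Monic := u.charpoly_monic
  let pb := AdjoinRoot.powerBasis' hmon
  let φ := Algebra.leftMulMatrix pb.basis
  let b := Module.finBasis k M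
  have hchar : (φ (AdjoinRoot.root g)).charpoly = (LinearMap.toMatrix b b u).charpoly := by
    rw [LinearMap.charpoly_toMatrix u b, ← hg]
    have hn : (φ (AdjoinRoot.root g)).charpoly.natDegree = g.natDegree := by
      rw [Matrix.charpoly_natDegree_eq_dim]
      simp [pb, AdjoinRoot.powerBasis'_dim]
    have h0 : AdjoinRoot.mk g (φ (AdjoinRoot.root g)).charpoly = 0 := by
      rw [← AdjoinRoot.aeval_eq]
      apply Algebra.leftMulMatrix_injective pb.basis
      rw [map_zero, ← Polynomial.aeval_algHom_apply]
      exact Matrix.aeval_self_charpoly _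
    exact Polynomial.eq_of_monic_of_dvd_of_natDegree_le hmon (Matrix.charpoly_monic _)
      (AdjoinRoot.mk_eq_zero.mp h0) hn.le
  have h1 : Algebra.norm k (AdjoinRoot.mk g P) = (Polynomial.aeval (φ (AdjoinRoot.root g)) P).det := by
    rw [Algebra.norm_eq_matrix_det pb.basis, ← AdjoinRoot.aeval_eq, ← Polynomial.aeval_algHom_apply]
  rw [h1, det_aeval_eq_of_charpoly_eq _ _ hchar, ← LinearMap.det_toMatrix b]
  exact congr_arg Matrix.det (Polynomial.aeval_algHom_apply (LinearMap.toMatrixAlgEquiv b).toAlgHom u P)

end Groth.Agent.S8591
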