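import Groth.Statements.S8597
import Groth.Agent.H02CA.TorResidue
import Groth.Agent.H3CAlg.TorBasic
import Mathlib.Algebra.Category.ModuleCat.EpiMono
import Mathlib.LinearAlgebra.Prod

set_option autoImplicit false
universe u
open CategoryTheory CategoryTheory.Limits
open CAlg

namespace Groth.Agent.S8597

open Groth.Agent.H02CA Groth.Agent.H3CAlg CategoryTheory CategoryTheory.Limits TensorProduct

theorem epi_of_isIso_comp {C : Type*} [Category C] {X Y Z : C} (f : X ⟶ Y) (g : Y ⟶ Z)
    (h : IsIso (f ≫ g)) : Epi g := by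
  have : Epi (f ≫ g) := inferInstance
  exact epi_of_epi f g

theorem lTensor_bijective_of_isIso {A : Type u} [CommRing A] (L : ModuleCat.{u} A)
    {X Y : ModuleCat.{u} A} (f : X ⟶ Y)
    (h : IsIso (((Tor (ModuleCat.{u} A) 0).obj L).map f)) : Function.Bijective (f.hom.lTensor L) := by
  have := (NatIso.isIso_map_iff (Tor.zeroIso L) f).mp h
  exact ConcreteCategory.bijective_of_isIso
    (((MonoidalCategory.tensoringLeft (ModuleCat.{u} A)).obj L).map f)

theorem aux {A : Type u} [CommRing A] [IsNoetherianRing A] {M N F : ModuleCat.{u} A} [Projective F]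
    (u : M ⟶ N) (g : F ⟶ N) (hg : Function.Surjective g)
    (h : ∀ (x : Ideal A) [x.IsPrime] (i : ℕ),
      IsIso (((Tor (ModuleCat.{u} A) i).obj (ModuleCat.of A x.ResidueField)).map u)) :
    Function.Bijective u := by
  let w : (M × F) →ₗ[A] N := u.hom.coprod g.hom
  let K := LinearMap.ker w
  let S : ShortComplex (ModuleCat.{u} A) := ShortComplex.mk
    (ModuleCat.ofHom (X := K) (Y := M × F) K.subtype) (ModuleCat.ofHom (X := M × F) w)
    (ModuleCat.hom_ext (LinearMap.ext fun x ↦ x.2))
  have hS : S.ShortExact :=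
    { exact := (ShortComplex.moduleCat_exact_iff S).2 fun x hx ↦ ⟨⟨x, hx⟩, rfl⟩
      mono_f := (ModuleCat.mono_iff_injective _).2 Subtype.val_injective
      epi_g := (ModuleCat.epi_iff_surjective _).2 fun y ↦ by
        obtain ⟨x, hx⟩ := hg y
        exact ⟨((0 : M), x), by change u.hom 0 + g.hom x = y; rw [map_zero, zero_add]; exact hx⟩ }
  let inl : M ⟶ S.X₂ := ModuleCat.ofHom (Y := M × F) (LinearMap.inl A M F)
  let snd : S.X₂ ⟶ F := ModuleCat.ofHom (X := M × F) (LinearMap.snd A M F)
  have hu : inl ≫ S.g = u := ModuleCat.hom_ext (LinearMap.ext fun m ↦ by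
    change u.hom m + g.hom 0 = u.hom m
    rw [map_zero, add_zero])
  have hK : ∀ (x : Ideal A) [x.IsPrime] (i : ℕ), 0 < i →
      IsZero (((Tor (ModuleCat.{u} A) i).obj (ModuleCat.of A x.ResidueField)).obj (ModuleCat.of A K)) := by
    intro x _ i hi
    obtain ⟨j, rfl⟩ := Nat.exists_eq_add_of_le' (show 1 ≤ i by omega)
    let L := ModuleCat.of A x.ResidueField
    let T := fun k ↦ ((Tor (ModuleCat.{u} A) k).obj L)
    have hiso : IsIso ((T (j + 1)).map S.g) := by
      have h1 : IsIso ((T (j + 1)).map inl) := by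
        let S₁ : ShortComplex (ModuleCat.{u} A) := ShortComplex.mk inl snd
          (ModuleCat.hom_ext (LinearMap.ext fun m ↦ rfl))
        have hS₁ : S₁.ShortExact :=
          { exact := (ShortComplex.moduleCat_exact_iff S₁).2 fun x hx ↦ ⟨x.1, Prod.ext rfl hx.symm⟩
            mono_f := (ModuleCat.mono_iff_injective _).2 fun m m' hmm ↦ congrArg Prod.fst hmm
            epi_g := (ModuleCat.epi_iff_surjective _).2 fun f ↦ ⟨((0 : M), f), rfl⟩ }
        obtain ⟨⟨w₀, he⟩, -, δ, w₁, w₂, -, h₂⟩ := Tor.les₂ L S₁ hS₁ (j + 1)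
        have : Mono ((T (j + 1)).map inl) := h₂.mono_g
          ((isZero_Tor_succ_of_projective _ L F (j + 1)).eq_of_src _ _)
        have : Epi ((T (j + 1)).map inl) := he.epi_f
          ((isZero_Tor_succ_of_projective _ L F j).eq_of_tgt _ _)
        exact isIso_of_mono_of_epi _
      have : IsIso ((T (j + 1)).map inl ≫ (T (j + 1)).map S.g) := by
        rw [← Functor.map_comp, hu]; exact h x (j + 1)
      exact IsIso.of_isIso_comp_left ((T (j + 1)).map inl) _
    have hepi : Epi ((T (j + 2)).map S.g) := epi_of_isIso_comp ((T (j + 2)).map inl) _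
      (by rw [← Functor.map_comp, hu]; exact h x (j + 2))
    obtain ⟨⟨w₀, -⟩, -, δ, w₁, w₂, -, h₂⟩ := Tor.les₂ L S hS (j + 1)
    have hδ : δ = 0 := (cancel_epi ((T (j + 2)).map S.g)).mp (w₁.trans comp_zero.symm)
    have hmono : Mono ((T (j + 1)).map S.f) := h₂.mono_g hδ
    have hf : (T (j + 1)).map S.f = 0 := by
      rw [← cancel_mono ((T (j + 1)).map S.g), zero_comp]
      exact w₀
    exact IsZero.of_mono_eq_zero _ hf
  have : Module.Flat A K := TorResidue.flat_of_residueField (M := ModuleCat.of A K) hK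
  have : Module.Projective A F := F.projective_of_module_projective
  let v : K →ₗ[A] F := (LinearMap.snd A M F) ∘ₗ K.subtype
  have hv : Function.Bijective v := by
    refine TorResidue.bijective_of_residueField (ModuleCat.of A K) F v fun p _ ↦ ?_
    let L := ModuleCat.of A p.ResidueField
    obtain ⟨-, -, δ, w₁, w₂, -, h₂⟩ := Tor.les₂ L S hS 0
    have hepi : Epi (((Tor (ModuleCat.{u} A) 1).obj L).map S.g) := epi_of_isIso_comp
      (((Tor (ModuleCat.{u} A) 1).obj L).map inl) _ (by rw [← Functor.map_comp, hu]; exact h p 1)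
    have hδ : δ = 0 := (cancel_epi (((Tor (ModuleCat.{u} A) 1).obj L).map S.g)).mp (w₁.trans comp_zero.symm)
    have hmono : Mono (((Tor (ModuleCat.{u} A) 0).obj L).map S.f) := h₂.mono_g hδ
    have hinj : Function.Injective (K.subtype.lTensor L) := by
      have e := (Tor.zeroIso L).hom.naturality S.f
      have : Mono (((MonoidalCategory.tensoringLeft (ModuleCat.{u} A)).obj L).map S.f) := by
        rw [← NatIso.naturality_1 (Tor.zeroIso L) S.f]
        infer_instance
      exact (ModuleCat.mono_iff_injective _).mp this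
    have hu' := lTensor_bijective_of_isIso L u (h p 0)
    have hex : Function.Exact (K.subtype.lTensor L) (w.lTensor L) :=
      lTensor_exact L (LinearMap.exact_subtype_ker_map w) fun y ↦ by
        obtain ⟨x, hx⟩ := hg y
        exact ⟨((0 : M), x), by change u.hom 0 + g.hom x = y; rw [map_zero, zero_add]; exact hx⟩
    let a := (LinearMap.fst A M F).lTensor L
    let b := (LinearMap.snd A M F).lTensor L
    let i₁ := (LinearMap.inl A M F).lTensor L
    let i₂ := (LinearMap.inr A M F).lTensor L
    have hdec : ∀ z, i₁ (a z) + i₂ (b z) = z := fun z ↦ by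
      induction z using TensorProduct.induction_on with
      | zero => simp
      | tmul l q => simp [i₁, i₂, a, b, ← tmul_add]
      | add z z' hz hz' => rw [map_add a, map_add b, map_add i₁, map_add i₂, add_add_add_comm, hz, hz']
    have hw1 : ∀ z, w.lTensor L (i₁ z) = u.hom.lTensor L z := fun z ↦ by
      rw [← LinearMap.lTensor_comp_apply, LinearMap.coprod_inl]
    have hw2 : ∀ z, w.lTensor L (i₂ z) = g.hom.lTensor L z := fun z ↦ by
      rw [← LinearMap.lTensor_comp_apply, LinearMap.coprod_inr]
    refine ⟨(injective_iff_map_eq_zero _).mpr fun z hz ↦ ?_, fun φ ↦ ?_⟩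
    · have hz' : b (K.subtype.lTensor L z) = 0 := (LinearMap.lTensor_comp_apply L _ _ z).symm.trans hz
      have h0 := (hex _).mpr ⟨z, rfl⟩
      rw [← hdec (K.subtype.lTensor L z), hz', map_zero, add_zero, hw1] at h0
      have ha : a (K.subtype.lTensor L z) = 0 := hu'.1 (h0.trans (map_zero _).symm)
      refine hinj ?_
      rw [map_zero, ← hdec (K.subtype.lTensor L z), hz', ha, map_zero, map_zero, add_zero]
    · obtain ⟨m, hm⟩ := hu'.2 (-(g.hom.lTensor L φ))
      obtain ⟨z, hz⟩ := (hex (i₁ m + i₂ φ)).mp (by rw [map_add, hw1, hw2, hm, neg_add_cancel])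
      refine ⟨z, ?_⟩
      refine (LinearMap.lTensor_comp_apply L _ _ z).trans ?_
      change b (K.subtype.lTensor L z) = φ
      rw [hz, map_add, ← LinearMap.lTensor_comp_apply, ← LinearMap.lTensor_comp_apply,
        LinearMap.snd_comp_inl, LinearMap.snd_comp_inr, LinearMap.lTensor_zero, LinearMap.lTensor_id]
      simp
  refine ⟨(injective_iff_map_eq_zero u.hom).mpr fun m hm ↦ ?_, fun n ↦ ?_⟩
  · have hmem : ((m, 0) : M × F) ∈ K := by
      change u.hom m + g.hom 0 = 0
      rw [hm, map_zero, add_zero]
    exact congrArg (fun x : K ↦ x.1.1) (hv.1 (a₁ := ⟨_, hmem⟩) (a₂ := 0) (by simp [v]))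
  · obtain ⟨φ, hφ⟩ := hg n
    obtain ⟨⟨⟨m, φ'⟩, hk⟩, hkφ⟩ := hv.2 φ
    obtain rfl : φ' = φ := hkφ
    exact ⟨-m, by
      change u.hom (-m) = n
      rw [map_neg, eq_neg_of_add_eq_zero_left (show u.hom m + g.hom φ' = 0 from hk), neg_neg]
      exact hφ⟩

/-- Case of modules placed in degree 0: let A be a commutative Noetherian ring and u : M -> N a
homomorphism of A-modules such that for every prime ideal x of A, with residue field k(x), and every
i ≥ 0, the induced map Tor_i^A(k(x), M) -> Tor_i^A(k(x), N) (left derived functors of k(x) ⊗ -) is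
an isomorphism. Then u is an isomorphism. (The published statement is for a morphism of
bounded-above complexes and the derived tensor products with k(x); this is the case of two modules.) -/
theorem result (A : Type u) [CommRing A] [IsNoetherianRing A]
    {M N : ModuleCat.{u} A} (u : M ⟶ N)
    (h : ∀ (x : Ideal A) [x.IsPrime] (i : ℕ),
      IsIso (((Tor (ModuleCat.{u} A) i).obj (ModuleCat.of A x.ResidueField)).map u)) :
    IsIso u := by
  exact (ConcreteCategory.isIso_iff_bijective u).mpr
    (aux u (Projective.π N) ((ModuleCat.epi_iff_surjective _).mp inferInstance) h)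

end Groth.Agent.S8597
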