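import Groth.Statements.S8598
import Groth.Agent.H18Et.ExtZeroCounit

set_option autoImplicit false
universe u
open CategoryTheory CategoryTheory.Limits AlgebraicGeometry Opposite
open EtDl

namespace Groth.Agent.S8598

open Groth.Agent.H18Et Groth.Agent.H18Et.ExtZeroStalk
set_option backward.isDefEq.respectTransparency false
set_option backward.isDefEq.respectTransparency.types false

/-- Let u : X -> Y be an etale, separated morphism of finite type that is surjective, and F an abelian
sheaf on Y_et. The sheaves F_n = (u_n)_! u_n^* F built from the iterated fibre powers of X over Y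
form a left resolution of F; in particular (the part stated here) the augmentation u_! u^* F -> F,
which is the counit of the adjunction between extension by zero u_! and restriction u^*, is an
epimorphism. (The continuity of V ↦ (V -> X -> Y) between the small etale sites is carried as an
instance hypothesis, the prelude's convention for extension by zero along an etale morphism.) -/
theorem result {X Y : Scheme.{u}} (u : X ⟶ Y) [Etale u] [IsSeparated u]
    [LocallyOfFiniteType u] [QuasiCompact u] [Surjective u] [EtShriek.JCont u] (F : EtCoh.Ab Y) :
    Epi ((EtShriek.extZeroAdj u).counit.app F) := by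
    refine epi_of_stalk _ fun x => ?_
    obtain ⟨w, rfl⟩ := u.surjective x
    refine ⟨SeparableClosure (X.residueField w), inferInstance, IsSepClosure.sep_closed (X.residueField w), geomPt w ≫ u, congrArg u.base (geomPt_base w), ?_⟩
    let v : Pts u (geomPt w ≫ u) := ⟨geomPt w, rfl⟩
    intro p
    obtain ⟨q, hq⟩ := (alpha_bijective v F).2 p
    refine ⟨theta u (geomPt w ≫ u) _ v (𝟙 _) q, ?_⟩
    have h1 := (theta_comp u (geomPt w ≫ u) _ v (𝟙 _) ((EtCoh.stalk (geomPt w ≫ u)).map ((EtShriek.extZeroAdj u).counit.app F))).symm
    rw [Category.id_comp, theta_counit] at h1
    exact (ConcreteCategory.congr_hom h1 q).trans hq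

end Groth.Agent.S8598
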