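import Groth.Statements.S8604
import Mathlib.FieldTheory.IsAlgClosed.Basic
import Mathlib.FieldTheory.Separable
import Mathlib.Algebra.CharP.Basic
import Mathlib.LinearAlgebra.FiniteDimensional.Defs
import Mathlib.LinearAlgebra.LinearIndependent.Basic
import Mathlib.FieldTheory.Finite.Basic

set_option autoImplicit false
universe u
open CAlg

namespace Groth.Agent.S8604

open Polynomial

variable {p : ℕ} [hp : Fact p.Prime] {k : Type u} [Field k] [CharP k p] {V : Type u} [AddCommGroup V] [Module k V]

noncomputable def lang (c : ℕ → k) : ℕ → k[X]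
  | 0 => C (c 0) * X ^ p
  | i + 1 => lang c i ^ p + C (c (i + 1)) * X ^ p

theorem lang_natDegree (c : ℕ → k) (h0 : c 0 ≠ 0) : ∀ i, (lang (p := p) c i).natDegree = p ^ (i + 1) := by
  intro i
  induction i with
  | zero => simp [lang, natDegree_C_mul_X_pow _ _ h0]
  | succ i ih =>
    have hlt : p < p * p ^ (i + 1) := by
      conv_lhs => rw [← mul_one p]
      exact Nat.mul_lt_mul_of_pos_left (Nat.one_lt_pow (by omega) hp.out.one_lt) hp.out.pos
    rw [lang, natDegree_add_eq_left_of_natDegree_lt, natDegree_pow, ih]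
    · ring
    · rw [natDegree_pow, ih]
      exact (natDegree_C_mul_X_pow_le _ _).trans_lt hlt

theorem lang_derivative (c : ℕ → k) : ∀ i, derivative (lang (p := p) c i) = 0 := by
  intro i
  cases i with
  | zero => simp [lang, derivative_X_pow]
  | succ i => simp [lang, derivative_pow, derivative_X_pow]

theorem exists_root [IsAlgClosed k] (c : ℕ → k) (h0 : c 0 ≠ 0) (n : ℕ) :
    ∃ y : k, y ≠ 0 ∧ eval y (lang (p := p) c n) = y := by
  set Q := lang (p := p) c n - X with hQ
  have hd : Q.natDegree = p ^ (n + 1) := by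
    rw [hQ, natDegree_sub_eq_left_of_natDegree_lt, lang_natDegree c h0]
    rw [lang_natDegree c h0, natDegree_X]
    exact Nat.one_lt_pow (by omega) hp.out.one_lt
  have hsep : Q.Separable := by
    rw [separable_def, hQ, derivative_sub, lang_derivative, derivative_X, zero_sub]
    exact isCoprime_one_right.neg_right
  by_contra hne
  push Not at hne
  have hle : Q.roots ≤ {0} := by
    refine (Multiset.le_iff_subset (nodup_roots hsep)).mpr fun y hy => ?_
    rw [Multiset.mem_singleton]
    by_contra h0'
    refine hne y h0' ?_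
    have h1 := isRoot_of_mem_roots hy
    rwa [IsRoot.def, hQ, eval_sub, eval_X, sub_eq_zero] at h1
  have h2 := Multiset.card_le_card hle
  rw [← (IsAlgClosed.splits Q).natDegree_eq_card_roots, hd, Multiset.card_singleton] at h2
  exact absurd h2 (not_le.mpr (Nat.one_lt_pow (by omega) hp.out.one_lt))

variable (F : V →+ V) (hF : ∀ (a : k) (v : V), F (a • v) = a ^ p • F v)

theorem iterate_map_smul (m : ℕ) (a : k) (v : V) (hF : ∀ (a : k) (v : V), F (a • v) = a ^ p • F v) :
    (⇑F)^[m] (a • v) = a ^ p ^ m • (⇑F)^[m] v := by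
  induction m with
  | zero => simp
  | succ m ih => rw [Function.iterate_succ', Function.comp_apply, ih, hF, ← pow_mul, ← pow_succ, Function.comp_apply]

include hF in
theorem nil_of_mem {v : V} (hv : v ∈ Submodule.span k {v : V | ∃ m : ℕ, (⇑F)^[m] v = 0}) : ∃ m : ℕ, (⇑F)^[m] v = 0 := by
  induction hv using Submodule.span_induction with
  | mem v hv => exact hv
  | zero => exact ⟨0, rfl⟩
  | add a b _ _ ha hb =>
    obtain ⟨m, hm⟩ := ha
    obtain ⟨n, hn⟩ := hb
    refine ⟨m + n, ?_⟩
    rw [iterate_map_add, show (⇑F)^[m + n] b = (⇑F)^[m] ((⇑F)^[n] b) from Function.iterate_add_apply _ m n b,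
      hn, add_comm m n, Function.iterate_add_apply, hm, iterate_map_zero, iterate_map_zero, add_zero]
  | smul a v _ hv =>
    obtain ⟨m, hm⟩ := hv
    exact ⟨m, by rw [iterate_map_smul F m a v hF, hm, smul_zero]⟩

include hF in
theorem fixed_preimage [IsAlgClosed k] {a : V} (ha : a ∈ Submodule.span k {v : V | F v = v}) :
    (∃ a' ∈ Submodule.span k {v : V | F v = v}, F a' = a) ∧ (∃ a' ∈ Submodule.span k {v : V | F v = v}, F a' - a' = a) := by
  induction ha using Submodule.span_induction with
  | mem v hv =>
    obtain ⟨t, ht⟩ := IsAlgClosed.exists_root (X ^ p - X - C (1 : k)) (by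
      rw [sub_sub, degree_sub_eq_left_of_degree_lt, degree_X_pow]
      · exact_mod_cast hp.out.ne_zero
      · rw [degree_X_pow, degree_X_add_C]; exact_mod_cast hp.out.one_lt)
    simp only [IsRoot.def, eval_sub, eval_pow, eval_X, eval_C, sub_eq_zero] at ht
    refine ⟨⟨v, Submodule.subset_span hv, hv⟩, ⟨t • v, Submodule.smul_mem _ _ (Submodule.subset_span hv), ?_⟩⟩
    rw [hF, show F v = v from hv, ← sub_smul, ht, one_smul]
  | zero => exact ⟨⟨0, zero_mem _, map_zero F⟩, ⟨0, zero_mem _, by simp⟩⟩
  | add a b _ _ ha hb =>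
    obtain ⟨⟨a', ha1, ha2⟩, ⟨a'', ha3, ha4⟩⟩ := ha
    obtain ⟨⟨b', hb1, hb2⟩, ⟨b'', hb3, hb4⟩⟩ := hb
    exact ⟨⟨a' + b', add_mem ha1 hb1, by rw [map_add, ha2, hb2]⟩, ⟨a'' + b'', add_mem ha3 hb3, by rw [map_add, ← ha4, ← hb4]; abel⟩⟩
  | smul c v hv ih =>
    -- reduce to scaling fixed vectors
    refine ⟨?_, ?_⟩
    · obtain ⟨a', ha1, ha2⟩ := ih.1
      obtain ⟨t, ht⟩ := IsAlgClosed.exists_pow_nat_eq c hp.out.pos
      exact ⟨t • a', Submodule.smul_mem _ _ ha1, by rw [hF, ha2, ht]⟩
    · clear ih
      induction hv using Submodule.span_induction generalizing c with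
      | mem v hv =>
        obtain ⟨t, ht⟩ := IsAlgClosed.exists_root (X ^ p - X - C c) (by
          rw [sub_sub, degree_sub_eq_left_of_degree_lt, degree_X_pow]
          · exact_mod_cast hp.out.ne_zero
          · rw [degree_X_pow, degree_X_add_C]; exact_mod_cast hp.out.one_lt)
        simp only [IsRoot.def, eval_sub, eval_pow, eval_X, eval_C, sub_eq_zero] at ht
        refine ⟨t • v, Submodule.smul_mem _ _ (Submodule.subset_span hv), ?_⟩
        rw [hF, show F v = v from hv, ← sub_smul, ht]
      | zero => exact ⟨0, zero_mem _, by simp⟩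
      | add a b _ _ ha hb =>
        obtain ⟨a', ha1, ha2⟩ := ha c
        obtain ⟨b', hb1, hb2⟩ := hb c
        exact ⟨a' + b', add_mem ha1 hb1, by rw [map_add, smul_add, ← ha2, ← hb2]; abel⟩
      | smul d v _ ih =>
        obtain ⟨a', ha1, ha2⟩ := ih (c * d)
        exact ⟨a', ha1, by rw [ha2, mul_smul]⟩

include hF in
theorem mem_of_apply_mem [IsAlgClosed k] {x : V}
    (h : F x ∈ Submodule.span k {v : V | F v = v} ⊔ Submodule.span k {v : V | ∃ m : ℕ, (⇑F)^[m] v = 0}) :
    x ∈ Submodule.span k {v : V | F v = v} ⊔ Submodule.span k {v : V | ∃ m : ℕ, (⇑F)^[m] v = 0} := by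
  obtain ⟨a, ha, b, hb, hab⟩ := Submodule.mem_sup.mp h
  obtain ⟨⟨a', ha1, ha2⟩, -⟩ := fixed_preimage F hF ha
  obtain ⟨m, hm⟩ := nil_of_mem F hF hb
  refine Submodule.mem_sup.mpr ⟨a', ha1, x - a', Submodule.subset_span ⟨m + 1, ?_⟩, by abel⟩
  rw [Function.iterate_succ_apply, map_sub, ha2, ← hab, add_sub_cancel_left, hm]

include hF in
theorem mem_of_apply_sub_mem [IsAlgClosed k] {x : V}
    (h : F x - x ∈ Submodule.span k {v : V | F v = v} ⊔ Submodule.span k {v : V | ∃ m : ℕ, (⇑F)^[m] v = 0}) :
    x ∈ Submodule.span k {v : V | F v = v} ⊔ Submodule.span k {v : V | ∃ m : ℕ, (⇑F)^[m] v = 0} := by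
  obtain ⟨a, ha, b, hb, hab⟩ := Submodule.mem_sup.mp h
  obtain ⟨-, ⟨a', ha1, ha2⟩⟩ := fixed_preimage F hF ha
  obtain ⟨m, hm⟩ := nil_of_mem F hF hb
  let b' := -∑ j ∈ Finset.range m, (⇑F)^[j] b
  have hb1 : F b' - b' = b := by
    simp only [b', map_neg, map_sum, ← Function.iterate_succ_apply' (f := ⇑F)]
    have := Finset.sum_range_sub (fun j => (⇑F)^[j] b) m
    simp only [Finset.sum_sub_distrib, hm, Function.iterate_zero, id_eq, zero_sub] at this
    rw [sub_neg_eq_add, neg_add_eq_sub, ← neg_sub, this, neg_neg]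
  have hb2 : b' ∈ Submodule.span k {v : V | ∃ m : ℕ, (⇑F)^[m] v = 0} := by
    refine neg_mem (sum_mem fun j _ => Submodule.subset_span ⟨m, ?_⟩)
    rw [← Function.iterate_add_apply, add_comm, Function.iterate_add_apply, hm, iterate_map_zero]
  have hfix : F (x - a' - b') = x - a' - b' := by
    rw [← sub_eq_zero, map_sub, map_sub]
    have : F x - F a' - F b' - (x - a' - b') = (F x - x) - (F a' - a') - (F b' - b') := by abel
    rw [this, ha2, hb1, ← hab]
    abel
  exact Submodule.mem_sup.mpr ⟨(x - a' - b') + a', add_mem (Submodule.subset_span hfix) ha1, b', hb2, by abel⟩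

include hF in
theorem apply_mem [IsAlgClosed k] {v : V}
    (h : v ∈ Submodule.span k {v : V | F v = v} ⊔ Submodule.span k {v : V | ∃ m : ℕ, (⇑F)^[m] v = 0}) :
    F v ∈ Submodule.span k {v : V | F v = v} ⊔ Submodule.span k {v : V | ∃ m : ℕ, (⇑F)^[m] v = 0} := by
  rw [← Submodule.span_union] at h ⊢
  induction h using Submodule.span_induction with
  | mem v hv =>
    rcases hv with hv | ⟨m, hm⟩
    · exact Submodule.subset_span (Or.inl (by rw [Set.mem_ofPred_eq, show F v = v from hv]; exact hv))
    · exact Submodule.subset_span (Or.inr ⟨m, by rw [← Function.iterate_succ_apply, Function.iterate_succ_apply', hm, map_zero]⟩)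
  | zero => rw [map_zero]; exact zero_mem _
  | add a b _ _ ha hb => rw [map_add]; exact add_mem ha hb
  | smul a v _ ih => rw [hF]; exact Submodule.smul_mem _ _ ih

include hF in
theorem codisjoint_fixed_nil [IsAlgClosed k] [FiniteDimensional k V] :
    Submodule.span k {v : V | F v = v} ⊔ Submodule.span k {v : V | ∃ m : ℕ, (⇑F)^[m] v = 0} = ⊤ := by
  classical
  set U := Submodule.span k {v : V | F v = v} ⊔ Submodule.span k {v : V | ∃ m : ℕ, (⇑F)^[m] v = 0}
  by_contra hU
  obtain ⟨v, -, hv⟩ := SetLike.exists_of_lt (lt_top_iff_ne_top.mpr hU)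
  let w : ℕ → V := fun i => (⇑F)^[i] v
  let W : ℕ → Submodule k V := fun n => U ⊔ Submodule.span k (w '' Set.Iio n)
  have hmono : Monotone W := fun m n h => sup_le_sup le_rfl (Submodule.span_mono (Set.image_mono (Set.Iio_subset_Iio h)))
  have hex : ∃ n, w n ∈ W n := by
    by_contra hne
    push Not at hne
    obtain ⟨n, hn⟩ := monotone_stabilizes_iff_noetherian.mpr (inferInstance : IsNoetherian k V) ⟨W, hmono⟩
    refine hne n ((hn (n + 1) (Nat.le_succ n)).ge ?_)
    exact Submodule.mem_sup_right (Submodule.subset_span ⟨n, Nat.lt_succ_self n, rfl⟩)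
  have hspec := Nat.find_spec hex
  obtain ⟨n, hn⟩ : ∃ n, Nat.find hex = n + 1 := Nat.exists_eq_succ_of_ne_zero fun h0 => hv (by
    rw [h0] at hspec
    simpa [W, w] using hspec)
  rw [hn] at hspec
  have hmin : ∀ i < n + 1, w i ∉ W i := fun i hi => Nat.find_min hex (hn ▸ hi)
  have hind : ∀ y : ℕ → k, ∑ i ∈ Finset.range (n + 1), y i • w i ∈ U → ∀ i < n + 1, y i = 0 := by
    intro y
    suffices ∀ j ≤ n + 1, ∑ i ∈ Finset.range j, y i • w i ∈ U → ∀ i < j, y i = 0 from this (n + 1) le_rfl
    intro j
    induction j with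
    | zero => intro _ _ i hi; omega
    | succ j ih =>
      intro hj hmem i hi
      have hyj : y j = 0 := by
        by_contra hne
        refine hmin j (by omega) ((Submodule.smul_mem_iff (W j) hne).mp ?_)
        rw [Finset.sum_range_succ] at hmem
        rw [show y j • w j = (∑ i ∈ Finset.range j, y i • w i + y j • w j) - ∑ i ∈ Finset.range j, y i • w i by abel]
        exact sub_mem (Submodule.mem_sup_left hmem) (Submodule.mem_sup_right (sum_mem fun i hi =>
          Submodule.smul_mem _ _ (Submodule.subset_span ⟨i, Finset.mem_range.mp hi, rfl⟩)))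
      rw [Finset.sum_range_succ, hyj, zero_smul, add_zero] at hmem
      rcases Nat.lt_succ_iff_lt_or_eq.mp hi with h | rfl
      · exact ih (by omega) hmem i h
      · exact hyj
  obtain ⟨c, hc⟩ : ∃ c : ℕ → k, w (n + 1) - ∑ i ∈ Finset.range (n + 1), c i • w i ∈ U := by
    obtain ⟨u, hu, z, hz, huz⟩ := Submodule.mem_sup.mp hspec
    obtain ⟨l, hl, rfl⟩ := (Finsupp.mem_span_image_iff_linearCombination k).mp hz
    refine ⟨l, ?_⟩
    have : Finsupp.linearCombination k w l = ∑ i ∈ Finset.range (n + 1), l i • w i := by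
      rw [Finsupp.linearCombination_apply, Finsupp.sum_of_support_subset l (fun i hi => Finset.mem_range.mpr (hl hi)) _ (by simp)]
    rw [← this, ← huz, add_sub_cancel_right]
    exact hu
  have hw : ∀ i, F (w i) = w (i + 1) := fun i => (Function.iterate_succ_apply' (⇑F) i v).symm
  by_cases hc0 : c 0 = 0
  · choose r hr using fun i => IsAlgClosed.exists_pow_nat_eq (c (i + 1)) hp.out.pos
    let y : ℕ → k := fun i => if i = n then 1 else -r i
    have hx : ∑ i ∈ Finset.range (n + 1), y i • w i ∈ U := by
      refine mem_of_apply_mem F hF ?_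
      convert hc using 1
      rw [map_sum, Finset.sum_range_succ, Finset.sum_range_succ' (fun i => c i • w i), hc0, zero_smul, add_zero,
        sub_eq_neg_add, ← Finset.sum_neg_distrib]
      refine congrArg₂ (· + ·) (Finset.sum_congr rfl fun i hi => ?_) ?_
      · rw [hF, hw]
        simp only [y, if_neg (Finset.mem_range.mp hi).ne]
        haveI : ExpChar k p := .prime hp.out
        rw [← neg_one_mul, mul_pow, neg_one_pow_expChar, hr, neg_one_mul, neg_smul]
      · rw [hF, hw]; simp [y]
    simpa [y] using hind y hx n (by omega)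
  · obtain ⟨t, ht0, ht⟩ := exists_root (p := p) c hc0 n
    let y : ℕ → k := fun i => eval t (lang (p := p) c i)
    have hx : ∑ i ∈ Finset.range (n + 1), y i • w i ∈ U := by
      refine mem_of_apply_sub_mem F hF ?_
      convert U.smul_mem (t ^ p) hc using 1
      rw [map_sum, smul_sub, Finset.smul_sum, Finset.sum_range_succ (fun i => F (y i • w i)),
        Finset.sum_range_succ' (fun i => y i • w i), Finset.sum_range_succ' (fun i => t ^ p • c i • w i)]
      have h0 : y 0 = c 0 * t ^ p := by simp [y, lang]
      have hs : ∀ i, y (i + 1) = y i ^ p + c (i + 1) * t ^ p := fun i => by simp [y, lang]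
      have hyn : y n = t := ht
      have hsum : ∑ i ∈ Finset.range n, y (i + 1) • w (i + 1) =
          ∑ i ∈ Finset.range n, F (y i • w i) + ∑ i ∈ Finset.range n, t ^ p • c (i + 1) • w (i + 1) := by
        rw [← Finset.sum_add_distrib]
        exact Finset.sum_congr rfl fun i _ => by rw [hF, hw, hs, add_smul, mul_comm, mul_smul]
      rw [hsum, hF, hw, hyn, h0, mul_comm, mul_smul]
      abel
    exact ht0 (ht ▸ hind y hx n (by omega))

include hF in
theorem indep_fixed (s : Finset V) (hs : ∀ v ∈ s, F v = v)
    (hint : ∀ c : V → ℤ, ∑ v ∈ s, c v • v = 0 → ∀ v ∈ s, (p : ℤ) ∣ c v) :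
    ∀ a : V → k, ∑ v ∈ s, a v • v = 0 → ∀ v ∈ s, a v = 0 := by
  classical
  induction s using Finset.induction_on with
  | empty => intro a _ v hv; exact absurd hv (Finset.notMem_empty v)
  | @insert w s hw ih =>
    have ih' := ih (fun v hv => hs v (Finset.mem_insert_of_mem hv)) fun c hc v hv => by
      have hvw : v ≠ w := fun e => hw (e ▸ hv)
      have := hint (fun v => if v = w then 0 else c v) (by
        rw [Finset.sum_insert hw, if_pos rfl, zero_smul, zero_add, ← hc]
        exact Finset.sum_congr rfl fun u hu => by rw [if_neg (fun (e : u = w) => hw (e ▸ hu))]) v (Finset.mem_insert_of_mem hv)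
      simpa [hvw] using this
    intro a ha
    rw [Finset.sum_insert hw] at ha
    suffices haw : a w = 0 by
      intro v hv
      rcases Finset.mem_insert.mp hv with rfl | hv
      · exact haw
      · exact ih' a (by simpa [haw] using ha) v hv
    by_contra hne
    let b : V → k := fun v => -(a v / a w)
    have hb : w = ∑ v ∈ s, b v • v := by
      have h1 := congrArg (fun z => (a w)⁻¹ • z) ha
      simp only [smul_add, smul_zero, smul_smul, inv_mul_cancel₀ hne, one_smul, Finset.smul_sum] at h1
      rw [add_eq_zero_iff_eq_neg.mp h1, ← Finset.sum_neg_distrib]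
      exact Finset.sum_congr rfl fun v _ => by simp [b, div_eq_inv_mul, smul_smul]
    have hb' : w = ∑ v ∈ s, b v ^ p • v := by
      conv_lhs => rw [← hs w (Finset.mem_insert_self w s), hb, map_sum]
      exact Finset.sum_congr rfl fun v hv => by rw [hF, hs v (Finset.mem_insert_of_mem hv)]
    have hfix : ∀ v ∈ s, b v ^ p = b v := by
      have h0 := ih' (fun v => b v ^ p - b v) (by simp only [sub_smul, Finset.sum_sub_distrib, ← hb', ← hb, sub_self])
      exact fun v hv => sub_eq_zero.mp (h0 v hv)
    have hz : ∀ v ∈ s, ∃ n : ℤ, (n : k) = b v := by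
      intro v hv
      have hr : b v ∈ ((X ^ p - X : (ZMod p)[X]).map (ZMod.castHom dvd_rfl k)).roots := by
        rw [Polynomial.mem_roots (Polynomial.map_ne_zero (FiniteField.X_pow_card_sub_X_ne_zero _ hp.out.one_lt))]
        simp [hfix v hv]
      have hsplit : (X ^ p - X : (ZMod p)[X]).Splits := by
        refine splits_iff_card_roots.mpr ?_
        have := FiniteField.roots_X_pow_card_sub_X (ZMod p)
        rw [ZMod.card] at this
        rw [this, FiniteField.X_pow_card_sub_X_natDegree_eq _ hp.out.one_lt]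
        simp
      rw [hsplit.roots_map, Multiset.mem_map] at hr
      obtain ⟨z, -, hzv⟩ := hr
      exact ⟨z.cast, by rw [← hzv, ← map_intCast (ZMod.castHom dvd_rfl k), ZMod.intCast_zmod_cast]⟩
    choose! N hN using hz
    have := hint (fun v => if v = w then -1 else N v) (by
      rw [Finset.sum_insert hw, if_pos rfl, neg_one_smul, neg_add_eq_zero]
      conv_lhs => rw [hb]
      exact Finset.sum_congr rfl fun v hv => by rw [if_neg (fun (e : v = w) => hw (e ▸ hv)), ← Int.cast_smul_eq_zsmul k, hN v hv]) w (Finset.mem_insert_self w s)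
    simp only [if_pos] at this
    exact hp.out.not_dvd_one (by exact_mod_cast (dvd_neg.mp this))

/-- Over an algebraically closed field: let k be an algebraically closed field of characteristic p > 0,
V a finite-dimensional k-vector space and F : V -> V a p-linear endomorphism (additive with F(a·v) =
a^p·F(v)). Let V^F be the set of vectors fixed by F (an F_p-subspace), V_0 the k-span of V^F and V_n
the k-span of the vectors killed by some iterate of F (these already form an F-stable subspace on
which F is nilpotent). Then V = V_0 ⊕ V_n, and V^F ⊗ k -> V_0 is bijective in the sense that any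
finitely many F-fixed vectors linearly independent over Z/p (every vanishing integer combination has
all coefficients divisible by p) are linearly independent over k. (The published statement asserts
this decomposition, with V^F ⊗ k ≅ V_0, for every PERFECT field k; that is false when k is not
separably closed — for k = Z/3, V = k and F = multiplication by 2 there are no nonzero fixed vectors
although F is bijective — and the decomposition is stated here over an algebraically closed field,
the case in which it holds.) -/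
theorem result (p : ℕ) [Fact p.Prime] (k : Type u) [Field k]
    [IsAlgClosed k] [CharP k p] (V : Type u) [AddCommGroup V] [Module k V] [FiniteDimensional k V]
    (F : V →+ V) (hF : ∀ (a : k) (v : V), F (a • v) = a ^ p • F v) :
    IsCompl (Submodule.span k {v : V | F v = v})
        (Submodule.span k {v : V | ∃ m : ℕ, (⇑F)^[m] v = 0}) ∧
      ∀ (s : Finset V), (∀ v ∈ s, F v = v) →
        (∀ c : s → ℤ, (∑ v : s, c v • (v : V)) = 0 → ∀ v : s, (p : ℤ) ∣ c v) →
          LinearIndependent k (fun v : s => (v : V)) := by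
  classical
  have key : ∀ (s : Finset V), (∀ v ∈ s, F v = v) →
      (∀ c : s → ℤ, (∑ v : s, c v • (v : V)) = 0 → ∀ v : s, (p : ℤ) ∣ c v) →
        LinearIndependent k (fun v : s => (v : V)) := by
    intro s hs hint
    rw [Fintype.linearIndependent_iff]
    intro g hg i
    have h := indep_fixed F hF s hs (fun c hc v hv => hint (fun u => c u) (by rw [← hc]; exact Finset.sum_coe_sort s fun u => c u • u) ⟨v, hv⟩)
      (fun u => if hu : u ∈ s then g ⟨u, hu⟩ else 0) (by
        rw [← Finset.sum_coe_sort s]
        rw [← hg]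
        exact Finset.sum_congr rfl fun u _ => by simp) i i.2
    simpa using h
  refine ⟨⟨Submodule.disjoint_def.mpr fun x hx hn => ?_, codisjoint_iff.mpr (codisjoint_fixed_nil F hF)⟩, key⟩
  obtain ⟨t, htsub, htspan, htind⟩ := exists_linearIndependent k {v : V | F v = v}
  rw [← htspan] at hx
  obtain ⟨m, hm⟩ := nil_of_mem F hF hn
  obtain ⟨l, hl, rfl⟩ := Submodule.mem_span_set.mp hx
  have hFl : (⇑F)^[m] (l.sum fun v a => a • v) = ∑ v ∈ l.support, l v ^ p ^ m • v := by
    have hs : ∀ (s : Finset V) (f : V → V), (⇑F)^[m] (∑ v ∈ s, f v) = ∑ v ∈ s, (⇑F)^[m] (f v) := by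
      intro s f
      induction s using Finset.induction_on with
      | empty => simp [iterate_map_zero]
      | @insert w s hw ih => rw [Finset.sum_insert hw, iterate_map_add, ih, Finset.sum_insert hw]
    rw [Finsupp.sum, hs]
    refine Finset.sum_congr rfl fun v hv => ?_
    rw [iterate_map_smul F m _ v hF, Function.iterate_fixed (htsub (hl hv)) m]
  rw [hm] at hFl
  have hz := linearIndepOn_iff'.mp (show LinearIndepOn k id t from htind) l.support (fun v => l v ^ p ^ m) hl hFl.symm
  refine Finset.sum_eq_zero fun v hv => ?_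
  have h := hz v hv
  rw [pow_eq_zero_iff (pow_ne_zero _ (Fact.out : p.Prime).ne_zero)] at h
  show l v • v = 0
  rw [h, zero_smul]

end Groth.Agent.S8604
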