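import Groth.Statements.S8607
import Mathlib.AlgebraicGeometry.Morphisms.Proper

set_option autoImplicit false
universe u
open CategoryTheory CategoryTheory.Limits AlgebraicGeometry Opposite
open DEt

namespace Groth.Agent.S8607

/-- The equalizing half of 'the category of compactifications of f is cofiltering': let f : X -> Y be a
morphism of quasi-compact quasi-separated schemes, (Xbar_1, j_1, fbar_1) and (Xbar_2, j_2, fbar_2)
two compactifications of f, and r, s : Xbar_1 -> Xbar_2 two morphisms of compactifications (r ∘ j_1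
= j_2 = s ∘ j_1 and fbar_2 ∘ r = fbar_1 = fbar_2 ∘ s). Then there are a compactification (Xbar, j,
fbar) of f and a proper morphism t : Xbar -> Xbar_1 of compactifications (t ∘ j = j_1, fbar_1 ∘ t =
fbar) with r ∘ t = s ∘ t. -/
theorem result {X Y : Scheme.{u}} [CompactSpace ↥X] [QuasiSeparatedSpace ↥X]
    [CompactSpace ↥Y] [QuasiSeparatedSpace ↥Y] {f : X ⟶ Y} (c₁ c₂ : DEt.Compactification f)
    (r s : c₁.Xbar ⟶ c₂.Xbar) (hr : c₁.j ≫ r = c₂.j) (hs : c₁.j ≫ s = c₂.j)
    (hr' : r ≫ c₂.fbar = c₁.fbar) (hs' : s ≫ c₂.fbar = c₁.fbar) :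
    ∃ (c : DEt.Compactification f) (t : c.Xbar ⟶ c₁.Xbar), IsProper t ∧ c.j ≫ t = c₁.j ∧ t ≫ c₁.fbar = c.fbar ∧
      t ≫ r = t ≫ s := by
    let P := pullback c₂.fbar c₂.fbar
    let rs : c₁.Xbar ⟶ P := pullback.lift r s (hr'.trans hs'.symm)
    let t : pullback (pullback.diagonal c₂.fbar) rs ⟶ c₁.Xbar := pullback.snd _ _
    haveI : IsClosedImmersion (pullback.diagonal c₂.fbar) := IsSeparated.isClosedImmersion_diagonal
    haveI : IsClosedImmersion t := inferInstanceAs (IsClosedImmersion (pullback.snd _ _))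
    have hjw : c₂.j ≫ pullback.diagonal c₂.fbar = c₁.j ≫ rs := by
      apply pullback.hom_ext
      · rw [Category.assoc, Category.assoc, pullback.diagonal_fst, pullback.lift_fst, Category.comp_id, hr]
      · rw [Category.assoc, Category.assoc, pullback.diagonal_snd, pullback.lift_snd, Category.comp_id, hs]
    let jj : X ⟶ pullback (pullback.diagonal c₂.fbar) rs := pullback.lift c₂.j c₁.j hjw
    have hjt : jj ≫ t = c₁.j := pullback.lift_snd _ _ _
    have sq : IsPullback (𝟙 X) jj c₁.j t :=
      IsPullback.of_isLimit' ⟨(Category.id_comp _).trans hjt.symm⟩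
        (PullbackCone.isLimitAux' _ fun s' => ⟨s'.fst, Category.comp_id _,
          (cancel_mono t).1 (by
            show (s'.fst ≫ jj) ≫ t = s'.snd ≫ t
            rw [Category.assoc, hjt]; exact s'.condition),
          fun {m} h1 _ => (Category.comp_id m).symm.trans h1⟩)
    haveI : IsOpenImmersion jj :=
      MorphismProperty.of_isPullback (P := @IsOpenImmersion) sq.flip.flip inferInstance
    refine ⟨⟨_, jj, t ≫ c₁.fbar, inferInstance, inferInstance, by rw [← Category.assoc, hjt]; exact c₁.fac⟩,
      t, inferInstance, hjt, rfl, ?_⟩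
    have h1 := congrArg (· ≫ pullback.fst c₂.fbar c₂.fbar) (pullback.condition (f := pullback.diagonal c₂.fbar) (g := rs))
    have h2 := congrArg (· ≫ pullback.snd c₂.fbar c₂.fbar) (pullback.condition (f := pullback.diagonal c₂.fbar) (g := rs))
    simp only [Category.assoc, pullback.diagonal_fst, pullback.diagonal_snd, pullback.lift_fst,
      pullback.lift_snd, rs] at h1 h2
    exact h1.symm.trans h2

end Groth.Agent.S8607
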