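import Groth.Statements.S8615
import Groth.Agent.H05EGA4.EtCl.SkySum

set_option autoImplicit false
universe u
open CategoryTheory CategoryTheory.Limits AlgebraicGeometry
open SGA4h

namespace Groth.Agent.S8615

/-- Let k be an algebraically closed field and X a connected smooth proper curve over k. For the family,
indexed by the closed points x of X, of direct images i_{x*} ℤ of the constant sheaf ℤ along i_x :
Spec κ(x) → X, any coproduct (given as a colimit cofan) has vanishing etale cohomology in every
degree q > 0. -/
theorem result {k : Type u} [Field k] [IsAlgClosed k]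
    {X : Scheme.{u}} (f : X ⟶ Spec (CommRingCat.of k)) [IsProper f] [SmoothOfRelativeDimension 1 f]
    [ConnectedSpace ↥X]
    (c : Cofan fun x : {x : X // IsClosed ({x} : Set X)} =>
      (EtCoh.push (X.fromSpecResidueField x.1)).obj (EtCoh.const (Spec (X.residueField x.1)) ℤ))
    (hc : IsColimit c) (q : ℕ) (hq : 0 < q) :
    Subsingleton (EtCoh.H X c.pt q) := by
  haveI : CompactSpace X := QuasiCompact.compactSpace_of_compactSpace f
  haveI : IsLocallyNoetherian X := LocallyOfFiniteType.isLocallyNoetherian f
  obtain ⟨m, rfl⟩ := Nat.exists_eq_add_of_le' hq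
  exact Groth.Agent.H05EGA4.EtCl.subsingleton_H_cofan_skyPush f _ c hc m

end Groth.Agent.S8615
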