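import Groth.Statements.S8618
import Groth.Agent.H27ArtSch.Nilpotent

set_option autoImplicit false
universe u
open SGA4h

namespace Groth.Agent.S8618

theorem trace_eq_add_of_isCompl {K M : Type*} [Field K] [AddCommGroup M] [Module K M]
    [FiniteDimensional K M] (f : M →ₗ[K] M) (P Q : Submodule K M) (hc : IsCompl P Q)
    (hP : ∀ x ∈ P, f x ∈ P) (hQ : ∀ x ∈ Q, f x ∈ Q) :
    LinearMap.trace K M f = LinearMap.trace K P (f.restrict hP) + LinearMap.trace K Q (f.restrict hQ) := by
  rw [← LinearMap.trace_prodMap', ← LinearMap.trace_conj' _ (Submodule.prodEquivOfIsCompl P Q hc)]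
  congr 1
  refine LinearMap.ext fun y => ?_
  obtain ⟨⟨s, n⟩, rfl⟩ := (Submodule.prodEquivOfIsCompl P Q hc).surjective y
  rw [LinearEquiv.conj_apply_apply, LinearEquiv.symm_apply_apply]
  simp [map_add]

theorem trace_restrict_eq_zero {K M : Type*} [Field K] [AddCommGroup M] [Module K M]
    [FiniteDimensional K M] (f : M →ₗ[K] M) (Q : Submodule K M) (hQ : ∀ x ∈ Q, f x ∈ Q)
    (h : IsNilpotent (f.restrict hQ)) : LinearMap.trace K Q (f.restrict hQ) = 0 :=
  (LinearMap.isNilpotent_trace_of_isNilpotent h).eq_zero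

set_option maxHeartbeats 2000000 in
open TensorProduct in
/-- Let k be a finite field with q = p^f elements, F₀ ⊂ k its prime field, K an algebraically closed
extension of k, V a finite-dimensional k-vector space and φ a p-linear endomorphism of V (φ(λx) =
λ^p φ(x)); let F = φ^f, a k-linear endomorphism, F_K its K-linear extension to K ⊗_k V and φ_K the
p-linear extension of φ (φ_K(μ ⊗ v) = μ^p ⊗ φ(v)). Then F_K preserves the F₀-subspace W = Ker(φ_K -
1) of K ⊗_k V, W is finite-dimensional over F₀, and the trace of F_K on W (an element of F₀) equals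
the trace of F on V. -/
theorem result {p : ℕ} [Fact p.Prime] (k : Type u) [Field k] [Fintype k]
    [CharP k p] (f : ℕ) (hq : Fintype.card k = p ^ f) (K : Type u) [Field K] [Algebra k K] [IsAlgClosed K]
    (V : Type u) [AddCommGroup V] [Module k V] [FiniteDimensional k V]
    (φ : V →ₛₗ[frobenius k p] V) (F : V →ₗ[k] V) (hF : ∀ x, F x = (⇑φ)^[f] x)
    (φK : K ⊗[k] V →+ K ⊗[k] V) (hφK : ∀ (μ : K) (v : V), φK (μ ⊗ₜ[k] v) = (μ ^ p) ⊗ₜ[k] φ v)
    (W : Submodule (↥(⊥ : Subfield k)) (K ⊗[k] V)) (hW : ∀ y, y ∈ W ↔ φK y = y) :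
    (∀ y, φK y = y → φK (F.baseChange K y) = F.baseChange K y) ∧
    Module.Finite (↥(⊥ : Subfield k)) ↥W ∧
    ∀ (G : ↥W →ₗ[↥(⊥ : Subfield k)] ↥W), (∀ y : ↥W, (↑(G y) : K ⊗[k] V) = F.baseChange K ↑y) →
      algebraMap k K (algebraMap (↥(⊥ : Subfield k)) k (LinearMap.trace (↥(⊥ : Subfield k)) ↥W G)) =
        algebraMap k K (LinearMap.trace k V F) := by
  classical
  have hp : p.Prime := Fact.out
  haveI : CharP K p := charP_of_injective_algebraMap (algebraMap k K).injective p
  haveI : ExpChar K p := ExpChar.prime hp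
  have hf : 0 < f := by
    rcases Nat.eq_zero_or_pos f with rfl | h
    · rw [pow_zero] at hq
      have := Fintype.one_lt_card (α := k)
      omega
    · exact h
  have hsl : ∀ (c : K) y, φK (c • y) = c ^ p • φK y := by
    intro c y
    induction y using TensorProduct.induction_on with
    | zero => simp
    | tmul μ v => rw [smul_tmul', hφK, hφK, smul_tmul', smul_eq_mul, smul_eq_mul, mul_pow]
    | add s t hs ht => simp [smul_add, map_add, hs, ht]
  let T : K ⊗[k] V →ₛₗ[frobenius K p] K ⊗[k] V :=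
    { toFun := φK, map_add' := map_add φK, map_smul' := hsl }
  have hTF : ∀ y, φK (F.baseChange K y) = F.baseChange K (φK y) := by
    intro y
    induction y using TensorProduct.induction_on with
    | zero => simp
    | tmul μ v =>
      rw [LinearMap.baseChange_tmul, hφK, hφK, LinearMap.baseChange_tmul, hF, hF,
        show φ ((⇑φ)^[f] v) = (⇑φ)^[f] (φ v) from Function.Commute.self_iterate φ f v]
    | add s t hs ht => simp [map_add, hs, ht]
  have h0 : ∀ y, φK y = y → φK (F.baseChange K y) = F.baseChange K y := fun y hy => by rw [hTF, hy]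
  obtain ⟨Ms, Mn, hc, hTs, hTn, hbij, r, hr⟩ :=
    H27Misc.fitting_semilinear (frobenius K p) (bijective_frobenius K p).surjective T
  let T' : Ms →ₛₗ[frobenius K p] Ms :=
    { toFun := fun w => ⟨T w, hTs w.2⟩
      map_add' := fun a b => Subtype.ext (map_add T _ _)
      map_smul' := fun a b => Subtype.ext (LinearMap.map_smulₛₗ T _ _) }
  have h1 : Submodule.span K (Set.range ⇑T') = ⊤ := by
    have hs : Function.Surjective T' := fun w => by
      obtain ⟨z, hz, hzw⟩ := hbij.surjOn w.2
      exact ⟨⟨z, hz⟩, Subtype.ext hzw⟩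
    rw [hs.range_eq, Submodule.span_univ]
  obtain ⟨B, hB⟩ := @H26Misc.exists_fixed_basis K _ (frobenius K p) Ms _ _ _ T' h1
    (H27ArtSch.exists_twisted_root p K) (H27ArtSch.exists_root_sub p K)
  have hBfix : ∀ i, φK (B i : K ⊗[k] V) = B i := fun i => congrArg Subtype.val (hB i)
  have hWMs : ∀ y, φK y = y → y ∈ Ms := by
    intro y hy
    obtain ⟨s, hs, n, hn, rfl⟩ := Submodule.mem_sup.mp
      (hc.sup_eq_top ▸ Submodule.mem_top (x := y) : y ∈ Ms ⊔ Mn)
    have hs1 : φK s ∈ Ms := hTs hs
    have hn1 : φK n ∈ Mn := hTn hn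
    rw [map_add] at hy
    have hmem : φK n - n ∈ Ms ⊓ Mn := by
      refine ⟨?_, sub_mem hn1 hn⟩
      have : φK n - n = s - φK s := by rw [sub_eq_sub_iff_add_eq_add, add_comm, hy]
      rw [this]
      exact sub_mem hs hs1
    rw [hc.inf_eq_bot, Submodule.mem_bot, sub_eq_zero] at hmem
    have : n = 0 := by
      rw [← hr n hn]
      exact (Function.iterate_fixed (show T n = n from hmem) r).symm
    rw [this, add_zero]
    exact hs
  have hsmul : ∀ (c : (⊥ : Subfield k)) (y : K ⊗[k] V), c • y = algebraMap k K (c : k) • y :=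
    fun c y => by rw [algebraMap_smul]; rfl
  have hBW : ∀ i, (B i : K ⊗[k] V) ∈ W := fun i => (hW _).mpr (hBfix i)
  let bw : Fin (Module.finrank K Ms) → W := fun i => ⟨(B i : K ⊗[k] V), hBW i⟩
  have hrep : ∀ y : K ⊗[k] V, φK y = y → ∃ c : Fin (Module.finrank K Ms) → (⊥ : Subfield k),
      y = ∑ i, algebraMap k K (c i : k) • (B i : K ⊗[k] V) ∧
        ∀ (h : y ∈ Ms) i, algebraMap k K (c i : k) = B.repr ⟨y, h⟩ i := by
    intro y hy
    have hm := hWMs y hy
    have hT' : T' ⟨y, hm⟩ = ⟨y, hm⟩ := Subtype.ext hy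
    have hfix : ∀ i, B.repr ⟨y, hm⟩ i ^ p = B.repr ⟨y, hm⟩ i := by
      intro i
      have h : T' ⟨y, hm⟩ = ∑ j, (B.repr ⟨y, hm⟩ j ^ p) • B j := by
        conv_lhs => rw [← B.sum_repr ⟨y, hm⟩]
        rw [map_sum]
        exact Finset.sum_congr rfl fun j _ => by rw [LinearMap.map_smulₛₗ, hB, frobenius_def]
      rw [hT'] at h
      conv_rhs => rw [h, B.repr_sum_self]
    have hin : ∀ i, ∃ c : (⊥ : Subfield k), algebraMap k K (c : k) = B.repr ⟨y, hm⟩ i := by
      intro i
      have h := (Subfield.mem_bot_iff_pow_eq_self K p).mpr (hfix i)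
      rw [← Subfield.map_bot (algebraMap k K)] at h
      obtain ⟨c, hc, he⟩ := h
      exact ⟨⟨c, hc⟩, he⟩
    choose c hc' using hin
    refine ⟨c, ?_, fun _ => hc'⟩
    have h := congrArg Subtype.val (B.sum_repr ⟨y, hm⟩)
    rw [Submodule.coe_sum] at h
    refine h.symm.trans (Finset.sum_congr rfl fun i _ => ?_)
    rw [hc', Submodule.coe_smul]
  have hspan : ⊤ ≤ Submodule.span (↥(⊥ : Subfield k)) (Set.range bw) := by
    rintro ⟨y, hy⟩ -
    obtain ⟨c, hc', -⟩ := hrep y ((hW y).mp hy)
    rw [Submodule.mem_span_range_iff_exists_fun]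
    refine ⟨c, Subtype.ext ?_⟩
    rw [Submodule.coe_sum]
    refine (Finset.sum_congr rfl fun i _ => ?_).trans hc'.symm
    exact hsmul (c i) _
  have hli : LinearIndependent (↥(⊥ : Subfield k)) bw := by
    rw [Fintype.linearIndependent_iffₛ]
    intro c c' hcc i
    have h := congrArg Subtype.val hcc
    rw [Submodule.coe_sum, Submodule.coe_sum] at h
    have h2 : ∑ j, algebraMap k K (c j : k) • B j = ∑ j, algebraMap k K (c' j : k) • B j := by
      apply Subtype.ext
      rw [Submodule.coe_sum, Submodule.coe_sum]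
      refine (Finset.sum_congr rfl fun j _ => (hsmul (c j) (B j : K ⊗[k] V)).symm).trans (h.trans ?_)
      exact Finset.sum_congr rfl fun j _ => hsmul (c' j) (B j : K ⊗[k] V)
    have h3 := congrArg (fun z => B.repr z i) h2
    simp only [B.repr_sum_self] at h3
    exact Subtype.ext ((algebraMap k K).injective h3)
  let BW := Module.Basis.mk hli hspan
  refine ⟨h0, Module.Finite.of_basis BW, fun G hG => ?_⟩
  have hbw : ∀ i, BW i = bw i := fun i => Module.Basis.mk_apply _ _ i
  let FK := F.baseChange K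
  have hFn : ∀ n ∈ Mn, FK n ∈ Mn := by
    intro n hn
    obtain ⟨s, hs, m, hm, he⟩ := Submodule.mem_sup.mp
      (hc.sup_eq_top ▸ Submodule.mem_top (x := FK n) : FK n ∈ Ms ⊔ Mn)
    have hit : ∀ j y, (⇑T)^[j] (FK y) = FK ((⇑T)^[j] y) := fun j y => by
      induction j with
      | zero => rfl
      | succ j ih => rw [Function.iterate_succ_apply', ih, Function.iterate_succ_apply']; exact hTF _
    have hadd : ∀ j (a b : K ⊗[k] V), (⇑T)^[j] (a + b) = (⇑T)^[j] a + (⇑T)^[j] b := fun j =>
      iterate_map_add T.toAddMonoidHom j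
    have h := hit r n
    rw [hr n hn, map_zero, ← he, hadd, hr m hm, add_zero] at h
    have hinj : ∀ j, ∀ a ∈ Ms, (⇑T)^[j] a = 0 → a = 0 := by
      intro j
      induction j with
      | zero => exact fun a _ h => h
      | succ j ih =>
        intro a ha h
        rw [Function.iterate_succ_apply] at h
        exact hbij.injOn ha Ms.zero_mem ((ih _ (hTs ha) h).trans (map_zero T).symm)
    rw [← he, hinj r s hs h, zero_add]
    exact hm
  have hFB : ∀ i, φK (FK (B i : K ⊗[k] V)) = FK (B i : K ⊗[k] V) := fun i => h0 _ (hBfix i)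
  have hFs : ∀ s ∈ Ms, FK s ∈ Ms := by
    intro s hs
    have h := congrArg Subtype.val (B.sum_repr ⟨s, hs⟩)
    rw [Submodule.coe_sum] at h
    have h' : FK s = FK (∑ i, ((B.repr ⟨s, hs⟩ i • B i : Ms) : K ⊗[k] V)) := by rw [h]
    rw [h', map_sum]
    refine Submodule.sum_mem _ fun i _ => ?_
    rw [Submodule.coe_smul, map_smul]
    exact Ms.smul_mem _ (hWMs _ (hFB i))
  let FS : Ms →ₗ[K] Ms := FK.restrict hFs
  let FN : Mn →ₗ[K] Mn := FK.restrict hFn
  have htr : LinearMap.trace K _ FK = LinearMap.trace K _ FS + LinearMap.trace K _ FN := by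
    exact trace_eq_add_of_isCompl FK Ms Mn hc hFs hFn
  have hnil : IsNilpotent FN := by
    refine ⟨r, LinearMap.ext fun ⟨n, hn⟩ => Subtype.ext ?_⟩
    have hpow : ∀ j (a : Mn), ((FN ^ j) a : K ⊗[k] V) = (FK ^ j) a := fun j a => by
      induction j with
      | zero => rfl
      | succ j ih => rw [pow_succ', pow_succ', Module.End.mul_apply, Module.End.mul_apply, ← ih]; rfl
    rw [hpow]
    let g : K →ₗ[k] K :=
      { toFun := fun x => x ^ (p ^ (f * r))
        map_add' := fun a b => add_pow_expChar_pow a b p (f * r)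
        map_smul' := fun c a => by
          simp only [RingHom.id_apply, Algebra.smul_def, mul_pow, ← map_pow]
          rw [pow_mul, ← hq, FiniteField.pow_card_pow] }
    have hinjg : Function.Injective g := fun a b h => iterateFrobenius_inj K p (f * r) h
    have hkey : ∀ y : K ⊗[k] V, (⇑T)^[f * r] y = g.rTensor V ((FK ^ r) y) := by
      have hiter : ∀ j (μ : K) (v : V), (⇑T)^[j] (μ ⊗ₜ[k] v) = (μ ^ p ^ j) ⊗ₜ[k] (⇑φ)^[j] v := by
        intro j μ v
        induction j with
        | zero => simp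
        | succ j ih =>
          rw [Function.iterate_succ_apply', ih, Function.iterate_succ_apply', pow_succ, pow_mul]
          exact hφK _ _
      have hFK : ∀ j (μ : K) (v : V), (FK ^ j) (μ ⊗ₜ[k] v) = μ ⊗ₜ[k] (⇑φ)^[f * j] v := by
        intro j μ v
        induction j with
        | zero => simp
        | succ j ih =>
          rw [pow_succ', Module.End.mul_apply, ih, LinearMap.baseChange_tmul, hF,
            ← Function.iterate_add_apply, Nat.mul_succ, Nat.add_comm]
      intro y
      induction y using TensorProduct.induction_on with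
      | zero => rw [map_zero, map_zero]; exact iterate_map_zero T.toAddMonoidHom _
      | tmul μ v => rw [hiter, hFK, LinearMap.rTensor_tmul]; rfl
      | add s t hs ht => rw [map_add, map_add, ← hs, ← ht]; exact iterate_map_add T.toAddMonoidHom _ s t
    have hz : (⇑T)^[f * r] n = 0 := by
      obtain ⟨d, hd⟩ : ∃ d, f * r = d + r := ⟨f * r - r, by have := Nat.le_mul_of_pos_left r hf; omega⟩
      rw [hd, Function.iterate_add_apply, hr n hn]
      exact iterate_map_zero T.toAddMonoidHom d
    rw [hkey] at hz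
    exact Module.Flat.rTensor_preserves_injective_linearMap g hinjg (hz.trans (map_zero _).symm)
  rw [← LinearMap.trace_baseChange, htr,
    show LinearMap.trace K _ FN = 0 from trace_restrict_eq_zero FK Mn hFn hnil, add_zero,
    LinearMap.trace_eq_matrix_trace _ BW, LinearMap.trace_eq_matrix_trace _ B]
  simp only [Matrix.trace, Matrix.diag, map_sum]
  refine Finset.sum_congr rfl fun i _ => ?_
  rw [LinearMap.toMatrix_apply, LinearMap.toMatrix_apply, hbw]
  have hGi : (G (bw i) : K ⊗[k] V) = FK (B i : K ⊗[k] V) := hG _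
  have h := congrArg Subtype.val (BW.sum_repr (G (bw i)))
  rw [Submodule.coe_sum, hGi] at h
  have h2 : FS (B i) = ∑ j, algebraMap k K (BW.repr (G (bw i)) j : k) • B j := by
    apply Subtype.ext
    rw [Submodule.coe_sum]
    refine h.symm.trans (Finset.sum_congr rfl fun j _ => ?_)
    rw [hbw]
    exact hsmul _ _
  rw [h2, B.repr_sum_self]
  rfl

end Groth.Agent.S8618
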