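import Groth.Statements.S8619
import Groth.Agent.H15Site.ModShriek.FlatStalk

set_option autoImplicit false
set_option linter.style.haveILetI false
set_option backward.isDefEq.respectTransparency false
set_option backward.isDefEq.respectTransparency.types false
universe u
open CategoryTheory CategoryTheory.Limits AlgebraicGeometry
open SGA4h

namespace Groth.Agent.S8619

/-- Let X be a Noetherian scheme, Λ a commutative Noetherian ring and K a cochain complex of etale
sheaves of Λ-modules on X whose cohomology sheaves are constructible and vanish in large degrees.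
Then there are a cochain complex K', zero in large degrees, whose components are constructible
sheaves of Λ-modules with flat geometric stalks, and a quasi-isomorphism K' → K. (The published
statement allows a left-Noetherian, possibly non-commutative Λ.) -/
theorem result {Λ : Type (u + 1)} [CommRing Λ]
    [IsNoetherianRing Λ] {X : Scheme.{u}} [IsNoetherian X]
    (K : CochainComplex (EtModW.Mod Λ X) ℤ)
    (hK : ∀ i : ℤ, EtModW.IsConstructible Λ (K.homology i))
    (hb : ∃ m : ℤ, ∀ i : ℤ, m ≤ i → IsZero (K.homology i)) :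
    ∃ (K' : CochainComplex (EtModW.Mod Λ X) ℤ) (φ : K' ⟶ K), QuasiIso φ ∧
      (∃ m : ℤ, ∀ i : ℤ, m ≤ i → IsZero (K'.X i)) ∧
      (∀ i : ℤ, EtModW.IsConstructible Λ (K'.X i)) ∧
      ∀ (i : ℤ) (Ω : Type u) [Field Ω] [IsSepClosed Ω] (ξ : Spec (CommRingCat.of Ω) ⟶ X),
        Module.Flat Λ ((EtModW.stalk Λ ξ).obj (K'.X i)) := by
  open scoped Groth.Agent.H18Et in
  obtain ⟨m, hm⟩ := hb
  obtain ⟨C, f, hf, hC, hC0⟩ := Groth.Agent.H15Site.LeftRes.exists_quasiIso Groth.Agent.H15Site.ModShriek.hyp_leftRes
    hK (m - 1) (fun i hi => hm i (by omega))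
  exact ⟨C, f, hf, ⟨m, fun i hi => hC0 i (by omega)⟩, fun i => Groth.Agent.H15Site.ModShriek.IsGen.isConstructible (hC i),
    fun i Ω _ _ ξ => Groth.Agent.H15Site.ModShriek.flat_stalk_of_isGen (hC i) ξ⟩

end Groth.Agent.S8619
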