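import Groth.Statements.S8625
import Mathlib.Algebra.Group.Conj
import Mathlib.Tactic.Group

set_option autoImplicit false
universe u
open SGA4h

namespace Groth.Agent.S8625

/-- Let G be a group with an endomorphism F, and assume the Lang map g ↦ F(g)g⁻¹ is surjective (for
instance the geometric points of a connected algebraic group over F_q with its Frobenius, where the
surjectivity is the classical result of Lang; the other Lang map g ↦ g⁻¹F(g) is then surjective too,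
by g ↦ g⁻¹). Let G^F be the subgroup of fixed points of F. (i) If F(g)g⁻¹ is fixed by F then so is
g⁻¹F(g). (ii), (iii) There is a bijection of the set of conjugacy classes of G^F with itself
sending, for every g with F(g)g⁻¹ ∈ G^F, the class of F(g)g⁻¹ to the class of g⁻¹F(g) (in particular
the latter class depends only on the former). -/
theorem result {G : Type u} [Group G] (F : G →* G)
    (hL : Function.Surjective fun g : G => F g * g⁻¹) :
    (∀ g : G, F (F g * g⁻¹) = F g * g⁻¹ → F (g⁻¹ * F g) = g⁻¹ * F g) ∧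
    ∃ φ : ConjClasses ↥(F.eqLocus (MonoidHom.id G)) → ConjClasses ↥(F.eqLocus (MonoidHom.id G)),
      Function.Bijective φ ∧
      ∀ (g : G) (h : F (F g * g⁻¹) = F g * g⁻¹) (h' : F (g⁻¹ * F g) = g⁻¹ * F g),
        φ (ConjClasses.mk (⟨F g * g⁻¹, h⟩ : ↥(F.eqLocus (MonoidHom.id G)))) =
          ConjClasses.mk (⟨g⁻¹ * F g, h'⟩ : ↥(F.eqLocus (MonoidHom.id G))) := by
  classical
  let H := F.eqLocus (MonoidHom.id G)
  have hfix : ∀ x : H, F (x : G) = x := fun x => x.2
  have h1 : ∀ g : G, F (F g * g⁻¹) = F g * g⁻¹ → F (g⁻¹ * F g) = g⁻¹ * F g := by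
    intro g h
    rw [map_mul, map_inv] at h ⊢
    rw [mul_inv_eq_iff_eq_mul.1 h]
    group
  refine ⟨h1, ?_⟩
  choose sec hsec using hL
  have hsec' : ∀ x : H, F (sec x) * (sec (x : G))⁻¹ = (x : G) := fun x => hsec x
  let f : H → H := fun x => ⟨(sec (x : G))⁻¹ * F (sec x), h1 _ (by rw [hsec' x]; exact hfix x)⟩
  have key : ∀ (g : G) (h : F (F g * g⁻¹) = F g * g⁻¹) (h' : F (g⁻¹ * F g) = g⁻¹ * F g)
      (x : H), IsConj x (⟨F g * g⁻¹, h⟩ : H) → IsConj (f x) (⟨g⁻¹ * F g, h'⟩ : H) := by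
    intro g h h' x hx
    obtain ⟨y, hy⟩ := isConj_iff.1 hx
    have hy' : (y : G) * x * (y : G)⁻¹ = F g * g⁻¹ := congrArg Subtype.val hy
    let z : G := (sec (x : G))⁻¹ * (y : G)⁻¹ * g
    have hFs : F (sec x) = (x : G) * sec x := mul_inv_eq_iff_eq_mul.1 (hsec' x)
    have hFg : F g = (y : G) * x * (y : G)⁻¹ * g := (mul_inv_eq_iff_eq_mul.1 hy'.symm)
    have hz : F z = z := by
      simp only [z, map_mul, map_inv, hFs, hfix y, hFg]
      group
    refine isConj_iff.2 ⟨(⟨z, hz⟩ : H)⁻¹, Subtype.ext ?_⟩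
    show z⁻¹ * ((sec (x : G))⁻¹ * F (sec x)) * z⁻¹⁻¹ = g⁻¹ * F g
    simp only [z, hFs, hFg]
    group
  let φ : ConjClasses H → ConjClasses H := Quotient.lift (fun x => ConjClasses.mk (f x)) (by
    intro a b hab
    rw [ConjClasses.mk_eq_mk_iff_isConj]
    have hb : F (F (sec b) * (sec (b : G))⁻¹) = F (sec b) * (sec (b : G))⁻¹ := by
      rw [hsec' b]; exact hfix b
    exact key (sec b) hb (h1 _ hb) a (by
      have : (⟨F (sec b) * (sec (b : G))⁻¹, hb⟩ : H) = b := Subtype.ext (hsec' b)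
      rw [this]; exact hab))
  have hφ : ∀ (g : G) (h : F (F g * g⁻¹) = F g * g⁻¹) (h' : F (g⁻¹ * F g) = g⁻¹ * F g),
      φ (ConjClasses.mk (⟨F g * g⁻¹, h⟩ : H)) = ConjClasses.mk (⟨g⁻¹ * F g, h'⟩ : H) := fun g h h' =>
    ConjClasses.mk_eq_mk_iff_isConj.2 (key g h h' _ (IsConj.refl _))
  refine ⟨φ, ⟨?_, ?_⟩, hφ⟩
  · intro a b hab
    induction a using Quotient.inductionOn with | _ a => ?_
    induction b using Quotient.inductionOn with | _ b => ?_
    have hab' : IsConj (f a) (f b) := ConjClasses.mk_eq_mk_iff_isConj.1 hab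
    obtain ⟨w, hw⟩ := isConj_iff.1 hab'
    have hw' : (w : G) * ((sec (a : G))⁻¹ * F (sec a)) * (w : G)⁻¹ = (sec (b : G))⁻¹ * F (sec b) :=
      congrArg Subtype.val hw
    let y : G := sec (b : G) * w * (sec (a : G))⁻¹
    have hFa : F (sec a) = (a : G) * sec a := mul_inv_eq_iff_eq_mul.1 (hsec' a)
    have hFb : F (sec b) = sec (b : G) * ((w : G) * ((sec (a : G))⁻¹ * F (sec a)) * (w : G)⁻¹) := by
      rw [hw']; group
    have hy : F y = y := by
      simp only [y, map_mul, map_inv, hfix w, hFb, hFa]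
      group
    refine ConjClasses.mk_eq_mk_iff_isConj.2 (isConj_iff.2 ⟨⟨y, hy⟩, Subtype.ext ?_⟩)
    show y * (a : G) * y⁻¹ = (b : G)
    rw [← hsec' b, hFb, hFa]
    simp only [y]
    group
  · intro c
    induction c using Quotient.inductionOn with | _ w => ?_
    obtain ⟨h0, hh0⟩ : ∃ h0 : G, F h0 * h0⁻¹ = (w : G)⁻¹ := ⟨_, hsec (w : G)⁻¹⟩
    have hFh : F h0 = (w : G)⁻¹ * h0 := mul_inv_eq_iff_eq_mul.1 hh0
    have hg : (h0⁻¹)⁻¹ * F h0⁻¹ = (w : G) := by rw [map_inv, hFh]; group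
    have hg2 : F (F h0⁻¹ * (h0⁻¹)⁻¹) = F h0⁻¹ * (h0⁻¹)⁻¹ := by
      simp only [map_inv, map_mul, hFh, hfix w]
      group
    refine ⟨ConjClasses.mk ⟨_, hg2⟩, ?_⟩
    rw [hφ h0⁻¹ hg2 (h1 _ hg2)]
    exact congrArg ConjClasses.mk (Subtype.ext hg)

end Groth.Agent.S8625
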