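import Groth.Statements.S8630
import Groth.Agent.H27Zeta.Fatou

set_option autoImplicit false
open Zeta

namespace Groth.Agent.S8630

/-- Fatou's lemma: let P, Q ∈ ℚ[T] be coprime with constant coefficient 1, and suppose the power series
P/Q has integer coefficients, i.e. P = Q·Z in ℚ⟦T⟧ for a power series Z with coefficients in ℤ. Then
P and Q have integer coefficients. -/
theorem result (P Q : Polynomial ℚ)
    (hPQ : IsCoprime P Q) (hP : P.coeff 0 = 1) (hQ : Q.coeff 0 = 1) (Z : PowerSeries ℤ)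
    (hZ : (P : PowerSeries ℚ) = (Q : PowerSeries ℚ) * PowerSeries.map (Int.castRingHom ℚ) Z) :
    (∃ P₀ : Polynomial ℤ, P₀.map (Int.castRingHom ℚ) = P) ∧
      ∃ Q₀ : Polynomial ℤ, Q₀.map (Int.castRingHom ℚ) = Q := by
  exact Groth.Agent.H27Zeta.fatou P Q hPQ hQ Z hZ

end Groth.Agent.S8630
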