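import Groth.Statements.S8650
import Groth.Agent.H27Lambda.Basic

set_option autoImplicit false
universe u
open Finset
open LambdaRing

namespace Groth.Agent.S8650

/-- Let K be a pre-λ-ring (λ^0 = 1, λ^1 = id, additive formula) in which λ^k(1) = 0 for all k ≥ 2. Then
for every x ∈ K and every n, λ^n(x + n − 1) = (−1)^n Σ_{i=0}^{n} (−1)^i λ^i(x + n). (The published
statement is for a λ-ring; its proof uses only additivity and λ_t(1) = 1 + t, the hypotheses taken
here.) -/
theorem result (K : Type u) [CommRing K] [LambdaRing.LambdaOps K]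
    (h1 : ∀ k : ℕ, 2 ≤ k → LambdaRing.LambdaOps.lam k (1 : K) = 0) (n : ℕ) (x : K) :
    LambdaRing.LambdaOps.lam n (x + (n : K) - 1) =
      (-1 : K) ^ n * ∑ i ∈ range (n + 1), (-1 : K) ^ i * LambdaRing.LambdaOps.lam i (x + (n : K)) := by
  have hinv : PowerSeries.mk (fun k => (-1 : K) ^ k) * (1 + PowerSeries.X : PowerSeries K) = 1 := by
    have h := PowerSeries.invOfUnit_mul (1 + PowerSeries.X : PowerSeries K) 1 (by simp)
    have h' := H27Lambda.invOfUnit_one_sub (-1 : K)
    simp only [map_neg, map_one, neg_mul, one_mul, sub_neg_eq_add] at h'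
    rwa [h'] at h
  have hy : lamSeries (x + (n : K) - 1) =
      PowerSeries.mk (fun k => (-1 : K) ^ k) * lamSeries (x + (n : K)) := by
    conv_rhs => rw [← sub_add_cancel (x + (n : K)) 1, H27Lambda.lamSeries_add,
      H27Lambda.lamSeries_one h1, mul_comm (lamSeries (x + (n : K) - 1)), ← mul_assoc, hinv, one_mul]
  rw [← H27Lambda.coeff_lamSeries, hy, mul_comm, PowerSeries.coeff_mul,
    Finset.Nat.sum_antidiagonal_eq_sum_range_succ_mk, Finset.mul_sum]
  refine Finset.sum_congr rfl fun i hi => ?_
  rw [H27Lambda.coeff_lamSeries, PowerSeries.coeff_mk, ← mul_assoc, ← pow_add]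
  rw [Finset.mem_range] at hi
  rw [show n + i = (n - i) + 2 * i by omega, pow_add, pow_mul]
  simp [mul_comm]

end Groth.Agent.S8650
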