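import Groth.Statements.S8655
import Groth.Agent.H17.KoszComp.Scheme
-- import your own Groth.Agent.* helpers here

set_option autoImplicit false
universe u
open CategoryTheory CategoryTheory.Limits AlgebraicGeometry
open RegImm

namespace Groth.Agent.S8655

/-- Let i : Y ⟶ X be a Koszul-regular immersion of constant codimension n and j : Z ⟶ Y a Koszul-regular
immersion of constant codimension m (around every point the ideal is generated by a Koszul-regular
sequence of that length). Then j ≫ i is a Koszul-regular immersion of constant codimension m + n. -/
theorem result {X Y Z : Scheme.{u}} (n m : ℕ) (i : Y ⟶ X) (j : Z ⟶ Y)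
    (hi : RegImm.IsRegularImmersionOfCodim .koszul n i) (hj : RegImm.IsRegularImmersionOfCodim .koszul m j) :
    RegImm.IsRegularImmersionOfCodim .koszul (m + n) (j ≫ i) := by
  exact Groth.Agent.H17.KoszComp.comp_isRegularImmersionOfCodim n m i j hi hj

end Groth.Agent.S8655
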