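import Groth.Statements.S8658
import Groth.Agent.H8Props.KoszImm.Descent

set_option autoImplicit false
universe u
open CategoryTheory CategoryTheory.Limits AlgebraicGeometry
open Synt

namespace Groth.Agent.S8658

/-- Let f : X ⟶ Y be a local complete intersection morphism in the factorisation sense (around each
point of X, f is locally of finite type and factors as a Koszul-regular immersion followed by a
smooth morphism), and let g : Y' ⟶ Y be flat. Then for any cartesian square, the base change f' : X'
⟶ Y' is a local complete intersection morphism in the same sense. -/
theorem result {X Y X' Y' : Scheme.{u}} (f : X ⟶ Y) (g : Y' ⟶ Y) [Flat g]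
    (f' : X' ⟶ Y') (g' : X' ⟶ X) (hsq : IsPullback g' f' f g)
    (hf : ∀ x : X, Synt.IsKoszulAt f x) : ∀ x' : X', Synt.IsKoszulAt f' x' := by
  exact fun x' => Groth.Agent.H8Props.KoszImm.isKoszulAt_baseChange f g f' g' hsq x' (hf (g' x'))

end Groth.Agent.S8658
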