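import Groth.Statements.S8659
import Groth.Agent.H16Derived.BlowKoszul.Main

set_option autoImplicit false
universe u
open CategoryTheory CategoryTheory.Limits AlgebraicGeometry
open RegImm

namespace Groth.Agent.S8659

/-- Let i : Y ⟶ X be a Koszul-regular closed immersion with ideal J whose image is nowhere dense in X
(the complement of the image of i is dense; given Koszul-regularity this says that the local
Koszul-regular generating sequences of J have length ≥ 1, i.e. Y has codimension ≥ 1 in X at each of
its points), let f : X' ⟶ X be a blowing up of X along Y (characterised by the universal property
with respect to J), and let J' = J O_{X'} be the exceptional ideal, so that J'^n plays the role of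
O_{X'}(n). Then (i) R^q f_*(J'^n) = 0 for all n ≥ 0 and q ≥ 1 (higher direct images of the
underlying abelian sheaf of the ideal sheaf J'^n viewed as an O_{X'}-module), and (ii, case n = 0)
the unit O_X ⟶ f_* f^* O_X = f_* O_{X'} is an isomorphism. (The published statement has no
codimension condition: where Y contains a nonempty open subset of X the ideal J vanishes on it, the
blowing up is empty over it and (ii) fails — for X a point and Y = X, X' is the empty scheme and f_*
O_{X'} = 0; the published proof uses that the exceptional divisor P(N) maps onto Y, i.e. that the
conormal module N has rank ≥ 1 everywhere, which is the nowhere density assumed in this row. The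
published statement also identifies f_*(J'^n) with J^n for every n ≥ 1; this row does not state that
part.) -/
theorem result {X Y X' : Scheme.{u}} (i : Y ⟶ X) [IsClosedImmersion i]
    (hi : RegImm.IsRegularImmersion .koszul i) (hdense : Dense (Set.range i)ᶜ) (f : X' ⟶ X) (hf : BlowUp.IsBlowUp f i.ker) :
    (∀ n q : ℕ, 1 ≤ q → IsZero ((Coh.RpushAb f q).obj (Coh.toAb (ClSub.idealMod ((BlowUp.exceptional f i.ker) ^ n))))) ∧
    IsIso ((Scheme.Modules.pullbackPushforwardAdjunction f).unit.app (Coh.structureModule X)) := by
  exact H16Derived.BlowKoszul.main i f hi hdense hf

end Groth.Agent.S8659
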