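import Groth.Statements.S8664
import Groth.Agent.S8669
import Groth.Agent.H16Derived.BaseChange.RegFlat
import Groth.Agent.H16Derived.BaseChange.PnModel
import Groth.Agent.H16Derived.KFlat.PerfAmp

set_option autoImplicit false
universe v u
open CategoryTheory CategoryTheory.Limits AlgebraicGeometry
attribute [local instance] HasDerivedCategory.standard
open SGA6

namespace Groth.Agent.S8664

open Groth.Agent.H22Alg Groth.Agent.H22Alg.PB TopologicalSpace
open Groth.Agent.H16Derived Groth.Agent.H16Derived.KFlat.Stalk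
attribute [local instance 10000] Groth.Agent.H10Coh.hasSheafifyAb Groth.Agent.H10Coh.hasWeakSheafifyAb Groth.Agent.H10Coh.hasExtAb Groth.Agent.H10Coh.enoughInjAb

theorem projSpaceMap_id (n : ℕ) (A : Scheme.{u}) : KRR.projSpaceMap n (𝟙 A) = 𝟙 _ := by
  unfold KRR.projSpaceMap
  apply pullback.hom_ext
  · simp only [pullback.lift_fst, Category.comp_id]
    exact (Category.id_comp _).symm
  · simp only [pullback.lift_snd, Category.comp_id]
    exact (Category.id_comp _).symm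

/-- High twists over an affine base. -/
theorem exists_bound {r : ℕ} (W : Scheme.{u}) [IsAffine W] (G : (KRR.PY r W).Modules) (hG : CohB1.IsFP G)
    (hfl : FlatMod.IsFlatOver (KRR.pr r W) G) :
    ∃ m₀ : ℕ, ∀ m : ℕ, m₀ ≤ m → KRR.IsRegSheaf r W (KRR.twF r W (m : ℤ) G) ∧
      FlatMod.IsFinLocFree ((Scheme.Modules.pushforward (KRR.pr r W)).obj (KRR.twF r W (m : ℤ) G)) := by
  let σ : Spec (CommRingCat.of Γ(W, ⊤)) ⟶ W := W.isoSpec.inv
  obtain ⟨Y, hY, φ, F₀, hF₀, hfl₀, ⟨e⟩⟩ := BaseChange.PnModel.exists_flat_model r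
    ((Scheme.Modules.pullback (KRR.projSpaceMap r σ)).obj G) (H06EGA9.isFP_pullback _ hG)
    (BaseChange.isFlatOver_pullback (KBaseChangeCl.isPullback_map σ) hfl)
  haveI := hY
  haveI := CMKer.isProper_pr r Y
  haveI : IsLocallyNoetherian (KRR.PY r Y) := LocallyOfFiniteType.isLocallyNoetherian (KRR.pr r Y)
  let θ : W ⟶ Y := W.isoSpec.hom ≫ φ
  have h1 : KRR.projSpaceMap r W.isoSpec.hom ≫ KRR.projSpaceMap r σ = 𝟙 _ := by
    rw [BaseChange.PnModel.projSpaceMap_comp]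
    exact (congrArg _ W.isoSpec.hom_inv_id).trans (projSpaceMap_id r W)
  let e' : (BCReg.Ψ r θ).obj F₀ ≅ G :=
    (Scheme.Modules.pullbackCongr (BaseChange.PnModel.projSpaceMap_comp r W.isoSpec.hom φ).symm).app F₀ ≪≫
      ((Scheme.Modules.pullbackComp (KRR.projSpaceMap r W.isoSpec.hom) (KRR.projSpaceMap r φ)).app F₀).symm ≪≫
      (Scheme.Modules.pullback (KRR.projSpaceMap r W.isoSpec.hom)).mapIso e ≪≫
      (Scheme.Modules.pullbackComp (KRR.projSpaceMap r W.isoSpec.hom) (KRR.projSpaceMap r σ)).app G ≪≫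
      (Scheme.Modules.pullbackCongr h1).app G ≪≫ (Scheme.Modules.pullbackId _).app G
  obtain ⟨m₀, hm₀⟩ := RegBundle.exists_reg_twist hF₀
  refine ⟨m₀, fun m hm => ?_⟩
  have hc : Coh.IsCoh (KRR.twF r Y (m : ℤ) F₀) := H10Coh.isCoh_of_iso (H10Coh.Tw.commIso F₀ _)
    (H11Ample.isCoh_tensor hF₀ (RegSheaf.isInvertible_twistOver (n := r) (T := Y) (m : ℤ)))
  have hf := BaseChange.RegFlat.isFlatOver_twF (m : ℤ) hfl₀
  obtain ⟨t⟩ := BCReg.nonempty_pull_twF (n := r) θ (m : ℤ) F₀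
  let t' := t ≪≫ ((DCoh.tensorBi (X := KRR.PY r W)).obj _).mapIso e'
  exact ⟨fun i hi => CMReg.van_iso (((DCoh.tensorBi (X := KRR.PY r W)).obj (Twist.twistOver r W (-(i : ℤ)))).mapIso t')
      (BaseChange.RegFlat.reg_pull θ hc hf (hm₀ m hm) i hi),
    isFinLocFree_of_iso ((Scheme.Modules.pushforward (KRR.pr r W)).mapIso t')
      (BaseChange.RegFlat.finLocFree_push_pull θ hc hf (hm₀ m hm))⟩

/-- The chart of `P^r_S` over an open. -/
theorem exists_chart {S : Scheme.{u}} (r : ℕ) (U : S.Opens) :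
    ∃ c : Chart r (KRR.pr r S) (fun d => Twist.twistOver r S d),
      c.U = U ∧ IsPullback c.j (KRR.pr r (↑c.U : Scheme.{u})) (KRR.pr r S) c.U.ι := by
  have h := KBaseChangeCl.isPullback_map (n := r) U.ι
  let ψ := KRR.projSpaceMap r U.ι
  haveI : IsOpenImmersion ψ := MorphismProperty.of_isPullback (P := @IsOpenImmersion) h.flip inferInstance
  refine ⟨⟨U, ψ, inferInstance, h.w, ?_, BCReg.nonempty_pull_twist (n := r) U.ι (1 : ℤ)⟩, rfl, h⟩
  refine SetLike.coe_injective ?_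
  show Set.range ψ = (KRR.pr r S) ⁻¹' (U : Set S)
  rw [show ψ = h.isoPullback.hom ≫ pullback.fst _ _ from (h.isoPullback_hom_fst).symm, ← Scheme.Hom.coe_opensRange,
    Scheme.Hom.opensRange_comp_of_isIso, Scheme.Hom.coe_opensRange, Scheme.Pullback.range_fst, Scheme.Opens.range_ι]

/-- Let S be a quasi-compact scheme, f : P = P^r_S ⟶ S the projection, and F a finitely presented
O_P-module which is flat over S (all stalks of F flat over the corresponding local rings of S). Then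
there is n₀ such that for all n ≥ n₀ one has R^q f_*(F(n)) = 0 for every q ≥ 1 (higher direct images
of the underlying abelian sheaf) and f_*(F(n)) is finite locally free on S, with F(n) = O_P(n) ⊗ F.
(The published statement is for the projective bundle of any finite locally free O_S-module and also
asserts (iii) that ⊕_{n ≥ n₀} f_*(F(n)) is a finitely presented graded module over the symmetric
algebra; this row takes the trivial bundle and states (i), (ii) only.) -/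
theorem result (S : Scheme.{u}) [CompactSpace ↥S] (r : ℕ)
    (F : (KRR.PY r S).Modules) (hF : CohB1.IsFP F) (hfl : FlatMod.IsFlatOver (KRR.pr r S) F) :
    ∃ n₀ : ℕ, ∀ n : ℕ, n₀ ≤ n →
      (∀ q : ℕ, 1 ≤ q → IsZero ((Coh.RpushAb (KRR.pr r S) q).obj (Coh.toAb (KRR.twF r S (n : ℤ) F)))) ∧
      FlatMod.IsFinLocFree ((Scheme.Modules.pushforward (KRR.pr r S)).obj (KRR.twF r S (n : ℤ) F)) := by
  have hπ := Groth.Agent.S8669.isPn_trivial S r
  haveI := CMKer.isProper_pr r S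
  have hq : Coh.IsQCoh F := H29Fitt.isQCoh_of_isFP F hF
  have hex : ∀ x : S, ∃ c : Chart r (KRR.pr r S) (fun d => Twist.twistOver r S d), x ∈ c.U ∧ IsAffineOpen c.U ∧
      IsPullback c.j (KRR.pr r (↑c.U : Scheme.{u})) (KRR.pr r S) c.U.ι := fun x => by
    obtain ⟨_, ⟨U, hU, rfl⟩, hxU, -⟩ :=
      S.isBasis_affineOpens.exists_subset_of_mem_open (Set.mem_univ x) isOpen_univ
    obtain ⟨c, hc, hsq⟩ := exists_chart r U
    exact ⟨c, hc ▸ hxU, hc ▸ hU, hsq⟩
  choose c hxc hca hsq using hex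
  have key : ∀ x : S, ∃ m₀ : ℕ, ∀ m : ℕ, m₀ ≤ m →
      KRR.IsRegSheaf r (↑(c x).U : Scheme.{u}) (KRR.twF r (↑(c x).U : Scheme.{u}) (m : ℤ) ((c x).res F)) ∧
      FlatMod.IsFinLocFree ((Scheme.Modules.pushforward (KRR.pr r (↑(c x).U : Scheme.{u}))).obj
        (KRR.twF r (↑(c x).U : Scheme.{u}) (m : ℤ) ((c x).res F))) := fun x => by
    haveI : IsAffine (↑(c x).U : Scheme.{u}) := hca x
    exact exists_bound _ ((c x).res F) (H06EGA9.isFP_pullback _ hF) (BaseChange.isFlatOver_pullback (hsq x) hfl)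
  choose m₀ hm₀ using key
  obtain ⟨s, hs⟩ := CompactSpace.isCompact_univ.elim_finite_subcover (fun x : S => ((c x).U : Set S))
    (fun x => (c x).U.isOpen) (fun x _ => Set.mem_iUnion.2 ⟨x, hxc x⟩)
  refine ⟨s.sup m₀, fun n hn => ⟨fun q hq1 => ?_, ?_⟩⟩
  · obtain ⟨k, rfl⟩ : ∃ k, q = k + 1 := ⟨q - 1, by omega⟩
    have hqt : Coh.IsQCoh (KRR.twF r S (n : ℤ) F) := hπ.isQCoh_tw _ hq
    refine H10Coh.isZero_rpush_of_vanishing (KRR.pr r S).base _ k
      {V : S.Opens | IsAffineOpen V ∧ ∃ x ∈ s, V ≤ (c x).U} ?_ fun V hV => ?_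
    · refine Opens.isBasis_iff_nbhd.2 fun {W y} hy => ?_
      obtain ⟨x, hxs, hyx⟩ := Set.mem_iUnion₂.1 (hs (Set.mem_univ y))
      obtain ⟨V, hV, hyV, hle⟩ := exists_isAffineOpen_mem_and_subset (x := y) (U := W ⊓ (c x).U) ⟨hy, hyx⟩
      exact ⟨V, ⟨hV, x, hxs, fun z hz => (hle hz).2⟩, hyV, fun z hz => (hle hz).1⟩
    · obtain ⟨hVa, x, hxs, hVc⟩ := hV
      haveI := CMKer.isProper_pr r (↑(c x).U : Scheme.{u})
      refine ((c x).hnm_iff _ (k + 1) hVc).2 (subsingleton_of_van (f := KRR.pr r (↑(c x).U : Scheme.{u}))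
        ((c x).isQCoh_res hqt) ?_ ((c x).isAffineOpen_preimage hVa hVc))
      obtain ⟨e⟩ := (c x).nonempty_res_tw hπ.tw (n : ℤ) F
      exact CMReg.van_iso e.symm
        (CMReg.van_self (hm₀ x n (le_trans (Finset.le_sup hxs) hn)).1 (by omega))
  · refine isFinLocFree_of_local fun y => ?_
    obtain ⟨x, hxs, hyx⟩ := Set.mem_iUnion₂.1 (hs (Set.mem_univ y))
    refine ⟨_, (c x).U.ι, inferInstance, by rw [Scheme.Opens.opensRange_ι]; exact hyx, ?_⟩
    obtain ⟨e⟩ := (c x).nonempty_res_tw hπ.tw (n : ℤ) F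
    exact isFinLocFree_of_iso ((Scheme.Modules.pushforward (KRR.pr r (↑(c x).U : Scheme.{u}))).mapIso
        (e.symm ≪≫ ((Scheme.Modules.restrictFunctorIsoPullback (c x).j).app _).symm) ≪≫
      (H10Coh.pushRestrictIso (hsq x).flip _).symm)
      (hm₀ x n (le_trans (Finset.le_sup hxs) hn)).2

end Groth.Agent.S8664
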