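import Groth.Statements.S8666
import Mathlib.RingTheory.PicardGroup
import Mathlib.RingTheory.Ideal.Maximal

set_option autoImplicit false
universe u
open CAlg

namespace Groth.Agent.S8666

/-- Let A be a Noetherian ring, M an invertible A-module and p_1, …, p_k finitely many primes of A
(points of Spec A). Then there is a single element s ∈ M whose image generates M_{p_i} as an
A_{p_i}-module for every i, i.e. s is a basis of the stalk of M at each of the given points. -/
theorem result (A : Type u) [CommRing A] [IsNoetherianRing A]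
    (M : Type u) [AddCommGroup M] [Module A M] [Module.Invertible A M] (ι : Type) [Finite ι] (p : ι → PrimeSpectrum A) :
    ∃ s : M, ∀ i : ι, Submodule.span (Localization.AtPrime (p i).asIdeal)
      {LocalizedModule.mkLinearMap (p i).asIdeal.primeCompl M s} = ⊤ := by
  classical
  haveI := Fintype.ofFinite ι
  let P : Finset (Ideal A) := Finset.univ.image fun i => (p i).asIdeal
  let Q : Finset (Ideal A) := P.filter fun q => ∀ q' ∈ P, q ≤ q' → q' = q
  have hP : ∀ q ∈ P, q.IsPrime := fun q hq => by
    obtain ⟨i, -, rfl⟩ := Finset.mem_image.mp hq; exact (p i).isPrime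
  have hQ : ∀ q ∈ P, ∃ q' ∈ Q, q ≤ q' := by
    intro q hq
    obtain ⟨q', hq'⟩ := (P.filter fun r => q ≤ r).exists_maximal ⟨q, Finset.mem_filter.mpr ⟨hq, le_rfl⟩⟩
    obtain ⟨h1, h2⟩ := hq'
    rw [Finset.mem_filter] at h1
    exact ⟨q', Finset.mem_filter.mpr ⟨h1.1, fun r hr hle => (le_antisymm hle (h2 (Finset.mem_filter.mpr ⟨hr, h1.2.trans hle⟩) hle)).symm⟩, h1.2⟩
  have hQP : ∀ q ∈ Q, q ∈ P := fun q hq => (Finset.mem_filter.mp hq).1
  -- the element separating `q` from the other maximal ones
  have he : ∀ q : Q, ∃ e : A, e ∉ q.1 ∧ ∀ r ∈ Q, r ≠ q.1 → e ∈ r := by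
    rintro ⟨q, hq⟩
    haveI := hP q (hQP q hq)
    have h1 : ¬ (Q.erase q).inf id ≤ q := fun h => by
      obtain ⟨r, hr, hrq⟩ := (Ideal.IsPrime.inf_le' inferInstance).mp h
      obtain ⟨hne, hrQ⟩ := Finset.mem_erase.mp hr
      exact hne ((Finset.mem_filter.mp hrQ).2 q (hQP q hq) hrq).symm
    obtain ⟨e, he, he'⟩ := SetLike.not_le_iff_exists.mp h1
    exact ⟨e, he', fun r hr hne => Submodule.mem_finsetInf.mp he r (Finset.mem_erase.mpr ⟨hne, hr⟩)⟩
  choose e he he' using he
  -- choose a functional and an element for each maximal one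
  obtain ⟨S, hS⟩ := ((Module.Invertible.linearEquiv A M).symm 1).exists_finset
  have h1 : (1 : A) = ∑ i ∈ S, i.1 i.2 := by
    have h2 := congr_arg (Module.Invertible.linearEquiv A M) hS
    simpa [Module.Invertible.linearEquiv, map_sum] using h2
  have hf : ∀ q : Q, ∃ i ∈ S, i.1 i.2 ∉ q.1 := by
    intro q
    by_contra h
    push Not at h
    exact (hP q.1 (hQP q.1 q.2)).ne_top ((Ideal.eq_top_iff_one _).mpr (h1 ▸ q.1.sum_mem h))
  choose fm _ hfm using hf
  refine ⟨∑ q : Q, e q • (fm q).2, fun i => ?_⟩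
  obtain ⟨q', hq', hle⟩ := hQ (p i).asIdeal (Finset.mem_image.mpr ⟨i, Finset.mem_univ _, rfl⟩)
  set q : Q := ⟨q', hq'⟩
  have hns : (fm q).1 (∑ r : Q, e r • (fm r).2) ∉ (p i).asIdeal := by
    intro hmem
    have h2 := hle hmem
    rw [map_sum, ← Finset.add_sum_erase _ _ (Finset.mem_univ q)] at h2
    have h3 : (∑ r ∈ Finset.univ.erase q, (fm q).1 (e r • (fm r).2)) ∈ q' := sum_mem fun r hr => by
      rw [map_smul]
      exact Ideal.mul_mem_right _ _ (he' r q' hq' fun h => (Finset.mem_erase.mp hr).1 (Subtype.ext h.symm))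
    have h4 := (Submodule.add_mem_iff_left _ h3).mp h2
    rw [map_smul] at h4
    exact ((hP q' (hQP q' hq')).mem_or_mem h4).elim (he q) (hfm q)
  set f := (fm q).1
  set s := ∑ r : Q, e r • (fm r).2
  set T := (p i).asIdeal.primeCompl
  let g : LocalizedModule T M →ₗ[A] Localization T := IsLocalizedModule.lift T (LocalizedModule.mkLinearMap T M)
    (Algebra.linearMap A (Localization T) ∘ₗ f) fun t => by
      refine (Module.End.isUnit_iff _).mpr ?_
      refine ⟨fun a b h => ?_, fun b => ⟨IsLocalization.mk' (Localization T) 1 t * b, ?_⟩⟩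
      · simp only [Module.algebraMap_end_apply, Algebra.smul_def] at h
        exact (IsLocalization.map_units (Localization T) t).mul_left_cancel h
      · rw [Module.algebraMap_end_apply, Algebra.smul_def, ← mul_assoc, IsLocalization.mk'_spec'_mk, map_one, one_mul]
  let G := LinearMap.extendScalarsOfIsLocalization T (Localization T) g
  have hu : IsUnit (G (LocalizedModule.mkLinearMap T M s)) := by
    show IsUnit (g _)
    rw [← LinearMap.comp_apply, IsLocalizedModule.lift_comp]
    exact IsLocalization.map_units (Localization T) (⟨f s, hns⟩ : T)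
  have hG : Function.Surjective G := fun z =>
    ⟨(z * ↑hu.unit⁻¹) • LocalizedModule.mkLinearMap T M s, by rw [map_smul, smul_eq_mul, mul_assoc, IsUnit.val_inv_mul, mul_one]⟩
  have hbij := Module.Invertible.bijective_of_surjective hG
  rw [eq_top_iff]
  intro z _
  refine Submodule.mem_span_singleton.mpr ⟨G z * ↑hu.unit⁻¹, hbij.1 ?_⟩
  rw [map_smul, smul_eq_mul, mul_assoc, IsUnit.val_inv_mul, mul_one]

end Groth.Agent.S8666
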