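import Groth.Statements.S8667
import Groth.Agent.H16Derived.GTheory.ProjBundle
import Groth.Agent.H22Alg.PBRel
import Groth.Agent.H11Sym.InvertibleInverse

set_option autoImplicit false
universe v u
open CategoryTheory CategoryTheory.Limits AlgebraicGeometry
attribute [local instance] HasDerivedCategory.standard
open SGA6

namespace Groth.Agent.S8667

set_option linter.style.haveILetI false
attribute [local instance 10000] Groth.Agent.H10Coh.hasSheafifyAb Groth.Agent.H10Coh.hasWeakSheafifyAb Groth.Agent.H10Coh.hasExtAb Groth.Agent.H10Coh.enoughInjAb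
open Groth.Agent.H22Alg Groth.Agent.H22Alg.PB Groth.Agent.H16Derived.GTheory Groth.Agent.H16Derived.GTheory.ProjBundle

theorem iterate_clC {S P : Scheme.{u}} [IsNoetherian S] [IsNoetherian P] {r : ℕ} {f : P ⟶ S} {O : ℤ → P.Modules}
    (hπ : IsPn r f O) (O1 : P.Modules) (a : O 1 ≅ O1)
    [PreservesFiniteLimits ((DCoh.tensorBi (X := P)).obj O1)] [PreservesFiniteColimits ((DCoh.tensorBi (X := P)).obj O1)]
    (ht : ∀ M : P.Modules, Coh.IsCoh M → Coh.IsCoh (((DCoh.tensorBi (X := P)).obj O1).obj M))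
    {M : P.Modules} (hM : Coh.IsCoh M) (k : ℕ) :
    (⇑(SGA6.mapSub ((DCoh.tensorBi (X := P)).obj O1) (fun M : P.Modules => Coh.IsCoh M) (fun M : P.Modules => Coh.IsCoh M) ht))^[k]
      (clC P M) = clC P (PB.tw O (k : ℤ) M) := by
  induction k with
  | zero =>
    obtain ⟨z⟩ := nonempty_tw_zero hπ.tw M
    exact (clC_iso z (isCoh_tw hπ 0 hM)).symm
  | succ k ih =>
    obtain ⟨e⟩ := nonempty_tw_tw hπ.tw 1 (k : ℤ) ((k + 1 : ℕ) : ℤ) (by push_cast; ring) M
    rw [Function.iterate_succ_apply', ih, mapSub_clSub (P := fun M : P.Modules => Coh.IsCoh M) _ ht (isCoh_tw hπ _ hM)]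
    exact clC_iso (((DCoh.tensorBi (X := P)).mapIso a.symm).app _ ≪≫ e) (ht _ (isCoh_tw hπ _ hM))

/-- Let S be a Noetherian scheme, E a finite locally free O_S-module of rank n, and (f : P ⟶ S, O(1), q)
the projective bundle P(E) (universal property for invertible quotients of pull-backs of E), with P
Noetherian. On K_• = K₀ of coherent modules let f^* be induced by pull-back along the flat f and ξ·
by tensoring with O(1) (both exact, carried as instance hypotheses, and preserving coherence,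
hypotheses hf and ht). Then the map (x_0, …, x_{n−1}) ↦ Σ_{i<n} ξ^i · f^*(x_i) from K_•(S)^n to
K_•(P) is bijective. (The published statement uses the basis ξ^{−i}, 0 ≤ i < n; multiplying by the
unit ξ^{n−1} turns it into 1, ξ, …, ξ^{n−1}, so the two statements are equivalent.) -/
theorem result {S P : Scheme.{u}} [IsNoetherian S] [IsNoetherian P] (n : ℕ)
    (E : S.Modules) (hE : FlatMod.IsFinLocFreeOfRank n E)
    (f : P ⟶ S) (O1 : P.Modules) (q : (Scheme.Modules.pullback f).obj E ⟶ O1) (hPB : KRR.IsProjBundle f E O1 q)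
    [(Scheme.Modules.pullback f).Additive] [PreservesFiniteLimits (Scheme.Modules.pullback f)] [PreservesFiniteColimits (Scheme.Modules.pullback f)]
    (hf : ∀ M : S.Modules, Coh.IsCoh M → Coh.IsCoh ((Scheme.Modules.pullback f).obj M))
    [PreservesFiniteLimits ((DCoh.tensorBi (X := P)).obj O1)] [PreservesFiniteColimits ((DCoh.tensorBi (X := P)).obj O1)]
    (ht : ∀ M : P.Modules, Coh.IsCoh M → Coh.IsCoh (((DCoh.tensorBi (X := P)).obj O1).obj M)) :
    Function.Bijective (fun x : Fin n → SGA6.Kcoh S =>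
      ∑ i : Fin n, (⇑(SGA6.mapSub ((DCoh.tensorBi (X := P)).obj O1) (fun M : P.Modules => Coh.IsCoh M) (fun M : P.Modules => Coh.IsCoh M) ht))^[(i : ℕ)]
        (SGA6.mapSub (Scheme.Modules.pullback f) (fun M : S.Modules => Coh.IsCoh M) (fun M : P.Modules => Coh.IsCoh M) hf (x i))) := by
  rcases n with _ | r
  · haveI := hPB.epi
    have h1 : IsZero O1 :=
      IsZero.of_epi q ((Scheme.Modules.pullback f).map_isZero (PBRel.isZero_of_rank_zero hE))
    obtain ⟨L, hL, ⟨eL⟩⟩ := H11Sym.exists_inverse (PB.isInvertible_of_rank_one hPB.invertible)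
    have hz : ∀ M : P.Modules, IsZero M := fun M => by
      have h2 : IsZero (((DCoh.tensorBi (X := P)).obj O1).obj L) :=
        Functor.map_isZero (((DCoh.tensorBi (X := P)).flip).obj L) h1
      have h3 : IsZero (Coh.structureModule P) := h2.of_iso (H10Coh.Tw.commIso O1 L ≪≫ eL).symm
      exact (Functor.map_isZero (((DCoh.tensorBi (X := P)).flip).obj M) h3).of_iso (H02CA.KcohNilp.unitL M).symm
    have htop : (⊥ : AddSubgroup (SGA6.Kcoh P)) = ⊤ :=
      H27KZero.closure_eq_top (P := fun M : P.Modules => Coh.IsCoh M) ⊥ fun M hM =>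
        (clSub_isAdd (P := fun M : P.Modules => Coh.IsCoh M)).map_zero (isSub_self (isAbClass_isCoh P)) (hz M)
    haveI : Subsingleton (SGA6.Kcoh P) := subsingleton_of_forall_eq 0 fun x =>
      AddSubgroup.mem_bot.1 (htop.symm ▸ AddSubgroup.mem_top x)
    exact ⟨fun x y _ => funext fun i => i.elim0, fun y => ⟨fun i => i.elim0, Subsingleton.elim _ _⟩⟩
  have hπ := isPn_of_isProjBundle hE hPB
  obtain ⟨a⟩ := nonempty_pw_one (PB.isInvertible_of_rank_one hPB.invertible)
  let F : AddMonoid.End (SGA6.Kcoh P) := SGA6.mapSub ((DCoh.tensorBi (X := P)).obj O1)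
    (fun M : P.Modules => Coh.IsCoh M) (fun M : P.Modules => Coh.IsCoh M) ht
  let Φ : Fin (r + 1) → (SGA6.Kcoh S →+ SGA6.Kcoh P) := fun i => AddMonoidHom.comp (F ^ (i : ℕ))
    (SGA6.mapSub (Scheme.Modules.pullback f) (fun M : S.Modules => Coh.IsCoh M) (fun M : P.Modules => Coh.IsCoh M) hf)
  have hF : ∀ (i : Fin (r + 1)) x, Φ i x =
      (⇑(SGA6.mapSub ((DCoh.tensorBi (X := P)).obj O1) (fun M : P.Modules => Coh.IsCoh M) (fun M : P.Modules => Coh.IsCoh M) ht))^[(i : ℕ)]
        (SGA6.mapSub (Scheme.Modules.pullback f) (fun M : S.Modules => Coh.IsCoh M) (fun M : P.Modules => Coh.IsCoh M) hf x) :=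
    fun i x => congrFun (AddMonoid.End.coe_pow _ F (i : ℕ)) _
  have hΦ : ∀ (i : Fin (r + 1)) A, Coh.IsCoh A → Φ i (clC S A) =
      clC P (PB.tw (pw (PB.isInvertible_of_rank_one hPB.invertible)) ((i : ℕ) : ℤ) ((Scheme.Modules.pullback f).obj A)) := by
    intro i A hA
    rw [hF, mapSub_clSub (P := fun M : S.Modules => Coh.IsCoh M) _ hf hA]
    exact iterate_clC hπ O1 a ht (hf A hA) _
  simp only [← hF]
  refine ⟨fun x y hxy => ?_, fun y => ?_⟩
  · refine sub_eq_zero.1 (ProjBundle.eq_zero hπ Φ hΦ (x - y) ?_)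
    simp only [Pi.sub_apply, map_sub, Finset.sum_sub_distrib]
    exact sub_eq_zero.2 hxy
  · let Ψ : (Fin (r + 1) → SGA6.Kcoh S) →+ SGA6.Kcoh P := ∑ i, (Φ i).comp (Pi.evalAddMonoidHom _ i)
    have h : Ψ.range = ⊤ := ProjBundle.eq_top hπ hE hPB ⟨a⟩ Ψ.range fun i hi A hA =>
      ⟨Pi.single ⟨i, by omega⟩ (clC S A), by
        simp only [Ψ, AddMonoidHom.finsetSum_apply, AddMonoidHom.comp_apply, Pi.evalAddMonoidHom_apply]
        rw [Finset.sum_eq_single ⟨i, by omega⟩ (fun j _ hj => by simp [Pi.single_eq_of_ne hj]) (by simp)]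
        simp [hΦ _ A hA]⟩
    obtain ⟨x, hx⟩ := (AddMonoidHom.range_eq_top.1 h) y
    refine ⟨x, ?_⟩
    simpa [Ψ] using hx

end Groth.Agent.S8667
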