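import Groth.Statements.S8668
import Groth.Agent.H17.Canon.Cotangent
import Groth.Agent.H22Alg.KModel
-- import your own Groth.Agent.* helpers here

set_option autoImplicit false
universe u
open CategoryTheory CategoryTheory.Limits AlgebraicGeometry
attribute [local instance] HasDerivedCategory.standard
open Synt

namespace Groth.Agent.S8668

/-- Let f : X ⟶ Y be a local complete intersection morphism in the factorisation sense (around each
point, locally of finite type and factoring as a Koszul-regular immersion followed by a smooth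
morphism), and let f = i ≫ g = i' ≫ g' be two factorisations with g : V ⟶ Y and g' : V' ⟶ Y smooth
and i, i' closed immersions. Let d : O_V → Ω and d' : O_{V'} → Ω' be universal Y-derivations
(sheaves of relative differentials of V and V' over Y). Then i^*Ω, i'^*Ω' and the conormal sheaves
N_i, N_{i'} are finite locally free, and in K₀ of finite locally free O_X-modules one has [i^*Ω] −
[N_i] = [i'^*Ω'] − [N_{i'}]: the virtual cotangent class of f does not depend on the factorisation. -/
theorem result {X Y V V' : Scheme.{u}} (f : X ⟶ Y) (hf : ∀ x : X, Synt.IsKoszulAt f x)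
    (g : V ⟶ Y) [Smooth g] (i : X ⟶ V) [IsClosedImmersion i] (hi : i ≫ g = f)
    (g' : V' ⟶ Y) [Smooth g'] (i' : X ⟶ V') [IsClosedImmersion i'] (hi' : i' ≫ g' = f)
    (Ω : V.Modules) (d : OmegaSh.Der g Ω) (hd : OmegaSh.IsUniversal d)
    (Ω' : V'.Modules) (d' : OmegaSh.Der g' Ω') (hd' : OmegaSh.IsUniversal d') :
    FlatMod.IsFinLocFree ((Scheme.Modules.pullback i).obj Ω) ∧ FlatMod.IsFinLocFree (Omega.conormal i) ∧
    FlatMod.IsFinLocFree ((Scheme.Modules.pullback i').obj Ω') ∧ FlatMod.IsFinLocFree (Omega.conormal i') ∧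
    KRR.cl X ((Scheme.Modules.pullback i).obj Ω) - KRR.cl X (Omega.conormal i) =
      KRR.cl X ((Scheme.Modules.pullback i').obj Ω') - KRR.cl X (Omega.conormal i') := by
  haveI : Smooth g := inferInstance
  obtain ⟨M, hM, ⟨⟨S, hS, hS₂, ⟨eA⟩, ⟨eC⟩⟩⟩, ⟨⟨T, hT, hT₂, ⟨eA'⟩, ⟨eC'⟩⟩⟩⟩ :=
    H17.CanonSm.exists_two_extensions f hf g i hi g' i' hi' d hd d' hd'
  have hC := H17.CanonSm.isFinLocFree_conormal_of_koszul i (S8656.result f hf g i hi)
  have hC' := H17.CanonSm.isFinLocFree_conormal_of_koszul i' (S8656.result f hf g' i' hi')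
  have hΩ := H16Derived.KFlat.Stalk.isFinLocFree_pullback i (H17.CanonSm.isFinLocFree_universal hd)
  have hΩ' := H16Derived.KFlat.Stalk.isFinLocFree_pullback i' (H17.CanonSm.isFinLocFree_universal hd')
  refine ⟨hΩ, hC, hΩ', hC', ?_⟩
  have h1 := H22Alg.KModel.cl_add hS (H22Alg.KModel.finLocFree_iso eA hC) (hS₂ ▸ hM)
    (H22Alg.KModel.finLocFree_iso eC hΩ')
  have h2 := H22Alg.KModel.cl_add hT (H22Alg.KModel.finLocFree_iso eA' hC') (hT₂ ▸ hM)
    (H22Alg.KModel.finLocFree_iso eC' hΩ)
  rw [hS₂, ← H22Alg.KModel.cl_iso eA hC, ← H22Alg.KModel.cl_iso eC hΩ'] at h1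
  rw [hT₂, ← H22Alg.KModel.cl_iso eA' hC', ← H22Alg.KModel.cl_iso eC' hΩ] at h2
  rw [sub_eq_sub_iff_add_eq_add, add_comm _ (KRR.cl X (Omega.conormal i)), ← h1, add_comm, ← h2]

end Groth.Agent.S8668
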