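import Groth.Statements.S8671
import Groth.Agent.H7Euler.Main
import Groth.Agent.H22Alg.KModel
-- import your own Groth.Agent.* helpers here

set_option autoImplicit false
universe v u
open CategoryTheory CategoryTheory.Limits AlgebraicGeometry
attribute [local instance] HasDerivedCategory.standard
open KRR

namespace Groth.Agent.S8671

/-- Let Y be a quasi-compact scheme carrying an ample invertible sheaf, E = O_Y^{r+1}, and (π : P ⟶ Y,
O(1), q) a projective bundle of E (universal property for invertible quotients of pull-backs of E; P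
is projective r-space over Y), with universal sub-bundle F = ker(q : π^*E ⟶ O(1)). Let d : O_P → Ω
be a universal Y-derivation, so that Ω is the sheaf of differentials of P over Y. Then Ω ⊗ O(1) ≅ F,
i.e. there is an exact sequence 0 → Ω → π^*E ⊗ O(−1) → O_P → 0. Existence of an isomorphism only. -/
theorem result {Y P : Scheme.{u}} (L : Y.Modules) (hL : CohB1.IsAmple L) (r : ℕ)
    (π : P ⟶ Y) (O1 : P.Modules) (q : (Scheme.Modules.pullback π).obj (FlatMod.freeMod Y (r + 1)) ⟶ O1)
    (hPB : KRR.IsProjBundle π (FlatMod.freeMod Y (r + 1)) O1 q)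
    (Ω : P.Modules) (d : OmegaSh.Der π Ω) (hd : OmegaSh.IsUniversal d) :
    Nonempty (((DCoh.tensorBi (X := P)).obj Ω).obj O1 ≅ kernel q) := by
  haveI := Groth.Agent.H7Euler.isIso_sff hPB (Groth.Agent.H22Alg.KModel.finLocFree_free (r + 1)) d hd
  exact ⟨(asIso (Groth.Agent.H7Euler.sff d q)).symm⟩

end Groth.Agent.S8671
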