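import Groth.Statements.S8680
import Groth.Agent.H16Derived.PnD.Free

set_option autoImplicit false
universe v u
open CategoryTheory CategoryTheory.Limits AlgebraicGeometry
attribute [local instance] HasDerivedCategory.standard
open SGA6

namespace Groth.Agent.S8680

set_option backward.isDefEq.respectTransparency false
set_option linter.style.haveILetI false

/-- Let S be a quasi-compact scheme and f : P = P^r_S ⟶ S the projection. On K^• = K₀ of perfect
complexes let f^* be induced by Lf^* (assumed to exist with its triangulated structure and to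
preserve perfect complexes) and, for 0 ≤ i ≤ r, let ξ^i· be induced by the exact functor − ⊗ O_P(i)
extended to derived categories (exactness as instance hypotheses, preservation of perfect complexes
as hypothesis ht). Then (x_0, …, x_r) ↦ Σ_i ξ^i · f^*(x_i) is a bijection from K^•(S)^{r+1} onto
K^•(P): K^•(P) is free over K^•(S) with basis 1, ξ, …, ξ^r. (The published statement is for the
projective bundle of any locally free module of rank r + 1; this row takes the trivial bundle.) -/
theorem result (S : Scheme.{u}) [CompactSpace ↥S] (r : ℕ)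
    [DCoh.HasLpull (KRR.pr r S)] [(DCoh.Lpull (KRR.pr r S)).CommShift ℤ] [(DCoh.Lpull (KRR.pr r S)).IsTriangulated]
    (hf : ∀ K : DCoh.D S, DCoh.IsPerfect K → DCoh.IsPerfect ((DCoh.Lpull (KRR.pr r S)).obj K))
    [∀ i : ℕ, PreservesFiniteLimits ((DCoh.tensorBi (X := KRR.PY r S)).obj (Twist.twistOver r S (i : ℤ)))]
    [∀ i : ℕ, PreservesFiniteColimits ((DCoh.tensorBi (X := KRR.PY r S)).obj (Twist.twistOver r S (i : ℤ)))]
    (ht : ∀ (i : ℕ) (K : DCoh.D (KRR.PY r S)), DCoh.IsPerfect K →
      DCoh.IsPerfect ((((DCoh.tensorBi (X := KRR.PY r S)).obj (Twist.twistOver r S (i : ℤ))).mapDerivedCategory).obj K)) :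
    Function.Bijective (fun x : Fin (r + 1) → SGA6.Kperf S =>
      ∑ i : Fin (r + 1), SGA6.mapTr (((DCoh.tensorBi (X := KRR.PY r S)).obj (Twist.twistOver r S ((i : ℕ) : ℤ))).mapDerivedCategory)
          (SGA6.perfP (KRR.PY r S)) (SGA6.perfP (KRR.PY r S)) (ht i)
        (SGA6.mapTr (DCoh.Lpull (KRR.pr r S)) (SGA6.perfP S) (SGA6.perfP (KRR.PY r S)) hf (x i))) := by
  have hinv := fun d => (Groth.Agent.H16Derived.PnD.isPn r S).tw.inv d
  haveI : ∀ d : ℤ, PreservesFiniteLimits (Groth.Agent.H16Derived.PnD.lw (Twist.twistOver r S d)) := fun d => (Groth.Agent.H16Derived.PnD.exact_lw (hinv d)).1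
  haveI : ∀ d : ℤ, PreservesFiniteColimits (Groth.Agent.H16Derived.PnD.lw (Twist.twistOver r S d)) := fun d => (Groth.Agent.H16Derived.PnD.exact_lw (hinv d)).2
  exact ⟨Groth.Agent.H16Derived.PnD.injective_psi r S hf, Groth.Agent.H16Derived.PnD.surjective_psi r S hf⟩

end Groth.Agent.S8680
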