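import Groth.Statements.S8682
import Groth.Agent.H9Synt.VirtualCotangent
import Groth.Agent.H9Synt.DoubleQis
-- import your own Groth.Agent.* helpers here

set_option autoImplicit false
universe u
open CategoryTheory CategoryTheory.Limits AlgebraicGeometry
attribute [local instance] HasDerivedCategory.standard
open Synt

namespace Groth.Agent.S8682

/-- Let f : X ⟶ Y admit two factorisations f = i ≫ g = i' ≫ g' with g : V ⟶ Y, g' : V' ⟶ Y smooth and i,
i' closed immersions. Let d : O_V → Ω and d' : O_{V'} → Ω' be universal Y-derivations and let φ :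
N_i ⟶ i^*Ω, φ' : N_{i'} ⟶ i'^*Ω' be the maps induced by d and d' on the conormal sheaves (pinned by
their values on classes of local sections of the ideals). Then the cotangent complexes [N_i → i^*Ω]
and [N_{i'} → i'^*Ω'], placed in degrees −1 and 0, are isomorphic in the derived category of
O_X-modules. The published statement names a canonical isomorphism; this row asserts only that an
isomorphism exists. -/
theorem result {X Y V V' : Scheme.{u}} (f : X ⟶ Y)
    (g : V ⟶ Y) [Smooth g] (i : X ⟶ V) [IsClosedImmersion i] (hi : i ≫ g = f)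
    (g' : V' ⟶ Y) [Smooth g'] (i' : X ⟶ V') [IsClosedImmersion i'] (hi' : i' ≫ g' = f)
    (Ω : V.Modules) (d : OmegaSh.Der g Ω) (hd : OmegaSh.IsUniversal d)
    (Ω' : V'.Modules) (d' : OmegaSh.Der g' Ω') (hd' : OmegaSh.IsUniversal d')
    (φ : Omega.conormal i ⟶ (Scheme.Modules.pullback i).obj Ω) (hφ : OmegaSh.IsConormalDiff i d φ)
    (φ' : Omega.conormal i' ⟶ (Scheme.Modules.pullback i').obj Ω') (hφ' : OmegaSh.IsConormalDiff i' d' φ') :
    Nonempty (DCoh.toD X (HomologicalComplex.double φ (show (ComplexShape.up ℤ).Rel (-1 : ℤ) 0 from neg_add_cancel (1 : ℤ))) ≅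
      DCoh.toD X (HomologicalComplex.double φ' (show (ComplexShape.up ℤ).Rel (-1 : ℤ) 0 from neg_add_cancel (1 : ℤ)))) := by
  obtain ⟨N, α, α', π, π', hπ, hπ', ⟨w, h⟩, ⟨w', h'⟩⟩ :=
    Groth.Agent.H9Synt.VirtualCotangent.exists_common g i g' i' (hi.trans hi'.symm) Ω d hd Ω' d' hd' φ hφ φ' hφ'
  let M := (Scheme.Modules.pullback i).obj Ω
  let M' := (Scheme.Modules.pullback i').obj Ω'
  have hl : (ShortComplex.mk (biprod.inl : M ⟶ M ⊞ M') biprod.snd biprod.inl_snd).ShortExact :=
    (ShortComplex.Splitting.ofHasBinaryBiproduct M M').shortExact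
  have hr : (ShortComplex.mk (biprod.inr : M' ⟶ M ⊞ M') biprod.fst biprod.inr_fst).ShortExact :=
    ShortComplex.Splitting.shortExact
      { r := biprod.snd, s := biprod.inl, f_r := biprod.inr_snd, s_g := biprod.inl_fst,
        id := (add_comm _ _).trans biprod.total }
  obtain ⟨e⟩ := Groth.Agent.H9Synt.DoubleQis.nonempty_iso (φ := φ) (ψ := biprod.lift π π') (α := α)
    (ι := biprod.inl) (π := π') (pr := biprod.snd)
    (by apply biprod.hom_ext <;> simp [hπ, w]) (biprod.lift_snd π π') h hl
  obtain ⟨e'⟩ := Groth.Agent.H9Synt.DoubleQis.nonempty_iso (φ := φ') (ψ := biprod.lift π π') (α := α')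
    (ι := biprod.inr) (π := π) (pr := biprod.fst)
    (by apply biprod.hom_ext <;> simp [hπ', w']) (biprod.lift_fst π π') h' hr
  exact ⟨e ≪≫ e'.symm⟩

end Groth.Agent.S8682
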