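import Groth.Statements.S8691
import Groth.Agent.H27Lambda.DivApp

set_option autoImplicit false
universe u
open Finset
open LambdaRing

namespace Groth.Agent.S8691

/-- Let K be a λ-ring in the strict sense, d a natural number and N ∈ K with λ^i(N) = 0 for every i > d;
put λ_{−1}(N) = Σ_{i=0}^{d} (−1)^i λ^i(N). Then for every p ≥ 1 and every x ∈ K the element λ^p(x ·
λ_{−1}(N)) is divisible by λ_{−1}(N). (The published statement is for the λ-ring generated over the
integers by N and x subject to λ^i(N) = 0 for i > d, a polynomial ring; the divisibility passes to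
any λ-ring along the λ-homomorphism sending the generators to N and x, which is the substituted form
stated here.) The hypotheses hP and hQ, existence of the universal polynomials, are true statements
carried so that the identities of K can be used at every index. -/
theorem result (K : Type u) [CommRing K] [LambdaRing.LambdaOps K]
    (hK : LambdaRing.IsSpecial K)
    (hP : ∀ n : ℕ, ∃ P : MvPolynomial (Fin n ⊕ Fin n) ℤ, LambdaRing.IsMulPoly n P)
    (hQ : ∀ i j : ℕ, ∃ Q : MvPolynomial (Fin (i * j)) ℤ, LambdaRing.IsCompPoly i j Q)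
    (d : ℕ) (N : K) (hN : ∀ i : ℕ, d < i → LambdaRing.LambdaOps.lam i N = 0)
    (p : ℕ) (hp : 1 ≤ p) (x : K) :
    (∑ i ∈ range (d + 1), (-1 : K) ^ i * LambdaRing.LambdaOps.lam i N) ∣
      LambdaRing.LambdaOps.lam p (x * ∑ i ∈ range (d + 1), (-1 : K) ^ i * LambdaRing.LambdaOps.lam i N) := by
  rcases Nat.eq_zero_or_pos d with rfl | hd
  · simp [LambdaRing.LambdaOps.lam_zero]
  obtain ⟨e, rfl⟩ : ∃ e, d = e + 1 := ⟨d - 1, by omega⟩
  obtain ⟨hn, hn'⟩ := Groth.Agent.H27Lambda.gamma_sub_natCast hK.lam_one_eq_zero hN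
  have hL : (∑ i ∈ range (e + 1 + 1), (-1 : K) ^ i * LambdaRing.LambdaOps.lam i N) =
      (-1) ^ (e + 1) * LambdaRing.gamma (e + 1) (N - ((e + 1 : ℕ) : K)) := by
    rw [hn', ← mul_assoc, ← mul_pow, neg_one_mul, neg_neg, one_pow, one_mul]
  let ε : K →+* PUnit.{1} :=
    { toFun := fun _ => 0
      map_one' := Subsingleton.elim _ _
      map_mul' := fun _ _ => Subsingleton.elim _ _
      map_zero' := rfl
      map_add' := fun _ _ => Subsingleton.elim _ _ }
  rw [hL, ← mul_assoc, IsUnit.mul_left_dvd (isUnit_one.neg.pow _)]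
  exact Groth.Agent.H27Lambda.div_lam (φ := Int.castRingHom K) (ε := ε) hK
    (Groth.Agent.H27Lambda.lamSeries_intCast_of hK.lam_one_eq_zero) hn (Subsingleton.elim _ _)
    (Groth.Agent.H27Lambda.Lift.mono (Nat.zero_le 1)
      (Groth.Agent.H27Lambda.Lift.gen (Subsingleton.elim _ _))) hp

end Groth.Agent.S8691
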