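import Groth.Statements.S8693
import Mathlib
import Groth.Agent.H22Alg.KAmple

set_option autoImplicit false
universe v u
open CategoryTheory CategoryTheory.Limits AlgebraicGeometry
attribute [local instance] HasDerivedCategory.standard
open KRR

namespace Groth.Agent.S8693

/-- Let X be a connected quasi-compact scheme with an ample invertible O_X-module L, (K, P, φ) a model
of the λ-ring K(X) of finite locally free modules with its positive structure (augmentation ε =
rank), and E_1, …, E_k finite locally free O_X-modules. Let R ⊆ K(X) be the subring generated by the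
elements λ^j[E_i] for all i and j, which is the sub-λ-ring generated by the classes [E_i]. Then the
ideal R ∩ Ker ε of R is nilpotent: there is n such that every product of n elements of R of
augmentation zero vanishes; and R is finitely generated as an abelian group. (The published
statement allows X disconnected, with R a module of finite type over R ∩ H^0(X, ℤ), and also asserts
that the λ-ring filtration of R is discrete; this row takes X connected, as the model requires, and
states the nilpotency and the finite generation over the integers.) -/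
theorem result (X : Scheme.{u}) [ConnectedSpace ↥X] (L : X.Modules) (hL : CohB1.IsAmple L)
    (K : Type v) [CommRing K] [LambdaRing.LambdaOps K] (P : LambdaRing.PosStructure K) (φ : SGA6.Kvb X →+ K)
    (hK : KRR.IsModel X K P φ)
    (k : ℕ) (E : Fin k → X.Modules) (hE : ∀ i : Fin k, FlatMod.IsFinLocFree (E i)) :
    (∃ n : ℕ, ∀ f : Fin n → K,
      (∀ t : Fin n, f t ∈ Subring.closure {y : K | ∃ (i : Fin k) (j : ℕ), y = LambdaRing.LambdaOps.lam j (φ (KRR.cl X (E i)))} ∧ P.aug (f t) = 0) →
        ∏ t, f t = 0) ∧
    (Subring.closure {y : K | ∃ (i : Fin k) (j : ℕ), y = LambdaRing.LambdaOps.lam j (φ (KRR.cl X (E i)))}).toAddSubgroup.FG := by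
  classical
  let R := Subring.closure {y : K | ∃ (i : Fin k) (j : ℕ), y = LambdaRing.LambdaOps.lam j (φ (KRR.cl X (E i)))}
  choose r hr using fun i => H22Alg.KModel.exists_rank (hE i)
  have hvan : ∀ i j, r i < j → LambdaRing.LambdaOps.lam j (φ (KRR.cl X (E i))) = 0 := by
    intro i j hj
    rcases Nat.eq_zero_or_pos (r i) with h0 | h0
    · have hz : Limits.IsZero (E i) := H16Derived.KFlat.Stalk.isZero_of_isZero_restrict fun x => by
        obtain ⟨U, hx, ⟨e⟩⟩ := hr i x
        refine ⟨U, hx, Limits.IsZero.of_iso ?_ e⟩
        rw [Limits.IsZero.iff_id_eq_zero]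
        exact Limits.Sigma.hom_ext _ _ fun b => absurd b.isLt (by omega)
      rw [H22Alg.KModel.cl_isZero hz, map_zero, H27Lambda.lam_zero_of_pos (by omega)]
    · refine P.lam_eq_zero _ ((hK.mem_pos_iff _).2 ⟨r i, E i, h0, hr i, rfl⟩) j ?_
      rw [hK.aug_cl _ _ (hr i)]
      exact_mod_cast hj
  let G : Finset K := insert 0 ((Finset.univ.sigma fun i => Finset.range (r i + 1)).image
    fun p : Σ _ : Fin k, ℕ => LambdaRing.LambdaOps.lam p.2 (φ (KRR.cl X (E p.1))))
  have hG : R = Subring.closure (G : Set K) := by
    apply le_antisymm <;> rw [Subring.closure_le]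
    · rintro _ ⟨i, j, rfl⟩
      refine Subring.subset_closure ?_
      by_cases hj : r i < j
      · rw [hvan i j hj]; simp [G]
      · simp only [G, Finset.coe_insert, Finset.coe_image, Set.mem_insert_iff, Set.mem_image]
        exact Or.inr ⟨⟨i, j⟩, by simp; omega, rfl⟩
    · intro x hx
      simp only [G, Finset.coe_insert, Finset.coe_image, Set.mem_insert_iff, Set.mem_image] at hx
      rcases hx with rfl | ⟨p, -, rfl⟩
      · exact Subring.zero_mem _
      · exact Subring.subset_closure ⟨p.1, p.2, rfl⟩
  have hnil : ∀ g : K, IsNilpotent (g - (P.aug g : K)) := fun g =>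
    H22Alg.KModel.isNilpotent_of_aug hL hK (by rw [map_sub, map_intCast]; simp)
  let J : Ideal K := Ideal.span ((G.image fun g => g - (P.aug g : K) : Finset K) : Set K)
  have hJ : ∀ x ∈ R, x - (P.aug x : K) ∈ J := by
    intro x hx
    rw [hG] at hx
    induction hx using Subring.closure_induction with
    | mem g hg => exact Ideal.subset_span (Finset.mem_coe.2 (Finset.mem_image_of_mem _ hg))
    | zero => simp
    | one => simp
    | add a b _ _ ha hb =>
      rw [map_add, Int.cast_add, add_sub_add_comm]
      exact J.add_mem ha hb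
    | neg a _ ha =>
      rw [map_neg, Int.cast_neg, ← neg_sub']
      exact J.neg_mem ha
    | mul a b _ _ ha hb =>
      have e : a * b - ((P.aug (a * b) : ℤ) : K) =
          (a - (P.aug a : K)) * b + (P.aug a : K) * (b - (P.aug b : K)) := by
        rw [map_mul, Int.cast_mul]; ring
      rw [e]
      exact J.add_mem (J.mul_mem_right _ ha) (J.mul_mem_left _ hb)
  constructor
  · have hJfg : J.FG := ⟨_, rfl⟩
    obtain ⟨n, hn⟩ := hJfg.isNilpotent_iff_le_nilradical.2 (Ideal.span_le.2 fun x hx => by
      obtain ⟨g, -, rfl⟩ := Finset.mem_image.1 (Finset.mem_coe.1 hx)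
      exact mem_nilradical.2 (hnil g))
    refine ⟨n, fun f hf => ?_⟩
    have hp := Ideal.prod_mem_prod (I := fun _ : Fin n => J) (s := Finset.univ) (x := f) fun t _ => by
      have h := hJ (f t) (hf t).1
      rwa [(hf t).2, Int.cast_zero, sub_zero] at h
    rw [Finset.prod_const, Finset.card_univ, Fintype.card_fin, hn] at hp
    exact hp
  · have hfg : (Algebra.adjoin ℤ (G : Set K)).toSubmodule.FG := fg_adjoin_of_finite G.finite_toSet fun g _ => by
      obtain ⟨m, hm⟩ := hnil g
      have h1 : IsIntegral ℤ (g - (P.aug g : K)) :=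
        IsIntegral.of_pow (n := m + 1) (Nat.succ_pos m) (by rw [pow_succ, hm, zero_mul]; exact isIntegral_zero)
      simpa using h1.add (isIntegral_algebraMap (R := ℤ) (A := K) (x := P.aug g))
    rw [Submodule.fg_iff_addSubgroup_fg] at hfg
    have he : R.toAddSubgroup = (Algebra.adjoin ℤ (G : Set K)).toSubmodule.toAddSubgroup := by
      ext x
      show x ∈ R ↔ _
      rw [hG, Submodule.mem_toAddSubgroup, Subalgebra.mem_toSubmodule, Algebra.adjoin_int]
      rfl
    show R.toAddSubgroup.FG
    rw [he]
    exact hfg

end Groth.Agent.S8693
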