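import Groth.Statements.S8697
import Groth.Agent.H27Lambda.FamTransfer

set_option autoImplicit false
universe u v
open Finset
open LambdaRing

namespace Groth.Agent.S8697

/-- Let K be a binomial ring with its binomial λ-structure and B a λ-ring in the strict sense which is
an augmented K-λ-algebra with augmentation ε. Let x ∈ B satisfy ε(x) = 0 and γ^k(x) = 0 for every k
> n, and assume that γ^1(x), …, γ^n(x) are algebraically independent over K and generate B as a
K-algebra — so B is the K-λ-algebra generated by one element subject to the relations γ^k = 0 for k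
> n, a polynomial ring K[γ^1 x, …, γ^n x]. Then for every k, the k-th ideal Fil^k B of the
γ-filtration (generated by the products of γ^{i}(z), ε(z) = 0, of total weight ≥ k) is the ideal
generated by the monomials ∏_j (γ^j x)^{e_j} with Σ_j j·e_j ≥ k: the λ-ring filtration is the
filtration by the weight in the γ^j x. (With λ in place of γ — relations λ^k x = 0 for k > n and
weights in the λ^j x — the assertion fails already for n = 1, where γ^i(x) = x for all i ≥ 1 puts x
in every Fil^k while x is not in the ideal (x²); the form with γ stated here is the one the proof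
establishes.) The hypotheses hP and hQ, existence of the universal polynomials, are true statements
carried so that the identities of B can be used at every index. -/
theorem result
    (K : Type u) [CommRing K] [LambdaRing.LambdaOps K] [BinomialRing K] (hKb : LambdaRing.IsBinomial K)
    (hK : LambdaRing.IsSpecial K)
    (B : Type v) [CommRing B] [LambdaRing.LambdaOps B] [Algebra K B] (hB : LambdaRing.IsSpecial B)
    (hP : ∀ n : ℕ, ∃ P : MvPolynomial (Fin n ⊕ Fin n) ℤ, LambdaRing.IsMulPoly n P)
    (hQ : ∀ i j : ℕ, ∃ Q : MvPolynomial (Fin (i * j)) ℤ, LambdaRing.IsCompPoly i j Q)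
    (ε : B →ₐ[K] K) (hε : LambdaRing.IsAugLambdaAlg K B ε)
    (n : ℕ) (x : B) (hx : ε x = 0) (hγ : ∀ k : ℕ, n < k → LambdaRing.gamma k x = 0)
    (hind : AlgebraicIndependent K (fun j : Fin n => LambdaRing.gamma ((j : ℕ) + 1) x))
    (hgen : Algebra.adjoin K (Set.range fun j : Fin n => LambdaRing.gamma ((j : ℕ) + 1) x) = ⊤)
    (k : ℕ) :
    LambdaRing.gammaFil (ε : B →+* K) k =
      Ideal.span {m : B | ∃ e : Fin n → ℕ, k ≤ ∑ j : Fin n, ((j : ℕ) + 1) * e j ∧
        m = ∏ j : Fin n, LambdaRing.gamma ((j : ℕ) + 1) x ^ e j} := by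
  set J : ℕ → Ideal B := fun k => Ideal.span {m : B | ∃ e : Fin n → ℕ,
    k ≤ ∑ j : Fin n, ((j : ℕ) + 1) * e j ∧
      m = ∏ j : Fin n, LambdaRing.gamma ((j : ℕ) + 1) x ^ e j} with hJdef
  have hεc : Groth.Agent.H27Lambda.Commutes (ε : B →+* K) :=
    Groth.Agent.H27Lambda.commutes_of_lam hε.2
  have hJ : Groth.Agent.H27Lambda.MulFam J := by
    refine ⟨?_, fun a b hab => Ideal.span_mono ?_, fun a b y hy z hz => ?_⟩
    · rw [Ideal.eq_top_iff_one]
      exact Ideal.subset_span ⟨0, by simp, by simp⟩
    · rintro m ⟨e, he, rfl⟩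
      exact ⟨e, hab.trans he, rfl⟩
    · have h := Ideal.mul_mem_mul hy hz
      simp only [hJdef, Ideal.span_mul_span'] at h
      refine Ideal.span_le.2 ?_ h
      rintro _ ⟨_, ⟨e, he, rfl⟩, _, ⟨e', he', rfl⟩, rfl⟩
      refine Ideal.subset_span ⟨e + e', ?_, ?_⟩
      · simp only [Pi.add_apply, mul_add, sum_add_distrib]
        omega
      · simp [pow_add, prod_mul_distrib]
  have hxg : Groth.Agent.H27Lambda.GammaGood J x := by
    intro i
    rcases Nat.eq_zero_or_pos i with rfl | hi
    · simp [hJ.zero]
    by_cases hin : i ≤ n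
    · refine Ideal.subset_span ⟨Pi.single (⟨i - 1, by omega⟩ : Fin n) 1, ?_, ?_⟩
      · rw [Finset.sum_eq_single (⟨i - 1, by omega⟩ : Fin n) (fun b _ hb => by simp [Pi.single_eq_of_ne hb])
          (fun h => absurd (mem_univ _) h)]
        simp; omega
      · rw [Finset.prod_eq_single (⟨i - 1, by omega⟩ : Fin n)
          (fun b _ hb => by simp [Pi.single_eq_of_ne hb]) (fun h => absurd (mem_univ _) h)]
        simp [show i - 1 + 1 = i by omega]
    · rw [hγ i (by omega)]; exact zero_mem _
  have hφ := Groth.Agent.H27Lambda.lamSeries_algebraMap_of hKb hε.1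
  refine le_antisymm ?_ (Ideal.span_le.2 ?_)
  · refine Groth.Agent.H27Lambda.gammaFil_le_fam hB hφ ε hJ _ hgen ?_ k
    rintro s ⟨j, rfl⟩
    have : ε (LambdaRing.gamma ((j : ℕ) + 1) x) = 0 := by
      have h := hεc.gamma ((j : ℕ) + 1) x
      simp only [AlgHom.coe_toRingHom, RingHom.coe_coe] at h
      rw [h, hx, Groth.Agent.H27Lambda.gamma_zero_arg (Nat.succ_pos _)]
    rw [this, map_zero, sub_zero]
    exact Groth.Agent.H27Lambda.gammaGood_gamma hB (algebraMap K B) hφ hJ hxg (Nat.succ_pos _)
  · rintro m ⟨e, he, rfl⟩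
    refine Groth.Agent.H27Lambda.gammaFil_antitone _ he ?_
    refine Groth.Agent.H27Lambda.gammaFil_prod_mem _ univ _ _ fun j _ => ?_
    rw [mul_comm]
    exact Groth.Agent.H27Lambda.gammaFil_pow_mem _
      (Groth.Agent.H27Lambda.gamma_mem_gammaFil _ _ (by exact hx)) (e j)

end Groth.Agent.S8697
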