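import Groth.Statements.S8698
import Groth.Agent.H27Lambda.FamTransfer

set_option autoImplicit false
universe u v w
open Finset
open LambdaRing

namespace Groth.Agent.S8698

/-- Let K be a binomial ring with its binomial λ-structure, A a λ-ring in the strict sense which is an
augmented K-λ-algebra with augmentation ε_A, and B a λ-ring in the strict sense which is at once an
augmented K-λ-algebra with augmentation ε_B and an A-algebra compatibly with the K-structures, the
structure map A → B commuting with the λ^n and ε_B restricting to ε_A on A. Let x ∈ B with ε_B(x) =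
0, and assume that the family (γ^{j+1} x)_{j ∈ ℕ} is algebraically independent over A and generates
B as an A-algebra: B is the free λ-ring A[X, γ^2 X, γ^3 X, …] on one generator over A, augmented by
X ↦ 0. Then for every k the k-th ideal Fil^k B of the γ-filtration of B is the ideal generated by
the products a · m where m = ∏_j (γ^{j+1} x)^{e_j} is a monomial of weight i = Σ_j (j+1) e_j and a
lies in (the image of) Fil^{k−i} A, with Fil^s A = A for s ≤ 0; that is, Fil^k B = Fil^k A +
Fil^{k−1} A·M_1 + ⋯ + Fil^0 A·M_k + (monomials of weight > k), M_i denoting the monomials of weight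
i. The hypotheses hP and hQ, existence of the universal polynomials, are true statements carried so
that the identities of A and B can be used at every index. -/
theorem result
    (K : Type u) [CommRing K] [LambdaRing.LambdaOps K] [BinomialRing K] (hKb : LambdaRing.IsBinomial K)
    (hK : LambdaRing.IsSpecial K)
    (A : Type v) [CommRing A] [LambdaRing.LambdaOps A] [Algebra K A] (hA : LambdaRing.IsSpecial A)
    (εA : A →ₐ[K] K) (hεA : LambdaRing.IsAugLambdaAlg K A εA)
    (B : Type w) [CommRing B] [LambdaRing.LambdaOps B] [Algebra K B] [Algebra A B] [IsScalarTower K A B]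
    (hB : LambdaRing.IsSpecial B) (hAB : LambdaRing.IsLambdaAlg A B)
    (εB : B →ₐ[K] K) (hεB : LambdaRing.IsAugLambdaAlg K B εB) (hεAB : ∀ a : A, εB (algebraMap A B a) = εA a)
    (hP : ∀ n : ℕ, ∃ P : MvPolynomial (Fin n ⊕ Fin n) ℤ, LambdaRing.IsMulPoly n P)
    (hQ : ∀ i j : ℕ, ∃ Q : MvPolynomial (Fin (i * j)) ℤ, LambdaRing.IsCompPoly i j Q)
    (x : B) (hx : εB x = 0)
    (hind : AlgebraicIndependent A (fun j : ℕ => LambdaRing.gamma (j + 1) x))
    (hgen : Algebra.adjoin A (Set.range fun j : ℕ => LambdaRing.gamma (j + 1) x) = ⊤)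
    (k : ℕ) :
    LambdaRing.gammaFil (εB : B →+* K) k =
      Ideal.span {b : B | ∃ (e : ℕ →₀ ℕ) (a : A),
        a ∈ LambdaRing.gammaFil (εA : A →+* K) (k - e.sum fun j n => (j + 1) * n) ∧
        b = algebraMap A B a * e.prod fun j n => LambdaRing.gamma (j + 1) x ^ n} := by
  set J : ℕ → Ideal B := fun k => Ideal.span {b : B | ∃ (e : ℕ →₀ ℕ) (a : A),
    a ∈ LambdaRing.gammaFil (εA : A →+* K) (k - e.sum fun j n => (j + 1) * n) ∧
    b = algebraMap A B a * e.prod fun j n => LambdaRing.gamma (j + 1) x ^ n} with hJdef
  have hεc : Groth.Agent.H27Lambda.Commutes (εB : B →+* K) :=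
    Groth.Agent.H27Lambda.commutes_of_lam hεB.2
  have hψ : Groth.Agent.H27Lambda.Commutes (algebraMap A B) :=
    Groth.Agent.H27Lambda.commutes_of_lam hAB
  have hJ : Groth.Agent.H27Lambda.MulFam J := by
    refine ⟨?_, fun a b hab => Ideal.span_mono ?_, fun a b y hy z hz => ?_⟩
    · rw [Ideal.eq_top_iff_one]
      exact Ideal.subset_span ⟨0, 1, by simp [Groth.Agent.H27Lambda.gammaFil_zero], by simp⟩
    · rintro m ⟨e, c, hc, rfl⟩
      exact ⟨e, c, Groth.Agent.H27Lambda.gammaFil_antitone _ (by omega) hc, rfl⟩
    · have h := Ideal.mul_mem_mul hy hz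
      simp only [hJdef, Ideal.span_mul_span'] at h
      refine Ideal.span_le.2 ?_ h
      rintro _ ⟨_, ⟨e, c, hc, rfl⟩, _, ⟨e', c', hc', rfl⟩, rfl⟩
      refine Ideal.subset_span ⟨e + e', c * c', ?_, ?_⟩
      · refine Groth.Agent.H27Lambda.gammaFil_mul_mem _ hc hc' ?_
        rw [Finsupp.sum_add_index' (h := fun j n => (j + 1) * n) (fun _ => mul_zero _)
          (fun _ _ _ => mul_add _ _ _)]
        omega
      · rw [Finsupp.prod_add_index' (by simp) (fun _ _ _ => pow_add _ _ _), map_mul]
        ring
  have hxg : Groth.Agent.H27Lambda.GammaGood J x := by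
    intro i
    rcases Nat.eq_zero_or_pos i with rfl | hi
    · simp [hJ.zero]
    refine Ideal.subset_span ⟨Finsupp.single (i - 1) 1, 1, ?_, ?_⟩
    · rw [Finsupp.sum_single_index (by simp), show i - (i - 1 + 1) * 1 = 0 by omega,
        Groth.Agent.H27Lambda.gammaFil_zero]
      trivial
    · rw [Finsupp.prod_single_index (by simp), map_one, one_mul, pow_one,
        show i - 1 + 1 = i by omega]
  have hφ := Groth.Agent.H27Lambda.lamSeries_algebraMap_of hKb hεB.1
  refine le_antisymm ?_ (Ideal.span_le.2 ?_)
  · refine Groth.Agent.H27Lambda.gammaFil_le_fam hB hφ εB hJ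
      (Set.range (algebraMap A B) ∪ Set.range fun j : ℕ => LambdaRing.gamma (j + 1) x) ?_ ?_ k
    · refine eq_top_iff.2 fun b _ => ?_
      have hb : b ∈ Algebra.adjoin A (Set.range fun j : ℕ => LambdaRing.gamma (j + 1) x) := by
        rw [hgen]; trivial
      induction hb using Algebra.adjoin_induction with
      | mem s hs => exact Algebra.subset_adjoin (Or.inr hs)
      | algebraMap a => exact Algebra.subset_adjoin (Or.inl ⟨a, rfl⟩)
      | add a b _ _ iha ihb => exact add_mem (iha trivial) (ihb trivial)
      | mul a b _ _ iha ihb => exact mul_mem (iha trivial) (ihb trivial)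
    · rintro s (⟨a, rfl⟩ | ⟨j, rfl⟩)
      · intro i
        rw [hεAB, IsScalarTower.algebraMap_apply K A B, ← map_sub, ← hψ.gamma]
        refine Ideal.subset_span ⟨0, _, ?_, (by rw [Finsupp.prod_zero_index, mul_one])⟩
        rw [Finsupp.sum_zero_index, Nat.sub_zero]
        exact Groth.Agent.H27Lambda.gamma_mem_gammaFil _ _ (by simp)
      · have : εB (LambdaRing.gamma (j + 1) x) = 0 := by
          have h := hεc.gamma (j + 1) x
          simp only [AlgHom.coe_toRingHom, RingHom.coe_coe] at h
          rw [h, hx, Groth.Agent.H27Lambda.gamma_zero_arg (Nat.succ_pos _)]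
        simp only
        rw [this, map_zero, sub_zero]
        exact Groth.Agent.H27Lambda.gammaGood_gamma hB (algebraMap K B) hφ hJ hxg (Nat.succ_pos _)
  · rintro b ⟨e, a, ha, rfl⟩
    have h1 : algebraMap A B a ∈ LambdaRing.gammaFil (εB : B →+* K)
        (k - e.sum fun j n => (j + 1) * n) := by
      have hle : (LambdaRing.gammaFil (εA : A →+* K) (k - e.sum fun j n => (j + 1) * n)).map
          (algebraMap A B) ≤ LambdaRing.gammaFil (εB : B →+* K)
            (k - e.sum fun j n => (j + 1) * n) := by
        refine Ideal.map_le_iff_le_comap.2 (Ideal.span_le.2 ?_)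
        rintro z ⟨l, hl, hln, rfl⟩
        refine Ideal.subset_span ⟨l.map fun p => (p.1, algebraMap A B p.2), ?_, ?_, ?_⟩
        · intro p hp
          obtain ⟨q, hq, rfl⟩ := List.mem_map.1 hp
          simpa [hεAB] using hl q hq
        · simpa [List.map_map, Function.comp_def] using hln
        · simp [map_list_prod, List.map_map, Function.comp_def, hψ.gamma]
      exact hle (Ideal.mem_map_of_mem _ ha)
    have h2 : (e.prod fun j n => LambdaRing.gamma (j + 1) x ^ n) ∈
        LambdaRing.gammaFil (εB : B →+* K) (e.sum fun j n => (j + 1) * n) := by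
      refine Groth.Agent.H27Lambda.gammaFil_prod_mem _ e.support _ _ fun j _ => ?_
      simp only
      rw [mul_comm]
      exact Groth.Agent.H27Lambda.gammaFil_pow_mem _
        (Groth.Agent.H27Lambda.gamma_mem_gammaFil _ _ (by exact hx)) (e j)
    exact Groth.Agent.H27Lambda.gammaFil_mul_mem _ h1 h2 (by omega)

end Groth.Agent.S8698
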