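import Groth.Statements.S8699
import Groth.Agent.H27Lambda.Special

set_option autoImplicit false
universe u
open LambdaRing

namespace Groth.Agent.S8699

/-- A binomial ring K (no additive torsion and all binomial coefficients C(x, n) defined) with its
binomial λ-structure λ^n(x) = C(x, n), i.e. λ_t(x) = (1 + t)^x, is a λ-ring in the strict sense:
λ_t(1) = 1 + t, λ^n(xy) = P_n(λ^1 x, …; λ^1 y, …) and λ^j(λ^i x) = Q_{i,j}(λ^1 x, …) for the
universal polynomials. In particular the integers with λ^n(m) = C(m, n) form a λ-ring. -/
theorem result (K : Type u) [CommRing K] [LambdaRing.LambdaOps K] [BinomialRing K]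
    (hKb : LambdaRing.IsBinomial K) : LambdaRing.IsSpecial K := by
  have hg : ∀ k (x : K), H27Lambda.ghost k (lamSeries x) = x := by
    intro k x
    have hD : PowerSeries.derivative K (lamSeries x) * (1 + PowerSeries.X) =
        PowerSeries.C x * lamSeries x := by
      ext n
      rw [mul_add, mul_one, map_add, PowerSeries.coeff_C_mul, PowerSeries.coeff_derivative,
        H27Lambda.coeff_lamSeries, H27Lambda.coeff_lamSeries, hKb, hKb]
      have h := Ring.choose_smul_choose x (Nat.le_succ n)
      simp only [Nat.succ_eq_add_one, Nat.choose_succ_self_right, Nat.add_sub_cancel_left,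
        Ring.choose_one_right, nsmul_eq_mul, Nat.cast_add, Nat.cast_one] at h
      cases n with
      | zero =>
        rw [PowerSeries.coeff_zero_mul_X]
        simp at h ⊢
      | succ n =>
        rw [PowerSeries.coeff_succ_mul_X, PowerSeries.coeff_derivative, H27Lambda.coeff_lamSeries, hKb]
        push_cast at h ⊢
        linear_combination h
    have hinv : (1 + PowerSeries.X : PowerSeries K) * PowerSeries.mk (fun n => (-1 : K) ^ n) = 1 := by
      have h := PowerSeries.mul_invOfUnit (1 + PowerSeries.X : PowerSeries K) 1 (by simp)
      have h' := H27Lambda.invOfUnit_one_sub (-1 : K)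
      simp only [map_neg, map_one, neg_mul, one_mul, sub_neg_eq_add] at h'
      rwa [h'] at h
    have hd : H27Lambda.dlog (lamSeries x) = PowerSeries.C x * PowerSeries.mk (fun n => (-1 : K) ^ n) := by
      have hu := H27Lambda.isUnit_lamSeries x
      apply hu.mul_left_cancel
      rw [H27Lambda.self_mul_dlog (H27Lambda.constantCoeff_lamSeries x), ← mul_assoc,
        mul_comm (lamSeries x) (PowerSeries.C x), ← hD, mul_assoc, hinv, mul_one]
    rw [H27Lambda.ghost, hd, PowerSeries.coeff_C_mul, PowerSeries.coeff_mk, mul_left_comm, ← mul_pow]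
    simp
  have : IsAddTorsionFree K := BinomialRing.toIsAddTorsionFree
  exact H27Lambda.isSpecial_of_ghost (fun k => hg k 1) (fun k x y => by rw [hg, hg, hg])
    (fun k k' x => by rw [hg, hg, hg])

end Groth.Agent.S8699
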