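import Groth.Statements.S8702
import Groth.Agent.H27Lambda.Special

set_option autoImplicit false
universe u
open LambdaRing

namespace Groth.Agent.S8702

/-- The coefficients λ^n(x) determined by Newton's recursion. -/
noncomputable def lamAux {K : Type u} [CommRing K] [Algebra ℚ K] (ψ : ℕ → K →+ K) (x : K) : ℕ → K
  | 0 => 1
  | n + 1 => algebraMap ℚ K ((n : ℚ) + 1)⁻¹ *
      ∑ i : Fin (n + 1), lamAux ψ x i * ((-1) ^ (n - (i : ℕ)) * ψ (n - (i : ℕ) + 1) x)

/-- Let K be a commutative ring which is an algebra over the rationals, and let ψ^k : K → K, k ≥ 1, be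
additive maps with ψ^1 the identity. Then there is one and only one pre-λ-structure on K whose Adams
operations (defined through the logarithmic derivative of λ_t) are the ψ^k for every k ≥ 1, namely
λ_t(x) = exp(Σ_{k ≥ 1} (−1)^{k−1} ψ^k(x) t^k / k): in characteristic zero, pre-λ-structures and
families of additive operations ψ^k with ψ^1 = id determine each other. (The value of the family at
k = 0 is ignored.) -/
theorem result (K : Type u) [CommRing K] [Algebra ℚ K]
    (ψ : ℕ → K →+ K) (hψ : ψ 1 = AddMonoidHom.id K) :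
    ∃! L : LambdaRing.LambdaOps K, ∀ k : ℕ, 1 ≤ k → ∀ x : K, @LambdaRing.adamsOp K _ L k x = ψ k x := by
  haveI := H27Lambda.isAddTorsionFree_of_algebraRat K
  let f : K → PowerSeries K := fun x => PowerSeries.mk (lamAux ψ x)
  have h0 : ∀ x, PowerSeries.constantCoeff (f x) = 1 := fun x => by
    rw [← PowerSeries.coeff_zero_eq_constantCoeff_apply]
    simp [f, lamAux]
  have hgh : ∀ k x, H27Lambda.ghost k (f x) = ψ (k + 1) x := by
    intro k x
    have hd : H27Lambda.dlog (f x) = PowerSeries.mk fun j => (-1 : K) ^ j * ψ (j + 1) x := by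
      have hu : IsUnit (f x) := by
        rw [PowerSeries.isUnit_iff_constantCoeff, h0]; exact isUnit_one
      apply hu.mul_left_cancel
      rw [H27Lambda.self_mul_dlog (h0 x)]
      ext n
      rw [PowerSeries.coeff_derivative, PowerSeries.coeff_mul,
        Finset.Nat.sum_antidiagonal_eq_sum_range_succ_mk]
      simp only [f, PowerSeries.coeff_mk]
      rw [lamAux, mul_right_comm, Finset.sum_range (fun i => lamAux ψ x i * ((-1 : K) ^ (n - i) * ψ (n - i + 1) x))]
      have : algebraMap ℚ K ((n : ℚ) + 1)⁻¹ * ((n : K) + 1) = 1 := by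
        rw [show ((n : K) + 1) = algebraMap ℚ K ((n : ℚ) + 1) by simp, ← map_mul,
          inv_mul_cancel₀ (Nat.cast_add_one_ne_zero n), map_one]
      rw [this, one_mul]
    rw [H27Lambda.ghost, hd, PowerSeries.coeff_mk, ← mul_assoc, ← mul_pow]
    simp
  have hadd : ∀ x y, f (x + y) = f x * f y := fun x y =>
    H27Lambda.series_eq_of_ghost (h0 _) (by simp [h0]) fun k => by
      rw [H27Lambda.ghost_mul (h0 x) (h0 y), hgh, hgh, hgh, map_add]
  let L : LambdaOps K :=
    { lam := fun n x => PowerSeries.coeff n (f x)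
      lam_zero := fun x => by rw [PowerSeries.coeff_zero_eq_constantCoeff_apply, h0]
      lam_one := fun x => by simp [f, lamAux, hψ]
      lam_add := fun k x y => by
        simp only [hadd, PowerSeries.coeff_mul, Finset.Nat.sum_antidiagonal_eq_sum_range_succ_mk] }
  refine ⟨L, fun k hk x => ?_, fun L' hL' => ?_⟩
  · obtain ⟨k, rfl⟩ : ∃ m, k = m + 1 := ⟨k - 1, by omega⟩
    rw [← hgh, H27Lambda.adamsOp_succ]
    have : @lamSeries K _ L x = f x := PowerSeries.ext fun n => by
      rw [H27Lambda.coeff_lamSeries]; rfl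
    rw [this]
  · have hlam : ∀ n x, L'.lam n x = L.lam n x := fun n x => by
      rw [← @H27Lambda.coeff_lamSeries K _ L']
      show _ = PowerSeries.coeff n (f x)
      rw [H27Lambda.series_eq_of_ghost (@H27Lambda.constantCoeff_lamSeries K _ L' x) (h0 x) fun k => ?_]
      rw [hgh, ← hL' (k + 1) (by omega) x]
      rfl
    rcases L' with ⟨l, _, _, _⟩
    have : l = L.lam := funext fun n => funext (hlam n)
    subst this
    rfl

end Groth.Agent.S8702
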