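import Groth.Statements.S8703
import Groth.Agent.H27Lambda.Special

set_option autoImplicit false
universe u
open LambdaRing

namespace Groth.Agent.S8703

/-- The Adams operations commute with λ-homomorphisms, and conversely, if K and K' are pre-λ-rings which
are algebras over the rationals, a ring homomorphism f : K → K' commuting with the ψ^k for all k ≥ 1
is a λ-homomorphism (commutes with all λ^i), the λ^i being expressible through the ψ^k in
characteristic zero. -/
theorem result (K K' : Type u) [CommRing K] [CommRing K']
    [LambdaRing.LambdaOps K] [LambdaRing.LambdaOps K'] [Algebra ℚ K] [Algebra ℚ K'] (f : K →+* K') :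
    LambdaRing.IsLambdaHom f ↔
      ∀ k : ℕ, 1 ≤ k → ∀ x : K, f (LambdaRing.adamsOp k x) = LambdaRing.adamsOp k (f x) := by
  haveI := H27Lambda.isAddTorsionFree_of_algebraRat K'
  constructor
  · intro hf k hk x
    obtain ⟨k, rfl⟩ : ∃ m, k = m + 1 := ⟨k - 1, by omega⟩
    rw [H27Lambda.adamsOp_succ, H27Lambda.adamsOp_succ,
      H27Lambda.map_ghost f (H27Lambda.constantCoeff_lamSeries x), H27Lambda.map_lamSeries hf]
  · intro h i x
    rw [← H27Lambda.coeff_lamSeries, ← H27Lambda.coeff_lamSeries, ← PowerSeries.coeff_map,
      H27Lambda.series_eq_of_ghost (H27Lambda.constantCoeff_map_one f (H27Lambda.constantCoeff_lamSeries x))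
        (H27Lambda.constantCoeff_lamSeries (f x)) fun k => ?_]
    rw [← H27Lambda.map_ghost f (H27Lambda.constantCoeff_lamSeries x)]
    exact h (k + 1) (by omega) x

end Groth.Agent.S8703
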