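import Groth.Statements.S8704
import Groth.Agent.H27Lambda.FamTransfer

set_option autoImplicit false
universe u v
open LambdaRing

namespace Groth.Agent.S8704

/-- Let K and A be λ-rings in the strict sense, A an augmented K-λ-algebra with augmentation ε : A → K,
and Fil^n A its γ-filtration, the ideal generated by the products γ^{i_1}(x_1) ⋯ γ^{i_k}(x_k) with
i_1 + ⋯ + i_k ≥ n and all ε(x_r) = 0. If a subset S generates A as an abelian group, then Fil^n A,
as a K-submodule of A, is generated over K by the products γ^{i_1}(s_1 − ε(s_1)) ⋯ γ^{i_k}(s_k −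
ε(s_k)) with s_r ∈ S and i_1 + ⋯ + i_k ≥ n. -/
theorem result
    (K : Type u) [CommRing K] [LambdaRing.LambdaOps K] (hK : LambdaRing.IsSpecial K)
    (A : Type v) [CommRing A] [LambdaRing.LambdaOps A] [Algebra K A] (hA : LambdaRing.IsSpecial A)
    (ε : A →ₐ[K] K) (hε : LambdaRing.IsAugLambdaAlg K A ε)
    (S : Set A) (hS : AddSubgroup.closure S = ⊤) (n : ℕ) :
    (LambdaRing.gammaFil (ε : A →+* K) n).restrictScalars K =
      Submodule.span K {y : A | ∃ l : List (ℕ × A), (∀ p ∈ l, p.2 ∈ S) ∧ n ≤ (l.map Prod.fst).sum ∧
        y = (l.map fun p => LambdaRing.gamma p.1 (p.2 - algebraMap K A (ε p.2))).prod} := by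
  set T : ℕ → Submodule K A := fun n => Submodule.span K {y : A | ∃ l : List (ℕ × A),
    (∀ p ∈ l, p.2 ∈ S) ∧ n ≤ (l.map Prod.fst).sum ∧
      y = (l.map fun p => LambdaRing.gamma p.1 (p.2 - algebraMap K A (ε p.2))).prod} with hTdef
  have hanti : ∀ {a b : ℕ}, a ≤ b → T b ≤ T a := fun {a b} hab => Submodule.span_mono (by
    rintro y ⟨l, hl, hn, rfl⟩; exact ⟨l, hl, hab.trans hn, rfl⟩)
  have hmul : ∀ a b, ∀ y ∈ T a, ∀ z ∈ T b, y * z ∈ T (a + b) := by
    intro a b y hy z hz
    have h := Submodule.mul_mem_mul hy hz
    simp only [hTdef, Submodule.span_mul_span] at h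
    refine Submodule.span_le.2 ?_ h
    rintro _ ⟨_, ⟨l, hl, hn, rfl⟩, _, ⟨l', hl', hn', rfl⟩, rfl⟩
    refine Submodule.subset_span ⟨l ++ l', ?_, ?_, by simp⟩
    · intro p hp
      rcases List.mem_append.1 hp with h | h
      exacts [hl p h, hl' p h]
    · simp only [List.map_append, List.sum_append]; omega
  have h1 : (1 : A) ∈ T 0 := Submodule.subset_span ⟨[], by simp, le_rfl, rfl⟩
  have hsc : ∀ c : K, algebraMap K A c ∈ T 0 := fun c => by
    rw [Algebra.algebraMap_eq_smul_one]; exact Submodule.smul_mem _ c h1
  have hgood : ∀ z : A, ∀ i, LambdaRing.gamma i (z - algebraMap K A (ε z)) ∈ T i := by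
    intro z
    have hz : z ∈ AddSubgroup.closure S := by rw [hS]; trivial
    induction hz using AddSubgroup.closure_induction with
    | mem s hs =>
      intro i
      exact Submodule.subset_span ⟨[(i, s)], by simp [hs], by simp, by simp⟩
    | zero =>
      intro i
      rw [map_zero, map_zero, sub_zero]
      rcases Nat.eq_zero_or_pos i with rfl | hi
      · rwa [Groth.Agent.H27Lambda.gamma_zero]
      · rw [Groth.Agent.H27Lambda.gamma_zero_arg (by omega)]; exact zero_mem _
    | add a b _ _ iha ihb =>
      intro i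
      rw [map_add, map_add, add_sub_add_comm, ← Groth.Agent.H27Lambda.coeff_gammaSeries,
        Groth.Agent.H27Lambda.gammaSeries_add, PowerSeries.coeff_mul]
      refine Submodule.sum_mem _ fun p hp => ?_
      rw [Finset.HasAntidiagonal.mem_antidiagonal] at hp
      rw [Groth.Agent.H27Lambda.coeff_gammaSeries, Groth.Agent.H27Lambda.coeff_gammaSeries, ← hp]
      exact hmul _ _ _ (iha p.1) _ (ihb p.2)
    | neg a _ iha =>
      set w := a - algebraMap K A (ε a)
      rw [map_neg, map_neg, show -a - -(algebraMap K A (ε a)) = -w by simp [w]; ring]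
      intro i
      induction i using Nat.strong_induction_on with
      | _ i ih =>
        rcases Nat.eq_zero_or_pos i with rfl | hi
        · rwa [Groth.Agent.H27Lambda.gamma_zero]
        have h : PowerSeries.coeff i
            (Groth.Agent.H27Lambda.gammaSeries (-w) * Groth.Agent.H27Lambda.gammaSeries w) = 0 := by
          rw [← Groth.Agent.H27Lambda.gammaSeries_add, neg_add_cancel,
            Groth.Agent.H27Lambda.gammaSeries_zero, PowerSeries.coeff_one, if_neg (by omega)]
        rw [PowerSeries.coeff_mul, Finset.Nat.sum_antidiagonal_eq_sum_range_succ_mk,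
          Finset.sum_range_succ] at h
        simp only [Nat.sub_self, Groth.Agent.H27Lambda.coeff_gammaSeries,
          Groth.Agent.H27Lambda.gamma_zero, mul_one] at h
        rw [eq_neg_of_add_eq_zero_right h]
        refine neg_mem (Submodule.sum_mem _ fun j hj => ?_)
        rw [Finset.mem_range] at hj
        have := hmul _ _ _ (ih j hj) _ (iha (i - j))
        rwa [show j + (i - j) = i by omega] at this
  have htop : ∀ z : A, z ∈ T 0 := fun z => by
    have h := add_mem (hanti (Nat.zero_le 1) (hgood z 1)) (hsc (ε z))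
    rwa [Groth.Agent.H27Lambda.gamma_one, sub_add_cancel] at h
  refine le_antisymm (fun y hy => ?_) (Submodule.span_le.2 ?_)
  · have hy' : y ∈ LambdaRing.gammaFil (ε : A →+* K) n := hy
    show y ∈ T n
    clear hy
    induction hy' using Submodule.span_induction with
    | mem z hz =>
      obtain ⟨l, hl, hn, rfl⟩ := hz
      refine hanti hn ?_
      clear hn
      induction l with
      | nil => simpa using h1
      | cons p l ih =>
        simp only [List.map_cons, List.sum_cons, List.prod_cons]
        refine hmul _ _ _ ?_ _ (ih fun q hq => hl q (List.mem_cons_of_mem _ hq))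
        have hp : ε p.2 = 0 := hl p List.mem_cons_self
        simpa [hp] using hgood p.2 p.1
    | zero => exact zero_mem _
    | add a b _ _ iha ihb => exact add_mem iha ihb
    | smul a b _ ih =>
      rw [smul_eq_mul]
      simpa using hmul 0 n _ (htop a) _ ih
  · rintro y ⟨l, hl, hn, rfl⟩
    change _ ∈ LambdaRing.gammaFil (ε : A →+* K) n
    refine Ideal.subset_span ⟨l.map fun p => (p.1, p.2 - algebraMap K A (ε p.2)), ?_, ?_, ?_⟩
    · intro p hp
      obtain ⟨q, -, rfl⟩ := List.mem_map.1 hp
      simp
    · simpa [List.map_map, Function.comp_def] using hn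
    · simp [List.map_map, Function.comp_def]

end Groth.Agent.S8704
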