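import Groth.Statements.S8705
import Groth.Agent.H28Alg.SymmCocycle

set_option autoImplicit false
universe u
open SGA7

namespace Groth.Agent.S8705

/-- In the case of the punctual topos (ordinary abelian groups): let P be an abelian group and consider
the complex of free abelian groups Z[P × P × P] ⊕ Z[P × P] → Z[P × P] → Z[P], augmented to P by [p]
↦ p, with d₀[p, q] = [p + q] − [p] − [q], with d₁ on the first summand given by [p, q, r] ↦ [p + q,
r] − [p, q + r] + [p, q] − [q, r] and on the second summand by [p, q] ↦ [p, q] − [q, p]. Then the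
augmentation is surjective with kernel the image of d₀ (so H₀ is P), and the kernel of d₀ is the sum
of the images of the two components of d₁ (so H₁ vanishes). (The published statement is for abelian
sheaves on an arbitrary topos; this row is its case of a one-point space.) -/
theorem result (P : Type u) [AddCommGroup P] :
    letI ε : (P →₀ ℤ) →ₗ[ℤ] P := Finsupp.linearCombination ℤ (fun p : P => p)
    letI d₀ : (P × P →₀ ℤ) →ₗ[ℤ] (P →₀ ℤ) := Finsupp.linearCombination ℤ
      (fun pq : P × P => Finsupp.single (pq.1 + pq.2) 1 - Finsupp.single pq.1 1 - Finsupp.single pq.2 1)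
    letI d₁ : (P × P × P →₀ ℤ) →ₗ[ℤ] (P × P →₀ ℤ) := Finsupp.linearCombination ℤ
      (fun t : P × P × P => Finsupp.single (t.1 + t.2.1, t.2.2) 1 - Finsupp.single (t.1, t.2.1 + t.2.2) 1
        + Finsupp.single (t.1, t.2.1) 1 - Finsupp.single (t.2.1, t.2.2) 1)
    letI d₁' : (P × P →₀ ℤ) →ₗ[ℤ] (P × P →₀ ℤ) := Finsupp.linearCombination ℤ
      (fun pq : P × P => Finsupp.single pq 1 - Finsupp.single (pq.2, pq.1) 1)
    Function.Surjective ε ∧ LinearMap.ker ε = LinearMap.range d₀ ∧
      LinearMap.ker d₀ = LinearMap.range d₁ ⊔ LinearMap.range d₁' := by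
  refine ⟨fun p => ⟨Finsupp.single p 1, by simp⟩, le_antisymm (fun x hx => ?_) ?_, le_antisymm (fun x hx => ?_) ?_⟩
  · set d₀ := Finsupp.linearCombination ℤ (fun pq : P × P => Finsupp.single (pq.1 + pq.2) (1 : ℤ) - Finsupp.single pq.1 1 - Finsupp.single pq.2 1) with hd
    let R := LinearMap.range d₀
    have hadd : ∀ a b : P, R.mkQ (Finsupp.single (a + b) 1) = R.mkQ (Finsupp.single a 1) + R.mkQ (Finsupp.single b 1) := by
      intro a b
      rw [← map_add, ← sub_eq_zero, ← map_sub, Submodule.mkQ_apply, Submodule.Quotient.mk_eq_zero]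
      exact ⟨Finsupp.single (a, b) 1, by simp [d₀, sub_sub]⟩
    let ψ : P →+ (P →₀ ℤ) ⧸ R := AddMonoidHom.mk' (fun a => R.mkQ (Finsupp.single a 1)) hadd
    have hfac : ψ.toIntLinearMap ∘ₗ Finsupp.linearCombination ℤ (fun p : P => p) = R.mkQ :=
      Finsupp.lhom_ext' fun a => LinearMap.ext_ring (by simp [ψ])
    have h := LinearMap.congr_fun hfac x
    rw [LinearMap.comp_apply, LinearMap.mem_ker.1 hx, map_zero, Submodule.mkQ_apply, eq_comm, Submodule.Quotient.mk_eq_zero] at h
    exact h
  · rw [LinearMap.range_le_ker_iff]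
    exact Finsupp.lhom_ext' fun pq => LinearMap.ext_ring (by simp)
  · set d₁ := Finsupp.linearCombination ℤ (fun t : P × P × P => Finsupp.single (t.1 + t.2.1, t.2.2) (1 : ℤ) - Finsupp.single (t.1, t.2.1 + t.2.2) 1
      + Finsupp.single (t.1, t.2.1) 1 - Finsupp.single (t.2.1, t.2.2) 1) with hd₁
    set d₁' := Finsupp.linearCombination ℤ (fun pq : P × P => Finsupp.single pq (1 : ℤ) - Finsupp.single (pq.2, pq.1) 1) with hd₁'
    let R := LinearMap.range d₁ ⊔ LinearMap.range d₁'
    have hs : ∀ p q : P, R.mkQ (Finsupp.single (p, q) 1) = R.mkQ (Finsupp.single (q, p) 1) := fun p q => by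
      rw [← sub_eq_zero, ← map_sub, Submodule.mkQ_apply, Submodule.Quotient.mk_eq_zero]
      exact Submodule.mem_sup_right ⟨Finsupp.single (p, q) 1, by simp [d₁']⟩
    have hc : ∀ p q r : P, R.mkQ (Finsupp.single (p + q, r) 1) + R.mkQ (Finsupp.single (p, q) 1) =
        R.mkQ (Finsupp.single (p, q + r) 1) + R.mkQ (Finsupp.single (q, r) 1) := fun p q r => by
      rw [← map_add, ← map_add, ← sub_eq_zero, ← map_sub, Submodule.mkQ_apply, Submodule.Quotient.mk_eq_zero]
      exact Submodule.mem_sup_left ⟨Finsupp.single (p, q, r) 1, by simp [d₁]; abel⟩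
    have h := H28Alg.cocycle_vanish (fun p q => R.mkQ (Finsupp.single (p, q) 1)) hs hc R.mkQ (fun _ _ => rfl) x (LinearMap.mem_ker.1 hx)
    rwa [Submodule.mkQ_apply, Submodule.Quotient.mk_eq_zero] at h
  · refine sup_le ?_ ?_
    · rw [LinearMap.range_le_ker_iff]
      refine Finsupp.lhom_ext' fun t => LinearMap.ext_ring ?_
      simp [add_assoc] <;> abel
    · rw [LinearMap.range_le_ker_iff]
      refine Finsupp.lhom_ext' fun t => LinearMap.ext_ring ?_
      simp [add_comm t.1 t.2, sub_right_comm _ (Finsupp.single t.2 (1:ℤ)) _]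

end Groth.Agent.S8705
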