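import Groth.Statements.S8706
import Groth.Agent.H28Const.Torsor

set_option autoImplicit false
set_option linter.style.haveILetI false
set_option backward.isDefEq.respectTransparency.types false
set_option maxHeartbeats 1600000
universe u
open CategoryTheory CategoryTheory.Limits MonoidalCategory CartesianMonoidalCategory MonObj AlgebraicGeometry
open SGA7
open Groth.Agent

namespace Groth.Agent.S8706

/-- Let p : P → S be a smooth morphism of finite presentation (smooth, quasi-compact, quasi-separated)
with geometrically connected fibres, e : S → P a section of p, Z a group and G the constant P-group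
scheme Z_P (through the isomorphism eG), E a torsor under G over P for the fppf topology, and e' : S
→ E a section of E lying over e. Then E is trivial (has a section over P) if and only if for every
point s of S the torsor induced on the fibre P_s is trivial (E acquires a section over P_s → P); and
when E is trivial there is exactly one section g of E over P with g ∘ e = e'. -/
theorem result (S P : Scheme.{u}) (p : P ⟶ S)
    [Smooth p] [QuasiCompact p] [QuasiSeparated p] [GeometricallyConnected p]
    (e : S ⟶ P) (he : e ≫ p = 𝟙 S)
    (Z : Type u) [Group Z] (G : Over P) [GrpObj G] (eG : G ≅ TwC.const P Z) (hG : TwC.IsConstGrp Z G eG)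
    (E : NonAbH1.TorsorSch G Scheme.fppfPrecoverage)
    (e' : S ⟶ E.X.left) (he' : e' ≫ E.X.hom = e) :
    (NonAbH1.HasSectionOver E.X (𝟙 P) ↔
        ∀ s : ↥S, NonAbH1.HasSectionOver E.X (pullback.fst p (S.fromSpecResidueField s))) ∧
      (NonAbH1.HasSectionOver E.X (𝟙 P) →
        ∃! g : P ⟶ E.X.left, g ≫ E.X.hom = 𝟙 P ∧ e ≫ g = e') := by
  have hps := E.isTorsor
  refine ⟨⟨fun ⟨g, hg⟩ s => ⟨pullback.fst p (S.fromSpecResidueField s) ≫ g, by
      rw [Category.assoc, hg, Category.comp_id]⟩, fun hfib => ?_⟩, fun ⟨g₀, hg₀⟩ => ?_⟩
  · obtain ⟨g, hg, -⟩ := H28Const.exists_section E.act hG hps p e he e' he' hfib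
    exact ⟨g, hg⟩
  · obtain ⟨g, hg, hge⟩ := H28Const.exists_section E.act hG hps p e he e' he' (fun s =>
      ⟨pullback.fst p (S.fromSpecResidueField s) ≫ g₀, by rw [Category.assoc, hg₀, Category.comp_id]⟩)
    refine ⟨g, ⟨hg, hge⟩, fun g' hg' => ?_⟩
    exact congrArg (fun z : 𝟙_ (Over P) ⟶ E.X => z.left) (H28Const.section_unique E.act hG hps.1 p e he
      (Over.homMk g' hg'.1) (Over.homMk g hg) (hg'.2.trans hge.symm))

end Groth.Agent.S8706
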