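import Groth.Statements.S8709
import Groth.Agent.H28Neron.UnitProduct
import Groth.Agent.H12AlgSp.UnivInj

set_option autoImplicit false
set_option backward.isDefEq.respectTransparency false
set_option linter.style.haveILetI false
set_option maxHeartbeats 1000000
set_option synthInstance.maxHeartbeats 100000
universe u
open CategoryTheory CategoryTheory.Limits MonoidalCategory CartesianMonoidalCategory MonObj AlgebraicGeometry
open SGA7

namespace Groth.Agent.S8709

/-- Let k be a field and X, Y two k-schemes of finite type which are geometrically reduced and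
geometrically connected, with rational points e_X and e_Y. Then every k-morphism u from X ×_k Y to
the multiplicative group whose restrictions to X × e_Y and to e_X × Y are trivial is trivial.
(Morphisms to the multiplicative group over k form a group; trivial means equal to its unit
element.) -/
theorem result (k : Type u) [Field k]
    (X Y : Over (Spec (CommRingCat.of k)))
    [LocallyOfFiniteType X.hom] [QuasiCompact X.hom] [GeometricallyReduced X.hom] [GeometricallyConnected X.hom]
    [LocallyOfFiniteType Y.hom] [QuasiCompact Y.hom] [GeometricallyReduced Y.hom] [GeometricallyConnected Y.hom]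
    (eX : 𝟙_ (Over (Spec (CommRingCat.of k))) ⟶ X) (eY : 𝟙_ (Over (Spec (CommRingCat.of k))) ⟶ Y)
    (u : X ⊗ Y ⟶ Red.Gm (Spec (CommRingCat.of k)))
    (huX : lift (𝟙 X) (toUnit X ≫ eY) ≫ u = 1) (huY : lift (toUnit Y ≫ eX) (𝟙 Y) ≫ u = 1) :
    u = 1 := by
  classical
  let K := AlgebraicClosure k
  let f : Spec (CommRingCat.of K) ⟶ Spec (CommRingCat.of k) := Spec.map (CommRingCat.ofHom (algebraMap k K))
  haveI : IsAffineHom f := inferInstance
  haveI : Flat f := H12AlgSp.flat_to_field f
  haveI : Surjective f := ⟨Function.surjective_to_subsingleton _⟩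
  let F := Over.pullback f
  have bc_one : ∀ {S' S : Scheme.{u}} (g : S' ⟶ S) (G : Over S) [GrpObj G],
      (η[Red.bc g G]).left ≫ pullback.fst G.hom g = g ≫ (η[G]).left := by
    intro S' S g G _
    rw [show η[Red.bc g G] = Functor.LaxMonoidal.ε (Over.pullback g) ≫ (Over.pullback g).map η[G] from
      Functor.obj.η_def (F := Over.pullback g) G, Over.comp_left, Category.assoc]
    erw [pullback.lift_fst]
    rw [← Category.assoc]
    congr 1
    have hw : (Functor.LaxMonoidal.ε (Over.pullback g)).left ≫ pullback.snd (𝟙_ (Over S)).hom g = 𝟙 S' :=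
      Over.w (Functor.LaxMonoidal.ε (Over.pullback g))
    have hc := congrArg (fun m => (Functor.LaxMonoidal.ε (Over.pullback g)).left ≫ m)
      (pullback.condition (f := (𝟙_ (Over S)).hom) (g := g))
    try simp only at hc
    rw [← Category.assoc _ (pullback.snd _ _), hw] at hc
    exact (congrArg (fun m => (Functor.LaxMonoidal.ε (Over.pullback g)).left ≫ m) (Category.comp_id (pullback.fst (𝟙_ (Over S)).hom g)).symm).trans (hc.trans (Category.id_comp g))
  let φ : F.obj (Red.Gm (Spec (CommRingCat.of k))) ⟶ Red.Gm (Spec (CommRingCat.of K)) :=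
    Over.homMk (pullback.lift (pullback.fst _ f ≫ pullback.fst _ _) (pullback.snd _ f)
      (specULiftZIsTerminal.hom_ext _ _)) (pullback.lift_snd _ _ _)
  haveI : Mono φ := by
    constructor
    intro W a b h
    refine Over.OverMorphism.ext (pullback.hom_ext (pullback.hom_ext ?_ ?_) ((Over.w a).trans (Over.w b).symm))
    · have := congrArg (fun m => m.left ≫ pullback.fst _ _) h
      simpa [φ] using this
    · rw [Category.assoc, Category.assoc]
      show a.left ≫ pullback.fst _ f ≫ (Red.Gm (Spec (CommRingCat.of k))).hom = b.left ≫ pullback.fst _ f ≫ (Red.Gm (Spec (CommRingCat.of k))).hom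
      rw [pullback.condition, ← Category.assoc, ← Category.assoc]
      exact congrArg (· ≫ f) ((Over.w a).trans (Over.w b).symm)
  have hφ : ∀ {W : Over (Spec (CommRingCat.of K))}, (1 : W ⟶ F.obj (Red.Gm (Spec (CommRingCat.of k)))) ≫ φ = 1 := by
    intro W
    rw [Hom.one_def, Hom.one_def, Category.assoc]
    congr 1
    refine Over.OverMorphism.ext (pullback.hom_ext ?_ ((Over.w (η[F.obj (Red.Gm (Spec (CommRingCat.of k)))] ≫ φ)).trans
      (Over.w η[Red.Gm (Spec (CommRingCat.of K))]).symm))
    rw [bc_one, Over.comp_left, Category.assoc]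
    erw [pullback.lift_fst]
    rw [← Category.assoc]
    erw [bc_one f, Category.assoc, bc_one]
    rw [← Category.assoc]
    congr 1
    exact specULiftZIsTerminal.hom_ext _ _
  haveI : LocallyOfFiniteType (Red.Gm (Spec (CommRingCat.of K))).hom := by
    show LocallyOfFiniteType (pullback.snd _ _)
    haveI : LocallyOfFiniteType (Red.diag (ULift.{u} ℤ) ℤ).hom := by
      show LocallyOfFiniteType (Spec.map _)
      rw [HasRingHomProperty.Spec_iff (P := @LocallyOfFiniteType)]
      exact RingHom.finiteType_algebraMap.2 inferInstance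
    infer_instance
  haveI : Flat X.hom := H12AlgSp.flat_to_field _
  haveI : Flat Y.hom := H12AlgSp.flat_to_field _
  haveI : IsReduced (F.obj X).left := GeometricallyReduced.geometrically_isReduced _ _ _ (IsPullback.of_hasPullback X.hom f)
  haveI : IsReduced (F.obj Y).left := GeometricallyReduced.geometrically_isReduced _ _ _ (IsPullback.of_hasPullback Y.hom f)
  haveI : ConnectedSpace (F.obj X).left := GeometricallyConnected.geometrically_connectedSpace _ _ _ (IsPullback.of_hasPullback X.hom f)
  haveI : ConnectedSpace (F.obj Y).left := GeometricallyConnected.geometrically_connectedSpace _ _ _ (IsPullback.of_hasPullback Y.hom f)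
  haveI : LocallyOfFiniteType (F.obj X).hom := inferInstanceAs (LocallyOfFiniteType (pullback.snd _ _))
  haveI : LocallyOfFiniteType (F.obj Y).hom := inferInstanceAs (LocallyOfFiniteType (pullback.snd _ _))
  haveI : QuasiCompact (F.obj X).hom := inferInstanceAs (QuasiCompact (pullback.snd _ _))
  haveI : QuasiCompact (F.obj Y).hom := inferInstanceAs (QuasiCompact (pullback.snd _ _))
  haveI : GeometricallyReduced (F.obj X).hom := inferInstanceAs (GeometricallyReduced (pullback.snd _ _))
  haveI : Flat (F.obj X).hom := inferInstanceAs (Flat (pullback.snd _ _))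
  haveI : IsLocallyNoetherian (F.obj Y).left := LocallyOfFiniteType.isLocallyNoetherian (F.obj Y).hom
  haveI : IsReduced (F.obj X ⊗ F.obj Y).left := inferInstanceAs (IsReduced (pullback (F.obj X).hom (F.obj Y).hom))
  let u' : F.obj X ⊗ F.obj Y ⟶ Red.Gm (Spec (CommRingCat.of K)) := Functor.LaxMonoidal.μ F X Y ≫ F.map u ≫ φ
  have h1 : u' = 1 := by
    refine H28Neron.UnitProduct.eq_one (Functor.LaxMonoidal.ε F ≫ F.map eX) (Functor.LaxMonoidal.ε F ≫ F.map eY) u' ?_ ?_
    · have : lift (𝟙 (F.obj X)) (toUnit _ ≫ Functor.LaxMonoidal.ε F ≫ F.map eY) ≫ Functor.LaxMonoidal.μ F X Y =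
          F.map (lift (𝟙 X) (toUnit X ≫ eY)) := by
        rw [← Functor.Monoidal.lift_μ, CategoryTheory.Functor.map_id, CategoryTheory.Functor.map_comp]
        congr 2
        rw [← Category.assoc, Functor.Monoidal.toUnit_ε]
      rw [← Category.assoc, this, ← Category.assoc, ← CategoryTheory.Functor.map_comp, huX, Functor.map_one, hφ]
    · have : lift (toUnit _ ≫ Functor.LaxMonoidal.ε F ≫ F.map eX) (𝟙 (F.obj Y)) ≫ Functor.LaxMonoidal.μ F X Y =
          F.map (lift (toUnit Y ≫ eX) (𝟙 Y)) := by
        rw [← Functor.Monoidal.lift_μ, CategoryTheory.Functor.map_id, CategoryTheory.Functor.map_comp]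
        congr 2
        rw [← Category.assoc, Functor.Monoidal.toUnit_ε]
      rw [← Category.assoc, this, ← Category.assoc, ← CategoryTheory.Functor.map_comp, huY, Functor.map_one, hφ]
  have h2 : F.map u = F.map 1 := by
    rw [← cancel_epi (Functor.LaxMonoidal.μ F X Y), ← cancel_mono φ, Category.assoc,
      show Functor.LaxMonoidal.μ F X Y ≫ F.map u ≫ φ = u' from rfl, h1, Functor.map_one,
      MonObj.comp_one, hφ]
  have h3 := congrArg (fun m => m.left ≫ pullback.fst _ f) h2
  simp only [F, Over.pullback, Over.homMk_left] at h3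
  erw [pullback.lift_fst, pullback.lift_fst] at h3
  haveI : Flat (pullback.fst (X ⊗ Y).hom f) := inferInstance
  haveI : Epi (pullback.fst (X ⊗ Y).hom f) := Flat.epi_of_flat_of_surjective _
  exact Over.OverMorphism.ext ((cancel_epi _).1 h3)

end Groth.Agent.S8709
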