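import Groth.Statements.S8710
import Groth.Agent.H3CAlg.TorLES
import Groth.Agent.H1CAlg.Tor

set_option autoImplicit false
universe u
open CategoryTheory CategoryTheory.Limits
open SGA7

namespace Groth.Agent.S8710

/-- Let f : B' → B be a surjective map of R-algebras with B' flat over R, g : C → B a map of R-algebras,
P = B' ×_B C their fibre product (the equalizer of f ∘ pr₁ and g ∘ pr₂ in B' × C), S an R-algebra
and n a natural number. If Tor_i^R(C, S) = 0 for 0 < i < n and Tor_i^R(B, S) = 0 for 0 < i ≤ n, then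
Tor_i^R(P, S) = 0 for 0 < i < n. Here Tor_i^R(M, S) is the i-th left derived functor of M ⊗_R − on
R-modules, evaluated at S. (The published statement asks the vanishing for B only in degrees 0 < i <
n; the published proof and the corollary following it use it in degrees 0 < i ≤ n, which this row
assumes.) -/
theorem result (R B' B C S : Type u) [CommRing R] [CommRing B'] [CommRing B]
    [CommRing C] [CommRing S] [Algebra R B'] [Algebra R B] [Algebra R C] [Algebra R S]
    (f : B' →ₐ[R] B) (hf : Function.Surjective f) (g : C →ₐ[R] B) [Module.Flat R B'] (n : ℕ)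
    (hC : ∀ i : ℕ, 0 < i → i < n →
      IsZero (((Tor (ModuleCat.{u} R) i).obj (ModuleCat.of R C)).obj (ModuleCat.of R S)))
    (hB : ∀ i : ℕ, 0 < i → i ≤ n →
      IsZero (((Tor (ModuleCat.{u} R) i).obj (ModuleCat.of R B)).obj (ModuleCat.of R S))) :
    letI P := AlgHom.equalizer (f.comp (AlgHom.fst R B' C)) (g.comp (AlgHom.snd R B' C))
    ∀ i : ℕ, 0 < i → i < n →
      IsZero (((Tor (ModuleCat.{u} R) i).obj (ModuleCat.of R ↥P)).obj (ModuleCat.of R S)) := by
  intro i hi hin
  let P := AlgHom.equalizer (f.comp (AlgHom.fst R B' C)) (g.comp (AlgHom.snd R B' C))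
  let d : (B' × C) →ₗ[R] B :=
    f.toLinearMap ∘ₗ LinearMap.fst R B' C - g.toLinearMap ∘ₗ LinearMap.snd R B' C
  let S₁ : ShortComplex (ModuleCat.{u} R) :=
    ShortComplex.mk (ModuleCat.ofHom P.val.toLinearMap) (ModuleCat.ofHom d) (by
      ext x
      exact sub_eq_zero.2 x.2)
  have h₁ : S₁.ShortExact :=
    { exact := by
        rw [ShortComplex.moduleCat_exact_iff]
        intro x hx
        exact ⟨⟨x, sub_eq_zero.1 hx⟩, rfl⟩
      mono_f := (ModuleCat.mono_iff_injective _).2 Subtype.val_injective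
      epi_g := (ModuleCat.epi_iff_surjective _).2 fun b => by
        obtain ⟨x, rfl⟩ := hf b
        exact ⟨((x, 0) : B' × C), by simp [S₁, d]⟩ }
  let S₂ : ShortComplex (ModuleCat.{u} R) :=
    ShortComplex.mk (ModuleCat.ofHom (LinearMap.inl R B' C)) (ModuleCat.ofHom (LinearMap.snd R B' C))
      (by ext x; rfl)
  have h₂ : S₂.ShortExact :=
    { exact := by
        rw [ShortComplex.moduleCat_exact_iff]
        intro x hx
        exact ⟨x.1, Prod.ext rfl hx.symm⟩
      mono_f := (ModuleCat.mono_iff_injective _).2 LinearMap.inl_injective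
      epi_g := (ModuleCat.epi_iff_surjective _).2 fun c => ⟨((0, c) : B' × C), rfl⟩ }
  obtain ⟨j, rfl⟩ := Nat.exists_eq_succ_of_ne_zero hi.ne'
  have hmid := H3CAlg.Tor.isZero_obj_X₂ (ModuleCat.of R S) S₂ h₂ (j + 1)
    (H1CAlg.isZero_Tor_of_flat (ModuleCat.of R B') (ModuleCat.of R S) j) (hC _ hi hin)
  obtain ⟨-, -, δ, w₁, w₂, -, hex⟩ := H3CAlg.Tor.les₁ (ModuleCat.of R S) S₁ h₁ (j + 1)
  exact hex.isZero_X₂ ((hB _ (by omega) (by omega)).eq_of_src _ _) (hmid.eq_of_tgt _ _)

end Groth.Agent.S8710
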