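import Groth.Statements.S8712
import Groth.Agent.H28Const.TwistedExt

set_option autoImplicit false
set_option linter.style.haveILetI false
set_option backward.isDefEq.respectTransparency.types false
set_option maxHeartbeats 1600000
universe u
open CategoryTheory CategoryTheory.Limits MonoidalCategory CartesianMonoidalCategory MonObj AlgebraicGeometry
open SGA7
open Groth.Agent

namespace Groth.Agent.S8712

/-- The vanishing of Ext¹(P, M) proved there: let S be a scheme, P a commutative S-group scheme which is
smooth and of finite presentation over S (smooth, quasi-compact, quasi-separated) with geometrically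
connected fibres, M a commutative S-group scheme which is a twisted constant group with fibres Z^r:
after a flat surjective base change S' → S which is an fpqc covering, Zariski-locally on S', M
becomes the constant group scheme of Z^r for some r (allowed to vary), and u : M → E, v : E → P
homomorphisms of commutative S-group schemes forming a sequence 1 → M → E → P → 1 exact for the fppf
topology. Then every homomorphism P → M is trivial, and the extension E of P by M is trivial: there
is a homomorphism s : P → E with s followed by v equal to the identity of P. -/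
theorem result (S : Scheme.{u})
    (P E M : Over S) [GrpObj P] [GrpObj E] [GrpObj M] [IsCommMonObj P] [IsCommMonObj E] [IsCommMonObj M]
    [Smooth P.hom] [QuasiCompact P.hom] [QuasiSeparated P.hom] [GeometricallyConnected P.hom]
    (hM : TwC.Locally S TwC.Topology.fpqc (fun S' f =>
      ∃ (r : ℕ) (e : Red.bc f M ≅ TwC.const S' (Multiplicative (Fin r → ℤ))),
        TwC.IsConstGrp (Multiplicative (Fin r → ℤ)) (Red.bc f M) e))
    (u : M ⟶ E) (v : E ⟶ P) (hex : NonAbH1.IsExactSeq Scheme.fppfPrecoverage u v) :
    (∀ φ : P ⟶ M, IsMonHom φ → φ = 1) ∧ ∃ s : P ⟶ E, IsMonHom s ∧ s ≫ v = 𝟙 P := by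
  haveI hum : IsMonHom u := hex.1
  haveI hvm : IsMonHom v := hex.2.1
  have hone : ∀ (d : P ⟶ M), η[P] ≫ d = η[M] → d = 1 := fun d hd => by
    refine H28Const.eq_one_of_section hM P.hom (η[P]).left (Over.w η[P]) P.hom d ?_
    rintro _ ⟨x, rfl⟩
    exact ⟨x, by rw [← hd, Over.comp_left]⟩
  refine ⟨fun φ hφ => hone φ (hφ.one_hom), ?_⟩
  obtain ⟨s, hsv, hs1⟩ := H28Const.exists_section_twisted hM hex
  refine ⟨s, ?_, hsv⟩
  refine { one_hom := hs1, mul_hom := ?_ }
  obtain ⟨d, hd, -⟩ := H28SGA7.exists_unique_kernel hex
    ((μ[P] ≫ s) * ((fst P P ≫ s) * (snd P P ≫ s))⁻¹) (by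
      rw [MonObj.mul_comp, GrpObj.inv_comp, MonObj.mul_comp, Category.assoc, Category.assoc, Category.assoc, hsv,
        Category.comp_id, Category.comp_id, Category.comp_id, mul_inv_eq_one, Hom.mul_def, lift_fst_snd, Category.id_comp])
  have hd1 : d = 1 := by
    haveI : GeometricallyConnected (fst P P).left :=
      MorphismProperty.pullback_fst (P := @GeometricallyConnected) _ _ ‹GeometricallyConnected P.hom›
    let i : P ⟶ P ⊗ P := lift (𝟙 P) 1
    have hid : i ≫ d = 1 := by
      refine H28SGA7.kernel_injective hex ?_
      rw [MonObj.one_comp, Category.assoc, hd, MonObj.comp_mul, GrpObj.comp_inv, MonObj.comp_mul,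
        lift_fst_assoc, lift_snd_assoc, Category.id_comp, ← Category.assoc, ← Hom.mul_def, _root_.mul_one,
        Category.id_comp, Hom.one_def, Category.assoc, hs1, ← Hom.one_def, _root_.mul_one, mul_inv_cancel]
    refine H28Const.eq_one_of_section hM (fst P P).left i.left (by rw [← Over.comp_left, lift_fst]; rfl) _ d ?_
    rw [← Over.comp_left, hid, Hom.one_def, Over.comp_left]
    rintro _ ⟨x, rfl⟩
    exact ⟨(toUnit P).left x, (Scheme.Hom.comp_apply _ _ _).symm⟩
  rw [hd1, MonObj.one_comp, eq_comm, mul_inv_eq_one] at hd
  rw [hd, Hom.mul_def, ← lift_fst_comp_snd_comp]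

end Groth.Agent.S8712
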