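import Groth.Statements.S8716
import Groth.Agent.H28Const.Index

set_option autoImplicit false
set_option linter.style.haveILetI false
set_option backward.isDefEq.respectTransparency.types false
universe u
open CategoryTheory CategoryTheory.Limits MonoidalCategory CartesianMonoidalCategory MonObj AlgebraicGeometry
open SGA7
open Groth.Agent

namespace Groth.Agent.S8716

/-- Let k be a field, Z a commutative group without non-trivial elements of finite order, P a
commutative k-group scheme of finite type (so that its group of connected components is a finite,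
hence torsion, group), G the constant k-group scheme Z_k (through the isomorphism eG), and u : G →
E, v : E → P homomorphisms of commutative k-group schemes forming a sequence 1 → G → E → P → 1 exact
for the fppf topology. Then the extension is rigid: every automorphism of the k-group scheme E
compatible with u and v is the identity. (The published statement assumes only P locally of finite
type with torsion component group; this row takes P of finite type, the case it names.) -/
theorem result (k : Type u) [Field k]
    (Z : Type u) [CommGroup Z] (hZ : ∀ z : Z, IsOfFinOrder z → z = 1)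
    (P E G : Over (Spec (CommRingCat.of k))) [GrpObj P] [GrpObj E] [GrpObj G]
    [IsCommMonObj P] [IsCommMonObj E]
    [LocallyOfFiniteType P.hom] [QuasiCompact P.hom]
    (eG : G ≅ TwC.const (Spec (CommRingCat.of k)) Z) (hG : TwC.IsConstGrp Z G eG)
    (u : G ⟶ E) (v : E ⟶ P) (hex : NonAbH1.IsExactSeq Scheme.fppfPrecoverage u v)
    (φ : E ≅ E) [IsMonHom φ.hom] (hφu : u ≫ φ.hom = u) (hφv : φ.hom ≫ v = v) :
    φ.hom = 𝟙 E := by
  haveI hu : IsMonHom u := hex.1
  haveI hvm : IsMonHom v := hex.2.1
  haveI : CompactSpace P.left := QuasiCompact.compactSpace_of_compactSpace P.hom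
  obtain ⟨w, hw, -⟩ := Groth.Agent.H28SGA7.exists_unique_kernel hex (φ.hom * (𝟙 E)⁻¹) (by
    rw [MonObj.mul_comp, GrpObj.inv_comp, hφv, Category.id_comp, mul_inv_cancel])
  have hwT : ∀ {T : Over (Spec (CommRingCat.of k))} (x : T ⟶ E), (x ≫ w) ≫ u = (x ≫ φ.hom) * x⁻¹ := by
    intro T x
    rw [Category.assoc, hw, MonObj.comp_mul, GrpObj.comp_inv, Category.comp_id]
  have hwmul : ∀ {T : Over (Spec (CommRingCat.of k))} (x y : T ⟶ E), (x * y) ≫ w = (x ≫ w) * (y ≫ w) := by
    intro T x y
    refine Groth.Agent.H28SGA7.kernel_injective hex ?_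
    rw [hwT, MonObj.mul_comp, MonObj.mul_comp, hwT, hwT, mul_inv_rev]
    rw [_root_.mul_comm y⁻¹, _root_.mul_mul_mul_comm]
  have hwu : ∀ {T : Over (Spec (CommRingCat.of k))} (g : T ⟶ G), (g ≫ u) ≫ w = 1 := by
    intro T g
    refine Groth.Agent.H28SGA7.kernel_injective hex ?_
    rw [hwT, Category.assoc, hφu, mul_inv_cancel, MonObj.one_comp]
  have hinv : ∀ (T : Over (Spec (CommRingCat.of k))) (a b : T ⟶ E), a ≫ v = b ≫ v →
      a ≫ w ≫ eG.hom = b ≫ w ≫ eG.hom := by
    intro T a b h
    obtain ⟨g, hg, -⟩ := Groth.Agent.H28SGA7.exists_unique_mul hex a b h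
    rw [← hg, ← Category.assoc, ← Category.assoc, hwmul, hwu, _root_.mul_one]
  have hfin := Groth.Agent.H28Const.finite_range_idx hex (w ≫ eG.hom) hinv
  have key : w = 1 := by
    refine Groth.Agent.H28Const.eq_one_of_idx hG w fun t => hZ _ ?_
    by_contra hord
    have hinj : Function.Injective fun n : ℕ => (H28Const.idx (w ≫ eG.hom) t) ^ n :=
      injective_pow_iff_not_isOfFinOrder.2 hord
    refine Set.infinite_range_of_injective hinj (hfin.subset ?_)
    rintro _ ⟨n, rfl⟩
    have hpow : ∀ n : ℕ, H28Const.idx ((((𝟙 E : E ⟶ E) ^ n) ≫ w) ≫ eG.hom) t =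
        (H28Const.idx (w ≫ eG.hom) t) ^ n := by
      intro n
      induction n with
      | zero =>
        rw [pow_zero, pow_zero, show (1 : E ⟶ E) ≫ w = 1 by
          simpa using hwu (1 : E ⟶ G)]
        exact Groth.Agent.H28Const.idx_one hG t
      | succ m ih => rw [pow_succ, pow_succ, hwmul, Groth.Agent.H28Const.idx_mul hG, ih, Category.id_comp]
    exact ⟨(((𝟙 E : E ⟶ E) ^ n : E ⟶ E)).left t, by
      rw [← H28Const.idx_comp, ← Category.assoc, hpow]⟩
  have h1 : φ.hom * (𝟙 E)⁻¹ = 1 := by rw [← hw, key, MonObj.one_comp]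
  exact mul_inv_eq_one.1 h1

end Groth.Agent.S8716
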