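import Groth.Statements.S8717
import Groth.Agent.H28Const.ExtSection

set_option autoImplicit false
set_option linter.style.haveILetI false
set_option backward.isDefEq.respectTransparency.types false
set_option maxHeartbeats 1600000
universe u
open CategoryTheory CategoryTheory.Limits MonoidalCategory CartesianMonoidalCategory MonObj AlgebraicGeometry
open SGA7
open Groth.Agent

namespace Groth.Agent.S8717

attribute [-instance] CategoryTheory.Mon.instMonObjTensorObj GrpObj.tensorObj.instTensorObj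
  MonObj.tensorObj.instTensorObj

/-- Let S be an irreducible scheme all of whose local rings are geometrically unibranch, ξ its generic
point and i : Spec κ(ξ) → S the canonical morphism, Z a group without non-trivial elements of finite
order, G the constant S-group scheme Z_S (through eG), P a smooth S-group scheme, and u' : G_η → E',
v' : E' → P_η homomorphisms of group schemes over κ(ξ) forming a sequence 1 → G_η → E' → P_η → 1
exact for the fppf topology (G_η = G ×_S Spec κ(ξ), P_η likewise). Then the extension comes from S: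
there are an S-group scheme E, homomorphisms u : G → E, v : E → P forming a sequence exact for the
fppf topology, and an isomorphism of group schemes E_η ≅ E' carrying u_η to u' and v_η to v'. (The
published statement asserts that E ↦ E_η is an equivalence of categories of extensions; only
essential surjectivity is stated.) -/
theorem result (S : Scheme.{u}) [IrreducibleSpace ↥S]
    (hS : ∀ s : ↥S, CAlg2.IsGeomUnibranch ↑(S.presheaf.stalk s))
    (ξ : ↥S) (hξ : IsGenericPoint ξ (Set.univ : Set ↥S))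
    (Z : Type u) [Group Z] (hZ : ∀ z : Z, IsOfFinOrder z → z = 1)
    (G P : Over S) [GrpObj G] [GrpObj P] (eG : G ≅ TwC.const S Z) (hG : TwC.IsConstGrp Z G eG) [Smooth P.hom]
    (E' : Over (Spec (S.residueField ξ))) [GrpObj E']
    (u' : Red.bc (S.fromSpecResidueField ξ) G ⟶ E') (v' : E' ⟶ Red.bc (S.fromSpecResidueField ξ) P)
    (hex' : NonAbH1.IsExactSeq Scheme.fppfPrecoverage u' v') :
    ∃ (E : Over S) (_ : GrpObj E) (u : G ⟶ E) (v : E ⟶ P)
      (φ : Red.bc (S.fromSpecResidueField ξ) E ≅ E'),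
      NonAbH1.IsExactSeq Scheme.fppfPrecoverage u v ∧ IsMonHom φ.hom ∧
        (Over.pullback (S.fromSpecResidueField ξ)).map u ≫ φ.hom = u' ∧
        φ.hom ≫ v' = (Over.pullback (S.fromSpecResidueField ξ)).map v := by
  classical
  haveI hu' : IsMonHom u' := hex'.1
  haveI hv' : IsMonHom v' := hex'.2.1
  let F : Over S ⥤ Over (Spec (S.residueField ξ)) := Over.pullback (S.fromSpecResidueField ξ)
  obtain ⟨eη, hGη⟩ := H28Const.exists_bc_isConstGrp hG (S.fromSpecResidueField ξ)
  haveI : IrreducibleSpace ↥(Spec (S.residueField ξ)) := inferInstance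
  haveI : Smooth (Red.bc (S.fromSpecResidueField ξ) P).hom :=
    MorphismProperty.pullback_snd (P := @Smooth) _ _ ‹Smooth P.hom›
  obtain ⟨s, hsv, hs1⟩ := H28Const.exists_section_ext hGη hex' hZ
    (fun x => H28Const.isGeomUnibranch_Spec_field (S.residueField ξ) x)
  have hkill : ∀ {T : Over (Spec (S.residueField ξ))} (g : T ⟶ F.obj G), (g ≫ u') ≫ v' = 1 := fun g => by
    rw [Category.assoc, hex'.2.2.1, MonObj.comp_one]
  have hone : ∀ {T : Over (Spec (S.residueField ξ))}, (1 : T ⟶ F.obj P) ≫ s = 1 := fun {T} => by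
    rw [← MonObj.comp_one (toUnit T) (M := F.obj P), Category.assoc, hs1, MonObj.comp_one]
  haveI : Etale G.hom := by
    haveI : Etale (TwC.const S Z).hom :=
      IsZariskiLocalAtSource.sigmaDesc (P := @Etale) fun _ => inferInstanceAs (Etale (𝟙 S))
    rw [← Over.w eG.hom]
    infer_instance
  haveI : Smooth G.hom := inferInstance
  let E : Over S := G ⊗ P
  haveI hEsm : Smooth E.hom := H28Const.smooth_tensor G P
  haveI hone' : Smooth (𝟙_ (Over S)).hom := inferInstanceAs (Smooth (𝟙 S))
  haveI hEE : Smooth (E ⊗ E).hom := H28Const.smooth_tensor E E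
  -- comparison with the given extension
  let Ψ : F.obj E ⟶ E' := (F.map (fst G P) ≫ u') * (F.map (snd G P) ≫ s)
  have hΨv : Ψ ≫ v' = F.map (snd G P) := by
    rw [MonObj.mul_comp, hkill, _root_.one_mul, Category.assoc, hsv, Category.comp_id]
  have hρ : ∀ {T : Over S} (a : T ⟶ E),
      F.map a ≫ Ψ = (F.map (a ≫ fst G P) ≫ u') * (F.map (a ≫ snd G P) ≫ s) := fun a => by
    rw [MonObj.comp_mul, F.map_comp, F.map_comp, Category.assoc, Category.assoc]
  haveI hΨ : IsIso Ψ := by
    obtain ⟨k, hk, -⟩ := H28SGA7.exists_unique_kernel hex' (𝟙 E' * (v' ≫ s)⁻¹) (by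
      rw [MonObj.mul_comp, GrpObj.inv_comp, Category.assoc, hsv, Category.comp_id, Category.id_comp, mul_inv_cancel])
    refine ⟨lift k v' ≫ Functor.LaxMonoidal.μ F G P, ?_, ?_⟩
    · rw [← cancel_mono (Functor.Monoidal.μIso F G P).inv, Functor.Monoidal.μIso_inv, Category.assoc,
        Category.assoc, Functor.Monoidal.μ_δ, Category.comp_id, Category.id_comp]
      refine CartesianMonoidalCategory.hom_ext _ _ ?_ ?_
      · rw [Category.assoc, lift_fst, Functor.OplaxMonoidal.δ_fst]
        refine H28SGA7.kernel_injective hex' ?_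
        rw [Category.assoc, hk, MonObj.comp_mul, GrpObj.comp_inv, Category.comp_id, ← Category.assoc Ψ, hΨv,
          mul_inv_eq_iff_eq_mul]
      · rw [Category.assoc, lift_snd, Functor.OplaxMonoidal.δ_snd, hΨv]
    · rw [Category.assoc, MonObj.comp_mul, Functor.Monoidal.μ_fst_assoc, Functor.Monoidal.μ_snd_assoc,
        MonObj.comp_mul, lift_fst_assoc, lift_snd_assoc, hk, inv_mul_cancel_right]
  have hexists : ∀ {T : Over S} [Smooth T.hom] (b : T ⟶ P) (w : F.obj T ⟶ E'), w ≫ v' = F.map b →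
      ∃ a : T ⟶ E, a ≫ snd G P = b ∧ F.map a ≫ Ψ = w := by
    intro T _ b w hw
    obtain ⟨h, hh, -⟩ := H28SGA7.exists_unique_kernel hex' (w * (F.map b ≫ s)⁻¹) (by
      rw [MonObj.mul_comp, GrpObj.inv_comp, Category.assoc, hsv, Category.comp_id, hw, mul_inv_cancel])
    obtain ⟨a₁, ha₁⟩ := H28Const.generic_surjective hS hξ hG h
    refine ⟨lift a₁ b, lift_snd _ _, ?_⟩
    rw [hρ, lift_fst, lift_snd, ha₁, hh, inv_mul_cancel_right]
  have huniq : ∀ {T : Over S} [Smooth T.hom] {a a' : T ⟶ E}, a ≫ snd G P = a' ≫ snd G P →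
      F.map a ≫ Ψ = F.map a' ≫ Ψ → a = a' := by
    intro T _ a a' h1 h2
    rw [hρ, hρ, h1, mul_left_inj] at h2
    exact CartesianMonoidalCategory.hom_ext _ _
      (H28Const.generic_injective hS hξ hG (H28SGA7.kernel_injective hex' h2)) h1
  -- the law
  obtain ⟨m₀, hm1, hm2⟩ := hexists ((fst E E ≫ snd G P) * (snd E E ≫ snd G P))
    ((F.map (fst E E) ≫ Ψ) * (F.map (snd E E) ≫ Ψ)) (by
      rw [MonObj.mul_comp, Category.assoc, Category.assoc, hΨv, ← F.map_comp, ← F.map_comp, Functor.map_mul])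
  obtain ⟨e₀, he1, he2⟩ := hexists (1 : 𝟙_ (Over S) ⟶ P) 1 (by rw [MonObj.one_comp, Functor.map_one])
  obtain ⟨i₀, hi1, hi2⟩ := hexists (snd G P)⁻¹ Ψ⁻¹ (by
    rw [GrpObj.inv_comp, hΨv]
    refine (eq_inv_of_mul_eq_one_left ?_).symm
    rw [← Functor.map_mul, inv_mul_cancel, Functor.map_one])
  have hmsnd : ∀ {T : Over S} (x y : T ⟶ E), lift x y ≫ m₀ ≫ snd G P = (x ≫ snd G P) * (y ≫ snd G P) := by
    intro T x y
    rw [hm1, MonObj.comp_mul, lift_fst_assoc, lift_snd_assoc]
  have hmρ : ∀ {T : Over S} (x y : T ⟶ E),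
      F.map (lift x y ≫ m₀) ≫ Ψ = (F.map x ≫ Ψ) * (F.map y ≫ Ψ) := by
    intro T x y
    rw [F.map_comp, Category.assoc, hm2, MonObj.comp_mul, ← Category.assoc, ← Category.assoc,
      ← F.map_comp, ← F.map_comp, lift_fst, lift_snd]
  have hesnd : ∀ {T : Over S} (f : T ⟶ 𝟙_ _), f ≫ e₀ ≫ snd G P = (1 : T ⟶ P) := fun f => by
    rw [he1, MonObj.comp_one]
  have heρ : ∀ {T : Over S} (f : T ⟶ 𝟙_ _), F.map (f ≫ e₀) ≫ Ψ = 1 := fun f => by
    rw [F.map_comp, Category.assoc, he2, MonObj.comp_one]
  have wr : ∀ {X Y W : Over S} (f : X ⟶ Y), f ▷ W = lift (fst X W ≫ f) (snd X W) := fun f =>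
    CartesianMonoidalCategory.hom_ext _ _ (by rw [lift_fst, whiskerRight_fst]) (by rw [lift_snd, whiskerRight_snd])
  have wl : ∀ {X Y W : Over S} (f : X ⟶ Y), W ◁ f = lift (fst W X) (snd W X ≫ f) := fun f =>
    CartesianMonoidalCategory.hom_ext _ _ (by rw [lift_fst, whiskerLeft_fst]) (by rw [lift_snd, whiskerLeft_snd])
  haveI : Smooth (𝟙_ (Over S) ⊗ E).hom := H28Const.smooth_tensor _ _
  haveI : Smooth (E ⊗ 𝟙_ (Over S)).hom := H28Const.smooth_tensor _ _
  haveI : Smooth ((E ⊗ E) ⊗ E).hom := H28Const.smooth_tensor _ _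
  let inst : GrpObj E :=
    { one := e₀, mul := m₀, inv := i₀
      one_mul := huniq
        (by rw [Category.assoc, wr, hmsnd, Category.assoc, hesnd, _root_.one_mul, leftUnitor_hom])
        (by rw [wr, hmρ, heρ, _root_.one_mul, leftUnitor_hom])
      mul_one := huniq
        (by rw [Category.assoc, wl, hmsnd, Category.assoc, hesnd, _root_.mul_one, rightUnitor_hom])
        (by rw [wl, hmρ, heρ, _root_.mul_one, rightUnitor_hom])
      mul_assoc := by
        have h1 : (α_ E E E).hom ≫ (E ◁ m₀) =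
            lift (fst (E ⊗ E) E ≫ fst E E) (lift (fst (E ⊗ E) E ≫ snd E E) (snd (E ⊗ E) E) ≫ m₀) :=
          CartesianMonoidalCategory.hom_ext _ _
            (by rw [lift_fst, Category.assoc, whiskerLeft_fst, associator_hom_fst])
            (by
              rw [lift_snd, Category.assoc, whiskerLeft_snd, ← Category.assoc]
              congr 1
              apply CartesianMonoidalCategory.hom_ext <;> simp)
        have h2 : fst (E ⊗ E) E ≫ m₀ = lift (fst (E ⊗ E) E ≫ fst E E) (fst (E ⊗ E) E ≫ snd E E) ≫ m₀ := by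
          rw [← comp_lift, lift_fst_snd, Category.comp_id]
        refine huniq ?_ ?_
        · rw [wr, h2, ← Category.assoc (α_ E E E).hom, h1]
          simp only [Category.assoc, hmsnd, _root_.mul_assoc]
        · rw [wr, h2, ← Category.assoc (α_ E E E).hom, h1]
          simp only [hmρ, _root_.mul_assoc]
      left_inv := huniq
        (by rw [Category.assoc, hmsnd, hi1, Category.id_comp, inv_mul_cancel, Category.assoc, hesnd])
        (by rw [hmρ, hi2, F.map_id, Category.id_comp, inv_mul_cancel, heρ])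
      right_inv := huniq
        (by rw [Category.assoc, hmsnd, hi1, Category.id_comp, mul_inv_cancel, Category.assoc, hesnd])
        (by rw [hmρ, hi2, F.map_id, Category.id_comp, mul_inv_cancel, heρ]) }
  letI := inst
  -- the maps
  obtain ⟨uu, hu1, hu2⟩ := hexists (1 : G ⟶ P) u' (by rw [Functor.map_one, hex'.2.2.1])
  have huu : uu = lift (𝟙 G) 1 := huniq (by rw [hu1, lift_snd]) (by
    rw [hu2, hρ, lift_fst, lift_snd, F.map_id, Category.id_comp, Functor.map_one, hone, _root_.mul_one])
  haveI : Smooth (G ⊗ G).hom := H28Const.smooth_tensor _ _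
  have hum : IsMonHom uu :=
    { one_hom := huniq
        (by
          show (η[G] ≫ uu) ≫ snd G P = e₀ ≫ snd G P
          rw [Category.assoc, hu1, MonObj.comp_one, he1])
        (by
          show F.map (η[G] ≫ uu) ≫ Ψ = F.map e₀ ≫ Ψ
          rw [he2, F.map_comp, Category.assoc, hu2, show η[G] = (1 : 𝟙_ (Over S) ⟶ G) by
            rw [Hom.one_def, Subsingleton.elim (toUnit (𝟙_ (Over S))) (𝟙 _), Category.id_comp],
            Functor.map_one, MonObj.one_comp])
      mul_hom := huniq
        (by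
          show (μ[G] ≫ uu) ≫ snd G P = ((uu ⊗ₘ uu) ≫ m₀) ≫ snd G P
          rw [Category.assoc, Category.assoc, hu1, MonObj.comp_one, ← lift_fst_comp_snd_comp, hmsnd,
            Category.assoc, Category.assoc, hu1, MonObj.comp_one, MonObj.comp_one, _root_.one_mul])
        (by
          show F.map (μ[G] ≫ uu) ≫ Ψ = F.map ((uu ⊗ₘ uu) ≫ m₀) ≫ Ψ
          rw [← lift_fst_comp_snd_comp, hmρ, F.map_comp, Category.assoc, hu2, F.map_comp, Category.assoc, hu2,
            F.map_comp, Category.assoc, hu2, ← MonObj.mul_comp, ← Functor.map_mul,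
            show (μ[G] : G ⊗ G ⟶ G) = fst G G * snd G G by rw [Hom.mul_def, lift_fst_snd, Category.id_comp]]) }
  have hvm : IsMonHom (snd G P : E ⟶ P) :=
    { one_hom := by
        show e₀ ≫ snd G P = η[P]
        rw [he1, Hom.one_def, Subsingleton.elim (toUnit (𝟙_ (Over S))) (𝟙 _), Category.id_comp]
      mul_hom := by
        show m₀ ≫ snd G P = _
        rw [hm1, Hom.mul_def, ← lift_fst_comp_snd_comp] }
  haveI := hum
  haveI := hvm
  have huv : uu ≫ snd G P = 1 := hu1
  have hufst : uu ≫ fst G P = 𝟙 G := by rw [huu, lift_fst]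
  have hkey : ∀ {T : Over S} (x : T ⟶ E) (g : T ⟶ G), lift x g ≫ (E ◁ uu) ≫ μ[E] = x * (g ≫ uu) := by
    intro T x g
    rw [Hom.mul_def, lift_whiskerLeft_assoc]
  have hsq : IsPullback (fst E G) ((E ◁ uu) ≫ μ[E]) (snd G P : E ⟶ P) (snd G P : E ⟶ P) := by
    refine IsPullback.of_isLimit' ⟨?_⟩ (PullbackCone.IsLimit.mk _
      (fun c => lift c.fst ((c.fst⁻¹ * c.snd) ≫ fst G P)) (fun c => lift_fst _ _) (fun c => ?_)
      fun c m h1 h2 => ?_)
    · have h := hkey (fst E G) (snd E G)
      rw [lift_fst_snd, Category.id_comp] at h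
      rw [h, MonObj.mul_comp, Category.assoc, huv, MonObj.comp_one, _root_.mul_one]
    · rw [hkey]
      have hd : ((c.fst⁻¹ * c.snd) ≫ fst G P) ≫ uu = c.fst⁻¹ * c.snd := by
        rw [huu, comp_lift, Category.comp_id, MonObj.comp_one]
        refine CartesianMonoidalCategory.hom_ext _ _ (lift_fst _ _) ?_
        rw [lift_snd, MonObj.mul_comp, GrpObj.inv_comp, c.condition, inv_mul_cancel]
      rw [hd, mul_inv_cancel_left]
    · refine CartesianMonoidalCategory.hom_ext _ _ (by rw [lift_fst, h1]) ?_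
      have h := hkey (m ≫ fst E G) (m ≫ snd E G)
      rw [← comp_lift, lift_fst_snd, Category.comp_id, h2, h1] at h
      rw [lift_snd, h, inv_mul_cancel_left, Category.assoc, hufst, Category.comp_id]
  have hexE : NonAbH1.IsExactSeq Scheme.fppfPrecoverage uu (snd G P : E ⟶ P) := by
    refine ⟨hum, hvm, huv, hsq, Presieve.singleton (𝟙 P.left), ?_, ?_⟩
    · exact Scheme.fppfPrecoverage.mem_coverings_of_isIso (𝟙 P.left)
    · rintro S' f ⟨⟩
      exact ⟨(lift (1 : P ⟶ G) (𝟙 P)).left, by
        show (lift (1 : P ⟶ G) (𝟙 P)).left ≫ (snd G P).left = 𝟙 P.left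
        rw [← Over.comp_left, lift_snd]
        rfl⟩
  have hφmul : ∀ {T : Over (Spec (S.residueField ξ))} (x y : T ⟶ F.obj E),
      (x * y) ≫ Ψ = (x ≫ Ψ) * (y ≫ Ψ) := by
    intro T x y
    rw [Hom.mul_def, Functor.obj.μ_def, Category.assoc, Category.assoc]
    show lift x y ≫ Functor.LaxMonoidal.μ F E E ≫ F.map m₀ ≫ Ψ = _
    rw [hm2, MonObj.comp_mul, MonObj.comp_mul, Functor.Monoidal.μ_fst_assoc, Functor.Monoidal.μ_snd_assoc,
      lift_fst_assoc, lift_snd_assoc]
  have hφ : IsMonHom Ψ :=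
    { one_hom := by
        have h := hφmul (1 : 𝟙_ (Over (Spec (S.residueField ξ))) ⟶ F.obj E) 1
        rw [_root_.one_mul, left_eq_mul, Hom.one_def, Subsingleton.elim (toUnit _) (𝟙 _), Category.id_comp,
          Hom.one_def, Subsingleton.elim (toUnit _) (𝟙 _), Category.id_comp] at h
        exact h
      mul_hom := by
        have h := hφmul (fst (F.obj E) (F.obj E)) (snd (F.obj E) (F.obj E))
        rw [Hom.mul_def, lift_fst_snd, Category.id_comp, Hom.mul_def] at h
        rw [← lift_fst_comp_snd_comp Ψ Ψ]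
        exact h }
  exact ⟨E, inst, uu, snd G P, @asIso _ _ _ _ Ψ hΨ, hexE, hφ, hu2, hΨv⟩

end Groth.Agent.S8717
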