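import Groth.Statements.S8718
import Groth.Agent.H28SGA7.Descend


set_option autoImplicit false
universe u
open CategoryTheory CategoryTheory.Limits MonoidalCategory CartesianMonoidalCategory MonObj AlgebraicGeometry
open SGA7

namespace Groth.Agent.S8718

/-- For group schemes over a base scheme S (the representable case on the fppf site): let P and G be
S-group schemes with G commutative, and u : G → E, v : E → P homomorphisms of S-group schemes
forming a sequence 1 → G → E → P → 1 exact for the fppf topology. Suppose every morphism of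
S-schemes P ×_S G → G whose restrictions to P × e_G and to e_P × G are trivial is trivial. Then u(G)
is central in E: for all points g of G and x of E with values in any S-scheme, u(g) x = x u(g). If
moreover P is commutative and every morphism of S-schemes P ×_S P → G trivial on P × e_P and on e_P
× P is trivial, then E is commutative. (The published statement is for sheaves of groups on an
arbitrary topos; this row is its case of representable sheaves on the fppf site of S. Morphisms to G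
form a group; trivial means equal to its unit.) -/
theorem result (S : Scheme.{u})
    (P G E : Over S) [GrpObj P] [GrpObj G] [GrpObj E] [IsCommMonObj G]
    (u : G ⟶ E) (v : E ⟶ P) (hex : NonAbH1.IsExactSeq Scheme.fppfPrecoverage u v)
    (hPG : ∀ f : P ⊗ G ⟶ G, lift (𝟙 P) (toUnit P ≫ η[G]) ≫ f = 1 → lift (toUnit G ≫ η[P]) (𝟙 G) ≫ f = 1 → f = 1) :
    (∀ (T : Over S) (g : T ⟶ G) (x : T ⟶ E), (g ≫ u) * x = x * (g ≫ u)) ∧
      (IsCommMonObj P →
        (∀ f : P ⊗ P ⟶ G, lift (𝟙 P) (toUnit P ≫ η[P]) ≫ f = 1 → lift (toUnit P ≫ η[P]) (𝟙 P) ≫ f = 1 → f = 1) →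
          IsCommMonObj E) := by
  haveI hu : IsMonHom u := hex.1
  haveI hvm : IsMonHom v := hex.2.1
  haveI := Groth.Agent.H28SGA7.epi_of_exact hex
  have huv : ∀ {T : Over S} (g : T ⟶ G), (g ≫ u) ≫ v = 1 := fun g => by
    rw [Category.assoc, hex.2.2.1, MonObj.comp_one]
  obtain ⟨θ, hθ, -⟩ := Groth.Agent.H28SGA7.exists_unique_kernel hex
    (fst E G * (snd E G ≫ u) * (fst E G)⁻¹) (by
      rw [MonObj.mul_comp, MonObj.mul_comp, GrpObj.inv_comp, huv, _root_.mul_one, mul_inv_cancel])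
  have hθpt : ∀ (T : Over S) (x : T ⟶ E) (z : T ⟶ G), (lift x z ≫ θ) ≫ u = x * (z ≫ u) * x⁻¹ := by
    intro T x z
    simp only [Category.assoc, hθ, MonObj.comp_mul, GrpObj.comp_inv, lift_fst, lift_snd_assoc]
  obtain ⟨ψ, hψ⟩ := Groth.Agent.H28SGA7.exists_descend hex θ (fun T x x' z hx => by
    obtain ⟨g, hg, -⟩ := Groth.Agent.H28SGA7.exists_unique_mul hex x x' hx
    refine Groth.Agent.H28SGA7.kernel_injective hex ?_
    rw [hθpt, hθpt, ← hg, mul_inv_rev]
    have : (g ≫ u) * (z ≫ u) * (g ≫ u)⁻¹ = z ≫ u := by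
      rw [← MonObj.mul_comp, _root_.mul_comm g z, MonObj.mul_comp, mul_inv_cancel_right]
    calc x * (z ≫ u) * x⁻¹ = x * ((g ≫ u) * (z ≫ u) * (g ≫ u)⁻¹) * x⁻¹ := by rw [this]
      _ = _ := by group)
  have hf : ψ * (snd P G)⁻¹ = 1 := by
    refine hPG _ ?_ ?_
    · rw [← cancel_epi v, MonObj.comp_one, MonObj.comp_mul, GrpObj.comp_inv, lift_snd, MonObj.comp_mul,
        GrpObj.comp_inv, ← Hom.one_def, MonObj.comp_one, inv_one, _root_.mul_one, ← Category.assoc, comp_lift,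
        Category.comp_id, MonObj.comp_one,
        show lift v (1 : E ⟶ G) = lift (𝟙 E ≫ v) 1 by rw [Category.id_comp], hψ]
      refine Groth.Agent.H28SGA7.kernel_injective hex ?_
      rw [hθpt, MonObj.one_comp, _root_.mul_one, mul_inv_cancel]
    · rw [MonObj.comp_mul, GrpObj.comp_inv, lift_snd, ← Hom.one_def,
        show (1 : G ⟶ P) = (1 : G ⟶ E) ≫ v from (MonObj.one_comp v).symm, hψ, mul_inv_eq_one]
      refine Groth.Agent.H28SGA7.kernel_injective hex ?_
      rw [hθpt, inv_one, _root_.mul_one, _root_.one_mul]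
  have hψ' : ψ = snd P G := mul_inv_eq_one.1 hf
  have hcen : ∀ (T : Over S) (g : T ⟶ G) (x : T ⟶ E), (g ≫ u) * x = x * (g ≫ u) := by
    intro T g x
    have h := hθpt T x g
    rw [← hψ, hψ', lift_snd] at h
    conv_lhs => rw [h, inv_mul_cancel_right]
  refine ⟨hcen, fun hP hPP => ?_⟩
  -- descend the commutator
  have hcomm : ∀ {T : Over S} (x y : T ⟶ E), (x * y * x⁻¹ * y⁻¹) ≫ v = 1 := fun {T} x y => by
    simp only [MonObj.mul_comp, GrpObj.inv_comp]
    rw [_root_.mul_comm (x ≫ v) (y ≫ v), mul_inv_cancel_right, mul_inv_cancel]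
  obtain ⟨γ, hγ, -⟩ := Groth.Agent.H28SGA7.exists_unique_kernel hex
    (fst E E * snd E E * (fst E E)⁻¹ * (snd E E)⁻¹) (hcomm _ _)
  have hγpt : ∀ (T : Over S) (x y : T ⟶ E), (lift x y ≫ γ) ≫ u = x * y * x⁻¹ * y⁻¹ := by
    intro T x y
    simp only [Category.assoc, hγ, MonObj.comp_mul, GrpObj.comp_inv, lift_fst, lift_snd]
  obtain ⟨γ₁, hγ₁⟩ := Groth.Agent.H28SGA7.exists_descend hex γ (fun T x x' z hx => by
    obtain ⟨g, hg, -⟩ := Groth.Agent.H28SGA7.exists_unique_mul hex x x' hx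
    refine Groth.Agent.H28SGA7.kernel_injective hex ?_
    rw [hγpt, hγpt, ← hg, mul_inv_rev]
    calc x * z * x⁻¹ * z⁻¹ = x * z * ((g ≫ u) * (g ≫ u)⁻¹) * x⁻¹ * z⁻¹ := by group
      _ = x * (z * (g ≫ u)) * (g ≫ u)⁻¹ * x⁻¹ * z⁻¹ := by group
      _ = x * ((g ≫ u) * z) * (g ≫ u)⁻¹ * x⁻¹ * z⁻¹ := by rw [hcen T g z]
      _ = _ := by group)
  let γ₁' : E ⊗ P ⟶ G := lift (snd E P) (fst E P) ≫ γ₁
  have hγ₁' : ∀ (T : Over S) (y : T ⟶ E) (p : T ⟶ P), lift y p ≫ γ₁' = lift p y ≫ γ₁ := by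
    intro T y p
    simp only [γ₁', comp_lift_assoc, lift_fst, lift_snd]
  obtain ⟨γ₂, hγ₂⟩ := Groth.Agent.H28SGA7.exists_descend hex γ₁' (fun T y y' p hy => by
    rw [hγ₁', hγ₁']
    obtain ⟨g, hg, -⟩ := Groth.Agent.H28SGA7.exists_unique_mul hex y y' hy
    have key : lift (fst P T) (snd P T ≫ y) ≫ γ₁ = lift (fst P T) (snd P T ≫ y') ≫ γ₁ := by
      refine Groth.Agent.H28SGA7.ext_descend hex fun U x t => ?_
      simp only [comp_lift_assoc, lift_fst, lift_snd_assoc, hγ₁]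
      refine Groth.Agent.H28SGA7.kernel_injective hex ?_
      rw [hγpt, hγpt, ← hg, MonObj.comp_mul, ← Category.assoc t g u, mul_inv_rev]
      calc x * (t ≫ y) * x⁻¹ * (t ≫ y)⁻¹
          = x * (t ≫ y) * x⁻¹ * (((t ≫ g) ≫ u) * ((t ≫ g) ≫ u)⁻¹) * (t ≫ y)⁻¹ := by group
        _ = x * (t ≫ y) * (x⁻¹ * ((t ≫ g) ≫ u)) * ((t ≫ g) ≫ u)⁻¹ * (t ≫ y)⁻¹ := by group
        _ = x * (t ≫ y) * (((t ≫ g) ≫ u) * x⁻¹) * ((t ≫ g) ≫ u)⁻¹ * (t ≫ y)⁻¹ := by rw [hcen U (t ≫ g) x⁻¹]
        _ = _ := by group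
    have := congrArg (lift p (𝟙 T) ≫ ·) key
    simpa only [comp_lift_assoc, lift_fst, lift_snd_assoc, Category.id_comp] using this)
  have hfull : ∀ (T : Over S) (x y : T ⟶ E), lift (y ≫ v) (x ≫ v) ≫ γ₂ = lift x y ≫ γ := by
    intro T x y
    rw [hγ₂, hγ₁', hγ₁]
  have hc : γ₂ = 1 := by
    refine hPP _ ?_ ?_
    · rw [← Hom.one_def, ← cancel_epi v, MonObj.comp_one, ← Category.assoc, comp_lift, Category.comp_id,
        MonObj.comp_one, ← MonObj.one_comp v (X := E),
        show lift v ((1 : E ⟶ E) ≫ v) = lift (𝟙 E ≫ v) ((1 : E ⟶ E) ≫ v) by rw [Category.id_comp], hfull]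
      refine Groth.Agent.H28SGA7.kernel_injective hex ?_
      rw [hγpt, MonObj.one_comp]
      group
    · rw [← Hom.one_def, ← cancel_epi v, MonObj.comp_one, ← Category.assoc, comp_lift, Category.comp_id,
        MonObj.comp_one, ← MonObj.one_comp v (X := E),
        show lift ((1 : E ⟶ E) ≫ v) v = lift ((1 : E ⟶ E) ≫ v) (𝟙 E ≫ v) by rw [Category.id_comp], hfull]
      refine Groth.Agent.H28SGA7.kernel_injective hex ?_
      rw [hγpt, MonObj.one_comp]
      group
  refine ⟨?_⟩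
  have h := hγpt (E ⊗ E) (snd E E) (fst E E)
  rw [← hfull, hc, MonObj.comp_one, MonObj.one_comp, eq_comm, mul_inv_eq_one, mul_inv_eq_iff_eq_mul] at h
  calc (β_ E E).hom ≫ μ[E] = snd E E * fst E E := by rw [Hom.mul_def]; congr 1
    _ = fst E E * snd E E := h
    _ = μ[E] := by rw [Hom.mul_def, lift_fst_snd, Category.id_comp]

end Groth.Agent.S8718
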