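import Groth.Statements.S8719
import Mathlib.RingTheory.MvPowerSeries.Derivative
import Mathlib.RingTheory.MvPowerSeries.Inverse
import Mathlib.RingTheory.Nakayama
import Mathlib.LinearAlgebra.Matrix.NonsingularInverse

set_option autoImplicit false
universe u
open VanCyc

namespace Groth.Agent.S8719

open MvPowerSeries Finsupp

theorem exists_decomp {k : Type u} [Field k] {n : ℕ} (f : MvPowerSeries (Fin n) k) (h : constantCoeff f = 0) :
    ∃ P : Fin n → MvPowerSeries (Fin n) k, f = ∑ i, X i * P i ∧ ∀ i, constantCoeff (P i) = coeff (Finsupp.single i 1) f := by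
  classical
  rcases Nat.eq_zero_or_pos n with hn | hn
  · subst hn
    refine ⟨fun i => i.elim0, MvPowerSeries.ext fun d => ?_, fun i => i.elim0⟩
    rw [Subsingleton.elim d 0, coeff_zero_eq_constantCoeff, h]
    simp
  let sel : (Fin n →₀ ℕ) → Fin n := fun d => if hd : d.support.Nonempty then d.support.min' hd else ⟨0, hn⟩
  have hsel : ∀ d : Fin n →₀ ℕ, d ≠ 0 → d (sel d) ≠ 0 := fun d hd => by
    have hd' : d.support.Nonempty := Finsupp.support_nonempty_iff.2 hd
    simp only [sel, dif_pos hd']
    exact Finsupp.mem_support_iff.1 (d.support.min'_mem hd')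
  let part : Fin n → MvPowerSeries (Fin n) k := fun i d => if sel d = i then coeff d f else 0
  have hpart : ∀ i d, coeff d (part i) = if sel d = i then coeff d f else 0 := fun _ _ => rfl
  have hdvd : ∀ i, X i ∣ part i := fun i => MvPowerSeries.X_dvd_iff.2 fun d hd => by
    rw [hpart]
    split_ifs with hi
    · by_cases h0 : d = 0
      · rw [h0, coeff_zero_eq_constantCoeff, h]
      · exact absurd (hi ▸ hd) (hsel d h0)
    · rfl
  choose P hP using hdvd
  have hsum : f = ∑ i, X i * P i := by
    refine MvPowerSeries.ext fun d => ?_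
    simp [← hP, hpart]
  refine ⟨P, hsum, fun i => ?_⟩
  conv_rhs => rw [hsum, map_sum]
  rw [Finset.sum_eq_single i (fun j _ hj => by
    rw [X_def, coeff_monomial_mul, if_neg]
    intro hle
    have := hle j
    simp [hj] at this) (by simp)]
  rw [X_def, coeff_monomial_mul, if_pos le_rfl, tsub_self, one_mul, coeff_zero_eq_constantCoeff]

/-- The formal computation carried out in its proof: let k be a field and f a power series in k[[x_0,
..., x_n]] with vanishing constant and linear terms whose degree-two part is a non-degenerate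
quadratic form (the Gram determinant of its polar bilinear form is a unit). Then the partial
derivatives of f generate the maximal ideal of k[[x_0, ..., x_n]] (so f together with its partial
derivatives cut out the origin with multiplicity one). -/
theorem result (k : Type u) [Field k] (n : ℕ)
    (f : MvPowerSeries (Fin (n + 1)) k) (hf : VanCyc.NondegQuadSeries f) :
    Ideal.span (Set.range fun i : Fin (n + 1) => MvPowerSeries.pderiv k i f) =
      IsLocalRing.maximalIdeal (MvPowerSeries (Fin (n + 1)) k) := by
  classical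
  obtain ⟨⟨hf0, hf1⟩, hH⟩ := hf
  set M : Ideal (MvPowerSeries (Fin (n + 1)) k) := Ideal.span (Set.range (X : Fin (n + 1) → MvPowerSeries (Fin (n + 1)) k))
  have hM : ∀ g : MvPowerSeries (Fin (n + 1)) k, constantCoeff g = 0 → g ∈ M := fun g hg => by
    obtain ⟨P, hP, -⟩ := exists_decomp g hg
    rw [hP]
    exact sum_mem fun i _ => Ideal.mul_mem_right _ _ (Ideal.subset_span ⟨i, rfl⟩)
  have hMmax : IsLocalRing.maximalIdeal (MvPowerSeries (Fin (n + 1)) k) = M := by
    refine le_antisymm (fun g hg => hM g ?_) ?_
    · by_contra h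
      exact (IsLocalRing.mem_maximalIdeal g).1 hg (isUnit_iff_constantCoeff.2 (Ne.isUnit h))
    · rw [Ideal.span_le]
      rintro _ ⟨i, rfl⟩
      refine (IsLocalRing.mem_maximalIdeal _).2 fun hu => ?_
      simpa using isUnit_iff_constantCoeff.1 hu
  set H := VanCyc.polarMatrix (VanCyc.quadPart f)
  have hcoef : ∀ i j : Fin (n + 1), coeff (Finsupp.single j 1) (pderiv k i f) = H i j := by
    intro i j
    rw [coeff_pderiv]
    simp only [H, VanCyc.polarMatrix, VanCyc.quadPart, Finsupp.single_apply]
    rcases lt_trichotomy i j with hij | rfl | hij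
    · simp [hij.ne, hij.ne', hij, add_comm (Finsupp.single j 1)]
    · simp [← Finsupp.single_add]
      ring
    · simp [hij.ne, hij.ne', hij, not_lt_of_gt hij]
  set J := Ideal.span (Set.range fun i : Fin (n + 1) => pderiv k i f)
  have hD0 : ∀ i, constantCoeff (pderiv k i f) = 0 := fun i => by
    rw [← coeff_zero_eq_constantCoeff, coeff_pderiv, zero_add, hf1 i]
    simp
  rw [hMmax]
  refine le_antisymm (Ideal.span_le.2 (by rintro _ ⟨i, rfl⟩; exact hM _ (hD0 i))) ?_
  refine Submodule.le_of_le_smul_of_le_jacobson_bot (I := M) (Submodule.fg_span (Set.finite_range _))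
    (hMmax ▸ IsLocalRing.maximalIdeal_le_jacobson ⊥) ?_
  have hlin : ∀ i, ∃ q ∈ M • M, pderiv k i f = (∑ j, C (H i j) * X j) + q := fun i => by
    obtain ⟨P, hP, hP0⟩ := exists_decomp (pderiv k i f) (hD0 i)
    refine ⟨∑ j, X j * (P j - C (H i j)), sum_mem fun j _ => ?_, ?_⟩
    · refine Submodule.smul_mem_smul (Ideal.subset_span ⟨j, rfl⟩) (hM _ ?_)
      rw [map_sub, hP0, hcoef, constantCoeff_C, sub_self]
    · rw [← Finset.sum_add_distrib, hP]
      exact Finset.sum_congr rfl fun j _ => by ring
  choose q hq hDq using hlin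
  refine Ideal.span_le.2 ?_
  rintro _ ⟨l, rfl⟩
  have hinv : H⁻¹ * H = 1 := Matrix.nonsing_inv_mul H hH
  have e : X l = (∑ i, C (H⁻¹ l i) * pderiv k i f) - ∑ i, C (H⁻¹ l i) * q i := by
    simp only [hDq, mul_add, Finset.sum_add_distrib, add_sub_cancel_right, Finset.mul_sum, ← mul_assoc, ← map_mul]
    rw [Finset.sum_comm]
    simp only [← Finset.sum_mul, ← map_sum, ← Matrix.mul_apply, hinv, Matrix.one_apply]
    simp
  rw [e]
  exact sub_mem (Submodule.mem_sup_left (sum_mem fun i _ => Ideal.mul_mem_left J _ (Ideal.subset_span ⟨i, rfl⟩)))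
    (Submodule.mem_sup_right (sum_mem fun i _ => Submodule.smul_mem _ _ (hq i)))

end Groth.Agent.S8719
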