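import Groth.Statements.S8720
import Mathlib

set_option autoImplicit false
universe u
open VanCyc

namespace Groth.Agent.S8720

open MvPowerSeries

noncomputable section Helpers

variable {k : Type u} [Field k] {σ : Type} [Fintype σ] [DecidableEq σ]

/-- A chosen element of the support. -/
def chosen (v₀ : σ) (n : σ →₀ ℕ) : σ :=
  if h : n.support.Nonempty then h.choose else v₀

theorem chosen_pos (v₀ : σ) {n : σ →₀ ℕ} (h : n ≠ 0) : n (chosen v₀ n) ≠ 0 := by
  have hs : n.support.Nonempty := Finsupp.support_nonempty_iff.2 h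
  rw [chosen, dif_pos hs]
  exact Finsupp.mem_support_iff.1 hs.choose_spec

theorem chosen_single (v₀ v : σ) {a : ℕ} (ha : a ≠ 0) : chosen v₀ (Finsupp.single v a) = v := by
  have h := chosen_pos v₀ (n := Finsupp.single v a) (Finsupp.single_ne_zero.2 ha)
  by_contra hne
  exact h (Finsupp.single_eq_of_ne hne)

/-- A series without constant term is a combination of the variables, the coefficients being read
off from the series. -/
theorem exists_eq_sum_X_mul (v₀ : σ) (g : MvPowerSeries σ k) (hg : coeff 0 g = 0) :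
    ∃ c : σ → MvPowerSeries σ k, g = ∑ v, X v * c v ∧
      ∀ v (a : ℕ), coeff (Finsupp.single v a) (c v) = coeff (Finsupp.single v (a + 1)) g := by
  let c : σ → MvPowerSeries σ k := fun v n =>
    if chosen v₀ (n + Finsupp.single v 1) = v then coeff (n + Finsupp.single v 1) g else 0
  have hc : ∀ v n, coeff n (c v) =
      if chosen v₀ (n + Finsupp.single v 1) = v then coeff (n + Finsupp.single v 1) g else 0 := fun _ _ => rfl
  refine ⟨c, MvPowerSeries.ext fun n => ?_, fun v a => ?_⟩
  · rw [map_sum]
    rcases eq_or_ne n 0 with rfl | hn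
    · rw [hg, Finset.sum_eq_zero]
      intro v _
      rw [coeff_zero_eq_constantCoeff_apply, map_mul, constantCoeff_X, zero_mul]
    rw [Finset.sum_eq_single (chosen v₀ n)]
    · have hle : Finsupp.single (chosen v₀ n) 1 ≤ n :=
        Finsupp.single_le_iff.2 (Nat.one_le_iff_ne_zero.2 (chosen_pos v₀ hn))
      rw [X_def, coeff_monomial_mul, if_pos hle, one_mul, hc, tsub_add_cancel_of_le hle, if_pos rfl]
    · intro v _ hv
      rw [X_def, coeff_monomial_mul]
      split_ifs with hle
      · rw [one_mul, hc, tsub_add_cancel_of_le hle, if_neg (fun h => hv h.symm)]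
      · rfl
    · exact fun h => absurd (Finset.mem_univ _) h
  · rw [hc, ← Finsupp.single_add, chosen_single v₀ v a.succ_ne_zero, if_pos rfl]

theorem coeff_single_one_mul (v : σ) (a b : MvPowerSeries σ k) :
    coeff (Finsupp.single v 1) (a * b) =
      coeff 0 a * coeff (Finsupp.single v 1) b + coeff (Finsupp.single v 1) a * coeff 0 b := by
  rw [coeff_mul, Finsupp.antidiagonal_single]
  simp [Finset.Nat.antidiagonal_succ, Finset.sum_map]

theorem mem_maximalIdeal_iff (g : MvPowerSeries σ k) :
    g ∈ IsLocalRing.maximalIdeal (MvPowerSeries σ k) ↔ coeff 0 g = 0 := by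
  rw [IsLocalRing.mem_maximalIdeal, mem_nonunits_iff, isUnit_iff_constantCoeff, isUnit_iff_ne_zero, not_not,
    coeff_zero_eq_constantCoeff_apply]

variable (m : ℕ)

/-- The ideal `(x₀², x_j)`. -/
abbrev jac : Ideal (MvPowerSeries (Option (Fin m ⊕ Fin m)) k) :=
  Ideal.span ({X none ^ 2} ∪
    Set.range fun j : Fin m ⊕ Fin m => (X (some j) : MvPowerSeries (Option (Fin m ⊕ Fin m)) k))

theorem mem_jac_iff (g : MvPowerSeries (Option (Fin m ⊕ Fin m)) k) :
    g ∈ jac m ↔ coeff 0 g = 0 ∧ coeff (Finsupp.single none 1) g = 0 := by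
  classical
  constructor
  · intro h
    induction h using Submodule.span_induction with
    | mem x hx =>
      rcases hx with rfl | ⟨j, rfl⟩
      · rw [pow_two, coeff_single_one_mul, coeff_zero_eq_constantCoeff_apply, map_mul]
        simp
      · refine ⟨?_, ?_⟩ <;> rw [coeff_X, if_neg]
        · exact fun h => one_ne_zero (α := ℕ) (Finsupp.single_eq_zero.1 h.symm)
        · simp [Finsupp.single_eq_single_iff]
    | zero => simp
    | add x y _ _ hx hy => exact ⟨by rw [map_add, hx.1, hy.1, add_zero], by rw [map_add, hx.2, hy.2, add_zero]⟩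
    | smul a x _ hx =>
      rw [smul_eq_mul, coeff_single_one_mul, hx.1, hx.2]
      refine ⟨?_, by ring⟩
      rw [coeff_zero_eq_constantCoeff_apply, map_mul, ← coeff_zero_eq_constantCoeff_apply x, hx.1, mul_zero]
  · rintro ⟨h0, h1⟩
    obtain ⟨c, hc, hc'⟩ := exists_eq_sum_X_mul none g h0
    have hn : coeff 0 (c none) = 0 := by
      have := hc' none 0
      rwa [Finsupp.single_zero, h1] at this
    obtain ⟨d, hd, -⟩ := exists_eq_sum_X_mul none _ hn
    have hX : ∀ j, (X (some j) : MvPowerSeries (Option (Fin m ⊕ Fin m)) k) ∈ jac m := fun j =>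
      Ideal.subset_span (Or.inr ⟨j, rfl⟩)
    rw [hc]
    refine sum_mem fun v _ => ?_
    rcases v with _ | j
    · rw [hd, Finset.mul_sum]
      refine sum_mem fun w _ => ?_
      rcases w with _ | j
      · rw [← mul_assoc, ← pow_two]
        exact Ideal.mul_mem_right _ _ (Ideal.subset_span (Or.inl rfl))
      · exact Ideal.mul_mem_left _ _ (Ideal.mul_mem_right _ _ (hX j))
    · exact Ideal.mul_mem_right _ _ (hX j)

/-- A series of order at least two is its `x₀²`-term modulo `𝔪 · (x₀², x_j)`. -/
theorem sub_mem_smul_jac (h : MvPowerSeries (Option (Fin m ⊕ Fin m)) k)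
    (h0 : coeff 0 h = 0) (h1 : ∀ v, coeff (Finsupp.single v 1) h = 0) :
    h - C (coeff (Finsupp.single none 2) h) * X none ^ 2 ∈
      IsLocalRing.maximalIdeal (MvPowerSeries (Option (Fin m ⊕ Fin m)) k) • jac m := by
  classical
  obtain ⟨c, hc, hc'⟩ := exists_eq_sum_X_mul none h h0
  have hcm : ∀ v, coeff 0 (c v) = 0 := fun v => by
    have := hc' v 0
    rwa [Finsupp.single_zero, h1] at this
  obtain ⟨d, hd, hd'⟩ := exists_eq_sum_X_mul none _ (hcm none)
  have h2 : coeff 0 (d none) = coeff (Finsupp.single none 2) h := by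
    rw [← hc' none 1, ← hd' none 0, Finsupp.single_zero]
  have hX : ∀ j, (X (some j) : MvPowerSeries (Option (Fin m ⊕ Fin m)) k) ∈ jac m := fun j =>
    Ideal.subset_span (Or.inr ⟨j, rfl⟩)
  have hXm : ∀ v, (X v : MvPowerSeries (Option (Fin m ⊕ Fin m)) k) ∈ IsLocalRing.maximalIdeal _ := fun v => by
    rw [mem_maximalIdeal_iff]; simp
  have e : h - C (coeff (Finsupp.single none 2) h) * X none ^ 2 =
      ∑ j, X (some j) * c (some j) + X none * (∑ j, X (some j) * d (some j)) +
        (d none - C (coeff (Finsupp.single none 2) h)) * X none ^ 2 := by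
    conv_lhs => arg 1; rw [hc, Fintype.sum_option, hd, Fintype.sum_option]
    ring
  rw [e, smul_eq_mul]
  refine add_mem (add_mem (sum_mem fun j _ => ?_) ?_) ?_
  · rw [mul_comm (X (some j))]
    exact Ideal.mul_mem_mul ((mem_maximalIdeal_iff _).2 (hcm _)) (hX j)
  · exact Ideal.mul_mem_mul (hXm _) (sum_mem fun j _ => Ideal.mul_mem_right _ _ (hX j))
  · refine Ideal.mul_mem_mul ((mem_maximalIdeal_iff _).2 ?_) (Ideal.subset_span (Or.inl rfl))
    rw [map_sub, h2]
    simp

end Helpers

/-- The formal computation carried out in its proof: let k be a field of characteristic 2, m a natural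
number, and f a power series over k in the variables x_0 and x_i, x_i' (i = 1, ..., m) whose terms
of degree less than 3 are exactly those of x_0^2 + x_1 x_1' + ... + x_m x_m'. Then the ideal
generated by f and all its partial derivatives is the ideal generated by x_0^2 and the x_i, x_i',
and the quotient of the power series ring by this ideal is two-dimensional over k. (Characteristic 2
is what makes the derivative in x_0 lose its linear term.) -/
theorem result (k : Type u) [Field k] [CharP k 2] (m : ℕ)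
    (f : MvPowerSeries (Option (Fin m ⊕ Fin m)) k)
    (hf : ∀ d : Option (Fin m ⊕ Fin m) →₀ ℕ, d.degree < 3 →
      MvPowerSeries.coeff d f = MvPowerSeries.coeff d
        (MvPowerSeries.X none ^ 2 +
          ∑ i : Fin m, MvPowerSeries.X (some (Sum.inl i)) * MvPowerSeries.X (some (Sum.inr i)))) :
    Ideal.span ({f} ∪ Set.range fun i : Option (Fin m ⊕ Fin m) => MvPowerSeries.pderiv k i f) =
      Ideal.span ({MvPowerSeries.X none ^ 2} ∪
        Set.range fun j : Fin m ⊕ Fin m => (MvPowerSeries.X (some j) : MvPowerSeries (Option (Fin m ⊕ Fin m)) k)) ∧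
    Module.finrank k (MvPowerSeries (Option (Fin m ⊕ Fin m)) k ⧸
      Ideal.span ({MvPowerSeries.X none ^ 2} ∪
        Set.range fun j : Fin m ⊕ Fin m => (MvPowerSeries.X (some j) : MvPowerSeries (Option (Fin m ⊕ Fin m)) k))) = 2 := by
  classical
  obtain ⟨q, hq⟩ : ∃ q, q = (MvPowerSeries.X none ^ 2 +
      ∑ i : Fin m, MvPowerSeries.X (some (Sum.inl i)) * MvPowerSeries.X (some (Sum.inr i)) :
      MvPowerSeries (Option (Fin m ⊕ Fin m)) k) := ⟨_, rfl⟩
  rw [← hq] at hf
  have hlow : ∀ d : Option (Fin m ⊕ Fin m) →₀ ℕ, d.degree < 3 → MvPowerSeries.coeff d (f - q) = 0 := fun d hd => by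
    rw [map_sub, hf d hd, sub_self]
  have hqJ : q ∈ jac m := by
    rw [hq]
    refine add_mem (Ideal.subset_span (Or.inl rfl)) (sum_mem fun i _ => ?_)
    exact Ideal.mul_mem_right _ _ (Ideal.subset_span (Or.inr ⟨_, rfl⟩))
  have hfJ : f ∈ jac m := by
    rw [← sub_add_cancel f q]
    refine add_mem ((mem_jac_iff m _).2 ⟨hlow _ (by simp), hlow _ ?_⟩) hqJ
    rw [Finsupp.degree_single]; norm_num
  let sw : Fin m ⊕ Fin m → Fin m ⊕ Fin m := Sum.swap
  have hdq : ∀ j, MvPowerSeries.pderiv k (some j) q = MvPowerSeries.X (some (sw j)) := by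
    intro j
    rw [hq, map_add, map_sum, MvPowerSeries.pderiv_pow, MvPowerSeries.pderiv_X_of_ne (by simp), mul_zero, zero_add]
    simp only [Derivation.leibniz, smul_eq_mul, MvPowerSeries.pderiv_X]
    rcases j with i | i <;> simp [sw, Finset.sum_add_distrib, Pi.single_apply, Finset.sum_ite_eq']
  have hd2 : ∀ j (d : Option (Fin m ⊕ Fin m) →₀ ℕ), d.degree < 2 →
      MvPowerSeries.coeff d (MvPowerSeries.pderiv k (some j) f - MvPowerSeries.X (some (sw j))) = 0 := by
    intro j d hd
    rw [← hdq, ← map_sub, MvPowerSeries.coeff_pderiv, hlow _ (by rw [map_add, Finsupp.degree_single]; omega), zero_mul]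
  have hdJ : ∀ v, MvPowerSeries.pderiv k v f ∈ jac m := by
    rintro (_ | j)
    · rw [mem_jac_iff]
      refine ⟨?_, ?_⟩
      · rw [MvPowerSeries.coeff_pderiv, zero_add]
        have h := ((mem_jac_iff m f).1 hfJ).2
        rw [h, zero_mul]
      · rw [MvPowerSeries.coeff_pderiv, Finsupp.single_eq_same]
        have h2 : (2 : k) = 0 := CharTwo.two_eq_zero
        push_cast
        linear_combination (MvPowerSeries.coeff (Finsupp.single none 1 + Finsupp.single none 1) f) * h2
    · rw [← sub_add_cancel (MvPowerSeries.pderiv k (some j) f) (MvPowerSeries.X (some (sw j)))]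
      refine add_mem ((mem_jac_iff m _).2 ⟨hd2 j _ (by simp), hd2 j _ ?_⟩) (Ideal.subset_span (Or.inr ⟨_, rfl⟩))
      rw [Finsupp.degree_single]; norm_num
  refine ⟨le_antisymm (Ideal.span_le.2 ?_) ?_, ?_⟩
  · rintro _ (rfl | ⟨v, rfl⟩)
    · exact hfJ
    · exact hdJ v
  · refine Submodule.le_of_le_smul_of_le_jacobson_bot
      (Submodule.fg_span ((Set.finite_singleton _).union (Set.finite_range _)))
      (IsLocalRing.maximalIdeal_le_jacobson ⊥) ?_
    generalize hN : Ideal.span ({f} ∪ Set.range fun i : Option (Fin m ⊕ Fin m) => MvPowerSeries.pderiv k i f) ⊔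
      IsLocalRing.maximalIdeal (MvPowerSeries (Option (Fin m ⊕ Fin m)) k) • jac m = N
    have hsq : (MvPowerSeries.X none ^ 2 : MvPowerSeries (Option (Fin m ⊕ Fin m)) k) ∈ N := by
      have e : (MvPowerSeries.X none ^ 2 : MvPowerSeries (Option (Fin m ⊕ Fin m)) k) =
          f - (f - q) - ∑ i : Fin m, MvPowerSeries.X (some (Sum.inl i)) * MvPowerSeries.X (some (Sum.inr i)) := by
        rw [hq]; ring
      rw [e, ← hN]
      refine sub_mem (sub_mem (Submodule.mem_sup_left (Ideal.subset_span (Or.inl rfl))) (Submodule.mem_sup_right ?_))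
        (Submodule.mem_sup_right ?_)
      · have h := sub_mem_smul_jac m (f - q) (hlow _ (by simp)) fun v => hlow _ (by simp)
        rwa [hlow _ (by simp), map_zero, zero_mul, sub_zero] at h
      · rw [smul_eq_mul]
        refine sum_mem fun i _ => Ideal.mul_mem_mul ((mem_maximalIdeal_iff _).2 (by simp)) (Ideal.subset_span (Or.inr ⟨_, rfl⟩))
    refine Ideal.span_le.2 ?_
    rintro _ (rfl | ⟨j, rfl⟩)
    · exact hsq
    · have hj : sw (sw j) = j := Sum.swap_swap j
      show MvPowerSeries.X (some j) ∈ N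
      rw [← hj]
      have h := sub_mem_smul_jac m _ (hd2 (sw j) 0 (by simp)) fun v => hd2 (sw j) _ (by simp)
      have hle : IsLocalRing.maximalIdeal (MvPowerSeries (Option (Fin m ⊕ Fin m)) k) • jac m ≤ N := hN ▸ le_sup_right
      have h1 : MvPowerSeries.pderiv k (some (sw j)) f - MvPowerSeries.X (some (sw (sw j))) ∈ N := by
        rw [← sub_add_cancel (MvPowerSeries.pderiv k (some (sw j)) f - MvPowerSeries.X (some (sw (sw j))))]
        exact add_mem (hle h) (Ideal.mul_mem_left _ _ hsq)
      have h2 : MvPowerSeries.pderiv k (some (sw j)) f ∈ N :=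
        hN ▸ Submodule.mem_sup_left (Ideal.subset_span (Or.inr ⟨_, rfl⟩))
      simpa using sub_mem h2 h1
  · let φ : MvPowerSeries (Option (Fin m ⊕ Fin m)) k →ₗ[k] k × k :=
      (MvPowerSeries.coeff 0).prod (MvPowerSeries.coeff (Finsupp.single none 1))
    have hker : LinearMap.ker φ = (jac m).restrictScalars k := by
      ext g
      rw [Submodule.restrictScalars_mem, mem_jac_iff, LinearMap.mem_ker]
      simp [φ, Prod.ext_iff]
    have hsur : Function.Surjective φ := fun ⟨a, b⟩ => ⟨MvPowerSeries.C a + MvPowerSeries.C b * MvPowerSeries.X none, by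
      simp [φ, MvPowerSeries.coeff_C, MvPowerSeries.coeff_X, Prod.ext_iff]⟩
    have e := ((Submodule.quotEquivOfEq _ _ hker.symm).trans (φ.quotKerEquivOfSurjective hsur))
    have e2 : (MvPowerSeries (Option (Fin m ⊕ Fin m)) k ⧸ jac (k := k) m) ≃ₗ[k] k × k :=
      (Submodule.Quotient.restrictScalarsEquiv k (jac (k := k) m)).symm.trans e
    refine e2.finrank_eq.trans ?_
    rw [Module.finrank_prod, Module.finrank_self]

end Groth.Agent.S8720
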