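import Groth.Statements.S8722
import Groth.Agent.H18QLin.Basic

set_option autoImplicit false
universe u v
open SGA7II

namespace Groth.Agent.S8722

/-- Let k be a separably closed field of characteristic p > 0, q = p^r with r >= 1, V a
finite-dimensional k-vector space and phi : V -> V additive with phi(c v) = c^q phi(v), semisimple
in the sense that its image spans V. Then for n >= 1 the fixed vectors of the n-th iterate of phi
are exactly the finite linear combinations of phi-fixed vectors with coefficients c satisfying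
c^(q^n) = c; that is, the fixed space of phi^n is obtained from the F_q-space of phi-fixed vectors
by extending scalars to F_{q^n}. -/
theorem result (k : Type u) [Field k] [IsSepClosed k] (p : ℕ)
    [Fact p.Prime] [CharP k p] (r : ℕ) (hr : 0 < r) (V : Type v) [AddCommGroup V] [Module k V]
    [FiniteDimensional k V] (φ : V →+ V) (hφ : ∀ (c : k) (v : V), φ (c • v) = c ^ (p ^ r) • φ v)
    (hss : Submodule.span k (Set.range φ) = ⊤) (n : ℕ) (hn : 0 < n) (v : V) :
    φ^[n] v = v ↔ ∃ (s : Finset V) (c : V → k), (∀ w ∈ s, φ w = w) ∧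
      (∀ w ∈ s, c w ^ ((p ^ r) ^ n) = c w) ∧ v = ∑ w ∈ s, c w • w := by
  classical
  have hp := (Fact.out : p.Prime)
  have hiter : ∀ (m : ℕ) (c : k) (x : V), φ x = x → φ^[m] (c • x) = c ^ ((p ^ r) ^ m) • x := by
    intro m c x hx
    induction m with
    | zero => simp
    | succ m ih => rw [Function.iterate_succ_apply', ih, hφ, hx, ← pow_mul, ← pow_succ]
  let Φ : AddMonoid.End V := φ
  have hP : ∀ m, φ^[m] = ⇑(Φ ^ m) := fun m => (AddMonoid.End.coe_pow _ Φ m).symm
  obtain ⟨b, hb, -⟩ := H18QLin.exists_basis_fixed (H18QLin.ofPPow p r φ hφ)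
    (Nat.one_lt_pow hr.ne' hp.one_lt)
    (by rw [Nat.cast_pow, CharP.cast_eq_zero, zero_pow hr.ne']) (fun x => iterateFrobenius_def p r x) hss
  constructor
  · intro hv
    have h1 : ∀ i, b.repr v i ^ ((p ^ r) ^ n) = b.repr v i := by
      intro i
      have h2 := congrArg (fun x => b.repr x i) hv
      conv at h2 => lhs; rw [← b.sum_repr v, hP n, map_sum, ← hP n, Finset.sum_congr rfl
        (fun j _ => hiter n (b.repr v j) (b j) (hb j))]
      rwa [b.repr_sum_self] at h2
    refine ⟨Finset.univ.map ⟨b, b.injective⟩, Function.extend b (fun i => b.repr v i) 0, ?_, ?_, ?_⟩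
    · intro w hw
      obtain ⟨i, -, rfl⟩ := Finset.mem_map.mp hw
      exact hb i
    · simpa [b.injective.extend_apply] using h1
    · simp [b.injective.extend_apply, b.sum_repr]
  · rintro ⟨s, c, hw, hc, rfl⟩
    rw [hP n, map_sum, ← hP n]
    exact Finset.sum_congr rfl fun w hws => by rw [hiter n _ _ (hw w hws), hc w hws]

end Groth.Agent.S8722
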