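import Groth.Statements.S8723
import Groth.Agent.H28Vert.GeomMult

set_option autoImplicit false
universe u
open CategoryTheory CategoryTheory.Limits AlgebraicGeometry
open ArSurf

namespace Groth.Agent.S8723

theorem dvd_length_stalk_map {P Y : Scheme.{u}} (π : P ⟶ Y) [Flat π] (x : P) :
    (Module.length (Y.presheaf.stalk (π x)) (Y.presheaf.stalk (π x))).toNat ∣
      (Module.length (P.presheaf.stalk x) (P.presheaf.stalk x)).toNat := by
  let A := Y.presheaf.stalk (π x)
  let S := P.presheaf.stalk x
  letI : Algebra A S := (π.stalkMap x).hom.toAlgebra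
  haveI : Module.Flat A S := Flat.stalkMap π x
  haveI : IsLocalHom (algebraMap A S) := π.toLRSHom.prop x
  have h := IsLocalRing.length_baseChange A S A
  rw [(TensorProduct.AlgebraTensorModule.rid A S S).length_eq] at h
  rw [h, ENat.toNat_mul]
  exact dvd_mul_right _ _

/-- Let R be a discrete valuation ring with residue field k and X an integral regular scheme of Krull
dimension 2, proper and flat over Spec R by f (a regular proper flat model whose fibres are curves).
Write X_s for the special fibre and X_sbar for its base change to an algebraic closure of k. Assume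
that X_s is geometrically connected (its base change to every field extension of k is connected) and
that the multiplicities of the irreducible components of X_sbar, i.e. the lengths of the local rings
of X_sbar at its maximal points, have greatest common divisor 1 (no prime divides all of them). Then
the canonical map k -> H^0(X_s, O_{X_s}) is bijective (X is cohomologically flat over R in degree
0). -/
theorem result (R : Type u) [CommRing R] [IsDomain R]
    [IsDiscreteValuationRing R] {X : Scheme.{u}} (f : X ⟶ Spec (CommRingCat.of R)) [IsProper f] [Flat f]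
    [IsIntegral X] (hreg : ∀ x : X, IsRegularLocalRing (X.presheaf.stalk x))
    (hdim : topologicalKrullDim X = 2)
    (hconn : ∀ (K : Type u) [Field K] [Algebra (IsLocalRing.ResidueField R) K],
      ConnectedSpace ↥(pullback f (Spec.map (CommRingCat.ofHom
        ((algebraMap (IsLocalRing.ResidueField R) K).comp (IsLocalRing.residue R))))))
    (hd : letI Xb := pullback f (Spec.map (CommRingCat.ofHom
        ((algebraMap (IsLocalRing.ResidueField R) (AlgebraicClosure (IsLocalRing.ResidueField R))).comp
          (IsLocalRing.residue R))))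
      ∀ ℓ : ℕ, ℓ.Prime → ∃ x : ↥Xb, (∀ y : ↥Xb, y ⤳ x → y = x) ∧
        ¬ (ℓ ∣ (Module.length (Xb.presheaf.stalk x) (Xb.presheaf.stalk x)).toNat)) :
    Function.Bijective
      (pullback.snd f (Spec.map (CommRingCat.ofHom (IsLocalRing.residue R)))).appTop.hom := by
  let X' : Over (Spec (CommRingCat.of R)) := Over.mk f
  haveI : IsProper X'.hom := ‹IsProper f›
  haveI : Flat X'.hom := ‹Flat f›
  haveI : IsIntegral X'.left := ‹IsIntegral X›
  let k := IsLocalRing.ResidueField R
  let b := pullback.fst f (H28Vert.closedPt R)
  let q := pullback.snd f (H28Vert.closedPt R)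
  haveI : ConnectedSpace ↥(pullback f (H28Vert.closedPt R)) := by
    have h := hconn k
    rwa [Algebra.algebraMap_self, RingHom.id_comp] at h
  have hS : _root_.IsConnected (Models.specialFibreSet R X') := by
    rw [← H28Vert.range_fst_closedPt]
    haveI : ConnectedSpace ↥(pullback X'.hom (H28Vert.closedPt R)) :=
      ‹ConnectedSpace ↥(pullback f (H28Vert.closedPt R))›
    exact isConnected_range (pullback.fst X'.hom (H28Vert.closedPt R)).continuous
  obtain ⟨n, Γ, hn, hΓ⟩ := H28Vert.exists_isComponentList (X := X') hdim hS
  let Ω := AlgebraicClosure k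
  let g : Spec (CommRingCat.of Ω) ⟶ Spec (CommRingCat.of k) := Spec.map (CommRingCat.ofHom (algebraMap k Ω))
  let c : Spec (CommRingCat.of Ω) ⟶ Spec (CommRingCat.of R) :=
    Spec.map (CommRingCat.ofHom ((algebraMap k Ω).comp (IsLocalRing.residue R)))
  have hc : g ≫ H28Vert.closedPt R = c := (Spec.map_comp _ _).symm
  let π : pullback f c ⟶ pullback f (H28Vert.closedPt R) :=
    pullback.lift (pullback.fst f c) (pullback.snd f c ≫ g) (by rw [Category.assoc, hc]; exact pullback.condition)
  have hsq : IsPullback π (pullback.snd f c) q g := by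
    refine IsPullback.of_right (h₁₂ := b) (v₁₃ := f) (h₂₂ := H28Vert.closedPt R) ?_ (pullback.lift_snd _ _ _)
      (IsPullback.of_hasPullback f (H28Vert.closedPt R))
    rw [hc, pullback.lift_fst]
    exact IsPullback.of_hasPullback f c
  haveI : Flat g := inferInstance
  haveI : Flat π := MorphismProperty.of_isPullback hsq.flip inferInstance
  haveI : ConnectedSpace ↥(pullback f c) := hconn Ω
  have hgcd : Models.multGcd R X' Γ = 1 := by
    by_contra hne
    obtain ⟨ℓ, hℓ, hdvd⟩ := Nat.exists_prime_and_dvd hne
    obtain ⟨x, hx, hndvd⟩ := hd ℓ hℓ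
    obtain ⟨i, hi⟩ := H28Vert.exists_length_eq_mult hΓ (π x) fun η hη => by
      obtain ⟨y, hyx, hy⟩ := Flat.generalizingMap π hη
      rw [← hy, hx y hyx]
    refine hndvd ((hdvd.trans (H28Vert.multGcd_dvd i)).trans ?_)
    rw [hi]
    exact dvd_length_stalk_map π x
  have hfield := H28Vert.isField_fibre (X := X') hreg hΓ hS.isPreconnected hn hgcd
  exact H28Vert.bijective_of_geometric q hfield π (pullback.snd f c) hsq fun ℓ hℓ =>
    (hd ℓ hℓ).imp fun x hx => hx.2

end Groth.Agent.S8723
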