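import Groth.Statements.S8724
import Mathlib

set_option autoImplicit false
open LefPen

namespace Groth.Agent.S8724

lemma geom {R : Type*} [CommRing R] (y z : R) (n N : ℕ) (hn : n ≤ N) :
    y ^ n - z ^ n = (y - z) * ∑ i ∈ Finset.range N, ∑ j ∈ Finset.range N, if i + j + 1 = n then y ^ i * z ^ j else 0 := by
  rw [← (Commute.all y z).geom_sum₂_mul n, mul_comm]
  congr 1
  rw [← Finset.sum_subset ((Finset.range_subset_range.2 hn)) fun i _ hi => Finset.sum_eq_zero fun j _ =>
    if_neg (by simp at hi; omega)]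
  refine Finset.sum_congr rfl fun i hi => ?_
  simp at hi
  rw [Finset.sum_eq_single (n - 1 - i) (fun j _ hj => if_neg (by omega))
    (fun h => absurd (Finset.mem_range.2 (by omega)) h), if_pos (by omega)]

lemma binom_diff {R : Type*} [CommRing R] (y z : R) (a N : ℕ) (hN : a ≤ N) :
    (1 + y) ^ a - (1 + z) ^ a = (y - z) * ∑ i ∈ Finset.range N, ∑ j ∈ Finset.range N,
      if i + j + 1 ≤ a then ((a.choose (i + j + 1) : ℕ) : R) * y ^ i * z ^ j else 0 := by
  rw [add_comm 1 y, add_comm 1 z, add_pow, add_pow, ← Finset.sum_sub_distrib]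
  simp only [one_pow, mul_one]
  rw [Finset.sum_congr rfl fun m hm => by
    rw [← sub_mul, geom y z m N (by simp at hm; omega), mul_assoc]]
  rw [← Finset.mul_sum]
  congr 1
  simp only [Finset.sum_mul, ite_mul, zero_mul]
  rw [Finset.sum_comm]
  refine Finset.sum_congr rfl fun i _ => ?_
  rw [Finset.sum_comm]
  refine Finset.sum_congr rfl fun j _ => ?_
  rw [Finset.sum_ite_eq (Finset.range (a + 1)) (i + j + 1)]
  by_cases h : i + j + 1 ≤ a
  · rw [if_pos h, if_pos (by simp; omega)]; ring
  · rw [if_neg h, if_neg (by simp; omega)]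


/-- The algebraic identity established in its proof: let a >= 1 and work in Z[y, z]. Then (1+y)^(a-1) -
(1+z)^(a-1) = (y - z) * (sum over i, j >= 0 with i + j + 1 <= a - 1 of C(a-1, i+j+1) y^i z^j), and
(1+y)^a z - (1+z)^a y = (y - z) * (-1 + sum over i, j >= 1 with i + j <= a of C(a, i+j) y^i z^j).
Consequently the rational function -((1+y)^(a-1) - (1+z)^(a-1)) / ((1+y)^a z - (1+z)^a y), the
generating series of the primitive middle Hodge numbers of smooth hypersurfaces of degree a, equals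
(sum_{i,j >= 0} C(a-1, i+j+1) y^i z^j) / (1 - sum_{i,j >= 1} C(a, i+j) y^i z^j). -/
theorem result (a : ℕ) (ha : 1 ≤ a) :
    let y : MvPolynomial (Fin 2) ℤ := MvPolynomial.X 0
    let z : MvPolynomial (Fin 2) ℤ := MvPolynomial.X 1
    ((1 + y) ^ (a - 1) - (1 + z) ^ (a - 1) =
      (y - z) * ∑ i ∈ Finset.range a, ∑ j ∈ Finset.range a,
        if i + j + 1 ≤ a - 1 then ((a - 1).choose (i + j + 1) : MvPolynomial (Fin 2) ℤ) * y ^ i * z ^ j else 0) ∧
    ((1 + y) ^ a * z - (1 + z) ^ a * y =
      (y - z) * (-1 + ∑ i ∈ Finset.range (a + 1), ∑ j ∈ Finset.range (a + 1),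
        if 1 ≤ i ∧ 1 ≤ j ∧ i + j ≤ a then (a.choose (i + j) : MvPolynomial (Fin 2) ℤ) * y ^ i * z ^ j else 0)) := by
  intro y z
  refine ⟨binom_diff y z (a - 1) a (by omega), ?_⟩
  have e := binom_diff y z a (a + 1) (by omega)
  have key : z * ∑ i ∈ Finset.range (a + 1), ∑ j ∈ Finset.range (a + 1),
      (if i + j + 1 ≤ a then ((a.choose (i + j + 1) : ℕ) : MvPolynomial (Fin 2) ℤ) * y ^ i * z ^ j else 0) =
      ((1 + z) ^ a - 1) + ∑ i ∈ Finset.range (a + 1), ∑ j ∈ Finset.range (a + 1),
        (if 1 ≤ i ∧ 1 ≤ j ∧ i + j ≤ a then (a.choose (i + j) : MvPolynomial (Fin 2) ℤ) * y ^ i * z ^ j else 0) := by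
    have hb : (1 + z) ^ a - 1 = ∑ j ∈ Finset.range (a + 1),
        if j + 1 ≤ a then ((a.choose (j + 1) : ℕ) : MvPolynomial (Fin 2) ℤ) * z ^ (j + 1) else 0 := by
      rw [add_comm 1 z, add_pow, Finset.sum_range_succ', Finset.sum_range_succ (n := a), if_neg (by omega)]
      simp only [one_pow, mul_one, pow_zero, Nat.choose_zero_right, Nat.cast_one, add_sub_cancel_right, add_zero]
      exact Finset.sum_congr rfl fun j hj => by rw [if_pos (by simp at hj; omega), mul_comm]
    rw [hb, Finset.sum_range_succ' (fun i => ∑ j ∈ Finset.range (a + 1),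
      if 1 ≤ i ∧ 1 ≤ j ∧ i + j ≤ a then (a.choose (i + j) : MvPolynomial (Fin 2) ℤ) * y ^ i * z ^ j else 0),
      Finset.mul_sum, Finset.sum_range_succ' (fun i => z * ∑ j ∈ Finset.range (a + 1),
      if i + j + 1 ≤ a then ((a.choose (i + j + 1) : ℕ) : MvPolynomial (Fin 2) ℤ) * y ^ i * z ^ j else 0)]
    simp only [nonpos_iff_eq_zero, one_ne_zero, false_and, if_false, Finset.sum_const_zero, add_zero]
    rw [add_comm]
    congr 1
    · rw [Finset.mul_sum]
      exact Finset.sum_congr rfl fun j _ => by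
        simp only [Nat.zero_add, mul_ite, mul_zero]
        split <;> [ring; rfl]
    · refine Finset.sum_congr rfl fun i hi => ?_
      rw [Finset.mul_sum, Finset.sum_range_succ (n := a), Finset.sum_range_succ' (n := a), if_neg (by simp at hi; omega),
        if_neg (by omega), mul_zero, add_zero, add_zero]
      refine Finset.sum_congr rfl fun j _ => ?_
      simp only [mul_ite, mul_zero]
      refine if_congr (by omega) ?_ rfl
      rw [show i + 1 + (j + 1) = i + 1 + j + 1 by omega]; ring
  linear_combination z * e + (y - z) * key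

end Groth.Agent.S8724
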