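import Groth.Statements.S8729
import Groth.Agent.H28Vert.Degree

set_option autoImplicit false
universe u
open CategoryTheory CategoryTheory.Limits AlgebraicGeometry
open ArSurf

set_option linter.style.haveILetI false
set_option backward.isDefEq.respectTransparency.types false

namespace Groth.Agent.S8729

/-- For a vertical prime divisor: let R be a discrete valuation ring, X an arithmetic surface over Spec
R (regular, integral, of dimension 2, flat and projective), Γ a vertical prime divisor of X over the
closed point with ideal sheaf I, N = I/I^2 its conormal sheaf (an invertible O_Γ-module) and L an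
O_X-module with L ⊗ I ≅ O_X (L = O_X(Γ)). Then the self-intersection number (Γ · Γ) = deg_k(L|_Γ)
equals -deg_k(N), degrees over the residue field k being differences of Euler characteristics. -/
theorem result (R : Type u) [CommRing R] [IsDomain R] [IsDiscreteValuationRing R]
    (X : Over (Spec (CommRingCat.of R))) (hX : ArSurf.IsArithSurface R X) (Γ : ArSurf.VertComp R X)
    (L : X.left.Modules) (hL : ClSub.IsInverseOf L (ClSub.idealMod Γ.ι.ker)) :
    ArSurf.inter R X L Γ =
      - ArSurf.curveDeg (IsLocalRing.ResidueField R) Γ.curve.left (Omega.conormal Γ.ι) := by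
  let k := IsLocalRing.ResidueField R
  haveI : IsProper X.hom := H28Vert.isProper_of_isArithSurface hX
  haveI := H28Vert.isProper_curve Γ
  haveI : IsProper (Γ.curve.left ↘ Spec (CommRingCat.of k)) := inferInstanceAs (IsProper Γ.curve.hom)
  obtain ⟨e⟩ := hL
  let I := ClSub.idealMod Γ.ι.ker
  have hLi : PicF.IsInvertible L := H17.InvertibleTensor.isInvertible_of_tensor_iso L _ e
  have hIi : PicF.IsInvertible I :=
    H17.InvertibleTensor.isInvertible_of_tensor_iso _ L (H10Coh.Tw.commIso _ _ ≪≫ e)
  let F := Scheme.Modules.pullback Γ.ι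
  have hP := H11Ample.isInvertible_pullback Γ.ι hLi
  have hP' := H11Ample.isInvertible_pullback Γ.ι hIi
  let eP : CohB1.tensorMod (F.obj L) (F.obj I) ≅ Coh.structureModule Γ.curve.left :=
    ((H16Derived.KFlat.Stalk.pullTensorLIso Γ.ι I).app L).symm ≪≫ F.mapIso e ≪≫
      H16Derived.KFlat.Stalk.structurePullbackIso Γ.ι
  show ArSurf.curveDeg k Γ.curve.left (F.obj L) = - ArSurf.curveDeg k Γ.curve.left (F.obj I)
  exact (H28Int.Curves.curveDeg_eq k Γ.dim_eq hP).trans
    ((congrArg Neg.neg (H28Vert.D_flip k (l := []) (by simp) hP hP' eP Γ.dim_eq.le)).trans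
      (congrArg Neg.neg (H28Int.Curves.curveDeg_eq k Γ.dim_eq hP').symm))

end Groth.Agent.S8729
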