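import Groth.Statements.S8731
import Groth.Agent.H10Coh.Pn.HyperPn
import Groth.Agent.H10Coh.CI.HypMod
import Groth.Agent.H10Coh.CISupport
import Groth.Agent.H28Int.Push
import Groth.Agent.H29RR.Consts
import Groth.Agent.H29RR.FiniteSupport
import Groth.Agent.H8Props.FieldDimSmooth
import Groth.Agent.H27CurveDiv.RelDim
import Groth.Agent.H26Smooth.ProjSmooth


set_option autoImplicit false
set_option linter.style.haveILetI false
set_option backward.isDefEq.respectTransparency false
set_option synthInstance.maxHeartbeats 200000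
universe u
open CategoryTheory CategoryTheory.Limits AlgebraicGeometry
open LefPen

namespace Groth.Agent.S8731

/-- (iv), the assertions on the structure sheaf: let k be an algebraically closed field, n >= 1, and Q a
quadratic form in n + 2 variables whose zero scheme X = V(Q) ⊂ P^{n+1}_k is smooth over k of
relative dimension n (a smooth quadric of dimension n). Then H^i(X, O_X) = 0 for every i >= 1, and
the structure map identifies k with H^0(X, O_X). (The published item also computes H^1(X, O_X(1)),
the canonical sheaf and the Picard group, not stated here.) -/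
theorem result (k : Type u) [Field k] [IsAlgClosed k] (n : ℕ) (hn : 1 ≤ n)
    (Q : LefPen.Form (n + 1) k 2)
    [SmoothOfRelativeDimension n ((LefPen.hypIdeal Q).subschemeι ≫ CohB1.ProjSpace.toSpec (n + 1) k)] :
    (∀ i : ℕ, 1 ≤ i → Subsingleton (Coh.HH (LefPen.hypIdeal Q).subscheme
        (Coh.structureModule (LefPen.hypIdeal Q).subscheme) i)) ∧
      Function.Bijective ((LefPen.hypIdeal Q).subschemeι ≫ CohB1.ProjSpace.toSpec (n + 1) k).appTop.hom := by
  let X := (LefPen.hypIdeal Q).subscheme
  let ι := (LefPen.hypIdeal Q).subschemeι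
  let sX : X ⟶ Spec (CommRingCat.of k) := ι ≫ CohB1.ProjSpace.toSpec (n + 1) k
  letI : X.Over (Spec (CommRingCat.of k)) := ⟨sX⟩
  haveI hXs : SmoothOfRelativeDimension n sX := ‹_›
  haveI : IsProper (X ↘ Spec (CommRingCat.of k)) := inferInstanceAs (IsProper (ι ≫ _))
  haveI : Smooth sX := SmoothOfRelativeDimension.smooth n sX
  haveI : IsIntegral (CohB1.ProjSpace (n + 1) k) := Groth.Agent.H10Coh.Hyper.isIntegral_pn k (n + 1)
  have hQ : Q.1 ≠ 0 := by
    intro h0
    haveI : Smooth (CohB1.ProjSpace.toSpec (n + 1) k) := Groth.Agent.H26Smooth.smooth_toSpec (n + 1) k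
    haveI : SmoothOfRelativeDimension (n + 1) (CohB1.ProjSpace.toSpec (n + 1) k) :=
      Groth.Agent.H27CurveDiv.smoothOfRelativeDimension_of_dim _ (n + 1) (Groth.Agent.S10829.result k (n + 1))
    haveI : Surjective ι := ⟨fun y => by
      have hy : y ∈ Set.range ι := by
        rw [(LefPen.hypIdeal Q).range_subschemeι]
        exact (Groth.Agent.H10Coh.CISupport.mem_support_hypIdeal Q y).2 (by rw [h0]; exact zero_mem _)
      exact hy⟩
    haveI : IsIso ι := isIso_of_isClosedImmersion_of_surjective _
    obtain ⟨x⟩ : Nonempty X := ⟨(asIso ι).inv (genericPoint (CohB1.ProjSpace (n + 1) k))⟩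
    have h1 := Groth.Agent.H8Props.FieldDim.localDim_eq_of_smooth sX n x
    haveI : SmoothOfRelativeDimension (n + 1) sX := by
      show SmoothOfRelativeDimension (n + 1) (ι ≫ _)
      exact MorphismProperty.RespectsIso.precomp (P := @SmoothOfRelativeDimension (n + 1)) ι _ inferInstance
    have h2 := Groth.Agent.H8Props.FieldDim.localDim_eq_of_smooth sX (n + 1) x
    rw [h1] at h2
    exact absurd h2 (by exact_mod_cast (Nat.lt_succ_self n).ne)
  obtain ⟨e⟩ := Groth.Agent.H10Coh.CI.nonempty_idealMod_hypIdeal Q hQ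
  obtain ⟨hvan, ⟨-, hdim0⟩, htop⟩ := Groth.Agent.H10Coh.Hyper.cohomology_hypersurface k (d := n) (k := 2) ⟨e⟩ 0
  obtain ⟨-, htopdim⟩ := htop hn
  obtain ⟨e0⟩ := Groth.Agent.H11Tilde.nonempty_twist_zero_iso (CohB1.polyGrading (n + 1) k)
  let eq : CohB1.tensorMod (ClSub.quotMod (LefPen.hypIdeal Q)) (Twist.twistProjSpace (n + 1) k 0) ≅
      (Coh.push ι).obj (Coh.structureModule X) :=
    PicGrp.tensorModIso (Iso.refl _) e0 ≪≫ Groth.Agent.H10Coh.Tw.rightUnitIso _
  haveI : (Coh.structureModule X).IsQuasicoherent := (Groth.Agent.H10Coh.isCoh_structureModule' X).1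
  have hfr : ∀ i, Module.finrank k (Coh.HH X (Coh.structureModule X) i) =
      Module.finrank k (Coh.HH (CohB1.ProjSpace (n + 1) k)
        (CohB1.tensorMod (ClSub.quotMod (LefPen.hypIdeal Q)) (Twist.twistProjSpace (n + 1) k 0)) i) := fun i => by
    rw [(Groth.Agent.H29RR.hhIso (k := k) eq i).finrank_eq]
    exact (Groth.Agent.H28Int.Push.finrank_HH_push k ι rfl (Coh.structureModule X) i).symm
  haveI : IsNoetherian X := Groth.Agent.H29RR.isNoetherian_of_proper (k := k) (X := X)
  haveI : ∀ i, Module.Finite k (Coh.HH X (Coh.structureModule X) i) := fun i =>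
    Groth.Agent.H10Coh.finite_HH_proper k X _ (Groth.Agent.H10Coh.isCoh_structureModule' X) i
  refine ⟨fun i hi => Module.finrank_zero_iff (R := k) |>.1 ?_, ?_⟩
  · rw [hfr]
    by_cases hin : i = n
    · subst hin
      rw [htopdim, Nat.choose_eq_zero_of_lt (by omega), Nat.choose_eq_zero_of_lt (by omega)]
    · haveI := hvan i (by omega) hin
      exact Module.finrank_zero_of_subsingleton
  · have h1 : Module.finrank k (Coh.HH X (Coh.structureModule X) 0) = 1 := by
      rw [hfr, hdim0, if_neg (by omega), add_zero]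
      rw [Nat.choose_eq_zero_of_lt (n := ((0 : ℤ) - ((2 : ℕ) : ℤ) + ((n + 1 : ℕ) : ℤ)).toNat) (by omega),
        show ((0 : ℤ) + ((n + 1 : ℕ) : ℤ)).toNat = n + 1 by omega, Nat.choose_self]
    letI := Groth.Agent.H22Alg.GlobalFunctions.algΓ sX
    let e1 : Coh.HH X (Coh.structureModule X) 0 ≃ₗ[k] Γ(X, ⊤) :=
      { Groth.Agent.H10Coh.HH0Equiv (Coh.structureModule X) with
        map_smul' := fun c x => (Groth.Agent.H10Coh.HH0Equiv_smul (Coh.structureModule X)
          (sX.appTop ((Scheme.ΓSpecIso (CommRingCat.of k)).inv c)) x).trans rfl }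
    rw [e1.finrank_eq] at h1
    haveI : Nontrivial Γ(X, ⊤) := Module.nontrivial_of_finrank_pos (R := k) (by omega)
    haveI : Module.Finite k Γ(X, ⊤) := Module.Finite.equiv e1
    have hb : Function.Bijective (algebraMap k Γ(X, ⊤)) := ⟨(algebraMap k Γ(X, ⊤)).injective,
      (LinearMap.injective_iff_surjective_of_finrank_eq_finrank (f := Algebra.linearMap k Γ(X, ⊤))
        (by rw [Module.finrank_self, h1])).1 (algebraMap k Γ(X, ⊤)).injective⟩
    have hiso : Function.Bijective (Scheme.ΓSpecIso (CommRingCat.of k)).inv.hom :=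
      (Scheme.ΓSpecIso (CommRingCat.of k)).symm.commRingCatIsoToRingEquiv.bijective
    exact (Function.Bijective.of_comp_iff _ hiso).1 hb

end Groth.Agent.S8731
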