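import Groth.Statements.S8738
import Mathlib

set_option autoImplicit false
universe u
open SGA7II

namespace Groth.Agent.S8738

open Finset in
/-- A derivation preserving a Noetherian ring of characteristic zero preserves its integral closure in
the total ring of fractions. -/
theorem isIntegral_derivation (k : Type u) [Field k] [CharZero k] {A : Type u} [CommRing A] [Algebra k A]
    [IsNoetherianRing A] (D : Derivation k A A) (E : FractionRing A →+ FractionRing A)
    (hE : ∀ a, E (algebraMap A (FractionRing A) a) = algebraMap A (FractionRing A) (D a))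
    (hleib : ∀ x y, E (x * y) = x * E y + y * E x) (x : FractionRing A) (hx : IsIntegral A x) :
    IsIntegral A (E x) := by
  -- a common denominator for the powers of `x`
  haveI hfin : Module.Finite A (Algebra.adjoin A {x}) :=
    Algebra.finite_adjoin_simple_of_isIntegral hx
  obtain ⟨S, hS⟩ := (Module.Finite.iff_fg (N := Subalgebra.toSubmodule (Algebra.adjoin A {x}))).mp hfin
  classical
  obtain ⟨c, hc⟩ := IsLocalization.exist_integer_multiples_of_finset (nonZeroDivisors A) S
  have hden : ∀ j : ℕ, algebraMap A (FractionRing A) c * x ^ j ∈ (algebraMap A (FractionRing A)).range := by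
    intro j
    have hxj : x ^ j ∈ Submodule.span A (S : Set (FractionRing A)) :=
      hS ▸ (Subalgebra.pow_mem _ (Algebra.self_mem_adjoin_singleton A x) j)
    refine Submodule.span_induction (p := fun y _ => algebraMap A (FractionRing A) c * y ∈ (algebraMap A (FractionRing A)).range)
      ?_ ?_ ?_ ?_ hxj
    · intro y hy
      obtain ⟨b, hb⟩ := hc y hy
      exact ⟨b, by rw [hb, Algebra.smul_def]⟩
    · exact ⟨0, by simp⟩
    · rintro y z _ _ ⟨b, hb⟩ ⟨b', hb'⟩
      exact ⟨b + b', by rw [map_add, hb, hb', mul_add]⟩
    · rintro r y _ ⟨b, hb⟩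
      exact ⟨r * b, by rw [map_mul, hb, Algebra.smul_def]; ring⟩
  have hcl : ∀ (r : ℕ) (y : (FractionRing A)), y ∈ (algebraMap A (FractionRing A)).range → E^[r] y ∈ (algebraMap A (FractionRing A)).range := by
    intro r
    induction r with
    | zero => exact fun y hy => hy
    | succ r ih =>
      rintro y ⟨b, rfl⟩
      rw [Function.iterate_succ_apply, hE]
      exact ih _ ⟨_, rfl⟩
  let C := algebraMap A (FractionRing A) c
  have hpow : ∀ (y : (FractionRing A)) (e : ℕ), E (y ^ e) = (e : (FractionRing A)) * y ^ (e - 1) * E y := by
    intro y e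
    induction e with
    | zero => simpa using (show E 1 = 0 by simpa using hleib 1 1)
    | succ e ih =>
      rw [pow_succ, hleib, ih]
      cases e with
      | zero => simp
      | succ e => simp only [Nat.add_sub_cancel, pow_succ]; push_cast; ring
  let F : ℕ → ℕ → (FractionRing A) := fun m r =>
    ∑ j ∈ range (m + 1), (m.choose j : (FractionRing A)) * (-x) ^ (m - j) * E^[r] (C * x ^ j)
  have hrec : ∀ m r, E (F (m + 1) r) = F (m + 1) (r + 1) - (m + 1 : ℕ) * E x * F m r := by
    intro m r
    have h1 : ∀ j ∈ range (m + 1 + 1),
        E (((m + 1).choose j : (FractionRing A)) * (-x) ^ (m + 1 - j) * E^[r] (C * x ^ j)) =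
          ((m + 1).choose j : (FractionRing A)) * (-x) ^ (m + 1 - j) * E^[r + 1] (C * x ^ j) -
            ((((m + 1).choose j * (m + 1 - j) : ℕ) : (FractionRing A)) * (-x) ^ (m + 1 - j - 1)) * E x * E^[r] (C * x ^ j) := by
      intro j _
      have hn : E ((((m + 1).choose j : ℕ)) : (FractionRing A)) = 0 := by
        rw [← map_natCast (algebraMap A (FractionRing A)), hE, D.map_natCast, map_zero]
      rw [hleib, hleib, hn, hpow, map_neg, Function.iterate_succ_apply']
      push_cast
      ring
    show E (∑ j ∈ range (m + 1 + 1), _) = _
    rw [map_sum, sum_congr rfl h1, sum_sub_distrib]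
    congr 1
    rw [sum_range_succ]
    simp only [Nat.sub_self, mul_zero, Nat.cast_zero, zero_mul, add_zero]
    show _ = (m + 1 : ℕ) * E x * ∑ j ∈ range (m + 1), _
    rw [mul_sum]
    refine sum_congr rfl fun j hj => ?_
    have hjm : j ≤ m := Nat.lt_succ_iff.mp (mem_range.mp hj)
    rw [show (m + 1).choose j * (m + 1 - j) = m.choose j * (m + 1) by rw [Nat.choose_mul_succ_eq],
      show m + 1 - j - 1 = m - j by omega]
    push_cast
    ring
  have hF0 : ∀ m, F m 0 = C * (x + -x) ^ m := fun m => by
    rw [add_pow, mul_sum]
    exact sum_congr rfl fun j _ => by simp only [Function.iterate_zero_apply]; ring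
  have key : ∀ r m, r ≤ m → F m r = if r = m then (m.factorial : (FractionRing A)) * C * E x ^ m else 0 := by
    intro r
    induction r with
    | zero =>
      intro m _
      rw [hF0, add_neg_cancel]
      rcases m with _ | m
      · simp
      · simp
    | succ r ih =>
      intro m hm
      obtain ⟨m, rfl⟩ : ∃ m', m = m' + 1 := ⟨m - 1, by omega⟩
      have h := hrec m r
      rw [ih (m + 1) (by omega), if_neg (by omega), map_zero] at h
      rw [sub_eq_zero.mp h.symm, ih m (by omega)]
      split_ifs with h1 h2 h2
      · subst h1; rw [Nat.factorial_succ]; push_cast; ring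
      · omega
      · omega
      · ring
  have hmem : ∀ m, algebraMap A (FractionRing A) (c * c) * E x ^ m ∈ (algebraMap A (FractionRing A)).range := by
    intro m
    have hu : IsUnit ((m.factorial : ℕ) : A) := by
      rw [← map_natCast (algebraMap k A)]
      exact (isUnit_iff_ne_zero.mpr (Nat.cast_ne_zero.mpr (Nat.factorial_ne_zero m))).map _
    obtain ⟨v, hv⟩ := hu.exists_left_inv
    have h := key m m le_rfl
    rw [if_pos rfl] at h
    have : algebraMap A (FractionRing A) (c * c) * E x ^ m = algebraMap A (FractionRing A) v * (C * F m m) := by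
      rw [h, map_mul]
      have := congrArg (algebraMap A (FractionRing A)) hv
      rw [map_mul, map_one, map_natCast] at this
      calc algebraMap A (FractionRing A) c * algebraMap A (FractionRing A) c * E x ^ m
          = (algebraMap A (FractionRing A) v * (m.factorial : (FractionRing A))) * (C * (C * E x ^ m)) := by rw [this]; ring
        _ = _ := by ring
    rw [this]
    refine Subring.mul_mem _ ⟨v, rfl⟩ ?_
    rw [mul_sum]
    refine Subring.sum_mem _ fun j _ => ?_
    have : C * ((m.choose j : (FractionRing A)) * (-x) ^ (m - j) * E^[m] (C * x ^ j)) =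
        ((m.choose j : (FractionRing A)) * (-1) ^ (m - j)) * (C * x ^ (m - j)) * E^[m] (C * x ^ j) := by
      rw [neg_pow]; ring
    rw [this]
    exact Subring.mul_mem _ (Subring.mul_mem _
      (Subring.mul_mem _ (natCast_mem _ _) (Subring.pow_mem _ (Subring.neg_mem _ (Subring.one_mem _)) _))
      (hden _)) (hcl _ _ (hden j))
  -- a bounded module containing all powers
  obtain ⟨u, hu⟩ := IsLocalization.map_units (FractionRing A) (⟨c, c.2⟩ * ⟨c, c.2⟩ : nonZeroDivisors A)
  let N : Submodule A (FractionRing A) := Submodule.span A {((u⁻¹ : (FractionRing A)ˣ) : (FractionRing A))}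
  haveI : IsNoetherian A N := isNoetherian_of_fg_of_noetherian N ⟨{((u⁻¹ : (FractionRing A)ˣ) : (FractionRing A))}, by simp [N]⟩
  have hle : Subalgebra.toSubmodule (Algebra.adjoin A {E x}) ≤ N := by
    rw [Algebra.adjoin_eq_span, Submodule.span_le]
    intro y hy
    obtain ⟨m, rfl⟩ := Submonoid.mem_closure_singleton.mp hy
    obtain ⟨b, hb⟩ := hmem m
    refine Submodule.mem_span_singleton.mpr ⟨b, ?_⟩
    rw [Algebra.smul_def, hb]
    have hu' : (u : (FractionRing A)) = algebraMap A (FractionRing A) (c * c) := hu
    rw [← hu', mul_comm (u : (FractionRing A)), mul_assoc, Units.mul_inv, mul_one]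
  exact IsIntegral.of_mem_of_fg (Algebra.adjoin A {E x})
    (isNoetherian_submodule.mp (inferInstance : IsNoetherian A N) _ hle) _ (Algebra.self_mem_adjoin_singleton A (E x))

/-- Let k be a field of characteristic zero and A a reduced Noetherian local k-algebra of Krull
dimension one, essentially of finite type over k (the local ring of a reduced curve over k at one of
its points), and let A' be the integral closure of A in its total ring of fractions (the
normalization). Then every k-derivation D of A extends to a k-derivation D' of A', i.e. D' agrees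
with D on the image of A. -/
theorem result (k : Type u) [Field k] [CharZero k] (A : Type u) [CommRing A]
    [Algebra k A] [IsReduced A] [IsNoetherianRing A] [IsLocalRing A] [Algebra.EssFiniteType k A]
    (hdim : ringKrullDim A = 1) (D : Derivation k A A) :
    ∃ D' : Derivation k ↥(integralClosure A (FractionRing A)) ↥(integralClosure A (FractionRing A)),
      ∀ a : A, (D' (algebraMap A ↥(integralClosure A (FractionRing A)) a) : FractionRing A) =
        algebraMap A (FractionRing A) (D a) := by
  let K := FractionRing A
  let φ : A →+* TrivSqZeroExt K K :=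
    { toFun := fun a => TrivSqZeroExt.inl (algebraMap A K a) + TrivSqZeroExt.inr (algebraMap A K (D a))
      map_one' := by ext <;> simp
      map_zero' := by ext <;> simp
      map_add' := fun a b => by ext <;> simp <;> ring
      map_mul' := fun a b => by
        ext
        · simp only [map_mul, TrivSqZeroExt.fst_add, TrivSqZeroExt.fst_inl, TrivSqZeroExt.fst_inr,
            TrivSqZeroExt.fst_mul, add_zero]
        · simp only [map_mul, TrivSqZeroExt.snd_add, TrivSqZeroExt.snd_inl, TrivSqZeroExt.snd_inr,
            TrivSqZeroExt.snd_mul, TrivSqZeroExt.fst_add, TrivSqZeroExt.fst_inl, TrivSqZeroExt.fst_inr,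
            Derivation.leibniz, map_add, map_mul, smul_eq_mul, op_smul_eq_smul, zero_add, add_zero] }
  have hunit : ∀ s : nonZeroDivisors A, IsUnit (φ s) := fun s => by
    rw [TrivSqZeroExt.isUnit_iff_isUnit_fst]
    simpa [φ] using IsLocalization.map_units K s
  let ψ : K →+* TrivSqZeroExt K K := IsLocalization.lift (M := nonZeroDivisors A) hunit
  have hψ : ∀ a, ψ (algebraMap A K a) = φ a := IsLocalization.lift_eq hunit
  have hfst : ∀ x, (ψ x).fst = x := by
    intro x
    have : ((TrivSqZeroExt.fstHom K K K).toRingHom.comp ψ) = RingHom.id K :=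
      IsLocalization.ringHom_ext (nonZeroDivisors A) (RingHom.ext fun a => by
        simp [hψ, φ])
    exact RingHom.congr_fun this x
  let E : K →+ K :=
    { toFun := fun x => (ψ x).snd
      map_zero' := by simp
      map_add' := fun x y => by simp }
  have hE : ∀ a, E (algebraMap A K a) = algebraMap A K (D a) := fun a => by simp [E, hψ, φ]
  have hleib : ∀ x y, E (x * y) = x * E y + y * E x := fun x y => by
    simp only [E, AddMonoidHom.coe_mk, ZeroHom.coe_mk, map_mul, TrivSqZeroExt.snd_mul, hfst, smul_eq_mul,
      op_smul_eq_smul]
  have hint : ∀ x : K, IsIntegral A x → IsIntegral A (E x) := isIntegral_derivation k D E hE hleib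
  have hk : ∀ (r : k) (x : K), E (algebraMap k K r * x) = algebraMap k K r * E x := fun r x => by
    rw [hleib, IsScalarTower.algebraMap_apply k A K, hE, D.map_algebraMap, map_zero, mul_zero, add_zero]
  let E' : ↥(integralClosure A K) →ₗ[k] ↥(integralClosure A K) :=
    { toFun := fun x => ⟨E x, hint _ x.2⟩
      map_add' := fun x y => Subtype.ext (map_add E _ _)
      map_smul' := fun r x => Subtype.ext (by
        show E (r • (x : K)) = r • E (x : K)
        rw [Algebra.smul_def, hk, Algebra.smul_def]) }
  refine ⟨Derivation.mk' E' (fun x y => Subtype.ext (hleib (x : K) (y : K))), fun a => hE a⟩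

end Groth.Agent.S8738
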