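import Groth.Statements.S8742
import Groth.Agent.H02CA.Adeq.Coker

set_option autoImplicit false
universe u
open CategoryTheory Limits
open Adeq

namespace Groth.Agent.S8742
open Groth.Agent.H02CA.Adq

/-- Let `L` be the kernel of `underline(P) → underline(P')` for a map `P → P'` of finite free
`A`-modules. Every morphism of module-valued functors `φ : L → underline(M)` extends to
`underline(P)`: there is an `A`-linear `g : P → M` with `φ` equal to the inclusion `L →
underline(P)` followed by `underline(g)`. -/
theorem result (A : Type u) [CommRing A] (P P' M : ModuleCat.{u + 1} A)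
    [Module.Finite A P] [Module.Free A P] [Module.Finite A P'] [Module.Free A P'] (φ₀ : P ⟶ P')
    (φ : kernel ((Adeq.underline A).map φ₀) ⟶ (Adeq.underline A).obj M) :
    ∃ g : P ⟶ M, kernel.ι ((Adeq.underline A).map φ₀) ≫ (Adeq.underline A).map g = φ := by
  exact extend_hom φ₀ φ

end Groth.Agent.S8742
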