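import Groth.Statements.S8747
import Groth.Agent.H02CA.Adeq.Ext

set_option autoImplicit false
universe u
open CategoryTheory Limits
open Adeq

namespace Groth.Agent.S8747

/-- A short exact sequence `0 → underline(M) → G → L → 0` of module-valued functors on `A`-algebras with
`L` linearly adequate splits, and `G` is adequate. -/
theorem result (A : Type u) [CommRing A]
    (S : ShortComplex (Adeq.MVF A)) (hS : S.ShortExact) (M : ModuleCat.{u + 1} A)
    (e : S.X₁ ≅ (Adeq.underline A).obj M) (hL : Adeq.linAdequate A S.X₃) :
    Nonempty S.Splitting ∧ Adeq.adequate A S.X₂ := by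
  exact Groth.Agent.H02CA.Adq.split_of_lin S hS M e hL

end Groth.Agent.S8747
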