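import Groth.Statements.S8758
import Groth.Agent.H02CA.Adeq.Big.Local

set_option autoImplicit false
universe u
open CategoryTheory Limits AlgebraicGeometry
open Adeq

namespace Groth.Agent.S8758

/-- If `{f_i : S_i → S}` is an fppf covering and each `f_i^* M` is an adequate `O`-module on the big
fppf site of `S_i`, then `M` is adequate. (The converse holds by stability of adequacy under
pullback.) -/
theorem result (S : Scheme.{u}) (M : BigSite.Mod Scheme.fppfPrecoverage S) (ι : Type u)
    (T : ι → Scheme.{u}) (f : ∀ i, T i ⟶ S) (hcov : Presieve.ofArrows T f ∈ Scheme.fppfPrecoverage.coverings S)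
    (h : ∀ i, Adeq.adequateMod Scheme.fppfPrecoverage (T i) ((BigSite.pullMod Scheme.fppfPrecoverage (f i)).obj M)) :
    Adeq.adequateMod Scheme.fppfPrecoverage S M := by
  haveI : BigSite.OSh (Scheme.precoverage (@Flat ⊓ @LocallyOfFinitePresentation : MorphismProperty Scheme.{u})) :=
    inferInstanceAs (BigSite.OSh Scheme.fppfPrecoverage.{u})
  exact Groth.Agent.H02CA.Adq.adequateMod_of_cover (P := (@Flat ⊓ @LocallyOfFinitePresentation : MorphismProperty Scheme.{u})) f hcov h

end Groth.Agent.S8758
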