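import Groth.Statements.S8760
import Groth.Agent.H02CA.Adeq.Big.Sheafify

set_option autoImplicit false
universe u
open CategoryTheory Limits AlgebraicGeometry
open Adeq

namespace Groth.Agent.S8760

/-- Let `P` be a presheaf of `O`-modules on the big fppf site of `S`. If for every affine scheme `Spec
R` over `S` the module-valued functor `B ↦ P(Spec B)` on `R`-algebras is adequate, then the
sheafification of `P` is an adequate `O`-module. -/
theorem result (S : Scheme.{u})
    (P : PresheafOfModules.{u + 1} (BigSite.ORing Scheme.fppfPrecoverage S).obj)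
    (h : ∀ (R : CommRingCat.{u}) (a : Spec R ⟶ S), Adeq.adequate R ((Adeq.toMVFPre Scheme.fppfPrecoverage a).obj P)) :
    Adeq.adequateMod Scheme.fppfPrecoverage S
      ((PresheafOfModules.sheafification (𝟙 (BigSite.ORing Scheme.fppfPrecoverage S).obj)).obj P) := by
  haveI : BigSite.OSh (Scheme.precoverage (@Flat ⊓ @LocallyOfFinitePresentation : MorphismProperty Scheme.{u})) :=
    inferInstanceAs (BigSite.OSh Scheme.fppfPrecoverage.{u})
  exact Groth.Agent.H02CA.Adq.adequate_sheafification (P := (@Flat ⊓ @LocallyOfFinitePresentation : MorphismProperty Scheme.{u})) (fun f hf => hf.1) P h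

end Groth.Agent.S8760
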