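import Groth.Statements.S8766
import Groth.Agent.H02CA.Adeq.Push.Rpush

set_option autoImplicit false
universe u
open CategoryTheory Limits AlgebraicGeometry
open Adeq

namespace Groth.Agent.S8766

/-- For a quasi-compact and quasi-separated morphism `f : T → S` and an adequate `O`-module `M` on the
big fppf site of `T`, the higher direct images `Rⁱ f_* M` are adequate `O`-modules on the big fppf
site of `S`. -/
theorem result {S T : Scheme.{u}} (f : T ⟶ S) [QuasiCompact f] [QuasiSeparated f]
    [HasInjectiveResolutions (BigSite.Mod Scheme.fppfPrecoverage T)] (M : BigSite.Mod Scheme.fppfPrecoverage T)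
    (hM : Adeq.adequateMod Scheme.fppfPrecoverage T M) (i : ℕ) :
    Adeq.adequateMod Scheme.fppfPrecoverage S ((BigSite.RpushMod Scheme.fppfPrecoverage f i).obj M) := by
  haveI : BigSite.OSh (Scheme.precoverage (@Flat ⊓ @LocallyOfFinitePresentation : MorphismProperty Scheme.{u})) :=
    inferInstanceAs (BigSite.OSh Scheme.fppfPrecoverage.{u})
  haveI : HasInjectiveResolutions (BigSite.Mod (Scheme.precoverage (@Flat ⊓ @LocallyOfFinitePresentation : MorphismProperty Scheme.{u})) T) :=
    inferInstanceAs (HasInjectiveResolutions (BigSite.Mod Scheme.fppfPrecoverage.{u} T))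
  exact Groth.Agent.H02CA.Adq.adequateMod_RpushMod (P := (@Flat ⊓ @LocallyOfFinitePresentation : MorphismProperty Scheme.{u})) f (fun g hg => hg.1) hM i

end Groth.Agent.S8766
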