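import Groth.Statements.S8767
import Groth.Agent.H02CA.Adeq.Big.Parasitic

set_option autoImplicit false
universe u
open CategoryTheory Limits AlgebraicGeometry
open Adeq

namespace Groth.Agent.S8767

/-- For an adequate `O`-module `M` on the big fppf site of `S` the following are equivalent: `M` is
parasitic; `M` is parasitic for the fppf topology; `M(U) = 0` for every open `U ⊂ S`; `M(U_i) = 0`
for the members of some affine open covering `S = ⋃ U_i`. (The published statement has a fifth
equivalent condition, the vanishing of the quasi-coherent module obtained by restriction to the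
small Zariski site; it is not included here.) -/
theorem result (S : Scheme.{u}) (M : BigSite.Mod Scheme.fppfPrecoverage S)
    (hM : Adeq.adequateMod Scheme.fppfPrecoverage S M) :
    List.TFAE [Adeq.parasitic Scheme.fppfPrecoverage S M, Adeq.parasiticFor Scheme.fppfPrecoverage S M,
      ∀ U : S.Opens, Subsingleton (BigSite.sectMod Scheme.fppfPrecoverage M ((BigSite.zarIncl S).obj U)),
      ∃ (ι : Type u) (U : ι → S.Opens), (∀ i, IsAffineOpen (U i)) ∧ (⨆ i, U i) = ⊤ ∧
        ∀ i, Subsingleton (BigSite.sectMod Scheme.fppfPrecoverage M ((BigSite.zarIncl S).obj (U i)))] := by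
  haveI : BigSite.OSh (Scheme.precoverage (@Flat ⊓ @LocallyOfFinitePresentation : MorphismProperty Scheme.{u})) :=
    inferInstanceAs (BigSite.OSh Scheme.fppfPrecoverage.{u})
  exact Groth.Agent.H02CA.Adq.parasitic_tfae (P := (@Flat ⊓ @LocallyOfFinitePresentation : MorphismProperty Scheme.{u})) (fun f hf => hf.1) hM

end Groth.Agent.S8767
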