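import Groth.Statements.S8775
import Groth.Agent.H16Derived.PureExt.Res

set_option autoImplicit false
universe u
open CategoryTheory
open PureExt

namespace Groth.Agent.S8775

open Groth.Agent.H16Derived

/-- Let `M → N` be a map of `R`-modules, `P → M` an augmented complex of pure projective modules and `N'
→ N` a universally exact resolution (the augmentation is a quasi-isomorphism after tensoring with
any module). Then there is a map of complexes `P → N'` inducing the given map `M → N` on the
augmentations. -/
theorem result (R : Type u) [CommRing R] {M N : ModuleCat.{u} R}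
    (f : M ⟶ N) (P N' : ChainComplex (ModuleCat.{u} R) ℕ)
    (π : P ⟶ (ChainComplex.single₀ (ModuleCat.{u} R)).obj M)
    (ε : N' ⟶ (ChainComplex.single₀ (ModuleCat.{u} R)).obj N)
    (hP : ∀ n : ℕ, (∀ ⦃L T : Type u⦄ [AddCommGroup L] [Module R L] [AddCommGroup T] [Module R T] (g : L →ₗ[R] T),
          Function.Surjective g → CAlgX.UniversallyInjective R (LinearMap.ker g).subtype →
          ∀ φ : P.X n →ₗ[R] T, ∃ ψ : P.X n →ₗ[R] L, g ∘ₗ ψ = φ))
    (hN' : ∀ T : ModuleCat.{u} R,
      QuasiIso (((MonoidalCategory.tensorRight T).mapHomologicalComplex (ComplexShape.down ℕ)).map ε)) :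
    ∃ φ : P ⟶ N', φ ≫ ε = π ≫ (ChainComplex.single₀ (ModuleCat.{u} R)).map f := by
  exact PureExt.exists_chainMap f P N' π ε hP ((PureExt.quasiIso_tensor_chain_iff N' ε).mp hN')

end Groth.Agent.S8775
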