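import Groth.Statements.S8776
import Groth.Agent.H16Derived.PureExt.Res

set_option autoImplicit false
universe u
open CategoryTheory
open PureExt

namespace Groth.Agent.S8776

open Groth.Agent.H16Derived

/-- With `M → N`, an augmented complex `P → M` of pure projective modules and a universally exact
resolution `N' → N` (augmentation a quasi-isomorphism after any tensor product), two maps of
complexes `P → N'` inducing the same map `M → N` are homotopic. -/
theorem result (R : Type u) [CommRing R] {M N : ModuleCat.{u} R}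
    (f : M ⟶ N) (P N' : ChainComplex (ModuleCat.{u} R) ℕ)
    (π : P ⟶ (ChainComplex.single₀ (ModuleCat.{u} R)).obj M)
    (ε : N' ⟶ (ChainComplex.single₀ (ModuleCat.{u} R)).obj N)
    (hP : ∀ n : ℕ, (∀ ⦃L T : Type u⦄ [AddCommGroup L] [Module R L] [AddCommGroup T] [Module R T] (g : L →ₗ[R] T),
          Function.Surjective g → CAlgX.UniversallyInjective R (LinearMap.ker g).subtype →
          ∀ φ : P.X n →ₗ[R] T, ∃ ψ : P.X n →ₗ[R] L, g ∘ₗ ψ = φ))
    (hN' : ∀ T : ModuleCat.{u} R,
      QuasiIso (((MonoidalCategory.tensorRight T).mapHomologicalComplex (ComplexShape.down ℕ)).map ε))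
    (α β : P ⟶ N') (hα : α ≫ ε = π ≫ (ChainComplex.single₀ (ModuleCat.{u} R)).map f)
    (hβ : β ≫ ε = π ≫ (ChainComplex.single₀ (ModuleCat.{u} R)).map f) : Nonempty (Homotopy α β) := by
  exact PureExt.exists_homotopy f P N' π ε hP ((PureExt.quasiIso_tensor_chain_iff N' ε).mp hN') α β hα hβ

end Groth.Agent.S8776
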