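import Groth.Statements.S8783
import Groth.Agent.H16Derived.AdeqTF.Chase

set_option autoImplicit false
universe u
open CategoryTheory Limits
open AdeqTF

namespace Groth.Agent.S8783

/-- Let `F` be a module-valued functor on `A`-algebras with right exact tangent functors (for every
`A`-algebra `B` and short exact `0 → N₁ → N → N₂ → 0` of `B`-modules, `TF(B, N₁) → TF(B, N) → TF(B,
N₂) → 0` is exact). Then `TF(B, N₁ ⊕ N₂) = TF(B, N₁) ⊕ TF(B, N₂)`: the map from the product induced
by the two inclusions is bijective. -/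
theorem result (A : Type u) [CommRing A] (F : Adeq.MVF A)
    (hF : (∀ (B : Adeq.Alg A) (S : ShortComplex (ModuleCat.{u} B)), S.ShortExact →
        Function.Surjective (AdeqTF.tangentMap B F S.g) ∧
          (AdeqTF.tangentMap B F S.g).ker = (AdeqTF.tangentMap B F S.f).range))
    (B : Adeq.Alg A) (N₁ N₂ : ModuleCat.{u} B) :
    Function.Bijective ((AdeqTF.tangentMap B F (biprod.inl : N₁ ⟶ N₁ ⊞ N₂)).coprod
      (AdeqTF.tangentMap B F (biprod.inr : N₂ ⟶ N₁ ⊞ N₂))) := by
  exact Groth.Agent.H16Derived.AdeqTFLib.bijective_coprod B F hF N₁ N₂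

end Groth.Agent.S8783
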