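import Groth.Statements.S8788
import Groth.Agent.H02CA.Adeq.Big.Cech

set_option autoImplicit false
universe u
open CategoryTheory Limits AlgebraicGeometry
open Adeq

namespace Groth.Agent.S8788

/-- For an adequate `O`-module `M` on the big fppf site of `S`, an affine object `Spec R → S` and a
faithfully flat `R`-algebra `B`, the Cech complex of `M` for the single covering map `Spec B → Spec
R`, whose degree-`n` term is `M` of the `(n+1)`-fold fibre product of `Spec B` over `Spec R` (the
spectrum of the `(n+1)`-fold tensor power of `B` over `R`) and whose differential is the alternating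
sum of the coface maps, is exact in every degree `n ≥ 1`. (Exactness of the extended complex at its
first two terms, namely that `M(Spec R)` maps isomorphically onto the kernel of the first
differential, is a separate statement and not part of this row; in degree `0` the complex without
its first term `M(Spec R)` need not be exact.) -/
theorem result (S : Scheme.{u}) (M : BigSite.Mod Scheme.fppfPrecoverage S)
    (hM : Adeq.adequateMod Scheme.fppfPrecoverage S M) (R : CommRingCat.{u}) (a : Spec R ⟶ S)
    (B : Type u) [CommRing B] [Algebra R B] [Module.FaithfullyFlat R B] (n : ℕ) (hn : 0 < n) :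
    ((cechComplexFunctor (A := AddCommGrpCat.{u + 1})
        (fun _ : PUnit.{u + 2} => (Over.mk (Spec.map (CommRingCat.ofHom (algebraMap R B))) : Over (Spec R)))).obj
      ((Over.map a).op ⋙ ((BigSite.toAbMod Scheme.fppfPrecoverage S).obj M).obj)).ExactAt n := by
  haveI : BigSite.OSh (Scheme.precoverage (@Flat ⊓ @LocallyOfFinitePresentation : MorphismProperty Scheme.{u})) :=
    inferInstanceAs (BigSite.OSh Scheme.fppfPrecoverage.{u})
  exact Groth.Agent.H02CA.Adq.cech_exactAt R B (P := (@Flat ⊓ @LocallyOfFinitePresentation : MorphismProperty Scheme.{u})) M hM a n hn

end Groth.Agent.S8788
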