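import Groth.Statements.S8791
import Groth.Agent.H3CAlg.BootstrapJ0

set_option autoImplicit false
universe u
open CategoryTheory
attribute [local instance] HasDerivedCategory.standard
open LocCoh

namespace Groth.Agent.S8791

/-- Let A be a Noetherian ring with a dualizing complex, I and J ideals, M a finite A-module, s and d
naturals, and T the set of primes p with V(p) ∩ V(I) ⊆ V(J). Assume: (2') every prime p ∈ V(I) with
p ∉ V(J) has depth(M_p) + dim((A/p)_q) > s for all q ∈ V(p) ∩ V(J) ∩ V(I); (3) every prime p ∉ V(I)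
lying in T admits some q ∈ V(p) ∩ V(J) ∩ V(I) with dim((A/p)_q) ≤ d; (4) every prime p ∉ V(I) not in
T has depth(M_p) ≥ s or depth(M_p) + dim((A/p)_q) > d + s for all q ∈ V(p) ∩ V(J) ∩ V(I). Then there
is an ideal J₀ ⊆ J with V(J₀) ∩ V(I) = V(J) ∩ V(I) such that for every J' ⊆ J₀ with V(J') ∩ V(I) =
V(J) ∩ V(I) and every i ≤ s the comparison map H^i_{J₀}(M) → H^i_{J'}(M) is bijective, H^i_{J₀}(M)
is annihilated by a power of J₀I for i ≤ s, and in addition H^i_{J₀}(M) is a finite A-module for i ≤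
s. -/
theorem result (A : Type u) [CommRing A] [IsNoetherianRing A] (hdc : ∃ ω : Dual.D A, Dual.IsDualizing A ω) (I J : Ideal A) (M : Type u) [AddCommGroup M] [Module A M] [Module.Finite A M] (s d : ℕ) (T : Set (PrimeSpectrum A)) (hT : ∀ p : PrimeSpectrum A, p ∈ T ↔ ∀ q : PrimeSpectrum A, p ≤ q → I ≤ q.asIdeal → J ≤ q.asIdeal) (h2 : ∀ p : PrimeSpectrum A, I ≤ p.asIdeal → ¬ J ≤ p.asIdeal → ∀ q : PrimeSpectrum A, p ≤ q → J ≤ q.asIdeal → I ≤ q.asIdeal → ((s : ℕ∞) : WithBot ℕ∞) < ((LocCoh.depth (Localization.AtPrime p.asIdeal) (LocalizedModule p.asIdeal.primeCompl M) : ℕ∞) : WithBot ℕ∞) + Formal2.dimBetween A p.asIdeal q.asIdeal) (h3 : ∀ p : PrimeSpectrum A, ¬ I ≤ p.asIdeal → p ∈ T → ∃ q : PrimeSpectrum A, p ≤ q ∧ J ≤ q.asIdeal ∧ I ≤ q.asIdeal ∧ Formal2.dimBetween A p.asIdeal q.asIdeal ≤ ((d : ℕ∞) : WithBot ℕ∞)) (h4 : ∀ p : PrimeSpectrum A, ¬ I ≤ p.asIdeal → p ∉ T → ∀ q : PrimeSpectrum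 A, p ≤ q → J ≤ q.asIdeal → I ≤ q.asIdeal → (s : ℕ∞) ≤ LocCoh.depth (Localization.AtPrime p.asIdeal) (LocalizedModule p.asIdeal.primeCompl M) ∨ (((d + s : ℕ) : ℕ∞) : WithBot ℕ∞) < ((LocCoh.depth (Localization.AtPrime p.asIdeal) (LocalizedModule p.asIdeal.primeCompl M) : ℕ∞) : WithBot ℕ∞) + Formal2.dimBetween A p.asIdeal q.asIdeal) : ∃ J₀ : Ideal A, (J₀ ≤ J ∧ PrimeSpectrum.zeroLocus ((J₀ : Ideal A) : Set A) ∩ PrimeSpectrum.zeroLocus ((I : Ideal A) : Set A) = PrimeSpectrum.zeroLocus ((J : Ideal A) : Set A) ∩ PrimeSpectrum.zeroLocus ((I : Ideal A) : Set A) ∧ (∀ (J' : Ideal A) (hJ' : J' ≤ J₀), PrimeSpectrum.zeroLocus ((J' : Ideal A) : Set A) ∩ PrimeSpectrum.zeroLocus ((I : Ideal A) : Set A) = PrimeSpectrum.zeroLocus ((J : Ideal A) : Set A) ∩ PrimeSpectrum.zeroLocus ((I : Ideal A) : Set A) → ∀ i : ℕ, i ≤ s → Function.Bijective ((Dual2.HmapOfLE hJ' i).app (ModuleCat.of A M)).hom) ∧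 (∃ n : ℕ, ∀ a ∈ (J₀ * I) ^ n, ∀ i : ℕ, i ≤ s → ∀ x : LocCoh.H J₀ i M, a • x = 0)) ∧ ∀ i : ℕ, i ≤ s → Module.Finite A (LocCoh.H J₀ i M) := by
  obtain ⟨ω, hω⟩ := hdc
  obtain ⟨J₀, hb, hJT, hineq, -⟩ := H3CAlg.Bootstrap.exists_J₀_main hω (M := M) hT h3 h4
  refine ⟨J₀, hb, fun i hi => ?_⟩
  have hV := hb.2.1
  obtain ⟨K, hK, hk⟩ := H3CAlg.Bootstrap.exists_kill_H hω (M := M) J₀ (H4LC.zeroLocus_stable J₀) s
    fun p q hp hq hpq => by
      by_cases hpI : I ≤ p.asIdeal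
      · have hqI : I ≤ q.asIdeal := hpI.trans hpq
        have hpJ : ¬ J ≤ p.asIdeal := fun h => hp (hb.1.trans h)
        have hqJ : J ≤ q.asIdeal := (hT q).1 (hJT q hq) q le_rfl hqI
        have h := h2 p hpI hpJ q hpq hqJ hqI
        rwa [H24Formal2.dimBetween_eq hpq, H4DR.HT.krullDim_Icc hω hpq, ← WithBot.coe_add,
          WithBot.coe_lt_coe] at h
      · exact hineq p q hpI hp hq hpq
  haveI := (H4DR.HT.finite_iff_kill_module (PrimeSpectrum.zeroLocus (J₀ : Set A)) M s).2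
    ⟨K, hK, fun j hj a ha y => (H4DR.HT.lcEquivT J₀ M j).symm.injective
      (by rw [map_smul, map_zero]; exact hk j hj a ha _)⟩ i hi
  exact Module.Finite.equiv (H4DR.HT.lcEquivT J₀ M i).symm

end Groth.Agent.S8791
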