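import Groth.Statements.S8794
import Groth.Agent.H3CAlg.KillCompletion

set_option autoImplicit false
universe u
open CategoryTheory
attribute [local instance] HasDerivedCategory.standard
open LocCoh

namespace Groth.Agent.S8794

/-- Let (A, m) be a Noetherian local ring with a dualizing complex, I an ideal and d a natural with
cd(A, I) ≤ d, M a finite A-module, p a prime of A and s a natural with depth(M_p) + dim(A/p) > d +
s. Assume the total right derived functor RΓ_m and derived I-adic completion exist on D(A). Then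
there is f ∈ A with f ∉ p annihilating the cohomology modules H^i of the derived I-adic completion
of RΓ_m(M) for all i ≤ s. -/
theorem result (A : Type u) [CommRing A] [IsNoetherianRing A] [IsLocalRing A] (hdc : ∃ ω : Dual.D A, Dual.IsDualizing A ω) (I : Ideal A) [DRing.HasRgammaI (IsLocalRing.maximalIdeal A)] [DRing.HasDerivedCompletion I] (M : Type u) [AddCommGroup M] [Module A M] [Module.Finite A M] (p : PrimeSpectrum A) (s d : ℕ) (h2 : LocCoh.CdLE A I d) (h3 : (((d + s : ℕ) : ℕ∞) : WithBot ℕ∞) < ((LocCoh.depth (Localization.AtPrime p.asIdeal) (LocalizedModule p.asIdeal.primeCompl M) : ℕ∞) : WithBot ℕ∞) + ringKrullDim (A ⧸ p.asIdeal)) : ∃ f : A, f ∉ p.asIdeal ∧ ∀ i : ℤ, i ≤ s → ∀ x : Dual.HD A ((DRing.derivedCompletion I).obj ((DRing.RgammaI (IsLocalRing.maximalIdeal A)).obj (Dual.inD A M))).obj i, f • x = 0 := by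
  obtain ⟨ω, hω⟩ := hdc
  refine H3CAlg.exists_kill_completion hω I (IsLocalRing.maximalIdeal A) M p s d h2 fun p' hp' q hq hJ hI => ?_
  obtain rfl : q = IsLocalRing.closedPoint A :=
    PrimeSpectrum.ext (((IsLocalRing.maximalIdeal.isMaximal A).eq_of_le q.2.ne_top hJ).symm)
  have hpm : p ≤ IsLocalRing.closedPoint A := IsLocalRing.le_maximalIdeal p.2.ne_top
  have hloc := H4LC.depth_localization_le_add_height M hp'
  rw [H4LC.ringKrullDim_quotient_eq_height p (IsLocalRing.closedPoint A) hpm rfl, H4DR.HT.height_Ici hω hpm,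
    ← WithBot.coe_add, WithBot.coe_lt_coe] at h3
  rw [H4DR.HT.height_Ici hω hp'] at hloc
  obtain ⟨a, -, ha, -⟩ := H4DR.Dualizing.exists_dim hω hp'
  obtain ⟨b, -, hb, -⟩ := H4DR.Dualizing.exists_dim hω hpm
  revert hloc h3
  generalize LocCoh.depth (Localization.AtPrime p.asIdeal) (LocalizedModule p.asIdeal.primeCompl M) = D
  simp only [H3CAlg.Bootstrap.dep]
  generalize LocCoh.depth (Localization.AtPrime p'.asIdeal) (LocalizedModule p'.asIdeal.primeCompl M) = D'
  induction D' using ENat.recTopCoe with
  | top => simp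
  | coe k' =>
    induction D using ENat.recTopCoe with
    | top => intro _ h; exact absurd h (by rw [top_le_iff, ← Nat.cast_add]; exact ENat.coe_ne_top _)
    | coe k => intro h3 hloc; norm_cast at h3 hloc ⊢; omega

end Groth.Agent.S8794
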