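import Groth.Statements.S8795
import Groth.Agent.H3CAlg.AlgebraizeLC

set_option autoImplicit false
universe u
open CategoryTheory
attribute [local instance] HasDerivedCategory.standard
open LocCoh

namespace Groth.Agent.S8795

/-- Let (A, m) be a Noetherian local ring which is I-adically complete for an ideal I and has a
dualizing complex; let d be a natural with cd(A, I) ≤ d, M a finite A-module and s a natural. Assume
that every prime p ∉ V(I) with V(p) ∩ V(I) ≠ {m} satisfies depth(M_p) ≥ s or depth(M_p) + dim(A/p) >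
d + s, and that derived I-adic completion (left adjoint to the inclusion of derived complete
objects) exists on D(A). Then there is an ideal J₀ with V(J₀) ∩ V(I) = {m} such that for every ideal
J ⊆ J₀ with V(J) ∩ V(I) = {m} whose total right derived functor RΓ_J exists, the canonical map from
RΓ_J(M) to its derived I-adic completion induces a bijection on cohomology in every degree i ≤ s.
(The identification of that completion with the completion of RΓ_m(M) is not part of this
statement.) -/
theorem result (A : Type u) [CommRing A] [IsNoetherianRing A] [IsLocalRing A] (I : Ideal A) [IsAdicComplete I A] (hdc : ∃ ω : Dual.D A, Dual.IsDualizing A ω) [DRing.HasDerivedCompletion I] (d : ℕ) (hcd : LocCoh.CdLE A I d) (M : Type u) [AddCommGroup M] [Module A M] [Module.Finite A M] (s : ℕ) (h4 : ∀ p : PrimeSpectrum A, ¬ I ≤ p.asIdeal → (∃ r : PrimeSpectrum A, p ≤ r ∧ I ≤ r.asIdeal ∧ r.asIdeal ≠ IsLocalRing.maximalIdeal A) → (s : ℕ∞) ≤ LocCoh.depth (Localization.AtPrime p.asIdeal) (LocalizedModule p.asIdeal.primeCompl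 M) ∨ (((d + s : ℕ) : ℕ∞) : WithBot ℕ∞) < ((LocCoh.depth (Localization.AtPrime p.asIdeal) (LocalizedModule p.asIdeal.primeCompl M) : ℕ∞) : WithBot ℕ∞) + ringKrullDim (A ⧸ p.asIdeal)) : ∃ J₀ : Ideal A, PrimeSpectrum.zeroLocus ((J₀ : Ideal A) : Set A) ∩ PrimeSpectrum.zeroLocus ((I : Ideal A) : Set A) = {IsLocalRing.closedPoint A} ∧ ∀ (J : Ideal A) [DRing.HasRgammaI J], J ≤ J₀ → PrimeSpectrum.zeroLocus ((J : Ideal A) : Set A) ∩ PrimeSpectrum.zeroLocus ((I : Ideal A) : Set A) = {IsLocalRing.closedPoint A} → ∀ i : ℤ, i ≤ s → Function.Bijective ((DerivedCategory.homologyFunctor (ModuleCat.{u} A) i).map (DRing.toDerivedCompletion I ((DRing.RgammaI J).obj (Dual.inD A M)))).hom := by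
  obtain ⟨ω₀, hω₀⟩ := hdc
  obtain ⟨ω, hω, hn⟩ := Groth.Agent.H4DR.LD.exists_normalized' hω₀
  obtain ⟨J₀, hV, hmain⟩ := Groth.Agent.H3CAlg.exists_algebraize hω hn I d hcd M s fun p hpI hNT k δ hk hδ => by
    have h := h4 p hpI hNT
    rw [hk, hδ] at h
    rcases h with h | h
    · exact Or.inl (by exact_mod_cast h)
    · exact Or.inr (by exact_mod_cast h)
  have hI : I ≤ IsLocalRing.maximalIdeal A := IsLocalRing.le_maximalIdeal fun h => by
    have := IsAdicComplete.le_jacobson_bot I
    rw [h, IsLocalRing.jacobson_eq_maximalIdeal ⊥ bot_ne_top, top_le_iff] at this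
    exact (IsLocalRing.maximalIdeal.isMaximal A).ne_top this
  refine ⟨J₀, Set.ext fun q => ?_, fun J _ hJ hJV i hi => hmain J hJ ?_ i hi⟩
  · constructor
    · exact fun h => PrimeSpectrum.ext ((hV q).1 h).1
    · rintro rfl
      exact (hV _).2 ⟨rfl, hI⟩
  · have hrad : PrimeSpectrum.zeroLocus ((J ⊔ I : Ideal A) : Set A) = {IsLocalRing.closedPoint A} := by
      rw [PrimeSpectrum.zeroLocus_sup]; exact hJV
    rw [← PrimeSpectrum.vanishingIdeal_zeroLocus_eq_radical, hrad, PrimeSpectrum.vanishingIdeal_singleton]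
    rfl

end Groth.Agent.S8795
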