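import Groth.Statements.S8796
import Groth.Agent.H26Boot.Basic

set_option autoImplicit false
universe u
open CategoryTheory
open Dual2

namespace Groth.Agent.S8796

/-- Let A be a Noetherian ring with a dualizing complex, I an ideal with cd(A, I) ≤ d, M a finite
A-module, T ⊆ V(I) a subset stable under specialization and s a natural, satisfying: (4) for primes
p ⊆ r ⊆ q with p ∉ V(I), r ∈ V(I) ∖ T and q ∈ T, either depth(M_p) ≥ s or depth(M_p) + dim((A/p)_q)
> d + s; (6) for q ∈ T, writing A', I', M' for the I-adic completions of A_q, IA_q, M_q, one has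
depth(M'_{p'}) > s for every prime p' of A' not containing I' such that the only primes containing
both p' and I' are maximal. Let p ⊆ q be primes with p ∉ V(I) and q ∈ T such that no prime r with p
⊆ r ⊆ q lies in V(I) ∖ T. Then depth(M_p) > s. -/
theorem result (A : Type u) [CommRing A] [IsNoetherianRing A] (hdc : ∃ ω : Dual.D A, Dual.IsDualizing A ω) (I : Ideal A) (d : ℕ) (hcd : LocCoh.CdLE A I d) (M : Type u) [AddCommGroup M] [Module A M] [Module.Finite A M] (T : Set (PrimeSpectrum A)) (hTI : T ⊆ PrimeSpectrum.zeroLocus (I : Set A)) (hT : StableUnderSpecialization T) (s : ℕ) (h4 : ∀ p r q : PrimeSpectrum A, p ≤ r → r ≤ q → ¬ I ≤ p.asIdeal → I ≤ r.asIdeal → r ∉ T → q ∈ T → (s : ℕ∞) ≤ LocCoh.depth (Localization.AtPrime p.asIdeal) (LocalizedModule p.asIdeal.primeCompl M) ∨ ((d + s : ℕ) : WithBot ℕ∞) < (LocCoh.depth (Localization.AtPrime p.asIdeal) (LocalizedModule p.asIdeal.primeCompl M) : WithBot ℕ∞) + Formal2.dimBetween A p.asIdeal q.asIdeal) (h6 : ∀ q : PrimeSpectrum A, q ∈ T → ∀ p'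 : PrimeSpectrum (AdicCompletion (I.map (algebraMap A (Localization.AtPrime q.asIdeal))) (Localization.AtPrime q.asIdeal)), ¬ (I.map (algebraMap A (AdicCompletion (I.map (algebraMap A (Localization.AtPrime q.asIdeal))) (Localization.AtPrime q.asIdeal)))) ≤ p'.asIdeal → (∀ q' : PrimeSpectrum (AdicCompletion (I.map (algebraMap A (Localization.AtPrime q.asIdeal))) (Localization.AtPrime q.asIdeal)), p' ≤ q' → (I.map (algebraMap A (AdicCompletion (I.map (algebraMap A (Localization.AtPrime q.asIdeal))) (Localization.AtPrime q.asIdeal)))) ≤ q'.asIdeal → q'.asIdeal.IsMaximal) → (s : ℕ∞) < LocCoh.depth (Localization.AtPrime p'.asIdeal) (LocalizedModule p'.asIdeal.primeCompl (AdicCompletion (I.map (algebraMap A (Localization.AtPrime q.asIdeal))) (LocalizedModule q.asIdeal.primeCompl M)))) (p q : PrimeSpectrum A) (hpq : p ≤ q) (hp : ¬ I ≤ p.asIdeal) (hq : q ∈ T) (hr : ∀ r : PrimeSpectrum A, p ≤ r → r ≤ q → I ≤ r.asIdeal → r ∈ T) : (s : ℕ∞) < LocCoh.depth (Localization.AtPrime p.asIdeal) (LocalizedModule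 p.asIdeal.primeCompl M) := by
    exact Groth.Agent.H26Boot.depth_gt I M T hTI s h6 p q hpq hp hq hr

end Groth.Agent.S8796
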