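import Groth.Statements.S8801
import Groth.Agent.H24Adic.HensQuotCompletion

set_option autoImplicit false
universe u
open AdicRing

namespace Groth.Agent.S8801

/-- Let A be a Noetherian ring and I an ideal. Let C be an A-algebra of finite type and Cʰ a
henselization of the pair (C, IC), viewed as an A-algebra through C, and let J be an ideal of Cʰ.
Then there is an A-algebra B of finite type whose IB-adic completion is isomorphic as an A-algebra
to the I(Cʰ/J)-adic completion of Cʰ/J (existence of an isomorphism only; the published statement
names no particular map). -/
theorem result (A : Type u) [CommRing A] [IsNoetherianRing A] (I : Ideal A) (C : Type u) [CommRing C] [Algebra A C] [Algebra.FiniteType A C] (Ch : Type u) [CommRing Ch] [Algebra C Ch] [Algebra A Ch] [IsScalarTower A C Ch] (hCh : Hens2.IsPairHenselization C (I.map (algebraMap A C)) Ch) (J : Ideal Ch) : ∃ (B : Type u) (_ : CommRing B) (_ : Algebra A B), Algebra.FiniteType A B ∧ Nonempty (AdicCompletion (I.map (algebraMap A B)) B ≃ₐ[A] AdicCompletion (I.map (algebraMap A (Ch ⧸ J))) (Ch ⧸ J)) := by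
  exact Groth.Agent.H24Adic.exists_finiteType_completion_equiv A I C Ch hCh J

end Groth.Agent.S8801
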