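import Groth.Statements.S8803
import Groth.Agent.H4LC.Artinian
import Mathlib.Algebra.Category.ModuleCat.Subobject

set_option autoImplicit false
universe u
open CategoryTheory
open LocCoh
open CategoryTheory.Limits Opposite

namespace Groth.Agent.S8803

/-- Let (A, m) be a Noetherian local ring and (M_n) an inverse system of finite A-modules. Then for
every i the inverse system H^i_m(M_n) of local cohomology modules satisfies the Mittag-Leffler
condition. -/
theorem result (A : Type u) [CommRing A] [IsNoetherianRing A] [IsLocalRing A] (Msys : ℕᵒᵖ ⥤ ModuleCat.{u} A) (hfin : ∀ n : ℕᵒᵖ, Module.Finite A (Msys.obj n)) (i : ℕ) : ARSys.IsML (Msys ⋙ localCohomology (IsLocalRing.maximalIdeal A) i) := by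
  intro n
  set X := Msys ⋙ localCohomology (IsLocalRing.maximalIdeal A) i
  haveI := hfin (op n)
  haveI : IsArtinian A (X.obj (op n)) := Groth.Agent.H4LC.isArtinian_H i (Msys.obj (op n))
  let e := ModuleCat.subobjectModule (X.obj (op n))
  let f : ℕ →o (Submodule A (X.obj (op n)))ᵒᵈ :=
    ⟨fun s => OrderDual.toDual (e (imageSubobject (ARSys.shiftMap X s n))), fun s t hst => e.monotone (by
      have h : X.map (homOfLE (Nat.add_le_add_left hst n)).op ≫ ARSys.shiftMap X s n = ARSys.shiftMap X t n := by
        exact (X.map_comp _ _).symm.trans (congrArg X.map (Subsingleton.elim _ _))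
      rw [← h]
      exact imageSubobject_comp_le _ _)⟩
  obtain ⟨r, hr⟩ := IsArtinian.monotone_stabilizes f
  exact ⟨r, fun s hs => e.injective (hr s hs).symm⟩

end Groth.Agent.S8803
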