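import Groth.Statements.S8804
import Groth.Agent.H24Adic.Rig
import Mathlib.RingTheory.KrullDimension.Field
import Mathlib.Tactic.TFAE

set_option autoImplicit false
set_option linter.style.haveILetI false
universe u
open AdicRing

namespace Groth.Agent.S8804

/-- Let A be a Noetherian ring which is complete for the adic topology of an ideal I, and let q be a
prime ideal of A. The following are equivalent: (1) I ⊄ q and q is maximal among the primes not
containing I; (5) dim(A/q) = 1 and I ⊄ q; (8) A/q is a one-dimensional complete local ring whose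
maximal ideal is the radical of the image of I (stated as: the Krull dimension of A/q is 1, every
maximal ideal of A/q equals the radical of I(A/q), and A/q is adically complete for that radical).
(The other equivalent forms, for other ideals of definition or for the induced topology, are not
stated.) -/
theorem result (A : Type u) [CommRing A] [IsNoetherianRing A] (I : Ideal A) [IsAdicComplete I A] (q : PrimeSpectrum A) : List.TFAE [¬ I ≤ q.asIdeal ∧ ∀ q' : PrimeSpectrum A, q ≤ q' → ¬ I ≤ q'.asIdeal → q' = q, ringKrullDim (A ⧸ q.asIdeal) = 1 ∧ ¬ I ≤ q.asIdeal, ringKrullDim (A ⧸ q.asIdeal) = 1 ∧ (∀ m : Ideal (A ⧸ q.asIdeal), m.IsMaximal → m = (I.map (Ideal.Quotient.mk q.asIdeal)).radical) ∧ IsAdicComplete (I.map (Ideal.Quotient.mk q.asIdeal)).radical (A ⧸ q.asIdeal)] := by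
  classical
  haveI := Groth.Agent.H24Adic.isAdicComplete_map_quotient (I := I) q.asIdeal
  tfae_have 1 → 2 := fun h => ⟨Groth.Agent.H24Adic.rigClosed_quotient q h.1 h.2, h.1⟩
  tfae_have 2 → 1 := by
    rintro ⟨hdim, hI⟩
    refine ⟨hI, fun q' hle hI' => ?_⟩
    by_contra hne
    haveI : Ring.KrullDimLE 1 (A ⧸ q.asIdeal) := Ring.krullDimLE_iff.mpr hdim.le
    have hker : RingHom.ker (Ideal.Quotient.mk q.asIdeal) ≤ q'.asIdeal := by rw [Ideal.mk_ker]; exact hle
    haveI hprime := Ideal.map_isPrime_of_surjective Ideal.Quotient.mk_surjective hker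
    have hne' : q'.asIdeal.map (Ideal.Quotient.mk q.asIdeal) ≠ ⊥ := fun h => hne <| PrimeSpectrum.ext <|
      le_antisymm (fun x hx => by
        rw [← Ideal.Quotient.eq_zero_iff_mem, ← Ideal.mem_bot, ← h]
        exact Ideal.mem_map_of_mem _ hx) hle
    have hmax := (Ring.krullDimLE_one_iff_of_noZeroDivisors.mp
      (inferInstance : Ring.KrullDimLE 1 (A ⧸ q.asIdeal))) _ hne' hprime
    refine hI' fun x hx => ?_
    have h1 : Ideal.Quotient.mk q.asIdeal x ∈ q'.asIdeal.map (Ideal.Quotient.mk q.asIdeal) :=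
      (IsAdicComplete.le_jacobson_bot _).trans (sInf_le ⟨bot_le, hmax⟩) (Ideal.mem_map_of_mem _ hx)
    have h2 := Ideal.mem_comap.mpr h1
    rwa [Ideal.comap_map_of_surjective _ Ideal.Quotient.mk_surjective, ← RingHom.ker_eq_comap_bot,
      sup_of_le_left hker] at h2
  tfae_have 2 → 3 := by
    rintro ⟨hdim, hI⟩
    haveI : Ring.KrullDimLE 1 (A ⧸ q.asIdeal) := Ring.krullDimLE_iff.mpr hdim.le
    have hK : I.map (Ideal.Quotient.mk q.asIdeal) ≠ ⊥ := fun h => hI (by
      rw [Ideal.map_eq_bot_iff_le_ker, Ideal.mk_ker] at h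
      exact h)
    exact ⟨hdim, fun m hm => Groth.Agent.H24Adic.eq_radical_of_isMaximal _ hK m,
      Groth.Agent.H24Adic.isAdicComplete_radical _⟩
  tfae_have 3 → 2 := by
    rintro ⟨hdim, hmax, -⟩
    refine ⟨hdim, fun hI => ?_⟩
    obtain ⟨m, hm⟩ := Ideal.exists_maximal (A ⧸ q.asIdeal)
    have hbot : I.map (Ideal.Quotient.mk q.asIdeal) = ⊥ := by
      rw [Ideal.map_eq_bot_iff_le_ker, Ideal.mk_ker]
      exact hI
    have h := hmax m hm
    rw [hbot, show (⊥ : Ideal (A ⧸ q.asIdeal)).radical = ⊥ from Ideal.isPrime_bot.isRadical.radical] at h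
    subst h
    rw [ringKrullDim_eq_zero_of_isField (Ring.isField_iff_maximal_bot.mpr hm)] at hdim
    exact zero_ne_one hdim
  tfae_finish

end Groth.Agent.S8804
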