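import Groth.Statements.S8808
-- import your own Groth.Agent.* helpers here
import Groth.Agent.H3CAlg.GlobAlg.Key

set_option autoImplicit false
universe u
open CategoryTheory
attribute [local instance] HasDerivedCategory.standard
open LocCoh

namespace Groth.Agent.S8808

/-- Let A be a Noetherian ring which is I-adically complete for an ideal I and has a dualizing complex;
let J be an ideal, M a finite A-module, s a natural, d a natural with cd(A, I) ≤ d, T the set of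
primes p with V(p) ∩ V(I) ⊆ V(J), and δ a dimension function on Spec A (δ(p) = δ(q) + 1 when q is an
immediate specialization of p). Assume: (4) every prime p ∉ V(I) not in T has depth(M_p) ≥ s or
depth(M_p) + dim((A/p)_q) > d + s for all q ∈ V(p) ∩ V(J) ∩ V(I); (5) every prime p ∉ V(I) not in T
with V(p) ∩ V(J) ∩ V(I) nonempty and depth(M_p) < s satisfies one of: (a) the support of M_p has
dimension < s + 2; (b) δ(p) > d + δ(q') − 1 for every q' ∈ V(J) ∩ V(I); (c) depth(M_p) +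
dim((A/p)_q) > d + s + (δ(q₁) − δ(q₂)) − 2 for all q ∈ V(p) ∩ V(J) ∩ V(I) and all q₁, q₂ ∈ V(J) ∩
V(I). Assume derived I-adic completion (left adjoint to the inclusion of derived complete objects)
exists on D(A). Then there is an ideal J₀ ⊆ J with V(J₀) ∩ V(I) = V(J) ∩ V(I) such that for every J'
⊆ J₀ with V(J') ∩ V(I) = V(J) ∩ V(I) whose total right derived functor RΓ_{J'} exists, the canonical
map from RΓ_{J'}(M) to its derived I-adic completion induces a bijection on cohomology in every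
degree i ≤ s. (The derived completions of RΓ_{J'}(M) and RΓ_J(M) agree canonically; that
identification is not part of this statement. The maximum and minimum of δ on V(J) ∩ V(I) in (b),
(c) are unfolded into quantifiers.) -/
theorem result (A : Type u) [CommRing A] [IsNoetherianRing A] (I : Ideal A) [IsAdicComplete I A] (hdc : ∃ ω : Dual.D A, Dual.IsDualizing A ω) [DRing.HasDerivedCompletion I] (J : Ideal A) (M : Type u) [AddCommGroup M] [Module A M] [Module.Finite A M] (s d : ℕ) (h3 : LocCoh.CdLE A I d) (T : Set (PrimeSpectrum A)) (hT : ∀ p : PrimeSpectrum A, p ∈ T ↔ ∀ q : PrimeSpectrum A, p ≤ q → I ≤ q.asIdeal → J ≤ q.asIdeal) (h4 : ∀ p : PrimeSpectrum A, ¬ I ≤ p.asIdeal → p ∉ T → ∀ q : PrimeSpectrum A, p ≤ q → J ≤ q.asIdeal → I ≤ q.asIdeal → (s : ℕ∞) ≤ LocCoh.depth (Localization.AtPrime p.asIdeal) (LocalizedModule p.asIdeal.primeCompl M) ∨ (((d + s : ℕ) : ℕ∞) : WithBot ℕ∞) < ((LocCoh.depth (Localization.AtPrime p.asIdeal) (LocalizedModule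 p.asIdeal.primeCompl M) : ℕ∞) : WithBot ℕ∞) + Formal2.dimBetween A p.asIdeal q.asIdeal) (δ : PrimeSpectrum A → ℤ) (hδ : ∀ p q : PrimeSpectrum A, p ⋖ q → δ p = δ q + 1) (h5 : ∀ p : PrimeSpectrum A, ¬ I ≤ p.asIdeal → p ∉ T → (∃ q : PrimeSpectrum A, p ≤ q ∧ J ≤ q.asIdeal ∧ I ≤ q.asIdeal) → LocCoh.depth (Localization.AtPrime p.asIdeal) (LocalizedModule p.asIdeal.primeCompl M) < (s : ℕ∞) → Module.supportDim (Localization.AtPrime p.asIdeal) (LocalizedModule p.asIdeal.primeCompl M) < ((s + 2 : ℕ) : WithBot ℕ∞) ∨ (∀ q' : PrimeSpectrum A, J ≤ q'.asIdeal → I ≤ q'.asIdeal → (d : ℤ) + δ q' - 1 < δ p) ∨ (∀ q : PrimeSpectrum A, p ≤ q → J ≤ q.asIdeal → I ≤ q.asIdeal → ∀ q₁ q₂ : PrimeSpectrum A, J ≤ q₁.asIdeal → I ≤ q₁.asIdeal → J ≤ q₂.asIdeal → I ≤ q₂.asIdeal → ∀ k : ℕ, (k : ℤ) = (d : ℤ) + s + (δ q₁ - δ q₂) - 2 → ((k : ℕ∞) : WithBot ℕ∞) < ((LocCoh.depth (Localization.AtPrime p.asIdeal) (LocalizedModule p.asIdeal.primeCompl M) : ℕ∞) : WithBot ℕ∞)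 + Formal2.dimBetween A p.asIdeal q.asIdeal)) : ∃ J₀ : Ideal A, J₀ ≤ J ∧ PrimeSpectrum.zeroLocus ((J₀ : Ideal A) : Set A) ∩ PrimeSpectrum.zeroLocus ((I : Ideal A) : Set A) = PrimeSpectrum.zeroLocus ((J : Ideal A) : Set A) ∩ PrimeSpectrum.zeroLocus ((I : Ideal A) : Set A) ∧ ∀ (J' : Ideal A) [DRing.HasRgammaI J'], J' ≤ J₀ → PrimeSpectrum.zeroLocus ((J' : Ideal A) : Set A) ∩ PrimeSpectrum.zeroLocus ((I : Ideal A) : Set A) = PrimeSpectrum.zeroLocus ((J : Ideal A) : Set A) ∩ PrimeSpectrum.zeroLocus ((I : Ideal A) : Set A) → ∀ i : ℤ, i ≤ s → Function.Bijective ((DerivedCategory.homologyFunctor (ModuleCat.{u} A) i).map (DRing.toDerivedCompletion I ((DRing.RgammaI J').obj (Dual.inD A M)))).hom := by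
  obtain ⟨J₀, h1, h2, h3'⟩ := H3CAlg.GlobAlg.exists_algebraize_global I J hdc M s d h3 fun p hpI ⟨r, hr1, hr2, hr3⟩ q hpq hJ hI => by
    rcases h4 p hpI (fun hp => hr3 ((hT p).1 hp r hr1 hr2)) q hpq hJ hI with h | h
    · exact Or.inl h
    · exact Or.inr (by simpa using h)
  exact ⟨J₀, h1, h2, fun J' _ hle hV i hi => h3' J' hle hV i hi⟩

end Groth.Agent.S8808
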