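import Groth.Statements.S8815
import Groth.Agent.H24Algz.DimFun

set_option autoImplicit false
set_option linter.style.haveILetI false
universe u
open CategoryTheory AlgebraicGeometry
open Algz

namespace Groth.Agent.S8815

/-- Let A be a catenary Noetherian local ring, Y = Spec A and Z the closed point. Then δ_Z(y) equals the
dimension of the closure of y, i.e. dim(A/p_y), for every point y. -/
theorem result (A : Type u) [CommRing A] [IsNoetherianRing A] [IsLocalRing A] (hA : CAlg.IsCatenary A) (y : Spec (CommRingCat.of A)) : ((Algz.deltaZ ({IsLocalRing.closedPoint A} : Set (Spec (CommRingCat.of A))) y : ℕ∞) : WithBot ℕ∞) = ringKrullDim (A ⧸ y.asIdeal) := by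
  haveI : FiniteRingKrullDim A := inferInstance
  haveI : FiniteDimensionalOrder (PrimeSpectrum A) := inferInstance
  have hcl : ∀ x : Spec (CommRingCat.of A), x ⤳ (IsLocalRing.closedPoint A : Spec (CommRingCat.of A)) :=
    fun x => IsLocalRing.specializes_closedPoint x
  refine le_antisymm (Groth.Agent.H24Algz.deltaZ_le_ringKrullDim (fun x : PrimeSpectrum A => (x : Spec (CommRingCat.of A)))
    Topology.IsEmbedding.id (Set.mem_singleton _) (fun x _ => ⟨x, rfl⟩) y (hcl y)) ?_
  have hco : ringKrullDim (A ⧸ y.asIdeal) = ((Order.coheight (α := PrimeSpectrum A) y : ℕ∞) : WithBot ℕ∞) := by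
    rw [ringKrullDim_quotient]
    have : (PrimeSpectrum.zeroLocus (R := A) (y.asIdeal : Set A)) = Set.Ici (α := PrimeSpectrum A) y := by
      ext q; exact Iff.rfl
    rw [this, Order.coheight_eq_krullDim_Ici]
  rw [hco]
  rcases hd : Algz.deltaZ ({IsLocalRing.closedPoint A} : Set (Spec (CommRingCat.of A))) y with _ | n
  · exact le_top
  obtain ⟨z, hz, hle⟩ := Groth.Agent.H24Algz.exists_mem_le_add (Y := PrimeSpectrum A)
    (fun p => ((Order.coheight p).toNat : ℤ))
    (Groth.Agent.H24Algz.isDimFun_coheight hA fun p => Order.coheight_lt_top p) hd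
  replace hz : z = IsLocalRing.closedPoint A := hz
  subst hz
  have h0 : Order.coheight (IsLocalRing.closedPoint A) = 0 := Order.coheight_eq_zero.mpr fun q _ =>
    IsLocalRing.le_maximalIdeal q.2.ne_top
  rw [h0] at hle
  refine WithBot.coe_le_coe.mpr ?_
  rw [← ENat.coe_toNat (Order.coheight_lt_top (α := PrimeSpectrum A) y).ne]
  exact Nat.cast_le.mpr (by simpa using hle)

end Groth.Agent.S8815
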