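import Groth.Statements.S8821
import Groth.Agent.H24Formal.ModPow

set_option autoImplicit false
set_option linter.style.haveILetI false
universe u
open CategoryTheory AlgebraicGeometry
open Formal2
open Groth.Agent

namespace Groth.Agent.S8821

/-- Implication (4) ⇒ (2), for an O_X-module over a base ring A and f ∈ A. Let X be a scheme over Spec
A, f ∈ A and F an O_X-module on which multiplication by f is a monomorphism. Then for every n ≥ 1
there is a monomorphism i : F/fF → F/f^{n+1}F through which multiplication by f^n on F/f^{n+1}F
factors (projection to F/fF followed by i), and F/fF → F/f^{n+1}F → F/f^nF, with second map the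
transition map, is a short exact sequence. (Stated for schemes; the published statement is for
ringed spaces.) -/
theorem result (A : Type u) [CommRing A] (X : Scheme.{u}) [X.Over (Spec (CommRingCat.of A))] (f : A) (F : X.Modules) (hF : Mono (Formal.smulMod A F f)) (n : ℕ) (hn : 1 ≤ n) : ∃ i : Formal.modPow (Ideal.span ({f} : Set A)) 1 F ⟶ Formal.modPow (Ideal.span ({f} : Set A)) (n + 1) F, Mono i ∧ Formal2.modPowLE (Ideal.span ({f} : Set A)) (Nat.le_add_left 1 n) F ≫ i = Formal.smulMod A (Formal.modPow (Ideal.span ({f} : Set A)) (n + 1) F) (f ^ n) ∧ ∃ w : i ≫ Formal.modPowTrans (Ideal.span ({f} : Set A)) n F = 0, (ShortComplex.mk i (Formal.modPowTrans (Ideal.span ({f} : Set A)) n F) w).ShortExact := by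
  exact H24Formal.exists_shortExact_modPow f F hF n

end Groth.Agent.S8821
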