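import Groth.Statements.S8823
import Groth.Agent.H9Popescu.EtaleSlice
import Groth.Agent.H9Popescu.Popescu
import Groth.Agent.S0600
import Groth.Agent.H05EGA4.GRingPoly
import Groth.Agent.H9Hens.EtNbhd
-- import your own Groth.Agent.* helpers here

set_option autoImplicit false
universe u
open AdicRing

namespace Groth.Agent.S8823
open TensorProduct

/-- Let A be a Noetherian G-ring and I an ideal of A. Let B and C be A-algebras of finite type, φ an
A-algebra map from the IB-adic completion of B to the IC-adic completion of C, and N ≥ 1. Then one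
can find an etale C-algebra C' for which the induced map C/IC → C'/IC' is a bijection, together with
a homomorphism of A-algebras ψ : B → C' that approximates φ to order N: given any b ∈ B, some c ∈ C
satisfies ψ(b) − c ∈ I^N C', while the image of φ(b) in C/I^N C (the N-th truncation of the
completion) coincides with the class of c. -/
theorem result (A : Type u) [CommRing A] (hA : CAlg.IsGRing A) (I : Ideal A) (B C : Type u) [CommRing B] [Algebra A B] [Algebra.FiniteType A B] [CommRing C] [Algebra A C] [Algebra.FiniteType A C] (φ : (AdicCompletion (I.map (algebraMap A B)) B) →ₐ[A] (AdicCompletion (I.map (algebraMap A C)) C)) (N : ℕ) (hN : 1 ≤ N) : ∃ (C' : Type u) (_ : CommRing C') (_ : Algebra C C') (_ : Algebra A C') (_ : IsScalarTower A C C') (_ : Algebra.Etale C C') (ψ : B →ₐ[A] C'), ((∀ c' : C', ∃ c : C, algebraMap C C' c - c' ∈ I.map (algebraMap A C')) ∧ ∀ c : C, algebraMap C C' c ∈ I.map (algebraMap A C') → c ∈ I.map (algebraMap A C)) ∧ ∀ b : B, ∃ c : C, ψ b - algebraMap C C' c ∈ (I.map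 (algebraMap A C')) ^ N ∧ AdicCompletion.eval (I.map (algebraMap A C)) C N (φ (AdicCompletion.of (I.map (algebraMap A B)) B b)) = Submodule.Quotient.mk c := by
  haveI := hA.1
  haveI : IsNoetherianRing C := Algebra.FiniteType.isNoetherianRing A C
  let K : Ideal C := I.map (algebraMap A C)
  have hK : K = I.map (algebraMap A C) := rfl
  haveI : IsNoetherianRing (AdicCompletion K C) := Groth.Agent.H05EGA4.isNoetherianRing_adicCompletion C K
  have hreg := Groth.Agent.S0600.result C (Groth.Agent.H05EGA4.isGRing_of_finiteType (R := A) hA) K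
  haveI : Algebra.FinitePresentation A B := Algebra.FinitePresentation.of_finiteType.mp inferInstance
  let f₀ : B →ₐ[A] AdicCompletion K C := φ.comp
    (IsScalarTower.toAlgHom A B (AdicCompletion (I.map (algebraMap A B)) B))
  have hf₀ : ∀ b, f₀ b = φ (AdicCompletion.of (I.map (algebraMap A B)) B b) := fun b => congrArg φ (by
    show algebraMap B _ b = _; rfl)
  let f : C ⊗[A] B →ₐ[C] AdicCompletion K C :=
    Algebra.TensorProduct.lift (Algebra.ofId C _) f₀ fun _ _ => Commute.all _ _
  obtain ⟨S, _, _, hS, g₁, h, hgh⟩ := Groth.Agent.H9Popescu.popescu hreg (C ⊗[A] B) inferInstance f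
  haveI := hS
  obtain ⟨C₁, _, _, hC₁, σ₁, gS, hσ₁⟩ := Groth.Agent.H9Popescu.exists_etale_of_smooth
    (fun q => by
      obtain ⟨r, rfl⟩ := Ideal.Quotient.mk_surjective q
      exact ⟨r, 1, by simp, by simp⟩)
    ((AdicCompletion.evalₐ K N).comp h)
  haveI := hC₁
  obtain ⟨T, _, _, hT, χ, σ, hb, hσ, -⟩ :=
    Groth.Agent.H9Hens.exists_etale_nbhd C₁ σ₁ 1 (by rw [map_one]; exact isUnit_one)
  letI : Algebra A T := ((algebraMap C T).comp (algebraMap A C)).toAlgebra
  haveI : IsScalarTower A C T := .of_algebraMap_eq' rfl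
  have hI : I.map (algebraMap A T) = K.map (algebraMap C T) := by
    rw [hK, Ideal.map_map, ← IsScalarTower.algebraMap_eq]
  have hker : (K ^ N).map (algebraMap C T) ≤ RingHom.ker σ := Ideal.map_le_iff_le_comap.2 fun c hc => by
    rw [Ideal.mem_comap, RingHom.mem_ker, σ.commutes, Ideal.Quotient.algebraMap_eq,
      Ideal.Quotient.eq_zero_iff_mem.2 hc]
  have hlift : ∀ x : T, ∃ c : C, σ x = Ideal.Quotient.mk (K ^ N) c ∧
      x - algebraMap C T c ∈ (K ^ N).map (algebraMap C T) := fun x => by
    obtain ⟨c, hc⟩ := Ideal.Quotient.mk_surjective (σ x)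
    refine ⟨c, hc.symm, Ideal.Quotient.eq.1 ?_⟩
    rw [Groth.Agent.H9Hens.mk_eq_quotientMap_section hb.2 σ x, ← hc]
    exact Ideal.quotientMap_mk
  have hle : (K ^ N).map (algebraMap C T) ≤ K.map (algebraMap C T) :=
    Ideal.map_mono (Ideal.pow_le_self (Nat.one_le_iff_ne_zero.mp hN))
  refine ⟨T, inferInstance, inferInstance, inferInstance, inferInstance, hT,
    (((χ.comp gS).comp g₁).restrictScalars A).comp Algebra.TensorProduct.includeRight,
    ⟨fun x => ?_, fun c hc => ?_⟩, fun b => ?_⟩
  · obtain ⟨c, -, hc⟩ := hlift x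
    refine ⟨c, ?_⟩
    rw [hI, ← neg_sub]
    exact neg_mem (hle hc)
  · rw [hI] at hc
    have h1 : σ (algebraMap C T c) ∈ (K.map (algebraMap C T)).map σ.toRingHom := Ideal.mem_map_of_mem _ hc
    rw [Ideal.map_map, AlgHom.toRingHom_eq_coe, AlgHom.comp_algebraMap, σ.commutes,
      Ideal.Quotient.algebraMap_eq, Ideal.mem_quotient_iff_mem_sup,
      sup_eq_left.2 (Ideal.pow_le_self (Nat.one_le_iff_ne_zero.mp hN))] at h1
    exact h1
  · obtain ⟨c, hσc, hc⟩ := hlift ((((χ.comp gS).comp g₁).restrictScalars A).comp Algebra.TensorProduct.includeRight b)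
    refine ⟨c, by rw [hI, ← Ideal.map_pow]; exact hc, ?_⟩
    have h2 : AdicCompletion.evalₐ K N (f₀ b) = Ideal.Quotient.mk (K ^ N) c := by
      rw [← hσc]
      show _ = σ (χ (gS (g₁ (1 ⊗ₜ b))))
      rw [← AlgHom.comp_apply σ χ, hσ, ← AlgHom.comp_apply σ₁ gS, hσ₁]
      show _ = AdicCompletion.evalₐ K N (h (g₁ (1 ⊗ₜ b)))
      rw [← AlgHom.comp_apply h g₁, hgh, Algebra.TensorProduct.lift_tmul, map_one, one_mul]
    rw [← hf₀]
    have h3 := AdicCompletion.factor_evalₐ_eq_eval (I := K) (n := N) (f₀ b)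
      (by rw [smul_eq_mul, Ideal.mul_top])
    rw [← h3, h2]
    rfl

end Groth.Agent.S8823
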