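import Groth.Statements.S8825
import Groth.Agent.H24Adic.Rig
import Groth.Agent.H24Adic.CompletionNoetherian
import Groth.Agent.H02CA.RegularHom
import Groth.Agent.S0598
import Groth.Agent.S0599
import Groth.Agent.S0600
import Groth.Agent.S19379

set_option autoImplicit false
set_option linter.style.haveILetI false
universe u
open AdicRing

open Groth.Agent.H24Adic
namespace Groth.Agent.S8825

/-- Let A be a Noetherian ring which is complete for the adic topology of an ideal I, let p be a
rig-closed prime of A (I ⊄ p and p is maximal among the primes not containing I), and let n ≥ 1.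
Then the ring map from A/p to the restricted power series ring (A/p){x_1, …, x_n}, i.e. the I-adic
completion of the polynomial ring (A/p)[x_1, …, x_n], is a regular ring map (flat, with Noetherian
and geometrically regular fibres). (The consequence for the fibre over the fraction field is not
stated.) -/
theorem result (A : Type u) [CommRing A] [IsNoetherianRing A] (I : Ideal A) [IsAdicComplete I A] (p : PrimeSpectrum A) (hp : ¬ I ≤ p.asIdeal ∧ ∀ q : PrimeSpectrum A, p ≤ q → ¬ I ≤ q.asIdeal → q = p) (n : ℕ) (hn : 1 ≤ n) : CAlg.IsRegularHom (A ⧸ p.asIdeal) (AdicCompletion (I.map (algebraMap A (MvPolynomial (Fin n) (A ⧸ p.asIdeal)))) (MvPolynomial (Fin n) (A ⧸ p.asIdeal))) := by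
  let D := A ⧸ p.asIdeal
  let ID := I.map (algebraMap A D)
  haveI hDc : IsAdicComplete ID D := isAdicComplete_map_quotient p.asIdeal
  haveI : Ring.KrullDimLE 1 D := Ring.krullDimLE_iff.mpr (rigClosed_quotient p hp.1 hp.2).le
  have hne : ID ≠ ⊥ := fun h => hp.1 (by
    rw [Ideal.map_eq_bot_iff_le_ker, Ideal.Quotient.algebraMap_eq, Ideal.mk_ker] at h
    exact h)
  obtain ⟨M, hM⟩ := Ideal.exists_maximal D
  haveI := hM
  haveI : IsLocalRing D := IsLocalRing.of_unique_max_ideal ⟨M, hM, fun N hN => by
    haveI : N.IsMaximal := hN
    exact (eq_radical_of_isMaximal ID hne N).trans (eq_radical_of_isMaximal ID hne M).symm⟩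
  haveI : IsAdicComplete (IsLocalRing.maximalIdeal D) D := by
    rw [eq_radical_of_isMaximal ID hne (IsLocalRing.maximalIdeal D)]
    exact isAdicComplete_radical ID
  let P := MvPolynomial (Fin n) D
  let J : Ideal P := I.map (algebraMap A P)
  have hP : CAlg.IsGRing P := Groth.Agent.S0599.result D (Groth.Agent.S0598.result D) P
  haveI : IsNoetherianRing (AdicCompletion J P) := isNoetherianRing_adicCompletion J
  refine Groth.Agent.H02CA.isRegularHom_comp D P (AdicCompletion J P) (Groth.Agent.S19379.result D P)
    (Groth.Agent.S0600.result P hP J) fun q _ => ?_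
  haveI : Algebra.EssFiniteType D q.ResidueField := inferInstance
  haveI : Algebra.EssFiniteType (AdicCompletion J P) (TensorProduct D (AdicCompletion J P) q.ResidueField) :=
    inferInstance
  haveI : IsNoetherianRing (TensorProduct D (AdicCompletion J P) q.ResidueField) :=
    Algebra.EssFiniteType.isNoetherianRing (AdicCompletion J P) (TensorProduct D (AdicCompletion J P) q.ResidueField)
  exact isNoetherianRing_of_ringEquiv (TensorProduct D (AdicCompletion J P) q.ResidueField)
    (Algebra.TensorProduct.comm D (AdicCompletion J P) q.ResidueField).toRingEquiv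

end Groth.Agent.S8825
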