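import Groth.Statements.S8826
import Groth.Agent.H24Adic.RigEtaleLift
import Groth.Agent.H24Adic.HensQuotCompletion
import Groth.Agent.S1994

set_option autoImplicit false
set_option linter.style.haveILetI false
universe u
open AdicRing

namespace Groth.Agent.S8826

/-- Let A be a Noetherian ring and I an ideal. Let B be an A-algebra of finite type such that Spec B →
Spec A is etale over the complement of V(I) (B_a etale over A for every a ∈ I), let C be a
Noetherian A-algebra with a henselization Cʰ of the pair (C, IC), and let φ be an A-algebra map from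
the IB-adic completion of B to the IC-adic completion of C. Then there is exactly one A-algebra map
ψ : B → Cʰ which induces φ on completions, in the sense that for every n and every b ∈ B there is c
∈ C with ψ(b) − c ∈ I^n Cʰ and with the n-th truncation of φ(b) in C/I^n C equal to the class of c
(recall C/I^n C = Cʰ/I^n Cʰ). (The second assertion, that such maps factor through an etale
neighbourhood, is not stated.) -/
theorem result (A : Type u) [CommRing A] [IsNoetherianRing A] (I : Ideal A) (B : Type u) [CommRing B] [Algebra A B] [Algebra.FiniteType A B] (hB : ∀ a ∈ I, Algebra.Etale A (Localization.Away (algebraMap A B a))) (C : Type u) [CommRing C] [Algebra A C] [IsNoetherianRing C] (Ch : Type u) [CommRing Ch] [Algebra C Ch] [Algebra A Ch] [IsScalarTower A C Ch] (hCh : Hens2.IsPairHenselization C (I.map (algebraMap A C)) Ch) (φ : (AdicCompletion (I.map (algebraMap A B)) B) →ₐ[A] (AdicCompletion (I.map (algebraMap A C)) C)) : ∃! ψ : B →ₐ[A] Ch, ∀ (n : ℕ) (b : B), ∃ c : C, ψ b - algebraMap C Ch c ∈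 (I.map (algebraMap A Ch)) ^ n ∧ AdicCompletion.eval (I.map (algebraMap A C)) C n (φ (AdicCompletion.of (I.map (algebraMap A B)) B b)) = Submodule.Quotient.mk c := by
  classical
  let K : Ideal C := I.map (algebraMap A C)
  obtain ⟨hN, -, -⟩ := Groth.Agent.S1994.result C K Ch hCh
  haveI := hN
  haveI : HenselianRing Ch (K.map (algebraMap C Ch)) := hCh.1
  have hJK : I.map (algebraMap A Ch) = K.map (algebraMap C Ch) := by
    rw [Ideal.map_map, ← IsScalarTower.algebraMap_eq]
  let J : Ideal Ch := I.map (algebraMap A Ch)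
  haveI hH : HenselianRing Ch J := (congrArg (fun L => HenselianRing Ch L) hJK).mpr hCh.1
  have hKJ : ∀ n, ∀ x ∈ K ^ n, algebraMap C Ch x ∈ J ^ n := fun n x hx => by
    have := Ideal.mem_map_of_mem (algebraMap C Ch) hx
    rwa [Ideal.map_pow, ← hJK] at this
  let ι : B →ₐ[A] AdicCompletion K C := φ.comp (IsScalarTower.toAlgHom A B _)
  have hι : ∀ b, ι b = φ (AdicCompletion.of (I.map (algebraMap A B)) B b) := fun b => congrArg φ (by
    show algebraMap B _ b = _; rfl)
  let χ : ∀ n, (C ⧸ K ^ n) →ₐ[A] Ch ⧸ J ^ n := fun n =>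
    Ideal.Quotient.liftₐ _ ((Ideal.Quotient.mkₐ A _).comp (IsScalarTower.toAlgHom A C Ch))
      (fun x hx => Ideal.Quotient.eq_zero_iff_mem.mpr (hKJ n x hx))
  let e : ∀ n, AdicCompletion K C →ₐ[A] C ⧸ K ^ n := fun n => (AdicCompletion.evalₐ K n).restrictScalars A
  let σ : ∀ n, B →ₐ[A] Ch ⧸ J ^ n := fun n => (χ n).comp ((e n).comp ι)
  have heval : ∀ n (x : AdicCompletion K C) (c : C),
      AdicCompletion.evalₐ K n x = Ideal.Quotient.mk _ c ↔ AdicCompletion.eval K C n x = Submodule.Quotient.mk c := by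
    intro n x c
    obtain ⟨d, hd⟩ := Ideal.Quotient.mk_surjective (AdicCompletion.evalₐ K n x)
    have h := AdicCompletion.factor_evalₐ_eq_eval (I := K) (n := n) x (by rw [smul_eq_mul, Ideal.mul_top])
    rw [← h, ← hd, Ideal.Quotient.eq]
    show _ ↔ Submodule.Quotient.mk d = Submodule.Quotient.mk c
    rw [Submodule.Quotient.eq, smul_eq_mul, Ideal.mul_top]
  have hσ : ∀ {m n : ℕ} (hle : m ≤ n),
      (Ideal.Quotient.factorₐ A (Ideal.pow_le_pow_right (I := J) hle)).comp (σ n) = σ m := by
    intro m n hle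
    refine AlgHom.ext fun b => ?_
    obtain ⟨c, hc⟩ := Ideal.Quotient.mk_surjective (AdicCompletion.evalₐ K n (ι b))
    have hm : AdicCompletion.evalₐ K m (ι b) = Ideal.Quotient.mk _ c := by
      rw [← Groth.Agent.H24Adic.factorPow_evalₐ K hle (ι b), ← hc]
      rfl
    show Ideal.Quotient.factor (Ideal.pow_le_pow_right (I := J) hle) (χ n (AdicCompletion.evalₐ K n (ι b))) = χ m (AdicCompletion.evalₐ K m (ι b))
    rw [← hc, hm]
    rfl
  obtain ⟨r, s, hs⟩ := Submodule.fg_iff_exists_fin_generating_family.mp (IsNoetherian.noetherian I)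
  have hs' : ∀ i, s i ∈ I := fun i => hs ▸ Submodule.subset_span ⟨i, rfl⟩
  have hJs : J = Ideal.span (Set.range (algebraMap A Ch ∘ s)) := by
    show I.map _ = _
    rw [show I = Ideal.span (Set.range s) from hs.symm, Ideal.map_span, Set.range_comp]
  obtain ⟨ψ, hψ⟩ := Groth.Agent.H24Adic.existsUnique_lift_system I hB r s hs' Ch J hJs hH σ hσ
  have key : ∀ (n : ℕ) (b : B) (c : C), AdicCompletion.eval K C n (ι b) = Submodule.Quotient.mk c →
      ψ b - algebraMap C Ch c ∈ J ^ n := fun n b c hc => by
    rw [← Ideal.Quotient.eq]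
    have h1 : Ideal.Quotient.mk (J ^ n) (ψ b) = χ n (AdicCompletion.evalₐ K n (ι b)) := AlgHom.congr_fun (hψ n) b
    rw [h1, (heval n _ c).mpr hc]
    rfl
  refine ⟨ψ, fun n b => ?_, fun ψ' hψ' => ?_⟩
  · obtain ⟨c, hc⟩ := Submodule.Quotient.mk_surjective _ (AdicCompletion.eval K C n (ι b))
    refine ⟨c, key n b c hc.symm, ?_⟩
    rw [← hι]
    exact hc.symm
  · haveI : IsHausdorff J Ch := IsHausdorff.of_le_jacobson _ _ (HenselianRing.jac (I := J))
    refine AlgHom.ext fun b => sub_eq_zero.mp (IsHausdorff.haus (I := J) inferInstance _ fun n => ?_)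
    rw [SModEq.sub_mem, sub_zero, smul_eq_mul, Ideal.mul_top]
    obtain ⟨c, hc, hc'⟩ := hψ' n b
    rw [← hι] at hc'
    have := sub_mem hc (key n b c hc')
    rwa [sub_sub_sub_cancel_right] at this

end Groth.Agent.S8826
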