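import Groth.Statements.S8828
import Groth.Agent.H3CAlg.CompletionLocal
import Groth.Agent.S1714
import Groth.Agent.H26Boot.Basic
import Groth.Agent.H4LC.ChangeRings
import Groth.Agent.H4DR.FlatBC.Unramified
import Groth.Agent.H24Formal2.DimBetween

set_option autoImplicit false
universe u
open CategoryTheory
open Dual2

namespace Groth.Agent.S8828Aux

open Groth.Agent IsLocalRing
open scoped TensorProduct

theorem exists_dualizing {A : Type u} [CommRing A] [IsNoetherianRing A] (I : Ideal A) {ω : Dual.D A}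
    (hω : Dual.IsDualizing A ω) :
    ∃ ω' : Dual.D (AdicCompletion I A), Dual.IsDualizing (AdicCompletion I A) ω' := by
  have hI : I.FG := IsNoetherian.noetherian I
  haveI := H24Adic.isNoetherianRing_adicCompletion I
  haveI := AdicCompletion.isAdicComplete_self I hI
  have hs : Function.Surjective ((Ideal.Quotient.mk (I.map (algebraMap A (AdicCompletion I A)))).comp
      (algebraMap A (AdicCompletion I A))) := fun z => by
    obtain ⟨x, rfl⟩ := Ideal.Quotient.mk_surjective z
    obtain ⟨p, hp⟩ := H24Adic.exists_sub_of_mem hI 1 x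
    rw [pow_one] at hp
    exact ⟨p, (Ideal.Quotient.eq.mpr hp).symm⟩
  exact ⟨_, H4DR.Dualizing.isDualizing_maxUnramified hω
    (H4DR.Dualizing.maxUnramified_of_surjective I hs (IsAdicComplete.le_jacobson_bot _))⟩

theorem cdLE_completion {A : Type u} [CommRing A] [IsNoetherianRing A] (I : Ideal A) {d : ℕ}
    (h : LocCoh.CdLE A I d) : LocCoh.CdLE (AdicCompletion I A) (I.map (algebraMap A (AdicCompletion I A))) d := by
  haveI := H24Adic.isNoetherianRing_adicCompletion I
  intro N _ _ i hi
  letI : Module A N := Module.compHom N (algebraMap A (AdicCompletion I A))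
  haveI : IsScalarTower A (AdicCompletion I A) N := IsScalarTower.of_algebraMap_smul fun _ _ => rfl
  exact (H4LC.subsingleton_H_map_iff (R := A) (AdicCompletion I A) I N i).2 (h N i hi)

theorem cond4 {A : Type u} [CommRing A] [IsNoetherianRing A] (hdc : ∃ ω : Dual.D A, Dual.IsDualizing A ω)
    (I : Ideal A) (d : ℕ) (M : Type u) [AddCommGroup M] [Module A M] [Module.Finite A M]
    (T : Set (PrimeSpectrum A)) (s : ℕ)
    (h4 : ∀ p r q : PrimeSpectrum A, p ≤ r → r ≤ q → ¬ I ≤ p.asIdeal → I ≤ r.asIdeal → r ∉ T → q ∈ T →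
      (s : ℕ∞) ≤ LocCoh.depth (Localization.AtPrime p.asIdeal) (LocalizedModule p.asIdeal.primeCompl M) ∨
      ((d + s : ℕ) : WithBot ℕ∞) < (LocCoh.depth (Localization.AtPrime p.asIdeal)
        (LocalizedModule p.asIdeal.primeCompl M) : WithBot ℕ∞) + Formal2.dimBetween A p.asIdeal q.asIdeal)
    (p r q : PrimeSpectrum (AdicCompletion I A)) (hpr : p ≤ r) (hrq : r ≤ q)
    (hp : ¬ (I.map (algebraMap A (AdicCompletion I A))) ≤ p.asIdeal)
    (hr : (I.map (algebraMap A (AdicCompletion I A))) ≤ r.asIdeal)
    (hrT : r ∉ ((PrimeSpectrum.comap (algebraMap A (AdicCompletion I A))) ⁻¹' T))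
    (hqT : q ∈ ((PrimeSpectrum.comap (algebraMap A (AdicCompletion I A))) ⁻¹' T)) :
    (s : ℕ∞) ≤ LocCoh.depth (Localization.AtPrime p.asIdeal)
      (LocalizedModule p.asIdeal.primeCompl (AdicCompletion I M)) ∨
    ((d + s : ℕ) : WithBot ℕ∞) < (LocCoh.depth (Localization.AtPrime p.asIdeal)
      (LocalizedModule p.asIdeal.primeCompl (AdicCompletion I M)) : WithBot ℕ∞) +
        Formal2.dimBetween (AdicCompletion I A) p.asIdeal q.asIdeal := by
  obtain ⟨hle, heq⟩ := S1714.result A hdc I M p q (hpr.trans hrq) (hr.trans hrq)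
  let f := PrimeSpectrum.comap (algebraMap A (AdicCompletion I A))
  rcases h4 (f p) (f r) (f q) (Ideal.comap_mono hpr) (Ideal.comap_mono hrq)
    (fun h => hp (Ideal.map_le_iff_le_comap.2 h)) (Ideal.map_le_iff_le_comap.1 hr) hrT hqT with h | h
  · exact Or.inl (le_trans h hle)
  · right
    rw [H24Formal2.dimBetween_eq (hpr.trans hrq), heq,
      ← H24Formal2.dimBetween_eq (Ideal.comap_mono (hpr.trans hrq) : f p ≤ f q)]
    exact h

theorem cond6 {A : Type u} [CommRing A] [IsNoetherianRing A]
    (I : Ideal A) (M : Type u) [AddCommGroup M] [Module A M] [Module.Finite A M]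
    (T : Set (PrimeSpectrum A)) (hTI : T ⊆ PrimeSpectrum.zeroLocus (I : Set A)) (s : ℕ)
    (h6 : ∀ q : PrimeSpectrum A, q ∈ T → ∀ p' : PrimeSpectrum (AdicCompletion (I.map (algebraMap A (Localization.AtPrime q.asIdeal))) (Localization.AtPrime q.asIdeal)), ¬ (I.map (algebraMap A (AdicCompletion (I.map (algebraMap A (Localization.AtPrime q.asIdeal))) (Localization.AtPrime q.asIdeal)))) ≤ p'.asIdeal → (∀ q' : PrimeSpectrum (AdicCompletion (I.map (algebraMap A (Localization.AtPrime q.asIdeal))) (Localization.AtPrime q.asIdeal)), p' ≤ q' → (I.map (algebraMap A (AdicCompletion (I.map (algebraMap A (Localization.AtPrime q.asIdeal))) (Localization.AtPrime q.asIdeal)))) ≤ q'.asIdeal → q'.asIdeal.IsMaximal) → (s : ℕ∞) < LocCoh.depth (Localization.AtPrime p'.asIdeal) (LocalizedModule p'.asIdeal.primeCompl (AdicCompletion (I.map (algebraMap A (Localization.AtPrime q.asIdeal))) (LocalizedModule q.asIdeal.primeCompl M))))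
    (q : PrimeSpectrum (AdicCompletion I A))
    (hq : q ∈ ((PrimeSpectrum.comap (algebraMap A (AdicCompletion I A))) ⁻¹' T))
    (p' : PrimeSpectrum (AdicCompletion ((I.map (algebraMap A (AdicCompletion I A))).map (algebraMap (AdicCompletion I A) (Localization.AtPrime q.asIdeal))) (Localization.AtPrime q.asIdeal)))
    (hp' : ¬ ((I.map (algebraMap A (AdicCompletion I A))).map (algebraMap (AdicCompletion I A) (AdicCompletion ((I.map (algebraMap A (AdicCompletion I A))).map (algebraMap (AdicCompletion I A) (Localization.AtPrime q.asIdeal))) (Localization.AtPrime q.asIdeal)))) ≤ p'.asIdeal)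
    (hmax : ∀ q' : PrimeSpectrum (AdicCompletion ((I.map (algebraMap A (AdicCompletion I A))).map (algebraMap (AdicCompletion I A) (Localization.AtPrime q.asIdeal))) (Localization.AtPrime q.asIdeal)), p' ≤ q' → ((I.map (algebraMap A (AdicCompletion I A))).map (algebraMap (AdicCompletion I A) (AdicCompletion ((I.map (algebraMap A (AdicCompletion I A))).map (algebraMap (AdicCompletion I A) (Localization.AtPrime q.asIdeal))) (Localization.AtPrime q.asIdeal)))) ≤ q'.asIdeal → q'.asIdeal.IsMaximal) :
    (s : ℕ∞) < LocCoh.depth (Localization.AtPrime p'.asIdeal) (LocalizedModule p'.asIdeal.primeCompl (AdicCompletion ((I.map (algebraMap A (AdicCompletion I A))).map (algebraMap (AdicCompletion I A) (Localization.AtPrime q.asIdeal))) (LocalizedModule q.asIdeal.primeCompl (AdicCompletion I M)))) := by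
  let Ah := AdicCompletion I A
  let q₀ : PrimeSpectrum A := PrimeSpectrum.comap (algebraMap A Ah) q
  let R₁ := Localization.AtPrime q₀.asIdeal
  let R₂ := Localization.AtPrime q.asIdeal
  let J := I.map (algebraMap A R₁)
  let K := (I.map (algebraMap A Ah)).map (algebraMap Ah R₂)
  let Rh₁ := AdicCompletion J R₁
  let Rh₂ := AdicCompletion K R₂
  haveI : IsNoetherianRing Ah := H24Adic.isNoetherianRing_adicCompletion I
  haveI : IsNoetherianRing R₁ := IsLocalization.isNoetherianRing q₀.asIdeal.primeCompl _ ‹_›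
  haveI : IsNoetherianRing R₂ := IsLocalization.isNoetherianRing q.asIdeal.primeCompl _ ‹_›
  haveI : IsNoetherianRing Rh₁ := H24Adic.isNoetherianRing_adicCompletion J
  haveI : IsNoetherianRing Rh₂ := H24Adic.isNoetherianRing_adicCompletion K
  have hIq : I.map (algebraMap A Ah) ≤ q.asIdeal := Ideal.map_le_iff_le_comap.2 (hTI hq)
  obtain ⟨E, hE⟩ := H3CAlg.exists_ringEquiv_completion_localization I q₀.asIdeal q.asIdeal rfl hIq
  letI : Algebra Rh₁ Rh₂ := E.toRingHom.toAlgebra
  haveI : IsScalarTower A Rh₁ Rh₂ := IsScalarTower.of_algebraMap_eq fun a =>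
    ((IsScalarTower.algebraMap_apply A Ah Rh₂ a).trans (hE a).symm)
  haveI : Module.Flat Rh₁ Rh₂ := Module.Flat.of_linearEquiv
    (LinearEquiv.ofBijective (Algebra.linearMap Rh₁ Rh₂) E.bijective).symm
  let P : PrimeSpectrum Rh₁ := PrimeSpectrum.comap E.toRingHom p'
  haveI : p'.asIdeal.LiesOver P.asIdeal := ⟨rfl⟩
  have hImap : I.map (algebraMap A Rh₂) = (I.map (algebraMap A Rh₁)).map E.toRingHom := by
    rw [Ideal.map_map]
    exact congrArg (fun t : A →+* Rh₂ => I.map t) (RingHom.ext fun a => IsScalarTower.algebraMap_apply A Rh₁ Rh₂ a)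
  have hI₂ : (I.map (algebraMap A Ah)).map (algebraMap Ah Rh₂) = I.map (algebraMap A Rh₂) := by
    rw [Ideal.map_map, ← IsScalarTower.algebraMap_eq]
  have h1 := h6 q₀ hq P (fun h => hp' (by
      rw [hI₂, hImap]; exact Ideal.map_le_iff_le_comap.2 h)) fun q' hPq hIq' => by
    let q'' : PrimeSpectrum Rh₂ := PrimeSpectrum.comap E.symm.toRingHom q'
    have hback : q''.asIdeal.comap E.toRingHom = q'.asIdeal := by
      ext x; simp [q'']
    have hm := hmax q'' (fun x hx => by
        show E.symm x ∈ q'.asIdeal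
        exact hPq (show E (E.symm x) ∈ p'.asIdeal by rwa [E.apply_symm_apply]))
      (by rw [hI₂, hImap, Ideal.map_le_iff_le_comap, hback]; exact hIq')
    rw [← hback]
    haveI := hm
    exact Ideal.comap_isMaximal_of_surjective E.toRingHom E.surjective
  let N₁ := AdicCompletion J (LocalizedModule q₀.asIdeal.primeCompl M)
  haveI : Module.Finite R₁ (LocalizedModule q₀.asIdeal.primeCompl M) :=
    Module.Finite.of_isLocalizedModule q₀.asIdeal.primeCompl (LocalizedModule.mkLinearMap q₀.asIdeal.primeCompl M)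
  let e₁ : N₁ ≃ₗ[Rh₁] Rh₁ ⊗[A] M :=
    (AdicCompletion.ofTensorProductEquivOfFiniteNoetherian J (LocalizedModule q₀.asIdeal.primeCompl M)).symm.trans
      ((TensorProduct.AlgebraTensorModule.congr (LinearEquiv.refl Rh₁ Rh₁)
        (LocalizedModule.equivTensorProduct q₀.asIdeal.primeCompl M)).trans
        (TensorProduct.AlgebraTensorModule.cancelBaseChange A R₁ Rh₁ Rh₁ M))
  haveI : Module.Finite Rh₁ N₁ := Module.Finite.equiv e₁.symm
  have hmin : p'.asIdeal ∈ (P.asIdeal.map (algebraMap Rh₁ Rh₂)).minimalPrimes := by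
    rw [show P.asIdeal.map (algebraMap Rh₁ Rh₂) = p'.asIdeal from
      Ideal.map_comap_of_surjective E.toRingHom E.surjective p'.asIdeal, Ideal.minimalPrimes_eq_subsingleton_self]
    rfl
  rw [← H26Boot.depth_localization_eq N₁ P.asIdeal p'.asIdeal hmin] at h1
  let S := Localization.AtPrime p'.asIdeal
  let f₁ : S ⊗[Rh₁] N₁ ≃ₗ[S] S ⊗[A] M :=
    (TensorProduct.AlgebraTensorModule.congr (LinearEquiv.refl S S) e₁).trans
      (TensorProduct.AlgebraTensorModule.cancelBaseChange A Rh₁ S S M)
  haveI : Module.Finite Ah (AdicCompletion I M) :=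
    Module.Finite.equiv (AdicCompletion.ofTensorProductEquivOfFiniteNoetherian I M)
  haveI : Module.Finite R₂ (LocalizedModule q.asIdeal.primeCompl (AdicCompletion I M)) :=
    Module.Finite.of_isLocalizedModule q.asIdeal.primeCompl
      (LocalizedModule.mkLinearMap q.asIdeal.primeCompl (AdicCompletion I M))
  let f₂ : LocalizedModule p'.asIdeal.primeCompl
      (AdicCompletion K (LocalizedModule q.asIdeal.primeCompl (AdicCompletion I M))) ≃ₗ[S] S ⊗[A] M :=
    (LocalizedModule.equivTensorProduct p'.asIdeal.primeCompl _).trans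
      ((TensorProduct.AlgebraTensorModule.congr (LinearEquiv.refl S S)
        (AdicCompletion.ofTensorProductEquivOfFiniteNoetherian K
          (LocalizedModule q.asIdeal.primeCompl (AdicCompletion I M))).symm).trans
      ((TensorProduct.AlgebraTensorModule.cancelBaseChange R₂ Rh₂ S S _).trans
      ((TensorProduct.AlgebraTensorModule.congr (LinearEquiv.refl S S)
        (LocalizedModule.equivTensorProduct q.asIdeal.primeCompl (AdicCompletion I M))).trans
      ((TensorProduct.AlgebraTensorModule.cancelBaseChange Ah R₂ S S _).trans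
      ((TensorProduct.AlgebraTensorModule.congr (LinearEquiv.refl S S)
        (AdicCompletion.ofTensorProductEquivOfFiniteNoetherian I M).symm).trans
      (TensorProduct.AlgebraTensorModule.cancelBaseChange A Ah S S M))))))
  rw [H4Depth.depth_congr (f₁.trans f₂.symm)] at h1
  exact h1

end Groth.Agent.S8828Aux

namespace Groth.Agent.S8828

/-- Let A be a Noetherian ring with a dualizing complex, I an ideal with cd(A, I) ≤ d, M a finite
A-module, T ⊆ V(I) stable under specialization and s a natural, satisfying: (4) for primes p ⊆ r ⊆ q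
with p ∉ V(I), r ∈ V(I) ∖ T and q ∈ T, either depth(M_p) ≥ s or depth(M_p) + dim((A/p)_q) > d + s;
(6) for q ∈ T, writing A_q', I_q', M_q' for the I-adic completions of A_q, IA_q, M_q, one has
depth((M_q')_{p'}) > s for every prime p' of A_q' not containing I_q' such that the only primes
containing both p' and I_q' are maximal. Let A', I', M' be the I-adic completions of A, I, M and T'
⊆ Spec A' the inverse image of T. Then A' has a dualizing complex, cd(A', I') ≤ d, and conditions
(4) and (6) hold for A', I', T', M' (so the completed data are again in the same situation). -/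
theorem result (A : Type u) [CommRing A] [IsNoetherianRing A] (hdc : ∃ ω : Dual.D A, Dual.IsDualizing A ω) (I : Ideal A) (d : ℕ) (hcd : LocCoh.CdLE A I d) (M : Type u) [AddCommGroup M] [Module A M] [Module.Finite A M] (T : Set (PrimeSpectrum A)) (hTI : T ⊆ PrimeSpectrum.zeroLocus (I : Set A)) (hT : StableUnderSpecialization T) (s : ℕ) (h4 : ∀ p r q : PrimeSpectrum A, p ≤ r → r ≤ q → ¬ I ≤ p.asIdeal → I ≤ r.asIdeal → r ∉ T → q ∈ T → (s : ℕ∞) ≤ LocCoh.depth (Localization.AtPrime p.asIdeal) (LocalizedModule p.asIdeal.primeCompl M) ∨ ((d + s : ℕ) : WithBot ℕ∞) < (LocCoh.depth (Localization.AtPrime p.asIdeal) (LocalizedModule p.asIdeal.primeCompl M) : WithBot ℕ∞) + Formal2.dimBetween A p.asIdeal q.asIdeal) (h6 : ∀ q : PrimeSpectrum A, q ∈ T → ∀ p' : PrimeSpectrum (AdicCompletion (I.map (algebraMap A (Localization.AtPrime q.asIdeal))) (Localization.AtPrime q.asIdeal)), ¬ (I.map (algebraMap A (AdicCompletion (I.map (algebraMap A (Localization.AtPrime q.asIdeal))) (Localization.AtPrime q.asIdeal)))) ≤ p'.asIdeal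 → (∀ q' : PrimeSpectrum (AdicCompletion (I.map (algebraMap A (Localization.AtPrime q.asIdeal))) (Localization.AtPrime q.asIdeal)), p' ≤ q' → (I.map (algebraMap A (AdicCompletion (I.map (algebraMap A (Localization.AtPrime q.asIdeal))) (Localization.AtPrime q.asIdeal)))) ≤ q'.asIdeal → q'.asIdeal.IsMaximal) → (s : ℕ∞) < LocCoh.depth (Localization.AtPrime p'.asIdeal) (LocalizedModule p'.asIdeal.primeCompl (AdicCompletion (I.map (algebraMap A (Localization.AtPrime q.asIdeal))) (LocalizedModule q.asIdeal.primeCompl M)))) : (∃ ω' : Dual.D (AdicCompletion I A), Dual.IsDualizing (AdicCompletion I A) ω') ∧ LocCoh.CdLE (AdicCompletion I A) (I.map (algebraMap A (AdicCompletion I A))) d ∧ (∀ p r q : PrimeSpectrum (AdicCompletion I A), p ≤ r → r ≤ q → ¬ (I.map (algebraMap A (AdicCompletion I A))) ≤ p.asIdeal → (I.map (algebraMap A (AdicCompletion I A))) ≤ r.asIdeal → r ∉ ((PrimeSpectrum.comap (algebraMap A (AdicCompletion I A))) ⁻¹' T) → q ∈ ((PrimeSpectrum.comap (algebraMap A (AdicCompletion I A))) ⁻¹' T) → (s : ℕ∞)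 ≤ LocCoh.depth (Localization.AtPrime p.asIdeal) (LocalizedModule p.asIdeal.primeCompl (AdicCompletion I M)) ∨ ((d + s : ℕ) : WithBot ℕ∞) < (LocCoh.depth (Localization.AtPrime p.asIdeal) (LocalizedModule p.asIdeal.primeCompl (AdicCompletion I M)) : WithBot ℕ∞) + Formal2.dimBetween (AdicCompletion I A) p.asIdeal q.asIdeal) ∧ (∀ q : PrimeSpectrum (AdicCompletion I A), q ∈ ((PrimeSpectrum.comap (algebraMap A (AdicCompletion I A))) ⁻¹' T) → ∀ p' : PrimeSpectrum (AdicCompletion ((I.map (algebraMap A (AdicCompletion I A))).map (algebraMap (AdicCompletion I A) (Localization.AtPrime q.asIdeal))) (Localization.AtPrime q.asIdeal)), ¬ ((I.map (algebraMap A (AdicCompletion I A))).map (algebraMap (AdicCompletion I A) (AdicCompletion ((I.map (algebraMap A (AdicCompletion I A))).map (algebraMap (AdicCompletion I A) (Localization.AtPrime q.asIdeal))) (Localization.AtPrime q.asIdeal)))) ≤ p'.asIdeal → (∀ q' : PrimeSpectrum (AdicCompletion ((I.map (algebraMap A (AdicCompletion I A))).map (algebraMap (AdicCompletion I A) (Localization.AtPrime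 q.asIdeal))) (Localization.AtPrime q.asIdeal)), p' ≤ q' → ((I.map (algebraMap A (AdicCompletion I A))).map (algebraMap (AdicCompletion I A) (AdicCompletion ((I.map (algebraMap A (AdicCompletion I A))).map (algebraMap (AdicCompletion I A) (Localization.AtPrime q.asIdeal))) (Localization.AtPrime q.asIdeal)))) ≤ q'.asIdeal → q'.asIdeal.IsMaximal) → (s : ℕ∞) < LocCoh.depth (Localization.AtPrime p'.asIdeal) (LocalizedModule p'.asIdeal.primeCompl (AdicCompletion ((I.map (algebraMap A (AdicCompletion I A))).map (algebraMap (AdicCompletion I A) (Localization.AtPrime q.asIdeal))) (LocalizedModule q.asIdeal.primeCompl (AdicCompletion I M))))) := by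
  refine ⟨?_, Groth.Agent.S8828Aux.cdLE_completion I hcd, ?_, ?_⟩
  · obtain ⟨ω, hω⟩ := hdc
    exact Groth.Agent.S8828Aux.exists_dualizing I hω
  · exact Groth.Agent.S8828Aux.cond4 hdc I d M T s h4
  · exact Groth.Agent.S8828Aux.cond6 I M T hTI s h6

end Groth.Agent.S8828
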