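import Groth.Statements.S8831
import Groth.Agent.H4Punct.Artinian

set_option autoImplicit false
universe u
open CategoryTheory AlgebraicGeometry Opposite
open LocCoh

namespace Groth.Agent.S8831

/-- Let (A, m) be a Noetherian local ring and U = Spec A ∖ {m} the punctured spectrum. Suppose we are
given a system (F_n), indexed inversely by n, of coherent modules on U. In each positive degree i,
the cohomology groups H^i(U, F_n) then form a Mittag-Leffler system; concretely, given any n one can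
find r ≥ n such that for all s ≥ r the image of H^i(U, F_s) → H^i(U, F_n) equals the image of H^i(U,
F_r) → H^i(U, F_n). -/
theorem result (A : Type u) [CommRing A] [IsNoetherianRing A] [IsLocalRing A] (G : ℕᵒᵖ ⥤ (↑(LocCoh.puncturedOpen A (IsLocalRing.maximalIdeal A)) : Scheme.{u}).Modules) (hG : ∀ n : ℕᵒᵖ, Coh.IsCoh (G.obj n)) (i : ℕ) (hi : 0 < i) (n : ℕ) : ∃ (r : ℕ) (hnr : n ≤ r), ∀ (s : ℕ) (hrs : r ≤ s), Set.range (Sheaf.H.map ((SheafOfModules.toSheaf _).map (G.map (homOfLE (hnr.trans hrs : n ≤ s)).op)) i) = Set.range (Sheaf.H.map ((SheafOfModules.toSheaf _).map (G.map (homOfLE (hnr : n ≤ r)).op)) i) := by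
  obtain ⟨q, rfl⟩ := Nat.exists_eq_add_of_le' hi
  let X : Scheme.{u} := ↑(LocCoh.puncturedOpen A (IsLocalRing.maximalIdeal A))
  haveI := Groth.Agent.H4Punct.isArtinian_HH_of_isCoh A (G.obj (op n)) (hG _) q
  let L : ∀ s : ℕ, n ≤ s → (Coh.HH X (G.obj (op s)) (q + 1) →ₗ[A] Coh.HH X (G.obj (op n)) (q + 1)) := fun s h =>
    { toFun := Groth.Agent.LeadFF.Hm (G.map (homOfLE h).op) (q + 1)
      map_add' := map_add _
      map_smul' := fun a x => by
        rw [RingHom.id_apply, ← Groth.Agent.LeadFF.Hm_smulMod, ← Groth.Agent.LeadFF.Hm_smulMod,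
          ← Groth.Agent.LeadFF.Hm_comp, ← Groth.Agent.LeadFF.Hm_comp, Groth.Agent.LeadFF.smulMod_natural] }
  have hmono : ∀ (s t : ℕ) (hs : n ≤ s) (hst : s ≤ t), LinearMap.range (L t (hs.trans hst)) ≤ LinearMap.range (L s hs) := by
    rintro s t hs hst _ ⟨x, rfl⟩
    refine ⟨Groth.Agent.LeadFF.Hm (G.map (homOfLE hst).op) (q + 1) x, ?_⟩
    show Groth.Agent.LeadFF.Hm _ _ (Groth.Agent.LeadFF.Hm _ _ x) = Groth.Agent.LeadFF.Hm _ _ x
    rw [← Groth.Agent.LeadFF.Hm_comp, ← G.map_comp]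
    rfl
  let P : ℕ →o (Submodule A (Coh.HH X (G.obj (op n)) (q + 1)))ᵒᵈ :=
    { toFun := fun k => OrderDual.toDual (LinearMap.range (L (n + k) (Nat.le_add_right n k)))
      monotone' := fun a b h => hmono (n + a) (n + b) (Nat.le_add_right n a) (Nat.add_le_add_left h n) }
  obtain ⟨k, hk⟩ := IsArtinian.monotone_stabilizes P
  refine ⟨n + k, Nat.le_add_right n k, fun s hrs => ?_⟩
  obtain ⟨d, rfl⟩ := Nat.exists_eq_add_of_le hrs
  have e1 : LinearMap.range (L (n + (k + d)) (Nat.le_add_right n (k + d))) = LinearMap.range (L (n + k) (Nat.le_add_right n k)) :=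
    OrderDual.toDual.injective (hk (k + d) (Nat.le_add_right k d)).symm
  have e2 : ∀ (s t : ℕ) (hs : n ≤ s) (ht : n ≤ t), s = t → LinearMap.range (L s hs) = LinearMap.range (L t ht) := by
    rintro s _ hs ht rfl
    rfl
  have e3 := (e2 _ _ ((Nat.le_add_right n k).trans hrs) (Nat.le_add_right n (k + d)) (Nat.add_assoc n k d)).trans e1
  ext z
  exact SetLike.ext_iff.1 e3 z

end Groth.Agent.S8831
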