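import Groth.Statements.S8834
import Mathlib.RingTheory.FiniteType
import Mathlib.RingTheory.Finiteness.Ideal
import Mathlib.RingTheory.Noetherian.Basic

set_option autoImplicit false
set_option linter.style.haveILetI false
universe u
open AdicRing

namespace Groth.Agent.S8834

/-- Let A be a Noetherian ring complete for the adic topology of an ideal I and B a Noetherian ring
complete for the adic topology of an ideal J, with an algebra map A → B sending I into the radical
of J (a continuous homomorphism of adic Noetherian topological rings; the radicals of I and J are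
the ideals of topologically nilpotent elements). Assume B/√J is of finite type over A, equivalently
over A/√I. Then B is topologically of finite type over A: there are b_1, …, b_s ∈ B such that the
A-algebra map A[x_1, …, x_s] → B with x_i ↦ b_i has dense image for the J-adic topology, that is,
for every y ∈ B and every n there is a polynomial whose value at b differs from y by an element of
J^n. -/
theorem result (A : Type u) [CommRing A] [IsNoetherianRing A] (I : Ideal A) [IsAdicComplete I A] (B : Type u) [CommRing B] [Algebra A B] [IsNoetherianRing B] (J : Ideal B) [IsAdicComplete J B] (hIJ : I.map (algebraMap A B) ≤ J.radical) (hft : Algebra.FiniteType A (B ⧸ J.radical)) : ∃ s : ℕ, ∃ b : Fin s → B, ∀ (y : B) (n : ℕ), ∃ p : MvPolynomial (Fin s) A, y - MvPolynomial.aeval b p ∈ J ^ n := by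
  classical
  let R₀ := J.radical
  obtain ⟨s, θ, hθ⟩ := Algebra.FiniteType.iff_quotient_mvPolynomial''.mp hft
  choose y hy using fun i => Ideal.Quotient.mk_surjective (θ (MvPolynomial.X i))
  obtain ⟨l, g, hg⟩ := Submodule.fg_iff_exists_fin_generating_family.mp (IsNoetherian.noetherian R₀)
  let b : Fin (s + l) → B := Fin.append y g
  let S := (MvPolynomial.aeval b : MvPolynomial (Fin (s + l)) A →ₐ[A] B).range
  have hyS : ∀ i, y i ∈ S := fun i => ⟨MvPolynomial.X (Fin.castAdd l i), by simp [b]⟩
  have hgS : ∀ i, g i ∈ S := fun i => ⟨MvPolynomial.X (Fin.natAdd s i), by simp [b]⟩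
  have h0 : ∀ x : B, ∃ p ∈ S, x - p ∈ R₀ := by
    intro x
    obtain ⟨q, hq⟩ := hθ (Ideal.Quotient.mk R₀ x)
    have h2 : θ = (Ideal.Quotient.mkₐ A R₀).comp (MvPolynomial.aeval y) :=
      MvPolynomial.algHom_ext fun i => by rw [AlgHom.comp_apply, MvPolynomial.aeval_X, Ideal.Quotient.mkₐ_eq_mk, hy]
    rw [h2] at hq
    refine ⟨MvPolynomial.aeval y q, ⟨MvPolynomial.rename (Fin.castAdd l) q, ?_⟩, Ideal.Quotient.eq.mp hq.symm⟩
    change MvPolynomial.aeval b (MvPolynomial.rename (Fin.castAdd l) q) = _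
    rw [MvPolynomial.aeval_rename, show b ∘ Fin.castAdd l = y from funext fun i => Fin.append_left _ _ i]
  have h1 : ∀ r ∈ R₀, ∃ p ∈ S, p ∈ R₀ ∧ r - p ∈ R₀ ^ 2 := by
    intro r hr
    rw [← hg, Submodule.mem_span_range_iff_exists_fun] at hr
    obtain ⟨c, rfl⟩ := hr
    choose q hqS hq using fun i => h0 (c i)
    refine ⟨∑ i, q i * g i, S.sum_mem fun i _ => S.mul_mem (hqS i) (hgS i), R₀.sum_mem fun i _ =>
      R₀.mul_mem_left _ (hg ▸ Submodule.subset_span ⟨i, rfl⟩), ?_⟩
    rw [← Finset.sum_sub_distrib]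
    refine Submodule.sum_mem _ fun i _ => ?_
    rw [smul_eq_mul, ← sub_mul, pow_two]
    exact Ideal.mul_mem_mul (hq i) (hg ▸ Submodule.subset_span ⟨i, rfl⟩)
  have hm : ∀ (m : ℕ), ∀ r ∈ R₀ ^ m, ∃ p ∈ S, p ∈ R₀ ^ m ∧ r - p ∈ R₀ ^ (m + 1) := by
    intro m
    induction m with
    | zero =>
      intro r _
      obtain ⟨p, hp, h⟩ := h0 r
      exact ⟨p, hp, by simp, by simpa using h⟩
    | succ m ih =>
      intro r hr
      rw [pow_succ] at hr
      refine Submodule.mul_induction_on hr (fun u hu v hv => ?_) ?_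
      · obtain ⟨p, hp, hpm, hup⟩ := ih u hu
        obtain ⟨q, hq, hq1, hvq⟩ := h1 v hv
        refine ⟨p * q, S.mul_mem hp hq, by rw [pow_succ]; exact Ideal.mul_mem_mul hpm hq1, ?_⟩
        rw [show u * v - p * q = (u - p) * v + p * (v - q) by ring]
        refine add_mem ?_ ?_
        · rw [pow_succ]; exact Ideal.mul_mem_mul hup hv
        · rw [show m + 1 + 1 = m + 2 by ring, pow_add]; exact Ideal.mul_mem_mul hpm hvq
      · rintro u v ⟨p, hp, hpm, hup⟩ ⟨q, hq, hqm, hvq⟩
        exact ⟨p + q, S.add_mem hp hq, add_mem hpm hqm, by rw [add_sub_add_comm]; exact add_mem hup hvq⟩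
  have hall : ∀ (m : ℕ) (x : B), ∃ p ∈ S, x - p ∈ R₀ ^ m := by
    intro m
    induction m with
    | zero => exact fun x => ⟨0, S.zero_mem, by simp⟩
    | succ m ih =>
      intro x
      obtain ⟨p, hp, hxp⟩ := ih x
      obtain ⟨q, hq, -, h⟩ := hm m _ hxp
      exact ⟨p + q, S.add_mem hp hq, by rwa [← sub_sub]⟩
  obtain ⟨N, hN⟩ := Ideal.exists_radical_pow_le_of_fg J (IsNoetherian.noetherian _)
  refine ⟨s + l, b, fun x n => ?_⟩
  obtain ⟨p, ⟨q, rfl⟩, hxp⟩ := hall (N * n) x
  exact ⟨q, Ideal.pow_right_mono hN n (by rw [← pow_mul]; exact hxp)⟩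

end Groth.Agent.S8834
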