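import Groth.Statements.S8836
import Groth.Agent.H24Adic.RigFinite
import Mathlib.RingTheory.Flat.FaithfullyFlat.Algebra
import Mathlib.RingTheory.Ideal.GoingDown

set_option autoImplicit false
set_option linter.style.haveILetI false
universe u
open AdicRing

namespace Groth.Agent.S8836

/-- Let A be a Noetherian ring complete for the adic topology of an ideal I, and B a Noetherian
A-algebra complete for the IB-adic topology, flat over A, with B/IB of finite type over A (a flat
adic morphism, topologically of finite type, of adic Noetherian topological rings). Let p be a prime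
of A which is rig-closed (I ⊄ p and p maximal among the primes not containing I). The following are
equivalent: (1) the maximal ideal of the local ring A/p lies in the image of Spec(B/√(IB)) →
Spec(A/√I), stated as: some prime Q of B containing IB lies over a maximal ideal of A containing p;
(2) there is a rig-closed prime q of B (IB ⊄ q, q maximal among the primes not containing IB) whose
inverse image in A is p. (The published statement adds that, when these hold, A/p ⊆ B/q is a finite
extension of rings and the residue field of the local ring B/q is finite over A/√I; this is not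
restated here.) -/
theorem result (A : Type u) [CommRing A] [IsNoetherianRing A] (I : Ideal A) [IsAdicComplete I A] (B : Type u) [CommRing B] [Algebra A B] [IsNoetherianRing B] [IsAdicComplete (I.map (algebraMap A B)) B] (hft : Algebra.FiniteType A (B ⧸ (I.map (algebraMap A B)))) [Module.Flat A B] (p : PrimeSpectrum A) (hp : (¬ I ≤ p.asIdeal ∧ ∀ y : PrimeSpectrum A, p ≤ y → ¬ I ≤ y.asIdeal → y = p)) : (∃ Q : PrimeSpectrum B, (I.map (algebraMap A B)) ≤ Q.asIdeal ∧ p.asIdeal ≤ (PrimeSpectrum.comap (algebraMap A B) Q).asIdeal ∧ (PrimeSpectrum.comap (algebraMap A B) Q).asIdeal.IsMaximal) ↔ (∃ q : PrimeSpectrum B, (¬ (I.map (algebraMap A B)) ≤ q.asIdeal ∧ ∀ y : PrimeSpectrum B, q ≤ y → ¬ (I.map (algebraMap A B)) ≤ y.asIdeal → y = q) ∧ PrimeSpectrum.comap (algebraMap A B) q = p) := by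
  constructor
  · rintro ⟨Q, hIQ, hpQ, hmax⟩
    have hlt : p.asIdeal ≤ (Q.asIdeal).comap (algebraMap A B) := hpQ
    haveI : Q.asIdeal.LiesOver ((Q.asIdeal).comap (algebraMap A B)) := ⟨rfl⟩
    obtain ⟨P, hPQ, hPp, hPlo⟩ := Ideal.exists_ideal_le_liesOver_of_le (S := B) (p := p.asIdeal)
      (q := (Q.asIdeal).comap (algebraMap A B)) Q.asIdeal hlt
    haveI := hPp
    have hover : P.comap (algebraMap A B) = p.asIdeal := hPlo.over.symm
    have hP : ¬ I.map (algebraMap A B) ≤ P := fun h => hp.1 (hover ▸ Ideal.map_le_iff_le_comap.mp h)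
    obtain ⟨q, ⟨hq1, hq2⟩, hqmax⟩ := set_has_maximal_iff_noetherian.mpr (inferInstance : IsNoetherianRing B)
      {a : Ideal B | P ≤ a ∧ a.IsPrime ∧ ¬ I.map (algebraMap A B) ≤ a} ⟨P, le_rfl, hPp, hP⟩
    haveI := hq2.1
    refine ⟨⟨q, hq2.1⟩, ⟨hq2.2, fun y hy hyI => ?_⟩, hp.2 _ ?_ ?_⟩
    · refine PrimeSpectrum.ext (le_antisymm ?_ hy)
      by_contra hc
      exact hqmax y.asIdeal ⟨hq1.trans hy, y.2, hyI⟩ (lt_of_le_not_ge hy hc)
    · exact fun a ha => hq1 (show a ∈ P.comap (algebraMap A B) from hover.symm ▸ ha)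
    · exact fun h => hq2.2 (Ideal.map_le_iff_le_comap.mpr h)
  · rintro ⟨q, ⟨hq, hqm⟩, hqp⟩
    obtain ⟨Q, hQ, hqQ⟩ := Ideal.exists_le_maximal q.asIdeal q.2.ne_top
    haveI := hQ.isPrime
    have hIQ : I.map (algebraMap A B) ≤ Q :=
      (IsAdicComplete.le_jacobson_bot _).trans (sInf_le ⟨bot_le, hQ⟩)
    have hle : p ≤ PrimeSpectrum.comap (algebraMap A B) ⟨Q, inferInstance⟩ :=
      hqp ▸ (Ideal.comap_mono hqQ : q.asIdeal.comap (algebraMap A B) ≤ Q.comap (algebraMap A B))
    refine ⟨⟨Q, inferInstance⟩, hIQ, hle, Groth.Agent.H24Adic.isMaximal_of_rigClosed (I := I) p hp.1 hp.2 _ hle ?_⟩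
    exact fun h => hp.1 (h ▸ (Ideal.map_le_iff_le_comap.mp hIQ : I ≤ Q.comap (algebraMap A B)))

end Groth.Agent.S8836
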