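import Groth.Statements.S8837
import Groth.Agent.H24Adic.CompletionNoetherian
import Groth.Agent.H24Adic.CompletionMap
import Mathlib.RingTheory.Localization.Away.Basic

set_option autoImplicit false
set_option linter.style.haveILetI false
universe u
open AdicRing

namespace Groth.Agent.S8837

/-- Let A be a Noetherian ring complete for the adic topology of an ideal I (an adic Noetherian
topological ring), p a prime ideal of A, and f ∈ A an element mapping to a unit in A/p. Let A_{f}
denote the completed principal localization, i.e. the I-adic completion of A_f = A[1/f]. Then the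
ideal p A_{f} generated by p is prime, and the canonical map A/p → A_{f}/p A_{f} is bijective (so p
A_{f} = p ⊗_A A_{f} is the completion of p_f, with quotient A/p). -/
theorem result (A : Type u) [CommRing A] [IsNoetherianRing A] (I : Ideal A) [IsAdicComplete I A] (p : Ideal A) [p.IsPrime] (f : A) (hf : IsUnit (Ideal.Quotient.mk p f)) : (p.map (algebraMap A (AdicCompletion (I.map (algebraMap A (Localization.Away f))) (Localization.Away f)))).IsPrime ∧ Function.Bijective (Ideal.quotientMap (p.map (algebraMap A (AdicCompletion (I.map (algebraMap A (Localization.Away f))) (Localization.Away f)))) (algebraMap A (AdicCompletion (I.map (algebraMap A (Localization.Away f))) (Localization.Away f))) Ideal.le_comap_map) := by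
  classical
  have hI : I.FG := IsNoetherian.noetherian I
  let J := I.map (algebraMap A (Localization.Away f))
  let C := AdicCompletion J (Localization.Away f)
  let P : Ideal C := p.map (algebraMap A C)
  haveI : IsAdicComplete I (A ⧸ p) := Groth.Agent.H24Adic.isAdicComplete_of_finite I
  haveI : IsAdicComplete (I.map (algebraMap A (A ⧸ p))) (A ⧸ p) :=
    (IsAdicComplete.map_algebraMap_iff _ _).2 inferInstance
  let θ : Localization.Away f →ₐ[A] A ⧸ p :=
    { toRingHom := IsLocalization.Away.lift f hf
      commutes' := fun a => IsLocalization.Away.lift_eq f hf a }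
  obtain ⟨ψ, hψ⟩ : ∃ ψ : C →ₐ[A] A ⧸ p, ∀ x, ψ (algebraMap (Localization.Away f) C x) = θ x :=
    Groth.Agent.H24Adic.exists_algHom I θ
  have hbij : Function.Bijective (Ideal.quotientMap P (algebraMap A C) Ideal.le_comap_map) := by
    constructor
    · rw [injective_iff_map_eq_zero]
      intro z hz
      obtain ⟨a, rfl⟩ := Ideal.Quotient.mk_surjective z
      rw [Ideal.quotientMap_mk, Ideal.Quotient.eq_zero_iff_mem] at hz
      have h := Ideal.mem_map_of_mem ψ.toRingHom hz
      have hP0 : P.map ψ.toRingHom = ⊥ := by
        rw [Ideal.map_map, Ideal.map_eq_bot_iff_le_ker]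
        intro b hb
        rw [RingHom.mem_ker, RingHom.comp_apply]
        exact (ψ.commutes b).trans (Ideal.Quotient.eq_zero_iff_mem.mpr hb)
      rw [hP0, Ideal.mem_bot] at h
      exact (ψ.commutes a).symm.trans h
    · haveI hC : IsAdicComplete (J.map (algebraMap (Localization.Away f) C)) C :=
        AdicCompletion.isAdicComplete_self _ (hI.map _)
      haveI : IsNoetherianRing C := Groth.Agent.H24Adic.isNoetherianRing_adicCompletion J
      haveI : IsHausdorff (J.map (algebraMap (Localization.Away f) C)) (C ⧸ P) :=
        (Groth.Agent.H24Adic.isAdicComplete_of_finite (J.map (algebraMap (Localization.Away f) C))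
          (M := C ⧸ P)).toIsHausdorff
      haveI : IsHausdorff I (C ⧸ P) := by
        refine (IsHausdorff.map_algebraMap_iff (I := I) (S := C) (M := C ⧸ P)).mp ?_
        rw [show I.map (algebraMap A C) = J.map (algebraMap (Localization.Away f) C) from by
          rw [Ideal.map_map, ← IsScalarTower.algebraMap_eq]]
        infer_instance
      have key : Function.Surjective (Algebra.linearMap A (C ⧸ P)) := by
        refine surjective_of_mkQ_comp_surjective (I := I) fun z => ?_
        obtain ⟨w, rfl⟩ := Submodule.mkQ_surjective _ z
        obtain ⟨x, rfl⟩ := Ideal.Quotient.mk_surjective w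
        obtain ⟨u, hu⟩ := Groth.Agent.H24Adic.exists_sub_of_mem (hI.map (algebraMap A (Localization.Away f))) 1 x
        obtain ⟨a, ⟨_, n, rfl⟩, rfl⟩ := IsLocalization.exists_mk'_eq (Submonoid.powers f) u
        obtain ⟨b, hb⟩ := Ideal.Quotient.mk_surjective (hf.unit⁻¹ : (A ⧸ p)ˣ).1
        refine ⟨a * b ^ n, (Submodule.Quotient.eq _).mpr ?_⟩
        rw [Ideal.smul_top_eq_map, Submodule.restrictScalars_mem,
          show Algebra.linearMap A (C ⧸ P) (a * b ^ n) = Ideal.Quotient.mk P (algebraMap A C (a * b ^ n)) from rfl,
          ← map_sub, show algebraMap A (C ⧸ P) = (Ideal.Quotient.mk P).comp (algebraMap A C) from rfl, ← Ideal.map_map]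
        let y := IsLocalization.mk' (Localization.Away f) a (⟨f ^ n, n, rfl⟩ : Submonoid.powers f)
        have hy : algebraMap A C (a * b ^ n) - algebraMap (Localization.Away f) C y ∈ P := by
          have h1 : a * b ^ n * f ^ n - a ∈ p := by
            rw [← Ideal.Quotient.eq_zero_iff_mem, map_sub, map_mul, map_mul, map_pow, map_pow, hb, mul_assoc, ← mul_pow,
              IsUnit.val_inv_mul, one_pow, mul_one, sub_self]
          have h2 : algebraMap A (Localization.Away f) (a * b ^ n) - y ∈ p.map (algebraMap A (Localization.Away f)) := by
            have hu : IsUnit (algebraMap A (Localization.Away f) (f ^ n)) :=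
              IsLocalization.map_units (M := Submonoid.powers f) _ ⟨f ^ n, n, rfl⟩
            rw [← Ideal.mul_unit_mem_iff_mem _ hu, sub_mul, ← map_mul]
            rw [show y * algebraMap A (Localization.Away f) (f ^ n) = algebraMap A _ a from
              IsLocalization.mk'_spec (Localization.Away f) a (⟨f ^ n, n, rfl⟩ : Submonoid.powers f), ← map_sub]
            exact Ideal.mem_map_of_mem _ h1
          have h3 := Ideal.mem_map_of_mem (algebraMap (Localization.Away f) C) h2
          rw [map_sub, Ideal.map_map, ← IsScalarTower.algebraMap_eq, ← IsScalarTower.algebraMap_apply] at h3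
          exact h3
        have h4 : x - algebraMap (Localization.Away f) C y ∈ I.map (algebraMap A C) := by
          rw [pow_one, Ideal.map_map, ← IsScalarTower.algebraMap_eq] at hu
          exact hu
        rw [show Ideal.Quotient.mk P (algebraMap A C (a * b ^ n) - x) =
          Ideal.Quotient.mk P (algebraMap (Localization.Away f) C y - x) from Ideal.Quotient.eq.mpr (by
            rw [sub_sub_sub_cancel_right]; exact hy)]
        exact Ideal.mem_map_of_mem _ (by rw [← neg_mem_iff, neg_sub]; exact h4)
      intro z
      obtain ⟨a, ha⟩ := key z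
      exact ⟨Ideal.Quotient.mk p a, ha⟩
  refine ⟨?_, hbij⟩
  rw [← Ideal.Quotient.isDomain_iff_prime]
  exact (RingEquiv.ofBijective _ hbij).symm.toMulEquiv.isDomain (A ⧸ p)

end Groth.Agent.S8837
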