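import Groth.Statements.S8838
import Groth.Agent.H24Adic.RigFinite
import Mathlib.RingTheory.Unramified.LocalRing

set_option autoImplicit false
set_option linter.style.haveILetI false
universe u
open AdicRing

namespace Groth.Agent.S8838

/-- Suppose A is a Noetherian ring that is I-adically complete for an ideal I, and B is a Noetherian
A-algebra that is complete with respect to the IB-adic topology, with B/IB of finite type over A (so
A → B is an adic morphism of adic Noetherian topological rings that is topologically of finite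
type). Assume further that A → B is flat and that the induced map A/I → B/IB is étale (with I as the
chosen ideal of definition). Consider a prime q of B that is rig-closed (q does not contain IB, and
q is maximal among primes of B not containing IB), and suppose its preimage p in A is rig-closed as
well (p does not contain I, and p is maximal among primes of A not containing I). Then the extension
of p to the localization B_q equals its maximal ideal, that is, p B_q = q B_q. -/
theorem result (A : Type u) [CommRing A] [IsNoetherianRing A] (I : Ideal A) [IsAdicComplete I A] (B : Type u) [CommRing B] [Algebra A B] [IsNoetherianRing B] [IsAdicComplete (I.map (algebraMap A B)) B] (hft : Algebra.FiniteType A (B ⧸ (I.map (algebraMap A B)))) [Module.Flat A B] [Algebra.Etale (A ⧸ I) (B ⧸ (I.map (algebraMap A B)))] (q : PrimeSpectrum B) (hq : (¬ (I.map (algebraMap A B)) ≤ q.asIdeal ∧ ∀ y : PrimeSpectrum B, q ≤ y → ¬ (I.map (algebraMap A B)) ≤ y.asIdeal → y = q)) (hp : (¬ I ≤ (PrimeSpectrum.comap (algebraMap A B) q).asIdeal ∧ ∀ y : PrimeSpectrum A, (PrimeSpectrum.comap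 (algebraMap A B) q) ≤ y → ¬ I ≤ y.asIdeal → y = (PrimeSpectrum.comap (algebraMap A B) q))) : ((PrimeSpectrum.comap (algebraMap A B) q).asIdeal.map (algebraMap A B)).map (algebraMap B (Localization.AtPrime q.asIdeal)) = IsLocalRing.maximalIdeal (Localization.AtPrime q.asIdeal) := by
  haveI : Algebra.FormallyUnramified A (A ⧸ I) :=
    Algebra.FormallyUnramified.of_surjective (Ideal.Quotient.mkₐ A I) Ideal.Quotient.mk_surjective
  haveI : IsScalarTower A (A ⧸ I) (B ⧸ I.map (algebraMap A B)) := IsScalarTower.of_algebraMap_eq fun x => rfl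
  haveI : Algebra.FormallyUnramified A (B ⧸ I.map (algebraMap A B)) := Algebra.FormallyUnramified.comp A (A ⧸ I) _
  refine le_antisymm ?_ ?_
  · rw [← Localization.AtPrime.map_eq_maximalIdeal]
    exact Ideal.map_mono Ideal.map_comap_le
  rw [← Localization.AtPrime.map_eq_maximalIdeal, Ideal.map_le_iff_le_comap]
  intro x hx
  let p := PrimeSpectrum.comap (algebraMap A B) q
  let D := B ⧸ p.asIdeal.map (algebraMap A B)
  haveI : Module.Finite A D := Groth.Agent.H24Adic.finite_quotient_map_of_unramified hft p hp.1 hp.2
  haveI : Algebra.FormallyUnramified A (D ⧸ I.map (algebraMap A D)) := by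
    refine Algebra.FormallyUnramified.of_surjective (Ideal.Quotient.liftₐ (I.map (algebraMap A B))
      ((Ideal.Quotient.mkₐ A (I.map (algebraMap A D))).comp (Ideal.Quotient.mkₐ A _)) fun a ha => ?_) fun y => ?_
    · refine Ideal.Quotient.eq_zero_iff_mem.mpr ?_
      rw [IsScalarTower.algebraMap_eq A B D, ← Ideal.map_map]
      exact Ideal.mem_map_of_mem _ ha
    · obtain ⟨z, rfl⟩ := Ideal.Quotient.mk_surjective y
      obtain ⟨w, rfl⟩ := Ideal.Quotient.mk_surjective z
      exact ⟨Ideal.Quotient.mk _ w, rfl⟩
  haveI : Algebra.FormallyUnramified A D :=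
    Groth.Agent.H24Adic.formallyUnramified_of_finite I D (IsAdicComplete.le_jacobson_bot I)
  let q' : Ideal D := q.asIdeal.map (Ideal.Quotient.mk (p.asIdeal.map (algebraMap A B)))
  have hker : p.asIdeal.map (algebraMap A B) ≤ q.asIdeal := Ideal.map_comap_le
  haveI : q'.IsPrime := Ideal.map_isPrime_of_surjective Ideal.Quotient.mk_surjective (by rw [Ideal.mk_ker]; exact hker)
  haveI : q'.LiesOver p.asIdeal := ⟨by
    show p.asIdeal = q'.comap (algebraMap A D)
    rw [IsScalarTower.algebraMap_eq A B D, ← Ideal.comap_comap, Ideal.Quotient.algebraMap_eq,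
      Ideal.comap_map_of_surjective _ Ideal.Quotient.mk_surjective, ← RingHom.ker_eq_comap_bot, Ideal.mk_ker,
      sup_eq_left.mpr hker]
    rfl⟩
  letI : Algebra (Localization.AtPrime p.asIdeal) (Localization.AtPrime q') :=
    (Localization.localRingHom p.asIdeal q' (algebraMap A D) Ideal.LiesOver.over).toAlgebra
  haveI : Localization.AtPrime.IsLiesOverAlgebra p.asIdeal q' := ⟨rfl⟩
  haveI : Algebra.IsUnramifiedAt A q' := Algebra.FormallyUnramified.comp A D _
  have h0 : p.asIdeal.map (algebraMap A (Localization.AtPrime q')) = ⊥ := by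
    rw [IsScalarTower.algebraMap_eq A D (Localization.AtPrime q'), ← Ideal.map_map, IsScalarTower.algebraMap_eq A B D,
      ← Ideal.map_map, Ideal.Quotient.algebraMap_eq, Ideal.map_quotient_self, Ideal.map_bot]
  have hmax := ((Algebra.isUnramifiedAt_iff_map_eq A p.asIdeal q').mp inferInstance).2
  rw [h0, ← Localization.AtPrime.map_eq_maximalIdeal] at hmax
  have hx' : algebraMap D (Localization.AtPrime q') (Ideal.Quotient.mk _ x) = 0 :=
    Ideal.mem_bot.mp (hmax ▸ Ideal.mem_map_of_mem _ (Ideal.mem_map_of_mem _ hx))
  obtain ⟨⟨s, hs⟩, hsx⟩ := (IsLocalization.map_eq_zero_iff q'.primeCompl (Localization.AtPrime q') _).mp hx'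
  obtain ⟨t, rfl⟩ := Ideal.Quotient.mk_surjective s
  have htx : t * x ∈ p.asIdeal.map (algebraMap A B) := Ideal.Quotient.eq_zero_iff_mem.mp hsx
  have ht : t ∉ q.asIdeal := fun h => hs (Ideal.mem_map_of_mem _ h)
  rw [Ideal.mem_comap]
  have hu : IsUnit (algebraMap B (Localization.AtPrime q.asIdeal) t) :=
    IsLocalization.map_units (Localization.AtPrime q.asIdeal) (⟨t, ht⟩ : q.asIdeal.primeCompl)
  exact (Ideal.unit_mul_mem_iff_mem _ hu).mp (map_mul (algebraMap B (Localization.AtPrime q.asIdeal)) t x ▸ Ideal.mem_map_of_mem _ htx)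

end Groth.Agent.S8838
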