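import Groth.Statements.S8839
import Groth.Agent.H24Adic.CompletionRig

set_option autoImplicit false
set_option linter.style.haveILetI false
universe u
open AdicRing

namespace Groth.Agent.S8839

/-- Let A be a Noetherian ring complete for the adic topology of an ideal I, n a natural number, and
A{x_1, …, x_n} the restricted power series ring, i.e. the I-adic completion of the polynomial ring
A[x_1, …, x_n]. Let q be a prime ideal of A{x_1, …, x_n}, q' its inverse image in A[x_1, …, x_n] and
p its inverse image in A. Assume q is rig-closed (the extension of I is not contained in q and q is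
maximal among such primes) and p is rig-closed in A (I ⊄ p, p maximal among the primes not
containing I). Then the local homomorphism A[x_1, …, x_n]_{q'} → A{x_1, …, x_n}_q induces an
isomorphism on completions with respect to the maximal ideals; stated as: for every m ≥ 1 the
induced map on quotients by the m-th powers of the maximal ideals is injective and surjective. -/
theorem result (A : Type u) [CommRing A] [IsNoetherianRing A] (I : Ideal A) [IsAdicComplete I A] (n : ℕ) (q : PrimeSpectrum (AdicCompletion (I.map (algebraMap A (MvPolynomial (Fin n) A))) (MvPolynomial (Fin n) A))) (hq : (¬ (I.map (algebraMap A (AdicCompletion (I.map (algebraMap A (MvPolynomial (Fin n) A))) (MvPolynomial (Fin n) A)))) ≤ q.asIdeal ∧ ∀ y : PrimeSpectrum (AdicCompletion (I.map (algebraMap A (MvPolynomial (Fin n) A))) (MvPolynomial (Fin n) A)), q ≤ y → ¬ (I.map (algebraMap A (AdicCompletion (I.map (algebraMap A (MvPolynomial (Fin n) A))) (MvPolynomial (Fin n) A)))) ≤ y.asIdeal → y = q)) (hp : (¬ I ≤ (PrimeSpectrum.comap (algebraMap A (AdicCompletion (I.map (algebraMap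 A (MvPolynomial (Fin n) A))) (MvPolynomial (Fin n) A))) q).asIdeal ∧ ∀ y : PrimeSpectrum A, (PrimeSpectrum.comap (algebraMap A (AdicCompletion (I.map (algebraMap A (MvPolynomial (Fin n) A))) (MvPolynomial (Fin n) A))) q) ≤ y → ¬ I ≤ y.asIdeal → y = (PrimeSpectrum.comap (algebraMap A (AdicCompletion (I.map (algebraMap A (MvPolynomial (Fin n) A))) (MvPolynomial (Fin n) A))) q))) (m : ℕ) (hm : 1 ≤ m) : (∀ x : (Localization.AtPrime (PrimeSpectrum.comap (algebraMap (MvPolynomial (Fin n) A) (AdicCompletion (I.map (algebraMap A (MvPolynomial (Fin n) A))) (MvPolynomial (Fin n) A))) q).asIdeal), (Localization.localRingHom (PrimeSpectrum.comap (algebraMap (MvPolynomial (Fin n) A) (AdicCompletion (I.map (algebraMap A (MvPolynomial (Fin n) A))) (MvPolynomial (Fin n) A))) q).asIdeal q.asIdeal (algebraMap (MvPolynomial (Fin n) A) (AdicCompletion (I.map (algebraMap A (MvPolynomial (Fin n) A))) (MvPolynomial (Fin n) A))) rfl) x ∈ (IsLocalRing.maximalIdeal (Localization.AtPrime q.asIdeal)) ^ m → x ∈ (IsLocalRing.maximalIdeal (Localization.AtPrime (PrimeSpectrum.comap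 (algebraMap (MvPolynomial (Fin n) A) (AdicCompletion (I.map (algebraMap A (MvPolynomial (Fin n) A))) (MvPolynomial (Fin n) A))) q).asIdeal)) ^ m) ∧ (∀ y : (Localization.AtPrime q.asIdeal), ∃ x : (Localization.AtPrime (PrimeSpectrum.comap (algebraMap (MvPolynomial (Fin n) A) (AdicCompletion (I.map (algebraMap A (MvPolynomial (Fin n) A))) (MvPolynomial (Fin n) A))) q).asIdeal), y - (Localization.localRingHom (PrimeSpectrum.comap (algebraMap (MvPolynomial (Fin n) A) (AdicCompletion (I.map (algebraMap A (MvPolynomial (Fin n) A))) (MvPolynomial (Fin n) A))) q).asIdeal q.asIdeal (algebraMap (MvPolynomial (Fin n) A) (AdicCompletion (I.map (algebraMap A (MvPolynomial (Fin n) A))) (MvPolynomial (Fin n) A))) rfl) x ∈ (IsLocalRing.maximalIdeal (Localization.AtPrime q.asIdeal)) ^ m) := by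
  haveI := Groth.Agent.H24Adic.isAdicComplete_cpl (I := I) (P := MvPolynomial (Fin n) A)
  haveI : IsNoetherianRing (AdicCompletion (I.map (algebraMap A (MvPolynomial (Fin n) A))) (MvPolynomial (Fin n) A)) :=
    Groth.Agent.H24Adic.isNoetherianRing_adicCompletion _
  let P := MvPolynomial (Fin n) A
  let B := Groth.Agent.H24Adic.Cpl I P
  haveI : Module.Finite A (B ⧸ q.asIdeal) :=
    Groth.Agent.H24Adic.finite_quotient_of_rigClosed (I := I) (Groth.Agent.H24Adic.finiteType_cpl_quotient (I := I) (P := P)) q hq.1 hq.2 hp.1 hp.2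
  let q' : Ideal P := q.asIdeal.comap (algebraMap P B)
  let f : Localization.AtPrime q' →+* Localization.AtPrime q.asIdeal := Localization.localRingHom q' q.asIdeal (algebraMap P B) rfl
  have hap : ∀ a : P, f (algebraMap P _ a) = algebraMap B _ (algebraMap P B a) := fun a => Localization.localRingHom_to_map _ _ _ _ a
  refine ⟨fun x hx => ?_, fun y => ?_⟩
  · obtain ⟨a, s, rfl⟩ := IsLocalization.exists_mk'_eq q'.primeCompl (S := Localization.AtPrime q') x
    have h1 : algebraMap B (Localization.AtPrime q.asIdeal) (algebraMap P B a) ∈ (q.asIdeal ^ m).map (algebraMap B _) := by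
      rw [Ideal.map_pow, Localization.AtPrime.map_eq_maximalIdeal, ← hap, ← IsLocalization.mk'_spec (Localization.AtPrime q') a s, map_mul]
      exact Ideal.mul_mem_right _ _ hx
    obtain ⟨t, ht, hta⟩ := (IsLocalization.algebraMap_mem_map_algebraMap_iff q.asIdeal.primeCompl _ _ _).mp h1
    obtain ⟨t', ht'⟩ := Groth.Agent.H24Adic.exists_sub_algebraMap_mem_pow (I := I) q.asIdeal m t
    have htq : t' ∉ q' := fun h => ht (by
      have := Ideal.pow_le_self (Nat.one_le_iff_ne_zero.mp hm) ht'
      have h2 := q.asIdeal.add_mem this h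
      rwa [sub_add_cancel] at h2)
    have hmem : algebraMap P B (t' * a) ∈ q.asIdeal ^ m := by
      have e : algebraMap P B (t' * a) = t * algebraMap P B a - (t - algebraMap P B t') * algebraMap P B a := by
        rw [map_mul]; ring
      rw [e]
      exact sub_mem hta (Ideal.mul_mem_right _ _ ht')
    have hP := Groth.Agent.H24Adic.mem_pow_of_algebraMap_mem (I := I) q.asIdeal m _ hmem
    have h2 : algebraMap P (Localization.AtPrime q') a ∈ (q' ^ m).map (algebraMap P _) :=
      (IsLocalization.algebraMap_mem_map_algebraMap_iff q'.primeCompl _ _ _).mpr ⟨t', htq, hP⟩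
    rw [Ideal.map_pow, Localization.AtPrime.map_eq_maximalIdeal] at h2
    have hu : IsUnit (algebraMap P (Localization.AtPrime q') s) := IsLocalization.map_units _ s
    refine (Ideal.unit_mul_mem_iff_mem _ hu).mp ?_
    rw [mul_comm, IsLocalization.mk'_spec]
    exact h2
  · obtain ⟨b, t, rfl⟩ := IsLocalization.exists_mk'_eq q.asIdeal.primeCompl (S := Localization.AtPrime q.asIdeal) y
    obtain ⟨b', hb⟩ := Groth.Agent.H24Adic.exists_sub_algebraMap_mem_pow (I := I) q.asIdeal m b
    obtain ⟨t', ht⟩ := Groth.Agent.H24Adic.exists_sub_algebraMap_mem_pow (I := I) q.asIdeal m (t : B)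
    have htq : t' ∉ q' := fun h => t.2 (by
      have := Ideal.pow_le_self (Nat.one_le_iff_ne_zero.mp hm) ht
      have h2 := q.asIdeal.add_mem this h
      rwa [sub_add_cancel] at h2)
    refine ⟨IsLocalization.mk' (Localization.AtPrime q') b' (⟨t', htq⟩ : q'.primeCompl), ?_⟩
    have hu : IsUnit (algebraMap B (Localization.AtPrime q.asIdeal) t) := IsLocalization.map_units _ t
    have hu' : IsUnit (algebraMap B (Localization.AtPrime q.asIdeal) (algebraMap P B t')) :=
      IsLocalization.map_units _ (⟨algebraMap P B t', htq⟩ : q.asIdeal.primeCompl)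
    refine (Ideal.unit_mul_mem_iff_mem _ hu).mp ((Ideal.unit_mul_mem_iff_mem _ hu').mp ?_)
    have e2 : f (IsLocalization.mk' _ b' (⟨t', htq⟩ : q'.primeCompl)) * algebraMap B _ (algebraMap P B t') = algebraMap B _ (algebraMap P B b') := by
      rw [← hap, ← hap, ← map_mul, IsLocalization.mk'_spec]
    have e1 : IsLocalization.mk' (Localization.AtPrime q.asIdeal) b t * algebraMap B _ (t : B) = algebraMap B _ b :=
      IsLocalization.mk'_spec _ b t
    have e3 : algebraMap B (Localization.AtPrime q.asIdeal) (algebraMap P B t') * (algebraMap B _ (t : B) *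
        (IsLocalization.mk' _ b t - f (IsLocalization.mk' _ b' (⟨t', htq⟩ : q'.primeCompl)))) =
        algebraMap B _ ((b - algebraMap P B b') * algebraMap P B t' - algebraMap P B b' * ((t : B) - algebraMap P B t')) := by
      simp only [map_sub, map_mul]
      linear_combination (algebraMap B (Localization.AtPrime q.asIdeal) (algebraMap P B t')) * e1 - (algebraMap B (Localization.AtPrime q.asIdeal) (t : B)) * e2
    show algebraMap B (Localization.AtPrime q.asIdeal) (algebraMap P B t') * (algebraMap B _ (t : B) *
        (IsLocalization.mk' _ b t - f (IsLocalization.mk' _ b' (⟨t', htq⟩ : q'.primeCompl)))) ∈ _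
    rw [e3, ← Localization.AtPrime.map_eq_maximalIdeal, ← Ideal.map_pow]
    exact Ideal.mem_map_of_mem _ (sub_mem (Ideal.mul_mem_right _ _ hb) (Ideal.mul_mem_left _ _ ht))

end Groth.Agent.S8839
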