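import Groth.Statements.S8840
import Groth.Agent.H24Adic.CompletionRig

set_option autoImplicit false
set_option linter.style.haveILetI false
universe u
open AdicRing

namespace Groth.Agent.S8840

/-- Let A be a Noetherian ring complete for the adic topology of an ideal I, and B a Noetherian
A-algebra complete for the IB-adic topology with B/IB of finite type over A (an adic morphism,
topologically of finite type, of adic Noetherian topological rings). Let q be a prime of B which is
rig-closed (IB ⊄ q and q maximal among the primes not containing IB). Then there exists f ∈ A which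
maps to a unit in B/q such that the following holds. Let A_{f} and B_{f} be the completed principal
localizations (the I-adic completions of A_f and B_f) and ψ : A_{f} → B_{f} the canonical map,
characterised here as any ring map compatible with A_f → B_f (there is exactly one). Then the
inverse image p' under ψ of the ideal q' = q B_{f} is a rig-closed prime of A_{f}: p' is prime, I
A_{f} ⊄ p', and p' is maximal among the primes of A_{f} not containing I A_{f}. (That q B_{f} is
itself prime with quotient B/q holds because f is a unit modulo q; it is not restated.) -/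
theorem result (A : Type u) [CommRing A] [IsNoetherianRing A] (I : Ideal A) [IsAdicComplete I A] (B : Type u) [CommRing B] [Algebra A B] [IsNoetherianRing B] [IsAdicComplete (I.map (algebraMap A B)) B] (hft : Algebra.FiniteType A (B ⧸ (I.map (algebraMap A B)))) (q : PrimeSpectrum B) (hq : (¬ (I.map (algebraMap A B)) ≤ q.asIdeal ∧ ∀ y : PrimeSpectrum B, q ≤ y → ¬ (I.map (algebraMap A B)) ≤ y.asIdeal → y = q)) : ∃ f : A, IsUnit (Ideal.Quotient.mk q.asIdeal (algebraMap A B f)) ∧ ∀ ψ : (AdicCompletion (I.map (algebraMap A (Localization.Away f))) (Localization.Away f)) →+* (AdicCompletion ((I.map (algebraMap A B)).map (algebraMap B (Localization.Away (algebraMap A B f)))) (Localization.Away (algebraMap A B f))), ψ.comp (algebraMap (Localization.Away f) (AdicCompletion (I.map (algebraMap A (Localization.Away f))) (Localization.Away f))) = (algebraMap (Localization.Away (algebraMap A B f)) (AdicCompletion ((I.map (algebraMap A B)).map (algebraMap B (Localization.Away (algebraMap A B f)))) (Localization.Away (algebraMap A B f)))).comp (Localization.awayMap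 (algebraMap A B) f) → (((q.asIdeal.map (algebraMap B (AdicCompletion ((I.map (algebraMap A B)).map (algebraMap B (Localization.Away (algebraMap A B f)))) (Localization.Away (algebraMap A B f))))).comap ψ).IsPrime ∧ ¬ (I.map (algebraMap A (AdicCompletion (I.map (algebraMap A (Localization.Away f))) (Localization.Away f)))) ≤ ((q.asIdeal.map (algebraMap B (AdicCompletion ((I.map (algebraMap A B)).map (algebraMap B (Localization.Away (algebraMap A B f)))) (Localization.Away (algebraMap A B f))))).comap ψ) ∧ ∀ y : PrimeSpectrum (AdicCompletion (I.map (algebraMap A (Localization.Away f))) (Localization.Away f)), ((q.asIdeal.map (algebraMap B (AdicCompletion ((I.map (algebraMap A B)).map (algebraMap B (Localization.Away (algebraMap A B f)))) (Localization.Away (algebraMap A B f))))).comap ψ) ≤ y.asIdeal → ¬ (I.map (algebraMap A (AdicCompletion (I.map (algebraMap A (Localization.Away f))) (Localization.Away f)))) ≤ y.asIdeal → y.asIdeal = ((q.asIdeal.map (algebraMap B (AdicCompletion ((I.map (algebraMap A B)).map (algebraMap B (Localization.Away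 (algebraMap A B f)))) (Localization.Away (algebraMap A B f))))).comap ψ)) := by
  classical
  let D := B ⧸ q.asIdeal
  haveI hDc : IsAdicComplete ((I.map (algebraMap A B)).map (algebraMap B D)) D := Groth.Agent.H24Adic.isAdicComplete_map_quotient q.asIdeal
  haveI hdim : Ring.KrullDimLE 1 D := Ring.krullDimLE_iff.mpr
    (Groth.Agent.H24Adic.rigClosed_quotient q hq.1 hq.2).le
  have hK0 : (I.map (algebraMap A B)).map (algebraMap B D) ≠ ⊥ := fun h => hq.1 (by
    rw [Ideal.map_eq_bot_iff_le_ker, Ideal.Quotient.algebraMap_eq, Ideal.mk_ker] at h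
    exact h)
  obtain ⟨M, hM⟩ := Ideal.exists_maximal D
  haveI := hM
  have hMrad : M = ((I.map (algebraMap A B)).map (algebraMap B D)).radical :=
    Groth.Agent.H24Adic.eq_radical_of_isMaximal _ hK0 M
  letI : Field (D ⧸ M) := Ideal.Quotient.field M
  let C := D ⧸ (I.map (algebraMap A B)).map (algebraMap B D)
  haveI hCft : Algebra.FiniteType A C := by
    refine Algebra.FiniteType.of_surjective (Ideal.Quotient.liftₐ (I.map (algebraMap A B))
      ((Ideal.Quotient.mkₐ A _).comp (Ideal.Quotient.mkₐ A q.asIdeal)) fun a ha => ?_) fun y => ?_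
    · exact Ideal.Quotient.eq_zero_iff_mem.mpr (Ideal.mem_map_of_mem _ ha)
    · obtain ⟨z, rfl⟩ := Ideal.Quotient.mk_surjective y
      obtain ⟨w, rfl⟩ := Ideal.Quotient.mk_surjective z
      exact ⟨Ideal.Quotient.mk _ w, rfl⟩
  have hle : (I.map (algebraMap A B)).map (algebraMap B D) ≤ M := hMrad ▸ Ideal.le_radical
  haveI : Algebra.FiniteType A (D ⧸ M) :=
    Algebra.FiniteType.of_surjective (Ideal.Quotient.factorₐ A hle) (Ideal.Quotient.factor_surjective hle)
  obtain ⟨f, hf0, hfin⟩ := Groth.Agent.H24Adic.exists_finite_away (A := A) (D ⧸ M)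
  have huniq : ∀ N : Ideal D, N.IsMaximal → N = M := fun N hN => by
    haveI := hN
    rw [hMrad]
    exact Groth.Agent.H24Adic.eq_radical_of_isMaximal _ hK0 N
  have hfu : IsUnit (algebraMap B D (algebraMap A B f)) := by
    by_contra hnu
    obtain ⟨N, hN, hfN⟩ := exists_max_ideal_of_mem_nonunits hnu
    exact hf0 (Ideal.Quotient.eq_zero_iff_mem.mpr (huniq N hN ▸ hfN))
  refine ⟨f, hfu, fun ψ hψ => ?_⟩
  let Bl := Localization.Away (algebraMap A B f)
  let Bf := AdicCompletion ((I.map (algebraMap A B)).map (algebraMap B Bl)) Bl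
  let Af := AdicCompletion (I.map (algebraMap A (Localization.Away f))) (Localization.Away f)
  haveI : Algebra.FiniteType B Bl := IsLocalization.finiteType_of_monoid_fg (Submonoid.powers (algebraMap A B f)) Bl
  haveI hBfc : IsAdicComplete ((I.map (algebraMap A B)).map (algebraMap B Bf)) Bf :=
    Groth.Agent.H24Adic.isAdicComplete_cpl (I := I.map (algebraMap A B)) (P := Bl)
  haveI : IsNoetherianRing Bl := IsLocalization.isNoetherianRing (Submonoid.powers (algebraMap A B f)) Bl inferInstance
  haveI : IsNoetherianRing Bf := Groth.Agent.H24Adic.isNoetherianRing_adicCompletion _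
  let gl : Bl →ₐ[B] D := IsLocalization.liftAlgHom (M := Submonoid.powers (algebraMap A B f)) (S := Bl)
    (f := Algebra.ofId B D) (fun y => by
      obtain ⟨k, hk⟩ := y.2
      rw [← hk]
      simpa using hfu.pow k)
  obtain ⟨Φ, hΦ⟩ := Groth.Agent.H24Adic.exists_algHom (I.map (algebraMap A B)) gl
  have hker : q.asIdeal.map (algebraMap B Bf) = RingHom.ker Φ := by
    refine le_antisymm ?_ ?_
    · rw [Ideal.map_le_iff_le_comap]
      intro b hb
      rw [Ideal.mem_comap, RingHom.mem_ker, AlgHom.commutes]
      exact Ideal.Quotient.eq_zero_iff_mem.mpr hb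
    intro z hz
    haveI := Groth.Agent.H24Adic.isHausdorff_quotient (I := I.map (algebraMap A B)) (q.asIdeal.map (algebraMap B Bf))
    refine Ideal.Quotient.eq_zero_iff_mem.mp (IsHausdorff.haus
      (I := (I.map (algebraMap A B)).map (algebraMap B (Bf ⧸ q.asIdeal.map (algebraMap B Bf)))) inferInstance _ fun k => ?_)
    rw [SModEq.sub_mem, sub_zero, smul_eq_mul, Ideal.mul_top, ← Ideal.map_pow,
      IsScalarTower.algebraMap_eq B Bf (Bf ⧸ q.asIdeal.map (algebraMap B Bf)), ← Ideal.map_map]
    obtain ⟨g, hg⟩ := Groth.Agent.H24Adic.exists_sub_mem_pow (I := I.map (algebraMap A B)) (P := Bl) k z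
    obtain ⟨c, s, rfl⟩ := IsLocalization.exists_mk'_eq (Submonoid.powers (algebraMap A B f)) g
    obtain ⟨e, he⟩ := s.2
    obtain ⟨hbar, hh⟩ := hfu.exists_right_inv
    obtain ⟨h, rfl⟩ := Ideal.Quotient.mk_surjective hbar
    have h1 : Φ (algebraMap Bl Bf (IsLocalization.mk' Bl c s)) ∈ ((I.map (algebraMap A B)) ^ k).map (algebraMap B D) := by
      have h3 := Ideal.mem_map_of_mem Φ.toRingHom hg
      rw [Ideal.map_map, show Φ.toRingHom.comp (algebraMap B Bf) = algebraMap B D from Φ.comp_algebraMap] at h3
      have e3 : Φ.toRingHom (z - algebraMap Bl Bf (IsLocalization.mk' Bl c s)) = - Φ (algebraMap Bl Bf (IsLocalization.mk' Bl c s)) := by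
        show Φ (z - _) = _
        rw [map_sub, show Φ z = 0 from hz, zero_sub]
      exact neg_mem_iff.mp (e3 ▸ h3)
    have h2 : Φ (algebraMap Bl Bf (IsLocalization.mk' Bl c s)) = algebraMap B D (c * h ^ e) := by
      rw [hΦ]
      have hspec : gl (IsLocalization.mk' Bl c s) * algebraMap B D (s : B) = algebraMap B D c := by
        rw [← gl.commutes, ← gl.commutes c, ← map_mul, IsLocalization.mk'_spec]
      rw [map_mul, map_pow, ← hspec, ← he]
      simp only [map_pow]
      rw [mul_assoc, ← mul_pow, Ideal.Quotient.algebraMap_eq]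
      rw [show Ideal.Quotient.mk q.asIdeal (algebraMap A B f) * Ideal.Quotient.mk q.asIdeal h = 1 from hh, one_pow, mul_one]
    rw [h2] at h1
    obtain ⟨b, hb, hbe⟩ := (Ideal.mem_map_iff_of_surjective _ Ideal.Quotient.mk_surjective).mp h1
    have hdiff : algebraMap Bl Bf (IsLocalization.mk' Bl c s) - algebraMap B Bf (c * h ^ e) ∈ q.asIdeal.map (algebraMap B Bf) := by
      have hu : IsUnit (algebraMap B Bf (s : B)) := by
        rw [IsScalarTower.algebraMap_apply B Bl Bf]
        exact (IsLocalization.map_units Bl s).map _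
      refine (Ideal.unit_mul_mem_iff_mem _ hu).mp ?_
      have e4 : algebraMap B Bf (s : B) * (algebraMap Bl Bf (IsLocalization.mk' Bl c s) - algebraMap B Bf (c * h ^ e)) =
          algebraMap B Bf (c - (s : B) * (c * h ^ e)) := by
        simp only [map_sub, map_mul, mul_sub]
        congr 1
        rw [IsScalarTower.algebraMap_apply B Bl Bf (s : B), IsScalarTower.algebraMap_apply B Bl Bf c, ← map_mul,
          mul_comm, IsLocalization.mk'_spec]
      rw [e4]
      refine Ideal.mem_map_of_mem _ (Ideal.Quotient.eq_zero_iff_mem.mp ?_)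
      rw [← he]
      simp only [map_sub, map_mul, map_pow]
      rw [mul_comm (Ideal.Quotient.mk q.asIdeal (algebraMap A B f) ^ e), mul_assoc, ← mul_pow, mul_comm (Ideal.Quotient.mk q.asIdeal h),
        show Ideal.Quotient.mk q.asIdeal (algebraMap A B f) * Ideal.Quotient.mk q.asIdeal h = 1 from hh, one_pow, mul_one, sub_self]
    have hb' : algebraMap B Bf (c * h ^ e) - algebraMap B Bf b ∈ q.asIdeal.map (algebraMap B Bf) := by
      rw [← map_sub]
      exact Ideal.mem_map_of_mem _ (Ideal.Quotient.eq.mp hbe.symm)
    have hz' : z = (z - algebraMap Bl Bf (IsLocalization.mk' Bl c s)) + algebraMap B Bf b +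
        ((algebraMap Bl Bf (IsLocalization.mk' Bl c s) - algebraMap B Bf (c * h ^ e)) + (algebraMap B Bf (c * h ^ e) - algebraMap B Bf b)) := by
      ring
    rw [hz', map_add, Ideal.Quotient.eq_zero_iff_mem.mpr (add_mem hdiff hb'), add_zero]
    exact Ideal.mem_map_of_mem _ (add_mem hg (Ideal.mem_map_of_mem _ hb))
  let χ : Af →+* D := Φ.toRingHom.comp ψ
  letI : Algebra Af D := χ.toAlgebra
  have hfrom : ∀ a : A, χ (algebraMap A Af a) = algebraMap A D a := by
    intro a
    show Φ (ψ (algebraMap A Af a)) = _
    have h1 := RingHom.congr_fun hψ (algebraMap A (Localization.Away f) a)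
    simp only [RingHom.comp_apply] at h1
    rw [IsScalarTower.algebraMap_apply A (Localization.Away f) Af, h1]
    erw [hΦ]
    rw [show Localization.awayMap (algebraMap A B) f (algebraMap A (Localization.Away f) a) =
      algebraMap B Bl (algebraMap A B a) from IsLocalization.map_eq _ a, gl.commutes, ← IsScalarTower.algebraMap_apply]
  haveI : IsScalarTower A Af D := IsScalarTower.of_algebraMap_eq fun a => (hfrom a).symm
  haveI : Algebra.FiniteType A (Localization.Away f) := IsLocalization.finiteType_of_monoid_fg (Submonoid.powers f) _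
  haveI hAfc : IsAdicComplete (I.map (algebraMap A Af)) Af :=
    Groth.Agent.H24Adic.isAdicComplete_cpl (I := I) (P := Localization.Away f)
  have hmap : (I.map (algebraMap A Af)).map (algebraMap Af D) = (I.map (algebraMap A B)).map (algebraMap B D) := by
    rw [Ideal.map_map, Ideal.map_map, ← IsScalarTower.algebraMap_eq, ← IsScalarTower.algebraMap_eq]
  haveI : IsHausdorff ((I.map (algebraMap A Af)).map (algebraMap Af D)) D := hmap.symm ▸ hDc.toIsHausdorff
  have hfAf : IsUnit (algebraMap A Af f) := by
    rw [IsScalarTower.algebraMap_apply A (Localization.Away f) Af]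
    exact (IsLocalization.Away.algebraMap_isUnit (S := Localization.Away f) f).map _
  haveI : Module.Finite Af (D ⧸ M) := hfin Af hfAf
  haveI : Algebra.FiniteType A (D ⧸ (I.map (algebraMap A Af)).map (algebraMap Af D)) := hmap.symm ▸ hCft
  haveI : Algebra.FiniteType Af (D ⧸ (I.map (algebraMap A Af)).map (algebraMap Af D)) :=
    Algebra.FiniteType.of_restrictScalars_finiteType A Af _
  haveI : Module.Finite Af ((D ⧸ (I.map (algebraMap A Af)).map (algebraMap Af D)) ⧸
      M.map (Ideal.Quotient.mk ((I.map (algebraMap A Af)).map (algebraMap Af D)))) := by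
    refine Module.Finite.of_surjective (Ideal.Quotient.liftₐ M ((Ideal.Quotient.mkₐ Af _).comp (Ideal.Quotient.mkₐ Af _))
      fun a ha => Ideal.Quotient.eq_zero_iff_mem.mpr (Ideal.mem_map_of_mem _ ha)).toLinearMap fun y => ?_
    obtain ⟨z, rfl⟩ := Ideal.Quotient.mk_surjective y
    obtain ⟨w, rfl⟩ := Ideal.Quotient.mk_surjective z
    exact ⟨Ideal.Quotient.mk _ w, rfl⟩
  haveI : Module.Finite Af D := by
    refine Groth.Agent.H24Adic.finite_of_finite_algebra_quotient (I := I.map (algebraMap A Af))
      (Groth.Agent.H24Adic.finite_of_finite_quotient_nil (M.map (Ideal.Quotient.mk _)) fun x hx => ?_)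
    obtain ⟨w, hw, rfl⟩ := (Ideal.mem_map_iff_of_surjective _ Ideal.Quotient.mk_surjective).mp hx
    obtain ⟨N, hN⟩ := (hMrad ▸ hw : w ∈ ((I.map (algebraMap A B)).map (algebraMap B D)).radical)
    exact ⟨N, by rw [← map_pow]; exact Ideal.Quotient.eq_zero_iff_mem.mpr (hmap.symm ▸ hN)⟩
  haveI : Algebra.IsIntegral Af D := Algebra.IsIntegral.of_finite _ _
  have key := Groth.Agent.H24Adic.ker_rigClosed_of_isIntegral (D := D) (I.map (algebraMap A Af)) (hmap.symm ▸ hK0) fun Z hZ hZ0 => by
    haveI := hdim
    rw [hmap]
    exact (huniq Z ((Ring.krullDimLE_one_iff_of_noZeroDivisors.mp hdim) Z hZ0 hZ)).symm ▸ hle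
  have hcomap : (q.asIdeal.map (algebraMap B Bf)).comap ψ = RingHom.ker (algebraMap Af D) := by
    rw [hker]
    exact Ideal.ext fun x => Iff.rfl
  rw [hcomap]
  exact ⟨RingHom.ker_isPrime _, key.1, key.2⟩

end Groth.Agent.S8840
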