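import Groth.Statements.S8841
import Groth.Agent.H24Adic.RigFibre
import Groth.Agent.S8835

set_option autoImplicit false
set_option linter.style.haveILetI false
universe u
open AdicRing

open Groth.Agent.H24Adic
namespace Groth.Agent.S8841

/-- Let A be a Noetherian ring complete for the adic topology of an ideal I, and B a Noetherian
A-algebra complete for the IB-adic topology with B/IB of finite type over A (an adic morphism,
topologically of finite type, of adic Noetherian topological rings), and assume A/I is a Jacobson
ring. Suppose A → B is naively rig-flat: whenever q is a rig-closed prime of B (IB ⊄ q and q maximal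
among the primes not containing IB), the localization B_q is an A-flat ring. Then A → B is rig-flat:
for every f ∈ A, letting A_{f} and B_{f} be the completed principal localizations (the I-adic
completions of A_f and B_f) and ψ : A_{f} → B_{f} the canonical map, characterised here as any ring
map compatible with A_f → B_f (there is exactly one), the local ring (B_{f})_{q'} is flat over A_{f}
via ψ for every rig-closed prime q' of B_{f} (I B_{f} ⊄ q' and q' maximal among the primes not
containing I B_{f}). (That A_{f} → B_{f} is again adic and topologically of finite type is not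
restated.) -/
theorem result (A : Type u) [CommRing A] [IsNoetherianRing A] (I : Ideal A) [IsAdicComplete I A] (B : Type u) [CommRing B] [Algebra A B] [IsNoetherianRing B] [IsAdicComplete (I.map (algebraMap A B)) B] (hft : Algebra.FiniteType A (B ⧸ (I.map (algebraMap A B)))) (hJ : IsJacobsonRing (A ⧸ I)) (hnaive : ∀ q : PrimeSpectrum B, (¬ (I.map (algebraMap A B)) ≤ q.asIdeal ∧ ∀ y : PrimeSpectrum B, q ≤ y → ¬ (I.map (algebraMap A B)) ≤ y.asIdeal → y = q) → (algebraMap A (Localization.AtPrime q.asIdeal)).Flat) (f : A) (ψ : (AdicCompletion (I.map (algebraMap A (Localization.Away f))) (Localization.Away f)) →+* (AdicCompletion ((I.map (algebraMap A B)).map (algebraMap B (Localization.Away (algebraMap A B f)))) (Localization.Away (algebraMap A B f)))) (hψ : ψ.comp (algebraMap (Localization.Away f) (AdicCompletion (I.map (algebraMap A (Localization.Away f))) (Localization.Away f))) = (algebraMap (Localization.Away (algebraMap A B f)) (AdicCompletion ((I.map (algebraMap A B)).map (algebraMap B (Localization.Away (algebraMap A B f)))) (Localization.Away (algebraMap A B f)))).comp (Localization.awayMap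 (algebraMap A B) f)) (q' : PrimeSpectrum (AdicCompletion ((I.map (algebraMap A B)).map (algebraMap B (Localization.Away (algebraMap A B f)))) (Localization.Away (algebraMap A B f)))) (hq' : (¬ ((((I.map (algebraMap A B))).map (algebraMap B (Localization.Away (algebraMap A B f)))).map (algebraMap (Localization.Away (algebraMap A B f)) (AdicCompletion ((I.map (algebraMap A B)).map (algebraMap B (Localization.Away (algebraMap A B f)))) (Localization.Away (algebraMap A B f))))) ≤ q'.asIdeal ∧ ∀ y : PrimeSpectrum (AdicCompletion ((I.map (algebraMap A B)).map (algebraMap B (Localization.Away (algebraMap A B f)))) (Localization.Away (algebraMap A B f))), q' ≤ y → ¬ ((((I.map (algebraMap A B))).map (algebraMap B (Localization.Away (algebraMap A B f)))).map (algebraMap (Localization.Away (algebraMap A B f)) (AdicCompletion ((I.map (algebraMap A B)).map (algebraMap B (Localization.Away (algebraMap A B f)))) (Localization.Away (algebraMap A B f))))) ≤ y.asIdeal → y = q')) : ((algebraMap (AdicCompletion ((I.map (algebraMap A B)).map (algebraMap B (Localization.Away (algebraMap A B f)))) (Localization.Away (algebraMap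 A B f))) (Localization.AtPrime q'.asIdeal)).comp ψ).Flat := by
  let φ := algebraMap A B
  let Af := CA A I f
  let Bf := CA B (I.map φ) (φ f)
  haveI : IsNoetherianRing Af := isNoetherianRing_CA _
  haveI : IsNoetherianRing Bf := isNoetherianRing_CA _
  haveI : IsAdicComplete (I.map (algebraMap A Af)) Af := isAdicComplete_CA f
  haveI hBc : IsAdicComplete ((I.map φ).map (algebraMap B Bf)) Bf := isAdicComplete_CA (φ f)
  have hmapB : (I.map φ).map (algebraMap B Bf) = I.map (algebraMap A Bf) :=
    (Ideal.map_map φ (algebraMap B Bf)).trans (congrArg (fun g => Ideal.map g I) (IsScalarTower.algebraMap_eq A B Bf).symm)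
  haveI : IsAdicComplete (I.map (algebraMap A Bf)) Bf := hmapB ▸ hBc
  haveI hftBf : Algebra.FiniteType A (Bf ⧸ I.map (algebraMap A Bf)) := hmapB ▸ finiteType_CA_base (I.map φ) (φ f) hft
  have hq'' : RigClosed ((I.map φ).map (algebraMap B Bf)) q' := map_CA (J := I.map φ) (φ f) ▸ hq'
  have hp := Groth.Agent.S8835.result A I Bf hftBf q' (hmapB ▸ hq'') hJ
  haveI hfin : Module.Finite A (Bf ⧸ q'.asIdeal) :=
    ((Groth.Agent.S8829.result A I Bf hftBf q' (hmapB ▸ hq'')).out 1 2 rfl rfl).mp hp
  have hint : ((Ideal.Quotient.mk q'.asIdeal).comp (algebraMap B Bf)).IsIntegral := by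
    refine RingHom.IsIntegral.tower_top φ _ ?_
    rw [RingHom.comp_assoc, ← IsScalarTower.algebraMap_eq A B Bf]
    exact RingHom.IsIntegral.of_finite (RingHom.finite_algebraMap.mpr hfin)
  have hq := rigClosed_comap (algebraMap B Bf) _ q' hq'' hint
  have h1 := hnaive (PrimeSpectrum.comap (algebraMap B Bf) q') hq
  rw [IsScalarTower.algebraMap_eq A B] at h1
  have h2 : ((algebraMap Bf (Localization.AtPrime q'.asIdeal)).comp (algebraMap B Bf)).Flat :=
    (flat_algebraMap_CA (I.map φ) (φ f)).comp (RingHom.flat_algebraMap_iff.mpr (IsLocalization.flat _ q'.asIdeal.primeCompl))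
  have h3 := flat_comp_at_prime φ (algebraMap B Bf) q'.asIdeal h1 h2
  haveI : Algebra.FormallyUnramified A (Af ⧸ I.map (algebraMap A Af)) := formallyUnramified_CA_quotient I f
  haveI : Algebra.FiniteType A (A ⧸ I) := inferInstance
  have hψA := comp_algebraMap_of_compat (J := I) (K := I.map φ) φ f ψ hψ
  refine flat_at_prime_of_unramified I (finiteType_CA_quotient I f) ψ q'.asIdeal ?_ ?_
  · have e : (⟨(q'.asIdeal.comap ψ).comap (algebraMap A Af), inferInstance⟩ : PrimeSpectrum A) = PrimeSpectrum.comap (algebraMap A Bf) q' :=
      PrimeSpectrum.ext (by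
        show (q'.asIdeal.comap ψ).comap (algebraMap A Af) = q'.asIdeal.comap (algebraMap A Bf)
        rw [Ideal.comap_comap, hψA, ← IsScalarTower.algebraMap_eq A B Bf])
    exact e ▸ hp
  · rw [hψA]
    exact h3

end Groth.Agent.S8841
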