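import Groth.Statements.S8842
import Groth.Agent.H24Formal4.Factor
import Groth.Agent.H24Formal4.PhiCoeff

set_option autoImplicit false
set_option linter.style.haveILetI false
universe u
open scoped BigOperators
attribute [local instance] CategoryTheory.Abelian.hasFiniteBiproducts
open Formal2

attribute [-instance] CategoryTheory.catToReflQuiver
attribute [-instance] Groth.Agent.H10Coh.hasFiniteBiproducts_modules
open Groth.Agent

namespace Groth.Agent.S8842

open CategoryTheory CategoryTheory.Limits AlgebraicGeometry Opposite in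
/-- Let A be a Noetherian ring, f_1, …, f_r ∈ A and I = (f_1, …, f_r) with cd(A, I) = 1; let c ≥ 1 and
φ_j : I^c → A be A-linear with x = Σ_j f_j φ_j(x) for x ∈ I^c. Let X be a Noetherian scheme over
Spec A, (F_n) a coherent formal module for I on X (coherent O_X-modules with F_n = F_{n+1}/I^n
F_{n+1}; indices shifted by one) and F = lim F_n, the limit in O_X-modules. Then there is c' ≥ c
with the following property. Write φ_j again for the restrictions to I^{c'} and let Φ be a graded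
A-algebra homomorphism from ⊕_{n ≥ 0} I^{nc'} to A[T_1, …, T_r] with Φ(g) = Σ_j φ_j(g) T_j on I^{c'}
(there is exactly one; encoded by functions Φ_n : A → A[T_1, …, T_r] additive and A-homogeneous on
I^{nc'}, with values homogeneous of degree n, multiplicative across degrees, Φ_0 the structure map,
Φ_1 as prescribed). Then for every n there is a unique map of O_X-modules Φ_{F,n} from the submodule
I^{nc'}F to F[T_1, …, T_r]_n = ⊕_{|e| = n} F (one copy of F for each exponent tuple e of total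
degree n) such that Φ_{F,n}(g s) = Φ_n(g) s for g ∈ I^{nc'} and local sections s of F, i.e.
precomposed with multiplication by g, F → I^{nc'}F, it is the map whose component at T^e is
multiplication by the coefficient of T^e in Φ_n(g); moreover composing Φ_{F,n} with the map
⊕_{|e|=n} F → F which is multiplication by f^e = ∏ f_j^{e_j} on the copy at T^e gives the inclusion
I^{nc'}F → F. -/
theorem result (A : Type u) [CommRing A] [IsNoetherianRing A] (r : ℕ) (f : Fin r → A) (I : Ideal A) (hI : I = Ideal.span (Set.range f)) (h1 : LocCoh.CdLE A I 1) (h0 : ¬ LocCoh.CdLE A I 0) (c : ℕ) (hc : 1 ≤ c) (φ : Fin r → (↥(I ^ c) →ₗ[A] A)) (hφ : ∀ x : ↥(I ^ c), (x : A) = ∑ j, f j * φ j x) (X : Scheme.{u}) [X.Over (Spec (CommRingCat.of A))] [IsNoetherian X] (G : ℕᵒᵖ ⥤ X.Modules) (hG : Formal.IsCohFormal I G) : ∃ c' : ℕ, ∃ hcc' : c ≤ c', ∀ Φ : ℕ → A → MvPolynomial (Fin r) A, ((∀ n : ℕ, ∀ g ∈ I ^ (n * c'), ∀ h ∈ I ^ (n * c'), Φ n (g + h) = Φ n g + Φ n h) ∧ (∀ (n : ℕ) (a :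 A), ∀ g ∈ I ^ (n * c'), Φ n (a * g) = a • Φ n g) ∧ (∀ n : ℕ, ∀ g ∈ I ^ (n * c'), (Φ n g).IsHomogeneous n) ∧ (∀ n m : ℕ, ∀ g ∈ I ^ (n * c'), ∀ h ∈ I ^ (m * c'), Φ (n + m) (g * h) = Φ n g * Φ m h) ∧ (∀ a : A, Φ 0 a = MvPolynomial.C a) ∧ (∀ (g : A) (hg : g ∈ I ^ c'), Φ 1 g = ∑ j, MvPolynomial.C (φ j ⟨g, Ideal.pow_le_pow_right hcc' hg⟩) * MvPolynomial.X j)) → ∀ n : ℕ, ∃ ΦF : (Formal2.idealPowMod I (n * c') (limit G)) ⟶ ⨁ (fun _ : ↥(Finset.Nat.antidiagonalTuple r n) ↦ (limit G)), (∀ g ∈ I ^ (n * c'), ∀ γ : (limit G) ⟶ (Formal2.idealPowMod I (n * c') (limit G)), γ ≫ Formal2.idealPowModι I (n * c') (limit G) = Formal.smulMod A (limit G) g → γ ≫ ΦF = biproduct.lift (fun e : ↥(Finset.Nat.antidiagonalTuple r n) ↦ Formal.smulMod A (limit G) (MvPolynomial.coeff (Finsupp.equivFunOnFinite.symm e.1) (Φ n g)))) ∧ ΦF ≫ biproduct.desc (fun e : ↥(Finset.Nat.antidiagonalTuple r n) ↦ Formal.smulMod A (limit G) (∏ j, f j ^ (e.1 j))) = Formal2.idealPowModι I (n * c') (limit G) ∧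 (∀ ΦF' : (Formal2.idealPowMod I (n * c') (limit G)) ⟶ ⨁ (fun _ : ↥(Finset.Nat.antidiagonalTuple r n) ↦ (limit G)), (∀ g ∈ I ^ (n * c'), ∀ γ : (limit G) ⟶ (Formal2.idealPowMod I (n * c') (limit G)), γ ≫ Formal2.idealPowModι I (n * c') (limit G) = Formal.smulMod A (limit G) g → γ ≫ ΦF' = biproduct.lift (fun e : ↥(Finset.Nat.antidiagonalTuple r n) ↦ Formal.smulMod A (limit G) (MvPolynomial.coeff (Finsupp.equivFunOnFinite.symm e.1) (Φ n g)))) → ΦF' = ΦF) := by
  classical
  have hIfg : I.FG := IsNoetherian.noetherian I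
  obtain ⟨m₀, hm₀⟩ := H24Formal4.exists_limit_vanish hIfg hG
  refine ⟨c + m₀, Nat.le_add_right c m₀, fun Φ hΦ n => ?_⟩
  obtain ⟨hadd, hsmul, hhom, hmul, h00, h11⟩ := hΦ
  have hlinΦ : ∀ {s : ℕ} (a g : Fin s → A), (∀ i, g i ∈ I ^ (n * (c + m₀))) →
      Φ n (∑ i, a i * g i) = ∑ i, a i • Φ n (g i) := by
    intro s a g hg
    have h0 : Φ n 0 = 0 := by
      have := hsmul n 0 0 (zero_mem _)
      rwa [mul_zero, zero_smul] at this
    induction (Finset.univ : Finset (Fin s)) using Finset.induction_on with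
    | empty => simpa using h0
    | insert i t hi ih =>
      rw [Finset.sum_insert hi, Finset.sum_insert hi, hadd n _ (Ideal.mul_mem_left _ _ (hg i)) _
        (Ideal.sum_mem _ fun j _ => Ideal.mul_mem_left _ _ (hg j)), hsmul n _ _ (hg i), ih]
  obtain ⟨ΦF, h1', h2', h3'⟩ := H24Formal4.exists_factor (I := I) (N := n * (c + m₀)) hm₀ (IsNoetherian.noetherian _)
    (ι := ↥(Finset.Nat.antidiagonalTuple r n))
    (fun g e => MvPolynomial.coeff (Finsupp.equivFunOnFinite.symm e.1) (Φ n g))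
    (fun a g hg e => by simp only [hlinΦ a g hg, MvPolynomial.coeff_sum, MvPolynomial.coeff_smul, smul_eq_mul])
    (by
      cases n with
      | zero =>
        refine Or.inr (Or.inl fun g _ e => ?_)
        have he : Finsupp.equivFunOnFinite.symm e.1 = 0 := Finsupp.ext fun i =>
          Nat.le_zero.mp ((Finset.single_le_sum (fun j _ => Nat.zero_le (e.1 j)) (Finset.mem_univ i)).trans_eq
            (Finset.Nat.mem_antidiagonalTuple.mp e.2))
        show MvPolynomial.coeff _ (Φ 0 g) = g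
        rw [h00, he, MvPolynomial.coeff_C, if_pos rfl]
      | succ n =>
        refine Or.inl fun g hg e => ?_
        have h := H24Formal4.coeff_phi_mem (Nat.le_add_right c m₀) φ Φ hadd hmul h11 hg (Finsupp.equivFunOnFinite.symm e.1)
        rwa [Nat.add_sub_cancel_left] at h)
    (fun g hg h hh e => by
      rw [← smul_eq_mul h, ← MvPolynomial.coeff_smul, ← hsmul n h g hg, mul_comm h g, hsmul n g h hh, MvPolynomial.coeff_smul,
        smul_eq_mul])
    (fun e => ∏ j, f j ^ (e.1 j))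
    (fun g hg => by
      rw [← H24Formal4.eval_eq_sum_antidiagonal f _ (hhom n g hg)]
      exact H24Formal4.eval_phi (Nat.le_add_right c m₀) φ Φ hadd hmul h11 h00 hφ n g hg)
  exact ⟨ΦF, h1', h2', h3'⟩

end Groth.Agent.S8842
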