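import Groth.Statements.S8843
import Groth.Agent.H24Adic.RigFlat

set_option autoImplicit false
set_option linter.style.haveILetI false
universe u
open AdicRing

open Groth.Agent.H24Adic
namespace Groth.Agent.S8843

/-- Let A be a Noetherian ring complete for the adic topology of an ideal I, B a Noetherian A-algebra
complete for the IB-adic topology with B/IB of finite type over A, and C a Noetherian B-algebra,
compatibly an A-algebra, complete for the IC-adic topology with C/IC of finite type over B (so A → B
→ C are adic morphisms of adic Noetherian topological rings, topologically of finite type). Assume A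
→ B and B → C are rig-flat, in the following form: for every f ∈ A and the canonical map ψ : A_{f} →
B_{f} of completed principal localizations (the I-adic completions of A_f → B_f; ψ is characterised
as any ring map compatible with A_f → B_f, and there is exactly one), the local ring (B_{f})_q is
flat over A_{f} via ψ for every rig-closed prime q of B_{f} (I B_{f} ⊄ q and q maximal among the
primes not containing I B_{f}); and likewise for B → C with g ∈ B and rig-closed primes of C_{g}.
Then A → C is rig-flat in the same form: for every f ∈ A, every ring map A_{f} → C_{f} compatible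
with A_f → C_f, and every rig-closed prime q of C_{f}, the local ring (C_{f})_q is flat over A_{f}.
(That A → C is again adic and topologically of finite type is not restated.) -/
theorem result (A : Type u) [CommRing A] [IsNoetherianRing A] (I : Ideal A) [IsAdicComplete I A] (B : Type u) [CommRing B] [Algebra A B] [IsNoetherianRing B] [IsAdicComplete (I.map (algebraMap A B)) B] (hftB : Algebra.FiniteType A (B ⧸ (I.map (algebraMap A B)))) (C : Type u) [CommRing C] [Algebra A C] [Algebra B C] [IsScalarTower A B C] [IsNoetherianRing C] [IsAdicComplete (I.map (algebraMap A C)) C] (hftC : Algebra.FiniteType B (C ⧸ (I.map (algebraMap A C)))) (hAB : (∀ f : A, ∀ ψf : (AdicCompletion (I.map (algebraMap A (Localization.Away f))) (Localization.Away f)) →+* (AdicCompletion ((I.map (algebraMap A B)).map (algebraMap B (Localization.Away (algebraMap A B f)))) (Localization.Away (algebraMap A B f))), ψf.comp (algebraMap (Localization.Away f) (AdicCompletion (I.map (algebraMap A (Localization.Away f))) (Localization.Away f))) = (algebraMap (Localization.Away (algebraMap A B f)) (AdicCompletion ((I.map (algebraMap A B)).map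 (algebraMap B (Localization.Away (algebraMap A B f)))) (Localization.Away (algebraMap A B f)))).comp (Localization.awayMap (algebraMap A B) f) → ∀ qf : PrimeSpectrum (AdicCompletion ((I.map (algebraMap A B)).map (algebraMap B (Localization.Away (algebraMap A B f)))) (Localization.Away (algebraMap A B f))), (¬ (((I.map (algebraMap A B)).map (algebraMap B (Localization.Away (algebraMap A B f)))).map (algebraMap (Localization.Away (algebraMap A B f)) (AdicCompletion ((I.map (algebraMap A B)).map (algebraMap B (Localization.Away (algebraMap A B f)))) (Localization.Away (algebraMap A B f))))) ≤ qf.asIdeal ∧ ∀ y : PrimeSpectrum (AdicCompletion ((I.map (algebraMap A B)).map (algebraMap B (Localization.Away (algebraMap A B f)))) (Localization.Away (algebraMap A B f))), qf ≤ y → ¬ (((I.map (algebraMap A B)).map (algebraMap B (Localization.Away (algebraMap A B f)))).map (algebraMap (Localization.Away (algebraMap A B f)) (AdicCompletion ((I.map (algebraMap A B)).map (algebraMap B (Localization.Away (algebraMap A B f)))) (Localization.Away (algebraMap A B f))))) ≤ y.asIdeal → y = qf) → ((algebraMap (AdicCompletion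 ((I.map (algebraMap A B)).map (algebraMap B (Localization.Away (algebraMap A B f)))) (Localization.Away (algebraMap A B f))) (Localization.AtPrime qf.asIdeal)).comp ψf).Flat)) (hBC : (∀ g : B, ∀ ψg : (AdicCompletion ((I.map (algebraMap A B)).map (algebraMap B (Localization.Away g))) (Localization.Away g)) →+* (AdicCompletion (((I.map (algebraMap A B)).map (algebraMap B C)).map (algebraMap C (Localization.Away (algebraMap B C g)))) (Localization.Away (algebraMap B C g))), ψg.comp (algebraMap (Localization.Away g) (AdicCompletion ((I.map (algebraMap A B)).map (algebraMap B (Localization.Away g))) (Localization.Away g))) = (algebraMap (Localization.Away (algebraMap B C g)) (AdicCompletion (((I.map (algebraMap A B)).map (algebraMap B C)).map (algebraMap C (Localization.Away (algebraMap B C g)))) (Localization.Away (algebraMap B C g)))).comp (Localization.awayMap (algebraMap B C) g) → ∀ qg : PrimeSpectrum (AdicCompletion (((I.map (algebraMap A B)).map (algebraMap B C)).map (algebraMap C (Localization.Away (algebraMap B C g)))) (Localization.Away (algebraMap B C g))), (¬ ((((I.map (algebraMap A B)).map (algebraMap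 B C)).map (algebraMap C (Localization.Away (algebraMap B C g)))).map (algebraMap (Localization.Away (algebraMap B C g)) (AdicCompletion (((I.map (algebraMap A B)).map (algebraMap B C)).map (algebraMap C (Localization.Away (algebraMap B C g)))) (Localization.Away (algebraMap B C g))))) ≤ qg.asIdeal ∧ ∀ y : PrimeSpectrum (AdicCompletion (((I.map (algebraMap A B)).map (algebraMap B C)).map (algebraMap C (Localization.Away (algebraMap B C g)))) (Localization.Away (algebraMap B C g))), qg ≤ y → ¬ ((((I.map (algebraMap A B)).map (algebraMap B C)).map (algebraMap C (Localization.Away (algebraMap B C g)))).map (algebraMap (Localization.Away (algebraMap B C g)) (AdicCompletion (((I.map (algebraMap A B)).map (algebraMap B C)).map (algebraMap C (Localization.Away (algebraMap B C g)))) (Localization.Away (algebraMap B C g))))) ≤ y.asIdeal → y = qg) → ((algebraMap (AdicCompletion (((I.map (algebraMap A B)).map (algebraMap B C)).map (algebraMap C (Localization.Away (algebraMap B C g)))) (Localization.Away (algebraMap B C g))) (Localization.AtPrime qg.asIdeal)).comp ψg).Flat)) : (∀ e : A, ∀ ψe : (AdicCompletion (I.map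 (algebraMap A (Localization.Away e))) (Localization.Away e)) →+* (AdicCompletion ((I.map (algebraMap A C)).map (algebraMap C (Localization.Away (algebraMap A C e)))) (Localization.Away (algebraMap A C e))), ψe.comp (algebraMap (Localization.Away e) (AdicCompletion (I.map (algebraMap A (Localization.Away e))) (Localization.Away e))) = (algebraMap (Localization.Away (algebraMap A C e)) (AdicCompletion ((I.map (algebraMap A C)).map (algebraMap C (Localization.Away (algebraMap A C e)))) (Localization.Away (algebraMap A C e)))).comp (Localization.awayMap (algebraMap A C) e) → ∀ qe : PrimeSpectrum (AdicCompletion ((I.map (algebraMap A C)).map (algebraMap C (Localization.Away (algebraMap A C e)))) (Localization.Away (algebraMap A C e))), (¬ (((I.map (algebraMap A C)).map (algebraMap C (Localization.Away (algebraMap A C e)))).map (algebraMap (Localization.Away (algebraMap A C e)) (AdicCompletion ((I.map (algebraMap A C)).map (algebraMap C (Localization.Away (algebraMap A C e)))) (Localization.Away (algebraMap A C e))))) ≤ qe.asIdeal ∧ ∀ y : PrimeSpectrum (AdicCompletion ((I.map (algebraMap A C)).map (algebraMap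 C (Localization.Away (algebraMap A C e)))) (Localization.Away (algebraMap A C e))), qe ≤ y → ¬ (((I.map (algebraMap A C)).map (algebraMap C (Localization.Away (algebraMap A C e)))).map (algebraMap (Localization.Away (algebraMap A C e)) (AdicCompletion ((I.map (algebraMap A C)).map (algebraMap C (Localization.Away (algebraMap A C e)))) (Localization.Away (algebraMap A C e))))) ≤ y.asIdeal → y = qe) → ((algebraMap (AdicCompletion ((I.map (algebraMap A C)).map (algebraMap C (Localization.Away (algebraMap A C e)))) (Localization.Away (algebraMap A C e))) (Localization.AtPrime qe.asIdeal)).comp ψe).Flat) := by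
  intro e ψe hψe qe hqe
  have hJ : (I.map (algebraMap A B)).map (algebraMap B C) = I.map (algebraMap A C) := by
    rw [Ideal.map_map, ← IsScalarTower.algebraMap_eq]
  have hft : Algebra.FiniteType A (C ⧸ I.map (algebraMap A C)) := by
    letI : Algebra (B ⧸ I.map (algebraMap A B)) (C ⧸ I.map (algebraMap A C)) :=
      (Ideal.quotientMap (I.map (algebraMap A C)) (algebraMap B C) (Ideal.map_le_iff_le_comap.mp hJ.le)).toAlgebra
    haveI : IsScalarTower B (B ⧸ I.map (algebraMap A B)) (C ⧸ I.map (algebraMap A C)) := IsScalarTower.of_algebraMap_eq fun x => rfl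
    haveI : IsScalarTower A (B ⧸ I.map (algebraMap A B)) (C ⧸ I.map (algebraMap A C)) := IsScalarTower.of_algebraMap_eq fun x => by
      rw [IsScalarTower.algebraMap_apply A B (C ⧸ I.map (algebraMap A C))]
      rfl
    haveI : Algebra.FiniteType (B ⧸ I.map (algebraMap A B)) (C ⧸ I.map (algebraMap A C)) :=
      Algebra.FiniteType.of_restrictScalars_finiteType B _ _
    exact Algebra.FiniteType.trans (S := B ⧸ I.map (algebraMap A B)) hftB inferInstance
  have hqe' : RigClosed ((I.map (algebraMap A C)).map (algebraMap C (CA C (I.map (algebraMap A C)) (algebraMap A C e)))) qe := by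
    have e1 := map_CA (J := I.map (algebraMap A C)) (algebraMap A C e)
    exact e1 ▸ hqe
  obtain ⟨f, hef, hf⟩ := exists_refine I _ rfl hft e qe hqe'
  have hleC : (I.map (algebraMap A C)).map (RingHom.id C) ≤ (I.map (algebraMap A B)).map (algebraMap B C) := by
    rw [Ideal.map_id]; exact hJ.ge
  have hdvdC : RingHom.id C (algebraMap A C e) ∣ algebraMap B C (algebraMap A B f) := by
    rw [RingHom.id_apply, ← IsScalarTower.algebraMap_apply A B C]; exact (algebraMap A C).map_dvd hef
  obtain ⟨q', hq', hq'c, hq'int⟩ := hf _ hJ.symm _ (IsScalarTower.algebraMap_apply A B C f).symm hleC hdvdC hJ.ge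
    (dvd_of_eq (IsScalarTower.algebraMap_apply A B C f))
  haveI : IsNoetherianRing (CA C ((I.map (algebraMap A B)).map (algebraMap B C)) (algebraMap B C (algebraMap A B f))) := isNoetherianRing_CA _
  haveI := isAdicComplete_CA (J := (I.map (algebraMap A B)).map (algebraMap B C)) (algebraMap B C (algebraMap A B f))
  let ψ1 := cmap (J := I) (K := I.map (algebraMap A B)) (algebraMap A B) le_rfl f (algebraMap A B f) dvd_rfl
  let ψ2 := cmap (J := I.map (algebraMap A B)) (K := (I.map (algebraMap A B)).map (algebraMap B C)) (algebraMap B C) le_rfl
    (algebraMap A B f) (algebraMap B C (algebraMap A B f)) dvd_rfl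
  have hψ21 : ψ2.comp ψ1 = cmap (algebraMap A C) hJ.ge f _ (dvd_of_eq (IsScalarTower.algebraMap_apply A B C f)) := by
    have e1 : (ψ2.comp ψ1).comp (algebraMap A _) = (algebraMap C _).comp (algebraMap A C) := by
      rw [RingHom.comp_assoc, cmap_comp, ← RingHom.comp_assoc, cmap_comp, RingHom.comp_assoc, ← IsScalarTower.algebraMap_eq]
    refine CA_hom_ext f (((I.map (algebraMap A B)).map (algebraMap B C)).map (algebraMap C _)) _ _
      (e1.trans (cmap_comp _ _ _ _ _).symm) ?_
    rw [e1, ← Ideal.map_map]; exact Ideal.map_mono hJ.ge
  have hmap2 : ((I.map (algebraMap A B)).map (algebraMap B (CA B (I.map (algebraMap A B)) (algebraMap A B f)))).map ψ2 =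
      ((I.map (algebraMap A B)).map (algebraMap B C)).map (algebraMap C _) := by
    exact (Ideal.map_map _ _).trans ((congrArg (fun φ => (I.map (algebraMap A B)).map φ) (cmap_comp _ _ _ _ _)).trans (Ideal.map_map _ _).symm)
  haveI : IsAdicComplete (((I.map (algebraMap A B)).map (algebraMap B (CA B (I.map (algebraMap A B)) (algebraMap A B f)))).map ψ2)
      (CA C ((I.map (algebraMap A B)).map (algebraMap B C)) (algebraMap B C (algebraMap A B f))) := hmap2.symm ▸ ‹_›
  have hint2 : ((Ideal.Quotient.mk q'.asIdeal).comp ψ2).IsIntegral := by
    refine RingHom.IsIntegral.tower_top ψ1 _ ?_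
    rw [RingHom.comp_assoc, hψ21]
    exact hq'int
  have hp' := rigClosed_comap ψ2 _ q' (hmap2.symm ▸ hq') hint2
  have hF1 := hAB f ψ1 (cmap_compat _ _ f) (PrimeSpectrum.comap ψ2 q') (by
    have e1 := map_CA (J := I.map (algebraMap A B)) (algebraMap A B f)
    exact e1.symm ▸ hp')
  have hF2 := hBC (algebraMap A B f) ψ2 (cmap_compat _ _ (algebraMap A B f)) q' (by
    have e1 := map_CA (J := (I.map (algebraMap A B)).map (algebraMap B C)) (algebraMap B C (algebraMap A B f))
    exact e1.symm ▸ hq')
  have hF3 := flat_comp_at_prime ψ1 ψ2 q'.asIdeal hF1 hF2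
  let ιA := cmap (J := I) (K := I) (RingHom.id A) (Ideal.map_id I).le e f (by rw [RingHom.id_apply]; exact hef)
  let ιC := cmap (RingHom.id C) hleC (algebraMap A C e) _ hdvdC
  have hιA : ιA.Flat := flat_cmap _ _ (Ideal.map_id I).ge (RingHom.Flat.id A) _ _ _
  have hιC : ιC.Flat := flat_cmap _ _ (by rw [Ideal.map_id]; exact hJ.le) (RingHom.Flat.id C) _ _ _
  have hψeA := comp_algebraMap_of_compat (algebraMap A C) e ψe hψe
  have heq : (ψ2.comp ψ1).comp ιA = ιC.comp ψe := by
    have e1 : ((ψ2.comp ψ1).comp ιA).comp (algebraMap A (CA A I e)) = (algebraMap C _).comp (algebraMap A C) := by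
      rw [RingHom.comp_assoc, cmap_comp, RingHom.comp_id, hψ21, cmap_comp]
    have e2 : (ιC.comp ψe).comp (algebraMap A (CA A I e)) = (algebraMap C _).comp (algebraMap A C) := by
      rw [RingHom.comp_assoc, hψeA, ← RingHom.comp_assoc, cmap_comp, RingHom.comp_id]
    refine CA_hom_ext e (((I.map (algebraMap A B)).map (algebraMap B C)).map (algebraMap C _)) _ _ (e1.trans e2.symm) ?_
    rw [e1, ← Ideal.map_map]; exact Ideal.map_mono hJ.ge
  have hF4 : ((algebraMap _ (Localization.AtPrime q'.asIdeal)).comp (ιC.comp ψe)).Flat := by
    rw [← heq, ← RingHom.comp_assoc]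
    exact RingHom.Flat.comp hιA hF3
  have hF5 := flat_of_flat_at_prime ψe ιC hιC q'.asIdeal hF4
  obtain ⟨Q, hQ⟩ := qe
  subst hq'c
  exact hF5

end Groth.Agent.S8843
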