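import Groth.Statements.S8844
import Groth.Agent.H24Adic.RigFlat

set_option autoImplicit false
set_option linter.style.haveILetI false
universe u
open AdicRing

open Groth.Agent.H24Adic
namespace Groth.Agent.S8844

/-- Consider a commutative square of adic Noetherian topological rings with all maps adic and
topologically of finite type: A a Noetherian ring complete for the adic topology of an ideal I; B,
A' and B' Noetherian algebras complete for the IB-, IA'- and IB'-adic topologies, B' an algebra over
B and over A' compatibly with A, with B/IB and A'/IA' of finite type over A and B'/IB' of finite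
type over B and over A'. Assume A → A' is flat and B → B' is faithfully flat. If A' → B' is rig-flat
— for every f' ∈ A', every ring map A'_{f'} → B'_{f'} of completed principal localizations
compatible with the map of ordinary localizations A'[1/f'] → B'[1/f'] (there is exactly one), and
every rig-closed prime q of B'_{f'} (I B'_{f'} ⊄ q and q maximal among the primes not containing I
B'_{f'}), the local ring (B'_{f'})_q is flat over A'_{f'} — then A → B is rig-flat in the same form:
for every f ∈ A, every ring map A_{f} → B_{f} of completed principal localizations compatible with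
the map of ordinary localizations A[1/f] → B[1/f], and every rig-closed prime q of B_{f}, the local
ring (B_{f})_q is flat over A_{f}. -/
theorem result (A : Type u) [CommRing A] [IsNoetherianRing A] (I : Ideal A) [IsAdicComplete I A] (B : Type u) [CommRing B] [Algebra A B] [IsNoetherianRing B] [IsAdicComplete (I.map (algebraMap A B)) B] (hftB : Algebra.FiniteType A (B ⧸ (I.map (algebraMap A B)))) (A' : Type u) [CommRing A'] [Algebra A A'] [IsNoetherianRing A'] [IsAdicComplete (I.map (algebraMap A A')) A'] (hftA' : Algebra.FiniteType A (A' ⧸ (I.map (algebraMap A A')))) (B' : Type u) [CommRing B'] [Algebra A B'] [Algebra B B'] [Algebra A' B'] [IsScalarTower A B B'] [IsScalarTower A A' B'] [IsNoetherianRing B'] [IsAdicComplete (I.map (algebraMap A B')) B'] (hftB'B : Algebra.FiniteType B (B' ⧸ (I.map (algebraMap A B')))) (hftB'A' : Algebra.FiniteType A' (B' ⧸ (I.map (algebraMap A B')))) [Module.Flat A A'] [Module.FaithfullyFlat B B'] (hA'B' : (∀ f' : A', ∀ ψf' : (AdicCompletion ((I.map (algebraMap A A')).map (algebraMap A' (Localization.Away f'))) (Localization.Away f')) →+* (AdicCompletion (((I.map (algebraMap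 A A')).map (algebraMap A' B')).map (algebraMap B' (Localization.Away (algebraMap A' B' f')))) (Localization.Away (algebraMap A' B' f'))), ψf'.comp (algebraMap (Localization.Away f') (AdicCompletion ((I.map (algebraMap A A')).map (algebraMap A' (Localization.Away f'))) (Localization.Away f'))) = (algebraMap (Localization.Away (algebraMap A' B' f')) (AdicCompletion (((I.map (algebraMap A A')).map (algebraMap A' B')).map (algebraMap B' (Localization.Away (algebraMap A' B' f')))) (Localization.Away (algebraMap A' B' f')))).comp (Localization.awayMap (algebraMap A' B') f') → ∀ qf' : PrimeSpectrum (AdicCompletion (((I.map (algebraMap A A')).map (algebraMap A' B')).map (algebraMap B' (Localization.Away (algebraMap A' B' f')))) (Localization.Away (algebraMap A' B' f'))), (¬ ((((I.map (algebraMap A A')).map (algebraMap A' B')).map (algebraMap B' (Localization.Away (algebraMap A' B' f')))).map (algebraMap (Localization.Away (algebraMap A' B' f')) (AdicCompletion (((I.map (algebraMap A A')).map (algebraMap A' B')).map (algebraMap B' (Localization.Away (algebraMap A' B' f')))) (Localization.Away (algebraMap A' B' f')))))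 ≤ qf'.asIdeal ∧ ∀ y : PrimeSpectrum (AdicCompletion (((I.map (algebraMap A A')).map (algebraMap A' B')).map (algebraMap B' (Localization.Away (algebraMap A' B' f')))) (Localization.Away (algebraMap A' B' f'))), qf' ≤ y → ¬ ((((I.map (algebraMap A A')).map (algebraMap A' B')).map (algebraMap B' (Localization.Away (algebraMap A' B' f')))).map (algebraMap (Localization.Away (algebraMap A' B' f')) (AdicCompletion (((I.map (algebraMap A A')).map (algebraMap A' B')).map (algebraMap B' (Localization.Away (algebraMap A' B' f')))) (Localization.Away (algebraMap A' B' f'))))) ≤ y.asIdeal → y = qf') → ((algebraMap (AdicCompletion (((I.map (algebraMap A A')).map (algebraMap A' B')).map (algebraMap B' (Localization.Away (algebraMap A' B' f')))) (Localization.Away (algebraMap A' B' f'))) (Localization.AtPrime qf'.asIdeal)).comp ψf').Flat)) : (∀ f : A, ∀ ψf : (AdicCompletion (I.map (algebraMap A (Localization.Away f))) (Localization.Away f)) →+* (AdicCompletion ((I.map (algebraMap A B)).map (algebraMap B (Localization.Away (algebraMap A B f)))) (Localization.Away (algebraMap A B f))), ψf.comp (algebraMap (Localization.Away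 f) (AdicCompletion (I.map (algebraMap A (Localization.Away f))) (Localization.Away f))) = (algebraMap (Localization.Away (algebraMap A B f)) (AdicCompletion ((I.map (algebraMap A B)).map (algebraMap B (Localization.Away (algebraMap A B f)))) (Localization.Away (algebraMap A B f)))).comp (Localization.awayMap (algebraMap A B) f) → ∀ qf : PrimeSpectrum (AdicCompletion ((I.map (algebraMap A B)).map (algebraMap B (Localization.Away (algebraMap A B f)))) (Localization.Away (algebraMap A B f))), (¬ (((I.map (algebraMap A B)).map (algebraMap B (Localization.Away (algebraMap A B f)))).map (algebraMap (Localization.Away (algebraMap A B f)) (AdicCompletion ((I.map (algebraMap A B)).map (algebraMap B (Localization.Away (algebraMap A B f)))) (Localization.Away (algebraMap A B f))))) ≤ qf.asIdeal ∧ ∀ y : PrimeSpectrum (AdicCompletion ((I.map (algebraMap A B)).map (algebraMap B (Localization.Away (algebraMap A B f)))) (Localization.Away (algebraMap A B f))), qf ≤ y → ¬ (((I.map (algebraMap A B)).map (algebraMap B (Localization.Away (algebraMap A B f)))).map (algebraMap (Localization.Away (algebraMap A B f)) (AdicCompletion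 ((I.map (algebraMap A B)).map (algebraMap B (Localization.Away (algebraMap A B f)))) (Localization.Away (algebraMap A B f))))) ≤ y.asIdeal → y = qf) → ((algebraMap (AdicCompletion ((I.map (algebraMap A B)).map (algebraMap B (Localization.Away (algebraMap A B f)))) (Localization.Away (algebraMap A B f))) (Localization.AtPrime qf.asIdeal)).comp ψf).Flat) := by
  intro f ψf hψf qf hqf
  let J1 := I.map (algebraMap A B)
  let J2 := (I.map (algebraMap A A')).map (algebraMap A' B')
  have hK : J1.map (algebraMap B B') = J2 := by
    show (I.map (algebraMap A B)).map (algebraMap B B') = (I.map (algebraMap A A')).map (algebraMap A' B')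
    rw [Ideal.map_map, Ideal.map_map, ← IsScalarTower.algebraMap_eq, ← IsScalarTower.algebraMap_eq]
  have hb : algebraMap A' B' (algebraMap A A' f) = algebraMap B B' (algebraMap A B f) := by
    rw [← IsScalarTower.algebraMap_apply, ← IsScalarTower.algebraMap_apply]
  haveI := isNoetherianRing_CA (J := J1) (algebraMap A B f)
  haveI := isNoetherianRing_CA (J := J2) (algebraMap A' B' (algebraMap A A' f))
  haveI := isAdicComplete_CA (J := J1) (algebraMap A B f)
  have hqf' : RigClosed (J1.map (algebraMap B (CA B J1 (algebraMap A B f)))) qf := by
    have e1 := map_CA (J := J1) (algebraMap A B f)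
    exact e1 ▸ hqf
  obtain ⟨M, hM, hqM⟩ := Ideal.exists_le_maximal qf.asIdeal qf.2.ne_top
  obtain ⟨Q, hQp, hQ⟩ := exists_prime_over_cmap J1 J2 hK _ _ hb (dvd_of_eq hb.symm) M
  let ι := cmap (algebraMap B B') hK.le (algebraMap A B f) (algebraMap A' B' (algebraMap A A' f)) (dvd_of_eq hb.symm)
  have hιflat : ι.Flat := flat_cmap _ _ hK.ge (RingHom.flat_algebraMap_iff.mpr inferInstance) _ _ _
  obtain ⟨q', hq', hq'c⟩ := exists_rigClosed_over ι hιflat _ qf hqf' Q (hqM.trans hQ)
  have hmap : (J1.map (algebraMap B (CA B J1 (algebraMap A B f)))).map ι = J2.map (algebraMap B' _) := by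
    have h1 : (ι.comp (algebraMap B (CA B J1 (algebraMap A B f)))) = (algebraMap B' _).comp (algebraMap B B') := cmap_comp _ _ _ _ _
    exact (Ideal.map_map _ _).trans ((congrArg (fun φ => J1.map φ) h1).trans ((Ideal.map_map _ _).symm.trans (congrArg (Ideal.map _) hK)))
  let ψ1 := cmap (J := I.map (algebraMap A A')) (K := J2) (algebraMap A' B') le_rfl (algebraMap A A' f) _ dvd_rfl
  have hF1 := hA'B' (algebraMap A A' f) ψ1 (cmap_compat _ _ _) q' (by
    have e1 := map_CA (J := J2) (algebraMap A' B' (algebraMap A A' f))
    exact e1.symm ▸ (hmap ▸ hq'))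
  let ιA := cmap (J := I) (K := I.map (algebraMap A A')) (algebraMap A A') le_rfl f _ dvd_rfl
  have hιA : ιA.Flat := flat_cmap _ _ le_rfl (RingHom.flat_algebraMap_iff.mpr inferInstance) _ _ _
  haveI := isAdicComplete_CA (J := J2) (algebraMap A' B' (algebraMap A A' f))
  have hψfA := comp_algebraMap_of_compat (algebraMap A B) f ψf hψf
  have hle : I.map (algebraMap A B') ≤ J2 := by
    show _ ≤ (I.map (algebraMap A A')).map (algebraMap A' B')
    rw [Ideal.map_map, ← IsScalarTower.algebraMap_eq]
  have heq : ψ1.comp ιA = ι.comp ψf := by
    have e1 : (ψ1.comp ιA).comp (algebraMap A (CA A I f)) = (algebraMap B' _).comp (algebraMap A B') := by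
      rw [RingHom.comp_assoc, cmap_comp, ← RingHom.comp_assoc, cmap_comp, RingHom.comp_assoc, ← IsScalarTower.algebraMap_eq]
    have e2 : (ι.comp ψf).comp (algebraMap A (CA A I f)) = (algebraMap B' _).comp (algebraMap A B') := by
      rw [RingHom.comp_assoc, hψfA, ← RingHom.comp_assoc, cmap_comp, RingHom.comp_assoc, ← IsScalarTower.algebraMap_eq]
    refine CA_hom_ext f (J2.map (algebraMap B' _)) _ _ (e1.trans e2.symm) ?_
    rw [e1, ← Ideal.map_map]; exact Ideal.map_mono hle
  have hF2 : ((algebraMap _ (Localization.AtPrime q'.asIdeal)).comp (ι.comp ψf)).Flat := by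
    rw [← heq, ← RingHom.comp_assoc]
    exact RingHom.Flat.comp hιA hF1
  have hF3 := flat_of_flat_at_prime ψf ι hιflat q'.asIdeal hF2
  obtain ⟨Q', hQ'⟩ := qf
  subst hq'c
  exact hF3

end Groth.Agent.S8844
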