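import Groth.Statements.S8845
import Groth.Agent.H24Adic.RigFibre

set_option autoImplicit false
set_option linter.style.haveILetI false
universe u
open AdicRing


open Groth.Agent.H24Adic
namespace Groth.Agent.S8845

theorem map_tower {R S T : Type u} [CommRing R] [CommRing S] [CommRing T] [Algebra R S] [Algebra S T] [Algebra R T]
    [IsScalarTower R S T] (I : Ideal R) : (I.map (algebraMap R S)).map (algebraMap S T) = I.map (algebraMap R T) := by
  rw [Ideal.map_map, ← IsScalarTower.algebraMap_eq]

/-- The square form with abstract completed rings. -/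
theorem flat_core {A : Type u} [CommRing A] [IsNoetherianRing A] (I : Ideal A) [IsAdicComplete I A] {B : Type u}
    [CommRing B] [Algebra A B] [IsNoetherianRing B] [IsAdicComplete (I.map (algebraMap A B)) B]
    {C : Type u} [CommRing C] [IsNoetherianRing C] [Algebra A C] [Algebra B C] [IsScalarTower A B C]
    (JC : Ideal C) (hJC : I.map (algebraMap A C) = JC) [hCc : IsAdicComplete JC C]
    (hft : Algebra.FiniteType A (C ⧸ JC)) (hφflat : (algebraMap B C).Flat)
    {A'1 : Type u} [CommRing A'1] [IsNoetherianRing A'1] [Algebra A A'1] (J1 : Ideal A'1)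
    (hJ1 : I.map (algebraMap A A'1) = J1) [Algebra.FormallyUnramified A (A'1 ⧸ J1)]
    (hft1 : Algebra.FiniteType A (A'1 ⧸ J1)) (ψ : A'1 →+* C) (hψA : ψ.comp (algebraMap A A'1) = algebraMap A C)
    (hAB : ∀ (f : A) (ψf : CA A I f →+* CA B (I.map (algebraMap A B)) (algebraMap A B f)),
      ψf.comp (algebraMap (Localization.Away f) (CA A I f)) =
        (algebraMap (Localization.Away (algebraMap A B f)) (CA B (I.map (algebraMap A B)) (algebraMap A B f))).comp
          (Localization.awayMap (algebraMap A B) f) →
      ∀ qf, RigClosed ((I.map (algebraMap A B)).map (algebraMap B (CA B (I.map (algebraMap A B)) (algebraMap A B f)))) qf →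
        ((algebraMap (CA B (I.map (algebraMap A B)) (algebraMap A B f)) (Localization.AtPrime qf.asIdeal)).comp ψf).Flat)
    (qf' : PrimeSpectrum C) (hq2 : RigClosed JC qf') :
    ((algebraMap C (Localization.AtPrime qf'.asIdeal)).comp ψ).Flat := by
  haveI : IsAdicComplete (JC.map (algebraMap C C)) C := by
    rw [Algebra.algebraMap_self, Ideal.map_id]; exact hCc
  have h1C : IsUnit (algebraMap C C (algebraMap A C 1)) := by simp
  obtain ⟨Φ, hΦ⟩ := exists_CA_hom (J := JC) (algebraMap A C 1) C h1C
  have hJe : (JC.map (algebraMap C (CA C JC (algebraMap A C 1)))).map Φ = JC := by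
    rw [Ideal.map_map, hΦ, Algebra.algebraMap_self, Ideal.map_id]
  haveI : IsAdicComplete ((JC.map (algebraMap C (CA C JC (algebraMap A C 1)))).map Φ) C := hJe.symm ▸ hCc
  have hΦs : Function.Surjective Φ := fun y => ⟨algebraMap C _ y, RingHom.congr_fun hΦ y⟩
  have hqe := rigClosed_comap Φ (JC.map (algebraMap C (CA C JC (algebraMap A C 1)))) qf' (hJe.symm ▸ hq2)
    (RingHom.IsIntegral.of_finite (RingHom.Finite.of_surjective _ (Ideal.Quotient.mk_surjective.comp hΦs)))
  obtain ⟨f, -, hf⟩ := exists_refine I JC hJC hft 1 _ hqe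
  let fC := algebraMap A C f
  have hleC : JC.map (RingHom.id C) ≤ JC := (Ideal.map_id JC).le
  have hdvd : RingHom.id C (algebraMap A C 1) ∣ fC := by simp
  obtain ⟨q, hq', hqc, hqint⟩ := hf JC rfl fC rfl hleC hdvd hJC.le dvd_rfl
  let C2 := CA C JC fC
  haveI : IsNoetherianRing C2 := isNoetherianRing_CA _
  haveI hC2c : IsAdicComplete (JC.map (algebraMap C C2)) C2 := isAdicComplete_CA _
  have hqf : q.asIdeal.comap (algebraMap C C2) = qf'.asIdeal := by
    have e1 : (cmap (RingHom.id C) hleC (algebraMap A C 1) fC hdvd).comp (algebraMap C _) = algebraMap C C2 := by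
      rw [cmap_comp, RingHom.comp_id]
    rw [← e1, ← Ideal.comap_comap, hqc]
    show (qf'.asIdeal.comap Φ).comap (algebraMap C _) = _
    rw [Ideal.comap_comap, hΦ, Algebra.algebraMap_self, Ideal.comap_id]
  let ψ1 := cmap (J := I) (K := I.map (algebraMap A B)) (algebraMap A B) le_rfl f (algebraMap A B f) dvd_rfl
  have hφA : (algebraMap B C).comp (algebraMap A B) = algebraMap A C := (IsScalarTower.algebraMap_eq A B C).symm
  have hJBC : (I.map (algebraMap A B)).map (algebraMap B C) = JC :=
    (Ideal.map_map _ _).trans ((congrArg (fun g => Ideal.map g I) hφA).trans hJC)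
  have hdB : (algebraMap B C) (algebraMap A B f) ∣ fC := dvd_of_eq (RingHom.congr_fun hφA f)
  let ψ2 := cmap (algebraMap B C) hJBC.le (algebraMap A B f) fC hdB
  let γ := cmap (algebraMap A C) hJC.le f fC dvd_rfl
  haveI : IsHausdorff (JC.map (algebraMap C C2)) C2 := hC2c.toIsHausdorff
  have hle2 : I.map ((algebraMap C C2).comp (algebraMap A C)) ≤ JC.map (algebraMap C C2) := by
    rw [← Ideal.map_map, hJC]
  have hψ21 : ψ2.comp ψ1 = γ := by
    have e1 : (ψ2.comp ψ1).comp (algebraMap A _) = (algebraMap C C2).comp (algebraMap A C) := by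
      rw [RingHom.comp_assoc, cmap_comp, ← RingHom.comp_assoc, cmap_comp, RingHom.comp_assoc, hφA]
    refine CA_hom_ext f (JC.map (algebraMap C C2)) _ _ (e1.trans (cmap_comp _ _ _ _ _).symm) ?_
    rw [e1]; exact hle2
  haveI : IsNoetherianRing (CA B (I.map (algebraMap A B)) (algebraMap A B f)) := isNoetherianRing_CA _
  have hmap2 : ((I.map (algebraMap A B)).map (algebraMap B (CA B (I.map (algebraMap A B)) (algebraMap A B f)))).map ψ2 = JC.map (algebraMap C C2) :=
    (Ideal.map_map _ _).trans ((congrArg (fun g => (I.map (algebraMap A B)).map g) (cmap_comp _ _ _ _ _)).trans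
      ((Ideal.map_map _ _).symm.trans (congrArg (fun J => Ideal.map (algebraMap C C2) J) hJBC)))
  haveI : IsAdicComplete (((I.map (algebraMap A B)).map (algebraMap B (CA B (I.map (algebraMap A B)) (algebraMap A B f)))).map ψ2) C2 := hmap2.symm ▸ hC2c
  have hint2 : ((Ideal.Quotient.mk q.asIdeal).comp ψ2).IsIntegral := by
    refine RingHom.IsIntegral.tower_top ψ1 _ ?_
    rw [RingHom.comp_assoc, hψ21]
    exact hqint
  have hp' := rigClosed_comap ψ2 _ q (hmap2.symm ▸ hq') hint2
  have hF1 := hAB f ψ1 (cmap_compat _ _ f) (PrimeSpectrum.comap ψ2 q) hp'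
  have hloc : (algebraMap C2 (Localization.AtPrime q.asIdeal)).Flat :=
    RingHom.flat_algebraMap_iff.mpr (IsLocalization.flat _ q.asIdeal.primeCompl)
  have hF2 : ((algebraMap C2 (Localization.AtPrime q.asIdeal)).comp ψ2).Flat :=
    (flat_cmap (algebraMap B C) hJBC.le hJBC.ge hφflat _ _ hdB).comp hloc
  have hF3 := flat_comp_at_prime ψ1 ψ2 q.asIdeal hF1 hF2
  rw [hψ21] at hF3
  have hJψ : J1.map ψ = JC :=
    hJ1 ▸ (Ideal.map_map _ _).trans ((congrArg (fun g => Ideal.map g I) hψA).trans hJC)
  let f1 := algebraMap A A'1 f
  let A2 := CA A'1 J1 f1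
  haveI : IsNoetherianRing A2 := isNoetherianRing_CA _
  haveI : IsNoetherianRing (CA A I f) := isNoetherianRing_CA _
  haveI : IsAdicComplete (I.map (algebraMap A (CA A I f))) (CA A I f) := isAdicComplete_CA _
  let χ := cmap (algebraMap A A'1) hJ1.le f f1 dvd_rfl
  letI : Algebra (CA A I f) A2 := χ.toAlgebra
  have hχA : χ.comp (algebraMap A (CA A I f)) = algebraMap A A2 := by
    rw [cmap_comp, ← IsScalarTower.algebraMap_eq A A'1 A2]
  haveI : IsScalarTower A (CA A I f) A2 := IsScalarTower.of_algebraMap_eq' hχA.symm
  have hA2 : (I.map (algebraMap A (CA A I f))).map (algebraMap (CA A I f) A2) = J1.map (algebraMap A'1 A2) :=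
    (Ideal.map_map _ _).trans ((congrArg (fun g => Ideal.map g I) (cmap_comp _ _ _ _ _)).trans
      ((Ideal.map_map _ _).symm.trans (congrArg (fun J => Ideal.map (algebraMap A'1 A2) J) hJ1)))
  haveI : IsAdicComplete ((I.map (algebraMap A (CA A I f))).map (algebraMap (CA A I f) A2)) A2 := hA2.symm ▸ isAdicComplete_CA f1
  haveI : Algebra.FormallyUnramified A (A2 ⧸ J1.map (algebraMap A'1 A2)) := formallyUnramified_CA_quotient J1 f1
  haveI : Algebra.FormallyUnramified (CA A I f) (A2 ⧸ (I.map (algebraMap A (CA A I f))).map (algebraMap (CA A I f) A2)) := by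
    rw [hA2]; exact Algebra.FormallyUnramified.of_restrictScalars A _ _
  have hft2 : Algebra.FiniteType (CA A I f) (A2 ⧸ (I.map (algebraMap A (CA A I f))).map (algebraMap (CA A I f) A2)) := by
    rw [hA2]
    haveI := finiteType_CA_base J1 f1 hft1
    exact Algebra.FiniteType.of_restrictScalars_finiteType A _ _
  have hdψ : ψ f1 ∣ fC := dvd_of_eq (RingHom.congr_fun hψA f)
  let θ := cmap ψ hJψ.le f1 fC hdψ
  have hθγ : θ.comp (algebraMap (CA A I f) A2) = γ := by
    have e1 : (θ.comp χ).comp (algebraMap A _) = (algebraMap C C2).comp (algebraMap A C) := by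
      rw [RingHom.comp_assoc, cmap_comp, ← RingHom.comp_assoc, cmap_comp, RingHom.comp_assoc, hψA]
    refine CA_hom_ext f (JC.map (algebraMap C C2)) _ _ (e1.trans (cmap_comp _ _ _ _ _).symm) ?_
    exact (congrArg (fun g => Ideal.map g I) e1).trans_le hle2
  have hmapγ : (I.map (algebraMap A (CA A I f))).map γ = JC.map (algebraMap C C2) :=
    (Ideal.map_map _ _).trans ((congrArg (fun g => Ideal.map g I) (cmap_comp _ _ _ _ _)).trans
      ((Ideal.map_map _ _).symm.trans (congrArg (fun J => Ideal.map (algebraMap C C2) J) hJC)))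
  haveI : IsAdicComplete ((I.map (algebraMap A (CA A I f))).map γ) C2 := hmapγ.symm ▸ hC2c
  have hpA := rigClosed_comap γ _ q (hmapγ.symm ▸ hq') hqint
  have hG := flat_at_prime_of_unramified (I.map (algebraMap A (CA A I f))) hft2 θ q.asIdeal (by
    have e : (⟨(q.asIdeal.comap θ).comap (algebraMap (CA A I f) A2), inferInstance⟩ : PrimeSpectrum (CA A I f)) =
        PrimeSpectrum.comap γ q := PrimeSpectrum.ext (by
      show (q.asIdeal.comap θ).comap (algebraMap (CA A I f) A2) = q.asIdeal.comap γ
      rw [Ideal.comap_comap, hθγ])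
    exact e ▸ hpA) (by rw [hθγ]; exact hF3)
  have hG2 : ((algebraMap C2 (Localization.AtPrime q.asIdeal)).comp ((algebraMap C C2).comp ψ)).Flat := by
    rw [← cmap_comp ψ hJψ.le f1 fC hdψ, ← RingHom.comp_assoc]
    exact (flat_algebraMap_CA J1 f1).comp hG
  have hG3 := flat_of_flat_at_prime ψ (algebraMap C C2) (flat_algebraMap_CA JC fC) q.asIdeal hG2
  obtain ⟨Q, hQ⟩ := qf'
  subst hqf
  exact hG3

/-- Consider a commutative square of adic Noetherian topological rings with all maps adic and
topologically of finite type: A a Noetherian ring complete for the adic topology of an ideal I (the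
ideal of definition used below); B, A' and B' Noetherian algebras complete for the IB-, IA'- and
IB'-adic topologies, B' an algebra over B and over A' compatibly with A, with B/IB and A'/IA' of
finite type over A and B'/IB' of finite type over B and over A'. Assume A → A' and B → B' are flat
and A/I → A'/IA' is étale. If A → B is rig-flat — for every f ∈ A, every ring map ψ : A_{f} → B_{f}
of completed principal localizations compatible with the map of ordinary localizations A[1/f] →
B[1/f] (there is exactly one), and every rig-closed prime q of B_{f} (I B_{f} ⊄ q and q maximal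
among the primes not containing I B_{f}), the local ring (B_{f})_q is flat over A_{f} via ψ — then
A' → B' is rig-flat in the same form: for every f' ∈ A', every ring map A'_{f'} → B'_{f'} of
completed principal localizations compatible with the map of ordinary localizations A'[1/f'] →
B'[1/f'], and every rig-closed prime q' of B'_{f'}, the local ring (B'_{f'})_{q'} is flat over
A'_{f'}. -/
theorem result (A : Type u) [CommRing A] [IsNoetherianRing A] (I : Ideal A) [IsAdicComplete I A] (B : Type u) [CommRing B] [Algebra A B] [IsNoetherianRing B] [IsAdicComplete (I.map (algebraMap A B)) B] (hftB : Algebra.FiniteType A (B ⧸ (I.map (algebraMap A B)))) (A' : Type u) [CommRing A'] [Algebra A A'] [IsNoetherianRing A'] [IsAdicComplete (I.map (algebraMap A A')) A'] (hftA' : Algebra.FiniteType A (A' ⧸ (I.map (algebraMap A A')))) (B' : Type u) [CommRing B'] [Algebra A B'] [Algebra B B'] [Algebra A' B'] [IsScalarTower A B B'] [IsScalarTower A A' B'] [IsNoetherianRing B'] [IsAdicComplete (I.map (algebraMap A B')) B'] (hftB'B : Algebra.FiniteType B (B' ⧸ (I.map (algebraMap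 A B')))) (hftB'A' : Algebra.FiniteType A' (B' ⧸ (I.map (algebraMap A B')))) [Module.Flat A A'] [Module.Flat B B'] [Algebra.Etale (A ⧸ I) (A' ⧸ (I.map (algebraMap A A')))] (hAB : (∀ f : A, ∀ ψf : (AdicCompletion (I.map (algebraMap A (Localization.Away f))) (Localization.Away f)) →+* (AdicCompletion ((I.map (algebraMap A B)).map (algebraMap B (Localization.Away (algebraMap A B f)))) (Localization.Away (algebraMap A B f))), ψf.comp (algebraMap (Localization.Away f) (AdicCompletion (I.map (algebraMap A (Localization.Away f))) (Localization.Away f))) = (algebraMap (Localization.Away (algebraMap A B f)) (AdicCompletion ((I.map (algebraMap A B)).map (algebraMap B (Localization.Away (algebraMap A B f)))) (Localization.Away (algebraMap A B f)))).comp (Localization.awayMap (algebraMap A B) f) → ∀ qf : PrimeSpectrum (AdicCompletion ((I.map (algebraMap A B)).map (algebraMap B (Localization.Away (algebraMap A B f)))) (Localization.Away (algebraMap A B f))), (¬ (((I.map (algebraMap A B)).map (algebraMap B (Localization.Away (algebraMap A B f)))).map (algebraMap (Localization.Away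 (algebraMap A B f)) (AdicCompletion ((I.map (algebraMap A B)).map (algebraMap B (Localization.Away (algebraMap A B f)))) (Localization.Away (algebraMap A B f))))) ≤ qf.asIdeal ∧ ∀ y : PrimeSpectrum (AdicCompletion ((I.map (algebraMap A B)).map (algebraMap B (Localization.Away (algebraMap A B f)))) (Localization.Away (algebraMap A B f))), qf ≤ y → ¬ (((I.map (algebraMap A B)).map (algebraMap B (Localization.Away (algebraMap A B f)))).map (algebraMap (Localization.Away (algebraMap A B f)) (AdicCompletion ((I.map (algebraMap A B)).map (algebraMap B (Localization.Away (algebraMap A B f)))) (Localization.Away (algebraMap A B f))))) ≤ y.asIdeal → y = qf) → ((algebraMap (AdicCompletion ((I.map (algebraMap A B)).map (algebraMap B (Localization.Away (algebraMap A B f)))) (Localization.Away (algebraMap A B f))) (Localization.AtPrime qf.asIdeal)).comp ψf).Flat)) : (∀ f' : A', ∀ ψf' : (AdicCompletion ((I.map (algebraMap A A')).map (algebraMap A' (Localization.Away f'))) (Localization.Away f')) →+* (AdicCompletion (((I.map (algebraMap A A')).map (algebraMap A' B')).map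 (algebraMap B' (Localization.Away (algebraMap A' B' f')))) (Localization.Away (algebraMap A' B' f'))), ψf'.comp (algebraMap (Localization.Away f') (AdicCompletion ((I.map (algebraMap A A')).map (algebraMap A' (Localization.Away f'))) (Localization.Away f'))) = (algebraMap (Localization.Away (algebraMap A' B' f')) (AdicCompletion (((I.map (algebraMap A A')).map (algebraMap A' B')).map (algebraMap B' (Localization.Away (algebraMap A' B' f')))) (Localization.Away (algebraMap A' B' f')))).comp (Localization.awayMap (algebraMap A' B') f') → ∀ qf' : PrimeSpectrum (AdicCompletion (((I.map (algebraMap A A')).map (algebraMap A' B')).map (algebraMap B' (Localization.Away (algebraMap A' B' f')))) (Localization.Away (algebraMap A' B' f'))), (¬ ((((I.map (algebraMap A A')).map (algebraMap A' B')).map (algebraMap B' (Localization.Away (algebraMap A' B' f')))).map (algebraMap (Localization.Away (algebraMap A' B' f')) (AdicCompletion (((I.map (algebraMap A A')).map (algebraMap A' B')).map (algebraMap B' (Localization.Away (algebraMap A' B' f')))) (Localization.Away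 (algebraMap A' B' f'))))) ≤ qf'.asIdeal ∧ ∀ y : PrimeSpectrum (AdicCompletion (((I.map (algebraMap A A')).map (algebraMap A' B')).map (algebraMap B' (Localization.Away (algebraMap A' B' f')))) (Localization.Away (algebraMap A' B' f'))), qf' ≤ y → ¬ ((((I.map (algebraMap A A')).map (algebraMap A' B')).map (algebraMap B' (Localization.Away (algebraMap A' B' f')))).map (algebraMap (Localization.Away (algebraMap A' B' f')) (AdicCompletion (((I.map (algebraMap A A')).map (algebraMap A' B')).map (algebraMap B' (Localization.Away (algebraMap A' B' f')))) (Localization.Away (algebraMap A' B' f'))))) ≤ y.asIdeal → y = qf') → ((algebraMap (AdicCompletion (((I.map (algebraMap A A')).map (algebraMap A' B')).map (algebraMap B' (Localization.Away (algebraMap A' B' f')))) (Localization.Away (algebraMap A' B' f'))) (Localization.AtPrime qf'.asIdeal)).comp ψf').Flat) := by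
  intro f' ψ hψ qf' hq
  let J' := I.map (algebraMap A A')
  let K0 := J'.map (algebraMap A' B')
  haveI : IsNoetherianRing (CA A' J' f') := isNoetherianRing_CA _
  haveI : IsNoetherianRing (CA B' K0 (algebraMap A' B' f')) := isNoetherianRing_CA _
  haveI hCc : IsAdicComplete (K0.map (algebraMap B' (CA B' K0 (algebraMap A' B' f')))) (CA B' K0 (algebraMap A' B' f')) :=
    isAdicComplete_CA _
  have hK0 : K0 = I.map (algebraMap A B') := map_tower I
  haveI : Algebra.FormallyUnramified A (A' ⧸ J') := Algebra.FormallyUnramified.comp A (A ⧸ I) (A' ⧸ J')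
  haveI := formallyUnramified_CA_quotient (A := A) J' f'
  refine flat_core (A := A) I (B := B) (K0.map (algebraMap B' (CA B' K0 (algebraMap A' B' f')))) ?_
    (finiteType_CA_base K0 _ (finiteType_quotient_trans J' K0 le_rfl hftA' (hK0.symm ▸ hftB'A')))
    ?_ (J'.map (algebraMap A' (CA A' J' f'))) (map_tower I).symm (finiteType_CA_base J' f' hftA') ψ ?_ ?_ qf' ?_
  · exact ((congrArg (Ideal.map (algebraMap B' (CA B' K0 (algebraMap A' B' f')))) hK0).trans (map_tower I)).symm
  · rw [IsScalarTower.algebraMap_eq B B' (CA B' K0 (algebraMap A' B' f'))]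
    exact RingHom.Flat.comp (RingHom.flat_algebraMap_iff.mpr ‹Module.Flat B B'›) (flat_algebraMap_CA K0 _)
  · rw [IsScalarTower.algebraMap_eq A A' (CA A' J' f'), ← RingHom.comp_assoc,
      comp_algebraMap_of_compat (J := J') (K := K0) (algebraMap A' B') f' ψ hψ, RingHom.comp_assoc,
      ← IsScalarTower.algebraMap_eq A A' B', ← IsScalarTower.algebraMap_eq A B' (CA B' K0 (algebraMap A' B' f'))]
  · intro f ψf hψf qf hqf
    exact hAB f ψf hψf qf ((congrArg (fun J => RigClosed J qf) (map_CA (J := I.map (algebraMap A B)) (algebraMap A B f))).mpr hqf)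
  · exact (congrArg (fun J => RigClosed J qf') (map_CA (J := K0) (algebraMap A' B' f'))).mp hq

end Groth.Agent.S8845
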