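import Groth.Statements.S8846
import Groth.Agent.H24Adic.RigTensor

set_option autoImplicit false
set_option linter.style.haveILetI false
universe u
open scoped TensorProduct
open AdicRing

open Groth.Agent.H24Adic
namespace Groth.Agent.S8846

/-- Let A be a Noetherian ring complete for the adic topology of an ideal I, and B a Noetherian
A-algebra complete for the IB-adic topology with B/IB of finite type over A (an adic morphism,
topologically of finite type, of adic Noetherian topological rings), and assume A → B is rig-flat in
the following form: for every f ∈ A, every ring map ψ : A_{f} → B_{f} of completed principal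
localizations compatible with A_f → B_f (there is exactly one), and every rig-closed prime q of
B_{f} (I B_{f} ⊄ q and q maximal among the primes not containing I B_{f}), the local ring (B_{f})_q
is flat over A_{f} via ψ. Let C be a Noetherian A-algebra complete for the IC-adic topology with
C/IC of finite type over A (A → C adic and topologically of finite type), and let D be the completed
tensor product B ⊗̂_A C, i.e. the I-adic completion of C ⊗_A B, viewed as a C-algebra. Then C → D is
rig-flat in the same form: for every h ∈ C, every ring map C_{h} → D_{h} compatible with C_h → D_h,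
and every rig-closed prime q of D_{h}, the local ring (D_{h})_q is flat over C_{h}. (That D is
Noetherian and C → D adic and topologically of finite type is not restated.) -/
theorem result (A : Type u) [CommRing A] [IsNoetherianRing A] (I : Ideal A) [IsAdicComplete I A] (B : Type u) [CommRing B] [Algebra A B] [IsNoetherianRing B] [IsAdicComplete (I.map (algebraMap A B)) B] (hft : Algebra.FiniteType A (B ⧸ (I.map (algebraMap A B)))) (hAB : (∀ f : A, ∀ ψf : (AdicCompletion (I.map (algebraMap A (Localization.Away f))) (Localization.Away f)) →+* (AdicCompletion ((I.map (algebraMap A B)).map (algebraMap B (Localization.Away (algebraMap A B f)))) (Localization.Away (algebraMap A B f))), ψf.comp (algebraMap (Localization.Away f) (AdicCompletion (I.map (algebraMap A (Localization.Away f))) (Localization.Away f))) = (algebraMap (Localization.Away (algebraMap A B f)) (AdicCompletion ((I.map (algebraMap A B)).map (algebraMap B (Localization.Away (algebraMap A B f)))) (Localization.Away (algebraMap A B f)))).comp (Localization.awayMap (algebraMap A B) f) → ∀ qf : PrimeSpectrum (AdicCompletion ((I.map (algebraMap A B)).map (algebraMap B (Localization.Away (algebraMap A B f)))) (Localization.Away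 (algebraMap A B f))), (¬ (((I.map (algebraMap A B)).map (algebraMap B (Localization.Away (algebraMap A B f)))).map (algebraMap (Localization.Away (algebraMap A B f)) (AdicCompletion ((I.map (algebraMap A B)).map (algebraMap B (Localization.Away (algebraMap A B f)))) (Localization.Away (algebraMap A B f))))) ≤ qf.asIdeal ∧ ∀ y : PrimeSpectrum (AdicCompletion ((I.map (algebraMap A B)).map (algebraMap B (Localization.Away (algebraMap A B f)))) (Localization.Away (algebraMap A B f))), qf ≤ y → ¬ (((I.map (algebraMap A B)).map (algebraMap B (Localization.Away (algebraMap A B f)))).map (algebraMap (Localization.Away (algebraMap A B f)) (AdicCompletion ((I.map (algebraMap A B)).map (algebraMap B (Localization.Away (algebraMap A B f)))) (Localization.Away (algebraMap A B f))))) ≤ y.asIdeal → y = qf) → ((algebraMap (AdicCompletion ((I.map (algebraMap A B)).map (algebraMap B (Localization.Away (algebraMap A B f)))) (Localization.Away (algebraMap A B f))) (Localization.AtPrime qf.asIdeal)).comp ψf).Flat)) (C : Type u) [CommRing C] [Algebra A C] [IsNoetherianRing C] [IsAdicComplete (I.map (algebraMap A C)) C] (hftC : Algebra.FiniteType A (C ⧸ (I.map (algebraMap A C)))) : (∀ h : C, ∀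 ψh : (AdicCompletion ((I.map (algebraMap A C)).map (algebraMap C (Localization.Away h))) (Localization.Away h)) →+* (AdicCompletion (((I.map (algebraMap A C)).map (algebraMap C (AdicCompletion ((I.map (algebraMap A C)).map (algebraMap C (TensorProduct A C B))) (TensorProduct A C B)))).map (algebraMap (AdicCompletion ((I.map (algebraMap A C)).map (algebraMap C (TensorProduct A C B))) (TensorProduct A C B)) (Localization.Away (algebraMap C (AdicCompletion ((I.map (algebraMap A C)).map (algebraMap C (TensorProduct A C B))) (TensorProduct A C B)) h)))) (Localization.Away (algebraMap C (AdicCompletion ((I.map (algebraMap A C)).map (algebraMap C (TensorProduct A C B))) (TensorProduct A C B)) h))), ψh.comp (algebraMap (Localization.Away h) (AdicCompletion ((I.map (algebraMap A C)).map (algebraMap C (Localization.Away h))) (Localization.Away h))) = (algebraMap (Localization.Away (algebraMap C (AdicCompletion ((I.map (algebraMap A C)).map (algebraMap C (TensorProduct A C B))) (TensorProduct A C B)) h)) (AdicCompletion (((I.map (algebraMap A C)).map (algebraMap C (AdicCompletion ((I.map (algebraMap A C)).map (algebraMap C (TensorProduct A C B))) (TensorProduct A C B)))).map (algebraMap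 (AdicCompletion ((I.map (algebraMap A C)).map (algebraMap C (TensorProduct A C B))) (TensorProduct A C B)) (Localization.Away (algebraMap C (AdicCompletion ((I.map (algebraMap A C)).map (algebraMap C (TensorProduct A C B))) (TensorProduct A C B)) h)))) (Localization.Away (algebraMap C (AdicCompletion ((I.map (algebraMap A C)).map (algebraMap C (TensorProduct A C B))) (TensorProduct A C B)) h)))).comp (Localization.awayMap (algebraMap C (AdicCompletion ((I.map (algebraMap A C)).map (algebraMap C (TensorProduct A C B))) (TensorProduct A C B))) h) → ∀ qh : PrimeSpectrum (AdicCompletion (((I.map (algebraMap A C)).map (algebraMap C (AdicCompletion ((I.map (algebraMap A C)).map (algebraMap C (TensorProduct A C B))) (TensorProduct A C B)))).map (algebraMap (AdicCompletion ((I.map (algebraMap A C)).map (algebraMap C (TensorProduct A C B))) (TensorProduct A C B)) (Localization.Away (algebraMap C (AdicCompletion ((I.map (algebraMap A C)).map (algebraMap C (TensorProduct A C B))) (TensorProduct A C B)) h)))) (Localization.Away (algebraMap C (AdicCompletion ((I.map (algebraMap A C)).map (algebraMap C (TensorProduct A C B))) (TensorProduct A C B)) h))), (¬ ((((I.map (algebraMap A C)).map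 (algebraMap C (AdicCompletion ((I.map (algebraMap A C)).map (algebraMap C (TensorProduct A C B))) (TensorProduct A C B)))).map (algebraMap (AdicCompletion ((I.map (algebraMap A C)).map (algebraMap C (TensorProduct A C B))) (TensorProduct A C B)) (Localization.Away (algebraMap C (AdicCompletion ((I.map (algebraMap A C)).map (algebraMap C (TensorProduct A C B))) (TensorProduct A C B)) h)))).map (algebraMap (Localization.Away (algebraMap C (AdicCompletion ((I.map (algebraMap A C)).map (algebraMap C (TensorProduct A C B))) (TensorProduct A C B)) h)) (AdicCompletion (((I.map (algebraMap A C)).map (algebraMap C (AdicCompletion ((I.map (algebraMap A C)).map (algebraMap C (TensorProduct A C B))) (TensorProduct A C B)))).map (algebraMap (AdicCompletion ((I.map (algebraMap A C)).map (algebraMap C (TensorProduct A C B))) (TensorProduct A C B)) (Localization.Away (algebraMap C (AdicCompletion ((I.map (algebraMap A C)).map (algebraMap C (TensorProduct A C B))) (TensorProduct A C B)) h)))) (Localization.Away (algebraMap C (AdicCompletion ((I.map (algebraMap A C)).map (algebraMap C (TensorProduct A C B))) (TensorProduct A C B)) h))))) ≤ qh.asIdeal ∧ ∀ y : PrimeSpectrum (AdicCompletion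 (((I.map (algebraMap A C)).map (algebraMap C (AdicCompletion ((I.map (algebraMap A C)).map (algebraMap C (TensorProduct A C B))) (TensorProduct A C B)))).map (algebraMap (AdicCompletion ((I.map (algebraMap A C)).map (algebraMap C (TensorProduct A C B))) (TensorProduct A C B)) (Localization.Away (algebraMap C (AdicCompletion ((I.map (algebraMap A C)).map (algebraMap C (TensorProduct A C B))) (TensorProduct A C B)) h)))) (Localization.Away (algebraMap C (AdicCompletion ((I.map (algebraMap A C)).map (algebraMap C (TensorProduct A C B))) (TensorProduct A C B)) h))), qh ≤ y → ¬ ((((I.map (algebraMap A C)).map (algebraMap C (AdicCompletion ((I.map (algebraMap A C)).map (algebraMap C (TensorProduct A C B))) (TensorProduct A C B)))).map (algebraMap (AdicCompletion ((I.map (algebraMap A C)).map (algebraMap C (TensorProduct A C B))) (TensorProduct A C B)) (Localization.Away (algebraMap C (AdicCompletion ((I.map (algebraMap A C)).map (algebraMap C (TensorProduct A C B))) (TensorProduct A C B)) h)))).map (algebraMap (Localization.Away (algebraMap C (AdicCompletion ((I.map (algebraMap A C)).map (algebraMap C (TensorProduct A C B))) (TensorProduct A C B)) h)) (AdicCompletion (((I.map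 (algebraMap A C)).map (algebraMap C (AdicCompletion ((I.map (algebraMap A C)).map (algebraMap C (TensorProduct A C B))) (TensorProduct A C B)))).map (algebraMap (AdicCompletion ((I.map (algebraMap A C)).map (algebraMap C (TensorProduct A C B))) (TensorProduct A C B)) (Localization.Away (algebraMap C (AdicCompletion ((I.map (algebraMap A C)).map (algebraMap C (TensorProduct A C B))) (TensorProduct A C B)) h)))) (Localization.Away (algebraMap C (AdicCompletion ((I.map (algebraMap A C)).map (algebraMap C (TensorProduct A C B))) (TensorProduct A C B)) h))))) ≤ y.asIdeal → y = qh) → ((algebraMap (AdicCompletion (((I.map (algebraMap A C)).map (algebraMap C (AdicCompletion ((I.map (algebraMap A C)).map (algebraMap C (TensorProduct A C B))) (TensorProduct A C B)))).map (algebraMap (AdicCompletion ((I.map (algebraMap A C)).map (algebraMap C (TensorProduct A C B))) (TensorProduct A C B)) (Localization.Away (algebraMap C (AdicCompletion ((I.map (algebraMap A C)).map (algebraMap C (TensorProduct A C B))) (TensorProduct A C B)) h)))) (Localization.Away (algebraMap C (AdicCompletion ((I.map (algebraMap A C)).map (algebraMap C (TensorProduct A C B))) (TensorProduct A C B)) h))) (Localization.AtPrime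 qh.asIdeal)).comp ψh).Flat) := by
  intro h ψ hψ qh hq
  refine flat_rigClosed_completedTensor I hft ?_ hftC _ ?_ _ ?_ _ ?_ h ψ (comp_algebraMap_of_compat _ h ψ hψ) qh ?_
  · intro f ψf hψf qf hqf
    exact hAB f ψf hψf qf ((congrArg (fun J => RigClosed J qf) (map_CA (J := I.map (algebraMap A B)) (algebraMap A B f))).mpr hqf)
  · rfl
  · rfl
  · rfl
  · exact (congrArg (fun J => RigClosed J qh) (map_CA _)).mp hq

end Groth.Agent.S8846
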