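import Groth.Statements.S8850
import Groth.Agent.H17.SchDense
import Mathlib.AlgebraicGeometry.Morphisms.SchemeTheoreticallyDominant

set_option autoImplicit false
universe u
open CategoryTheory CategoryTheory.Limits AlgebraicGeometry TopologicalSpace
open SDiv

namespace Groth.Agent.S8850

/-- Let S be a scheme, X a Noetherian S-scheme, Y a proper S-scheme, U ⊆ X an open subscheme and f : U ⟶
Y a morphism compatible with the structure morphisms to S. Then there are a proper morphism p : X' ⟶
X restricting to an isomorphism over U and an S-morphism f' : X' ⟶ Y whose restriction to p⁻¹(U) is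
f composed with p. The published statement takes U dense, so that f is an S-rational map; this row
allows any open U, which its proof does not need. -/
theorem result {X Y S : Scheme.{u}} [IsNoetherian X] (a : X ⟶ S) (b : Y ⟶ S)
    [IsProper b] (U : X.Opens) (f : (U : Scheme.{u}) ⟶ Y) (hf : f ≫ b = U.ι ≫ a) :
    ∃ (X' : Scheme.{u}) (p : X' ⟶ X) (f' : X' ⟶ Y), IsProper p ∧ IsIso (p ∣_ U) ∧ f' ≫ b = p ≫ a ∧
      (p ⁻¹ᵁ U).ι ≫ f' = (p ∣_ U) ≫ f := by
  let P := pullback a b
  let gr : (U : Scheme.{u}) ⟶ P := pullback.lift U.ι f hf.symm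
  haveI : QuasiCompact (gr ≫ pullback.fst a b) := by rw [pullback.lift_fst]; infer_instance
  haveI : QuasiCompact gr := QuasiCompact.of_comp gr (pullback.fst a b)
  let p := gr.imageι ≫ pullback.fst a b
  have hp : gr.toImage ≫ p = U.ι := by
    show gr.toImage ≫ gr.imageι ≫ _ = _
    rw [← Category.assoc, Scheme.Hom.toImage_imageι, pullback.lift_fst]
  haveI : IsProper p := inferInstanceAs (IsProper (gr.imageι ≫ pullback.fst a b))
  have hrange : Set.range gr.toImage ⊆ Set.range (p ⁻¹ᵁ U).ι := by
    rintro _ ⟨y, rfl⟩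
    rw [Scheme.Opens.range_ι]
    show p (gr.toImage y) ∈ U
    rw [← Scheme.Hom.comp_apply, hp]
    exact y.2
  let t := IsOpenImmersion.lift (p ⁻¹ᵁ U).ι gr.toImage hrange
  have ht : t ≫ (p ⁻¹ᵁ U).ι = gr.toImage := IsOpenImmersion.lift_fac _ _ _
  have htp : t ≫ (p ∣_ U) = 𝟙 _ := by
    rw [← cancel_mono U.ι, Category.assoc, morphismRestrict_ι, ← Category.assoc, ht, hp, Category.id_comp]
  haveI : IsClosedImmersion t := by
    haveI : IsClosedImmersion (t ≫ (p ∣_ U)) := by rw [htp]; infer_instance
    haveI : IsSeparated (p ∣_ U) := IsZariskiLocalAtTarget.restrict (P := @IsSeparated) inferInstance U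
    exact IsClosedImmersion.of_comp t (p ∣_ U)
  haveI : IsSchemeTheoreticallyDominant gr.toImage := ⟨Groth.Agent.H17.ker_toImage gr⟩
  have sq : IsPullback (𝟙 _) t gr.toImage (p ⁻¹ᵁ U).ι := by
    refine ⟨⟨(Category.id_comp _).trans ht.symm⟩, ⟨PullbackCone.IsLimit.mk _ (fun s => s.fst) ?_ ?_ ?_⟩⟩
    · exact fun s => Category.comp_id _
    · intro s
      rw [← cancel_mono (p ⁻¹ᵁ U).ι, Category.assoc, ht, s.condition]
    · intro s m h1 _
      rw [← h1, Category.comp_id]
  haveI : IsSchemeTheoreticallyDominant t := IsSchemeTheoreticallyDominant.of_isPullback sq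
  haveI : IsIso t := IsClosedImmersion.isIso_iff_ker_eq_bot.2 (Scheme.Hom.ker_eq_bot t)
  refine ⟨gr.image, p, gr.imageι ≫ pullback.snd a b, inferInstance, ?_, ?_, ?_⟩
  · haveI : IsIso (t ≫ (p ∣_ U)) := by rw [htp]; infer_instance
    exact IsIso.of_isIso_comp_left t (p ∣_ U)
  · simp only [p, Category.assoc, pullback.condition]
  · rw [← cancel_epi t, ← Category.assoc, ht, ← Category.assoc t, htp, Category.id_comp, ← Category.assoc,
      Scheme.Hom.toImage_imageι, pullback.lift_snd]

end Groth.Agent.S8850
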