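import Groth.Statements.S8852
import Groth.Agent.H29Blow.Basic

set_option autoImplicit false
universe u
open CategoryTheory CategoryTheory.Limits AlgebraicGeometry TopologicalSpace
open SDiv

namespace Groth.Agent.S8852

/-- Let 𝓘, 𝓙 be quasi-coherent ideal sheaves on a scheme X (closed subschemes Z, Y). If the product 𝓘𝓙
is the ideal sheaf of an effective Cartier divisor D, then 𝓘 and 𝓙 are ideal sheaves of effective
Cartier divisors (and D is their sum, D having ideal 𝓘𝓙 by assumption). -/
theorem result {X : Scheme.{u}} (𝓘 𝓙 : X.IdealSheafData)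
    (h : BlowUp.IsEffCartierIdeal (𝓘 * 𝓙)) : BlowUp.IsEffCartierIdeal 𝓘 ∧ BlowUp.IsEffCartierIdeal 𝓙 := by
  exact ⟨H29Blow.isEffCartierIdeal_left_of_mul h, H29Blow.isEffCartierIdeal_right_of_mul h⟩

end Groth.Agent.S8852
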