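import Groth.Statements.S8856
import Groth.Agent.H11LCI.GenericKoszul
import Groth.Agent.H29Slice.TransBC

set_option autoImplicit false
universe u
open CategoryTheory CategoryTheory.Limits AlgebraicGeometry TopologicalSpace
open SDiv
set_option linter.style.haveILetI false

namespace Groth.Agent.S8856

/-- For a Koszul-regular closed immersion i : Z ⟶ X, some surjective smooth morphism g : X' ⟶ X makes
the base change Z ×_X X' ⟶ X' of i along g a regular immersion. -/
theorem result {Z X : Scheme.{u}} (i : Z ⟶ X) [IsClosedImmersion i]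
    (hi : RegImm.IsRegularImmersion RegImm.Kind.koszul i) :
    ∃ (X' : Scheme.{u}) (g : X' ⟶ X), Smooth g ∧ Surjective g ∧
      RegImm.IsRegularImmersion RegImm.Kind.regular (pullback.snd i g) := by
  classical
  have hclr : IsClosed (Set.range i) := i.isClosedEmbedding.isClosed_range
  let O : X.Opens := ⟨(Set.range i)ᶜ, hclr.isOpen_compl⟩
  have chart : ∀ x : Set.range i, ∃ (U : X.affineOpens) (B : Type u) (_ : CommRing B) (φ : Γ(X, U.1) →+* B)
      (q : PrimeSpectrum B) (rs : List B), φ.Smooth ∧ IsClosedImmersion (i ∣_ U.1) ∧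
      (Spec.map (CommRingCat.ofHom φ) ≫ U.2.fromSpec) q = x.1 ∧
      RingTheory.Sequence.IsWeaklyRegular B rs ∧
      Ideal.ofList rs = (RingHom.ker (i.app U.1).hom).map φ := by
    rintro ⟨_, z, rfl⟩
    obtain ⟨U, hzU, hcl, rs, hrs, hker⟩ := hi.2 z
    have hle : Ideal.ofList (rs ++ []) ≤ (U.2.primeIdealOf ⟨i z, hzU⟩).asIdeal := by
      rw [List.append_nil, ← hker, U.2.primeIdealOf_eq_map_closedPoint]
      intro r hr
      show (X.presheaf.germ U.1 (i z) hzU).hom r ∈ IsLocalRing.maximalIdeal _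
      rw [IsLocalRing.mem_maximalIdeal, mem_nonunits_iff]
      intro hu
      have h1 : i z ∈ X.basicOpen r := (X.mem_basicOpen r (i z) hzU).2 hu
      have h2 : z ∈ i ⁻¹ᵁ X.basicOpen r := h1
      rw [Scheme.preimage_basicOpen, RingHom.mem_ker.1 hr, Scheme.basicOpen_zero] at h2
      exact h2.elim
    obtain ⟨B, _, _, q, rs', hsm, hq, hreg, hI⟩ :=
      H11LCI.GenericKoszul.exists_smooth_weaklyRegular rs.length Γ(X, U.1) [] rs rfl (.nil _ _)
        (by rw [List.append_nil]; exact hrs) (U.2.primeIdealOf ⟨i z, hzU⟩) hle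
    refine ⟨U, B, inferInstance, algebraMap Γ(X, U.1) B, q, rs', RingHom.smooth_algebraMap.2 hsm, hcl, ?_, hreg,
      by rw [hI, List.append_nil, hker]⟩
    show U.2.fromSpec (Spec.map (CommRingCat.ofHom (algebraMap Γ(X, U.1) B)) q) = i z
    rw [show Spec.map (CommRingCat.ofHom (algebraMap Γ(X, U.1) B)) q = U.2.primeIdealOf ⟨i z, hzU⟩ from
      PrimeSpectrum.ext hq]
    exact U.2.fromSpec_primeIdealOf ⟨i z, hzU⟩
  choose U B instB φ q rs hsm hcl hq hreg hI using chart
  let Y : Option (Set.range i) → Scheme.{u} := fun o => match o with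
    | none => O
    | some x => Spec (CommRingCat.of (B x))
  let f : ∀ o, Y o ⟶ X := fun o => match o with
    | none => O.ι
    | some x => Spec.map (CommRingCat.ofHom (φ x)) ≫ (U x).2.fromSpec
  let g : ∐ Y ⟶ X := Sigma.desc f
  have hf : ∀ o, Smooth (f o) := fun o => match o with
    | none => inferInstanceAs (Smooth O.ι)
    | some x => by
      haveI : Smooth (Spec.map (CommRingCat.ofHom (φ x))) := HasRingHomProperty.Spec_iff.2 (hsm x)
      exact inferInstanceAs (Smooth (Spec.map (CommRingCat.ofHom (φ x)) ≫ (U x).2.fromSpec))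
  have hgι : ∀ o, Sigma.ι Y o ≫ g = f o := fun o => Sigma.ι_desc f o
  have hgs : ∀ x, ∃ y, g y = x := fun x => by
    by_cases hx : x ∈ Set.range i
    · refine ⟨Sigma.ι Y (some ⟨x, hx⟩) (q ⟨x, hx⟩), ?_⟩
      rw [← Scheme.Hom.comp_apply, hgι]
      exact hq ⟨x, hx⟩
    · refine ⟨Sigma.ι Y none (⟨x, hx⟩ : O), ?_⟩
      rw [← Scheme.Hom.comp_apply, hgι]
      rfl
  refine ⟨∐ Y, g, IsZariskiLocalAtSource.sigmaDesc (P := @Smooth) hf, ⟨hgs⟩,
    MorphismProperty.pullback_snd (P := @IsImmersion) i g inferInstance, fun w => ?_⟩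
  let H : IsPullback (pullback.fst i g) (pullback.snd i g) i g := IsPullback.of_hasPullback i g
  obtain ⟨o, y, hy⟩ : ∃ o y, Sigma.ι Y o y = pullback.snd i g w :=
    ⟨(sigmaOpenCover Y).idx _, (sigmaOpenCover Y).covers _⟩
  have hwy : f o y = i (pullback.fst i g w) := by
    rw [← hgι, Scheme.Hom.comp_apply, hy, ← Scheme.Hom.comp_apply, ← H.w]
    rfl
  cases o with
  | none => exact absurd ⟨_, hwy.symm⟩ y.2
  | some x =>
    let A : Scheme.{u} := Spec (CommRingCat.of (B x))
    let s : A ⟶ ∐ Y := Sigma.ι Y (some x)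
    let W : (∐ Y).Opens := s.opensRange
    have hW : IsAffineOpen W := isAffineOpen_opensRange s
    have hWU : W ≤ g ⁻¹ᵁ (U x).1 := by
      rintro _ ⟨a, rfl⟩
      show g (s a) ∈ (U x).1
      rw [← Scheme.Hom.comp_apply, hgι (some x)]
      exact (U x).2.range_fromSpec.le ⟨_, rfl⟩
    obtain ⟨hcl', hker'⟩ := H29Slice.restrict_baseChange H (U x).2 (hcl x) hW hWU
    have hWtop : s ⁻¹ᵁ W = ⊤ := s.preimage_opensRange
    let ψ : Γ(∐ Y, W) ⟶ CommRingCat.of (B x) :=
      s.appLE W ⊤ hWtop.ge ≫ (Scheme.ΓSpecIso (CommRingCat.of (B x))).hom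
    haveI : IsIso (s.appLE W ⊤ hWtop.ge) := by
      rw [Scheme.Hom.appLE]
      haveI : IsIso (s.app W) := Scheme.Hom.isIso_app s W le_rfl
      haveI : IsIso (A.presheaf.map (homOfLE hWtop.ge).op) := by
        haveI : IsIso (homOfLE hWtop.ge) := ⟨homOfLE hWtop.le, rfl, rfl⟩
        infer_instance
      infer_instance
    have hψ : g.appLE (U x).1 W hWU ≫ ψ = CommRingCat.ofHom (φ x) := by
      simp only [ψ]
      rw [← Category.assoc, Scheme.Hom.appLE_comp_appLE]
      have key : ∀ (F : A ⟶ X) (e : (⊤ : A.Opens) ≤ F ⁻¹ᵁ (U x).1),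
          F = Spec.map (CommRingCat.ofHom (φ x)) ≫ (U x).2.fromSpec →
          F.appLE (U x).1 ⊤ e ≫ (Scheme.ΓSpecIso (CommRingCat.of (B x))).hom = CommRingCat.ofHom (φ x) := by
        rintro F e rfl
        rw [Scheme.Hom.comp_appLE, (U x).2.fromSpec_app_self, Category.assoc, Category.assoc,
          Scheme.Hom.map_appLE_assoc]
        erw [← Scheme.Hom.app_eq_appLE (f := Spec.map (CommRingCat.ofHom (φ x))) (U := ⊤)]
        erw [Scheme.ΓSpecIso_naturality, Iso.inv_hom_id_assoc]
      exact key _ _ (hgι (some x))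
    have hψbij : Function.Bijective ψ.hom := ConcreteCategory.bijective_of_isIso ψ
    let e : Γ(∐ Y, W) ≃+* B x := RingEquiv.ofBijective ψ.hom hψbij
    have hrs : RingTheory.Sequence.IsWeaklyRegular Γ(∐ Y, W) ((rs x).map e.symm) := by
      refine (AddEquiv.isWeaklyRegular_congr (e := e.symm.toAddEquiv) ?_).1 (hreg x)
      rw [List.forall₂_map_right_iff, List.forall₂_same]
      exact fun r _ a => map_mul e.symm r a
    have hcomp : (g.appLE (U x).1 W hWU).hom = (e.symm : B x →+* Γ(∐ Y, W)).comp (φ x) := by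
      ext a
      apply e.injective
      show ψ.hom _ = e (e.symm (φ x a))
      rw [RingEquiv.apply_symm_apply]
      exact congrArg (fun h => h.hom a) hψ
    have hker'' : RingHom.ker ((pullback.snd i g).app W).hom = Ideal.ofList ((rs x).map e.symm) := by
      rw [hker', hcomp, ← Ideal.map_map, ← hI x, Ideal.map_ofList]
      rfl
    have hwW : pullback.snd i g w ∈ W := ⟨y, hy⟩
    exact ⟨⟨W, hW⟩, hwW, hcl', _, H29Slice.isRegular_of_mem _ w hwW hrs hker'', hker''⟩

end Groth.Agent.S8856
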