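import Groth.Statements.S8860
import Groth.Agent.H11Norm.QuasiAffineNormal
import Groth.Agent.S9716

set_option autoImplicit false
universe u
open CategoryTheory CategoryTheory.Limits AlgebraicGeometry TopologicalSpace
open SDiv

namespace Groth.Agent.S8860

/-- Let π : X ⟶ Y be a finite surjective morphism of schemes with X quasi-affine. If either π is finite
locally free (finite, flat and locally of finite presentation), or Y is integral with all local
rings integrally closed domains (normal), then Y is quasi-affine. -/
theorem result {X Y : Scheme.{u}} (π : X ⟶ Y) [IsFinite π] [Surjective π]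
    (hX : X.IsQuasiAffine) (h : Mor2.IsFinLocFree π ∨ (IsIntegral Y ∧ Pi1.IsNormalScheme Y)) :
    Y.IsQuasiAffine := by
  rcases h with h | ⟨hY, hN⟩
  · haveI : CompactSpace Y := by
      haveI := hX
      exact π.surjective.compactSpace π.continuous
    obtain ⟨d⟩ := H11Norm.IsChart.nrm_rank (g := π) fun x =>
      H11Norm.exists_chart_of_isFinLocFree π ((Groth.Agent.S9716.result π).2 h).2 x
    exact H11Norm.isQuasiAffine_of_normMul d hX
  · haveI := hY
    exact H11Norm.isQuasiAffine_of_finite_surjective_normal π hN hX

end Groth.Agent.S8860
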