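import Groth.Statements.S8861
import Groth.Agent.H29Blow.WeakAss

set_option autoImplicit false
universe u
open CategoryTheory CategoryTheory.Limits AlgebraicGeometry TopologicalSpace
open SDiv

namespace Groth.Agent.S8861

/-- Let f : X ⟶ Y be a morphism of schemes and 𝓘 the ideal sheaf of an effective Cartier divisor D ⊆ Y.
If f x ∉ D for every weakly associated point x of X (weakly associated point of the structure
sheaf), then the inverse image ideal sheaf of 𝓘 on X is the ideal of an effective Cartier divisor,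
i.e. the pullback of D by f is defined. -/
theorem result {X Y : Scheme.{u}} (f : X ⟶ Y) (𝓘 : Y.IdealSheafData)
    (hD : BlowUp.IsEffCartierIdeal 𝓘)
    (h : ∀ x : ↥X, Curv2.IsWeakAssPoint (Coh.structureModule X) x → f x ∉ 𝓘.support) :
    BlowUp.IsEffCartierIdeal (𝓘.comap f) := by
  intro x
  obtain ⟨U, hxU, a, ha, haU⟩ := hD (f x)
  obtain ⟨V, hV, hxV, hVU⟩ := exists_isAffineOpen_mem_and_subset (U := f ⁻¹ᵁ U.1) (x := x) hxU
  have hideal : (𝓘.comap f).ideal ⟨V, hV⟩ = Ideal.span {(f.appLE U.1 V hVU).hom a} := by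
    rw [H29Blow.ideal_comap 𝓘 f U ⟨V, hV⟩ hVU, haU, Ideal.map_span, Set.image_singleton]
  refine ⟨⟨V, hV⟩, hxV, _, mem_nonZeroDivisors_iff_right.mpr fun s hs => ?_, hideal⟩
  by_contra hne
  obtain ⟨y, hy, hweak, hgerm⟩ := H29Blow.exists_isWeakAssPoint_germ_ne_zero ⟨V, hV⟩ hne
  have hns : y ∉ (𝓘.comap f).support := by
    rw [Scheme.IdealSheafData.support_comap]; exact h y hweak
  rw [Scheme.IdealSheafData.mem_support_iff_of_mem (U := ⟨V, hV⟩) hy, hideal,
    Scheme.zeroLocus_span, Scheme.mem_zeroLocus_iff] at hns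
  have hu : y ∈ X.basicOpen ((f.appLE U.1 V hVU).hom a) := by simpa using hns
  rw [X.mem_basicOpen _ y hy] at hu
  have h0 := congrArg (X.presheaf.germ V y hy) hs
  rw [map_mul, map_zero] at h0
  exact hgerm ((hu.mul_left_eq_zero).mp h0)

end Groth.Agent.S8861
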