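import Groth.Statements.S8863
import Groth.Agent.H29Blow.AssPoints

set_option autoImplicit false
universe u
open CategoryTheory CategoryTheory.Limits AlgebraicGeometry TopologicalSpace
open SDiv

namespace Groth.Agent.S8863

/-- Let X be a locally Noetherian scheme and x a point of X. Then the monoid S_x of germs at x of
regular sections of O_X (sections whose germ at every point of their open of definition is a
nonzerodivisor) is the whole monoid of nonzerodivisors of O_{X,x}; consequently K_{X,x} is the total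
ring of fractions of O_{X,x}. -/
theorem result (X : Scheme.{u}) [IsLocallyNoetherian X] (x : ↥X) :
    Mero.regStalk X x = nonZeroDivisors ↑(X.presheaf.stalk x) := by
  classical
  ext g
  constructor
  · rintro ⟨U, hx, f, hf, rfl⟩
    exact hf ⟨x, hx⟩
  · intro hg
    obtain ⟨T, hxT, a, rfl⟩ := X.presheaf.germ_exist g
    obtain ⟨D, hD, hxD, hDT⟩ := exists_isAffineOpen_mem_and_subset (U := T) (x := x) hxT
    have hDT' : D ≤ T := hDT
    haveI : IsNoetherianRing Γ(X, D) := IsLocallyNoetherian.component_noetherian ⟨D, hD⟩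
    haveI := hD.isLocalization_stalk ⟨x, hxD⟩
    letI := TopCat.Presheaf.algebra_section_stalk X.presheaf (⟨x, hxD⟩ : D)
    set a₁ := X.presheaf.map (homOfLE hDT').op a with ha₁
    set p := (hD.primeIdealOf ⟨x, hxD⟩).asIdeal
    have hga : X.presheaf.germ D x hxD a₁ = X.presheaf.germ T x hxT a :=
      TopCat.Presheaf.germ_res_apply _ _ _ _ _
    obtain ⟨S, hS⟩ := (IsNoetherian.noetherian
      (LinearMap.ker (LinearMap.mulLeft Γ(X, D) a₁)) : (LinearMap.ker (LinearMap.mulLeft Γ(X, D) a₁)).FG)
    have hloc : ∀ b ∈ S, ∃ t : Γ(X, D), t ∉ p ∧ t * b = 0 := fun b hb => by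
      have hb0 : a₁ * b = 0 := by
        have : b ∈ LinearMap.ker (LinearMap.mulLeft Γ(X, D) a₁) := hS ▸ Submodule.subset_span hb
        simpa using this
      have h1 := congrArg (X.presheaf.germ D x hxD) hb0
      rw [map_mul, map_zero, hga] at h1
      have h2 : X.presheaf.germ D x hxD b = 0 :=
        (mem_nonZeroDivisors_iff.mp hg).1 _ h1
      obtain ⟨t, ht⟩ := (IsLocalization.map_eq_zero_iff p.primeCompl (X.presheaf.stalk x) _).mp h2
      exact ⟨t, t.2, ht⟩
    choose! t htp ht0 using hloc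
    have htprod : (∏ b ∈ S, t b) ∉ p := fun hmem => by
      obtain ⟨b, hb, hbp⟩ := ((hD.primeIdealOf ⟨x, hxD⟩).2.prod_mem_iff).mp hmem
      exact htp b hb hbp
    set T₀ := X.basicOpen (∏ b ∈ S, t b)
    have hxT₀ : x ∈ T₀ := by
      rw [X.mem_basicOpen _ x hxD]
      exact IsLocalization.map_units (X.presheaf.stalk x) (⟨_, htprod⟩ : p.primeCompl)
    have hT₀D : T₀ ≤ D := X.basicOpen_le _
    refine ⟨T₀, hxT₀, X.presheaf.map (homOfLE hT₀D).op a₁, fun y => ?_,
      (TopCat.Presheaf.germ_res_apply _ _ _ _ _).trans hga⟩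
    change X.presheaf.germ T₀ y.1 y.2 (X.presheaf.map _ a₁) ∈ _
    rw [TopCat.Presheaf.germ_res_apply]
    have hyD : y.1 ∈ D := hT₀D y.2
    haveI := hD.isLocalization_stalk ⟨y.1, hyD⟩
    letI := TopCat.Presheaf.algebra_section_stalk X.presheaf (⟨y.1, hyD⟩ : D)
    set q := (hD.primeIdealOf ⟨y.1, hyD⟩).asIdeal
    rw [mem_nonZeroDivisors_iff_right]
    intro u hu
    obtain ⟨b, c, rfl⟩ := IsLocalization.exists_mk'_eq q.primeCompl u
    have halg : X.presheaf.germ D y.1 hyD a₁ = algebraMap Γ(X, D) (X.presheaf.stalk y.1) a₁ := rfl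
    rw [halg, mul_comm, IsLocalization.mul_mk'_eq_mk'_of_mul, IsLocalization.mk'_eq_zero_iff] at hu
    obtain ⟨v, hv⟩ := hu
    rw [IsLocalization.mk'_eq_zero_iff]
    have hker : (v : Γ(X, D)) * b ∈ LinearMap.ker (LinearMap.mulLeft Γ(X, D) a₁) := by
      rw [LinearMap.mem_ker, LinearMap.mulLeft_apply]; linear_combination hv
    rw [← hS] at hker
    have hall : (∏ b ∈ S, t b) * ((v : Γ(X, D)) * b) = 0 := by
      generalize (v : Γ(X, D)) * b = w at hker
      induction hker using Submodule.span_induction with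
      | mem z hz => rw [← Finset.prod_erase_mul _ _ hz, mul_assoc, ht0 z hz, mul_zero]
      | zero => simp
      | add z w _ _ hz hw => rw [mul_add, hz, hw, add_zero]
      | smul r z _ hz => rw [smul_eq_mul, mul_left_comm, hz, mul_zero]
    refine ⟨⟨(∏ b ∈ S, t b) * v, ?_⟩, by linear_combination hall⟩
    refine q.primeCompl.mul_mem ?_ v.2
    exact (IsLocalization.AtPrime.isUnit_to_map_iff (X.presheaf.stalk y.1) q _).mp
      ((X.mem_basicOpen _ y.1 hyD).mp y.2)

end Groth.Agent.S8863
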