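import Groth.Statements.S8865
import Mathlib

set_option autoImplicit false
universe u
open CategoryTheory CategoryTheory.Limits AlgebraicGeometry TopologicalSpace
open SDiv

namespace Groth.Agent.S8865

/-- Let X be a quasi-compact scheme, h a global section of O_X and f a global section of the sheaf of
meromorphic functions K_X whose restriction to the open X_h where h is invertible vanishes. Then h^n
f = 0 in K_X(X) for some natural number n. -/
theorem result (X : Scheme.{u}) [CompactSpace ↥X] (h : Γ(X, ⊤))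
    (f : Γ(Mero.kmod X, ⊤)) (hf : (Mero.kmod X).presheaf.map (homOfLE (le_top : X.basicOpen h ≤ ⊤)).op f = 0) :
    ∃ n : ℕ, Mero.toK X ⊤ h ^ n * f = 0 := by
  have hloc : ∀ x : X, ∃ (V : X.Opens) (n : ℕ), x ∈ V ∧
      ∀ y : V, (Mero.toK X ⊤ h ^ n * f).1 ⟨y.1, trivial⟩ = 0 := by
    intro x
    obtain ⟨V₀, hx, i, a, b, w⟩ := f.2 ⟨x, trivial⟩
    obtain ⟨V, hV, hxV, hVsub⟩ := exists_isAffineOpen_mem_and_subset (U := V₀) (x := x) hx
    have hle : V ≤ V₀ := hVsub
    let a' : Γ(X, V) := X.presheaf.map (homOfLE hle).op a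
    let h' : Γ(X, V) := X.presheaf.map (homOfLE le_top).op h
    have hres : X.presheaf.map (homOfLE (X.basicOpen_le h')).op a' = 0 := by
      refine TopCat.Presheaf.section_ext X.sheaf _ _ _ fun y hy ↦ ?_
      have hy' : y ∈ X.basicOpen h := by
        have := (X.basicOpen_res h (homOfLE (le_top : V ≤ ⊤)).op).le hy
        exact this.2
      have hyV₀ : y ∈ V₀ := hle (X.basicOpen_le h' hy)
      have w' := w ⟨y, hyV₀⟩
      dsimp only at w'
      have h0 : ((Mero.kmod X).presheaf.map (homOfLE (le_top : X.basicOpen h ≤ ⊤)).op f).1 ⟨y, hy'⟩ = 0 := by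
        rw [hf]; rfl
      change f.1 ⟨y, trivial⟩ = 0 at h0
      have h1 : (LocalizedModule.mk (X.presheaf.germ V₀ y hyV₀ a) (Mero.regGerm ⟨y, hyV₀⟩ b) :
          Mero.KStalk X y) = 0 := w'.symm.trans h0
      change X.presheaf.germ _ y hy (X.presheaf.map (homOfLE (X.basicOpen_le h')).op a') =
        X.presheaf.germ _ y hy 0
      rw [map_zero, X.presheaf.germ_res_apply]
      change X.presheaf.germ V y _ (X.presheaf.map (homOfLE hle).op a) = 0
      rw [X.presheaf.germ_res_apply]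
      obtain ⟨c, hc⟩ := LocalizedModule.mk_eq.mp (h1.trans (LocalizedModule.zero_mk (1 : Mero.regStalk X y)).symm)
      simp only [Submonoid.smul_def, smul_eq_mul, mul_zero, OneMemClass.coe_one, one_mul] at hc
      exact (mul_right_mem_nonZeroDivisors_eq_zero_iff (Mero.regStalk_le_nonZeroDivisors y c.2)).mp
        (by rw [mul_comm]; exact hc)
    obtain ⟨n, hn⟩ := exists_pow_mul_eq_zero_of_res_basicOpen_eq_zero_of_isCompact X (U := V)
      hV.isCompact a' h' hres
    refine ⟨V, n, hxV, fun y ↦ ?_⟩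
    have w' := w ⟨y.1, hle y.2⟩
    dsimp only at w'
    have hpow : (Mero.toK X ⊤ h ^ n).1 ⟨y.1, trivial⟩ =
        LocalizedModule.mk (X.presheaf.germ ⊤ y.1 trivial (h ^ n)) 1 := by
      rw [← map_pow]; rfl
    rw [Mero.kmod_mul_apply, hpow]
    change _ * f.1 (i ⟨y.1, hle y.2⟩) = (0 : Mero.KStalk X y.1)
    have hz : X.presheaf.germ ⊤ y.1 trivial (h ^ n) * X.presheaf.germ V₀ y.1 (hle y.2) a = 0 := by
      have e := congrArg (X.presheaf.germ V y.1 y.2) hn
      rw [map_mul, map_zero, map_pow, X.presheaf.germ_res_apply, X.presheaf.germ_res_apply] at e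
      rw [map_pow]; exact e
    refine (congrArg (_ * ·) w').trans (LocalizedModule.mk_mul_mk.trans ?_)
    rw [hz, LocalizedModule.zero_mk]
  choose V n hxV hV using hloc
  obtain ⟨s, hs⟩ := CompactSpace.elim_nhds_subcover (fun x ↦ (V x : Set X))
    (fun x ↦ (V x).2.mem_nhds (hxV x))
  refine ⟨s.sup n, Subtype.ext (funext fun y ↦ ?_)⟩
  obtain ⟨x, hx, hyx⟩ := Set.mem_iUnion₂.mp (hs.ge (Set.mem_univ y.1))
  obtain ⟨d, hd⟩ := Nat.exists_eq_add_of_le (Finset.le_sup hx : n x ≤ s.sup n)
  rw [hd, add_comm, pow_add, mul_assoc, Mero.kmod_mul_apply]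
  exact (congrArg (_ * ·) (hV x ⟨y.1, hyx⟩)).trans (mul_zero _)

end Groth.Agent.S8865
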