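import Groth.Statements.S8866
import Groth.Agent.H29Mero.RegularSection

set_option autoImplicit false
universe u
open CategoryTheory CategoryTheory.Limits AlgebraicGeometry TopologicalSpace
open SDiv

namespace Groth.Agent.S8866

/-- Let X be a reduced scheme in which every quasi-compact open subset has only finitely many
irreducible components, and fix an O_X-module L that is invertible. A regular meromorphic section of
L then exists. For an integral scheme this is the case of one irreducible component. -/
theorem result (X : Scheme.{u}) [IsReduced X]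
    (hfin : ∀ U : X.Opens, IsCompact (U : Set ↥X) → (irreducibleComponents ↥(U : Scheme.{u})).Finite)
    (L : X.Modules) (hL : PicF.IsInvertible L) : Mero.HasRegularMero L := by
  have hgen : ∀ y : X, Curv2.IsWeakAssPoint (Coh.structureModule X) y → ∀ z : X, z ⤳ y → z = y := by
    intro y hy z hz
    obtain ⟨hp, m, hm⟩ := (H29Blow.isWeakAssPoint_structureModule_iff y).mp hy
    have hkill : ∀ r ∈ IsLocalRing.maximalIdeal (X.presheaf.stalk y), r * m = 0 := fun r hr => by
      rw [hm] at hr
      obtain ⟨n, hn⟩ := hr
      rw [Submodule.mem_colon_singleton, Submodule.mem_bot, smul_eq_mul] at hn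
      exact IsReduced.eq_zero _ ⟨n + 1, by
        rw [mul_pow, pow_succ r, pow_succ' m, show r ^ n * r * (m * m ^ n) = (r ^ n * m) * (r * m ^ n) by ring, hn,
          zero_mul]⟩
    have hmu : IsUnit m := by
      by_contra hu
      have hsq := hkill m ((IsLocalRing.mem_maximalIdeal _).mpr hu)
      have hm0 : m = 0 := IsReduced.eq_zero _ ⟨2, by rw [pow_two]; exact hsq⟩
      refine hp.ne_top (hm.trans ?_)
      rw [Ideal.radical_eq_top, Ideal.eq_top_iff_one, Submodule.mem_colon_singleton, hm0, smul_zero]
      exact Submodule.zero_mem _
    have hbot : IsLocalRing.maximalIdeal (X.presheaf.stalk y) = ⊥ :=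
      eq_bot_iff.mpr fun r hr => hmu.mul_left_eq_zero.mp (hkill r hr)
    have hF : IsField (X.presheaf.stalk y) := (IsLocalRing.isField_iff_maximalIdeal_eq).mpr hbot
    have hmem : z ∈ Set.range (X.fromSpecStalk y) := by rw [Scheme.range_fromSpecStalk]; exact hz
    obtain ⟨p, rfl⟩ := hmem
    letI := hF.toField
    haveI : Subsingleton (PrimeSpectrum (X.presheaf.stalk y)) := inferInstance
    rw [show p = IsLocalRing.closedPoint (X.presheaf.stalk y) from @Subsingleton.elim (PrimeSpectrum (X.presheaf.stalk y)) _ _ _]
    exact Scheme.fromSpecStalk_closedPoint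
  exact Groth.Agent.H29Mero.hasRegularMero L hgen (fun U hU =>
    Groth.Agent.H29Mero.finite_weakAss_of_generic hgen (hfin U hU.isCompact)) hL

end Groth.Agent.S8866
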