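import Groth.Statements.S8867
import Groth.Agent.H29Mero.RegularSection
import Groth.Agent.H29Blow.WeakAssAffine

set_option autoImplicit false
universe u
open CategoryTheory CategoryTheory.Limits AlgebraicGeometry TopologicalSpace
open SDiv

namespace Groth.Agent.S8867

/-- Let X be a locally Noetherian scheme with no embedded points, i.e. every associated point of O_X is
maximal among the associated points of O_X under specialization, and L an invertible O_X-module.
Then some meromorphic section of L is regular. -/
theorem result (X : Scheme.{u}) [IsLocallyNoetherian X]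
    (hne : ∀ x : ↥X, Curv2.IsAssPoint (Coh.structureModule X) x →
      ∀ y : ↥X, Curv2.IsAssPoint (Coh.structureModule X) y → y ⤳ x → y = x)
    (L : X.Modules) (hL : PicF.IsInvertible L) : Mero.HasRegularMero L := by
  refine Groth.Agent.H29Mero.hasRegularMero L (fun y hy z hz => ?_) (fun U hU => by
    haveI : IsNoetherianRing Γ(X, U) := IsLocallyNoetherian.component_noetherian ⟨U, hU⟩
    exact Groth.Agent.H29Mero.finite_weakAss hU) hL
  obtain ⟨ξ, hξz, hξmax⟩ := H29Blow.exists_maximal_generization z
  obtain ⟨V, hV, hξV, -⟩ := exists_isAffineOpen_mem_and_subset (U := (⊤ : X.Opens)) (x := ξ) trivial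
  let one : Γ(Coh.structureModule X, V) := (1 : Γ(X, V))
  have hann : H29Blow.secAnn (Coh.structureModule X) one = ⊥ := eq_bot_iff.mpr fun a ha =>
    (mul_one a).symm.trans ((H29Blow.mem_secAnn _).mp ha)
  have hξw : Curv2.IsWeakAssPoint (Coh.structureModule X) ξ :=
    H29Blow.isWeakAssPoint_of_minimalPrimes _ (H29Blow.isQCoh_structureModule X) hV ⟨ξ, hξV⟩ one
      (by rw [hann]; exact (H29Blow.minimalPrimes_iff_maximal_point hV ⟨ξ, hξV⟩).mpr hξmax)
  obtain rfl : ξ = y := hne y ((H29Blow.isAssPoint_iff_isWeakAssPoint _ y).mpr hy) ξ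
    ((H29Blow.isAssPoint_iff_isWeakAssPoint _ ξ).mpr hξw) (hξz.trans hz)
  exact (hz.antisymm hξz).eq

end Groth.Agent.S8867
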