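import Groth.Statements.S8870
import Groth.Agent.H10Coh.FinType2
import Groth.Prelude.Def_RefHull

set_option autoImplicit false
universe u
open CategoryTheory CategoryTheory.Limits AlgebraicGeometry TopologicalSpace
open SDiv

namespace Groth.Agent.S8870

/-- Let X be a scheme and 0 → F₁ → F₂ → F₃ → 0 a short exact sequence of quasi-coherent O_X-modules.
Then WeakAss(F₂) ⊆ WeakAss(F₁) ∪ WeakAss(F₃) and WeakAss(F₁) ⊆ WeakAss(F₂). -/
theorem result (X : Scheme.{u}) (S : ShortComplex X.Modules) (hS : S.ShortExact)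
    (h₁ : Coh.IsQCoh S.X₁) (h₂ : Coh.IsQCoh S.X₂) (h₃ : Coh.IsQCoh S.X₃) :
    (∀ x : ↥X, Curv2.IsWeakAssPoint S.X₂ x → Curv2.IsWeakAssPoint S.X₁ x ∨ Curv2.IsWeakAssPoint S.X₃ x) ∧
      (∀ x : ↥X, Curv2.IsWeakAssPoint S.X₁ x → Curv2.IsWeakAssPoint S.X₂ x) := by
  have := hS.mono_f
  have hinj : ∀ x : ↥X, Function.Injective (RefHull.stalkMapₗ S.f x) := fun x =>
    TopCat.Presheaf.stalkFunctor_map_injective_of_app_injective
      (f := S.f.mapPresheaf) (fun U => Groth.Agent.H10Coh.injective_app_of_mono' S.f U) x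
  have hex : ∀ (x : ↥X) (n : S.X₂.presheaf.stalk x), RefHull.stalkMapₗ S.g x n = 0 →
      ∃ y, RefHull.stalkMapₗ S.f x y = n := by
    intro x n hn
    obtain ⟨U, hxU, t, rfl⟩ := TopCat.Presheaf.exists_germ_eq S.X₂.presheaf n
    rw [RefHull.stalkMapₗ_germ] at hn
    obtain ⟨V, hxV, i, j, hV⟩ := TopCat.Presheaf.germ_eq S.X₃.presheaf x hxU hxU _ 0
      (hn.trans (map_zero (S.X₃.presheaf.germ U x hxU).hom).symm)
    have h0 : S.g.app V (S.X₂.presheaf.map i.op t) = 0 :=
      ((ConcreteCategory.congr_hom (S.g.mapPresheaf.naturality i.op) t).trans hV).trans (map_zero _)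
    obtain ⟨y, hy⟩ := Groth.Agent.H10Coh.exists_app_eq_of_exact hS V _ h0
    refine ⟨S.X₁.presheaf.germ V x hxV y, ?_⟩
    rw [RefHull.stalkMapₗ_germ, hy, TopCat.Presheaf.germ_res_apply]
  refine ⟨fun x hx => ?_, fun x hx => ?_⟩
  · obtain ⟨m, hm⟩ := hx
    by_cases hc : ∃ (a : X.presheaf.stalk x) (y : S.X₁.presheaf.stalk x), a • m ≠ 0 ∧ RefHull.stalkMapₗ S.f x y = a • m
    · obtain ⟨a, y, ha, hy⟩ := hc
      refine Or.inl ⟨y, le_antisymm ?_ ?_⟩
      · refine (IsLocalRing.le_maximalIdeal ?_)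
        rw [Ne, Ideal.radical_eq_top, Ideal.eq_top_iff_one, LinearMap.mem_ker, LinearMap.toSpanSingleton_apply, one_smul]
        rintro rfl
        exact ha (hy.symm.trans (map_zero _))
      · refine le_of_eq_of_le hm.symm (Ideal.radical_mono fun r hr => ?_)
        rw [LinearMap.mem_ker, LinearMap.toSpanSingleton_apply] at hr ⊢
        apply hinj x
        rw [map_smul, hy, smul_comm, hr, smul_zero, map_zero]
    · push Not at hc
      refine Or.inr ⟨RefHull.stalkMapₗ S.g x m, ?_⟩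
      rw [← hm]
      congr 1
      ext r
      simp only [LinearMap.mem_ker, LinearMap.toSpanSingleton_apply, ← map_smul]
      refine ⟨fun hr => ?_, fun hr => by rw [hr]; exact map_zero _⟩
      obtain ⟨y, hy⟩ := hex x _ hr
      by_contra hne
      exact hc r y hne hy
  · obtain ⟨m, hm⟩ := hx
    refine ⟨RefHull.stalkMapₗ S.f x m, ?_⟩
    rw [← hm]
    congr 1
    ext r
    simp only [LinearMap.mem_ker, LinearMap.toSpanSingleton_apply, ← map_smul]
    exact ⟨fun hr => hinj x (hr.trans (map_zero _).symm), fun hr => by rw [hr]; exact map_zero _⟩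

end Groth.Agent.S8870
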