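import Groth.Statements.S8874
import Mathlib
import Groth.Agent.H29Fitt.FreeLocal

set_option autoImplicit false
universe u
open CategoryTheory CategoryTheory.Limits AlgebraicGeometry TopologicalSpace
open SDiv

namespace Groth.Agent.S8874

/-- Let S be a scheme, F a quasi-coherent O_S-module of finite type, s a point of S and r a natural
number. Then F can be generated by r sections over some open neighbourhood of s if and only if the
r-th Fitting ideal of F is the unit ideal at s, i.e. s does not lie in the closed subset cut out by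
Fit_r(F). -/
theorem result (S : Scheme.{u}) (F : S.Modules) (hF : Coh.IsQCoh F) (hft : CohB1.IsFT F)
    (s : ↥S) (r : ℕ) :
    (∃ U : S.Opens, s ∈ U ∧ ∃ π : FlatMod.freeMod (↑U) r ⟶ F.restrict U.ι, Epi π) ↔
      s ∉ (Fitt.sheafIdeal F r).support := by
  refine ⟨fun ⟨U, hs, π, hπ⟩ =>
    Groth.Agent.H29Fitt.not_mem_support_of_epi F hF hft π hπ s hs, fun h => ?_⟩
  obtain ⟨U, hU, f, m, hs, hm⟩ :=
    Groth.Agent.H29Fitt.exists_generators_of_not_mem_support F hF hft s h
  exact ⟨S.basicOpen f, hs, _, Groth.Agent.H29Fitt.epi_basicHom F hF hU f m hm⟩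

end Groth.Agent.S8874
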