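import Groth.Statements.S8878
import Groth.Agent.H12Pic.NormTrivial

set_option autoImplicit false
universe u
open CategoryTheory CategoryTheory.Limits AlgebraicGeometry TopologicalSpace
open SDiv

namespace Groth.Agent.S8878

/-- If π : X ⟶ Y is finite locally free and of rank d ≥ 1 at every point of Y, then π carries a norm of
degree d. The published statement also says the norm is canonical and compatible with every base
change; this row asserts only that a norm of degree d exists. -/
theorem result {X Y : Scheme.{u}} (π : X ⟶ Y) (d : ℕ) (hd : 1 ≤ d) (hπ : Mor2.IsFinLocFreeOfDeg d π) :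
    Nrm.HasNorm π d := by
  classical
  haveI := hπ.1.1
  haveI := hπ.1.2.1
  haveI : Surjective π := (Scheme.Hom.one_le_finrank_iff_surjective π).1 fun y => by
    rw [Pi.one_apply, hπ.2 y]; exact hd
  choose U hxU hc using H12Pic.exists_chart_deg π d hπ
  have ex : ∀ (W : Y.Opens) (a : Γ(X, π ⁻¹ᵁ W)), ∃! t : Γ(Y, W), ∀ y : W,
      H11Norm.res (inf_le_left : W ⊓ U y ≤ W) t =
        H11Norm.nrm π d (W ⊓ U y) (H11Norm.res (π.preimage_mono inf_le_left) a) := by
    intro W a
    refine TopCat.Sheaf.existsUnique_gluing' Y.sheaf (fun y : W => W ⊓ U y) W (fun y => homOfLE inf_le_left)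
      (fun y hy => Opens.mem_iSup.2 ⟨⟨y, hy⟩, hy, hxU y⟩) _ (fun x y => ?_)
    change H11Norm.res inf_le_left _ = H11Norm.res inf_le_right _
    rw [(hc x).nrm_natural _ inf_le_right inf_le_left, (hc y).nrm_natural _ inf_le_right inf_le_right]
    exact congrArg _ ((H10Coh.rres_rres _ _ _).trans (H10Coh.rres_rres _ _ _).symm)
  choose N hN huniq using ex
  refine ⟨{ one_le := hd
            norm := fun W => { toFun := N W, map_one' := ?_, map_mul' := ?_ }
            norm_res := ?_
            norm_app := ?_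
            norm_mem := ?_ }⟩
  · refine (huniq W 1 1 fun i => ?_).symm
    rw [show H11Norm.res _ (1 : Γ(X, π ⁻¹ᵁ W)) = 1 from _root_.map_one _, H11Norm.nrm_one]
    exact _root_.map_one _
  · intro a b
    refine (huniq W (a * b) _ fun i => ?_).symm
    rw [show H11Norm.res _ (N W a * N W b) = H11Norm.res _ (N W a) * H11Norm.res _ (N W b) from _root_.map_mul _ _ _,
      hN, hN, ← H11Norm.nrm_mul]
    exact congrArg _ (_root_.map_mul (X.presheaf.map (homOfLE (π.preimage_mono inf_le_left)).op).hom a b).symm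
  · intro W V i s
    have hV : V ≤ W := leOfHom i
    refine huniq V _ _ fun y => ?_
    let y' : W := ⟨y, hV y.2⟩
    have h1 : V ⊓ U y ≤ W ⊓ U y := inf_le_inf_right _ hV
    have h2 := congrArg (H11Norm.res h1) (hN W s y')
    rw [(hc y).nrm_natural _ inf_le_right h1] at h2
    refine (H10Coh.rres_rres hV _ _).trans ((H10Coh.rres_rres inf_le_left h1 _).symm.trans (h2.trans ?_))
    exact congrArg _ ((H10Coh.rres_rres _ _ _).trans (H10Coh.rres_rres (π.preimage_mono hV) _ _).symm)
  · intro W c
    refine (huniq W _ _ fun y => ?_).symm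
    rw [H11Norm.res_app, (hc y).nrm_app dvd_rfl inf_le_right]
    exact _root_.map_pow _ _ _
  · intro W s x hx hmem
    rw [IsLocalRing.mem_maximalIdeal, mem_nonunits_iff] at hmem ⊢
    refine fun hu => hmem ?_
    have hxb : π x ∈ Y.basicOpen (N W s) := (Y.mem_basicOpen (N W s) (π x) hx).2 hu
    let V := W ⊓ U (π x)
    obtain ⟨b, hb⟩ := (hc (π x)).exists_mul_eq hd dvd_rfl (inf_le_right : V ≤ U (π x))
      (H11Norm.res (π.preimage_mono (inf_le_left : V ≤ W)) s)
    rw [← hN W s ⟨π x, hx⟩] at hb
    have h2 : x ∈ π ⁻¹ᵁ Y.basicOpen (H11Norm.res (inf_le_left : V ≤ W) (N W s)) := by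
      change π x ∈ Y.basicOpen _
      rw [Scheme.basicOpen_res]
      exact ⟨⟨hx, hxU (π x)⟩, hxb⟩
    rw [Scheme.preimage_basicOpen, ← hb, Scheme.basicOpen_mul, Scheme.basicOpen_res] at h2
    exact (X.mem_basicOpen s x hx).1 h2.1.2

end Groth.Agent.S8878
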