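import Groth.Statements.S8879
import Groth.Agent.H11Norm.OfDegree

set_option autoImplicit false
universe u
open CategoryTheory CategoryTheory.Limits AlgebraicGeometry TopologicalSpace
open SDiv

namespace Groth.Agent.S8879

/-- Let π : X ⟶ Y be a finite morphism of schemes such that a norm of degree d exists for π, and assume
X has an ample invertible O_X-module. Then Y has an ample invertible O_Y-module. -/
theorem result {X Y : Scheme.{u}} (π : X ⟶ Y) [IsFinite π] (d : ℕ) (hN : Nrm.HasNorm π d)
    (L : X.Modules) (hL : CohB1.IsAmple L) : ∃ N : Y.Modules, CohB1.IsAmple N := by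
  obtain ⟨n⟩ := hN
  haveI := H11Norm.surjective_of_hasNorm n
  obtain ⟨D⟩ := H11Norm.exists_normMul_of_hasNorm n
  haveI : CompactSpace X := H11Ample.compactSpace_of_isAmple hL
  haveI : CompactSpace Y := π.surjective.compactSpace π.continuous
  obtain ⟨M, hM, ⟨F⟩⟩ := H11Norm.exists_normFamily D (H11Ample.isInvertible_of_isAmple hL)
  exact ⟨M, H11Norm.isAmple_of_normFamily hM F hL⟩

end Groth.Agent.S8879
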