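import Groth.Statements.S8882
import Groth.Agent.H11Norm.Frobenius

set_option autoImplicit false
universe u
open CategoryTheory CategoryTheory.Limits AlgebraicGeometry TopologicalSpace
open SDiv

namespace Groth.Agent.S8882

/-- Let X be a Noetherian scheme on which a prime number p is zero (p·O_X = 0). Then the closed
immersion X_red ⟶ X cut out by the nilradical carries a norm whose degree is p^e for some e > 0. -/
theorem result (X : Scheme.{u}) [IsNoetherian X] (p : ℕ) (hp : p.Prime)
    (hpX : (p : Γ(X, ⊤)) = 0) : ∃ e : ℕ, 0 < e ∧ Nrm.HasNorm X.nilradical.subschemeι (p ^ e) := by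
  exact H11Norm.Frobenius.exists_hasNorm p hp hpX

end Groth.Agent.S8882
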