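import Groth.Statements.S8885
import Groth.Agent.H8Norm.RelAssSpec
import Groth.Agent.H8Props.RelAssBC.Scheme

set_option autoImplicit false
universe u
open CategoryTheory CategoryTheory.Limits AlgebraicGeometry TopologicalSpace
open SDiv

namespace Groth.Agent.S8885

/-- Let f : X ⟶ S be locally of finite type, g : S' ⟶ S a morphism, X' = X ×_S S' with projections g' :
X' ⟶ X and f' : X' ⟶ S', F a quasi-coherent O_X-module and F' = g'^*F. For a point x' of X' with
images x in X and s' in S': x' lies in the relative assassin Ass_{X'/S'}(F') (x' is an associated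
point of the pullback of F' to the fibre X'_{s'}) if and only if x lies in Ass_{X/S}(F) and x' is
maximal under generization among the points of X' mapping to x and to s' (that is, x' is the generic
point of some irreducible component of Spec(κ(s') ⊗_{κ(s)} κ(x))). -/
theorem result {X S S' : Scheme.{u}} (f : X ⟶ S) [LocallyOfFiniteType f] (g : S' ⟶ S)
    (F : X.Modules) (hF : Coh.IsQCoh F) (x' : ↥(pullback f g)) :
    Curv2.IsAssPoint
        ((Scheme.Modules.pullback ((pullback.snd f g).fiberι ((pullback.snd f g) x'))).obj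
          ((Scheme.Modules.pullback (pullback.fst f g)).obj F))
        ((pullback.snd f g).asFiber x') ↔
      Curv2.IsAssPoint ((Scheme.Modules.pullback (f.fiberι (f ((pullback.fst f g) x')))).obj F)
          (f.asFiber ((pullback.fst f g) x')) ∧
        ∀ x'' : ↥(pullback f g), (pullback.snd f g) x'' = (pullback.snd f g) x' →
          (pullback.fst f g) x'' = (pullback.fst f g) x' → x'' ⤳ x' → x'' = x' := by
  haveI := hF
  have hc : IsPullback (pullback.fst f g) (pullback.snd f g) f g := IsPullback.of_hasPullback f g
  let c := pullback.snd f g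
  let a := pullback.fst f g
  let G := (Scheme.Modules.pullback a).obj F
  have h1 : Curv2.IsAssPoint ((Scheme.Modules.pullback (c.fiberι (c x'))).obj G) (c.asFiber x') ↔
      x' ∈ MoreMor.relAss c G := by
    show c.asFiber x' ∈ AssSch.Ass _ ↔ _
    rw [Groth.Agent.H17.AssFlat.mem_ass_fibre_iff, c.fiberι_asFiber]
    exact Iff.rfl
  have h2 : Curv2.IsAssPoint ((Scheme.Modules.pullback (f.fiberι (f (a x')))).obj F) (f.asFiber (a x')) ↔
      a x' ∈ MoreMor.relAss f F := by
    show f.asFiber (a x') ∈ AssSch.Ass _ ↔ _
    rw [Groth.Agent.H17.AssFlat.mem_ass_fibre_iff, f.fiberι_asFiber]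
    exact Iff.rfl
  rw [h1, h2]
  constructor
  · intro hx
    exact ⟨Groth.Agent.H8Props.RelAssBC.map_mem_relAss F hc hx,
      fun z h3 h4 h5 => Groth.Agent.H8Norm.relAss_maximal_over f hc F x' hx z h5 h3 h4⟩
  · rintro ⟨hx, hmax⟩
    exact Groth.Agent.H8Norm.relAss_of_maximal_over f hc F x' hx fun z h5 h3 h4 => hmax z h3 h4 h5

end Groth.Agent.S8885
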