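import Groth.Statements.S8887
import Groth.Agent.H29Ref.Generic
import Groth.Agent.H8Props.FinLocFree.Sheaf

set_option autoImplicit false
universe u
open CategoryTheory CategoryTheory.Limits AlgebraicGeometry TopologicalSpace
open SDiv

namespace Groth.Agent.S8887

/-- Generators up to denominators of the generic stalk from sections over an affine open. -/
theorem exists_upTo {X : Scheme.{u}} [IsIntegral X] (F : X.Modules) (hF : Coh.IsQCoh F)
    (hft : CohB1.IsFT F) {U : X.Opens} (hU : IsAffineOpen U) (hη : genericPoint X ∈ U) {r : ℕ}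
    (b : Module.Basis (Fin r) (X.presheaf.stalk (genericPoint X)) (F.presheaf.stalk (genericPoint X))) :
    ∃ (f : Γ(X, U)) (m : Fin r → Γ(F, U)), f ≠ 0 ∧
      H29Fitt.SpansUpTo (Submonoid.powers f) m ∧
      H8Props.FinLocFree.IndepUpTo (Submonoid.powers f) m := by
  classical
  haveI : Nonempty U := ⟨⟨_, hη⟩⟩
  choose c m hc hm using fun j => H29Ref.exists_smul_eq_germ F hF hU hη (b j)
  let γ := (X.presheaf.germ U (genericPoint X) hη).hom
  have hγ : Function.Injective γ := germ_injective_of_isIntegral X _ _
  let u : Fin r → (X.presheaf.stalk (genericPoint X))ˣ := fun j => IsUnit.unit (a := γ (c j)) (by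
    letI := (H29Ref.isField_generic (X := X)).toField
    exact ((map_ne_zero_iff γ hγ).mpr (hc j)).isUnit)
  let b' := b.unitsSMul u
  have hb' : ∀ j, b' j = F.presheaf.germ U _ hη (m j) := fun j => by
    rw [Module.Basis.unitsSMul_apply]; exact hm j
  haveI : Module.Finite Γ(X, U) Γ(F, U) := @H10Coh.finite_sections _ F hF hft _ hU
  obtain ⟨k, g, hg⟩ := Module.Finite.exists_fin (R := Γ(X, U)) (M := Γ(F, U))
  letI := TopCat.Presheaf.algebra_section_stalk X.presheaf (⟨genericPoint X, hη⟩ : U)
  haveI := hU.isLocalization_stalk ⟨genericPoint X, hη⟩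
  have hi : ∀ i, ∃ d : Γ(X, U), d ≠ 0 ∧ d • g i ∈ Submodule.span Γ(X, U) (Set.range m) := by
    intro i
    let a : Fin r → X.presheaf.stalk (genericPoint X) := fun j => b'.repr (F.presheaf.germ U _ hη (g i)) j
    obtain ⟨d, hd⟩ := IsLocalization.exist_integer_multiples_of_finite
      (hU.primeIdealOf ⟨genericPoint X, hη⟩).asIdeal.primeCompl a
    choose q hq using hd
    have hq' : ∀ j, γ (q j) = γ d.1 * a j := fun j => (hq j).trans (Algebra.smul_def _ _)
    have h0 : F.presheaf.germ U _ hη (d.1 • g i - ∑ j, q j • m j) = 0 := by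
      rw [map_sub, sub_eq_zero, map_sum, Mero.germ_smul,
        show F.presheaf.germ U _ hη (g i) = ∑ j, a j • b' j from (b'.sum_repr _).symm, Finset.smul_sum]
      refine Finset.sum_congr rfl fun j _ => ?_
      rw [Mero.germ_smul, ← hb', smul_smul]
      exact congrArg (· • b' j) (hq' j).symm
    obtain ⟨e, he, he0⟩ := H29Blow.exists_smul_eq_zero_of_germ F hF hU ⟨_, hη⟩ _ h0
    refine ⟨e * d.1, mul_ne_zero (fun h => he (h ▸ zero_mem _)) (fun h => d.2 (h ▸ zero_mem _)), ?_⟩
    rw [smul_sub, sub_eq_zero, smul_smul] at he0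
    rw [he0]
    exact Submodule.smul_mem _ _ (Submodule.sum_mem _ fun j _ =>
      Submodule.smul_mem _ _ (Submodule.subset_span ⟨j, rfl⟩))
  choose d hd hdmem using hi
  refine ⟨∏ i, d i, m, Finset.prod_ne_zero_iff.mpr fun i _ => hd i, fun x => ?_, fun z hz j => ?_⟩
  · refine ⟨∏ i, d i, Submonoid.mem_powers _, ?_⟩
    have hx : x ∈ Submodule.span Γ(X, U) (Set.range g) := hg ▸ Submodule.mem_top
    induction hx using Submodule.span_induction with
    | mem y hy =>
      obtain ⟨i, rfl⟩ := hy
      rw [← Finset.prod_erase_mul _ _ (Finset.mem_univ i), mul_smul]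
      exact Submodule.smul_mem _ _ (hdmem i)
    | zero => rw [smul_zero]; exact zero_mem _
    | add y y' _ _ hy hy' => rw [smul_add]; exact add_mem hy hy'
    | smul t y _ hy => rw [smul_comm]; exact Submodule.smul_mem _ _ hy
  · refine ⟨1, one_mem _, ?_⟩
    rw [one_mul]
    refine hγ ((Fintype.linearIndependent_iff.mp b'.linearIndependent (fun j => γ (z j)) ?_ j).trans
      (map_zero γ).symm)
    have h1 := congrArg (fun q : Γ(F, U) => F.presheaf.germ U _ hη q) hz
    simp only [map_sum, map_zero] at h1
    refine Eq.trans (Finset.sum_congr rfl fun l _ => ?_) h1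
    rw [hb', Mero.germ_smul]


/-- Let X be an integral scheme and F a quasi-coherent O_X-module of finite type, of rank r (r being the
finite dimension of the generic stalk of F as a vector space over the function field of X). Then one
can find an open subset U of X, not empty, on which the restriction of F is isomorphic to the free
module of rank r. -/
theorem result (X : Scheme.{u}) [IsIntegral X] (F : X.Modules) (hF : Coh.IsQCoh F)
    (hft : CohB1.IsFT F) :
    ∃ U : X.Opens, (U : Set ↥X).Nonempty ∧
      Nonempty (F.restrict U.ι ≅ FlatMod.freeMod (↑U)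
        (Module.finrank ↑(X.presheaf.stalk (genericPoint ↥X)) ↑(F.presheaf.stalk (genericPoint ↥X)))) := by
  obtain ⟨U, hU, hη, -⟩ :=
    exists_isAffineOpen_mem_and_subset (X := X) (x := genericPoint X) (U := ⊤) trivial
  haveI := H29Ref.finite_stalk F hft (genericPoint X)
  haveI : Module.Free (X.presheaf.stalk (genericPoint X)) (F.presheaf.stalk (genericPoint X)) := by
    letI := (H29Ref.isField_generic (X := X)).toField
    exact Module.Free.of_divisionRing _ _
  obtain ⟨f, m, hf, hs, hi⟩ := exists_upTo F hF hft hU hη (Module.finBasis _ _)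
  haveI := H8Props.FinLocFree.isIso_basicHom F hF hU f m hs hi
  refine ⟨X.basicOpen f, Set.nonempty_iff_ne_empty.mpr fun h => hf ?_,
    ⟨(asIso (H29Fitt.basicHom F f m)).symm⟩⟩
  exact (basicOpen_eq_bot_iff f).mp (SetLike.coe_injective h)

end Groth.Agent.S8887
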