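import Groth.Statements.S8888
import Groth.Agent.H06Mod.StalkPullback
import Groth.Agent.H29Ref.Generic

set_option autoImplicit false
universe u
open CategoryTheory CategoryTheory.Limits AlgebraicGeometry TopologicalSpace
open SDiv

namespace Groth.Agent.S8888

/-- The generic fibre of a pullback under a map sending the generic point to the generic point. -/
theorem rank_pullback {X Y : Scheme.{u}} [IsIntegral X] [IsIntegral Y] (f : X ⟶ Y) (G : Y.Modules)
    (y : Y) (hy : f.base (genericPoint X) = y) (hK : IsField (Y.presheaf.stalk y)) :
    Module.rank (X.presheaf.stalk (genericPoint X)) (((Scheme.Modules.pullback f).obj G).presheaf.stalk (genericPoint X)) =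
      Module.rank (Y.presheaf.stalk y) (G.presheaf.stalk y) := by
  subst hy
  letI := H06Mod.stalkAlgebra f (genericPoint X)
  letI := hK.toField
  haveI : Module.Free (Y.presheaf.stalk (f.base (genericPoint X))) (G.presheaf.stalk (f.base (genericPoint X))) :=
    Module.Free.of_divisionRing _ _
  rw [← (H06Mod.pullStalkEquiv f G (genericPoint X)).rank_eq, Module.rank_baseChange, Cardinal.lift_id]



/-- Let f : X ⟶ Y be a dominant morphism of integral schemes and G a quasi-coherent O_Y-module. Then the
rank of f^*G on X, the dimension of its stalk at the generic point of X over the function field of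
X, equals the rank of G on Y. -/
theorem result {X Y : Scheme.{u}} [IsIntegral X] [IsIntegral Y] (f : X ⟶ Y) [IsDominant f]
    (G : Y.Modules) (hG : Coh.IsQCoh G) :
    Module.rank ↑(X.presheaf.stalk (genericPoint ↥X)) ↑(((Scheme.Modules.pullback f).obj G).presheaf.stalk (genericPoint ↥X)) =
      Module.rank ↑(Y.presheaf.stalk (genericPoint ↥Y)) ↑(G.presheaf.stalk (genericPoint ↥Y)) := by
  exact rank_pullback f G (genericPoint Y)
    (((genericPoint_spec X).image f.continuous).eq (by
      rw [Set.image_univ, f.denseRange.closure_range]
      exact genericPoint_spec Y))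
    H29Ref.isField_generic

end Groth.Agent.S8888
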