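import Groth.Statements.S8889
import Groth.Agent.H29Blow.AssPoints

set_option autoImplicit false
universe u
open CategoryTheory CategoryTheory.Limits AlgebraicGeometry TopologicalSpace
open SDiv

namespace Groth.Agent.S8889

/-- Let X be a scheme and φ : F ⟶ G a morphism of quasi-coherent O_X-modules. Assume that for every
point x of X either the stalk map F_x → G_x is injective or x is not a weakly associated point of F.
Then φ is injective. -/
theorem result (X : Scheme.{u}) {F G : X.Modules} (φ : F ⟶ G) (hF : Coh.IsQCoh F)
    (hG : Coh.IsQCoh G)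
    (h : ∀ x : ↥X, Function.Injective ((TopCat.Presheaf.stalkFunctor AddCommGrpCat.{u} x).map (Scheme.Modules.Hom.mapPresheaf φ)) ∨ ¬ Curv2.IsWeakAssPoint F x) :
    Mono φ := by
  have hinj : ∀ U : X.Opens, Function.Injective (φ.app U) := by
    intro U
    rw [injective_iff_map_eq_zero]
    intro s hs
    refine H29Blow.eq_zero_of_germ_eq_zero F hF fun y hy hweak => ?_
    refine ((h y).resolve_right (fun hn => hn hweak)) ?_
    erw [TopCat.Presheaf.stalkFunctor_map_germ_apply]
    change G.presheaf.germ U y hy (φ.app U s) = _
    rw [hs, map_zero]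
    exact (map_zero _).symm
  refine ⟨fun g g' hgg => ?_⟩
  apply Scheme.Modules.hom_ext
  intro U
  ext s
  apply hinj U
  exact congr(($hgg).app U s)

end Groth.Agent.S8889
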