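import Groth.Statements.S8891
import Groth.Agent.H29Ref.DepthCriterion
import Groth.Agent.H29Ref.SecOrd

set_option autoImplicit false
universe u
open CategoryTheory CategoryTheory.Limits AlgebraicGeometry TopologicalSpace
open SDiv

namespace Groth.Agent.S8891

/-- Let X be an integral locally Noetherian scheme and φ : F ⟶ G a morphism of quasi-coherent
O_X-modules with F coherent and G torsion free. Assume that for every point x either the stalk map
F_x → G_x is an isomorphism, or depth(F_x) ≥ 2 and x is not the generic point of X. Then φ is an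
isomorphism. (The published statement allows the second alternative at the generic point as well;
since the zero module has infinite depth, F = 0 and G = O_X then satisfy every hypothesis while 0 →
O_X is not an isomorphism. The general criterion this is a special case of requires x not to be
associated to G, which for torsion-free G ≠ 0 fails exactly at the generic point; so the generic
point is excluded from the second alternative here.) -/
theorem result (X : Scheme.{u}) [IsIntegral X] [IsLocallyNoetherian X] {F G : X.Modules}
    (φ : F ⟶ G) (hF : Coh.IsCoh F) (hG : Coh.IsQCoh G)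
    (htf : ∀ x : ↥X, NoZeroSMulDivisors ↑(X.presheaf.stalk x) ↑(G.presheaf.stalk x))
    (h : ∀ x : ↥X, Function.Bijective ((TopCat.Presheaf.stalkFunctor AddCommGrpCat.{u} x).map (Scheme.Modules.Hom.mapPresheaf φ)) ∨
      ((2 : ℕ∞) ≤ LocCoh.depth (X.presheaf.stalk x) (F.presheaf.stalk x) ∧ x ≠ genericPoint ↥X)) :
    IsIso φ := by
  refine H29Ref.isIso_of_depth_two φ hF hG fun x => (h x).imp id fun ⟨hd, hx⟩ => ⟨hd, fun hass => hx ?_⟩
  obtain ⟨-, t, ht⟩ := isAssociatedPrime_iff.mp hass
  have ht0 : t ≠ 0 := by
    rintro rfl
    refine (IsLocalRing.maximalIdeal.isMaximal (X.presheaf.stalk x)).ne_top (ht.trans ?_)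
    exact eq_top_iff.mpr fun a _ => Submodule.mem_colon_singleton.mpr (by simp)
  have hm : IsLocalRing.maximalIdeal (X.presheaf.stalk x) = ⊥ := eq_bot_iff.mpr fun a ha => by
    have hat := Submodule.mem_colon_singleton.mp (ht.le ha)
    haveI := htf x
    exact (Submodule.mem_bot _).mpr (((htf x).eq_zero_or_eq_zero_of_smul_eq_zero ((Submodule.mem_bot _).mp hat)).resolve_right ht0)
  have hfld := IsLocalRing.isField_iff_maximalIdeal_eq.mpr hm
  letI := hfld.toField
  haveI : Subsingleton (Spec (X.presheaf.stalk x)) :=
    inferInstanceAs (Subsingleton (PrimeSpectrum (X.presheaf.stalk x)))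
  have h1 : x ∈ Set.range (X.fromSpecStalk x) := by rw [Scheme.range_fromSpecStalk]; exact specializes_rfl
  have h2 : genericPoint X ∈ Set.range (X.fromSpecStalk x) := by
    rw [Scheme.range_fromSpecStalk]; exact H29Ref.spec_generic x
  obtain ⟨a, ha⟩ := h1; obtain ⟨b, hb⟩ := h2
  rw [← ha, ← hb, Subsingleton.elim a b]

end Groth.Agent.S8891
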