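import Groth.Statements.S8892
import Groth.Agent.H29Slice.RegImm
import Mathlib

set_option autoImplicit false
universe u
open CategoryTheory CategoryTheory.Limits AlgebraicGeometry TopologicalSpace
open SDiv

namespace Groth.Agent.S8892

/-- Let f : X ⟶ S be a morphism of schemes and i : Z ⟶ X an H_1-regular (resp. quasi-regular) immersion
such that Z ⟶ S is flat. Then for every morphism g : S' ⟶ S the base change of i to X ×_S S' is an
H_1-regular (resp. quasi-regular) immersion, again flat over S'. -/
theorem result {Z X S S' : Scheme.{u}} (f : X ⟶ S) (i : Z ⟶ X) (k : RegImm.Kind)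
    (hk : k = RegImm.Kind.h1 ∨ k = RegImm.Kind.quasi) (hi : RegImm.IsRelRegularImmersion k f i) (g : S' ⟶ S) :
    RegImm.IsRelRegularImmersion k (pullback.snd f g) (pullback.snd i (pullback.fst f g)) := by
  exact H29Slice.relRegular_baseChange f i hk hi g

end Groth.Agent.S8892
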