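import Groth.Statements.S8893
import Groth.Agent.H29Slice.QuasiReg
import Mathlib

set_option autoImplicit false
universe u
open CategoryTheory CategoryTheory.Limits AlgebraicGeometry TopologicalSpace
open SDiv

namespace Groth.Agent.S8893

/-- Let f : X ⟶ S be a morphism of schemes and i : Z ⟶ X a relative quasi-regular immersion (a
quasi-regular immersion with Z flat over S). If z is a point of Z such that O_{X, i z} is
Noetherian, then f is flat at i z. -/
theorem result {Z X S : Scheme.{u}} (f : X ⟶ S) (i : Z ⟶ X)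
    (hi : RegImm.IsRelRegularImmersion RegImm.Kind.quasi f i) (z : ↥Z) [IsNoetherianRing ↑(X.presheaf.stalk (i z))] :
    (f.stalkMap (i z)).hom.Flat := by
  obtain ⟨⟨himm, hreg⟩, hflat⟩ := hi
  haveI := himm
  haveI := hflat
  obtain ⟨U, hz, hcl, rs, hq, hk⟩ := hreg z
  let γ := (X.presheaf.germ U.1 (i z) hz).hom
  letI : Algebra Γ(X, U.1) (X.presheaf.stalk (i z)) := γ.toAlgebra
  haveI := U.2.isLocalization_stalk ⟨i z, hz⟩
  have hq' : CAlgX.IsQuasiRegular (fun j => γ (rs.get j)) :=
    H29Slice.isQuasiRegular_localization (U.2.primeIdealOf ⟨i z, hz⟩).asIdeal.primeCompl hq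
  have hJ : Ideal.span (Set.range fun j => γ (rs.get j)) = RingHom.ker (i.stalkMap z).hom := by
    rw [H29Slice.ker_stalkMap_of_restrict i U hcl z hz, hk, Ideal.ofList, Ideal.map_span,
      ← Set.range_list_get rs, ← Set.range_comp]
    rfl
  letI : Algebra (S.presheaf.stalk (f (i z))) (X.presheaf.stalk (i z)) := (f.stalkMap (i z)).hom.toAlgebra
  haveI : Module.Flat (S.presheaf.stalk (f (i z)))
      (X.presheaf.stalk (i z) ⧸ Ideal.span (Set.range fun j => γ (rs.get j))) := by
    have h1 : ((i ≫ f).stalkMap z).hom.Flat := Flat.stalkMap (i ≫ f) z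
    rw [Scheme.Hom.stalkMap_comp] at h1
    let e := (Ideal.quotEquivOfEq hJ).trans (RingHom.quotientKerEquivOfSurjective (i.stalkMap_surjective z))
    have h2 : (algebraMap (S.presheaf.stalk (f (i z)))
        (X.presheaf.stalk (i z) ⧸ Ideal.span (Set.range fun j => γ (rs.get j)))) =
        e.symm.toRingHom.comp ((i.stalkMap z).hom.comp (f.stalkMap (i z)).hom) := by
      refine RingHom.ext fun a => e.injective ?_
      show _ = e (e.symm _)
      rw [RingEquiv.apply_symm_apply]
      rfl
    rw [← RingHom.flat_algebraMap_iff, h2]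
    exact RingHom.Flat.comp h1 (RingHom.Flat.of_bijective e.symm.bijective)
  refine RingHom.flat_algebraMap_iff.mpr (H29Slice.flat_of_flat_quotient_pows _ ?_
    (H13CInt.flat_quotient_pow hq'))
  rw [hJ]
  exact RingHom.ker_ne_top _

end Groth.Agent.S8893
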