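import Groth.Statements.S8895
import Groth.Agent.H11RelH1.Scheme

set_option autoImplicit false
set_option linter.style.haveILetI false
universe u
open CategoryTheory CategoryTheory.Limits AlgebraicGeometry TopologicalSpace
open SDiv

namespace Groth.Agent.S8895

/-- Let f : X ⟶ S be locally of finite presentation and i : Z ⟶ X a relative H_1-regular immersion. Then
(1) there is an open subscheme U ⊆ X containing the image of Z such that U ⟶ S is flat, and (2) i is
a regular immersion and remains one after any base change S' ⟶ S. -/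
theorem result {Z X S : Scheme.{u}} (f : X ⟶ S) [LocallyOfFinitePresentation f] (i : Z ⟶ X)
    (hi : RegImm.IsRelRegularImmersion RegImm.Kind.h1 f i) :
    (∃ U : X.Opens, Set.range (fun z : ↥Z => i z) ⊆ (U : Set ↥X) ∧ Flat (U.ι ≫ f)) ∧
      RegImm.IsRegularImmersion RegImm.Kind.regular i ∧
      ∀ (S' : Scheme.{u}) (g : S' ⟶ S), RegImm.IsRegularImmersion RegImm.Kind.regular (pullback.snd i (pullback.fst f g)) := by
  have h := fun z => H11RelH1.exists_flat_chart f i hi z
  haveI := hi.1.1
  choose W hzW hW using fun z => (h z).1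
  refine ⟨⟨⨆ z, W z, ?_, ?_⟩, ⟨hi.1.1, fun z => H29Slice.isRegularImmersionAt_of_transReg f i z (h z).2⟩,
    fun S' g => H29Slice.isRegularImmersion_baseChange_of_transReg f i (fun z => (h z).2) g⟩
  · rintro _ ⟨z, rfl⟩
    exact TopologicalSpace.Opens.mem_iSup.2 ⟨z, hzW z⟩
  · refine IsZariskiLocalAtSource.of_iSup_eq_top (P := @Flat) (fun z => (⨆ z, W z).ι ⁻¹ᵁ W z) ?_ fun z => ?_
    · rw [eq_top_iff]
      rintro ⟨x, hx⟩ -
      obtain ⟨z, hz⟩ := TopologicalSpace.Opens.mem_iSup.1 hx
      exact TopologicalSpace.Opens.mem_iSup.2 ⟨z, hz⟩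
    · let V := (⨆ z, W z).ι ⁻¹ᵁ W z
      have e : Scheme.Opens.ι V ≫ (⨆ z, W z).ι =
          IsOpenImmersion.lift (W z).ι (Scheme.Opens.ι V ≫ (⨆ z, W z).ι) (by
            rw [Scheme.Opens.range_ι]
            rintro _ ⟨v, rfl⟩
            exact v.2) ≫ (W z).ι := (IsOpenImmersion.lift_fac _ _ _).symm
      show Flat (Scheme.Opens.ι V ≫ (⨆ z, W z).ι ≫ f)
      rw [← Category.assoc, e, Category.assoc]
      haveI := hW z
      haveI : IsOpenImmersion (IsOpenImmersion.lift (W z).ι (Scheme.Opens.ι V ≫ (⨆ z, W z).ι) (by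
            rw [Scheme.Opens.range_ι]
            rintro _ ⟨v, rfl⟩
            exact v.2)) := IsOpenImmersion.of_comp _ (W z).ι
      infer_instance

end Groth.Agent.S8895
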