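import Groth.Statements.S8898
import Groth.Agent.H29Blow.Relative

set_option autoImplicit false
universe u
open CategoryTheory CategoryTheory.Limits AlgebraicGeometry TopologicalSpace
open SDiv

namespace Groth.Agent.S8898

/-- Let X be a scheme, 𝓘 a quasi-coherent ideal sheaf and b : X' ⟶ X a blowing up of X in 𝓘. Then the
pullback b⁻¹D is defined for every effective Cartier divisor D ⊆ X (the inverse image ideal of the
ideal of D is again the ideal of an effective Cartier divisor), and pullbacks of meromorphic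
functions are defined for b (b carries regular sections of O_X, i.e. sections whose germs are
nonzerodivisors, to regular sections of O_{X'}). -/
theorem result {X X' : Scheme.{u}} (𝓘 : X.IdealSheafData) (b : X' ⟶ X) (hb : BlowUp.IsBlowUp b 𝓘) :
    (∀ 𝓓 : X.IdealSheafData, BlowUp.IsEffCartierIdeal 𝓓 → BlowUp.IsEffCartierIdeal (𝓓.comap b)) ∧
      ∀ (U : X.Opens) (s : Γ(X, U)), s ∈ Mero.regSub X U → b.app U s ∈ Mero.regSub X' (b ⁻¹ᵁ U) := by
  refine ⟨fun 𝓓 hD => H29Blow.isEffCartierIdeal_comap_blowUp hb hD, fun U s hs y => ?_⟩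
  set R := X'.presheaf.stalk y.1
  rw [mem_nonZeroDivisors_iff_right]
  intro u hu
  obtain ⟨V, hxV, hVU, e, he, heV⟩ := H29Blow.exists_gen hb.1 (W := b ⁻¹ᵁ U) (x := y.1) y.2
  obtain ⟨W₀, hyW, t, rfl⟩ := X'.presheaf.germ_exist u
  -- shrink to an affine neighbourhood where the representative of `u` lives
  obtain ⟨V₁, hV₁, hyV₁, hV₁le⟩ :=
    exists_isAffineOpen_mem_and_subset (U := V.1 ⊓ W₀) (x := y.1) ⟨hxV, hyW⟩
  have h₁V : V₁ ≤ V.1 := fun z hz => (hV₁le hz).1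
  have h₁W : V₁ ≤ W₀ := fun z hz => (hV₁le hz).2
  have h₁U : V₁ ≤ b ⁻¹ᵁ U := h₁V.trans hVU
  let t₁ := (X'.presheaf.map (homOfLE h₁W).op).hom t
  let s₁ := (b.appLE U V₁ h₁U).hom s
  have ht₁ : X'.presheaf.germ V₁ y.1 hyV₁ t₁ = X'.presheaf.germ W₀ y.1 hyW t :=
    TopCat.Presheaf.germ_res_apply _ _ _ _ _
  have hs₁ : X'.presheaf.germ V₁ y.1 hyV₁ s₁ = X'.presheaf.germ (b ⁻¹ᵁ U) y.1 y.2 (b.app U s) :=
    TopCat.Presheaf.germ_res_apply _ _ _ _ _
  have hu₁ : X'.presheaf.germ V₁ y.1 hyV₁ (t₁ * s₁) = X'.presheaf.germ V₁ y.1 hyV₁ 0 := by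
    rw [map_mul, ht₁, hs₁, map_zero]; exact hu
  obtain ⟨V₂, hyV₂, i₁, i₂, heq⟩ := X'.presheaf.germ_eq y.1 hyV₁ hyV₁ _ _ hu₁
  obtain ⟨V₃, hV₃, hyV₃, hV₃le⟩ := exists_isAffineOpen_mem_and_subset (U := V₂) (x := y.1) hyV₂
  have h₃₁ : V₃ ≤ V₁ := fun z hz => i₁.le (hV₃le hz)
  let t₃ := (X'.presheaf.map (homOfLE h₃₁).op).hom t₁
  let s₃ := (X'.presheaf.map (homOfLE h₃₁).op).hom s₁
  have hts : t₃ * s₃ = 0 := by
    have h := congrArg (X'.presheaf.map (homOfLE hV₃le).op).hom heq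
    rw [← map_mul]
    simp only [← CommRingCat.comp_apply, ← Functor.map_comp, map_zero] at h ⊢
    exact h
  have ht₃ : t₃ = 0 := by
    refine H29Blow.eq_zero_of_res_basicOpen_eq_zero (U := ⟨V₃, hV₃⟩)
      (H29Blow.res_mem_nonZeroDivisors (V := V) (W := ⟨V₃, hV₃⟩) (h₃₁.trans h₁V) he) ?_
    set e₃ := (X'.presheaf.map (homOfLE (h₃₁.trans h₁V)).op).hom e
    let W : X.Opens := ⟨(𝓘.support : Set X)ᶜ, 𝓘.support.isClosed.isOpen_compl⟩
    have hTW : X'.basicOpen e₃ ≤ b ⁻¹ᵁ W := fun z hz => by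
      have := H29Blow.basicOpen_disjoint_support (I := 𝓘.comap b) (U := ⟨V₃, hV₃⟩) (e := e₃)
        (by rw [H29Blow.ideal_eq_span_res (V := V) (W := ⟨V₃, hV₃⟩) (h₃₁.trans h₁V) heV]
            exact Ideal.mem_span_singleton_self _) hz
      rw [Scheme.IdealSheafData.support_comap] at this
      exact this
    haveI : IsIso (b ∣_ W) := H29Blow.isIso_morphismRestrict hb W fun x hx => hx
    refine TopCat.Presheaf.section_ext X'.sheaf _ _ _ fun z hz => ?_
    have hflat : (b.stalkMap z).hom.Flat := by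
      haveI : Flat ((b ⁻¹ᵁ W).ι ≫ b) := by rw [← morphismRestrict_ι]; infer_instance
      have h1 := Flat.stalkMap ((b ⁻¹ᵁ W).ι ≫ b) ⟨z, hTW hz⟩
      rw [Scheme.Hom.stalkMap_comp] at h1; erw [CommRingCat.hom_comp,
        RingHom.Flat.respectsIso.cancel_right_isIso] at h1
      exact h1
    have hzV₃ : z ∈ V₃ := X'.basicOpen_le e₃ hz
    have hreg := H29Blow.mem_nonZeroDivisors_map_of_flat hflat (hs ⟨b z, h₁U (h₃₁ hzV₃)⟩)
    rw [← CommRingCat.comp_apply, Scheme.Hom.germ_stalkMap] at hreg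
    have h0 := congrArg (X'.presheaf.germ V₃ z hzV₃) hts
    rw [map_mul, map_zero] at h0
    simp only [t₃, s₃, s₁, TopCat.Presheaf.germ_res_apply, Scheme.Hom.appLE, CommRingCat.comp_apply] at h0 hreg
    change (X'.presheaf.germ _ z hz) ((X'.presheaf.map (homOfLE (X'.basicOpen_le e₃)).op) t₃) =
      (X'.presheaf.germ _ z hz) 0
    rw [TopCat.Presheaf.germ_res_apply, map_zero]
    simp only [t₃, TopCat.Presheaf.germ_res_apply]
    exact (mem_nonZeroDivisors_iff_right.mp hreg) _ h0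
  rw [← ht₁]
  have := congrArg (X'.presheaf.germ V₃ y.1 hyV₃) ht₃
  simpa only [t₃, TopCat.Presheaf.germ_res_apply, map_zero] using this

end Groth.Agent.S8898
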