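import Groth.Statements.S8899
import Mathlib
import Groth.Agent.H06Mod.StalkPullback

set_option autoImplicit false
universe u
open CategoryTheory CategoryTheory.Limits AlgebraicGeometry TopologicalSpace
open SDiv
open scoped TensorProduct

namespace Groth.Agent.S8899

/-- Let f : X ⟶ S be a morphism of schemes, G a quasi-coherent O_S-module and x a point of X over s = f
x such that f is flat at x, no point of f⁻¹(s) other than x specialises to x (x is the generic point
of some irreducible component of the fibre X_s), and s is weakly associated to G. Then x is weakly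
associated to f^*G. -/
theorem result {X S : Scheme.{u}} (f : X ⟶ S) (G : S.Modules) (hG : Coh.IsQCoh G)
    (x : ↥X) (hfl : (f.stalkMap x).hom.Flat) (hgen : ∀ y : ↥X, f y = f x → y ⤳ x → y = x)
    (hs : Curv2.IsWeakAssPoint G (f x)) : Curv2.IsWeakAssPoint ((Scheme.Modules.pullback f).obj G) x := by
  obtain ⟨m, hm⟩ := hs
  let A := S.presheaf.stalk (f x)
  let B := X.presheaf.stalk x
  letI : Algebra A B := Groth.Agent.H06Mod.stalkAlgebra f x
  haveI : Module.Flat A B := hfl
  let M := G.presheaf.stalk (f x)
  let J : Ideal A := LinearMap.ker (LinearMap.toSpanSingleton A M m)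
  let e := Groth.Agent.H06Mod.pullStalkEquiv f G x
  refine ⟨e ((1 : B) ⊗ₜ[A] m), ?_⟩
  have hexact : Function.Exact J.subtype (LinearMap.toSpanSingleton A M m) :=
    LinearMap.exact_iff.mpr (Submodule.range_subtype J).symm
  have hexB := Module.Flat.lTensor_exact B hexact
  have hker : LinearMap.ker (LinearMap.toSpanSingleton B _ (e ((1 : B) ⊗ₜ[A] m))) =
      J.map (algebraMap A B) := by
    ext b
    rw [LinearMap.mem_ker, LinearMap.toSpanSingleton_apply, ← map_smul, map_eq_zero_iff e e.injective,
      TensorProduct.smul_tmul', smul_eq_mul, mul_one]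
    constructor
    · intro hb
      obtain ⟨z, hz⟩ := (hexB (b ⊗ₜ[A] (1 : A))).mp
        (by rw [LinearMap.lTensor_tmul, LinearMap.toSpanSingleton_apply, one_smul]; exact hb)
      have key : ∀ z : B ⊗[A] J, TensorProduct.rid A B (LinearMap.lTensor B J.subtype z) ∈
          J.map (algebraMap A B) := by
        intro z
        induction z using TensorProduct.induction_on with
        | zero => simp
        | tmul b' j =>
          rw [LinearMap.lTensor_tmul, TensorProduct.rid_tmul, Algebra.smul_def]
          exact Ideal.mul_mem_right _ _ (Ideal.mem_map_of_mem _ j.2)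
        | add a c ha hc => rw [map_add, map_add]; exact add_mem ha hc
      have := key z
      rwa [hz, TensorProduct.rid_tmul, one_smul] at this
    · intro hb
      induction hb using Submodule.span_induction with
      | mem c hc =>
        obtain ⟨a, ha, rfl⟩ := hc
        rw [← mul_one (algebraMap A B a), ← Algebra.smul_def, TensorProduct.smul_tmul,
          show a • m = 0 from ha, TensorProduct.tmul_zero]
      | zero => rw [TensorProduct.zero_tmul]
      | add a c _ _ ha hc => rw [TensorProduct.add_tmul, ha, hc, add_zero]
      | smul a c _ hc => rw [← TensorProduct.smul_tmul', hc, smul_zero]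
  have hJmax : J.radical = IsLocalRing.maximalIdeal A := hm
  haveI hloc : IsLocalHom (algebraMap A B) :=
    inferInstanceAs (IsLocalHom (f.stalkMap x).hom)
  rw [hker]
  apply le_antisymm
  · rw [(IsLocalRing.maximalIdeal.isMaximal B).isPrime.radical_le_iff]
    refine Ideal.map_le_iff_le_comap.mpr fun a ha => ?_
    rw [Ideal.mem_comap, IsLocalRing.mem_maximalIdeal, mem_nonunits_iff, isUnit_map_iff]
    have : a ∈ J.radical := Ideal.le_radical ha
    rw [hJmax] at this
    exact this
  · rw [Ideal.radical_eq_sInf]
    refine le_sInf fun q ⟨hq, hqp⟩ => ?_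
    let pq : PrimeSpectrum B := ⟨q, hqp⟩
    have hcomap : PrimeSpectrum.comap (algebraMap A B) pq = IsLocalRing.closedPoint A := by
      refine PrimeSpectrum.ext (le_antisymm (IsLocalRing.le_maximalIdeal
        (Ideal.IsPrime.comap (algebraMap A B) (hK := hqp)).ne_top) ?_)
      change IsLocalRing.maximalIdeal A ≤ q.comap (algebraMap A B)
      rw [← hJmax, (Ideal.IsPrime.comap (algebraMap A B) (hK := hqp)).radical_le_iff]
      exact fun a ha => hq (Ideal.mem_map_of_mem _ ha)
    let y : X := X.fromSpecStalk x pq
    have hy : y ⤳ x := by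
      have : y ∈ Set.range (X.fromSpecStalk x) := ⟨pq, rfl⟩
      rwa [Scheme.range_fromSpecStalk] at this
    have hfy : f y = f x := by
      have h1 : (X.fromSpecStalk x ≫ f) pq = (Spec.map (f.stalkMap x) ≫ S.fromSpecStalk (f x)) pq := by
        rw [Scheme.SpecMap_stalkMap_fromSpecStalk]
      refine h1.trans ?_
      change S.fromSpecStalk (f x) (PrimeSpectrum.comap (algebraMap A B) pq) = _
      rw [hcomap]
      exact Scheme.fromSpecStalk_closedPoint
    have hyx := hgen y hfy hy
    have : pq = IsLocalRing.closedPoint B := (X.fromSpecStalk x).isEmbedding.injective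
      (hyx.trans Scheme.fromSpecStalk_closedPoint.symm)
    exact (congrArg PrimeSpectrum.asIdeal this).ge

end Groth.Agent.S8899
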