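import Groth.Statements.S8900
import Groth.Agent.H11WeakAss.FieldExt

set_option autoImplicit false
universe u
open CategoryTheory CategoryTheory.Limits AlgebraicGeometry TopologicalSpace
open SDiv

namespace Groth.Agent.S8900

/-- Let K/k be an extension of fields, X a scheme over k, F a quasi-coherent O_X-module, and y a point
of X_K = X ×_k Spec K with image x in X. If y is weakly associated to the pullback of F to X_K, then
x is weakly associated to F. -/
theorem result (k : Type u) [Field k] (K : Type u) [Field K] [Algebra k K] (X : Scheme.{u})
    [X.Over (Spec (CommRingCat.of k))] (F : X.Modules) (hF : Coh.IsQCoh F) (y : ↥(Curv2.bc k X K))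
    (hy : Curv2.IsWeakAssPoint ((Scheme.Modules.pullback (Curv2.bcFst k X K)).obj F) y) :
    Curv2.IsWeakAssPoint F (Curv2.bcFst k X K y) := by
  exact Groth.Agent.H11WeakAss.isWeakAssPoint_of_bc k K X F hF y hy

end Groth.Agent.S8900
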