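import Groth.Statements.S8901
import Groth.Agent.H29Blow.WeakAss

set_option autoImplicit false
universe u
open CategoryTheory CategoryTheory.Limits AlgebraicGeometry TopologicalSpace
open SDiv

namespace Groth.Agent.S8901

/-- Let f : X ⟶ Y be a morphism of schemes under which each weakly associated point of X (of O_X) goes
to a point of Y with no proper generization (the generic point of some irreducible component of Y).
Then pullbacks of meromorphic functions are defined for f: for every open U ⊆ Y and every regular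
section s of O_Y over U, the pulled-back section of O_X over f⁻¹U is regular. -/
theorem result {X Y : Scheme.{u}} (f : X ⟶ Y)
    (h : ∀ x : ↥X, Curv2.IsWeakAssPoint (Coh.structureModule X) x → ∀ y : ↥Y, y ⤳ f x → y = f x)
    (U : Y.Opens) (s : Γ(Y, U)) (hs : s ∈ Mero.regSub Y U) : f.app U s ∈ Mero.regSub X (f ⁻¹ᵁ U) := by
  intro x
  rw [mem_nonZeroDivisors_iff_right]
  intro u hu
  obtain ⟨W₀, hxW, t, rfl⟩ := X.presheaf.germ_exist u
  obtain ⟨V₁, hV₁, hxV₁, hV₁le⟩ :=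
    exists_isAffineOpen_mem_and_subset (U := W₀ ⊓ f ⁻¹ᵁ U) (x := x.1) ⟨hxW, x.2⟩
  have h₁W : V₁ ≤ W₀ := fun z hz => (hV₁le hz).1
  have h₁U : V₁ ≤ f ⁻¹ᵁ U := fun z hz => (hV₁le hz).2
  let t₁ := (X.presheaf.map (homOfLE h₁W).op).hom t
  let s₁ := (X.presheaf.map (homOfLE h₁U).op).hom (f.app U s)
  have ht₁ : X.presheaf.germ V₁ x.1 hxV₁ t₁ = X.presheaf.germ W₀ x.1 hxW t :=
    TopCat.Presheaf.germ_res_apply _ _ _ _ _
  have hu₁ : X.presheaf.germ V₁ x.1 hxV₁ (t₁ * s₁) = X.presheaf.germ V₁ x.1 hxV₁ 0 := by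
    simp only [map_mul, t₁, s₁, TopCat.Presheaf.germ_res_apply, map_zero]; exact hu
  obtain ⟨V₂, hxV₂, i₁, i₂, heq⟩ := X.presheaf.germ_eq x.1 hxV₁ hxV₁ _ _ hu₁
  obtain ⟨V₃, hV₃, hxV₃, hV₃le⟩ := exists_isAffineOpen_mem_and_subset (U := V₂) (x := x.1) hxV₂
  have h₃₁ : V₃ ≤ V₁ := fun z hz => i₁.le (hV₃le hz)
  let t₃ := (X.presheaf.map (homOfLE h₃₁).op).hom t₁
  have ht₃ : t₃ = 0 := by
    by_contra hne
    obtain ⟨y, hy, hweak, hgerm⟩ := H29Blow.exists_isWeakAssPoint_germ_ne_zero ⟨V₃, hV₃⟩ hne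
    apply hgerm
    have hyU : f y ∈ U := h₁U (h₃₁ hy)
    have hunit := (H29Blow.isUnit_germ_of_maximal (h y hweak) (hs ⟨f y, hyU⟩)).map (f.stalkMap y).hom
    rw [← CommRingCat.comp_apply, Scheme.Hom.germ_stalkMap, CommRingCat.comp_apply] at hunit
    have hz := congrArg (X.presheaf.germ V₂ y (hV₃le hy)) heq
    rw [TopCat.Presheaf.germ_res_apply, TopCat.Presheaf.germ_res_apply, map_zero, map_mul] at hz
    simp only [s₁, TopCat.Presheaf.germ_res_apply] at hz
    simp only [t₃, TopCat.Presheaf.germ_res_apply]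
    exact (hunit.mul_left_eq_zero).mp hz
  rw [← ht₁]
  have := congrArg (X.presheaf.germ V₃ x.1 hxV₃) ht₃
  simpa only [t₃, TopCat.Presheaf.germ_res_apply, map_zero] using this

end Groth.Agent.S8901
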