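import Groth.Statements.S8909
import Groth.Agent.H29Ref.DivisorPart

set_option autoImplicit false
universe u
open CategoryTheory CategoryTheory.Limits AlgebraicGeometry TopologicalSpace
open SDiv

namespace Groth.Agent.S8909

/-- Maximal points of closed sets exist above every point. -/
theorem exists_max_in_closed {X : Scheme.{u}} {S : Set X} (hS : IsClosed S) {x : X} (hx : x ∈ S) :
    ∃ z ∈ S, z ⤳ x ∧ ∀ y ∈ S, y ⤳ z → y = z := by
  obtain ⟨J, hJ⟩ := (PrimeSpectrum.isClosed_iff_zeroLocus_ideal _).mp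
    (hS.preimage (X.fromSpecStalk x).continuous)
  have hmem : ∀ p, X.fromSpecStalk x p ∈ S ↔ J ≤ p.asIdeal := fun p => Set.ext_iff.mp hJ p
  have hcl := (hmem (IsLocalRing.closedPoint _)).mp (by rw [Scheme.fromSpecStalk_closedPoint]; exact hx)
  obtain ⟨q, hq, hqm⟩ := Ideal.exists_minimalPrimes_le hcl
  let q' : PrimeSpectrum (X.presheaf.stalk x) := ⟨q, hq.1.1⟩
  have hz : X.fromSpecStalk x q' ⤳ x := by
    have h1 : X.fromSpecStalk x q' ∈ Set.range (X.fromSpecStalk x) := Set.mem_range_self _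
    rwa [Scheme.range_fromSpecStalk] at h1
  refine ⟨_, (hmem q').mpr hq.1.2, hz, fun y hy hyz => ?_⟩
  obtain ⟨p, rfl⟩ := H29Ref.exists_prime_of_specializes (hyz.trans hz)
  have hpq : p ≤ q' := (H29Ref.fromSpecStalk_specializes_iff p q').mp hyz
  exact congrArg _ (le_antisymm hpq (hq.2 ⟨p.2, (hmem p).mp hy⟩ hpq))

/-- A closed subset of a noetherian space has finitely many maximal points. -/
theorem finite_max {X : Type u} [TopologicalSpace X] [NoetherianSpace X] [QuasiSober X] {S : Set X}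
    (hS : IsClosed S) : {y | y ∈ S ∧ ∀ z ∈ S, z ⤳ y → z = y}.Finite := by
  obtain ⟨C, hCf, hCc, hCi, hC⟩ := NoetherianSpace.exists_finite_set_isClosed_irreducible hS
  haveI := hCf.to_subtype
  refine (Set.finite_range fun t : C => (hCi t.1 t.2).genericPoint).subset fun y ⟨hy, hmax⟩ => ?_
  obtain ⟨t, ht, hyt⟩ := Set.mem_sUnion.mp (hC ▸ hy)
  have hg := (hCi t ht).isGenericPoint_genericPoint (hCc t ht)
  refine ⟨⟨t, ht⟩, ?_⟩
  exact hmax _ (hC ▸ Set.mem_sUnion.mpr ⟨t, ht, hg.mem⟩) (hg.specializes hyt)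



/-- Let X be a Noetherian scheme and Z ⊆ X a closed subscheme with ideal sheaf 𝓩. Suppose given a family
of integral effective Cartier divisors D_i ⊆ X (ideal sheaves 𝓓_i, i ∈ I) and a closed subset Z' ⊆ X
whose irreducible components all have codimension at least 2 in X (the local ring of X at each
maximal point of Z' has dimension ≥ 2), such that Z ⊆ Z' ∪ ⋃ D_i set-theoretically. Then there are
integers a_i ≥ 0, almost all zero, such that the effective Cartier divisor D = Σ a_i D_i (with ideal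
sheaf the product of the 𝓓_i^{a_i}) is contained in Z as a closed subscheme and the inclusion D → Z
is an isomorphism outside codimension 2: for some open U ⊆ X the ideal sheaves of D and Z agree on U
and every irreducible component of Z ∖ U has codimension ≥ 2 in X. The published statement also
asserts that such D_i and Z' exist when Z is nowhere dense in X and either every local ring of X at
a point of Z is factorial or X is regular; this row does not. -/
theorem result (X : Scheme.{u}) [IsNoetherian X] (𝓩 : X.IdealSheafData)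
    {I : Type u} (𝓓 : I → X.IdealSheafData) (hD : ∀ i, BlowUp.IsEffCartierIdeal (𝓓 i)) (hDint : ∀ i, IsIntegral (𝓓 i).subscheme)
    (Z' : Set ↥X) (hZ' : IsClosed Z')
    (hcodim : ∀ z ∈ Z', (∀ y ∈ Z', y ⤳ z → y = z) → (2 : WithBot ℕ∞) ≤ ringKrullDim ↑(X.presheaf.stalk z))
    (hcover : (𝓩.support : Set ↥X) ⊆ Z' ∪ ⋃ i, ((𝓓 i).support : Set ↥X)) :
    ∃ a : I →₀ ℕ, 𝓩 ≤ a.prod (fun i n => 𝓓 i ^ n) ∧
      ∃ U : X.Opens, (a.prod (fun i n => 𝓓 i ^ n)).comap U.ι = 𝓩.comap U.ι ∧
        ∀ z ∈ (𝓩.support : Set ↥X) \ (U : Set ↥X), (∀ y ∈ (𝓩.support : Set ↥X) \ (U : Set ↥X), y ⤳ z → y = z) →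
          (2 : WithBot ℕ∞) ≤ ringKrullDim ↑(X.presheaf.stalk z) := by
  classical
  let ξ : I → X := fun i => haveI := hDint i; (𝓓 i).subschemeι (genericPoint (𝓓 i).subscheme)
  have hξmem : ∀ i, ξ i ∈ ((𝓓 i).support : Set X) := fun i => (H29Ref.gen_spec (hDint i)).1
  have hξsp : ∀ i x, x ∈ ((𝓓 i).support : Set X) → ξ i ⤳ x := fun i x hx =>
    (H29Ref.gen_spec (hDint i)).2 x hx
  have hstr : ∀ i, ∃ f : X.presheaf.stalk (ξ i),
      IsLocalRing.maximalIdeal (X.presheaf.stalk (ξ i)) = Ideal.span {f} ∧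
      f ∈ nonZeroDivisors (X.presheaf.stalk (ξ i)) ∧ IsDomain (X.presheaf.stalk (ξ i)) ∧
      ∃ η : X, η ⤳ ξ i ∧ η ≠ ξ i ∧ (∀ y, y ⤳ ξ i → y = η ∨ y = ξ i) ∧
        ringKrullDim (X.presheaf.stalk (ξ i)) ≤ 1 := fun i =>
    haveI := hDint i
    H29Ref.gen_structure (hDint i) (hD i)
  choose f hfm hfnz hdom η hηξ hηne hgens hdim using hstr
  have hnotgen : ∀ i, η i ∉ (𝓩.support : Set X) := by
    intro i hη
    rcases hcover hη with hZ | hZ
    · obtain ⟨z, hz, hzη, hzmax⟩ := exists_max_in_closed hZ' hZ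
      exact absurd ((hcodim z hz hzmax).trans
        ((H29Ref.ringKrullDim_le_of_specializes (hzη.trans (hηξ i))).trans (hdim i))) (by decide)
    · obtain ⟨j, hj⟩ := Set.mem_iUnion.mp hZ
      have h1 := hξsp j _ hj
      rcases hgens i _ (h1.trans (hηξ i)) with h | h
      · have h2 : η j ⤳ η i := h ▸ hηξ j
        rcases hgens i _ (h2.trans (hηξ i)) with h3 | h3
        · exact hηne j (h3.trans h.symm)
        · exact hηne i ((hηξ i).antisymm (h3 ▸ h2)).eq
      · exact hηne i ((hηξ i).antisymm (h ▸ h1)).eq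
  have hmax : ∀ i, ∀ y ∈ (𝓩.support : Set X), y ⤳ ξ i → y = ξ i := fun i y hy hyi =>
    (hgens i y hyi).resolve_left fun h => hnotgen i (h ▸ hy)
  let S : Set X := {x | x ∈ (𝓩.support : Set X) ∧ ∃ i, ξ i = x}
  have hSfin : S.Finite := (finite_max 𝓩.support.isClosed).subset fun x ⟨hx, i, hi⟩ =>
    ⟨hx, fun y hy hyx => hi ▸ hmax i y hy (hi.symm ▸ hyx)⟩
  choose idx hidx using fun x : hSfin.toFinset => (hSfin.mem_toFinset.mp x.2).2
  have hTsupp : ∀ x : hSfin.toFinset, ξ (idx x) ∈ (𝓩.support : Set X) := fun x => by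
    rw [hidx]; exact (hSfin.mem_toFinset.mp x.2).1
  have hdist : ∀ x x' : hSfin.toFinset, x ≠ x' → ξ (idx x') ∉ ((𝓓 (idx x)).support : Set X) := by
    intro x x' hne hmem
    exact hne (Subtype.ext ((hidx x).symm.trans ((hmax _ _ (hTsupp x) (hξsp _ _ hmem)).trans (hidx x'))))
  have hord : ∀ x : hSfin.toFinset, ∃ n : ℕ,
      IntMult.stalkIdeal 𝓩 (ξ (idx x)) = Ideal.span {f (idx x) ^ n} := by
    intro x
    haveI : IsNoetherianRing (X.presheaf.stalk (ξ (idx x))) := inferInstance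
    refine H29Ref.exists_eq_span_pow _ (hfm _) _ fun h => hnotgen (idx x) ?_
    by_contra hη
    have h1 := (H29Ref.stalkIdeal_eq_top_iff 𝓩 _).mpr hη
    rw [H29Ref.stalkIdeal_specializes 𝓩 (hηξ (idx x)), h, Ideal.map_bot] at h1
    exact bot_ne_top h1
  choose n hn using hord
  let P : X.IdealSheafData := ∏ x : hSfin.toFinset, 𝓓 (idx x) ^ n x
  have hPprod : (∑ x : hSfin.toFinset, Finsupp.single (idx x) (n x)).prod (fun i m => 𝓓 i ^ m) = P := by
    rw [← Finsupp.prod_finsetSum_index (fun i => pow_zero _) (fun i a b => pow_add _ a b)]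
    exact Finset.prod_congr rfl fun x _ => Finsupp.prod_single_index (pow_zero _)
  -- the stalks of `P`
  have hPst : ∀ z, IntMult.stalkIdeal P z = ∏ x : hSfin.toFinset, IntMult.stalkIdeal (𝓓 (idx x)) z ^ n x :=
    fun z => (H29Ref.stalkIdeal_prod _ _ z).trans
      (Finset.prod_congr rfl fun x _ => H29Ref.stalkIdeal_pow _ z _)
  have hle : ∀ z, IntMult.stalkIdeal 𝓩 z ≤ IntMult.stalkIdeal P z := by
    intro z
    choose g hg hgs using fun x : hSfin.toFinset => H29Ref.exists_stalk_gen (hD (idx x)) z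
    rw [hPst, Finset.prod_congr rfl fun x _ => show IntMult.stalkIdeal (𝓓 (idx x)) z ^ n x =
      Ideal.span {g x ^ n x} by rw [hgs, Ideal.span_singleton_pow], Ideal.prod_span_singleton]
    suffices ∀ s : Finset hSfin.toFinset,
        IntMult.stalkIdeal 𝓩 z ≤ Ideal.span {∏ x ∈ s, g x ^ n x} from this _
    intro s
    induction s using Finset.induction with
    | empty => simp
    | @insert j s hj ih =>
      suffices ∀ m ≤ n j, IntMult.stalkIdeal 𝓩 z ≤ Ideal.span {g j ^ m * ∏ x ∈ s, g x ^ n x} by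
        rw [Finset.prod_insert hj]; exact this _ le_rfl
      intro m hm
      induction m with
      | zero => rw [pow_zero, one_mul]; exact ih
      | succ m ihm =>
        intro c hc
        obtain ⟨h, hh⟩ := Ideal.mem_span_singleton'.mp (ihm (by omega) hc)
        suffices h ∈ IntMult.stalkIdeal (𝓓 (idx j)) z by
          rw [hgs] at this
          obtain ⟨h', rfl⟩ := Ideal.mem_span_singleton'.mp this
          exact Ideal.mem_span_singleton'.mpr ⟨h', by rw [← hh]; ring⟩
        by_cases hz : z ∈ (𝓓 (idx j)).support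
        swap
        · rw [(H29Ref.stalkIdeal_eq_top_iff _ _).mpr hz]; trivial
        refine H29Ref.mem_stalkIdeal_of_gen (hDint _) (hξsp _ _ hz) hz h ?_
        let σ := (X.presheaf.stalkSpecializes (hξsp _ _ hz)).hom
        show σ h ∈ IsLocalRing.maximalIdeal (X.presheaf.stalk (ξ (idx j)))
        have hc' : σ c ∈ Ideal.span {f (idx j) ^ n j} := by
          rw [← hn, H29Ref.stalkIdeal_specializes 𝓩 (hξsp _ _ hz)]
          exact Ideal.mem_map_of_mem _ hc
        have hgj : Ideal.span {σ (g j)} = Ideal.span {f (idx j)} := by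
          rw [← Set.image_singleton, ← Ideal.map_span, ← hgs, ← H29Ref.stalkIdeal_specializes, ← hfm]
          exact @H29Ref.stalkIdeal_gen _ _ (hDint _)
        have hu : IsUnit (σ (∏ x ∈ s, g x ^ n x)) := by
          rw [map_prod, IsUnit.prod_iff]
          intro x hx
          rw [map_pow]
          refine IsUnit.pow _ (Ideal.span_singleton_eq_top.mp ?_)
          rw [← Set.image_singleton, ← Ideal.map_span, ← hgs, ← H29Ref.stalkIdeal_specializes]
          exact (H29Ref.stalkIdeal_eq_top_iff _ _).mpr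
            (hdist x j (by rintro rfl; exact hj hx))
        have hsp : Ideal.span {σ h} * Ideal.span {f (idx j) ^ m} ≤ Ideal.span {f (idx j) ^ n j} := by
          rw [← Ideal.span_singleton_pow, ← hgj, Ideal.span_singleton_pow,
            Ideal.span_singleton_mul_span_singleton, Ideal.span_singleton_le_iff_mem]
          refine (Ideal.mul_unit_mem_iff_mem _ hu).mp ?_
          rw [← map_pow, ← map_mul, ← map_mul, mul_assoc, hh]
          exact hc'
        rw [Ideal.span_singleton_mul_span_singleton, Ideal.span_singleton_le_iff_mem] at hsp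
        obtain ⟨r, hr⟩ := Ideal.mem_span_singleton'.mp hsp
        rw [hfm]
        obtain ⟨e, he⟩ : ∃ e, n j = m + (e + 1) := ⟨n j - m - 1, by omega⟩
        refine Ideal.mem_span_singleton'.mpr ⟨r * f (idx j) ^ e, ?_⟩
        haveI := hdom (idx j)
        refine mul_right_cancel₀ (pow_ne_zero m (nonZeroDivisors.ne_zero (hfnz (idx j)))) ?_
        rw [← hr, he]
        ring
  let U : X.Opens :=
    ⟨{z | ∃ O : X.Opens, z ∈ O ∧ ∀ y ∈ O, IntMult.stalkIdeal P y ≤ IntMult.stalkIdeal 𝓩 y},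
      isOpen_iff_forall_mem_open.mpr fun z ⟨O, hzO, hO⟩ => ⟨O, fun y hy => ⟨O, hy, hO⟩, O.2, hzO⟩⟩
  refine ⟨∑ x : hSfin.toFinset, Finsupp.single (idx x) (n x), ?_, U, ?_, fun z hz hzmax => ?_⟩
  · rw [hPprod]
    exact fun V => H29Ref.le_of_stalkIdeal_le V fun y _ => hle y
  · rw [hPprod]
    refine H29Blow.ext_of_forall_exists fun z => ?_
    obtain ⟨O, hzO, hO⟩ := z.2
    obtain ⟨A, hA, hzA, hAle⟩ := exists_isAffineOpen_mem_and_subset (U := O) (x := z.1) hzO
    obtain ⟨V, hV, hzV, hVle⟩ := exists_isAffineOpen_mem_and_subset (X := (U : Scheme.{u}))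
      (U := U.ι ⁻¹ᵁ A) (x := z) hzA
    refine ⟨⟨V, hV⟩, hzV, ?_⟩
    rw [H29Blow.ideal_comap P U.ι ⟨A, hA⟩ ⟨V, hV⟩ hVle, H29Blow.ideal_comap 𝓩 U.ι ⟨A, hA⟩ ⟨V, hV⟩ hVle]
    exact congrArg _ (le_antisymm (H29Ref.le_of_stalkIdeal_le ⟨A, hA⟩ fun y hy => hO y (hAle hy))
      (H29Ref.le_of_stalkIdeal_le ⟨A, hA⟩ fun y _ => hle y))
  · rcases hcover hz.1 with hZ | hZ
    · obtain ⟨w, hw, hwz, hwmax⟩ := exists_max_in_closed hZ' hZ
      exact (hcodim w hw hwmax).trans (H29Ref.ringKrullDim_le_of_specializes hwz)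
    · obtain ⟨i, hi⟩ := Set.mem_iUnion.mp hZ
      refine H29Ref.two_le_ringKrullDim_of_chain (hηξ i) (hξsp i z hi) (hηne i) fun h => hz.2 ?_
      let x : hSfin.toFinset := ⟨z, hSfin.mem_toFinset.mpr ⟨hz.1, i, h⟩⟩
      suffices hfin : IntMult.stalkIdeal P (ξ (idx x)) ≤ IntMult.stalkIdeal 𝓩 (ξ (idx x)) by
        rw [hidx x] at hfin
        exact H29Ref.exists_nhd_stalkIdeal_le P 𝓩 z hfin
      rw [hPst, Finset.prod_eq_single x (fun x' _ hne => by
        rw [(H29Ref.stalkIdeal_eq_top_iff _ _).mpr (hdist x' x hne), ← Ideal.one_eq_top, one_pow])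
        (fun h => (h (Finset.mem_univ x)).elim), hn, ← Ideal.span_singleton_pow, ← hfm]
      exact (congrArg (· ^ n x) (@H29Ref.stalkIdeal_gen _ _ (hDint _))).le

end Groth.Agent.S8909
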