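import Groth.Statements.S8913
import Mathlib
import Groth.Agent.H29Fitt.Admissible

set_option autoImplicit false
universe u
open CategoryTheory CategoryTheory.Limits AlgebraicGeometry TopologicalSpace
open SDiv

namespace Groth.Agent.S8913

/-- Let X be a scheme, F a finitely presented O_X-module and U ⊆ X an open subscheme which is
scheme-theoretically dense and over which F is locally free of constant finite rank r. Then: (1)
Fit_r(F) is of finite type with support disjoint from U, so a blowing up b : X' ⟶ X of X in Fit_r(F)
is U-admissible; (2) the strict transform G of F along such b is locally free of rank r; (3) the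
kernel of the surjection b^*F ⟶ G is finitely presented and restricts to zero over b⁻¹U. This row
does not assert that b^*F and the kernel are perfect of tor dimension at most one. -/
theorem result (X : Scheme.{u}) (F : X.Modules) (hF : CohB1.IsFP F)
    (U : X.Opens) (hU : CInt.IsSchematicallyDense U) (r : ℕ) (hfree : FlatMod.IsFinLocFreeOfRank r (F.restrict U.ι)) :
    BlowUp.IsAdmissibleFor U (Fitt.sheafIdeal F r) ∧
      ∀ (X' : Scheme.{u}) (b : X' ⟶ X), BlowUp.IsBlowUp b (Fitt.sheafIdeal F r) →
        ∀ (G : X'.Modules) (π : (Scheme.Modules.pullback b).obj F ⟶ G), BlowUp.IsStrictTransform b (Fitt.sheafIdeal F r) F G π →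
          FlatMod.IsFinLocFreeOfRank r G ∧ CohB1.IsFP (kernel π) ∧ IsZero ((kernel π).restrict (b ⁻¹ᵁ U).ι) := by
  exact Groth.Agent.H29Fitt.blowup_fitting_admissible F hF U hU r hfree

end Groth.Agent.S8913
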