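import Groth.Statements.S8915
import Mathlib
import Groth.Agent.H29Omega.SheafFinite
import Groth.Agent.H17.OmegaStalk
import Groth.Agent.S8876

set_option autoImplicit false
universe u
open CategoryTheory CategoryTheory.Limits AlgebraicGeometry TopologicalSpace
open SDiv

namespace Groth.Agent.S8915

/-- Let f : X ⟶ S be locally of finite type and quasi-separated. Then the closed subset of X defined by
the Fitting ideal Fit_0(Ω_{X/S}) is exactly the set of points at which f is not unramified, i.e.
which have no open neighbourhood on which f is formally unramified. The published statement does not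
assume f quasi-separated; this row does, because the module Ω_{X/S} used here is defined for
quasi-separated f. -/
theorem result {X S : Scheme.{u}} (f : X ⟶ S) [LocallyOfFiniteType f] [QuasiSeparated f]
    (x : ↥X) :
    x ∈ (Fitt.sheafIdeal (Omega.sheaf f) 0).support ↔ ¬ ∃ U : X.Opens, x ∈ U ∧ FormallyUnramified (U.ι ≫ f) := by
  have hS : ((Fitt.sheafIdeal (Omega.sheaf f) 0).support : Set ↥X) = CohB1.support (Omega.sheaf f) :=
    Groth.Agent.S8876.result X _ (Groth.Agent.H29Omega.isQCoh_sheaf f) (Groth.Agent.H29Omega.isFT_sheaf f)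
  rw [← SetLike.mem_coe, hS, CohB1.support, Set.mem_setOf_eq,
    Groth.Agent.H17.OmegaStalk.subsingleton_stalk_iff f x]
  refine not_congr ⟨fun hu => ?_, fun ⟨U, hxU, hU⟩ => ?_⟩
  · obtain ⟨U, V, hxU, hU, hV, hle⟩ := Groth.Agent.H29Omega.exists_affine_chart f x
    rw [Groth.Agent.H17.OmegaStalk.formallyUnramified_stalkMap_iff hU hV hle hxU] at hu
    have hft : (f.appLE V U hle).hom.FiniteType := f.finiteType_appLE hV hU hle
    algebraize [(f.appLE V U hle).hom]
    obtain ⟨g, hg, hug⟩ := Algebra.exists_formallyUnramified_of_isUnramifiedAt (R := Γ(S, V))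
      (hU.primeIdealOf ⟨x, hxU⟩).asIdeal
    let D := X.basicOpen g
    have hD : IsAffineOpen D := hU.basicOpen g
    have hxD : x ∈ D := by
      rw [X.mem_basicOpen g x hxU]
      by_contra h
      exact hg ((_root_.H29Blow.mem_primeIdealOf_iff hU ⟨x, hxU⟩ g).mpr h)
    have hDV : D ≤ f ⁻¹ᵁ V := (X.basicOpen_le g).trans hle
    let : Algebra Γ(S, V) Γ(X, D) := (f.appLE V D hDV).hom.toAlgebra
    have : IsScalarTower Γ(S, V) Γ(X, U) Γ(X, D) := .of_algebraMap_eq fun a =>
      (congr($(Scheme.Hom.appLE_map f hle (homOfLE (X.basicOpen_le g)).op) a)).symm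
    have : IsLocalization.Away g Γ(X, D) := hU.isLocalization_basicOpen g
    have hu' : Algebra.FormallyUnramified Γ(S, V) Γ(X, D) :=
      Algebra.FormallyUnramified.of_equiv
        ((IsLocalization.algEquiv (Submonoid.powers g) (Localization.Away g) Γ(X, D)).restrictScalars Γ(S, V))
    have h1 : FormallyUnramified (Spec.map (f.appLE V D hDV)) := by
      rw [HasRingHomProperty.Spec_iff (P := @FormallyUnramified)]
      exact hu'
    have h2 : FormallyUnramified (hD.fromSpec ≫ f) := by
      rw [← IsAffineOpen.SpecMap_appLE_fromSpec f hV hD hDV]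
      exact MorphismProperty.comp_mem _ _ _ h1 inferInstance
    refine ⟨D, hxD, ?_⟩
    rw [← hD.isoSpec_hom_fromSpec, Category.assoc]
    exact (MorphismProperty.cancel_left_of_respectsIso (P := @FormallyUnramified) _ _).mpr h2
  · exact Groth.Agent.H17.LocusBC.formallyUnramified_stalkMap_of_nhd f U hxU

end Groth.Agent.S8915
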