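import Groth.Statements.S8920
import Groth.Agent.H11Split.Scheme

set_option autoImplicit false
universe u
open CategoryTheory CategoryTheory.Limits AlgebraicGeometry TopologicalSpace
open SDiv

namespace Groth.Agent.S8920

/-- Let i : Z ⟶ Y and j : Y ⟶ X be quasi-compact immersions of schemes with j locally of finite
presentation, and let a : i^*C_{Y/X} ⟶ C_{Z/X}, b : C_{Z/X} ⟶ C_{Z/Y} be the canonical maps of
conormal sheaves. Assume the sequence 0 → i^*C_{Y/X} → C_{Z/X} → C_{Z/Y} → 0 is exact and locally
split (every point of Z has an open neighbourhood over which b admits a section). Then: (1)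
quasi-regularity of j ∘ i passes to i; (2) likewise for H_1-regularity; (3) if both j and j ∘ i are
Koszul-regular then i is Koszul-regular too. The published statement allows arbitrary immersions;
this row takes both immersions quasi-compact, the case in which the conormal sheaves used here are
those of the immersions. -/
theorem result {Z Y X : Scheme.{u}} (i : Z ⟶ Y) (j : Y ⟶ X) [IsImmersion i] [IsImmersion j]
    [QuasiCompact i] [QuasiCompact j]
    (a : (Scheme.Modules.pullback i).obj (Omega.conormal j) ⟶ Omega.conormal (i ≫ j))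
    (ha : OmegaSh.IsConormalMap (i ≫ j) j (𝟙 X) i a)
    (b : (Scheme.Modules.pullback (𝟙 Z)).obj (Omega.conormal (i ≫ j)) ⟶ Omega.conormal i)
    (hb : OmegaSh.IsConormalMap i (i ≫ j) j (𝟙 Z) b)
    [LocallyOfFinitePresentation j]
    (w : a ≫ ((Scheme.Modules.pullbackId Z).inv.app (Omega.conormal (i ≫ j)) ≫ b) = 0) (hex : (ShortComplex.mk a ((Scheme.Modules.pullbackId Z).inv.app (Omega.conormal (i ≫ j)) ≫ b) w).ShortExact)
    (hsplit : ∀ z : ↥Z, ∃ U : Z.Opens, z ∈ U ∧
      ∃ r : (Scheme.Modules.restrictFunctor U.ι).obj (Omega.conormal i) ⟶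
          (Scheme.Modules.restrictFunctor U.ι).obj (Omega.conormal (i ≫ j)),
        r ≫ (Scheme.Modules.restrictFunctor U.ι).map ((Scheme.Modules.pullbackId Z).inv.app (Omega.conormal (i ≫ j)) ≫ b) = 𝟙 _) :
    (RegImm.IsRegularImmersion RegImm.Kind.quasi (i ≫ j) → RegImm.IsRegularImmersion RegImm.Kind.quasi i) ∧
      (RegImm.IsRegularImmersion RegImm.Kind.h1 (i ≫ j) → RegImm.IsRegularImmersion RegImm.Kind.h1 i) ∧
      (RegImm.IsRegularImmersion RegImm.Kind.koszul j → RegImm.IsRegularImmersion RegImm.Kind.koszul (i ≫ j) →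
        RegImm.IsRegularImmersion RegImm.Kind.koszul i) := by
  have key : ∀ k : RegImm.Kind, k ≠ RegImm.Kind.regular →
      (k = RegImm.Kind.koszul → RegImm.IsRegularImmersion RegImm.Kind.koszul j) →
      RegImm.IsRegularImmersion k (i ≫ j) → RegImm.IsRegularImmersion k i := fun k hk hj hij => ⟨inferInstance, fun z => by
    obtain ⟨U, hzU, r, hr⟩ := hsplit z
    obtain ⟨ρ, hρ⟩ := H11Split.exists_retraction a _ w hex U r hr
    exact H11Split.cancelAt hk j i z (fun h => (hj h).2 (i z)) (hij.2 z) a ha U hzU ρ hρ⟩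
  exact ⟨key _ (by decide) (fun h => absurd h (by decide)), key _ (by decide) (fun h => absurd h (by decide)),
    fun hj => key _ (by decide) fun _ => hj⟩

end Groth.Agent.S8920
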