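import Groth.Statements.S8921
import Groth.Agent.H11Split.Scheme
import Groth.Agent.H11Split.Free
import Groth.Agent.H11Split.Regular
import Groth.Agent.H17.Conormal.Trans

set_option autoImplicit false
universe u
open CategoryTheory CategoryTheory.Limits AlgebraicGeometry TopologicalSpace
open SDiv

namespace Groth.Agent.S8921

set_option linter.style.haveILetI false in
/-- Let i : Z ⟶ Y and j : Y ⟶ X be immersions of schemes with X locally Noetherian, z a point of Z with
images y = i z and x, and a : i^*C_{Y/X} ⟶ C_{Z/X}, b : C_{Z/X} ⟶ C_{Z/Y} the canonical maps of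
conormal sheaves. The following are equivalent: (1) i is regular near z and j is regular near y; (2)
i and j ∘ i are regular near z; (3) j ∘ i is regular near z and the sequence 0 → i^*C_{Y/X} →
C_{Z/X} → C_{Z/Y} → 0 is split short exact over some open neighbourhood of z. Both immersions are
quasi-compact automatically, X being locally Noetherian; the quasi-compactness binders only make the
conormal sheaves available. -/
theorem result {Z Y X : Scheme.{u}} (i : Z ⟶ Y) (j : Y ⟶ X) [IsImmersion i] [IsImmersion j]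
    [QuasiCompact i] [QuasiCompact j]
    (a : (Scheme.Modules.pullback i).obj (Omega.conormal j) ⟶ Omega.conormal (i ≫ j))
    (ha : OmegaSh.IsConormalMap (i ≫ j) j (𝟙 X) i a)
    (b : (Scheme.Modules.pullback (𝟙 Z)).obj (Omega.conormal (i ≫ j)) ⟶ Omega.conormal i)
    (hb : OmegaSh.IsConormalMap i (i ≫ j) j (𝟙 Z) b)
    [IsLocallyNoetherian X] (z : ↥Z) :
    ((RegImm.IsRegularImmersionAt RegImm.Kind.regular i z ∧ RegImm.IsRegularImmersionAt RegImm.Kind.regular j (i z)) ↔
      (RegImm.IsRegularImmersionAt RegImm.Kind.regular i z ∧ RegImm.IsRegularImmersionAt RegImm.Kind.regular (i ≫ j) z)) ∧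
    ((RegImm.IsRegularImmersionAt RegImm.Kind.regular i z ∧ RegImm.IsRegularImmersionAt RegImm.Kind.regular (i ≫ j) z) ↔
      (RegImm.IsRegularImmersionAt RegImm.Kind.regular (i ≫ j) z ∧
        ∃ U : Z.Opens, z ∈ U ∧
          ∀ w : (Scheme.Modules.restrictFunctor U.ι).map a ≫ (Scheme.Modules.restrictFunctor U.ι).map ((Scheme.Modules.pullbackId Z).inv.app (Omega.conormal (i ≫ j)) ≫ b) = 0,
            Nonempty (ShortComplex.mk ((Scheme.Modules.restrictFunctor U.ι).map a) ((Scheme.Modules.restrictFunctor U.ι).map ((Scheme.Modules.pullbackId Z).inv.app (Omega.conormal (i ≫ j)) ≫ b)) w).Splitting)) := by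
  haveI : IsLocallyNoetherian Y := LocallyOfFiniteType.isLocallyNoetherian j
  haveI : LocallyOfFinitePresentation j := LocallyOfFinitePresentation.iff_locallyOfFiniteType.2 inferInstance
  refine ⟨⟨fun h => ⟨h.1, H11Split.regularAt_comp j i z h.2 h.1⟩,
    fun h => ⟨h.1, H11Split.regularAt_of_comp j i z h.1 h.2⟩⟩, ⟨fun h => ⟨h.2, ?_⟩, fun h => ⟨?_, h.1⟩⟩⟩
  · obtain ⟨U, hzU, hcl, rs, hrs, hker⟩ := h.1
    have hk := H29Slice.isKoszulRegular_of_isWeaklyRegular hrs.1
    exact H11Split.exists_splitting j i ha hb z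
      ⟨U, hzU, hcl, rs, H29Slice.isH1Regular_of_isKoszulRegular hk, hker⟩
      ⟨U, hzU, hcl, rs, H17.RegQuasi.quasi_of_regular hrs, hker⟩
  · obtain ⟨hij, U, hzU, hsp⟩ := h
    obtain ⟨w₀, -⟩ := H17.Conormal.exact_conormal j i ha hb
    haveI : (Scheme.Modules.restrictFunctor U.ι).Additive := H10Coh.restrictFunctor_additive U.ι
    have w : (Scheme.Modules.restrictFunctor U.ι).map a ≫ (Scheme.Modules.restrictFunctor U.ι).map
        ((Scheme.Modules.pullbackId Z).inv.app (Omega.conormal (i ≫ j)) ≫ b) = 0 := by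
      rw [← Functor.map_comp, w₀, Functor.map_zero]
    obtain ⟨sp⟩ := hsp w
    obtain ⟨V, hzV, hcl, rs, hrs, hker⟩ := hij
    exact H17.RegQuasi.regularImmersionAt_of_quasi i z (H11Split.cancelAt (k := .quasi) (by decide) j i z
      (fun h => absurd h (by decide)) ⟨V, hzV, hcl, rs, H17.RegQuasi.quasi_of_regular hrs, hker⟩ a ha U hzU sp.r sp.f_r)

end Groth.Agent.S8921
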