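import Groth.Statements.S8922
import Groth.Agent.H11Strict.Kernel
import Groth.Agent.H10Coh.FlatBC.Sheaf
import Groth.Agent.H29Fitt.PullbackQCoh

set_option autoImplicit false
universe u
open CategoryTheory CategoryTheory.Limits AlgebraicGeometry TopologicalSpace
open SDiv

namespace Groth.Agent.S8922

theorem main {X Y S S' X' Y' : Scheme.{u}} {hX : X ⟶ S} {g : X ⟶ Y} {g' : X' ⟶ Y'} {p : X' ⟶ X}
    {q : Y' ⟶ Y} [IsAffineHom g] [IsAffineHom g'] (sq : IsPullback p g' g q) (𝓘 : S.IdealSheafData)
    (hY : Y ⟶ S) (h : g ≫ hY = hX) {b : S' ⟶ S} {r : Y' ⟶ S'} (hr : q ≫ hY = r ≫ b)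
    (hb : BlowUp.IsBlowUp b 𝓘) (F : X.Modules) (hF : Coh.IsQCoh F)
    (F' : X'.Modules) (π : (Scheme.Modules.pullback p).obj F ⟶ F')
    (hπ : BlowUp.IsStrictTransform p (𝓘.comap hX) F F' π) :
    ∃ π' : (Scheme.Modules.pullback q).obj ((Scheme.Modules.pushforward g).obj F) ⟶
        (Scheme.Modules.pushforward g').obj F',
      BlowUp.IsStrictTransform q (𝓘.comap hY) ((Scheme.Modules.pushforward g).obj F)
        ((Scheme.Modules.pushforward g').obj F') π' := by
  haveI := hπ.1
  haveI : F.IsQuasicoherent := hF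
  haveI hq : ((Scheme.Modules.pullback p).obj F).IsQuasicoherent := H29Fitt.isQCoh_pullback p F hF
  have hN : ((Scheme.Modules.pushforward g).obj F).IsQuasicoherent :=
    H10Coh.isQuasicoherent_pushforward_of_isAffineHom g F
  have hiso := H10Coh.FBC.isIso_transpose q hN
    (H10Coh.FBC.τPush sq ((Scheme.Modules.pullbackPushforwardAdjunction p).unit.app F))
    (fun V V' hV hV' hle => H10Coh.FBC.bijective_locLin_of_isAffineHom sq hF hV hV' hle)
  let Φ : (Scheme.Modules.pullback q).obj ((Scheme.Modules.pushforward g).obj F) ≅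
      (Scheme.Modules.pushforward g').obj ((Scheme.Modules.pullback p).obj F) := @asIso _ _ _ _ _ hiso
  have hE : BlowUp.exceptional p (𝓘.comap hX) = (BlowUp.exceptional q (𝓘.comap hY)).comap g' := by
    simp only [BlowUp.exceptional, ← Scheme.IdealSheafData.comap_comp]
    rw [← h, ← Category.assoc, sq.w, Category.assoc]
  have hlp : H11Strict.LocPrincipal (BlowUp.exceptional p (𝓘.comap hX)) := by
    rw [hE]
    simp only [BlowUp.exceptional, ← Scheme.IdealSheafData.comap_comp, Category.assoc]
    rw [hr, ← Category.assoc, Scheme.IdealSheafData.comap_comp]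
    exact H11Strict.locPrincipal_comap _ hb.1
  haveI : F'.IsQuasicoherent := H11Strict.isQuasicoherent_of_kills _ hlp π hπ.2
  have hepi : Epi ((Scheme.Modules.pushforward g').map π) := by
    refine H11Tilde.epi_of_locally_surjective _ fun W t x hx => ?_
    obtain ⟨_, ⟨V, hV, rfl⟩, hxV, hVW⟩ := Y'.isBasis_affineOpens.exists_subset_of_mem_open hx W.isOpen
    obtain ⟨s, hs⟩ := H10Coh.surjective_app_of_epi π (hV.preimage g')
      (((Scheme.Modules.pushforward g').obj F').presheaf.map (homOfLE (show V ≤ W from hVW)).op t)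
    exact ⟨V, hVW, hxV, s, hs⟩
  refine ⟨Φ.hom ≫ (Scheme.Modules.pushforward g').map π, epi_comp _ _, fun W m => ?_⟩
  let V : X'.affineOpens := ⟨g' ⁻¹ᵁ W.1, W.2.preimage g'⟩
  have hI : ∀ n : ℕ, ((BlowUp.exceptional p (𝓘.comap hX)) ^ n).ideal V =
      ((BlowUp.exceptional q (𝓘.comap hY) ^ n).ideal W).map (g'.app W.1).hom := fun n => by
    rw [hE, Scheme.IdealSheafData.ideal_pow, Pi.pow_apply, Scheme.IdealSheafData.ideal_pow, Pi.pow_apply,
      H29Blow.ideal_comap _ g' W V le_rfl, Ideal.map_pow, Scheme.Hom.appLE_eq_app]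
  have hinj : Function.Injective (Φ.hom.app W.1) := (ConcreteCategory.bijective_of_isIso _).1
  show ((Scheme.Modules.pushforward g').map π).app W.1 (Φ.hom.app W.1 m) = 0 ↔ _
  refine (hπ.2 V (Φ.hom.app W.1 m)).trans ⟨fun ⟨n, hn⟩ => ⟨n, fun a ha => hinj ?_⟩, fun ⟨n, hn⟩ => ⟨n, ?_⟩⟩
  · rw [map_zero, Scheme.Modules.Hom.app_smul]
    exact hn (g'.app W.1 a) (hI n ▸ Ideal.mem_map_of_mem _ ha)
  · let M' := (Scheme.Modules.pullback p).obj F
    intro a ha
    rw [hI n] at ha
    let A : Ideal Γ(X', V.1) :=
      { carrier := {c | c • (show Γ(M', V.1) from Φ.hom.app W.1 m) = 0}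
        add_mem' := fun {c d} (hc : _ = _) (hd : _ = _) => show _ = _ by rw [add_smul, hc, hd, add_zero]
        zero_mem' := zero_smul _ _
        smul_mem' := fun e c (hc : _ = _) => show _ = _ by rw [smul_eq_mul, mul_smul, hc, smul_zero] }
    refine (Ideal.map_le_iff_le_comap.mpr fun c hc => ?_ : _ ≤ A) ha
    exact ((Φ.hom.app_smul c m).symm.trans (congrArg (Φ.hom.app W.1) (hn c hc))).trans (map_zero _)

/-- Let S be a scheme, 𝓘 a quasi-coherent ideal sheaf on S with closed subscheme Z, b : S' ⟶ S a blowing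
up of S in Z, g : X ⟶ Y an affine morphism of schemes over S, F a quasi-coherent O_X-module, and π :
pr_X^*F ⟶ F' a strict transform of F along b (on X ×_S S'). Write g' : X ×_S S' ⟶ Y ×_S S' for the
base change of g. Then g'_*F' is a strict transform of g_*F along b: there is an epimorphism
pr_Y^*(g_*F) ⟶ g'_*F' whose kernel consists, affine-locally, exactly of the sections annihilated by
a power of the inverse image of 𝓘. The published statement identifies g'_*F' with the strict
transform through the canonical base-change isomorphism; this row asserts only that some epimorphism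
from pr_Y^*(g_*F) onto g'_*F' has the strict-transform property. -/
theorem result {X Y S S' : Scheme.{u}} (hX : X ⟶ S) (hY : Y ⟶ S) (g : X ⟶ Y) [IsAffineHom g]
    (h : g ≫ hY = hX) (𝓘 : S.IdealSheafData) (b : S' ⟶ S) (hb : BlowUp.IsBlowUp b 𝓘) (F : X.Modules) (hF : Coh.IsQCoh F)
    (F' : (pullback hX b).Modules) (π : (Scheme.Modules.pullback (pullback.fst hX b)).obj F ⟶ F')
    (hπ : BlowUp.IsStrictTransform (pullback.fst hX b) (𝓘.comap hX) F F' π) :
    ∃ π' : (Scheme.Modules.pullback (pullback.fst hY b)).obj ((Scheme.Modules.pushforward g).obj F) ⟶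
        (Scheme.Modules.pushforward (pullback.map hX b hY b g (𝟙 S') (𝟙 S)
          ((Category.comp_id hX).trans h.symm) ((Category.comp_id b).trans (Category.id_comp b).symm))).obj F',
      BlowUp.IsStrictTransform (pullback.fst hY b) (𝓘.comap hY) ((Scheme.Modules.pushforward g).obj F)
        ((Scheme.Modules.pushforward (pullback.map hX b hY b g (𝟙 S') (𝟙 S)
          ((Category.comp_id hX).trans h.symm) ((Category.comp_id b).trans (Category.id_comp b).symm))).obj F') π' := by
  set g' := pullback.map hX b hY b g (𝟙 S') (𝟙 S)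
    ((Category.comp_id hX).trans h.symm) ((Category.comp_id b).trans (Category.id_comp b).symm) with hg'
  have hfst : g' ≫ pullback.fst hY b = pullback.fst hX b ≫ g := pullback.lift_fst _ _ _
  have hsnd : g' ≫ pullback.snd hY b = pullback.snd hX b := (pullback.lift_snd _ _ _).trans (Category.comp_id _)
  have sq : IsPullback (pullback.fst hX b) g' g (pullback.fst hY b) := by
    refine IsPullback.of_bot ?_ hfst.symm (IsPullback.of_hasPullback hY b)
    rw [hsnd, h]
    exact IsPullback.of_hasPullback hX b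
  haveI : IsAffineHom g' := MorphismProperty.of_isPullback (P := @IsAffineHom) sq inferInstance
  exact main (r := pullback.snd hY b) sq 𝓘 hY h pullback.condition hb F hF F' π hπ

end Groth.Agent.S8922
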