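import Groth.Statements.S8926

set_option autoImplicit false
universe u
open InjHull
open scoped TensorProduct

namespace Groth.Agent.S8926

/-- Suppose R → S is an epimorphism of rings and E is an S-module whose underlying R-module (via
restriction of scalars) is injective; then E is injective as an S-module as well. -/
theorem result (R S : Type u) [CommRing R] [CommRing S] [Algebra R S] [Algebra.IsEpi R S] (E : Type u) [AddCommGroup E] [Module S E] [Module R E] [IsScalarTower R S E] [Module.Injective R E] : Module.Injective S E := by
  refine Module.Baer.injective fun J g => ?_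
  obtain ⟨h, hh⟩ := Module.Injective.extension_property R E J S (J.subtype.restrictScalars R)
    Subtype.val_injective (g.restrictScalars R)
  have hlin : ∀ s x : S, h (s * x) = s • h x := by
    intro s x
    have hc : (1 : S) ⊗ₜ[R] s = s ⊗ₜ[R] (1 : S) := Algebra.IsEpi.injective_lift_mul (by simp)
    let B : S →ₗ[R] S →ₗ[R] E := LinearMap.mk₂ R (fun a b => a • h (b * x))
      (fun a a' b => add_smul a a' _) (fun c a b => smul_assoc c a _)
      (fun a b b' => by rw [add_mul, map_add, smul_add])
      (fun c a b => by rw [smul_mul_assoc, map_smul, smul_comm])
    simpa [B] using congrArg (TensorProduct.lift B) hc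
  exact ⟨⟨⟨h, map_add h⟩, fun s x => hlin s x⟩, fun x hx => LinearMap.congr_fun hh ⟨x, hx⟩⟩

end Groth.Agent.S8926
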