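import Groth.Statements.S8927
import Mathlib

set_option autoImplicit false
universe u
open Disc


namespace Groth.Agent.S8927

/-- For a map A → B of Noetherian rings such that the localization B_q is flat over A for every
associated prime q of B, every nonzerodivisor of A maps to a nonzerodivisor of B. -/
theorem result (A B : Type u) [CommRing A] [CommRing B] [IsNoetherianRing A] [IsNoetherianRing B] [Algebra A B] (h3 : ∀ (q : Ideal B) [q.IsPrime], IsAssociatedPrime q B → Module.Flat A (Localization.AtPrime q)) : nonZeroDivisors A ≤ (nonZeroDivisors B).comap (algebraMap A B) := by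
  intro a ha
  refine mem_nonZeroDivisors_iff_right.mpr fun b hb => ?_
  by_contra hne
  have hsp : Nontrivial (Submodule.span B ({b} : Set B)) :=
    ⟨⟨⟨b, Submodule.mem_span_singleton_self b⟩, 0, fun h => hne (congrArg Subtype.val h)⟩⟩
  obtain ⟨q, hq⟩ := associatedPrimes.nonempty B (Submodule.span B ({b} : Set B))
  haveI := hq.isPrime
  have hqB : IsAssociatedPrime q B := hq.map_of_injective (Submodule.span B ({b} : Set B)).subtype Subtype.val_injective
  haveI := h3 q hqB
  have hle : Module.annihilator B (Submodule.span B ({b} : Set B)) ≤ q := by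
    simpa [Submodule.annihilator_top] using hq.annihilator_le
  have hreg : IsSMulRegular (Localization.AtPrime q) (algebraMap A (Localization.AtPrime q) a) :=
    IsSMulRegular.of_flat (fun x y h => by
      simp only [smul_eq_mul, mul_comm a] at h
      have := (mem_nonZeroDivisors_iff_right.mp ha) (x - y) (by rw [sub_mul, h, sub_self])
      exact sub_eq_zero.mp this)
  have h0 : algebraMap B (Localization.AtPrime q) b = 0 := hreg (by
    simp only [smul_eq_mul, mul_zero]
    rw [IsScalarTower.algebraMap_apply A B (Localization.AtPrime q), ← map_mul, mul_comm, hb, map_zero])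
  obtain ⟨t, ht⟩ := (IsLocalization.map_eq_zero_iff q.primeCompl _ b).mp h0
  refine t.2 (hle (Module.mem_annihilator.mpr fun z => ?_))
  obtain ⟨z, hz⟩ := z
  obtain ⟨c, rfl⟩ := Submodule.mem_span_singleton.mp hz
  refine Subtype.ext ?_
  simp only [SetLike.val_smul, smul_eq_mul, ZeroMemClass.coe_zero]
  rw [mul_left_comm, ht, mul_zero]

end Groth.Agent.S8927
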