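import Groth.Statements.S8928
import Groth.Agent.H05EGA4.FlatSk

set_option autoImplicit false
universe u
open scoped TensorProduct
open Disc

open Groth.Agent.H05EGA4 TensorProduct
namespace Groth.Agent.S8928

/-- Let A → B be a map of Noetherian rings such that nonzerodivisors of A map to nonzerodivisors of B
and Q(A) ⊗_A B is flat over the total ring of fractions Q(A). Then B_q is flat over A for every
associated prime q of B and for every prime q of B lying over an associated prime of A. -/
theorem result (A B : Type u) [CommRing A] [CommRing B] [IsNoetherianRing A] [IsNoetherianRing B] [Algebra A B] (h1 : nonZeroDivisors A ≤ (nonZeroDivisors B).comap (algebraMap A B)) (h2 : Module.Flat (FractionRing A) (FractionRing A ⊗[A] B)) : (∀ (q : Ideal B) [q.IsPrime], IsAssociatedPrime q B → Module.Flat A (Localization.AtPrime q)) ∧ (∀ (q : Ideal B) [q.IsPrime], IsAssociatedPrime (q.comap (algebraMap A B)) A → Module.Flat A (Localization.AtPrime q)) := by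
  let Q := FractionRing A
  haveI := h2
  haveI : Module.Flat A Q := IsLocalization.flat Q (nonZeroDivisors A)
  haveI : Module.Flat A (Q ⊗[A] B) := Module.Flat.trans A Q (Q ⊗[A] B)
  haveI : Module.Flat A (B ⊗[A] Q) := Module.Flat.of_linearEquiv (TensorProduct.comm A B Q)
  have key : ∀ (q : Ideal B) [q.IsPrime], (∀ a ∈ nonZeroDivisors A, algebraMap A B a ∉ q) →
      Module.Flat A (Localization.AtPrime q) := by
    intro q _ hq
    let L := Localization.AtPrime q
    have hu : ∀ y : nonZeroDivisors A, IsUnit ((Algebra.ofId A L) y) := fun y => by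
      rw [Algebra.ofId_apply, IsScalarTower.algebraMap_apply A B L]
      exact IsLocalization.map_units L (⟨_, hq y.1 y.2⟩ : q.primeCompl)
    let φ : Q →ₐ[A] L := IsLocalization.liftAlgHom hu
    haveI := FlatSk.flat_tensor_flat (A := A) (B := B) (B ⊗[A] Q) L
    haveI : Module.Flat A (L ⊗[A] Q) :=
      Module.Flat.of_linearEquiv ((AlgebraTensorModule.cancelBaseChange A B L L Q).restrictScalars A).symm
    let μ : L ⊗[A] Q →ₗ[A] L := (LinearMap.mul' A L).comp (φ.toLinearMap.lTensor L)
    let ι : L →ₗ[A] L ⊗[A] Q := (TensorProduct.mk A L Q).flip 1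
    refine Module.Flat.of_retract ι μ (LinearMap.ext fun x => ?_)
    show x * φ 1 = x
    rw [map_one, mul_one]
  refine ⟨fun q _ hq => key q fun a ha hmem => ?_, fun q _ hq => key q fun a ha hmem => ?_⟩
  · have hz := biUnion_associatedPrimes_eq_compl_nonZeroDivisors B
    exact (hz.subset (Set.mem_biUnion hq hmem)) (h1 ha)
  · have hz := biUnion_associatedPrimes_eq_compl_nonZeroDivisors A
    exact (hz.subset (Set.mem_biUnion hq (show a ∈ q.comap (algebraMap A B) from hmem))) ha

end Groth.Agent.S8928
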