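import Groth.Statements.S8929
import Groth.Agent.H05EGA4.FlatSk

set_option autoImplicit false
universe u
open scoped TensorProduct
open Disc

open Groth.Agent.H05EGA4 TensorProduct
namespace Groth.Agent.S8929

/-- Let A → B be a map of Noetherian rings with the going-up property. If B_q is flat over A for every
associated prime q of B and for every prime q of B lying over an associated prime of A, then Q(A)
⊗_A B is flat over the total ring of fractions Q(A). -/
theorem result (A B : Type u) [CommRing A] [CommRing B] [IsNoetherianRing A] [IsNoetherianRing B] [Algebra A B] [Algebra.HasGoingUp A B] (h3 : ∀ (q : Ideal B) [q.IsPrime], IsAssociatedPrime q B → Module.Flat A (Localization.AtPrime q)) (h4 : ∀ (q : Ideal B) [q.IsPrime], IsAssociatedPrime (q.comap (algebraMap A B)) A → Module.Flat A (Localization.AtPrime q)) : Module.Flat (FractionRing A) (FractionRing A ⊗[A] B) := by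
  let Q := FractionRing A
  have key : ∀ (q : Ideal B) [q.IsPrime], (∀ a ∈ nonZeroDivisors A, algebraMap A B a ∉ q) →
      Module.Flat A (Localization.AtPrime q) := by
    intro q _ hq
    have hsub : (q.comap (algebraMap A B) : Set A) ⊆ ⋃ P ∈ associatedPrimes A A, (P : Set A) := by
      intro a ha
      rw [biUnion_associatedPrimes_eq_compl_nonZeroDivisors]
      exact fun h => hq a h ha
    obtain ⟨P, hP, hle⟩ := (Ideal.subset_union_prime_finite (associatedPrimes.finite A A) ⊥ ⊥
      fun P hP _ _ => hP.isPrime).mp hsub
    haveI := hP.isPrime
    haveI : q.LiesOver (q.comap (algebraMap A B)) := ⟨rfl⟩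
    obtain ⟨q', hqq', hq'p, hover⟩ := Ideal.exists_ideal_ge_liesOver_of_le (P := q) hle
    haveI := hq'p
    haveI := hover
    haveI := h4 q' (by rw [show q'.comap (algebraMap A B) = P from hover.over.symm]; exact hP)
    let L' := Localization.AtPrime q'
    let L := Localization.AtPrime q
    letI : Algebra L' L := IsLocalization.localizationAlgebraOfSubmonoidLe L' L q'.primeCompl q.primeCompl (fun x hx hxq => hx (hqq' hxq))
    haveI : IsScalarTower B L' L := IsLocalization.localization_isScalarTower_of_submonoid_le L' L q'.primeCompl q.primeCompl (fun x hx hxq => hx (hqq' hxq))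
    haveI : IsScalarTower A L' L := IsScalarTower.of_algebraMap_eq fun x => by
      rw [IsScalarTower.algebraMap_apply A B L, IsScalarTower.algebraMap_apply A B L',
        ← IsScalarTower.algebraMap_apply B L' L]
    haveI : IsLocalization (q.primeCompl.map (algebraMap B L')) L :=
      IsLocalization.isLocalization_of_submonoid_le L' L q'.primeCompl q.primeCompl (fun x hx hxq => hx (hqq' hxq))
    haveI : Module.Flat L' L := IsLocalization.flat L (q.primeCompl.map (algebraMap B L'))
    exact Module.Flat.trans A L' L
  letI : Algebra B (Q ⊗[A] B) := Algebra.TensorProduct.rightAlgebra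
  haveI : IsLocalization (Algebra.algebraMapSubmonoid B (nonZeroDivisors A)) (Q ⊗[A] B) :=
    IsLocalization.tensorRight Q (nonZeroDivisors A)
  let C := Q ⊗[A] B
  haveI : Module.Flat A C := by
    refine Module.flat_of_isLocalized_maximal (R := A) (S := C) (M := C)
      (fun P _ => Localization.AtPrime P) (fun P _ => Algebra.linearMap C (Localization.AtPrime P)) fun P _ => ?_
    let q := P.comap (algebraMap B C)
    haveI := IsLocalization.isLocalization_isLocalization_atPrime_isLocalization
      (Algebra.algebraMapSubmonoid B (nonZeroDivisors A)) (Localization.AtPrime P) P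
    haveI := key q fun a ha hmem => Ideal.IsPrime.ne_top inferInstance
      (Ideal.eq_top_of_isUnit_mem P hmem (IsLocalization.map_units C
        (⟨algebraMap A B a, Algebra.mem_algebraMapSubmonoid_of_mem ⟨a, ha⟩⟩ : Algebra.algebraMapSubmonoid B (nonZeroDivisors A))))
    exact Module.Flat.of_linearEquiv ((IsLocalization.algEquiv q.primeCompl (Localization.AtPrime q)
      (Localization.AtPrime P)).restrictScalars A).toLinearEquiv.symm
  exact (Module.flat_iff_of_isLocalization Q (nonZeroDivisors A) C).mpr inferInstance

end Groth.Agent.S8929
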