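import Groth.Statements.S8930
import Groth.Agent.H05EGA4.QFDominate

set_option autoImplicit false
universe u
open AlgebraicGeometry
open Disc

namespace Groth.Agent.S8930

/-- Given two factorizations A → B' → B and A → B'' → B of a ring map with A → B' and A → B'' finite and
Spec(B) → Spec(B'), Spec(B) → Spec(B'') open immersions, there is an A-subalgebra C of B which is
finite over A, contains the images of B' and B'', and is such that Spec(B) → Spec(C) is an open
immersion. (Such an A → B is quasi-finite; that hypothesis of the published statement is implied by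
the factorizations and is not repeated.) -/
theorem result (A B B' B'' : Type u) [CommRing A] [CommRing B] [CommRing B'] [CommRing B''] [Algebra A B] [Algebra A B'] [Algebra A B''] [Algebra B' B] [Algebra B'' B] [IsScalarTower A B' B] [IsScalarTower A B'' B] [Module.Finite A B'] [Module.Finite A B''] (h' : IsOpenImmersion (Spec.map (CommRingCat.ofHom (algebraMap B' B)))) (h'' : IsOpenImmersion (Spec.map (CommRingCat.ofHom (algebraMap B'' B)))) : ∃ C : Subalgebra A B, Module.Finite A C ∧ Set.range (algebraMap B' B) ⊆ (C : Set B) ∧ Set.range (algebraMap B'' B) ⊆ (C : Set B) ∧ IsOpenImmersion (Spec.map (CommRingCat.ofHom C.val.toRingHom)) := by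
  let l := Algebra.TensorProduct.lift (IsScalarTower.toAlgHom A B' B) (IsScalarTower.toAlgHom A B'' B) fun _ _ => Commute.all _ _
  have h1 : Set.range (algebraMap B' B) ⊆ (l.range : Set B) := by
    rintro _ ⟨x, rfl⟩
    exact ⟨TensorProduct.tmul A x 1, by simp [l]⟩
  refine ⟨l.range, Module.Finite.of_surjective l.rangeRestrict.toLinearMap l.rangeRestrict_surjective, h1, ?_,
    Groth.Agent.H05EGA4.QFDominate.isOpenImmersion_subalgebra h' _ h1⟩
  rintro _ ⟨x, rfl⟩
  exact ⟨TensorProduct.tmul A 1 x, by simp [l]⟩

end Groth.Agent.S8930
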