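import Groth.Statements.S8932
import Groth.Agent.H4DR.Dualizing.GorensteinFibre
import Groth.Agent.H02CA.GorRing

set_option autoImplicit false
universe u
open CategoryTheory
open scoped TensorProduct
attribute [local instance] HasDerivedCategory.standard
open Dual

namespace Groth.Agent.S8932

/-- For a field extension K/k, a finite type k-algebra A and a dualizing complex ω for A, the derived
base change of ω along A → K ⊗_k A is a dualizing complex for K ⊗_k A (the derived base change
functor being assumed to exist). -/
theorem result (k K : Type u) [Field k] [Field K] [Algebra k K] (A : Type u) [CommRing A] [Algebra k A] [Algebra.FiniteType k A] [DRing.HasLBaseChange (Algebra.TensorProduct.includeRight : A →ₐ[k] K ⊗[k] A).toRingHom] (ω : Dual.D A) (hω : Dual.IsDualizing A ω) : Dual.IsDualizing (K ⊗[k] A) ((DRing.LBaseChange (Algebra.TensorProduct.includeRight : A →ₐ[k] K ⊗[k] A).toRingHom).obj ω) := by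
  classical
  let inc : A →+* K ⊗[k] A := (Algebra.TensorProduct.includeRight : A →ₐ[k] K ⊗[k] A).toRingHom
  letI : Algebra A (K ⊗[k] A) := inc.toAlgebra
  haveI : IsNoetherianRing A := hω.isNoetherianRing
  haveI : IsNoetherianRing (K ⊗[k] A) := Algebra.FiniteType.isNoetherianRing K (K ⊗[k] A)
  let e : A ⊗[k] K ≃ₐ[A] K ⊗[k] A := AlgEquiv.ofRingEquiv (f := (Algebra.TensorProduct.comm k A K).toRingEquiv)
    fun a => by simp [inc, RingHom.algebraMap_toAlgebra, Algebra.TensorProduct.algebraMap_apply]
  haveI : Module.Flat A (K ⊗[k] A) := Module.Flat.of_linearEquiv e.toLinearEquiv.symm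
  have hdim : ringKrullDim (K ⊗[k] A) < ⊤ :=
    H4DR.Dualizing.ringKrullDim_lt_top_of_finiteType (A := K) (by
      rw [ringKrullDim_eq_zero_of_field]; exact WithBot.coe_lt_coe.2 (ENat.natCast_lt_top 0))
  refine H4DR.Dualizing.isDualizing_of_iso (H4DR.FlatBC.lbaseIso ω).symm
    (H4DR.Dualizing.isDualizing_FD_of_fibres hω hdim fun p => ?_)
  haveI : Algebra.EssFiniteType k p.asIdeal.ResidueField := Algebra.EssFiniteType.comp k A _
  exact H02CA.GorFlat.isGorensteinRing_of_ringEquiv
    ((Algebra.TensorProduct.cancelBaseChange k A A p.asIdeal.ResidueField K).toRingEquiv.symm.trans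
      (Algebra.TensorProduct.congr (AlgEquiv.refl (R := A) (A₁ := p.asIdeal.ResidueField)) e).toRingEquiv)
    (H02CA.GorFlat.isGorensteinRing_of_ringEquiv (Algebra.TensorProduct.comm k K p.asIdeal.ResidueField).toRingEquiv
      (H02CA.GorFlat.isGorensteinRing_field_tensor k K p.asIdeal.ResidueField
        (IntermediateField.fg_top_iff.mpr inferInstance)))

end Groth.Agent.S8932
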