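import Groth.Statements.S8935
import Groth.Agent.H05EGA4.DiscJac

set_option autoImplicit false
universe u
open Disc

namespace Groth.Agent.S8935

/-- Let k be a field and B = k[x_1, …, x_n]/(f_1, …, f_n), a global complete intersection with as many
equations as variables, of Krull dimension 0. Then ω_{B/k} = Hom_k(B, k), with B acting through the
argument, is an invertible B-module; since B is Artinian this means it is free of rank one, which is
the form stated. -/
theorem result (k : Type u) [Field k] (n : ℕ) (f : Fin n → MvPolynomial (Fin n) k) (h0 : ringKrullDim (MvPolynomial (Fin n) k ⧸ Ideal.span (Set.range f)) = 0) : Nonempty (Disc.Omega k (MvPolynomial (Fin n) k ⧸ Ideal.span (Set.range f)) ≃ₗ[MvPolynomial (Fin n) k ⧸ Ideal.span (Set.range f)] (MvPolynomial (Fin n) k ⧸ Ideal.span (Set.range f))) := by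
  haveI : Ring.KrullDimLE 0 (MvPolynomial (Fin n) k ⧸ (Ideal.span (Set.range f))) :=
    Ring.krullDimLE_iff.mpr h0.le
  haveI : IsArtinianRing (MvPolynomial (Fin n) k ⧸ (Ideal.span (Set.range f))) := isArtinianRing_iff_krullDimLE_zero.mpr inferInstance
  haveI : Module.Finite k (MvPolynomial (Fin n) k ⧸ (Ideal.span (Set.range f))) := (Module.finite_iff_isArtinianRing (R := k) (A := MvPolynomial (Fin n) k ⧸ Ideal.span (Set.range f))).mpr inferInstance
  obtain ⟨e, -⟩ := Groth.Agent.H05EGA4.DiscJac.exists_equiv (Ideal.Quotient.mkₐ k (Ideal.span (Set.range f))) Ideal.Quotient.mk_surjective f (Ideal.mk_ker)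
  exact ⟨e.symm⟩

end Groth.Agent.S8935
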