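import Groth.Statements.S8936
import Groth.Agent.H4Inj.Essential

set_option autoImplicit false
universe u v
open InjHull

namespace Groth.Agent.S8936

/-- For a directed system (E_i) of R-modules over a nonempty directed preorder and a compatible family
of essential injections M → E_i, the induced map from M to the direct limit of the E_i is an
essential injection. -/
theorem result (R : Type u) [CommRing R] (ι : Type v) [Preorder ι] [IsDirectedOrder ι] [DecidableEq ι] (i₀ : ι) (E : ι → Type v) [∀ i, AddCommGroup (E i)] [∀ i, Module R (E i)] (f : ∀ i j, i ≤ j → E i →ₗ[R] E j) [DirectedSystem E fun i j h => f i j h] (M : Type v) [AddCommGroup M] [Module R M] (g : ∀ i, M →ₗ[R] E i) (hg : ∀ i j (h : i ≤ j), f i j h ∘ₗ g i = g j) (he : ∀ i, InjHull.IsEssentialInj (g i)) : InjHull.IsEssentialInj (Module.DirectLimit.of R ι E f i₀ ∘ₗ g i₀) := by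
  refine H4Inj.isEssentialInj_of_forall ?_ fun x hx => ?_
  · rw [injective_iff_map_eq_zero]
    intro m hm
    obtain ⟨j, hj, h0⟩ := Module.DirectLimit.of.zero_exact hm
    rw [← LinearMap.comp_apply, hg] at h0
    exact (map_eq_zero_iff _ (he j).injective).mp h0
  · have : Nonempty ι := ⟨i₀⟩
    obtain ⟨j, y, rfl⟩ := Module.DirectLimit.exists_of x
    obtain ⟨k, hik, hjk⟩ := exists_ge_ge i₀ j
    rw [← Module.DirectLimit.of_f (hij := hjk)] at hx ⊢
    obtain ⟨r, ⟨m, hm⟩, hr0⟩ := H4Inj.exists_smul_mem_range (he k) (x := f j k hjk y)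
      (fun h => hx (by rw [h, map_zero]))
    refine ⟨r, ⟨m, ?_⟩, fun h => hr0 ?_⟩
    · rw [← map_smul, ← hm, ← hg i₀ k hik, LinearMap.comp_apply, LinearMap.comp_apply,
        Module.DirectLimit.of_f]
    · rw [← map_smul, ← hm] at h
      obtain ⟨l, hl, h0⟩ := Module.DirectLimit.of.zero_exact h
      rw [← LinearMap.comp_apply, hg] at h0
      rw [← hm, (map_eq_zero_iff _ (he l).injective).mp h0, map_zero]

end Groth.Agent.S8936
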