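import Groth.Statements.S8937
import Groth.Agent.S0356
import Groth.Agent.H7Flat.CohDim.Fibre
import Groth.Agent.H11Strict.ClosedImm
import Groth.Agent.H17.LocImmBlow.Core
import Groth.Agent.H10Coh.PushEdge

set_option autoImplicit false
set_option synthInstance.maxHeartbeats 400000
set_option maxHeartbeats 1000000
set_option linter.style.haveILetI false
universe u
open TopologicalSpace CategoryTheory AlgebraicGeometry
attribute [local instance] HasDerivedCategory.standard
open LocCoh

namespace Groth.Agent.S8937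

/-- Let A be a Noetherian ring, I an ideal and b : X → Spec A a blowing up of Spec A in I. If the fibres
of b have dimension at most d, then cd(A, I) ≤ d + 1, i.e. H^i_I(M) = 0 for all A-modules M and all
i > d + 1. -/
theorem result (A : Type u) [CommRing A] [IsNoetherianRing A] (I : Ideal A) (X : Scheme.{u}) (b : X ⟶ Spec (CommRingCat.of A)) (hb : BlowUp.IsBlowUp b (Curv2.idealSheaf A I)) (d : ℕ) (hd : Dual3.FibreDimLE b d) : LocCoh.CdLE A I (d + 1) := by
  intro M _ _ i hi
  obtain ⟨p, rfl⟩ : ∃ p, i = p + 1 := ⟨i - 1, by omega⟩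
  obtain ⟨e⟩ := S0356.result A I M p (by omega)
  suffices h : Subsingleton (Coh.HH (↑(LocCoh.puncturedOpen A I))
      ((AlgebraicGeometry.tilde (R := CommRingCat.of A) (ModuleCat.of A M)).restrict (LocCoh.puncturedOpen A I).ι) p) from
    e.symm.toEquiv.subsingleton
  let S := Spec (CommRingCat.of A)
  let U : S.Opens := LocCoh.puncturedOpen A I
  have hsupp : (Curv2.idealSheaf A I).support.compl = U := by
    refine Opens.ext (Set.ext fun x => ?_)
    show x ∉ (Curv2.idealSheaf A I).support ↔ _
    rw [← SetLike.mem_coe, Curv2.idealSheaf, Scheme.IdealSheafData.coe_support_ofIdealTop, Spec_zeroLocus, ← Ideal.coe_comap]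
    erw [Ideal.comap_map_of_bijective]
    · exact Iff.rfl
    · exact ConcreteCategory.bijective_of_isIso _
  haveI : IsProper b := H17.LocImmBlow.isProper hb
  have hU : ∀ z : U, U.ι z ∉ (Curv2.idealSheaf A I).support := fun z => by
    have hz : z.1 ∈ (Curv2.idealSheaf A I).support.compl := by rw [hsupp]; exact z.2
    exact hz
  obtain ⟨s, hs, -⟩ := H17.LocImmBlow.exists_lift hb U.ι hU
  let V : X.Opens := ((Curv2.idealSheaf A I).comap b).support.compl
  have hV : V = b ⁻¹ᵁ U := by
    rw [← hsupp]
    refine Opens.ext (Set.ext fun x => ?_)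
    show x ∉ ((Curv2.idealSheaf A I).comap b).support ↔ b x ∉ (Curv2.idealSheaf A I).support
    rw [Scheme.IdealSheafData.support_comap]
    rfl
  let S' : U.toScheme ⟶ V.toScheme := IsOpenImmersion.lift V.ι s (by
    rintro _ ⟨z, rfl⟩
    rw [Scheme.Opens.range_ι, hV]
    show b (s z) ∈ U
    rw [show b (s z) = U.ι z from congrArg (fun φ => φ z) hs]
    exact z.2)
  have hS' : S' ≫ V.ι = s := IsOpenImmersion.lift_fac _ _ _
  let T : V.toScheme ⟶ U.toScheme := IsOpenImmersion.lift U.ι (V.ι ≫ b) (by
    rintro _ ⟨z, rfl⟩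
    rw [Scheme.Opens.range_ι]
    exact (show z.1 ∈ b ⁻¹ᵁ U from hV ▸ z.2))
  have hT : T ≫ U.ι = V.ι ≫ b := IsOpenImmersion.lift_fac _ _ _
  haveI : IsAffineHom V.ι := H11Strict.isAffineHom_compl hb.1
  let e : U.toScheme ≅ V.toScheme :=
    { hom := S'
      inv := T
      hom_inv_id := by rw [← cancel_mono U.ι, Category.assoc, hT, ← Category.assoc, hS', hs, Category.id_comp]
      inv_hom_id := by
        rw [← cancel_mono V.ι, Category.assoc, hS', Category.id_comp]
        refine H17.LocImmBlow.lift_unique hb (by rw [Category.assoc, hs, hT]) fun z => ?_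
        have hz : z.1 ∈ b ⁻¹ᵁ U := hV.le z.2
        exact hU ⟨b z.1, hz⟩ }
  haveI : IsAffineHom s := by
    rw [← hS']
    haveI : IsIso S' := e.isIso_hom
    infer_instance
  haveI := H10Coh.enoughInjMod U.toScheme
  let G := (AlgebraicGeometry.tilde (R := CommRingCat.of A) (ModuleCat.of A M)).restrict U.ι
  haveI : G.IsQuasicoherent := inferInstance
  haveI : Coh.IsQCoh ((Scheme.Modules.pushforward s).obj G) := H10Coh.isQuasicoherent_pushforward_of_isAffineHom s G
  haveI := H7Flat.CohDim.subsingleton_HH b d hd ((Scheme.Modules.pushforward s).obj G) p (by omega)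
  exact (Equiv.ofBijective _ (H10Coh.bijective_pushEdge s G (H10Coh.isAcyclic_push_of_isAffineHom s G) p)).symm.subsingleton

end Groth.Agent.S8937
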