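import Groth.Statements.S8942
import Groth.Agent.LeadBrown.Support
import Groth.Agent.H16Derived.Exchange.ProperPerf

set_option autoImplicit false
set_option linter.style.haveILetI false
universe u
open CategoryTheory CategoryTheory.Limits AlgebraicGeometry
attribute [local instance] HasDerivedCategory.standard
open Dual3

namespace Groth.Agent.S8942

/-- Suppose X and Y are Noetherian schemes and f : X → Y is a morphism that is both proper and perfect,
and a a right adjoint of Rf_* on D_QCoh (Rf_* assumed to exist and to preserve quasi-coherent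
cohomology). If Q in D_QCoh(O_Y) is supported on a closed subset T (all cohomology sheaves vanish on
the open complement V), then a(Q) is supported on f⁻¹(T). -/
theorem result (X Y : Scheme.{u}) [IsNoetherian X] [IsNoetherian Y] (f : X ⟶ Y) [IsProper f] (hperf : MoreMor.IsPerfectMor f) [DCoh.HasRpush f] (hf : DCoh.RpushPreservesQCoh f) (a : DCoh.DQCoh Y ⥤ DCoh.DQCoh X) (adj : DCoh.RpushQ f hf ⊣ a) (V : Y.Opens) (Q : DCoh.DQCoh Y) (hQV : ∀ i : ℤ, IsZero ((DCoh.HD Q.obj i).restrict V.ι)) (i : ℤ) : IsZero ((DCoh.HD (a.obj Q).obj i).restrict (f ⁻¹ᵁ V).ι) := by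
  haveI : QuasiCompact f := inferInstance
  refine LeadBrown.isZero_restrict_of_suppIn (f ⁻¹ᵁ V) _ ?_ i
  exact LeadBrown.suppIn_obj adj (fun _ => True)
    (fun Q _ => LeadBrown.copCopies_of_perfect adj (fun E hE => Groth.Agent.H16Derived.Exchange.isPerfect_rpush_of_perfectMor f hperf hE) Q)
    (fun _ _ _ _ _ _ _ => trivial) (fun _ _ _ _ _ _ _ _ _ => trivial) Q trivial
    V.isOpen.isClosed_compl (LeadBrown.suppIn_compl_of_restrict V _ hQV)

end Groth.Agent.S8942
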