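import Groth.Statements.S8944
import Groth.Agent.H05EGA4.QFApply

set_option autoImplicit false
universe u
open AlgebraicGeometry
open scoped TensorProduct
open Disc

namespace Groth.Agent.S8944

/-- Let A → B be a flat homomorphism of Noetherian rings, and suppose it factors through a ring B′ as A
→ B′ → B, where B′ is finite over A and the induced map of spectra Spec(B) → Spec(B′) is an open
immersion, so that the relative dualizing module is ω_{B/A} = Hom_A(B′, A) ⊗_{B′} B (B′ acting on
Hom_A(B′, A) through the argument). Then ω_{B/A} is a flat A-module. -/
theorem result (A B B' : Type u) [CommRing A] [CommRing B] [CommRing B'] [IsNoetherianRing A] [IsNoetherianRing B] [Algebra A B] [Module.Flat A B] [Algebra A B'] [Algebra B' B] [IsScalarTower A B' B] [Module.Finite A B'] (hopen : IsOpenImmersion (Spec.map (CommRingCat.ofHom (algebraMap B' B)))) : Module.Flat A (B ⊗[B'] Disc.Omega A B') := by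
  exact Groth.Agent.H05EGA4.QFApply.flat_omega ⟨inferInstance, hopen⟩

end Groth.Agent.S8944
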