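import Groth.Statements.S8949
import Groth.Agent.H02CA.GorRing
import Groth.Agent.H02CA.GeomRegularFields
import Mathlib

set_option autoImplicit false
universe u
open scoped TensorProduct
open Goren

namespace Groth.Agent.S8949

/-- Gorenstein fibres are preserved by composing with a regular map. For flat maps A → B → C of
Noetherian rings, if the fibres of A → B are Gorenstein rings and B → C is regular, then the fibres
of A → C are Gorenstein rings. -/
theorem result (A B C : Type u) [CommRing A] [CommRing B] [CommRing C] [IsNoetherianRing A] [IsNoetherianRing B] [IsNoetherianRing C] [Algebra A B] [Algebra B C] [Algebra A C] [IsScalarTower A B C] [Module.Flat A B] [Module.Flat B C] (hAB : ∀ (q : Ideal A) [q.IsPrime], LocCoh.IsGorensteinRing (q.Fiber B)) (hBC : CAlg.IsRegularHom B C) : ∀ (q : Ideal A) [q.IsPrime], LocCoh.IsGorensteinRing (q.Fiber C) := by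
  intro q _
  haveI : Module.Flat A C := Module.Flat.trans A B C
  let S := B ⊗[A] q.ResidueField
  haveI : Algebra.EssFiniteType B S := inferInstance
  haveI : IsNoetherianRing S := Algebra.EssFiniteType.isNoetherianRing B S
  haveI : LocCoh.IsGorensteinRing S := Groth.Agent.H02CA.GorFlat.isGorensteinRing_of_ringEquiv
    (Algebra.TensorProduct.comm A q.ResidueField B).toRingEquiv (hAB q)
  let e : S ⊗[B] C ≃+* q.Fiber C :=
    ((Algebra.TensorProduct.comm B S C).toRingEquiv.trans
      (Algebra.TensorProduct.cancelBaseChange A B B C q.ResidueField).toRingEquiv).trans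
      (Algebra.TensorProduct.comm A C q.ResidueField).toRingEquiv
  haveI : IsNoetherianRing (q.Fiber C) :=
    Groth.Agent.H02CA.isNoetherianRing_tensor_of_essFiniteType A C q.ResidueField
  haveI : IsNoetherianRing (S ⊗[B] C) := isNoetherianRing_of_ringEquiv _ e.symm
  refine Groth.Agent.H02CA.GorFlat.isGorensteinRing_of_ringEquiv e
    (Groth.Agent.H02CA.GorFlat.isGorensteinRing_of_flat (A := S) fun s _ => ?_)
  haveI : Algebra.EssFiniteType B s.ResidueField := Algebra.EssFiniteType.comp B S s.ResidueField
  haveI := (Groth.Agent.H02CA.GeomRegularFields.isRegularRing_tensor_of_essFiniteType hBC s.ResidueField).1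
  exact Groth.Agent.H02CA.GorFlat.isGorensteinRing_of_ringEquiv
    (Algebra.TensorProduct.cancelBaseChange B S S s.ResidueField C).toRingEquiv.symm
    (Groth.Agent.H02CA.GorFlat.isGorensteinRing_of_isRegularRing _)

end Groth.Agent.S8949
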