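import Groth.Statements.S8950
import Groth.Agent.H13CI.FieldExt

set_option autoImplicit false
universe u
open scoped TensorProduct
open CInt

namespace Groth.Agent.S8950

/-- Base change of the local complete intersection property along finitely generated field extensions.
Suppose R is a Noetherian k-algebra, k a field, with every local ring of R a complete intersection,
and suppose K is finitely generated as a field over k; then the tensor product K ⊗_k R is again a
Noetherian ring, and every localization of it at a prime is a complete intersection. -/
theorem result (k K R : Type u) [Field k] [Field K] [Algebra k K] (hK : ∃ s : Finset K, IntermediateField.adjoin k (s : Set K) = ⊤) [CommRing R] [Algebra k R] [IsNoetherianRing R] (hR : ∀ (p : Ideal R) [p.IsPrime], Pi1.IsCompleteIntersection (Localization.AtPrime p)) : IsNoetherianRing (K ⊗[k] R) ∧ ∀ (P : Ideal (K ⊗[k] R)) [P.IsPrime], Pi1.IsCompleteIntersection (Localization.AtPrime P) := by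
  haveI : Algebra.EssFiniteType k K := IntermediateField.fg_top_iff.mp hK
  exact ⟨Groth.Agent.H02CA.isNoetherianRing_tensor_of_essFiniteType k R K,
    fun P _ => Groth.Agent.H13CI.isCI_tensor_essFiniteType hR P⟩

end Groth.Agent.S8950
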