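import Groth.Statements.S8951
import Groth.Agent.H13CI.RegularFibre
import Groth.Agent.H13CI.FieldExt
import Groth.Agent.H02CA.GeomRegularFields

set_option autoImplicit false
universe u
open scoped TensorProduct
open CInt

namespace Groth.Agent.S8951


set_option backward.isDefEq.respectTransparency false
open TensorProduct


/-- Complete intersection fibres are preserved by composing with a regular map. For flat maps A → B → C
of Noetherian rings, if all local rings of the fibres of A → B are complete intersections and B → C
is regular, then all local rings of the fibres of A → C are complete intersections. -/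
theorem result (A B C : Type u) [CommRing A] [CommRing B] [CommRing C] [IsNoetherianRing A] [IsNoetherianRing B] [IsNoetherianRing C] [Algebra A B] [Algebra B C] [Algebra A C] [IsScalarTower A B C] [Module.Flat A B] [Module.Flat B C] (hAB : ∀ (q : Ideal A) [q.IsPrime] (P : Ideal (q.Fiber B)) [P.IsPrime], Pi1.IsCompleteIntersection (Localization.AtPrime P)) (hBC : CAlg.IsRegularHom B C) : ∀ (q : Ideal A) [q.IsPrime] (P : Ideal (q.Fiber C)) [P.IsPrime], Pi1.IsCompleteIntersection (Localization.AtPrime P) := by
  intro q _ P _
  have : Module.Flat A C := Module.Flat.trans A B C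
  let S := B ⊗[A] q.ResidueField
  let T := S ⊗[B] C
  have : Algebra.EssFiniteType B S := inferInstance
  have : IsNoetherianRing S := Algebra.EssFiniteType.isNoetherianRing B S
  let e : T ≃+* q.Fiber C :=
    ((Algebra.TensorProduct.comm B S C).toRingEquiv.trans
      (Algebra.TensorProduct.cancelBaseChange A B B C q.ResidueField).toRingEquiv).trans
      (Algebra.TensorProduct.comm A C q.ResidueField).toRingEquiv
  have : IsNoetherianRing (q.Fiber C) :=
    Groth.Agent.H02CA.isNoetherianRing_tensor_of_essFiniteType A C q.ResidueField
  have : IsNoetherianRing T := isNoetherianRing_of_ringEquiv _ e.symm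
  let eS : q.Fiber B ≃+* S := (Algebra.TensorProduct.comm A q.ResidueField B).toRingEquiv
  have : IsNoetherianRing (q.Fiber B) := isNoetherianRing_of_ringEquiv _ eS.symm
  have hS : ∀ (p : Ideal S) [p.IsPrime], Pi1.IsCompleteIntersection (Localization.AtPrime p) := by
    intro p _
    have := hAB q (p.comap eS)
    exact (H13CI.isCI_localization_congr eS p).mp this
  have hT : ∀ (p : Ideal T) [p.IsPrime], Pi1.IsCompleteIntersection (Localization.AtPrime p) := by
    intro p _
    refine H13CI.isCI_localization_of_regular_fibres hS (fun s _ => ?_) p
    have : Algebra.EssFiniteType B s.ResidueField := Algebra.EssFiniteType.comp B S s.ResidueField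
    have := (Groth.Agent.H02CA.GeomRegularFields.isRegularRing_tensor_of_essFiniteType hBC s.ResidueField).1
    exact IsRegularRing.of_ringEquiv
      (Algebra.TensorProduct.cancelBaseChange B S S s.ResidueField C).toRingEquiv.symm
  exact (H13CI.isCI_localization_congr e P).mp (hT (P.comap e))

end Groth.Agent.S8951
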