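import Groth.Statements.S8952
import Groth.Agent.LeadBrown.OXShift
import Groth.Agent.LeadBrown.Adjoint
import Groth.Agent.S1811
import Groth.Agent.S3620
import Groth.Agent.S0342
import Groth.Agent.S18999

set_option autoImplicit false
universe u
open CategoryTheory CategoryTheory.Limits AlgebraicGeometry
attribute [local instance] HasDerivedCategory.standard
open Dual3

namespace Groth.Agent.S8952

/-- Let X be proper over a field k with structure morphism f factoring as f′ : X → Spec(k′) followed by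
Spec(k′) → Spec(k) for a field extension k′ of k. With a and a′ right adjoints of Rf_* and Rf′_* on
D_QCoh (assumed to exist and to preserve quasi-coherent cohomology) and O, O′ the structure sheaves
of Spec(k), Spec(k′) placed in degree 0, the objects a(O) and a′(O′) of D(O_X) are isomorphic: the
dualizing complex of X computed over k agrees with the one computed over k′. -/
theorem result (k k' : Type u) [Field k] [Field k'] [Algebra k k'] (X : Scheme.{u}) (f : X ⟶ Spec (CommRingCat.of k)) [IsProper f] (f' : X ⟶ Spec (CommRingCat.of k')) (hff' : f' ≫ Spec.map (CommRingCat.ofHom (algebraMap k k')) = f) [DCoh.HasRpush f] (hf : DCoh.RpushPreservesQCoh f) (a : DCoh.DQCoh (Spec (CommRingCat.of k)) ⥤ DCoh.DQCoh X) (adj : DCoh.RpushQ f hf ⊣ a) [DCoh.HasRpush f'] (hf' : DCoh.RpushPreservesQCoh f') (a' : DCoh.DQCoh (Spec (CommRingCat.of k')) ⥤ DCoh.DQCoh X) (adj' : DCoh.RpushQ f' hf' ⊣ a') (O : DCoh.DQCoh (Spec (CommRingCat.of k))) (hO : Nonempty (O.obj ≅ DCoh.inD (Spec (CommRingCat.of k)) (Coh.structureModule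 (Spec (CommRingCat.of k))))) (O' : DCoh.DQCoh (Spec (CommRingCat.of k'))) (hO' : Nonempty (O'.obj ≅ DCoh.inD (Spec (CommRingCat.of k')) (Coh.structureModule (Spec (CommRingCat.of k'))))) : Nonempty ((a.obj O).obj ≅ (a'.obj O').obj) := by
  haveI : ∀ (U V : Scheme.{u}) (j : U ⟶ V) [IsOpenImmersion j],
      PreservesFiniteLimits (Scheme.Modules.restrictFunctor j) := fun U V j _ => inferInstance
  haveI : ∀ R : CommRingCat.{u}, PreservesFiniteLimits (tilde.functor R) := fun R =>
    H16Derived.QCohD.preservesFiniteLimits_tilde_of _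
  rcases isEmpty_or_nonempty X with hX | hX
  · exact ⟨IsZero.iso (H16Derived.Thomason.isZero_of_suppIn_empty fun i x _ => isEmptyElim x)
      (H16Derived.Thomason.isZero_of_suppIn_empty fun i x _ => isEmptyElim x)⟩
  · let S := Spec (CommRingCat.of k)
    let S' := Spec (CommRingCat.of k')
    let g : S' ⟶ S := Spec.map (CommRingCat.ofHom (algebraMap k k'))
    have hfin : (algebraMap k k').Finite := by
      obtain ⟨x⟩ := hX
      obtain ⟨U, hU, hxU, -⟩ := exists_isAffineOpen_mem_and_subset (x := x) (U := (⊤ : X.Opens)) trivial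
      let φ : CommRingCat.of k' ⟶ Γ(X, U) := Spec.preimage (hU.fromSpec ≫ f')
      let ψ : CommRingCat.of k ⟶ Γ(X, U) := CommRingCat.ofHom (algebraMap k k') ≫ φ
      haveI : LocallyOfFiniteType (Spec.map ψ) := by
        have h : Spec.map ψ = hU.fromSpec ≫ f := by
          rw [Spec.map_comp, Spec.map_preimage, Category.assoc, hff']
        rw [h]; infer_instance
      have hψ : ψ.hom.FiniteType := (HasRingHomProperty.Spec_iff (P := @LocallyOfFiniteType)).1 ‹_›
      haveI : Nontrivial Γ(X, U) := ⟨0, 1, fun h => by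
        have := congrArg (X.presheaf.germ U x hxU) h
        rw [map_zero, map_one] at this
        exact zero_ne_one this⟩
      letI := φ.hom.toAlgebra
      letI := ψ.hom.toAlgebra
      haveI : IsScalarTower k k' Γ(X, U) := IsScalarTower.of_algebraMap_eq fun _ => rfl
      haveI : Algebra.FiniteType k Γ(X, U) := hψ
      exact RingHom.finite_algebraMap.2
        (finite_of_algHom_finiteType_of_isJacobsonRing (IsScalarTower.toAlgHom k k' Γ(X, U)))
    haveI : IsFinite g := (IsFinite.SpecMap_iff _).2 hfin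
    haveI := H16Derived.QCohD.hasRpush g
    have hg : DCoh.RpushPreservesQCoh g := fun K hK => H16Derived.QCohD.isQCohD_rpush g hK
    haveI := LeadBrown.isLeftAdjoint_rpushQ g hg
    let ag := (DCoh.RpushQ g hg).rightAdjoint
    have adjg : DCoh.RpushQ g hg ⊣ ag := Adjunction.ofIsLeftAdjoint _
    haveI : IsProper (f' ≫ g) := hff'.symm ▸ ‹IsProper f›
    haveI : IsProper f' := IsProper.of_comp f' g
    subst hff'
    obtain ⟨ec⟩ := LeadBrown.nonempty_rightAdjoint_comp f' g hf' hg hf adj' adjg adj
    letI : S'.Over S := ⟨g⟩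
    haveI : IsProper (S' ↘ S) := inferInstanceAs (IsProper g)
    have hd : topologicalKrullDim S' = ((0 : ℕ) : WithBot ℕ∞) := by
      show topologicalKrullDim (PrimeSpectrum k') = _
      rw [PrimeSpectrum.topologicalKrullDim_eq_ringKrullDim, ringKrullDim_eq_zero_of_field]; rfl
    obtain ⟨hdual, hamp, -⟩ := S1811.result k S' 0 hd g rfl hg ag adjg O hO
    have hG : Dual3.IsGorenstein S' := ⟨inferInstance, fun s => by
      haveI := H19Grp.isRegularLocalRing_stalk_of_smooth (k := k') (𝟙 S') s
      exact S0342.result _⟩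
    obtain ⟨U, n, hpU, ⟨eU⟩⟩ := (S3620.result S' _ hdual).1 hG (⟨⊥, Ideal.isPrime_bot⟩ : PrimeSpectrum k')
    have hUtop : U = ⊤ := top_le_iff.1 fun q _ => by
      rwa [show q = (⟨⊥, Ideal.isPrime_bot⟩ : PrimeSpectrum k') from Subsingleton.elim (α := PrimeSpectrum k') _ _]
    subst hUtop
    haveI : IsIso ((⊤ : S'.Opens).ι) := (Scheme.topIso S').isIso_hom
    haveI : IsAffine ((⊤ : S'.Opens) : Scheme.{u}) := isAffineOpen_top S'
    haveI : Nonempty ((⊤ : S'.Opens) : Scheme.{u}) := ⟨⟨(⟨⊥, Ideal.isPrime_bot⟩ : PrimeSpectrum k'), hpU⟩⟩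
    have hn : n = 0 := by
      by_contra hn
      have h1 : IsZero (DCoh.HD ((LeadBrown.oX ((⊤ : S'.Opens) : Scheme.{u}))⟦n⟧) (-n)) :=
        ((Scheme.Modules.restrictFunctor (⊤ : S'.Opens).ι).map_isZero (hamp (-n) (by omega))).of_iso
          ((DerivedCategory.homologyFunctor _ (-n)).mapIso eU.symm ≪≫
            H16Derived.KFlat.Stalk.homologyRdIso _ _ _)
      exact LeadBrown.not_isZero_hd_oX_shift n h1
    subst hn
    obtain ⟨e'⟩ := hO'
    let eS : (ag.obj O).obj ≅ DCoh.inD S' (Coh.structureModule S') :=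
      LeadBrown.rdPreimageIso (⊤ : S'.Opens).ι
        (eU ≪≫ (shiftFunctorZero _ ℤ).app _ ≪≫
          ((DerivedCategory.singleFunctor _ 0).mapIso (Scheme.Modules.restrictUnitIso _)).symm ≪≫
          (((Scheme.Modules.restrictFunctor (⊤ : S'.Opens).ι).mapDerivedCategorySingleFunctor 0).app _).symm)
    exact ⟨(ObjectProperty.ι DCoh.IsQCohD).mapIso
      (ec.app O ≪≫ a'.mapIso (ObjectProperty.isoMk _ (eS ≪≫ e'.symm)))⟩

end Groth.Agent.S8952
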