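import Groth.Statements.S8954
import Groth.Agent.H9CI.FiniteSyntomic
import Groth.Agent.H9CI.Syntomic
-- import your own Groth.Agent.* helpers here

set_option autoImplicit false
universe u
open Synt

namespace Groth.Agent.S8954

/-- The equivalence of being finite syntomic with having a square presentation, stated over a local
base. For a local ring A and a finite A-algebra B, the map A → B is syntomic if and only if B ≅
A[x_1, …, x_n]/(f_1, …, f_n) as A-algebras for some n and f_1, …, f_n ∈ A[x_1, …, x_n]. (The
published statement is for a finite morphism of schemes and asserts such a presentation over some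
affine open neighbourhood of each point of the base; over a local base that neighbourhood is the
whole spectrum.) -/
theorem result (A B : Type u) [CommRing A] [IsLocalRing A] [CommRing B] [Algebra A B] [Module.Finite A B] : Synt.IsSyntomic A B ↔ ∃ (n : ℕ) (F : Fin n → MvPolynomial (Fin n) A), Nonempty (B ≃ₐ[A] Synt.RelGCIRing A n n F) := by
  refine ⟨fun h => H9CI.exists_square_presentation h, ?_⟩
  rintro ⟨n, F, ⟨e⟩⟩
  refine H9Synt.isSyntomic_of_algEquiv e.symm (H9CI.isSyntomic_relGCIRing F fun p hp => ⟨le_rfl, ?_⟩)
  haveI : Module.Finite A (Synt.RelGCIRing A n n F) := Module.Finite.equiv e.toLinearEquiv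
  haveI := hp
  have key : ∀ (K T : Type u) [Field K] [CommRing T] [Algebra K T] [Module.Finite K T] [Nontrivial T],
      ringKrullDim T = 0 := fun K T _ _ _ _ _ => by
    haveI := IsArtinianRing.of_finite K T
    exact ringKrullDimZero_iff_ringKrullDim_eq_zero.mp (isArtinianRing_iff_krullDimLE_zero.mp inferInstance)
  rw [Nat.sub_self, Nat.cast_zero]
  exact key p.asIdeal.ResidueField (p.asIdeal.Fiber (Synt.RelGCIRing A n n F))

end Groth.Agent.S8954
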