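import Groth.Statements.S8955
import Mathlib.RingTheory.Etale.Kaehler
import Mathlib.AlgebraicGeometry.Morphisms.Etale

set_option autoImplicit false
universe u
open CategoryTheory AlgebraicGeometry Opposite TopologicalSpace
open LocCoh

namespace Groth.Agent.S8955

open scoped TensorProduct

lemma exists_ext (A B : Type u) [CommRing A] [CommRing B] [Algebra A B] [Algebra.FormallyEtale A B]
    (θ : Derivation ℤ A A) :
    ∃ D : Derivation ℤ B B, ∀ a, D (algebraMap A B a) = algebraMap A B (θ a) := by
  let l : B ⊗[A] Ω[A⁄ℤ] →ₗ[B] B :=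
    ((Algebra.linearMap A B).comp θ.liftKaehlerDifferential).liftBaseChange B
  let e := KaehlerDifferential.tensorKaehlerEquivOfFormallyEtale ℤ A B
  refine ⟨(l.comp e.symm.toLinearMap).compDer (KaehlerDifferential.D ℤ B), fun a => ?_⟩
  change l (e.symm (KaehlerDifferential.D ℤ B (algebraMap A B a))) = _
  rw [KaehlerDifferential.tensorKaehlerEquivOfFormallyEtale_symm_D_algebraMap]
  simp [l]

/-- Two additive Leibniz maps along a ring hom agreeing on the image of `A` agree. -/
lemma ext_unique {A B C : Type u} [CommRing A] [CommRing B] [CommRing C] [Algebra A B]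
    [Algebra.FormallyUnramified A B] (g : B →+* C) (d : B →+ C)
    (hd : ∀ x y, d (x * y) = g x * d y + g y * d x) (h0 : ∀ a, d (algebraMap A B a) = 0) :
    d = 0 := by
  letI := g.toAlgebra
  letI : Algebra A C := (g.comp (algebraMap A B)).toAlgebra
  haveI : IsScalarTower A B C := IsScalarTower.of_algebraMap_eq fun _ => rfl
  let D : Derivation A B C :=
    { toFun := d
      map_add' := d.map_add
      map_smul' := fun a x => by
        rw [Algebra.smul_def, hd, h0, mul_zero, add_zero, RingHom.id_apply, Algebra.smul_def]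
        rfl
      map_one_eq_zero' := by
        have := h0 1
        rwa [map_one] at this
      leibniz' := fun x y => by
        change d (x * y) = _
        rw [hd]
        rfl }
  have : D.liftKaehlerDifferential = 0 := by
    refine LinearMap.ext fun x => ?_
    rw [Subsingleton.elim x 0, map_zero, map_zero]
  have hD : D = 0 := by
    rw [← D.liftKaehlerDifferential_comp, this]
    ext
    rfl
  ext x
  exact congrArg (fun E : Derivation A B C => E x) hD

variable (A : Type u) [CommRing A] (V : Scheme.{u}) [V.Over (Spec (CommRingCat.of A))]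

noncomputable def resA (U : V.Opens) : A →+* Γ(V, U) :=
  (Coh.resTop V (op U)).comp (Coh.toGlobal (V ↘ Spec (CommRingCat.of A)))

lemma res_resA {U U' : V.Opens} (h : U' ⟶ U) (a : A) :
    (V.presheaf.map h.op).hom (resA A V U a) = resA A V U' a :=
  Coh.resTop_comp (X := V) (op U) (op U') h.op _

variable [Etale (V ↘ Spec (CommRingCat.of A))]

lemma formallyEtale_resA {U : V.Opens} (hU : IsAffineOpen U) :
    letI := (resA A V U).toAlgebra
    Algebra.FormallyEtale A Γ(V, U) := by
  letI := (resA A V U).toAlgebra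
  have h := HasRingHomProperty.appLE @Etale (V ↘ Spec (CommRingCat.of A)) inferInstance
    ⟨⊤, isAffineOpen_top _⟩ ⟨U, hU⟩ le_top
  have h2 : (resA A V U).Etale := by
    have := RingHom.Etale.respectsIso.2 ((V ↘ Spec (CommRingCat.of A)).appLE ⊤ U le_top).hom
      (Scheme.ΓSpecIso (CommRingCat.of A)).symm.commRingCatIsoToRingEquiv h
    exact this
  exact ((RingHom.etale_algebraMap).mp h2).formallyEtale

noncomputable def derU (θ : Derivation ℤ A A) {U : V.Opens} (hU : IsAffineOpen U) :
    Γ(V, U) →+ Γ(V, U) :=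
  letI := (resA A V U).toAlgebra
  haveI := formallyEtale_resA A V hU
  (exists_ext A Γ(V, U) θ).choose.toLinearMap.toAddMonoidHom

lemma derU_mul (θ : Derivation ℤ A A) {U : V.Opens} (hU : IsAffineOpen U) (x y : Γ(V, U)) :
    derU A V θ hU (x * y) = x * derU A V θ hU y + y * derU A V θ hU x := by
  letI := (resA A V U).toAlgebra
  haveI := formallyEtale_resA A V hU
  exact Derivation.leibniz _ x y

lemma derU_resA (θ : Derivation ℤ A A) {U : V.Opens} (hU : IsAffineOpen U) (a : A) :
    derU A V θ hU (resA A V U a) = resA A V U (θ a) := by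
  letI := (resA A V U).toAlgebra
  haveI := formallyEtale_resA A V hU
  exact (exists_ext A Γ(V, U) θ).choose_spec a

lemma derU_res (θ : Derivation ℤ A A) {U U' : V.Opens} (hU : IsAffineOpen U) (hU' : IsAffineOpen U')
    (h : U' ⟶ U) (x : Γ(V, U)) :
    (V.presheaf.map h.op).hom (derU A V θ hU x) = derU A V θ hU' ((V.presheaf.map h.op).hom x) := by
  letI := (resA A V U).toAlgebra
  haveI := formallyEtale_resA A V hU
  set g := (V.presheaf.map h.op).hom
  have := ext_unique (A := A) g
    (g.toAddMonoidHom.comp (derU A V θ hU) - (derU A V θ hU').comp g.toAddMonoidHom)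
    (fun x y => by
      simp only [AddMonoidHom.sub_apply, AddMonoidHom.coe_comp, Function.comp_apply,
        RingHom.toAddMonoidHom_eq_coe, AddMonoidHom.coe_coe, derU_mul, map_mul, map_add]
      ring)
    (fun a => by
      simp only [AddMonoidHom.sub_apply, AddMonoidHom.coe_comp, Function.comp_apply,
        RingHom.toAddMonoidHom_eq_coe, AddMonoidHom.coe_coe, RingHom.algebraMap_toAlgebra,
        derU_resA]
      simp only [g, res_resA, derU_resA, sub_self])
  exact sub_eq_zero.mp (DFunLike.congr_fun this x)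

abbrev aff : V.affineOpens → Opens V := fun U => U.1

theorem result (A : Type u) [CommRing A] (V : Scheme.{u}) [V.Over (Spec (CommRingCat.of A))] [QuasiCompact (V ↘ Spec (CommRingCat.of A))] [IsSeparated (V ↘ Spec (CommRingCat.of A))] [Etale (V ↘ Spec (CommRingCat.of A))] (θ : Derivation ℤ A A) (i : ℕ) : ∃ D : Coh.HH V (Coh.structureModule V) i →+ Coh.HH V (Coh.structureModule V) i, ∀ (a : A) (ξ : Coh.HH V (Coh.structureModule V) i), D (a • ξ) = θ a • ξ + a • D ξ := by
  set F := Coh.toAb (Coh.structureModule V)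
  have hB : Opens.IsBasis (Set.range (aff V)) := by
    have := V.isBasis_affineOpens
    convert this using 2
    ext U
    exact ⟨fun ⟨W, hW⟩ => hW ▸ W.2, fun h => ⟨⟨U, h⟩, rfl⟩⟩
  let α : (inducedFunctor (aff V)).op ⋙ F.obj ⟶ (inducedFunctor (aff V)).op ⋙ F.obj :=
    { app := fun U => AddCommGrpCat.ofHom (derU A V θ U.unop.2)
      naturality := fun U U' h => by
        ext x
        exact (derU_res A V θ U.unop.2 U'.unop.2 h.unop.hom x).symm }
  let Dsh : F ⟶ F := ⟨TopCat.Sheaf.restrictHomEquivHom F.obj F hB α⟩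
  have hD : ∀ W : V.affineOpens, Dsh.hom.app (op W.1) = α.app (op W) := fun W =>
    TopCat.Sheaf.extend_hom_app F.obj F hB α W
  let g := Coh.toGlobal (V ↘ Spec (CommRingCat.of A))
  have key : ∀ a : A, Coh.smulAb (Coh.structureModule V) (g a) ≫ Dsh =
      Coh.smulAb (Coh.structureModule V) (g (θ a)) + Dsh ≫ Coh.smulAb (Coh.structureModule V) (g a) := by
    intro a
    apply Sheaf.hom_ext
    apply TopCat.Sheaf.hom_ext F.obj F hB
    intro W
    ext (x : Γ(V, W.1))
    change (Dsh.hom.app (op W.1)).hom ((Coh.smulAb (Coh.structureModule V) (g a)).hom.app (op W.1) x) =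
      (Coh.smulAb (Coh.structureModule V) (g (θ a))).hom.app (op W.1) x +
        (Coh.smulAb (Coh.structureModule V) (g a)).hom.app (op W.1) ((Dsh.hom.app (op W.1)).hom x)
    rw [hD W]
    change derU A V θ W.2 (resA A V W.1 a * x) = resA A V W.1 (θ a) * x + resA A V W.1 a * derU A V θ W.2 x
    have hW : IsAffineOpen W.1 := W.2
    refine (derU_mul A V θ hW (resA A V W.1 a) x).trans ?_
    rw [derU_resA, add_comm, mul_comm x]
  refine ⟨Sheaf.H.map Dsh i, fun a ξ => ?_⟩
  change Sheaf.H.map Dsh i (Sheaf.H.map (Coh.smulAb (Coh.structureModule V) (g a)) i ξ) =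
    Sheaf.H.map (Coh.smulAb (Coh.structureModule V) (g (θ a))) i ξ +
      Sheaf.H.map (Coh.smulAb (Coh.structureModule V) (g a)) i (Sheaf.H.map Dsh i ξ)
  rw [← Sheaf.H.map_comp_apply, key, Sheaf.H.map_add_apply, Sheaf.H.map_comp_apply]

end Groth.Agent.S8955
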