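import Groth.Statements.S8963
import Groth.Agent.H05EGA4.QFFibre

set_option autoImplicit false
universe u
open TensorProduct
open QFDual
open TensorProduct

attribute [local instance] Algebra.TensorProduct.rightAlgebra

namespace Groth.Agent.S8963

/-- Invertibility of the relative dualizing module is a fibrewise condition. Let A → B be a flat
homomorphism of Noetherian rings with a factorization A → B' → B, A → B' finite and Spec B → Spec B'
an open immersion, so that A → B is quasi-finite and ω_{B/A} = B ⊗_{B'} Hom_A(B', A). The B-module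
ω_{B/A} is invertible exactly when, for every prime p of A and every presentation of the fibre rings
B'_p = B' ⊗_A κ(p), B_p = B ⊗_A κ(p) as cocartesian squares over the residue field κ(p) (compatibly
with B' → B), the module ω_{B_p/κ(p)} = B_p ⊗_{B'_p} Hom_{κ(p)}(B'_p, κ(p)) is an invertible
B_p-module. -/
theorem result (A B' B : Type u) [CommRing A] [CommRing B'] [CommRing B] [IsNoetherianRing A] [IsNoetherianRing B] [Algebra A B'] [Algebra B' B] [Algebra A B] [IsScalarTower A B' B] [Module.Flat A B] (hf : QFDual.IsQFFactor A B' B) : Module.Invertible B (QFDual.omega A B' B) ↔ ∀ (p : Ideal A) [p.IsPrime] (B'₁ B₁ : Type u) [CommRing B'₁] [CommRing B₁] [Algebra B' B'₁] [Algebra p.ResidueField B'₁] [Algebra A B'₁] [IsScalarTower A p.ResidueField B'₁] [IsScalarTower A B' B'₁] [Algebra B B₁] [Algebra p.ResidueField B₁] [Algebra A B₁] [IsScalarTower A p.ResidueField B₁] [IsScalarTower A B B₁] [Algebra B'₁ B₁] [Algebra B' B₁] [IsScalarTower B' B'₁ B₁] [IsScalarTower B' B B₁] [IsScalarTower p.ResidueField B'₁ B₁], Algebra.IsPushout A p.ResidueField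 B' B'₁ → Algebra.IsPushout A p.ResidueField B B₁ → Module.Invertible B₁ (QFDual.omega p.ResidueField B'₁ B₁) := by
  constructor
  · intro hω p _ B'₁ B₁ _ _ _ _ _ _ _ _ _ _ _ _ _ _ _ _ _ h' hB
    exact Module.Invertible.congr ((TensorProduct.AlgebraTensorModule.cancelBaseChange B' B B₁ B₁ (Disc.Omega A B')).trans
      (LinearEquiv.ofBijective _ (Groth.Agent.H05EGA4.QFGenBC.omegaBC_bijective_of_flat (B₁ := B₁) hf h')))
  · intro h
    refine Groth.Agent.H05EGA4.QFFibre.invertible_of_fibres hf fun p _ => ?_
    let B'₁ := p.ResidueField ⊗[A] B'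
    let B₁ := p.ResidueField ⊗[A] B
    letI : Algebra B'₁ B₁ :=
      (Algebra.TensorProduct.map (AlgHom.id A p.ResidueField) (IsScalarTower.toAlgHom A B' B)).toRingHom.toAlgebra
    letI : Algebra B' B₁ := ((algebraMap B B₁).comp (algebraMap B' B)).toAlgebra
    haveI : IsScalarTower B' B B₁ := IsScalarTower.of_algebraMap_eq fun b => rfl
    haveI : IsScalarTower B' B'₁ B₁ := IsScalarTower.of_algebraMap_eq fun b => rfl
    haveI : IsScalarTower p.ResidueField B'₁ B₁ := IsScalarTower.of_algebraMap_eq fun k => by
      show k ⊗ₜ[A] (1 : B) = Algebra.TensorProduct.map _ _ (k ⊗ₜ[A] (1 : B'))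
      rw [Algebra.TensorProduct.map_tmul, map_one]
      rfl
    haveI := h p B'₁ B₁ inferInstance inferInstance
    exact Module.Invertible.congr ((TensorProduct.AlgebraTensorModule.cancelBaseChange B' B B₁ B₁ (Disc.Omega A B')).trans
      (LinearEquiv.ofBijective _ (Groth.Agent.H05EGA4.QFGenBC.omegaBC_bijective_of_flat (B₁ := B₁) hf
        (inferInstance : Algebra.IsPushout A p.ResidueField B' B'₁)))).symm

end Groth.Agent.S8963
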