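import Groth.Statements.S8972
import Mathlib.RingTheory.RegularLocalRing.Polynomial
import Mathlib.RingTheory.DedekindDomain.Dvr
import Mathlib.NumberTheory.NumberField.Basic
-- import your own Groth.Agent.* helpers here

set_option autoImplicit false
open Synt

namespace Groth.Agent.S8972

open MvPolynomial in
theorem exists_equiv (n d : ℕ) : ∃ (ι : Type) (_ : Finite ι),
    Nonempty (Synt.UnivAlg n d ≃+* MvPolynomial ι ℤ) := by
  classical
  let E₀ : Synt.UnivIdx n d := ⟨fun _ => 0, by simp⟩
  let σ := Fin n ⊕ {p : Fin n × Synt.UnivIdx n d // p.2 ≠ E₀}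
  have hE₀ : E₀.exponent = 0 := by ext i; simp [E₀, Synt.UnivIdx.exponent]
  let mono : Synt.UnivIdx n d → MvPolynomial σ ℤ := fun E => ∏ i, X (Sum.inl i) ^ (E.exponent i)
  let rest : Fin n → MvPolynomial σ ℤ := fun i =>
    ∑ E : Synt.UnivIdx n d, if h : E = E₀ then 0 else X (Sum.inr ⟨(i, E), h⟩) * mono E
  let c : Fin n × Synt.UnivIdx n d → MvPolynomial σ ℤ := fun p =>
    if h : p.2 = E₀ then - rest p.1 else X (Sum.inr ⟨p, h⟩)
  let φA : Synt.UnivBase n d →+* MvPolynomial σ ℤ := (aeval c).toRingHom
  let Φ : MvPolynomial (Fin n) (Synt.UnivBase n d) →+* MvPolynomial σ ℤ := eval₂Hom φA (fun i => X (Sum.inl i))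
  have hΦC : ∀ p, Φ (C (X p)) = c p := fun p => by simp [Φ, φA]
  have hΦX : ∀ i, Φ (X i) = X (Sum.inl i) := fun i => by simp [Φ]
  have hmon : ∀ (E : Synt.UnivIdx n d) (a : Synt.UnivBase n d),
      (monomial E.exponent a : MvPolynomial (Fin n) (Synt.UnivBase n d)) = C a * ∏ i, X i ^ (E.exponent i) := by
    intro E a
    rw [monomial_eq, Finsupp.prod_fintype _ _ (fun i => pow_zero _)]
  have hΦf : ∀ i, Φ (Synt.univPoly n d i) = 0 := by
    intro i
    rw [Synt.univPoly, map_sum]
    have h1 : ∀ E : Synt.UnivIdx n d, Φ (monomial E.exponent (X (i, E))) =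
        (if h : E = E₀ then 0 else X (Sum.inr ⟨(i, E), h⟩) * mono E) + (if E = E₀ then - rest i else 0) := by
      intro E
      rw [hmon, map_mul, map_prod, hΦC]
      simp only [map_pow, hΦX]
      by_cases h : E = E₀
      · subst h; simp [c, hE₀]
      · simp [c, h, mono]
    rw [Finset.sum_congr rfl fun E _ => h1 E, Finset.sum_add_distrib, Finset.sum_ite_eq']
    simp [rest]
  let F : Synt.UnivAlg n d →+* MvPolynomial σ ℤ :=
    Ideal.Quotient.lift (Synt.univIdeal n d) Φ fun x hx => by
      have : Synt.univIdeal n d ≤ RingHom.ker Φ := Ideal.span_le.2 (by rintro _ ⟨i, rfl⟩; exact hΦf i)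
      exact this hx
  let π : MvPolynomial (Fin n) (Synt.UnivBase n d) →+* Synt.UnivAlg n d := Ideal.Quotient.mk (Synt.univIdeal n d)
  let G : MvPolynomial σ ℤ →+* Synt.UnivAlg n d :=
    eval₂Hom (Int.castRingHom _) (Sum.elim (fun i => π (X i)) (fun p => π (C (X p.1))))
  have hFG : F.comp G = RingHom.id _ := by
    refine MvPolynomial.ringHom_ext' (RingHom.ext_int _ _) fun s => ?_
    rcases s with i | p
    · show F (G (X (Sum.inl i))) = X (Sum.inl i)
      simp only [G, eval₂Hom_X', Sum.elim_inl]
      exact hΦX i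
    · show F (G (X (Sum.inr p))) = X (Sum.inr p)
      simp only [G, eval₂Hom_X', Sum.elim_inr]
      refine (hΦC p.1).trans ?_
      simp only [c, dif_neg p.2]
  have hGmono : ∀ E, G (mono E) = π (∏ i, X i ^ (E.exponent i)) := by
    intro E
    simp [mono, G, π]
  have hGrest : ∀ i, G (rest i) = - π (C (X (i, E₀))) := by
    intro i
    have h0 : π (Synt.univPoly n d i) = 0 := Ideal.Quotient.eq_zero_iff_mem.2 (Ideal.subset_span ⟨i, rfl⟩)
    rw [Synt.univPoly, map_sum] at h0
    have h1 : ∀ E, π (monomial E.exponent (X (i, E))) =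
        G (if h : E = E₀ then 0 else X (Sum.inr ⟨(i, E), h⟩) * mono E) + (if E = E₀ then π (C (X (i, E₀))) else 0) := by
      intro E
      rw [hmon, map_mul]
      by_cases h : E = E₀
      · subst h; simp [hE₀]
      · rw [dif_neg h, if_neg h, map_mul, hGmono, add_zero]
        simp [G]
    rw [Finset.sum_congr rfl fun E _ => h1 E, Finset.sum_add_distrib, Finset.sum_ite_eq', if_pos (Finset.mem_univ _),
      ← map_sum] at h0
    exact eq_neg_of_add_eq_zero_left h0
  have hGF' : (G.comp F).comp π = π := by
    refine MvPolynomial.ringHom_ext' (MvPolynomial.ringHom_ext' (RingHom.ext_int _ _) fun p => ?_) fun i => ?_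
    · show G (Φ (C (X p))) = π (C (X p))
      rw [hΦC]
      obtain ⟨i, E⟩ := p
      by_cases h : E = E₀
      · subst h; simp only [c, dif_pos, map_neg, hGrest, neg_neg]
      · simp [c, h, G]
    · show G (Φ (X i)) = π (X i)
      simp [hΦX, G]
  have hGF : G.comp F = RingHom.id _ := by
    refine RingHom.ext fun x => ?_
    obtain ⟨x, rfl⟩ := Ideal.Quotient.mk_surjective (I := Synt.univIdeal n d) x
    exact RingHom.congr_fun hGF' x
  exact ⟨σ, inferInstance, ⟨RingEquiv.ofRingHom F G hFG hGF⟩⟩

/-- Let n, d ≥ 1 and let B = A[x_1, …, x_n]/(f_1, …, f_n) be the universal algebra over A = ℤ[a_{i,E}],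
f_i = Σ_E a_{i,E} x^E summed over exponent vectors E with |E| ≤ d. Then B is an integral domain and
every localization of B at a prime ideal is a regular local ring. (The published statement says that
X_{n,d} = Spec A and the quasi-finite locus Y_{n,d} ⊆ Spec B are regular and irreducible; for A, a
polynomial ring over ℤ, this is standard, and for the open Y_{n,d} it follows from the assertion
about all of Spec B made here, which is what the printed argument shows. The published statement
also asserts that Y_{n,d} → X_{n,d} is locally quasi-finite and syntomic, an instance of the general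
characterisation of quasi-finite syntomic maps; that clause is not part of this row.) -/
theorem result (n d : ℕ) (hn : 1 ≤ n) (hd : 1 ≤ d) : IsDomain (Synt.UnivAlg n d) ∧ ∀ q : PrimeSpectrum (Synt.UnivAlg n d), IsRegularLocalRing (Localization.AtPrime q.asIdeal) := by
  obtain ⟨ι, _, ⟨e⟩⟩ := exists_equiv n d
  haveI : IsRegularRing (Synt.UnivAlg n d) := IsRegularRing.of_ringEquiv e.symm
  exact ⟨e.toMulEquiv.isDomain _, fun q => inferInstance⟩

end Groth.Agent.S8972
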