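import Groth.Statements.S8973
import Mathlib.RingTheory.Smooth.StandardSmoothCotangent
import Mathlib.RingTheory.Unramified.LocalStructure
-- import your own Groth.Agent.* helpers here

set_option autoImplicit false
open Synt

namespace Groth.Agent.S8973

open MvPolynomial in
theorem etale_away (n d : ℕ) (g : MvPolynomial (Fin n) (Synt.UnivBase n d))
    (hg : g = Matrix.det (Matrix.of fun i j : Fin n => pderiv i (Synt.univPoly n d j))) :
    Algebra.Etale (Synt.UnivBase n d) (Localization.Away (Synt.UnivAlg.mk n d g)) := by
  classical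
  show Algebra.Etale (Synt.UnivBase n d) (Localization.Away (Ideal.Quotient.mk (Synt.univIdeal n d) g))
  let S := MvPolynomial (Fin n) (Synt.UnivBase n d) ⧸ Synt.univIdeal n d
  let P : Algebra.PreSubmersivePresentation (Synt.UnivBase n d) S (Fin n) (Fin n) :=
    Algebra.PreSubmersivePresentation.naive (v := Synt.univPoly n d) id Function.injective_id
  have hJ : P.jacobian = Ideal.Quotient.mk (Synt.univIdeal n d) g := by
    rw [Algebra.PreSubmersivePresentation.jacobian_eq_jacobiMatrix_det, hg]
    show (algebraMap P.Ring S) P.jacobiMatrix.det = _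
    congr 2
    refine Matrix.ext fun i j => ?_
    rw [Algebra.PreSubmersivePresentation.jacobiMatrix_apply]
    rfl
  let Q := Algebra.SubmersivePresentation.localizationAway (Localization.Away (Ideal.Quotient.mk (Synt.univIdeal n d) g)) (Ideal.Quotient.mk (Synt.univIdeal n d) g)
  have hu : IsUnit (Q.toPreSubmersivePresentation.comp P).jacobian := by
    rw [Algebra.PreSubmersivePresentation.comp_jacobian_eq_jacobian_smul_jacobian, hJ, Algebra.smul_def]
    exact (IsLocalization.Away.algebraMap_isUnit _).mul Q.jacobian_isUnit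
  let PQ : Algebra.SubmersivePresentation (Synt.UnivBase n d)
      (Localization.Away (Ideal.Quotient.mk (Synt.univIdeal n d) g)) (Unit ⊕ Fin n) (Unit ⊕ Fin n) :=
    { toPreSubmersivePresentation := Q.toPreSubmersivePresentation.comp P, jacobian_isUnit := hu }
  haveI : Algebra.IsStandardSmoothOfRelativeDimension 0 (Synt.UnivBase n d)
      (Localization.Away (Ideal.Quotient.mk (Synt.univIdeal n d) g)) :=
    ⟨_, _, _, inferInstance, PQ, by simp [Algebra.Presentation.dimension]⟩
  infer_instance

/-- Let n, d ≥ 1 and let B = A[x_1, …, x_n]/(f_1, …, f_n) be the universal algebra over A = ℤ[a_{i,E}],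
f_i = Σ_E a_{i,E} x^E summed over exponent vectors E with |E| ≤ d. Then there is a prime q of B at
which B is quasi-finite over A and étale over A (that is, B_q is quasi-finite and formally étale
over A). (The published statement asserts a dense open V of the quasi-finite locus Y_{n,d} ⊆ Spec B
that is étale over Spec A; as Spec B is irreducible and the étale locus is open, that amounts to the
existence of one such point, which is what is stated here and what the printed argument exhibits.) -/
theorem result (n d : ℕ) (hn : 1 ≤ n) (hd : 1 ≤ d) : ∃ q : PrimeSpectrum (Synt.UnivAlg n d), Algebra.QuasiFiniteAt (Synt.UnivBase n d) q.asIdeal ∧ Algebra.IsEtaleAt (Synt.UnivBase n d) q.asIdeal := by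
  classical
  open MvPolynomial in
  let Eu : Fin n → Synt.UnivIdx n d := fun i => ⟨fun j => if i = j then ⟨1, by omega⟩ else 0, by
    rw [Finset.sum_eq_single i (fun j _ hj => by simp [Ne.symm hj]) (by simp)]
    simp only [if_true]
    omega⟩
  let a : Fin n × Synt.UnivIdx n d → ℤ := fun p => if p.2 = Eu p.1 then 1 else 0
  let φA : Synt.UnivBase n d →+* ℤ := (MvPolynomial.aeval a).toRingHom
  let θ : MvPolynomial (Fin n) (Synt.UnivBase n d) →+* ℤ := MvPolynomial.eval₂Hom φA (fun _ => 0)
  have hexp : ∀ i, (Eu i).exponent = Finsupp.single i 1 := by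
    intro i
    ext j
    by_cases h : i = j
    · subst h; simp [Eu, Synt.UnivIdx.exponent]
    · simp [Eu, Synt.UnivIdx.exponent, h, Finsupp.single_apply]
  have hθf : ∀ i, θ (Synt.univPoly n d i) = 0 := by
    intro i
    rw [Synt.univPoly, map_sum]
    refine Finset.sum_eq_zero fun E _ => ?_
    by_cases h : E = Eu i
    · subst h; simp [θ, hexp, MvPolynomial.constantCoeff_eq, MvPolynomial.coeff_monomial, eq_comm]
    · simp [θ, φA, a, h, MvPolynomial.constantCoeff_eq, MvPolynomial.coeff_monomial, apply_ite]
  have hD : ∀ i j, θ (MvPolynomial.pderiv i (Synt.univPoly n d j)) = if i = j then 1 else 0 := by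
    intro i j
    rw [Synt.univPoly, map_sum, map_sum, Finset.sum_eq_single (Eu j) (fun E _ h => by
      simp [θ, φA, a, h, MvPolynomial.pderiv_monomial, MvPolynomial.constantCoeff_eq, MvPolynomial.coeff_monomial, apply_ite]) (by simp)]
    by_cases h : i = j
    · subst h; simp [θ, φA, a, hexp, MvPolynomial.pderiv_monomial]
    · simp [θ, φA, a, hexp, MvPolynomial.pderiv_monomial, h, Finsupp.single_apply, Ne.symm h]
  let g := Matrix.det (Matrix.of fun i j : Fin n => MvPolynomial.pderiv i (Synt.univPoly n d j))
  have hθg : θ g = 1 := by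
    rw [RingHom.map_det]
    convert Matrix.det_one (n := Fin n) (R := ℤ)
    ext i j
    simp [hD, Matrix.one_apply]
  let T : Synt.UnivAlg n d →+* ℤ :=
    Ideal.Quotient.lift (Synt.univIdeal n d) θ fun x hx => by
      have : Synt.univIdeal n d ≤ RingHom.ker θ := Ideal.span_le.2 (by rintro _ ⟨i, rfl⟩; exact hθf i)
      exact this hx
  haveI : (RingHom.ker T).IsPrime := RingHom.ker_isPrime T
  haveI hE := etale_away n d g rfl
  have hgq : Synt.UnivAlg.mk n d g ∉ RingHom.ker T := fun h =>
    one_ne_zero (hθg.symm.trans h)
  have het : Algebra.IsEtaleAt (Synt.UnivBase n d) (RingHom.ker T) :=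
    Algebra.basicOpen_subset_etaleLocus_iff.mpr inferInstance (show (⟨RingHom.ker T, inferInstance⟩ : PrimeSpectrum _) ∈ PrimeSpectrum.basicOpen _ from hgq)
  have hqf : Algebra.QuasiFiniteAt (Synt.UnivBase n d) (RingHom.ker T) := by
    haveI : Algebra.EssFiniteType (Synt.UnivAlg n d) (Localization.AtPrime (RingHom.ker T)) :=
      Algebra.EssFiniteType.of_isLocalization _ (RingHom.ker T).primeCompl
    haveI : Algebra.FiniteType (Synt.UnivBase n d) (Synt.UnivAlg n d) :=
      Algebra.FiniteType.of_surjective (Synt.UnivAlg.mk n d) Ideal.Quotient.mk_surjective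
    haveI : Algebra.EssFiniteType (Synt.UnivBase n d) (Localization.AtPrime (RingHom.ker T)) :=
      Algebra.EssFiniteType.comp _ (Synt.UnivAlg n d) _
    haveI : Algebra.FormallyEtale (Synt.UnivBase n d) (Localization.AtPrime (RingHom.ker T)) := het
    infer_instance
  exact ⟨⟨RingHom.ker T, inferInstance⟩, hqf, het⟩

end Groth.Agent.S8973
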