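import Groth.Statements.S8974
import Mathlib
-- import your own Groth.Agent.* helpers here

set_option autoImplicit false
universe u
open Synt

namespace Groth.Agent.S8974

/-- Let R be a ring, n, d ≥ 1 and g_1, …, g_n ∈ R[y_1, …, y_n] of total degree at most d. Then there is
a ring map φ : A = ℤ[a_{i,E}] → R (E running over exponent vectors with |E| ≤ d) such that applying
φ to the coefficients of the universal polynomial f_i = Σ_E a_{i,E} x^E gives g_i for each i. (The
published statement is for a locally quasi-finite syntomic morphism of schemes and asserts, locally,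
a cartesian square with the universal family; this row is its affine core: the coefficient map.) -/
theorem result (R : Type u) [CommRing R] (n d : ℕ) (hn : 1 ≤ n) (hd : 1 ≤ d) (g : Fin n → MvPolynomial (Fin n) R) (hg : ∀ i, (g i).totalDegree ≤ d) : ∃ φ : Synt.UnivBase n d →+* R, ∀ i, MvPolynomial.map φ (Synt.univPoly n d i) = g i := by
  classical
  refine ⟨(MvPolynomial.eval₂Hom (Int.castRingHom R)
    (fun q : Fin n × Synt.UnivIdx n d => MvPolynomial.coeff q.2.exponent (g q.1))), fun i => ?_⟩
  ext e
  simp only [Synt.univPoly, map_sum, MvPolynomial.map_monomial, MvPolynomial.eval₂Hom_X',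
    MvPolynomial.coeff_sum, MvPolynomial.coeff_monomial]
  by_cases hE : ∃ E : Synt.UnivIdx n d, E.exponent = e
  · obtain ⟨E, rfl⟩ := hE
    rw [Finset.sum_eq_single E (fun E' _ hne => if_neg fun h => hne (Subtype.ext (funext fun j =>
      Fin.ext (by simpa [Synt.UnivIdx.exponent] using DFunLike.congr_fun h j))))
      (fun h => absurd (Finset.mem_univ E) h), if_pos rfl]
  · rw [Finset.sum_eq_zero fun E' _ => if_neg fun h => hE ⟨E', h⟩]
    by_contra hne
    have hmem : e ∈ (g i).support := MvPolynomial.mem_support_iff.mpr (Ne.symm hne)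
    have hsum : ∑ j, e j ≤ d := by
      refine le_trans (le_of_eq ?_) ((MvPolynomial.le_totalDegree hmem).trans (hg i))
      exact (Finsupp.sum_fintype e (fun _ k => k) fun _ => rfl).symm
    have hlt : ∀ j, e j < d + 1 := fun j =>
      Nat.lt_succ_of_le ((Finset.single_le_sum (fun k _ => Nat.zero_le (e k)) (Finset.mem_univ j)).trans hsum)
    exact hE ⟨⟨fun j => ⟨e j, hlt j⟩, hsum⟩, Finsupp.ext fun j => rfl⟩

end Groth.Agent.S8974
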