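import Groth.Statements.S8983
import Groth.Agent.H18HTop.AlmostBlowUp

set_option autoImplicit false
universe u
open HTop

namespace Groth.Agent.S8983

open CategoryTheory CategoryTheory.Limits AlgebraicGeometry in
/-- Given an almost blow up square with top right corner X' and a closed immersion W → X' of finite
presentation, the ideal of W lies inside the ideal of sections of the structure sheaf of X'
supported on the exceptional locus E (this single condition expresses both that X' minus E is
scheme-theoretically contained in W and that the blow up of X in Z is, the two being the same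
containment of ideal sheaves here) if and only if replacing X' by W and E by the scheme-theoretic
intersection of E and W gives again an almost blow up square. -/
theorem result {E Z X' X W EW : Scheme.{u}} {e : E ⟶ X'} {π : E ⟶ Z} {b : X' ⟶ X} {i : Z ⟶ X} (h : HTop.IsAlmostBlowUpSquare e π b i) (w : W ⟶ X') [IsClosedImmersion w] [LocallyOfFinitePresentation w] {eW : EW ⟶ W} {gE : EW ⟶ E} (hEW : IsPullback gE eW e w) : w.ker ≤ HTop.supportedOn (i.ker.comap b) ↔ HTop.IsAlmostBlowUpSquare eW (gE ≫ π) (w ≫ b) i := by
  haveI := h.isClosedImmersion
  haveI := h.isProper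
  haveI := h.finitePresentation
  let I := i.ker.comap b
  let J := i.ker.comap (w ≫ b)
  have hJ : J = I.comap w := Scheme.IdealSheafData.comap_comp _ _ _
  have hk : ((supportedOn J).subschemeι ≫ w).ker = (supportedOn (I.comap w)).map w := by
    rw [Groth.Agent.H18HTop.ker_subschemeι_comp, hJ]
  constructor
  · intro hw
    refine ⟨h.isClosedImmersion, h.finitePresentation_base, hEW.flip.paste_vert h.isPullback,
      ?_, inferInstance, inferInstance, ?_⟩
    · rw [show i.ker.comap (w ≫ b) = I.comap w from hJ]
      exact Groth.Agent.H18HTop.isLocPrincipal_comap h.locPrincipal w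
    · have e : (supportedOn I).subschemeι.ker = ((supportedOn J).subschemeι ≫ w).ker := by
        rw [hk, Scheme.IdealSheafData.ker_subschemeι,
          Groth.Agent.H18HTop.map_supportedOn_comap w I hw]
      haveI := IsClosedImmersion.isIso_lift (supportedOn I).subschemeι
        ((supportedOn J).subschemeι ≫ w) e
      have := Groth.Agent.H18HTop.isBlowUp_comp_iso h.isBlowUp
        (IsClosedImmersion.lift (supportedOn I).subschemeι ((supportedOn J).subschemeι ≫ w) e.le)
      rwa [IsClosedImmersion.lift_fac_assoc, Category.assoc] at this
  · intro h'
    have e : (supportedOn I).subschemeι.ker ≤ ((supportedOn J).subschemeι ≫ w).ker := by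
      rw [hk, Scheme.IdealSheafData.ker_subschemeι]
      exact Groth.Agent.H18HTop.supportedOn_comap_le w I
    let φ := IsClosedImmersion.lift (supportedOn I).subschemeι ((supportedOn J).subschemeι ≫ w) e
    have hφ : φ ≫ (supportedOn I).subschemeι = (supportedOn J).subschemeι ≫ w :=
      IsClosedImmersion.lift_fac _ _ _
    haveI : IsIso φ := Groth.Agent.H18HTop.isIso_of_isBlowUp h'.isBlowUp h.isBlowUp φ (by
      rw [← Category.assoc, hφ, Category.assoc])
    have h2 : (inv φ ≫ (supportedOn J).subschemeι) ≫ w = (supportedOn I).subschemeι := by
      rw [Category.assoc, ← hφ, IsIso.inv_hom_id_assoc]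
    have h3 := Scheme.Hom.le_ker_comp (inv φ ≫ (supportedOn J).subschemeι) w
    rwa [h2, Scheme.IdealSheafData.ker_subschemeι] at h3

end Groth.Agent.S8983
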