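import Groth.Statements.S8985
import Groth.Agent.H18HTop.AlmostBlowUpExists
import Groth.Agent.S7379
import Groth.Agent.S0594
import Groth.Agent.S8983

set_option autoImplicit false
set_option backward.isDefEq.respectTransparency false
universe u
open HTop

namespace Groth.Agent.S8985

open CategoryTheory CategoryTheory.Limits AlgebraicGeometry in
/-- Two almost blow up squares with the same centre Z → X (X quasi-compact and quasi-separated, Z of
finite presentation) are dominated by a third one whose top right corner embeds as a closed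
subscheme, over X, into each of theirs. -/
theorem result {Z X E₁ X₁ E₂ X₂ : Scheme.{u}} [CompactSpace X] [QuasiSeparatedSpace X] (i : Z ⟶ X) [IsClosedImmersion i] [LocallyOfFinitePresentation i] {e₁ : E₁ ⟶ X₁} {π₁ : E₁ ⟶ Z} {b₁ : X₁ ⟶ X} (h₁ : HTop.IsAlmostBlowUpSquare e₁ π₁ b₁ i) {e₂ : E₂ ⟶ X₂} {π₂ : E₂ ⟶ Z} {b₂ : X₂ ⟶ X} (h₂ : HTop.IsAlmostBlowUpSquare e₂ π₂ b₂ i) : ∃ (E X' : Scheme.{u}) (e : E ⟶ X') (π : E ⟶ Z) (b : X' ⟶ X) (j₁ : X' ⟶ X₁) (j₂ : X' ⟶ X₂), HTop.IsAlmostBlowUpSquare e π b i ∧ IsClosedImmersion j₁ ∧ IsClosedImmersion j₂ ∧ j₁ ≫ b₁ = b ∧ j₂ ≫ b₂ = b := by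
  classical
  haveI := h₁.isProper
  haveI := h₂.isProper
  haveI := h₁.finitePresentation
  haveI := h₂.finitePresentation
  haveI : CompactSpace X₁ := QuasiCompact.compactSpace_of_compactSpace b₁
  haveI : QuasiSeparatedSpace X₁ := quasiSeparatedSpace_of_quasiSeparated b₁
  haveI : CompactSpace X₂ := QuasiCompact.compactSpace_of_compactSpace b₂
  haveI : QuasiSeparatedSpace X₂ := quasiSeparatedSpace_of_quasiSeparated b₂
  let s₁ := (supportedOn (i.ker.comap b₁)).subschemeι
  let s₂ := (supportedOn (i.ker.comap b₂)).subschemeι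
  obtain ⟨φ, hφ, -⟩ := h₂.isBlowUp.2 _ (s₁ ≫ b₁) h₁.isBlowUp.1
  haveI : IsIso φ := Groth.Agent.H18HTop.isIso_of_isBlowUp h₁.isBlowUp h₂.isBlowUp φ hφ
  let e₀ := pullback.lift (f := b₁) (g := b₂) s₁ (φ ≫ s₂) (by rw [Category.assoc]; exact hφ.symm)
  have he₀1 : e₀ ≫ pullback.fst b₁ b₂ = s₁ := pullback.lift_fst _ _ _
  have he₀2 : e₀ ≫ pullback.snd b₁ b₂ = φ ≫ s₂ := pullback.lift_snd _ _ _
  haveI : IsClosedImmersion (e₀ ≫ pullback.fst b₁ b₂) := by rw [he₀1]; infer_instance
  haveI : IsClosedImmersion e₀ := IsClosedImmersion.of_comp e₀ (pullback.fst b₁ b₂)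
  haveI : IsProper (pullback.fst b₁ b₂ ≫ b₁) := inferInstance
  haveI : LocallyOfFinitePresentation (pullback.fst b₁ b₂ ≫ b₁) := inferInstance
  obtain ⟨X₃, j, _, _, e', _, he', hker, hsq⟩ :=
    Groth.Agent.H18HTop.exists_isAlmostBlowUpSquare_in i (pullback.fst b₁ b₂ ≫ b₁) h₁.isBlowUp e₀
      (by rw [← Category.assoc, he₀1])
  haveI := hsq.isProper
  haveI : CompactSpace X₃ :=
    QuasiCompact.compactSpace_of_compactSpace (j ≫ pullback.fst b₁ b₂ ≫ b₁)
  haveI : QuasiSeparatedSpace X₃ :=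
    quasiSeparatedSpace_of_quasiSeparated (j ≫ pullback.fst b₁ b₂ ≫ b₁)
  obtain ⟨ι, hpre, hdir, hne, D, c, hc, hD, ⟨ec⟩⟩ := Groth.Agent.S7379.result e'
  let F := D ⋙ Over.forget X₃
  let cF := (Over.forget X₃).mapCone c
  have hcF : IsLimit cF := isLimitOfPreserves (Over.forget X₃) hc
  haveI hDc : ∀ k, IsClosedImmersion (D.obj k).hom := fun k => (hD k).1
  haveI : ∀ (k l : ιᵒᵖ) (f : k ⟶ l), IsClosedImmersion (F.map f) := fun k l f => by
    haveI : IsClosedImmersion ((D.map f).left ≫ (D.obj l).hom) := by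
      rw [Over.w]; exact hDc k
    exact IsClosedImmersion.of_comp (D.map f).left (D.obj l).hom
  haveI : ∀ k, CompactSpace (F.obj k) := fun k => by
    haveI : IsClosedImmersion (D.obj k).hom := hDc k
    exact QuasiCompact.compactSpace_of_compactSpace (D.obj k).hom
  haveI : ∀ k, QuasiSeparatedSpace (F.obj k) := fun k => by
    haveI : IsClosedImmersion (D.obj k).hom := hDc k
    exact quasiSeparatedSpace_of_quasiSeparated (D.obj k).hom
  obtain ⟨k₀⟩ : Nonempty ιᵒᵖ := ⟨Opposite.op (Classical.arbitrary ι)⟩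
  have hec : ec.hom.left ≫ e' = c.pt.hom := Over.w ec.hom
  have key : ∀ {T : Scheme.{u}} (q : X₃ ⟶ T) [CompactSpace T] [QuasiSeparatedSpace T]
      [LocallyOfFiniteType q], IsClosedImmersion (e' ≫ q) →
      ∃ k, IsClosedImmersion ((D.obj k).hom ≫ q) := by
    intro T q _ _ _ hq
    let t : F ⟶ (Functor.const ιᵒᵖ).obj T :=
      { app := fun k => (D.obj k).hom ≫ q
        naturality := fun k l f => by
          change (D.map f).left ≫ (D.obj l).hom ≫ q = ((D.obj k).hom ≫ q) ≫ 𝟙 T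
          rw [← Category.assoc, Over.w, Category.comp_id] }
    haveI : ∀ k, LocallyOfFiniteType (t.app k) := fun k => by
      haveI : IsClosedImmersion (D.obj k).hom := hDc k
      change LocallyOfFiniteType ((D.obj k).hom ≫ q)
      infer_instance
    haveI : IsClosedImmersion (cF.π.app k₀ ≫ t.app k₀) := by
      change IsClosedImmersion ((c.π.app k₀).left ≫ (D.obj k₀).hom ≫ q)
      rw [← Category.assoc, Over.w]
      change IsClosedImmersion (c.pt.hom ≫ q)
      rw [← hec, Category.assoc]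
      haveI : IsIso ec.hom.left := inferInstanceAs (IsIso ((Over.forget X₃).map ec.hom))
      haveI := hq
      infer_instance
    exact Groth.Agent.S0594.result T F t cF hcF k₀
  obtain ⟨k1, hk1⟩ := key (j ≫ pullback.fst b₁ b₂) (by rw [← Category.assoc, he', he₀1]; infer_instance)
  obtain ⟨k2, hk2⟩ := key (j ≫ pullback.snd b₁ b₂) (by rw [← Category.assoc, he', he₀2]; infer_instance)
  let k := IsCofiltered.min k1 k2
  haveI := hDc k
  haveI := (hD k).2
  let w : (D.obj k).left ⟶ X₃ := (D.obj k).hom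
  haveI : IsClosedImmersion w := hDc k
  haveI : LocallyOfFinitePresentation w := (hD k).2
  have hw : w.ker ≤ supportedOn (i.ker.comap (j ≫ pullback.fst b₁ b₂ ≫ b₁)) := by
    rw [← hker]
    have h : (ec.inv.left ≫ (c.π.app k).left) ≫ w = e' := by
      rw [Category.assoc, Over.w (c.π.app k)]
      exact Over.w ec.inv
    rw [← h]
    exact Scheme.Hom.le_ker_comp _ _
  have hsq' := (Groth.Agent.S8983.result hsq w
    (IsPullback.of_hasPullback (pullback.fst (j ≫ pullback.fst b₁ b₂ ≫ b₁) i) w)).1 hw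
  have hleg : ∀ {T : Scheme.{u}} (q : X₃ ⟶ T) (k' : ιᵒᵖ) (f : k ⟶ k'),
      IsClosedImmersion ((D.obj k').hom ≫ q) → IsClosedImmersion (w ≫ q) := by
    intro T q k' f h
    haveI := h
    haveI : IsClosedImmersion (F.map f) := inferInstance
    have hf : w ≫ q = (D.map f).left ≫ (D.obj k').hom ≫ q := by
      rw [← Category.assoc, Over.w]
    rw [hf]
    exact MorphismProperty.comp_mem _ _ _ ‹IsClosedImmersion (F.map f)› h
  exact ⟨_, (D.obj k).left, _, _, _, w ≫ j ≫ pullback.fst b₁ b₂, w ≫ j ≫ pullback.snd b₁ b₂,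
    hsq', hleg _ k1 (IsCofiltered.minToLeft k1 k2) hk1, hleg _ k2 (IsCofiltered.minToRight k1 k2) hk2,
    by simp only [Category.assoc], by simp only [Category.assoc, ← pullback.condition]⟩

end Groth.Agent.S8985
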