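import Groth.Statements.S8987
import Groth.Agent.H18HTop.ProperSquare
import Groth.Agent.S4599

set_option autoImplicit false
set_option backward.isDefEq.respectTransparency false
universe u
open HTop

namespace Groth.Agent.S8987

open CategoryTheory CategoryTheory.Limits AlgebraicGeometry Opposite in
/-- An h sheaf on schemes over S turns every almost blow up square of S-schemes into a cartesian square
of sets of sections. -/
theorem result (S : Scheme.{u}) (F : HTop.ShH S) {E Z X' X : Over S} (e : E ⟶ X') (π : E ⟶ Z) (b : X' ⟶ X) (i : Z ⟶ X) (h : HTop.IsAlmostBlowUpSquare e.left π.left b.left i.left) (t : F.obj.obj (op Z)) (s' : F.obj.obj (op X')) (hts : F.obj.map π.op t = F.obj.map e.op s') : ∃! s : F.obj.obj (op X), F.obj.map i.op s = t ∧ F.obj.map b.op s = s' := by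
  haveI := h.isClosedImmersion
  haveI := h.isProper
  haveI := h.finitePresentation
  let U : X.left.Opens := ⟨(Set.range i.left.base)ᶜ, i.left.isClosedEmbedding.isClosed_range.isOpen_compl⟩
  exact Groth.Agent.H18HTop.cartesian_of_properCovers (Groth.Agent.H18HTop.properCovers_Jh S) e π b i
    h.finitePresentation h.finitePresentation_base (Groth.Agent.S4599.result b.left) h.isPullback U rfl
    (Groth.Agent.H18HTop.isIso_of_supportedOn b.left i.left h.isBlowUp U rfl) t s' hts

end Groth.Agent.S8987
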