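import Groth.Statements.S8990
import Groth.Agent.H18HTop.ProperSquare
import Groth.Agent.H26Blow.Proper
import Groth.Agent.H7Lim.IdealDescent

set_option autoImplicit false
set_option backward.isDefEq.respectTransparency false
universe u
open HTop

namespace Groth.Agent.S8990

open CategoryTheory CategoryTheory.Limits AlgebraicGeometry Opposite in
/-- A ph sheaf on schemes over S turns every blow up square (centre a closed subscheme of finite
presentation, X' → X the blowing up, E the inverse image of the centre) into a cartesian square of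
sets of sections. -/
theorem result (S : Scheme.{u}) (F : HTop.ShPh S) {E Z X' X : Over S} (e : E ⟶ X') (π : E ⟶ Z) (b : X' ⟶ X) (i : Z ⟶ X) [IsClosedImmersion i.left] [LocallyOfFinitePresentation i.left] (hb : BlowUp.IsBlowUp b.left i.left.ker) (hE : IsPullback e.left π.left b.left i.left) (t : F.obj.obj (op Z)) (s' : F.obj.obj (op X')) (hts : F.obj.map π.op t = F.obj.map e.op s') : ∃! s : F.obj.obj (op X), F.obj.map i.op s = t ∧ F.obj.map b.op s = s' := by
  haveI : IsProper b.left := Groth.Agent.H26Blow.isProper_of_isBlowUp hb fun x => by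
    obtain ⟨_, ⟨U, hU, rfl⟩, hx, -⟩ :=
      X.left.isBasis_affineOpens.exists_subset_of_mem_open (Set.mem_univ x) isOpen_univ
    exact ⟨⟨U, hU⟩, hx, Groth.Agent.H7Lim.ker_fg_of_locallyOfFinitePresentation i.left ⟨U, hU⟩⟩
  let U : X.left.Opens := ⟨(Set.range i.left.base)ᶜ, i.left.isClosedEmbedding.isClosed_range.isOpen_compl⟩
  refine Groth.Agent.H18HTop.cartesian_of_properCovers (Groth.Agent.H18HTop.properCovers_Jph S) e π b i
    inferInstance inferInstance inferInstance hE U rfl ?_ t s' hts
  refine _root_.H29Blow.isIso_morphismRestrict hb U fun x hx h => hx ?_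
  rw [← SetLike.mem_coe, Scheme.Hom.support_ker, i.left.isClosedEmbedding.isClosed_range.closure_eq] at h
  exact h

end Groth.Agent.S8990
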