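import Groth.Statements.S8992
import Groth.Agent.H18Subint.Roots

set_option autoImplicit false
universe u
open HTop

namespace Groth.Agent.S8992

/-- An algebra over the prime field with p elements is absolutely weakly normal if and only if its p-th
power map is bijective (the algebra is perfect). -/
theorem result (p : ℕ) [Fact p.Prime] (A : Type u) [CommRing A] [Algebra (ZMod p) A] : HTop.IsAWNRing A ↔ PerfectRing A p := by
  rcases subsingleton_or_nontrivial A with hA | hA
  · exact ⟨fun _ => ⟨⟨fun a b _ => Subsingleton.elim a b, fun a => ⟨a, Subsingleton.elim _ _⟩⟩⟩,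
      fun _ => ⟨fun x y _ => ⟨0, ⟨Subsingleton.elim _ _, Subsingleton.elim _ _⟩, fun _ _ => Subsingleton.elim _ _⟩,
        fun q _ x y _ => ⟨0, ⟨Subsingleton.elim _ _, Subsingleton.elim _ _⟩, fun _ _ => Subsingleton.elim _ _⟩⟩⟩
  haveI : CharP A p := (CharP.charP_iff_prime_eq_zero Fact.out).mpr (by
    rw [← map_natCast (algebraMap (ZMod p) A) p, ZMod.natCast_self, map_zero])
  exact ⟨fun h => ⟨Groth.Agent.H18Subint.surjective_frobenius_of_isAWNRing p h⟩,
    fun h => Groth.Agent.H18Subint.isAWNRing_of_perfect p⟩

end Groth.Agent.S8992
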