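import Groth.Statements.S8993
import Groth.Agent.H18Subint.Rings

set_option autoImplicit false
universe u
open HTop

namespace Groth.Agent.S8993

/-- For a ring A of prime characteristic p, the map from A to the direct limit of A along Frobenius (the
perfect closure) is an absolute weak normalization of A. (The published statement also identifies,
over a base of characteristic p, the h sheafification of the structure sheaf on quasi-compact
quasi-separated objects with this colimit; that part is not stated here.) -/
theorem result (p : ℕ) [Fact p.Prime] (A : Type u) [CommRing A] [CharP A p] : HTop.IsRingAWN (PerfectClosure.of A p) := by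
  haveI : Nontrivial A := CharP.nontrivial_of_char_ne_one (R := A) (Fact.out : p.Prime).ne_one
  let φ := PerfectClosure.of A p
  letI := φ.toAlgebra
  haveI : CharP (PerfectClosure A p) p := PerfectClosure.instCharP A p
  haveI : PerfectRing (PerfectClosure A p) p := inferInstance
  refine Groth.Agent.H18Subint.isRingAWN_of_isAWNRing φ ?_ (Groth.Agent.H18Subint.isAWNRing_of_perfect p)
  have hpow : ∀ x : PerfectClosure A p, ∃ (n : ℕ) (a : A), φ a = x ^ p ^ n := fun x =>
    PerfectClosure.induction_on x fun ⟨n, a⟩ => ⟨n, a, by
      rw [← iterate_frobenius, PerfectClosure.iterate_frobenius_mk]⟩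
  have hi : Algebra.IsIntegral A (PerfectClosure A p) := ⟨fun x => by
    obtain ⟨n, a, ha⟩ := hpow x
    exact ⟨Polynomial.X ^ p ^ n - Polynomial.C a,
      Polynomial.monic_X_pow_sub_C a (pow_ne_zero _ (Fact.out : p.Prime).ne_zero), by
        simp only [Polynomial.eval₂_sub, Polynomial.eval₂_X_pow, Polynomial.eval₂_C]
        exact sub_eq_zero.mpr ha.symm⟩⟩
  haveI := hi
  refine (Groth.Agent.H18Subint.isUnivHomeo_iff' φ).mpr ⟨hi, fun L _ ψ₁ ψ₂ e => ?_,
    Groth.Agent.H17.UnivHomeoAlg.lf_of_integral fun a ha => ?_⟩
  · have hp0 : ((p : ℕ) : L) = 0 := by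
      rw [← map_natCast (ψ₁.comp φ) p, CharP.cast_eq_zero, map_zero]
    haveI : CharP L p := (CharP.charP_iff_prime_eq_zero Fact.out).mpr hp0
    refine RingHom.ext fun x => ?_
    obtain ⟨n, a, ha⟩ := hpow x
    refine (iterateFrobenius L p n).injective ?_
    rw [iterateFrobenius_def, iterateFrobenius_def, ← map_pow, ← map_pow, ← ha]
    exact DFunLike.congr_fun e a
  · rw [RingHom.algebraMap_toAlgebra] at ha
    have h := (PerfectClosure.mk_eq_iff A p (0, a) (0, 0)).mp ha
    obtain ⟨z, hz⟩ := h
    refine ⟨p ^ z, ?_⟩
    simpa [iterate_frobenius, (Fact.out : p.Prime).ne_zero] using hz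

end Groth.Agent.S8993
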