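import Groth.Statements.S8996
import Groth.Agent.H8Norm.FreeDimOne

set_option autoImplicit false
universe u
open FlatMor

namespace Groth.Agent.S8996

open CategoryTheory CategoryTheory.Limits AlgebraicGeometry in
/-- Over a normal Noetherian base S, a finite locally free module on a flat proper S-scheme X with f_*
O_X = O_S, which becomes free after base change to the local scheme Spec O_{S,s} at every point s of
S whose local ring has dimension at most one, is isomorphic to the pullback of a finite locally free
module on S. (The published statement asks freeness only at the points whose local ring has
dimension exactly one; over S = Spec k, with X the projective line over k and E its twisting sheaf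
O(1), that condition is empty and the conclusion fails. This row also asks freeness at the points of
dimension zero, which the proof uses and which the conclusion forces.) -/
theorem result {X S : Scheme.{u}} (f : X ⟶ S) [Flat f] [IsProper f] (hO : ∀ U : S.Opens, Function.Bijective (f.app U).hom) [IsNoetherian S] (hS : Pi1.IsNormalScheme S) (E : X.Modules) (hE : FlatMod.IsFinLocFree E) (h1 : ∀ s : S, ringKrullDim (S.presheaf.stalk s) ≤ 1 → ∃ r : ℕ, Nonempty ((Scheme.Modules.pullback (pullback.fst f (S.fromSpecStalk s))).obj E ≅ FlatMod.freeMod (pullback f (S.fromSpecStalk s)) r)) : ∃ G : S.Modules, FlatMod.IsFinLocFree G ∧ Nonempty (E ≅ (Scheme.Modules.pullback f).obj G) := by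
  exact H8Norm.FreeDimOne.exists_finLocFree f hO hS E hE h1

end Groth.Agent.S8996
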