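import Groth.Statements.S8997
import Groth.Agent.H7Flat.ModMax

set_option autoImplicit false
universe u
open FlatMor

namespace Groth.Agent.S8997

open IsLocalRing TensorProduct in
/-- For a local homomorphism A → B of local rings essentially of finite type, a B-linear map from a
finite B-module N to an A-flat B-module M which is injective modulo the maximal ideal of A is
A-universally injective, and N is then finitely presented over B and flat over A. -/
theorem result {A B : Type u} [CommRing A] [IsLocalRing A] [CommRing B] [IsLocalRing B] [Algebra A B] [IsLocalHom (algebraMap A B)] [Algebra.EssFiniteType A B] {N M : Type u} [AddCommGroup N] [Module B N] [Module A N] [IsScalarTower A B N] [Module.Finite B N] [AddCommGroup M] [Module B M] [Module A M] [IsScalarTower A B M] [Module.Flat A M] (u : N →ₗ[B] M) (hu : Function.Injective ((u.restrictScalars A).lTensor (ResidueField A))) : FlatCA.UnivInj A (u.restrictScalars A) ∧ Module.FinitePresentation B N ∧ Module.Flat A N := by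
  have key : ∀ x, u.restrictScalars A x ∈ IsLocalRing.maximalIdeal A • (⊤ : Submodule A M) →
      x ∈ IsLocalRing.maximalIdeal A • (⊤ : Submodule A N) := fun x hx => by
    have h1 : (u.restrictScalars A).lTensor (A ⧸ IsLocalRing.maximalIdeal A)
        ((1 : A ⧸ IsLocalRing.maximalIdeal A) ⊗ₜ x) = 0 := by
      rw [LinearMap.lTensor_tmul, ← TensorProduct.quotTensorEquivQuotSMul_symm_mk,
        LinearEquiv.map_eq_zero_iff, Submodule.Quotient.mk_eq_zero]
      exact hx
    have h' : Function.Injective ((u.restrictScalars A).lTensor (A ⧸ IsLocalRing.maximalIdeal A)) := hu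
    have h2 := h' (h1.trans (map_zero _).symm)
    rwa [← TensorProduct.quotTensorEquivQuotSMul_symm_mk, LinearEquiv.map_eq_zero_iff,
      Submodule.Quotient.mk_eq_zero] at h2
  obtain ⟨h1, h2, h3⟩ := H7Flat.ModMax.main (B := B) (u.restrictScalars A) key
  exact ⟨fun Q _ _ => (LinearMap.lTensor_inj_iff_rTensor_inj _ _).mpr (h1 Q), h2, h3⟩

end Groth.Agent.S8997
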