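import Groth.Statements.S9000
import Groth.Agent.H7Flat.ImpurityBaseChange
import Groth.Agent.H9Hens.LocalHens
import Groth.Agent.H9Hens.Pair
import Groth.Agent.S0508
import Groth.Agent.S0509
import Mathlib.RingTheory.Unramified.Finite
import Mathlib.RingTheory.Ideal.GoingDown

set_option backward.isDefEq.respectTransparency false
set_option maxHeartbeats 1000000
set_option linter.style.haveILetI false
open TensorProduct
-- import your own Groth.Agent.* helpers here

set_option autoImplicit false
universe u
open FlatMor

namespace Groth.Agent.S9000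

open IsLocalRing in
/-- For Spec B → Spec A of finite type, a finite B-module N and a prime p of A, an impurity of N above p
over an elementary etale neighbourhood of (A, p) yields an impurity of N above p over the
henselization of the local ring of A at p, based at its closed point. (The other implications of the
published equivalence are separate results: from the henselization to an elementary etale
neighbourhood, and between elementary etale neighbourhoods and base rings quasi-finite at the
point.) -/
theorem result {A B : Type u} [CommRing A] [CommRing B] [Algebra A B] [Algebra.FiniteType A B] (N : Type u) [AddCommGroup N] [Module B N] [Module.Finite B N] (p : Ideal A) [p.IsPrime] (h : FlatCA.HasImpurity A B N p (fun A' _ _ t => ∃ _ : t.IsPrime, FlatCA.IsEtaleNhd A A' p t)) : FlatCA.HasImpurity A B N p (fun A' _ _ t => ∃ (_ : IsLocalRing A') (_ : Algebra (Localization.AtPrime p) A') (_ : IsScalarTower A (Localization.AtPrime p) A') (_ : IsLocalHom (algebraMap (Localization.AtPrime p) A')), Hensel.IsHenselization (Localization.AtPrime p) A' ∧ t = maximalIdeal A')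 := by
  obtain ⟨A', B', N', _, _, _, _, _, _, _, _, _, _, _, _, _, _, f, t', t, _, _, P, _, himp, _, het⟩ := h
  obtain ⟨hetA, hle, hbij⟩ := het
  haveI := hetA
  haveI := hle
  obtain ⟨H, _, _, _, _, -, -, hH⟩ :=
    Groth.Agent.H9Hens.exists_isHenselization_colim (R := Localization.AtPrime p)
  haveI := hH.henselian
  letI : Algebra A H := ((algebraMap (Localization.AtPrime p) H).comp (algebraMap A (Localization.AtPrime p))).toAlgebra
  haveI : IsScalarTower A (Localization.AtPrime p) H := IsScalarTower.of_algebraMap_eq fun _ => rfl
  have hp : (maximalIdeal H).comap (algebraMap A H) = p := by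
    rw [IsScalarTower.algebraMap_eq A (Localization.AtPrime p) H, ← Ideal.comap_comap,
      IsLocalRing.maximalIdeal_comap (algebraMap (Localization.AtPrime p) H)]
    exact Localization.AtPrime.comap_maximalIdeal
  -- the residue map of the etale neighbourhood
  let k : A →ₐ[A] H ⧸ maximalIdeal H := Algebra.ofId A _
  have hk1 : p ≤ RingHom.ker k := fun a ha => by
    rw [RingHom.mem_ker]
    change Ideal.Quotient.mk _ (algebraMap A H a) = 0
    rw [Ideal.Quotient.eq_zero_iff_mem]
    exact hp.ge ha
  have hk2 : p.primeCompl ≤ (IsUnit.submonoid (H ⧸ maximalIdeal H)).comap k := fun a ha => by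
    change IsUnit (Ideal.Quotient.mk _ (algebraMap A H a))
    refine IsUnit.map _ (IsLocalRing.notMem_maximalIdeal.1 fun h => ha ?_)
    exact hp.le h
  let ι : p.ResidueField →ₐ[A] H ⧸ maximalIdeal H := Ideal.ResidueField.liftₐ p k hk1 hk2
  let e := AlgEquiv.ofBijective _ hbij
  let ρ : A' →ₐ[A] H ⧸ maximalIdeal H :=
    ι.comp (e.symm.toAlgHom.comp (IsScalarTower.toAlgHom A A' t.ResidueField))
  have hρ : ∀ x, ρ x = 0 ↔ x ∈ t := fun x => by
    change ι (e.symm (algebraMap A' t.ResidueField x)) = 0 ↔ _
    rw [map_eq_zero_iff ι ι.toRingHom.injective, map_eq_zero_iff _ e.symm.injective]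
    exact Ideal.algebraMap_residueField_eq_zero
  let σ : H ⊗[A] A' →ₐ[H] H ⧸ maximalIdeal H :=
    Algebra.TensorProduct.lift (Algebra.ofId H _) ρ fun _ _ => mul_comm _ _
  obtain ⟨τ, hτ⟩ := Groth.Agent.H9Hens.exists_algHom_lift (A := H) (I := maximalIdeal H) σ
  let χ : A' →ₐ[A] H := (τ.restrictScalars A).comp Algebra.TensorProduct.includeRight
  letI : Algebra A' H := χ.toRingHom.toAlgebra
  haveI : IsScalarTower A A' H := IsScalarTower.of_algebraMap_eq fun a => (χ.commutes a).symm
  have ht : (maximalIdeal H).comap (algebraMap A' H) = t := by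
    ext x
    rw [Ideal.mem_comap, ← hρ x, ← Ideal.Quotient.eq_zero_iff_mem]
    have := AlgHom.congr_fun hτ (1 ⊗ₜ x)
    rw [AlgHom.comp_apply, Algebra.TensorProduct.lift_tmul, map_one, one_mul] at this
    rw [← this]
    rfl
  haveI : Module.FaithfullyFlat (Localization.AtPrime p) H := Groth.Agent.S0509.result _ H
  haveI : Module.Flat A H := Module.Flat.trans A (Localization.AtPrime p) H
  haveI : Module.Flat A' H := Algebra.FormallyUnramified.flat_of_restrictScalars A A' H
  haveI : (maximalIdeal H).LiesOver t := ⟨ht.symm⟩
  obtain ⟨hpush, hbc, htt, hrest⟩ := id himp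
  obtain ⟨t'₂, ht'₂le, ht'₂p, ht'₂o⟩ :=
    Ideal.exists_ideal_le_liesOver_of_le (p := t') (q := t) (maximalIdeal H) htt
  haveI := ht'₂p
  haveI := ht'₂o
  exact Groth.Agent.H7Flat.ImpurityBaseChange.hasImpurity_baseChange himp H t'₂ (maximalIdeal H) ht'₂le _
    ⟨inferInstance, inferInstance, inferInstance, inferInstance, hH, rfl⟩

end Groth.Agent.S9000
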