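import Groth.Statements.S8998
import Groth.Agent.H7Flat.ImpurityRebase
import Groth.Agent.H7Flat.ImpurityBaseChange
import Groth.Agent.H8Props.PureNoeth.Basic
import Groth.Agent.S1247
import Groth.Agent.S1246
import Groth.Agent.S1248
import Groth.Agent.S9000

set_option maxHeartbeats 1000000
set_option linter.style.haveILetI false
open TensorProduct IsLocalRing
-- import your own Groth.Agent.* helpers here

set_option autoImplicit false
universe u
open FlatMor

namespace Groth.Agent.S8998

theorem aux {A B : Type u} [CommRing A] [CommRing B] [Algebra A B] [Algebra.FiniteType A B]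
    (N : Type u) [AddCommGroup N] [Module B N] [Module.Finite B N] (p : Ideal A) [p.IsPrime]
    [IsNoetherianRing (Localization.AtPrime p)] {Bp Np : Type u} [CommRing Bp] [Algebra B Bp]
    [Algebra (Localization.AtPrime p) Bp] [Algebra A Bp] [IsScalarTower A B Bp]
    [IsScalarTower A (Localization.AtPrime p) Bp] [Algebra.IsPushout A B (Localization.AtPrime p) Bp]
    [AddCommGroup Np] [Module Bp Np] [Module B Np] [IsScalarTower B Bp Np] {f : N →ₗ[B] Np}
    (hf : IsBaseChange Bp f)
    (h2 : FlatCA.HasImpurity (Localization.AtPrime p) Bp Np (maximalIdeal (Localization.AtPrime p))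
      (fun _ _ _ _ => True)) :
    FlatCA.HasImpurity A B N p (fun A'' _ _ s => ∃ (_ : IsLocalRing A'') (_ : Algebra (Localization.AtPrime p) A'')
      (_ : IsScalarTower A (Localization.AtPrime p) A'') (_ : IsLocalHom (algebraMap (Localization.AtPrime p) A'')),
      Hensel.IsHenselization (Localization.AtPrime p) A'' ∧ s = maximalIdeal A'') := by
  haveI : (maximalIdeal (Localization.AtPrime p)).LiesOver p :=
    ⟨(Localization.AtPrime.under_maximalIdeal (I := p)).symm⟩
  haveI : Algebra.IsPushout A (Localization.AtPrime p) B Bp := Algebra.IsPushout.symm inferInstance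
  haveI : Algebra.FiniteType (Localization.AtPrime p) Bp :=
    Algebra.FiniteType.equiv inferInstance (Algebra.IsPushout.equiv A (Localization.AtPrime p) B Bp)
  haveI : Module.Finite Bp Np := Module.Finite.of_surjective (hf.equiv : Bp ⊗[B] N →ₗ[Bp] Np) hf.equiv.surjective
  refine Groth.Agent.H7Flat.ImpurityRebase.hasImpurity_restrict hf (maximalIdeal (Localization.AtPrime p)) _ _ ?_
    (Groth.Agent.S9000.result Np (maximalIdeal (Localization.AtPrime p))
      (Groth.Agent.S1246.result Np (maximalIdeal (Localization.AtPrime p))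
        (Groth.Agent.S1247.result Np (maximalIdeal (Localization.AtPrime p)) h2)))
  rintro A'' _ _ _ _ s _ - ⟨hloc, alg, htow, hlocal, hH, rfl⟩
  haveI := hloc
  obtain ⟨hl, hH'⟩ := Groth.Agent.H8Props.PureNoeth.isHenselization_of_atPrime (Localization.AtPrime p) A''
  exact ⟨inferInstance, inferInstance, inferInstance, hl, hH', rfl⟩

theorem aux2 {A B : Type u} [CommRing A] [CommRing B] [Algebra A B] [Algebra.FiniteType A B]
    (N : Type u) [AddCommGroup N] [Module B N] [Module.Finite B N] (p : Ideal A) [p.IsPrime]
    [IsNoetherianRing (Localization.AtPrime p)] (Bp Np : Type u) [CommRing Bp] [Algebra B Bp]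
    [Algebra (Localization.AtPrime p) Bp] [Algebra A Bp] [IsScalarTower A B Bp]
    [IsScalarTower A (Localization.AtPrime p) Bp] [Algebra.IsPushout A B (Localization.AtPrime p) Bp]
    [AddCommGroup Np] [Module Bp Np] [Module B Np] [IsScalarTower B Bp Np] (f : N →ₗ[B] Np)
    (hf : IsBaseChange Bp f) (h : FlatCA.IsPureAlong A B N p) : FlatCA.IsUnivPureAlong A B N p := by
  intro A' B' N' _ _ _ _ _ _ _ _ _ _ _ _ _ _ g t' t _ _ P _ himp
  obtain ⟨A₃, B₃, N₃, _, _, _, _, _, _, _, _, _, _, _, _, _, _, g₃, t₃', t₃, _, _, P₃, _, himp₃, _, het₃⟩ :=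
    Groth.Agent.S1248.result N p
      (aux N p hf (Groth.Agent.H8Props.PureNoeth.hasImpurity_localization himp hf))
  exact h A₃ B₃ N₃ g₃ t₃' t₃ P₃ het₃ himp₃

theorem exists_model {A B : Type u} [CommRing A] [CommRing B] [Algebra A B] (N : Type u) [AddCommGroup N]
    [Module B N] (R : Type u) [CommRing R] [Algebra A R] :
    ∃ (BR NR : Type u) (_ : CommRing BR) (_ : Algebra B BR) (_ : Algebra R BR) (_ : Algebra A BR)
      (_ : IsScalarTower A B BR) (_ : IsScalarTower A R BR) (_ : Algebra.IsPushout A B R BR)
      (_ : AddCommGroup NR) (_ : Module BR NR) (_ : Module B NR) (_ : IsScalarTower B BR NR)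
      (f : N →ₗ[B] NR), IsBaseChange BR f := by
  letI : Algebra R (B ⊗[A] R) := Algebra.TensorProduct.rightAlgebra
  haveI : IsScalarTower A R (B ⊗[A] R) := inferInstance
  exact ⟨B ⊗[A] R, (B ⊗[A] R) ⊗[B] N, inferInstance, inferInstance, inferInstance, inferInstance,
    inferInstance, inferInstance, inferInstance, inferInstance, inferInstance, inferInstance, inferInstance,
    TensorProduct.mk B (B ⊗[A] R) N 1, TensorProduct.isBaseChange B N (B ⊗[A] R)⟩

/-- For an affine finite type morphism Spec B → Spec A: if the local ring of A at the prime p is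
Noetherian, then a finite B-module is pure along the fibre over p if and only if it is universally
pure along it. -/
theorem result {A B : Type u} [CommRing A] [CommRing B] [Algebra A B] [Algebra.FiniteType A B] (N : Type u) [AddCommGroup N] [Module B N] [Module.Finite B N] (p : Ideal A) [p.IsPrime] [IsNoetherianRing (Localization.AtPrime p)] : FlatCA.IsPureAlong A B N p ↔ FlatCA.IsUnivPureAlong A B N p := by
  refine ⟨fun h => ?_, fun h A' B' N' _ _ _ _ _ _ _ _ _ _ _ _ _ _ g t' t _ _ P _ _ himp =>
    h A' B' N' g t' t P himp⟩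
  obtain ⟨Bp, Np, _, _, _, _, _, _, _, _, _, _, _, f, hf⟩ := exists_model (A := A) (B := B) N (Localization.AtPrime p)
  exact aux2 N p Bp Np f hf h

end Groth.Agent.S8998
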