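import Groth.Statements.S8999
import Groth.Agent.H8Props.PureClosed.Main
-- import your own Groth.Agent.* helpers here

set_option autoImplicit false
universe u
open FlatMor

namespace Groth.Agent.S8999

/-- For affine finite type schemes over Spec A: purity and universal purity along a fibre of a finite
module are unchanged when the module is pushed forward along a closed immersion Spec C → Spec B (a
surjective algebra map B → C). -/
theorem result {A B C : Type u} [CommRing A] [CommRing B] [CommRing C] [Algebra A B] [Algebra B C] [Algebra A C] [IsScalarTower A B C] [Algebra.FiniteType A B] (hBC : Function.Surjective (algebraMap B C)) (N : Type u) [AddCommGroup N] [Module C N] [Module B N] [IsScalarTower B C N] [Module.Finite C N] (p : Ideal A) [p.IsPrime] : (FlatCA.IsPureAlong A C N p ↔ FlatCA.IsPureAlong A B N p) ∧ (FlatCA.IsUnivPureAlong A C N p ↔ FlatCA.IsUnivPureAlong A B N p) := by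
  have key : ∀ Q, FlatCA.HasImpurity A B N p Q ↔ FlatCA.HasImpurity A C N p Q := fun Q =>
    Groth.Agent.H8Props.PureClosed.hasImpurity_iff hBC Q
  constructor
  · constructor
    · intro h A' B' N' _ _ _ _ _ _ _ _ _ _ _ _ _ _ g t' t _ _ P _ het himp
      obtain ⟨A₂, B₂, N₂, _, _, _, _, _, _, _, _, _, _, _, _, _, _, g₂, t₂', t₂, _, _, P₂, _, himp₂, _, het₂⟩ :=
        (key (fun A'' _ _ s => ∃ _ : s.IsPrime, FlatCA.IsEtaleNhd A A'' p s)).1
          ⟨A', B', N', inferInstance, inferInstance, inferInstance, inferInstance, inferInstance,
            inferInstance, inferInstance, inferInstance, inferInstance, inferInstance, inferInstance,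
            inferInstance, inferInstance, inferInstance, g, t', t, inferInstance, inferInstance, P,
            inferInstance, himp, inferInstance, het⟩
      exact h A₂ B₂ N₂ g₂ t₂' t₂ P₂ het₂ himp₂
    · intro h A' B' N' _ _ _ _ _ _ _ _ _ _ _ _ _ _ g t' t _ _ P _ het himp
      obtain ⟨A₂, B₂, N₂, _, _, _, _, _, _, _, _, _, _, _, _, _, _, g₂, t₂', t₂, _, _, P₂, _, himp₂, _, het₂⟩ :=
        (key (fun A'' _ _ s => ∃ _ : s.IsPrime, FlatCA.IsEtaleNhd A A'' p s)).2
          ⟨A', B', N', inferInstance, inferInstance, inferInstance, inferInstance, inferInstance,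
            inferInstance, inferInstance, inferInstance, inferInstance, inferInstance, inferInstance,
            inferInstance, inferInstance, inferInstance, g, t', t, inferInstance, inferInstance, P,
            inferInstance, himp, inferInstance, het⟩
      exact h A₂ B₂ N₂ g₂ t₂' t₂ P₂ het₂ himp₂
  · constructor
    · intro h A' B' N' _ _ _ _ _ _ _ _ _ _ _ _ _ _ g t' t _ _ P _ himp
      obtain ⟨A₂, B₂, N₂, _, _, _, _, _, _, _, _, _, _, _, _, _, _, g₂, t₂', t₂, _, _, P₂, _, himp₂, -⟩ :=
        (key (fun _ _ _ _ => True)).1
          ⟨A', B', N', inferInstance, inferInstance, inferInstance, inferInstance, inferInstance,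
            inferInstance, inferInstance, inferInstance, inferInstance, inferInstance, inferInstance,
            inferInstance, inferInstance, inferInstance, g, t', t, inferInstance, inferInstance, P,
            inferInstance, himp, trivial⟩
      exact h A₂ B₂ N₂ g₂ t₂' t₂ P₂ himp₂
    · intro h A' B' N' _ _ _ _ _ _ _ _ _ _ _ _ _ _ g t' t _ _ P _ himp
      obtain ⟨A₂, B₂, N₂, _, _, _, _, _, _, _, _, _, _, _, _, _, _, g₂, t₂', t₂, _, _, P₂, _, himp₂, -⟩ :=
        (key (fun _ _ _ _ => True)).2
          ⟨A', B', N', inferInstance, inferInstance, inferInstance, inferInstance, inferInstance,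
            inferInstance, inferInstance, inferInstance, inferInstance, inferInstance, inferInstance,
            inferInstance, inferInstance, inferInstance, g, t', t, inferInstance, inferInstance, P,
            inferInstance, himp, trivial⟩
      exact h A₂ B₂ N₂ g₂ t₂' t₂ P₂ himp₂

end Groth.Agent.S8999
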