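import Groth.Statements.S9001
import Groth.Agent.H7Flat.AssMeets
import Groth.Agent.S0589
-- import your own Groth.Agent.* helpers here

set_option autoImplicit false
universe u
open FlatMor

namespace Groth.Agent.S9001

open IsLocalRing TensorProduct in
/-- Over a henselian local ring R with maximal ideal m, for an R-algebra S and an S-module N which is
countably generated and Mittag-Leffler as an R-module, every associated prime q of the S-module N
⊗_R M (M any R-module) satisfies q + mS ≠ S. (Associated primes are taken here in the sense of
primes equal to the radical of the annihilator of some element, a larger set than the annihilators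
of elements used in the published statement; the published argument goes through once the chosen
element of q is replaced by a suitable power of it, so the row states this slightly stronger form.) -/
theorem result {R S : Type u} [CommRing R] [HenselianLocalRing R] [CommRing S] [Algebra R S] (N : Type u) [AddCommGroup N] [Module S N] [Module R N] [IsScalarTower R S N] (hcg : CAlg.IsCountablyGenerated R N) (hML : CAlg.IsMittagLeffler R N) (M : Type u) [AddCommGroup M] [Module R M] (q : Ideal S) [q.IsPrime] (hq : q ∈ associatedPrimes S (N ⊗[R] M)) : q ⊔ (maximalIdeal R).map (algebraMap R S) ≠ ⊤ := by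
  classical
  obtain ⟨ι, F, hint, hfp⟩ := Groth.Agent.S0589.result R N hcg hML
  obtain ⟨hqp, z, hz⟩ := hq
  intro htop
  obtain ⟨a, ha, f, hf, haf⟩ := Submodule.mem_sup.1 (htop ▸ Submodule.mem_top : (1 : S) ∈ q ⊔ _)
  have ha' : a ∈ q := ha
  rw [hz] at ha'
  obtain ⟨k, hk⟩ := ha'
  have hk' : a ^ k • z = 0 := by simpa using hk
  have hmem : 1 - a ^ k ∈ (maximalIdeal R).map (algebraMap R S) := by
    have h1 : (1 : S) - a ∈ (maximalIdeal R).map (algebraMap R S) := by
      rw [← haf, add_sub_cancel_left]; exact hf
    exact Ideal.mem_of_dvd _ (one_sub_dvd_one_sub_pow a k) h1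
  have hfix : (1 - a ^ k) • z = z := by rw [sub_smul, hk', one_smul, sub_zero]
  have hz0 : z = 0 := H7Flat.AssMeets.eq_zero_of_smul_eq_self_of_isInternal F
    hint.submodule_iSupIndep hint.submodule_iSup_eq_top (fun i => inferInstance) M z hmem hfix
  refine hqp.ne_top ((Ideal.eq_top_iff_one _).2 ?_)
  rw [hz]
  exact ⟨1, by simp [hz0]⟩

end Groth.Agent.S9001
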