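import Groth.Statements.S9004
import Groth.Agent.H8Props.FreeOverDVR.Main

set_option autoImplicit false
set_option linter.style.haveILetI false
universe u
open FlatMor

namespace Groth.Agent.S9004

open CategoryTheory CategoryTheory.Limits AlgebraicGeometry in
/-- For a proper morphism X → Spec R with geometrically connected fibres over a discrete valuation ring
R with uniformizer ϖ, there is an n such that a finite locally free module on X is free as soon as
its restrictions to the generic fibre and to the closed subscheme cut out by ϖ^n are free.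
(Geometrically connected is Mathlib's notion, which asks the geometric fibres to be nonempty and
connected.) -/
theorem result {R : Type u} [CommRing R] [IsDomain R] [IsDiscreteValuationRing R] (ϖ : R) (hϖ : Irreducible ϖ) {X : Scheme.{u}} (f : X ⟶ Spec (CommRingCat.of R)) [IsProper f] [GeometricallyConnected f] : ∃ n : ℕ, ∀ (E : X.Modules), FlatMod.IsFinLocFree E → (∃ r : ℕ, Nonempty ((Scheme.Modules.pullback (pullback.fst f (Spec.map (CommRingCat.ofHom (algebraMap R (FractionRing R)))))).obj E ≅ FlatMod.freeMod _ r)) → (∃ r : ℕ, Nonempty ((Scheme.Modules.pullback (pullback.fst f (Spec.map (CommRingCat.ofHom (Ideal.Quotient.mk (Ideal.span {ϖ ^ n})))))).obj E ≅ FlatMod.freeMod _ r)) → ∃ r : ℕ, Nonempty (E ≅ FlatMod.freeMod X r) := by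
  haveI : CompactSpace X := QuasiCompact.compactSpace_of_compactSpace f
  haveI : IsLocallyNoetherian X := LocallyOfFiniteType.isLocallyNoetherian f
  obtain ⟨a, hO⟩ := H8Props.FreeOverDVR.exists_torBO f ϖ
  obtain ⟨c, hc⟩ := H8Props.FreeOverDVR.exists_lift_bound f ϖ hO
  refine ⟨3 * a + c + 1, fun E hE => ?_⟩
  rw [← Ideal.span_singleton_pow]
  rintro ⟨rK, ⟨eK⟩⟩ ⟨r, ⟨en⟩⟩
  have hqc : Coh.IsQCoh E := H8Props.FinLocFree.isQCoh_of_isFinLocFree E hE
  have hq := H8Props.FreeOverDVR.isModPow_pullback f ϖ (3 * a + c + 1)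
  have hp := H8Props.FreeOverDVR.isGen_pullback f ϖ hϖ
  have hrange := fun x (hx : f x = IsLocalRing.closedPoint R) =>
    H8Props.FreeOverDVR.mem_range_of_closedPoint f hϖ (n := 3 * a + c + 1) (by omega) hx
  obtain ⟨ε, hε⟩ := H8Props.FreeOverDVR.exists_basis_of_iso en
  obtain ⟨δ', hδ'⟩ := H8Props.FreeOverDVR.exists_basis_of_iso eK
  refine ⟨r, ?_⟩
  let p := pullback.fst f (Spec.map (CommRingCat.ofHom (algebraMap R (FractionRing R))))
  obtain ⟨δ, hδ⟩ : ∃ δ : Fin r → Γ((Scheme.Modules.pullback p).obj E, ⊤), H28Pinch.IsBasisOn _ δ := by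
    rcases isEmpty_or_nonempty ↥(pullback f (Spec.map (CommRingCat.ofHom (algebraMap R (FractionRing R))))) with h | h
    · exact ⟨fun _ => 0, H28Pinch.isBasisOn_of_empty (fun x => (h.false x).elim) _⟩
    · obtain ⟨y⟩ := h
      obtain ⟨x₀, hsp, hx₀⟩ := H8Props.FreeOverDVR.exists_specializes f (p y)
      obtain ⟨y₁, rfl⟩ := hrange x₀ hx₀
      obtain ⟨U, s, b, hxU, -, hb⟩ := H8Props.FreeOverDVR.exists_chart hE _
      obtain rfl : r = rK := (H8Props.FreeOverDVR.rank_eq _ hqc hε hb y₁ hxU).trans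
        (H8Props.FreeOverDVR.rank_eq _ hqc hδ' hb y (hsp.mem_open U.isOpen hxU)).symm
      exact ⟨δ', hδ'⟩
  exact H8Props.FreeOverDVR.exists_free f hϖ hO hc hE hq hrange hε hp hδ

end Groth.Agent.S9004
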