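import Groth.Statements.S9006
import Groth.Agent.H18HTop.ValLimit
import Groth.Agent.S4600
import Groth.Agent.H18HTop.VCoverCrit
import Groth.Agent.H18HTop.VSheaf

set_option autoImplicit false
universe w u
open HTop

namespace Groth.Agent.S9006

open CategoryTheory CategoryTheory.Limits AlgebraicGeometry in
/-- A standard h covering of an affine scheme written as a cofiltered limit of affine schemes is, up to
isomorphism of families over the limit, the base change of a standard h covering of one of the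
schemes in the system. (The further parts of the published statement, on descending morphisms of
such coverings and equalities between them, are not stated here.) -/
theorem result {I : Type u} [SmallCategory I] [IsCofiltered I] (D : I ⥤ Scheme.{u}) [∀ i, IsAffine (D.obj i)] (c : Cone D) (hc : IsLimit c) [IsAffine c.pt] (V : PreZeroHypercover.{w} c.pt) (hV : HTop.IsStandardH V) : ∃ (i : I) (W : PreZeroHypercover.{w} (D.obj i)), HTop.IsStandardH W ∧ ∃ (σ : V.I₀ ≃ W.I₀) (e : ∀ j, V.X j ≅ pullback (c.π.app i) (W.f (σ j))), ∀ j, (e j).hom ≫ pullback.fst (c.π.app i) (W.f (σ j)) = V.f j := by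
  classical
  haveI := hV.finite_index
  haveI := hV.isAffine_obj
  obtain ⟨i₀⟩ : Nonempty I := IsCofiltered.nonempty
  haveI : ∀ {i j : I} (a : i ⟶ j), IsAffineHom (D.map a) := fun a => inferInstance
  obtain ⟨hcol⟩ := AlgebraicGeometry.nonempty_isColimit_Γ_mapCocone D c hc
  let E := D.op ⋙ Scheme.Γ
  let cc : Cocone E := Scheme.Γ.mapCocone c.op
  let n := Nat.card V.I₀
  let en : Fin n ≃ V.I₀ := (Finite.equivFin V.I₀).symm
  let B : Fin n → CommRingCat.{u} := fun k => Γ(V.X (en k), ⊤)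
  let φ : ∀ k, cc.pt ⟶ B k := fun k => (V.f (en k)).appTop
  have hfp : ∀ k, (φ k).hom.FinitePresentation := fun k => by
    haveI := hV.finitePresentation (en k)
    exact Scheme.Hom.finitePresentation_appTop (V.f (en k))
  -- descend each member
  have hdesc : ∀ k, ∃ (i : Iᵒᵖ) (Bi : CommRingCat.{u}) (φi : E.obj i ⟶ Bi) (β : Bi ⟶ B k),
      φi.hom.FinitePresentation ∧ IsPushout φi (cc.ι.app i) β (φ k) := by
    intro k
    letI : Algebra cc.pt (B k) := (φ k).hom.toAlgebra
    haveI : Algebra.FinitePresentation cc.pt (B k) := hfp k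
    obtain ⟨i, Bi, r1, a1, hBi, ⟨e⟩⟩ := Groth.Agent.S4600.result E cc hcol (B k)
    letI := r1
    letI := a1
    letI : Algebra (E.obj i) cc.pt := (cc.ι.app i).hom.toAlgebra
    refine ⟨i, CommRingCat.of Bi, CommRingCat.ofHom (algebraMap (E.obj i) Bi),
      CommRingCat.ofHom (e.symm.toRingEquiv.toRingHom.comp
        (Algebra.TensorProduct.includeRight : Bi →ₐ[E.obj i] _).toRingHom),
      RingHom.finitePresentation_algebraMap.mpr hBi, ?_⟩
    refine (CommRingCat.isPushout_tensorProduct (E.obj i) cc.pt Bi).flip.of_iso (Iso.refl _) (Iso.refl _)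
      (Iso.refl _) e.symm.toRingEquiv.toCommRingCatIso (by first | rfl | (simp; rfl) | simp) (by first | rfl | (simp; rfl) | simp)
      (by first | rfl | (simp; rfl) | simp) ?_
    ext x
    exact e.symm.commutes x
  choose i Bi φi β hBi hpo using hdesc
  obtain ⟨k₀, hk₀⟩ := IsFiltered.sup_objs_exists (insert (Opposite.op i₀) (Finset.univ.image i))
  let u : ∀ k, i k ⟶ k₀ := fun k =>
    (hk₀ (Finset.mem_insert_of_mem (Finset.mem_image_of_mem i (Finset.mem_univ k)))).some
  -- base change along a transition map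
  have hbc : ∀ (a b : Iᵒᵖ) (v : a ⟶ b) (k : Fin n) (Ba : CommRingCat.{u}) (φa : E.obj a ⟶ Ba)
      (βa : Ba ⟶ B k), φa.hom.FinitePresentation → IsPushout φa (cc.ι.app a) βa (φ k) →
      ∃ (Bb : CommRingCat.{u}) (φb : E.obj b ⟶ Bb) (r : Ba ⟶ Bb) (βb : Bb ⟶ B k),
        φb.hom.FinitePresentation ∧ IsPushout φb (cc.ι.app b) βb (φ k) ∧
        IsPushout φa (E.map v) r φb := by
    intro a b v k Ba φa βa hfa hpa
    let Bb := pushout (E.map v) φa
    let φb : E.obj b ⟶ Bb := pushout.inl _ _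
    let r : Ba ⟶ Bb := pushout.inr _ _
    have ht : IsPushout φa (E.map v) r φb := (IsPushout.of_hasPushout (E.map v) φa).flip
    let βb : Bb ⟶ B k := ht.desc βa (cc.ι.app b ≫ φ k)
      (by rw [← Category.assoc, cc.w, hpa.w])
    refine ⟨Bb, φb, r, βb, RingHom.IsStableUnderBaseChange.pushout_inl
      RingHom.finitePresentation_isStableUnderBaseChange RingHom.finitePresentation_respectsIso
      (E.map v) φa hfa, ?_, ht⟩
    refine IsPushout.of_top ?_ (ht.inr_desc _ _ _) ht
    rw [ht.inl_desc, cc.w]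
    exact hpa
  choose B₁ φ₁ r₁ β₁ hB₁ hpo₁ hr₁ using fun k =>
    hbc (i k) k₀ (u k) k (Bi k) (φi k) (β k) (hBi k) (hpo k)
  have hl : HTop.HasValLift (PreZeroHypercover.mk (Fin n) (fun k => Spec (B k))
      (fun k => Spec.map (φ k))) := by
    have h₀ := Groth.Agent.H18HTop.hasValLift_of_isVCover hV.isVCover
    refine Groth.Agent.H18HTop.ValLimit.hasValLift_map c.pt.isoSpec V _ (fun x => en.symm x)
      (fun x => eqToHom (congrArg V.X (en.apply_symm_apply x).symm) ≫ (V.X (en (en.symm x))).isoSpec.hom)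
      (fun x => ?_) h₀
    have key : ∀ y (hy : y = x), (eqToHom (congrArg V.X hy.symm) ≫ (V.X y).isoSpec.hom) ≫
        Spec.map (V.f y).appTop = V.f x ≫ c.pt.isoSpec.hom := by
      rintro _ rfl
      rw [eqToHom_refl, Category.id_comp]
      exact Scheme.isoSpec_hom_naturality _
    exact key _ (en.apply_symm_apply x)
  obtain ⟨j, f, hj⟩ := Groth.Agent.H18HTop.ValLimit.exists_stage_lift E cc hcol k₀ B₁ φ₁ hB₁ B φ
    (fun k => RingHom.FiniteType.of_finitePresentation (hfp k)) β₁ (fun k => (hpo₁ k).w) hl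
  choose B₂ φ₂ r₂ β₂ hB₂ hpo₂ hr₂ using fun k =>
    hbc k₀ j f k (B₁ k) (φ₁ k) (β₁ k) (hB₁ k) (hpo₁ k)
  have hl₂ : HTop.HasValLift (PreZeroHypercover.mk (Fin n) (fun k => Spec (B₂ k))
      (fun k => Spec.map (φ₂ k))) := by
    refine Groth.Agent.H18HTop.UltraPoint.hasValLift_of_algClosed B₂ φ₂ fun L _ _ W ρ => ?_
    obtain ⟨k, g, hg⟩ := hj L W ρ
    have hw : φ₁ k ≫ CommRingCat.ofHom g = E.map f ≫ CommRingCat.ofHom ρ := CommRingCat.hom_ext hg
    exact ⟨k, ((hr₂ k).desc (CommRingCat.ofHom g) (CommRingCat.ofHom ρ) hw).hom,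
      congrArg CommRingCat.Hom.hom ((hr₂ k).inr_desc (CommRingCat.ofHom g) (CommRingCat.ofHom ρ) hw)⟩
  let T := D.obj j.unop
  let W : PreZeroHypercover.{w} T := ⟨V.I₀, fun x => Spec (B₂ (en.symm x)),
    fun x => Spec.map (φ₂ (en.symm x)) ≫ T.isoSpec.inv⟩
  have hWl : HTop.HasValLift W := Groth.Agent.H18HTop.ValLimit.hasValLift_map T.isoSpec.symm _ W
    (fun k => en k) (fun k => eqToHom (by change Spec (B₂ k) = Spec (B₂ (en.symm (en k))); simp))
    (fun k => by
      change eqToHom _ ≫ Spec.map (φ₂ (en.symm (en k))) ≫ T.isoSpec.inv = Spec.map (φ₂ k) ≫ T.isoSpec.inv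
      generalize_proofs h
      revert h
      generalize hk' : en.symm (en k) = k'
      rw [Equiv.symm_apply_apply] at hk'
      subst hk'
      intro h
      rw [eqToHom_refl, Category.id_comp]) hl₂
  have hWfp : ∀ x, LocallyOfFinitePresentation (W.f x) := fun x => by
    haveI : LocallyOfFinitePresentation (Spec.map (φ₂ (en.symm x))) :=
      (LocallyOfFinitePresentation.SpecMap_iff _).2 (hB₂ _)
    exact inferInstanceAs (LocallyOfFinitePresentation (Spec.map (φ₂ (en.symm x)) ≫ T.isoSpec.inv))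
  haveI : Finite W.I₀ := inferInstanceAs (Finite V.I₀)
  have hsq : ∀ k, IsPullback (V.f (en k)) ((V.X (en k)).isoSpec.hom ≫ Spec.map (β₂ k))
      (c.π.app j.unop) (Spec.map (φ₂ k) ≫ T.isoSpec.inv) := by
    intro k
    have h := (isPullback_SpecMap_of_isPushout _ _ _ _ (hpo₂ k)).flip
    refine h.of_iso (V.X (en k)).isoSpec.symm c.pt.isoSpec.symm (Iso.refl _) T.isoSpec.symm ?_ ?_ ?_ ?_
    · change Spec.map (φ k) ≫ c.pt.isoSpec.inv = (V.X (en k)).isoSpec.inv ≫ V.f (en k)
      rw [Iso.eq_inv_comp, ← Category.assoc, Iso.comp_inv_eq]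
      exact Scheme.isoSpec_hom_naturality _
    · simp
    · change Spec.map (c.π.app j.unop).appTop ≫ T.isoSpec.inv = c.pt.isoSpec.inv ≫ c.π.app j.unop
      rw [Iso.eq_inv_comp, ← Category.assoc, Iso.comp_inv_eq]
      exact Scheme.isoSpec_hom_naturality _
    · simp
  have hsq' : ∀ x, ∃ e : V.X x ≅ pullback (c.π.app j.unop) (W.f x),
      e.hom ≫ pullback.fst (c.π.app j.unop) (W.f x) = V.f x := by
    intro x
    obtain ⟨k, rfl⟩ := en.surjective x
    have key : ∀ k', k' = k → ∃ e : V.X (en k) ≅ pullback (c.π.app j.unop) (Spec.map (φ₂ k') ≫ T.isoSpec.inv),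
        e.hom ≫ pullback.fst (c.π.app j.unop) (Spec.map (φ₂ k') ≫ T.isoSpec.inv) = V.f (en k) := by
      rintro k' rfl
      exact ⟨(hsq k').isoPullback, (hsq k').isoPullback_hom_fst⟩
    exact key _ (en.symm_apply_apply k)
  choose e he using hsq'
  exact ⟨j.unop, W, ⟨inferInstance, inferInstance, fun x => (inferInstance : IsAffine (Spec _)), hWfp,
    Groth.Agent.H18HTop.isVCover_of_isStandardV ⟨inferInstance, inferInstance,
      fun x => (inferInstance : IsAffine (Spec _)), hWl⟩⟩, Equiv.refl _, e, he⟩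

end Groth.Agent.S9006
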