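import Groth.Statements.S9007


set_option autoImplicit false
universe u
open FlatMor

namespace Groth.Agent.S9007

open CategoryTheory CategoryTheory.Limits AlgebraicGeometry in
/-- For a morphism f of compactifications of X over a quasi-compact quasi-separated S whose source
contains X as a dense open, the preimage under f of the image of X in the target is the image of X
in the source. -/
theorem result {X S : Scheme.{u}} [CompactSpace S] [QuasiSeparatedSpace S] (p : X ⟶ S) [IsSeparated p] [QuasiCompact p] [LocallyOfFiniteType p] {Y Y' : Scheme.{u}} (j : X ⟶ Y) (q : Y ⟶ S) [IsOpenImmersion j] [IsProper q] (h : j ≫ q = p) (j' : X ⟶ Y') (q' : Y' ⟶ S) [IsOpenImmersion j'] [IsProper q'] (h' : j' ≫ q' = p) (f : Y' ⟶ Y) (hf : f ≫ q = q') (hfj : j' ≫ f = j) (hd : Dense (Set.range j'.base)) : f ⁻¹ᵁ j.opensRange = j'.opensRange := by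
  ext y
  refine ⟨fun hy ↦ ?_, fun ⟨x, hx⟩ ↦ ⟨x, ?_⟩⟩
  · have : IsSeparated f := by
      have : IsSeparated (f ≫ q) := by rw [hf]; infer_instance
      exact IsSeparated.of_comp f q
    let W : Y'.Opens := f ⁻¹ᵁ j.opensRange
    let t : X ⟶ W := IsOpenImmersion.lift W.ι j' (by
      rw [Scheme.Opens.range_ι]
      rintro _ ⟨x, rfl⟩
      show f (j' x) ∈ j.opensRange
      rw [← Scheme.Hom.comp_apply, hfj]
      exact ⟨x, rfl⟩)
    have ht : t ≫ W.ι = j' := IsOpenImmersion.lift_fac _ _ _
    have h2 : t ≫ (f ∣_ j.opensRange) = j.isoOpensRange.hom := by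
      rw [← cancel_mono j.opensRange.ι, Category.assoc, morphismRestrict_ι, ← Category.assoc, ht,
        hfj, Scheme.Hom.isoOpensRange_hom_ι]
    have : IsClosedImmersion (t ≫ (f ∣_ j.opensRange)) := by rw [h2]; infer_instance
    have : IsClosedImmersion t := IsClosedImmersion.of_comp t (f ∣_ j.opensRange)
    by_contra hny
    have hcl := W.2.isOpenMap_subtype_val _ t.isClosedEmbedding.isClosed_range.isOpen_compl
    obtain ⟨_, ⟨w, hw, rfl⟩, x, hx⟩ := hd.inter_open_nonempty _ hcl ⟨y, ⟨y, hy⟩, fun ⟨x, hx⟩ ↦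
      hny ⟨x, by rw [← ht, Scheme.Hom.comp_apply, hx]; rfl⟩, rfl⟩
    refine hw ⟨x, Subtype.ext ?_⟩
    show W.ι (t x) = _
    rw [← Scheme.Hom.comp_apply, ht]
    exact hx
  · rw [← hx, ← Scheme.Hom.comp_apply, hfj]

end Groth.Agent.S9007
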