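import Groth.Statements.S9008
import Groth.Agent.H7Flat.ImpurityRebase
-- import your own Groth.Agent.* helpers here

set_option autoImplicit false
universe u
open FlatMor

namespace Groth.Agent.S9008

/-- For Spec B → Spec A affine of finite type: a finite B-module is universally pure along the fibre
over a prime p of A exactly when every base change of it along a ring map A → A' is pure along the
fibre over every prime of A' above p. -/
theorem result {A B : Type u} [CommRing A] [CommRing B] [Algebra A B] [Algebra.FiniteType A B] (N : Type u) [AddCommGroup N] [Module B N] [Module.Finite B N] (p : Ideal A) [p.IsPrime] : FlatCA.IsUnivPureAlong A B N p ↔ ∀ (A' B' N' : Type u) [CommRing A'] [CommRing B'] [Algebra A A'] [Algebra B B'] [Algebra A' B'] [Algebra A B'] [IsScalarTower A B B'] [IsScalarTower A A' B'] [Algebra.IsPushout A B A' B'] [AddCommGroup N'] [Module B' N'] [Module B N'] [IsScalarTower B B' N'] (g : N →ₗ[B] N'), IsBaseChange B' g → ∀ (p' : Ideal A') [p'.IsPrime], p'.LiesOver p → FlatCA.IsPureAlong A' B' N' p' := by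
  constructor
  · intro h A' B' N' _ _ _ _ _ _ _ _ _ _ _ _ _ g hg p' _ _ A'' B'' N'' _ _ _ _ _ _ _ _ _ _ _ _ _ _ g' t' t _ _ P _ het himp
    obtain ⟨A₂, B₂, N₂, _, _, _, _, _, _, _, _, _, _, _, _, _, _, g₂, t₂', t₂, _, _, P₂, _, himp₂, -⟩ :=
      Groth.Agent.H7Flat.ImpurityRebase.hasImpurity_restrict (p := p) hg p' (fun _ _ _ _ => True)
        (fun _ _ _ _ => True) (fun _ _ _ _ _ _ _ _ _ => trivial)
        ⟨A'', B'', N'', inferInstance, inferInstance, inferInstance, inferInstance, inferInstance,
          inferInstance, inferInstance, inferInstance, inferInstance, inferInstance, inferInstance,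
          inferInstance, inferInstance, inferInstance, g', t', t, inferInstance, inferInstance, P,
          inferInstance, himp, trivial⟩
    exact h A₂ B₂ N₂ g₂ t₂' t₂ P₂ himp₂
  · intro h A' B' N' _ _ _ _ _ _ _ _ _ _ _ _ _ _ g t' t _ _ P _ himp
    obtain ⟨hpush, hbc, htt, htp, hPt', hass, hnone⟩ := himp
    haveI := hpush
    haveI : t.LiesOver t := ⟨(Ideal.comap_id t).symm⟩
    have hid : Function.Bijective (Ideal.ResidueField.mapₐ t t (Algebra.ofId A' A') (Ideal.LiesOver.over)) := by
      have hid' : (Ideal.ResidueField.mapₐ t t (Algebra.ofId A' A') (Ideal.LiesOver.over)).toRingHom = RingHom.id _ :=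
        Ideal.ResidueField.ringHom_ext (RingHom.ext fun x => (Ideal.ResidueField.mapₐ t t (Algebra.ofId A' A') (Ideal.LiesOver.over)).commutes x)
      rw [show ⇑(Ideal.ResidueField.mapₐ t t (Algebra.ofId A' A') (Ideal.LiesOver.over)) = id from
        funext fun y => DFunLike.congr_fun hid' y]
      exact Function.bijective_id
    have het : FlatCA.IsEtaleNhd A' A' t t := ⟨inferInstance, inferInstance, hid⟩
    exact h A' B' N' g hbc t htp A' B' N' LinearMap.id t' t P het
      ⟨inferInstance, (IsBaseChange.ofEquiv (LinearEquiv.refl B' N')), htt, inferInstance, hPt', hass, hnone⟩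

end Groth.Agent.S9008
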