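import Groth.Statements.S9009
import Groth.Agent.H8Props.FlatGen.Fibre
-- import your own Groth.Agent.* helpers here

set_option autoImplicit false
universe u
open FlatMor

namespace Groth.Agent.S9009

open CategoryTheory CategoryTheory.Limits AlgebraicGeometry in
/-- For f : X → S locally of finite type and a finite type quasi-coherent O_X-module F, the non-flat
locus of F in every fibre has dimension less than n if and only if every point where F is not flat
over S has residue field of transcendence degree less than n over the residue field of its image.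
(The non-flat locus of the fibre over s is taken with the subspace topology from X, which is that of
the fibre. The published statement adds that when these conditions hold they continue to hold after
any base change S' → S; this row states only the equivalence.) -/
theorem result {X S : Scheme.{u}} (f : X ⟶ S) [LocallyOfFiniteType f] (F : X.Modules) [Coh.IsQCoh F] (hF : CohB1.IsFT F) (n : ℕ) : (∀ s : S, topologicalKrullDim {x : X // f.base x = s ∧ ¬ FlatMod.IsFlatOverAt f F x} < n) ↔ ∀ x : X, ¬ FlatMod.IsFlatOverAt f F x → ∀ [Algebra (S.residueField (f.base x)) (X.residueField x)], algebraMap (S.residueField (f.base x)) (X.residueField x) = (f.residueFieldMap x).hom → Algebra.trdeg (S.residueField (f.base x)) (X.residueField x) < n := by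
  constructor
  · intro h x hx alg halg
    have h1 := h (f.base x)
    rw [Groth.Agent.H8Props.FlatGen.dim_not_flat_fibre f F ‹_› hF] at h1
    obtain ⟨r, hr, hr'⟩ := Groth.Agent.H8Props.FieldDim.exists_trdeg_fiber f (f.asFiber x)
    have e := f.fiberι_asFiber x
    have key : ∀ z : X, f.fiberι (f x) (f.asFiber x) = z → @Algebra.trdeg (S.residueField (f.base z)) (X.residueField z) _ _
        (f.residueFieldMap z).hom.toAlgebra = r := by
      rintro z rfl
      exact hr'
    have h2 : Groth.Agent.H8Props.FieldDim.cdim (f.asFiber x) < (n : WithBot ℕ∞) :=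
      lt_of_le_of_lt (le_iSup (fun u : {u : f.fiber (f x) | ¬ FlatMod.IsFlatOverAt f F (f.fiberι (f x) u)} =>
        Groth.Agent.H8Props.FieldDim.cdim u.1) ⟨f.asFiber x, show ¬ FlatMod.IsFlatOverAt f F _ by rw [e]; exact hx⟩) h1
    rw [hr] at h2
    obtain rfl : alg = (f.residueFieldMap x).hom.toAlgebra :=
      Algebra.algebra_ext _ _ fun a => RingHom.congr_fun halg a
    rw [key x e]
    exact_mod_cast h2
  · intro h s
    rw [Groth.Agent.H8Props.FlatGen.dim_not_flat_fibre f F ‹_› hF]
    have hle : ∀ u : {u : f.fiber s | ¬ FlatMod.IsFlatOverAt f F (f.fiberι s u)},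
        ∃ r : ℕ, r < n ∧ Groth.Agent.H8Props.FieldDim.cdim u.1 = r := by
      rintro ⟨u, hu⟩
      obtain ⟨r, hr, hr'⟩ := Groth.Agent.H8Props.FieldDim.exists_trdeg_fiber f u
      letI := (f.residueFieldMap (f.fiberι s u)).hom.toAlgebra
      have h2 := h (f.fiberι s u) hu rfl
      rw [hr'] at h2
      exact ⟨r, by exact_mod_cast h2, hr⟩
    rcases n with _ | m
    · haveI : IsEmpty {u : f.fiber s | ¬ FlatMod.IsFlatOverAt f F (f.fiberι s u)} :=
        ⟨fun u => by obtain ⟨r, hr, -⟩ := hle u; omega⟩
      rw [iSup_of_empty]
      exact WithBot.bot_lt_coe _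
    · refine lt_of_le_of_lt (iSup_le fun u => ?_) (show ((m : ℕ) : WithBot ℕ∞) < ((m + 1 : ℕ) : WithBot ℕ∞) by exact_mod_cast Nat.lt_succ_self m)
      obtain ⟨r, hr, hru⟩ := hle u
      rw [hru]
      exact_mod_cast Nat.lt_succ_iff.1 hr

end Groth.Agent.S9009
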