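import Groth.Statements.S9010
import Groth.Agent.H18HTop.JhFrob

set_option autoImplicit false
universe u
open HTop

namespace Groth.Agent.S9010

open CategoryTheory CategoryTheory.Limits AlgebraicGeometry in
/-- Over a base scheme of prime characteristic p, the rule sending a scheme X over the base to the
inverse limit of its global sections along the p-th power map is a sheaf on the big h site. -/
theorem result (p : ℕ) [Fact p.Prime] (S : Scheme.{u}) (hS : (p : Γ(S, ⊤)) = 0) : Presieve.IsSheaf (HTop.Jh S) (HTop.frobLimPresheaf p S) := by
  exact H18HTop.JhMilnor.isSheaf_Jh_of_milnor (H18HTop.JhFrob.isSheaf_zariski_lim p S)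
    (H18HTop.JhFrob.milnorCondition_lim p S hS) (H18HTop.JhFrob.flatDescent_lim p S)

end Groth.Agent.S9010
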