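import Groth.Statements.S9011
import Groth.Agent.H8Props.InjModMaxFree.Basic
import Groth.Agent.H7Flat.ClosedFibreRegular
import Groth.Agent.H1CAlg.LocalFree

set_option maxHeartbeats 1000000
-- import your own Groth.Agent.* helpers here

set_option autoImplicit false
universe u
open FlatMor

namespace Groth.Agent.S9011

open IsLocalRing in
/-- For a local ring R with maximal ideal m, an R-algebra S with S/mS Noetherian and an S-module N with
N/mN finite over S/mS which is projective as an R-module, every element of S that is a
nonzerodivisor on N/mN acts R-universally injectively on N, and the map from N to its localization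
at all such elements is R-universally injective. -/
theorem result {R S : Type u} [CommRing R] [IsLocalRing R] [CommRing S] [Algebra R S] (N : Type u) [AddCommGroup N] [Module S N] [Module R N] [IsScalarTower R S N] [IsNoetherianRing ((maximalIdeal R).Fiber S)] [Module.Finite ((maximalIdeal R).Fiber S) (FlatCA.fiberMod (maximalIdeal R) S N)] [Module.Projective R N] : (∀ s ∈ FlatCA.nzdFiber R S N, FlatCA.UnivInj R ((LinearMap.lsmul S N s).restrictScalars R)) ∧ FlatCA.UnivInj R ((LocalizedModule.mkLinearMap (FlatCA.nzdFiber R S N) N).restrictScalars R) := by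
  haveI : Module.Free R N := Groth.Agent.H1CAlg.free_of_projective_isLocalRing N
  have hmax : ∀ n : N, n ∈ (maximalIdeal R).map (algebraMap R S) • (⊤ : Submodule S N) ↔
      n ∈ maximalIdeal R • (⊤ : Submodule R N) := fun n => by
    rw [← Submodule.restrictScalars_mem R, Ideal.smul_restrictScalars, Submodule.restrictScalars_top]
  have key : ∀ s ∈ FlatCA.nzdFiber R S N,
      FlatCA.UnivInj R ((LinearMap.lsmul S N s).restrictScalars R) := by
    intro s hs Q _ _
    refine Groth.Agent.H8Props.InjModMaxFree.lTensor_injective _
      (Groth.Agent.H8Props.InjModMaxFree.lTensor_injective_of_modMax _ fun x hx => ?_) Q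
    rw [← hmax, ← Groth.Agent.H7Flat.ClosedFibreRegular.toFiberMod_maximal_eq_zero_iff] at hx ⊢
    refine hs _ ?_
    rw [← map_smul]
    exact hx
  refine ⟨key, fun Q _ _ => ?_⟩
  rw [LinearMap.lTensor_inj_iff_rTensor_inj, injective_iff_map_eq_zero]
  intro z hz
  obtain ⟨s, hs⟩ := (IsLocalizedModule.eq_zero_iff (FlatCA.nzdFiber R S N)
    (TensorProduct.AlgebraTensorModule.rTensor R Q (LocalizedModule.mkLinearMap (FlatCA.nzdFiber R S N) N))).mp hz
  have h := key s s.2 Q
  rw [LinearMap.lTensor_inj_iff_rTensor_inj] at h
  refine h (Eq.trans ?_ (map_zero _).symm)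
  rw [← hs]
  clear hs hz
  induction z using TensorProduct.induction_on with
  | zero => simp
  | tmul a b => rfl
  | add a b ha hb => simp only [map_add, smul_add, ha, hb]

end Groth.Agent.S9011
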