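import Groth.Statements.S9013
import Groth.Agent.H8Props.FunDescent.FlatStage

set_option autoImplicit false
universe u
open FlatMor

namespace Groth.Agent.S9013

open CategoryTheory CategoryTheory.Limits AlgebraicGeometry Opposite in
/-- For f : X → S quasi-compact and locally of finite presentation and F a quasi-coherent O_X-module of
finite presentation, the functor F_flat on schemes over S (one point on T when F_T is flat over T,
empty otherwise; the subfunctor of the final functor generated by that condition) is limit
preserving: its value on a directed limit of affine schemes over S is the colimit of its values. -/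
theorem result {X S : Scheme.{u}} (f : X ⟶ S) [QuasiCompact f] [LocallyOfFinitePresentation f]
    (F : X.Modules) [Coh.IsQCoh F] (hF : CohB1.IsFP F) :
    AlgSp.IsLimitPreserving
      (FlatFun.genPSp S (fun T => FlatMod.IsFlatOver (PicF.XTproj f T) (FGA.ET f F T))) := by
  refine H8Props.FunDescent.isLimitPreserving_genPSp _ (H8Props.FunDescent.stable_flat f F) ?_
  intro I _ _ D c hc hD h
  exact H8Props.FunDescent.exists_flat_stage f F ‹_› hF D c hc hD h

end Groth.Agent.S9013
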