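import Groth.Statements.S9025
import Groth.Agent.H8Norm.WeilClosed

set_option autoImplicit false
universe u
open FlatMor

namespace Groth.Agent.S9025

open CategoryTheory CategoryTheory.Limits AlgebraicGeometry Opposite in
/-- For X = Spec B and S = Spec A affine (purity of a morphism is available here only in ring form), let
A → B be a flat ring map of finite presentation such that the structure sheaf of X = Spec B is pure
relative to S = Spec A, and let i : Y → Spec B be a closed immersion (a closed subscheme Y of X).
Then the Weil restriction functor of Y along X → S, the functor on schemes over S with one point on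
T when the base change Y_T → X_T of i is an isomorphism and empty otherwise (the subfunctor of the
final functor generated by that condition), is representable by a scheme Z over S whose structure
morphism Z → S is a closed immersion. If moreover Y → S is locally of finite presentation (hence of
finite presentation) then Z → S is locally of finite presentation. -/
theorem result {A B : Type u} [CommRing A] [CommRing B] [Algebra A B] [Algebra.FinitePresentation A B] [Module.Flat A B]
    (hpure : FlatCA.IsPure A B B) {Y : Scheme.{u}} (i : Y ⟶ Spec (CommRingCat.of B)) [IsClosedImmersion i] :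
    ∃ Z : Over (Spec (CommRingCat.of A)), IsClosedImmersion Z.hom ∧
      Nonempty ((FlatFun.genPSp (Spec (CommRingCat.of A)) (fun T =>
        IsIso (pullback.snd i (pullback.fst (Spec.map (CommRingCat.ofHom (algebraMap A B))) T.hom)))).RepresentableBy Z) ∧
      (LocallyOfFinitePresentation (i ≫ Spec.map (CommRingCat.ofHom (algebraMap A B))) →
        LocallyOfFinitePresentation Z.hom) := by
  have : Module.Projective A B := H7Flat.PureProjective.projective_of_univPure (S := B) B
    fun p _ => H7Flat.PureUnivPure.isUnivPureAlong_of_isPureAlong B p (hpure p)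
  obtain ⟨J, e, rfl⟩ := IsClosedImmersion.Spec_iff.1 ‹IsClosedImmersion i›
  let b := Spec.map (CommRingCat.ofHom (algebraMap A B))
  let mJ := Spec.map (CommRingCat.ofHom (Ideal.Quotient.mk J))
  let mI := Spec.map (CommRingCat.ofHom (Ideal.Quotient.mk (H8Norm.coeffIdeal A J)))
  haveI : IsClosedImmersion mI := IsClosedImmersion.spec_of_surjective _ Ideal.Quotient.mk_surjective
  let P : Over (Spec (CommRingCat.of A)) → Prop := fun T =>
    IsIso (pullback.snd (e.hom ≫ mJ) (pullback.fst b T.hom))
  have hP : ∀ T, P T ↔ ∃ k : T.left ⟶ Spec (CommRingCat.of (A ⧸ H8Norm.coeffIdeal A J)), k ≫ mI = T.hom := by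
    intro T
    refine (H8Norm.isIso_snd_iff _ _).trans (Iff.trans ?_ (H8Norm.exists_factor_iff J T.hom))
    constructor
    · rintro ⟨s, hs⟩
      exact ⟨s ≫ e.hom, (Category.assoc _ _ _).trans hs⟩
    · rintro ⟨s, hs⟩
      exact ⟨s ≫ e.inv, (Category.assoc _ _ _).trans ((congrArg (s ≫ ·) (e.inv_hom_id_assoc mJ)).trans hs)⟩
  have hst : ∀ ⦃T T₀ : Over (Spec (CommRingCat.of A))⦄ (_ : T ⟶ T₀), P T₀ → P T := fun T T₀ g h => by
    obtain ⟨k, hk⟩ := (hP T₀).1 h
    exact (hP T).2 ⟨g.left ≫ k, (Category.assoc _ _ _).trans ((congrArg (g.left ≫ ·) hk).trans (Over.w g))⟩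
  refine ⟨Over.mk mI, inferInstanceAs (IsClosedImmersion mI), ⟨{ homEquiv := fun {T} => ?_, homEquiv_comp := ?_ }⟩, ?_⟩
  · haveI : Subsingleton (T ⟶ Over.mk mI) :=
      ⟨fun g g' => Over.OverMorphism.ext ((cancel_mono mI).1 ((Over.w g).trans (Over.w g').symm))⟩
    haveI : Subsingleton ((FlatFun.genPSp (Spec (CommRingCat.of A)) P).obj (Opposite.op T)) :=
      FlatFun.genPSp_subsingleton _ P _
    refine equivOfSubsingletonOfSubsingleton
      (fun g => (FlatFun.genPSp_nonempty_of P ((hP T).2 ⟨g.left, Over.w g⟩)).some) (fun x => ?_)
    have hx := (hP T).1 ((FlatFun.genPSp_nonempty_iff_of_stable P hst T).1 ⟨x⟩)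
    exact Over.homMk hx.choose hx.choose_spec
  · intro T T' g k
    exact @Subsingleton.elim _ (FlatFun.genPSp_subsingleton _ P _) _ _
  · intro hlfp
    have h2 : LocallyOfFinitePresentation (Spec.map (CommRingCat.ofHom (algebraMap A B) ≫
        CommRingCat.ofHom (Ideal.Quotient.mk J))) := by
      rw [Spec.map_comp]
      rw [Category.assoc] at hlfp
      exact (MorphismProperty.cancel_left_of_respectsIso @LocallyOfFinitePresentation e.hom _).1 hlfp
    have h3 : Algebra.FinitePresentation A (B ⧸ J) := by
      have := (HasRingHomProperty.Spec_iff (P := @LocallyOfFinitePresentation)).1 h2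
      simpa [RingHom.finitePresentation_algebraMap, ← Ideal.Quotient.algebraMap_eq,
        ← IsScalarTower.algebraMap_eq] using this
    have hJ : J.FG := by
      simpa using Algebra.FinitePresentation.ker_fG_of_surjective (Ideal.Quotient.mkₐ A J)
        Ideal.Quotient.mk_surjective
    show LocallyOfFinitePresentation mI
    rw [HasRingHomProperty.Spec_iff (P := @LocallyOfFinitePresentation)]
    exact RingHom.FinitePresentation.of_surjective _ Ideal.Quotient.mk_surjective
      (by rw [CommRingCat.hom_ofHom, Ideal.mk_ker]; exact H8Norm.fg_coeffIdeal hJ)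

end Groth.Agent.S9025
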