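import Groth.Statements.S9026
import Groth.Agent.H8Norm.HpRep

set_option autoImplicit false
universe u
open FlatMor

namespace Groth.Agent.S9026

open CategoryTheory CategoryTheory.Limits AlgebraicGeometry Opposite in
/-- For f : X → S smooth with geometrically irreducible fibres, F a quasi-coherent O_X-module of finite
type and p ≥ 0, the functor H_p on schemes over S (one point on T when the base change F_T is free
of rank p on a neighbourhood of the generic point of every fibre of X ×_S T → T, empty otherwise;
the subfunctor of the final functor generated by that condition) is representable by a scheme S_p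
over S whose structure morphism S_p → S is an immersion (a locally closed immersion). When the
module F is finitely presented, the morphism S_p → S is likewise finitely presented, i.e. locally of
finite presentation, quasi-compact and quasi-separated. -/
theorem result {X S : Scheme.{u}} (f : X ⟶ S) [Smooth f] [GeometricallyIrreducible f] (F : X.Modules) [Coh.IsQCoh F]
    (hF : CohB1.IsFT F) (p : ℕ) :
    ∃ Z : Over S, IsImmersion Z.hom ∧
      Nonempty ((FlatFun.genPSp S (fun T => FlatFun.FreeAtGenericPts (PicF.XTproj f T) (FGA.ET f F T) p)).RepresentableBy Z) ∧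
      (CohB1.IsFP F → LocallyOfFinitePresentation Z.hom ∧ QuasiCompact Z.hom ∧ QuasiSeparated Z.hom) := by
  obtain ⟨Z, hZi, hZm, hZ, hfp⟩ := H8Norm.Hp.exists_representing (f := f) (p := p) ‹Coh.IsQCoh F› hF
  let P : Over S → Prop := fun T => FlatFun.FreeAtGenericPts (PicF.XTproj f T) (FGA.ET f F T) p
  have hst : ∀ ⦃T T₀ : Over S⦄ (_ : T ⟶ T₀), P T₀ → P T := fun T T₀ g h => by
    obtain ⟨k, hk⟩ := (hZ T₀).1 h
    exact (hZ T).2 ⟨g.left ≫ k, (Category.assoc _ _ _).trans ((congrArg (g.left ≫ ·) hk).trans (Over.w g))⟩
  refine ⟨Z, hZi, ⟨{ homEquiv := fun {T} => ?_, homEquiv_comp := ?_ }⟩, hfp⟩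
  · haveI : Subsingleton (T ⟶ Z) :=
      ⟨fun g g' => Over.OverMorphism.ext ((cancel_mono Z.hom).1 ((Over.w g).trans (Over.w g').symm))⟩
    haveI : Subsingleton ((FlatFun.genPSp S P).obj (Opposite.op T)) := FlatFun.genPSp_subsingleton _ P _
    refine equivOfSubsingletonOfSubsingleton
      (fun g => (FlatFun.genPSp_nonempty_of P ((hZ T).2 ⟨g.left, Over.w g⟩)).some) (fun x => ?_)
    have hx := (hZ T).1 ((FlatFun.genPSp_nonempty_iff_of_stable P hst T).1 ⟨x⟩)
    exact Over.homMk hx.choose hx.choose_spec
  · intro T T' g k
    exact @Subsingleton.elim _ (FlatFun.genPSp_subsingleton _ P _) _ _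

end Groth.Agent.S9026
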