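import Groth.Statements.S9027
import Groth.Agent.H8Props.FunDescent.EtalePull

set_option autoImplicit false
universe u
open FlatMor

namespace Groth.Agent.S9027

open CategoryTheory CategoryTheory.Limits AlgebraicGeometry Opposite in
/-- For f : X → S locally of finite type, F a quasi-coherent O_X-module of finite type, an etale
morphism h : X' → X and n ≥ 0, the functor F_n of F over S is a subfunctor of the functor F_n of the
pullback h^*F on X' over S: for every scheme T over S, if the base change F_T on X ×_S T is flat
over T in dimensions ≥ n (transcendence-degree form) then so is the base change of h^*F on X' ×_S T. -/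
theorem result {X X' S : Scheme.{u}} (f : X ⟶ S) [LocallyOfFiniteType f] (F : X.Modules) [Coh.IsQCoh F] (hF : CohB1.IsFT F)
    (h : X' ⟶ X) [Etale h] (n : ℕ) (T : Over S)
    (hT : FlatFun.DimFibresLT n (PicF.XTproj f T)
        {x | ¬ FlatMod.IsFlatOverAt (PicF.XTproj f T) (FGA.ET f F T) x}) :
    FlatFun.DimFibresLT n (PicF.XTproj (h ≫ f) T)
        {x | ¬ FlatMod.IsFlatOverAt (PicF.XTproj (h ≫ f) T) (FGA.ET (h ≫ f) ((Scheme.Modules.pullback h).obj F) T) x} := by
  exact H8Props.FunDescent.dimCond_pullback h f T F n hT

end Groth.Agent.S9027
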