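import Groth.Statements.S9037
import Groth.Agent.H15Site.CompactFree.Modules
import Groth.Agent.H15Site.HUBasic
import Groth.Agent.H16Derived.AcyclicSums

set_option backward.isDefEq.respectTransparency false
set_option backward.isDefEq.respectTransparency.types false

set_option autoImplicit false
universe u
open CategoryTheory CategoryTheory.Limits Opposite
open ModSite

namespace Groth.Agent.S9037

open Groth.Agent.H15Site Groth.Agent.H15Site.CompactFree Groth.Agent.H16Derived.QCohD
attribute [local instance 10000] SiteInst.hasSheafifySite SiteInst.hasWeakSheafifySite SiteInst.hasExtSite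
  SiteInst.enoughInjSite
attribute [local instance] Groth.Agent.H10Coh.isGrothendieckAbelian_sheafOfModules

/-- On a ringed site (C, O), if U is a quasi-compact object (h_U^# is a quasi-compact object of the
topos, which is equivalent to the site-level notion) which is weakly contractible, then j_{U!} O_U,
placed in degree zero, is a compact object of the derived category D(O). The derived category of
O-modules and direct sums in it are instance hypotheses. -/
theorem result
    {C : Type u} [SmallCategory C] {J : GrothendieckTopology C} (O : Sheaf J CommRingCat.{u})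
    [HasDerivedCategory.{u} (ModSite.Mod O)] [HasCoproducts.{u} (DerivedCategory (ModSite.Mod O))]
    (U : C) (hqc : CohCx.IsQcObject ((presheafToSheaf J (Type u)).obj (yoneda.obj U)))
    (hwc : CohSite.IsWeaklyContractible J U) :
    CohDer.IsCompactObject ((DerivedCategory.singleFunctor (ModSite.Mod O) 0).obj (ModSite.freeOn O U)) := by
  haveI := Groth.Agent.H10Coh.enoughInjectives_sheafOfModules (ModSite.ringSh O)
  haveI : HasExt.{u} (ModSite.Mod O) := hasExt_of_hasDerivedCategory _
  have hv : ∀ (F : ModSite.Mod O) (p : ℕ),
      Subsingleton (Abelian.Ext.{u} (ModSite.freeOn O U) F (p + 1)) := fun F p =>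
    subsingleton_ext_freeOn O U F _ (HUBasic.subsingleton_HU_of_weaklyContractible hwc p (ModSite.toAb F))
  intro ι M
  exact (FinSupp.isCompactObjRel_iff _).2
    (holds_of_cd (d := 0) (finMaps_freeOn O (CoprodSect.qcObj_of_isQcObject hqc))
      (fun κ F _ => hv (∐ F)) (fun F p hp => by
        obtain ⟨q, rfl⟩ := Nat.exists_eq_succ_of_ne_zero (Nat.pos_iff_ne_zero.1 hp)
        exact hv F q) 0) ι M fun _ => trivial

end Groth.Agent.S9037
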