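import Groth.Statements.S9038

set_option linter.style.haveILetI false

set_option autoImplicit false
universe u
open Topology
open CohTop

namespace Groth.Agent.S9038

open Topology in
/-- In the category of Hausdorff locally quasi-compact spaces, call a family of continuous maps f_i :
X_i → X a qc covering when every point of X has a neighbourhood of the form ⋃_{i ∈ t} f_i(E_i) with
t a finite set of indices and E_i ⊆ X_i quasi-compact. If (f_i : X_i → X) is a qc covering and for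
each i the family (g_{ij} : X_{ij} → X_i)_j is a qc covering, then the family of composites X_{ij} →
X, indexed by the pairs (i, j), is a qc covering. -/
theorem result
    {B : Type u} [TopologicalSpace B] [T2Space B] [LocallyCompactSpace B]
    {ι : Type u} {X : ι → Type u} [∀ i, TopologicalSpace (X i)] [∀ i, T2Space (X i)]
    [∀ i, LocallyCompactSpace (X i)]
    (f : ∀ i, X i → B) (hf : ∀ i, Continuous (f i))
    (hcov : ∀ x : B, ∃ (t : Finset ι) (E : ∀ i, Set (X i)),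
      (∀ i ∈ t, IsCompact (E i)) ∧ (⋃ i ∈ t, f i '' E i) ∈ 𝓝 x)
    {κ : ι → Type u} {Y : ∀ i, κ i → Type u} [∀ i j, TopologicalSpace (Y i j)] [∀ i j, T2Space (Y i j)]
    [∀ i j, LocallyCompactSpace (Y i j)]
    (g : ∀ i j, Y i j → X i) (hg : ∀ i j, Continuous (g i j))
    (hcov' : ∀ (i : ι) (x : X i), ∃ (t : Finset (κ i)) (E : ∀ j, Set (Y i j)),
      (∀ j ∈ t, IsCompact (E j)) ∧ (⋃ j ∈ t, g i j '' E j) ∈ 𝓝 x) :
    ∀ x : B, ∃ (t : Finset (Σ i, κ i)) (E : ∀ p : (Σ i, κ i), Set (Y p.1 p.2)),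
      (∀ p ∈ t, IsCompact (E p)) ∧ (⋃ p ∈ t, f p.1 '' (g p.1 p.2 '' E p)) ∈ 𝓝 x := by
  classical
  intro x
  obtain ⟨t, E, hE, hmem⟩ := hcov x
  choose T F hF hFm using hcov'
  have hsub : ∀ i : {i // i ∈ t}, ∃ s : Finset (X i.1), E i.1 ⊆ ⋃ a ∈ s, (⋃ j ∈ T i.1 a, g i.1 j '' F i.1 a j) := by
    intro i
    obtain ⟨s, -, hs⟩ := (hE i.1 i.2).elim_nhds_subcover (fun a => ⋃ j ∈ T i.1 a, g i.1 j '' F i.1 a j)
      (fun a _ => hFm i.1 a)
    exact ⟨s, hs⟩
  choose s hs using hsub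
  let s' : ∀ i, Finset (X i) := fun i => if h : i ∈ t then s ⟨i, h⟩ else ∅
  refine ⟨t.sigma (fun i => (s' i).biUnion (T i)),
    fun p => ⋃ a ∈ (s' p.1).filter (fun a => p.2 ∈ T p.1 a), F p.1 a p.2, ?_, Filter.mem_of_superset hmem ?_⟩
  · intro p _
    exact (Finset.finite_toSet _).isCompact_biUnion fun a ha => hF p.1 a p.2 (Finset.mem_filter.1 ha).2
  · intro y hy
    simp only [Set.mem_iUnion] at hy
    obtain ⟨i, hi, z, hz, rfl⟩ := hy
    have := hs ⟨i, hi⟩ hz
    simp only [Set.mem_iUnion] at this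
    obtain ⟨a, ha, j, hj, w, hw, rfl⟩ := this
    simp only [Set.mem_iUnion]
    have ha' : a ∈ s' i := by simpa [s', hi] using ha
    refine ⟨⟨i, j⟩, Finset.mem_sigma.2 ⟨hi, Finset.mem_biUnion.2 ⟨a, ha', hj⟩⟩, g i j w, ⟨w, ?_, rfl⟩, rfl⟩
    simp only [Set.mem_iUnion]
    exact ⟨a, Finset.mem_filter.2 ⟨ha', hj⟩, hw⟩

end Groth.Agent.S9038
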