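import Groth.Statements.S9046
import Groth.Agent.H15Site.SitePerfLift

set_option autoImplicit false
universe u
open CategoryTheory CategoryTheory.Limits Opposite
open ModSite

namespace Groth.Agent.S9046

/-- On a ringed site (C, O), let α : E → F and f : G → F be maps of complexes of O-modules where E is
strictly perfect and vanishes in degrees below a, and f induces isomorphisms on H^j for all j > a
and a surjection on H^a. Then locally α lifts through f up to homotopy: every object V has a
covering sieve such that over each of its arrows W → V there is a map of complexes β : E|_W → G|_W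
with β ≫ f|_W homotopic to α|_W. (The published statement is phrased over the localisation (C/U,
O_U) at an object U with a covering of U; this row states it at every object of an arbitrary ringed
site, which covers that case.) -/
theorem result
    {C : Type u} [SmallCategory C] {J : GrothendieckTopology C} (O : Sheaf J CommRingCat.{u})
    (E F G : CochainComplex (ModSite.Mod O) ℤ) (α : E ⟶ F) (f : G ⟶ F)
    (hE : DCoh.IsStrictlyPerfectMod (ModSite.ringSh O) E) (a : ℤ)
    (hEa : ∀ j : ℤ, j < a → IsZero (E.X j))
    (hiso : ∀ j : ℤ, a < j → IsIso (HomologicalComplex.homologyMap f j))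
    (hepi : Epi (HomologicalComplex.homologyMap f a)) (V : C) :
    ∃ R ∈ J V, ∀ ⦃W : C⦄ (g : W ⟶ V), R g →
      ∃ β : ((ModSite.restr O W).mapHomologicalComplex (ComplexShape.up ℤ)).obj E ⟶
          ((ModSite.restr O W).mapHomologicalComplex (ComplexShape.up ℤ)).obj G,
        Nonempty (Homotopy (β ≫ ((ModSite.restr O W).mapHomologicalComplex (ComplexShape.up ℤ)).map f)
          (((ModSite.restr O W).mapHomologicalComplex (ComplexShape.up ℤ)).map α)) := by
  exact Groth.Agent.H15Site.SitePerfLift.exists_lift_up_to_homotopy α f hE a hEa hiso hepi V

end Groth.Agent.S9046
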