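import Groth.Statements.S9047
import Groth.Agent.H15Site.CompactFree.Modules
import Groth.Agent.H15Site.HUBasic
import Groth.Agent.H16Derived.AcyclicSums

set_option backward.isDefEq.respectTransparency false
set_option backward.isDefEq.respectTransparency.types false

set_option autoImplicit false
universe u
open CategoryTheory CategoryTheory.Limits Opposite
open ModSite

namespace Groth.Agent.S9047

open Groth.Agent.H15Site Groth.Agent.H15Site.CompactFree Groth.Agent.H16Derived.QCohD
attribute [local instance 10000] SiteInst.hasSheafifySite SiteInst.hasWeakSheafifySite SiteInst.hasExtSite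
  SiteInst.enoughInjSite
attribute [local instance] Groth.Agent.H10Coh.isGrothendieckAbelian_sheafOfModules

/-- Let (C, O) be a ringed site with fibre products, B a class of objects and Cov a class of finite
covering families such that (1) for a family in Cov over U, U and all iterated fibre products of its
members lie in B, and (2) every covering sieve of a member of B contains a family from Cov. Then for
U in B the module j_{U!} O_U behaves as a compact object of D^+(O), meaning: for every family (M_i)
of objects of D(O) which is uniformly bounded below and whose direct sum exists, ⊕_i Hom(j_{U!} O_U,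
M_i) → Hom(j_{U!} O_U, ⊕_i M_i) is bijective. The derived category of O-modules is an instance
hypothesis. -/
theorem result
    {C : Type u} [SmallCategory C] [HasPullbacks C] {J : GrothendieckTopology C} (O : Sheaf J CommRingCat.{u})
    (B : Set C) (Cov : ∀ (U : C) (ι : Type u), (ι → Over U) → Prop)
    (h1 : ∀ (U : C) (ι : Type u) (Y : ι → Over U), Cov U ι Y → Finite ι ∧ U ∈ B ∧
      Sieve.ofArrows (fun i => (Y i).left) (fun i => (Y i).hom) ∈ J U ∧
      ∀ (p : ℕ) (a : Fin (p + 1) → ι), (∏ᶜ fun k => Y (a k)).left ∈ B)
    (h2 : ∀ U ∈ B, ∀ T ∈ J U, ∃ (ι : Type u) (Y : ι → Over U), Cov U ι Y ∧ ∀ i, T.arrows (Y i).hom)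
    [HasDerivedCategory.{u} (ModSite.Mod O)]
    (U : C) (hU : U ∈ B) {I : Type u} (M : I → DerivedCategory (ModSite.Mod O)) [HasCoproduct M]
    (a : ℤ) (hM : ∀ i, (M i).IsGE a) :
    Function.Bijective (CohDer.homSumToHomCoprod
      ((DerivedCategory.singleFunctor (ModSite.Mod O) 0).obj (ModSite.freeOn O U)) M) := by
  classical
  haveI := Groth.Agent.H10Coh.enoughInjectives_sheafOfModules (ModSite.ringSh O)
  haveI : HasExt.{u} (ModSite.Mod O) := hasExt_of_hasDerivedCategory _
  have hqc : CoprodSect.QcObj J U := fun S hS => by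
    obtain ⟨ι, Y, hY, hYS⟩ := h2 U hU S hS
    obtain ⟨hfin, -, hcov, -⟩ := h1 U ι Y hY
    exact ⟨ι, hfin, fun i => (Y i).left, fun i => (Y i).hom, hYS, hcov⟩
  have hP : ∀ (p : ℕ) (ι : Type u), PreservesColimitsOfShape (Discrete ι)
      ((Sheaf.cohomologyPresheafFunctor J p).flip.obj (op U)) := fun p ι => by
    haveI : PreservesFilteredColimitsOfSize.{u, u}
        ((Sheaf.cohomologyPresheafFunctor J p).flip.obj (op U)) :=
      ⟨fun Λ _ _ => ⟨fun {D} => CohColim.preservesColimit_of_both
        (fun D c hc => CohColim.both_of_cov B Cov h1 h2 U hU p D c hc) D⟩⟩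
    haveI : ((Sheaf.cohomologyPresheafFunctor J p).flip.obj (op U)).Additive :=
      ⟨fun {F G f g} => AddCommGrpCat.hom_ext (AddMonoidHom.ext fun z =>
        (congrArg (fun t => (show Abelian.Ext.{u} (CohCx.freeSheaf J U) F p from z).comp t (add_zero p))
          (Abelian.Ext.mk₀_add f g)).trans (Abelian.Ext.comp_add _ _ _ _))⟩
    exact Groth.Agent.H16Derived.AcyclicSums.preservesCoproducts_of_filtered _ ι
  exact (FinSupp.isCompactObjRel_iff _).2
    (holds_isGE (finMaps_freeOn O hqc) (sumAcyclic_freeOn O hP) 0 a) I M hM

end Groth.Agent.S9047
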