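import Groth.Statements.S9049
import Groth.Agent.H15Site.LocLift
import Mathlib

set_option autoImplicit false
universe u
open CategoryTheory CategoryTheory.Limits Opposite
open ModSite

set_option linter.style.haveILetI false
set_option backward.isDefEq.respectTransparency false
open CategoryTheory CategoryTheory.Limits Opposite
open Groth.Agent.H15Site Groth.Agent.H15Site.ModTensor
attribute [local instance 10000] Groth.Agent.H15Site.SiteInst.hasSheafifySite Groth.Agent.H15Site.SiteInst.hasWeakSheafifySite

namespace Groth.Agent.S9049Aux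

variable {C : Type u} [SmallCategory C] {J : GrothendieckTopology C} {O : Sheaf J CommRingCat.{u}}
  {X : C} (hX : IsTerminal X)

/-- A section over the final object as a global section. -/
noncomputable def secOf {M : ModSite.Mod O} (x : M.val.obj (op X)) : M.sections :=
  PresheafOfModules.sectionsMk (fun Y => rs ((forg O).obj M) (hX.from Y.unop).op x) fun Y Y' a => by
    show rs ((forg O).obj M) a (rs ((forg O).obj M) _ x) = _
    rw [rs_rs]
    exact congrArg (fun t => rs ((forg O).obj M) t x)
      (Quiver.Hom.unop_inj (hX.hom_ext ((hX.from Y.unop).op ≫ a).unop (hX.from Y'.unop).op.unop))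

lemma secOf_X {M : ModSite.Mod O} (x : M.val.obj (op X)) : (secOf hX x).val (op X) = x :=
  (congrArg (fun t : X ⟶ X => rs ((forg O).obj M) t.op x) (hX.hom_ext _ (𝟙 X))).trans (rs_id _ x)

/-- The basis section over `X`. -/
noncomputable def eX {I : Type u} (i : I) :
    (SheafOfModules.free (R := ModSite.ringSh O) I).val.obj (op X) :=
  ((SheafOfModules.ιFree (R := ModSite.ringSh O) i).val.app (op X)).hom (1 : O.obj.obj (op X))

/-- The map out of a free module with given values at the basis. -/
noncomputable def freeMor {I : Type u} {M : ModSite.Mod O} (x : I → M.val.obj (op X)) :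
    SheafOfModules.free (R := ModSite.ringSh O) I ⟶ M :=
  M.freeHomEquiv.symm fun i => secOf hX (x i)

lemma freeMor_eX {I : Type u} {M : ModSite.Mod O} (x : I → M.val.obj (op X)) (i : I) :
    ((freeMor hX x).val.app (op X)).hom (eX i) = x i := by
  have h : M.freeHomEquiv (freeMor hX x) i = secOf hX (x i) := by
    rw [freeMor, Equiv.apply_symm_apply]
  exact (congrArg (fun s : M.sections => s.val (op X)) h).trans (secOf_X hX (x i))

include hX in
lemma hom_ext_X {I : Type u} {M : ModSite.Mod O}
    (φ ψ : SheafOfModules.free (R := ModSite.ringSh O) I ⟶ M)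
    (h : ∀ i, (φ.val.app (op X)).hom (eX i) = (ψ.val.app (op X)).hom (eX i)) : φ = ψ := by
  refine M.freeHomEquiv.injective (funext fun i => Subtype.ext (funext fun Y => ?_))
  have e1 := (M.freeHomEquiv φ i).property (hX.from Y.unop).op
  have e2 := (M.freeHomEquiv ψ i).property (hX.from Y.unop).op
  exact e1.symm.trans ((congrArg _ (h i)).trans e2)

/-- Sections over `X` of a finite free module. -/
theorem exists_coord (I : Type u) [Fintype I] [DecidableEq I] :
    ∃ L : (SheafOfModules.free (R := ModSite.ringSh O) I).val.obj (op X) ≃ₗ[(ModSite.ringSh O).obj.obj (op X)]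
      (I → (ModSite.ringSh O).obj.obj (op X)), ∀ i, L (eX i) = Pi.single i 1 := by
  let R := (ModSite.ringSh O).obj.obj (op X)
  let F := SheafOfModules.free (R := ModSite.ringSh O) I
  let p : I → (F ⟶ SheafOfModules.unit (ModSite.ringSh O)) := fun i =>
    Sigma.desc fun j => if j = i then 𝟙 _ else 0
  have hι : ∀ i j, SheafOfModules.ιFree (R := ModSite.ringSh O) j ≫ p i = if j = i then 𝟙 _ else 0 :=
    fun i j => Sigma.ι_desc (f := fun _ : I => SheafOfModules.unit (ModSite.ringSh O)) _ j
  have hid : ∑ i, p i ≫ SheafOfModules.ιFree i = 𝟙 F := by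
    refine Sigma.hom_ext _ _ fun j => ?_
    change SheafOfModules.ιFree (R := ModSite.ringSh O) j ≫ _ = SheafOfModules.ιFree (R := ModSite.ringSh O) j ≫ _
    rw [Preadditive.comp_sum, Category.comp_id, Finset.sum_eq_single j]
    · rw [← Category.assoc, hι, if_pos rfl, Category.id_comp]
    · intro b _ hb
      rw [← Category.assoc, hι, if_neg (Ne.symm hb), zero_comp]
    · simp
  let P : F.val.obj (op X) →ₗ[R] (I → R) := LinearMap.pi fun i => ((p i).val.app (op X)).hom
  have hP : ∀ i, P (eX i) = Pi.single i 1 := fun i => funext fun j => by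
    refine (congrArg (fun f : SheafOfModules.unit (ModSite.ringSh O) ⟶ _ =>
      (f.val.app (op X)).hom (1 : O.obj.obj (op X))) (hι j i)).trans ?_
    by_cases h : i = j
    · subst h
      rw [if_pos rfl]
      simp
    · rw [if_neg h, Pi.single_eq_of_ne (Ne.symm h)]
      rfl
  let Q : (I → R) →ₗ[R] F.val.obj (op X) := Fintype.linearCombination R eX
  have hz : ∀ z, Q (P z) = z := fun z => by
    let ev : (F ⟶ F) →+ (F.val.obj (op X) : Type u) :=
      AddMonoidHom.mk' (fun f => (f.val.app (op X)).hom z) fun _ _ => rfl
    have e := congrArg ev hid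
    rw [map_sum] at e
    refine Eq.trans ?_ e
    refine Finset.sum_congr rfl fun i _ => ?_
    refine ((((SheafOfModules.ιFree (R := ModSite.ringSh O) i).val.app (op X)).hom.map_smul _ _).symm).trans ?_
    exact congrArg _ (mul_one (M := O.obj.obj (op X)) _)
  refine ⟨LinearEquiv.ofLinear P Q ?_ (LinearMap.ext hz), hP⟩
  refine LinearMap.pi_ext fun i r => ?_
  show P (Q (Pi.single i r)) = Pi.single i r
  rw [show Q (Pi.single i r) = r • eX i from Fintype.linearCombination_apply_single R _ i r,
    map_smul, hP, ← Pi.single_smul, smul_eq_mul, mul_one]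

include hX in
theorem exists_mor {I : Type u} [Fintype I] {M : ModSite.Mod O}
    (f : (SheafOfModules.free (R := ModSite.ringSh O) I).val.obj (op X) ⟶ M.val.obj (op X)) :
    ∃ φ : SheafOfModules.free (R := ModSite.ringSh O) I ⟶ M, φ.val.app (op X) = f := by
  classical
  obtain ⟨L, hL⟩ := exists_coord (O := O) (X := X) I
  refine ⟨freeMor hX fun i => f.hom (eX i), ModuleCat.hom_ext ?_⟩
  refine ((Pi.basisFun _ I).map L.symm).ext fun i => ?_
  have h : ((Pi.basisFun _ I).map L.symm) i = eX i := by
    rw [Module.Basis.map_apply, Pi.basisFun_apply, ← hL i]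
    exact L.symm_apply_apply _
  rw [h]
  exact freeMor_eX hX _ i

end Groth.Agent.S9049Aux

namespace Groth.Agent.S9049

/-- Let (C, O) be a ringed site with a final object X and R = Γ(C, O) = O(X). Global sections give an
equivalence between the category of O-modules that are direct summands of finite free O-modules and
the category of finite projective R-modules: the functor E ↦ E(X) is fully faithful on such modules,
lands in finite projective R-modules, and every finite projective R-module arises. (The published
statement allows a site without final object, with Γ(C, -) the sections over the final presheaf;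
this row assumes a final object X, so that Γ(C, E) = E(X).) -/
theorem result
    {C : Type u} [SmallCategory C] {J : GrothendieckTopology C} (O : Sheaf J CommRingCat.{u})
    (X : C) (hX : IsTerminal X) :
    (∀ E E' : ModSite.Mod O, DCoh.IsFinFreeSummandMod (ModSite.ringSh O) E →
        DCoh.IsFinFreeSummandMod (ModSite.ringSh O) E' →
        Function.Bijective (fun φ : E ⟶ E' => φ.val.app (op X))) ∧
    (∀ E : ModSite.Mod O, DCoh.IsFinFreeSummandMod (ModSite.ringSh O) E →
        Module.Finite ((ModSite.ringSh O).obj.obj (op X)) (E.val.obj (op X)) ∧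
        Module.Projective ((ModSite.ringSh O).obj.obj (op X)) (E.val.obj (op X))) ∧
    (∀ M : ModuleCat.{u} ((ModSite.ringSh O).obj.obj (op X)),
        Module.Finite ((ModSite.ringSh O).obj.obj (op X)) M →
        Module.Projective ((ModSite.ringSh O).obj.obj (op X)) M →
        ∃ E : ModSite.Mod O, DCoh.IsFinFreeSummandMod (ModSite.ringSh O) E ∧ Nonempty (E.val.obj (op X) ≅ M)) := by
  classical
  have hb : ∀ E E' : ModSite.Mod O, DCoh.IsFinFreeSummandMod (ModSite.ringSh O) E →
      Function.Bijective (fun φ : E ⟶ E' => φ.val.app (op X)) := by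
    rintro E E' ⟨n, i, r, hir⟩
    refine ⟨fun φ ψ h => ?_, fun f => ?_⟩
    · have h' : r ≫ φ = r ≫ ψ := Groth.Agent.S9049Aux.hom_ext_X hX _ _ fun j => by
        show (φ.val.app (op X)).hom ((r.val.app (op X)).hom _) =
          (ψ.val.app (op X)).hom ((r.val.app (op X)).hom _)
        exact LinearMap.congr_fun (congrArg ModuleCat.Hom.hom h) _
      have := congrArg (fun t => i ≫ t) h'
      simpa only [← Category.assoc, hir, Category.id_comp] using this
    · obtain ⟨g, hg⟩ := Groth.Agent.S9049Aux.exists_mor hX (M := E') (r.val.app (op X) ≫ f)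
      refine ⟨i ≫ g, ?_⟩
      show i.val.app (op X) ≫ g.val.app (op X) = f
      rw [hg, ← Category.assoc]
      exact (congrArg (fun t : E ⟶ E => t.val.app (op X) ≫ f) hir).trans (Category.id_comp f)
  refine ⟨fun E E' hE _ => hb E E' hE, fun E hE => ?_, fun M hfin hproj => ?_⟩
  · obtain ⟨n, i, r, hir⟩ := hE
    obtain ⟨L, -⟩ := Groth.Agent.S9049Aux.exists_coord (O := O) (X := X) (ULift.{u} (Fin n))
    have hs : ∀ x, ((r.val.app (op X)).hom) ((i.val.app (op X)).hom x) = x := fun x =>
      congrArg (fun t : E ⟶ E => (t.val.app (op X)).hom x) hir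
    haveI := Module.Finite.equiv L.symm
    haveI := Module.Projective.of_equiv L.symm
    exact ⟨Module.Finite.of_surjective (r.val.app (op X)).hom fun x => ⟨_, hs x⟩,
      Module.Projective.of_split (i.val.app (op X)).hom (r.val.app (op X)).hom (LinearMap.ext hs)⟩
  · haveI := hfin
    haveI := hproj
    obtain ⟨n, f, g, -, -, hfg⟩ := Module.Finite.exists_comp_eq_id_of_projective
      ((ModSite.ringSh O).obj.obj (op X)) M
    obtain ⟨L, -⟩ := Groth.Agent.S9049Aux.exists_coord (O := O) (X := X) (ULift.{u} (Fin n))
    let F : ModSite.Mod O := SheafOfModules.free (R := ModSite.ringSh O) (ULift.{u} (Fin n))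
    let A := L.trans (LinearEquiv.funCongrLeft ((ModSite.ringSh O).obj.obj (op X))
      ((ModSite.ringSh O).obj.obj (op X)) Equiv.ulift.symm)
    let a : F.val.obj (op X) →ₗ[(ModSite.ringSh O).obj.obj (op X)] M := f ∘ₗ A.toLinearMap
    let b : M →ₗ[(ModSite.ringSh O).obj.obj (op X)] F.val.obj (op X) := A.symm.toLinearMap ∘ₗ g
    have hab : ∀ m, a (b m) = m := fun m => by
      show f (A (A.symm (g m))) = m
      rw [A.apply_symm_apply]
      exact LinearMap.congr_fun hfg m
    obtain ⟨Φ, hΦ⟩ := Groth.Agent.S9049Aux.exists_mor hX (M := F)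
      (ModuleCat.ofHom (X := F.val.obj (op X)) (Y := F.val.obj (op X)) (b ∘ₗ a))
    have hΦ' : ∀ z, (Φ.val.app (op X)).hom z = b (a z) := fun z =>
      congrArg (fun t => t.hom z) hΦ
    have hid : Φ ≫ Φ = Φ := Groth.Agent.S9049Aux.hom_ext_X hX _ _ fun j => by
      show (Φ.val.app (op X)).hom ((Φ.val.app (op X)).hom _) = _
      rw [hΦ', hΦ', hab]
    obtain ⟨E, i, e, hie, hei⟩ := IsIdempotentComplete.idempotents_split F Φ hid
    refine ⟨E, ⟨n, i, e, hie⟩, ⟨LinearEquiv.toModuleIso (LinearEquiv.ofLinear
      (a ∘ₗ (i.val.app (op X)).hom) ((e.val.app (op X)).hom ∘ₗ b) ?_ ?_)⟩⟩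
    · refine LinearMap.ext fun m => ?_
      show a ((i.val.app (op X)).hom ((e.val.app (op X)).hom (b m))) = m
      rw [show (i.val.app (op X)).hom ((e.val.app (op X)).hom (b m)) = (Φ.val.app (op X)).hom (b m) from
        congrArg (fun t : F ⟶ F => (t.val.app (op X)).hom (b m)) hei, hΦ', hab, hab]
    · refine LinearMap.ext fun x => ?_
      show (e.val.app (op X)).hom (b (a ((i.val.app (op X)).hom x))) = x
      rw [← hΦ']
      have : i ≫ Φ ≫ e = 𝟙 E := by
        rw [← hei]
        simp only [Category.assoc, hie, reassoc_of% hie, Category.comp_id]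
      exact congrArg (fun t : E ⟶ E => (t.val.app (op X)).hom x) this

end Groth.Agent.S9049
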