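import Groth.Statements.S9052
import Groth.Agent.H15Site.ModKFlat
import Groth.Prelude.Def_KFlatSite
import Mathlib.CategoryTheory.Abelian.Images

open CategoryTheory CategoryTheory.Limits Opposite Groth.Agent.H15Site Groth.Agent.H15Site.ModTensor
open Groth.Agent.H16Derived


attribute [local instance 10000] SiteInst.hasSheafifySite SiteInst.hasWeakSheafifySite

set_option linter.style.haveILetI false
open CategoryTheory CategoryTheory.Limits Opposite

set_option autoImplicit false
universe u
open CategoryTheory CategoryTheory.Limits Opposite
open ModSite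

namespace Groth.Agent.S9052

/-- On a ringed site (C, O), let K be a K-flat, acyclic complex of O-modules whose terms are flat. Then
for every n the kernel of K^n → K^{n+1} (the module of n-cycles) is a flat O-module. Here a complex
K of O-modules is called K-flat when for every acyclic complex L of O-modules the total complex
Tot(L ⊗_O K) is acyclic; this property enters only as a hypothesis. The instance binders saying that
the tensor bifunctor preserves zero morphisms always hold and are needed only to form total
complexes. -/
theorem result
    {C : Type u} [SmallCategory C] {J : GrothendieckTopology C} (O : Sheaf J CommRingCat.{u})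
    [(ModSite.tensorBi O).PreservesZeroMorphisms] [∀ X : ModSite.Mod O, ((ModSite.tensorBi O).obj X).PreservesZeroMorphisms]
    (K : CochainComplex (ModSite.Mod O) ℤ)
    (hK : ∀ L : CochainComplex (ModSite.Mod O) ℤ, L.Acyclic →
      (HomologicalComplex.mapBifunctor L K (ModSite.tensorBi O) (ComplexShape.up ℤ)).Acyclic)
    (hac : K.Acyclic) (hfl : ∀ i : ℤ, ModSite.IsFlat (K.X i)) (n : ℤ) :
    ModSite.IsFlat (K.cycles n) := by
  refine ModKFlat.isFlat_of_mono_into_flat (K.iCycles n) (hfl n) fun M => ?_
  have h := (HomologicalComplex.exactAt_iff' _ (n - 2) (n - 1) n (by simp; omega) (by simp)).1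
    (ModKFlat.acyclic_tL_map_of_isKFlat M hK hac (n - 1))
  have := preservesColimits_tL M
  have := PreservesColimitsOfSize.preservesFiniteColimits ((ModSite.tensorBi O).obj M)
  have he : Epi (K.toCycles (n - 1) n) := by
    refine Preadditive.epi_of_cancel_zero _ fun {P} g hg => ?_
    have hc := (K.homologyIsCokernel (n - 1) n (by simp)).fac (CokernelCofork.ofπ g hg)
      WalkingParallelPair.one
    exact hc.symm.trans ((congrArg (· ≫ _) ((hac n).isZero_homology.eq_of_tgt _ 0)).trans zero_comp)
  have w : K.d (n - 2) (n - 1) ≫ K.toCycles (n - 1) n = 0 := K.d_toCycles (n - 2) (n - 1) n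
  have w' : ((ModSite.tensorBi O).obj M).map (K.d (n - 2) (n - 1)) ≫
      ((ModSite.tensorBi O).obj M).map (K.toCycles (n - 1) n ≫ K.iCycles n) = 0 := by
    rw [HomologicalComplex.toCycles_i, ← Functor.map_comp, HomologicalComplex.d_comp_d,
      Functor.map_zero]
  refine ModKFlat.mono_map_of_exact_map _ (K.d (n - 2) (n - 1)) (K.toCycles (n - 1) n)
    (K.iCycles n) w w' ?_
  refine ShortComplex.exact_of_iso ?_ h
  exact ShortComplex.isoMk (Iso.refl _) (Iso.refl _) (Iso.refl _)
    ((Category.id_comp _).trans (Category.comp_id _).symm)
    ((Category.id_comp _).trans ((congrArg ((ModSite.tensorBi O).obj M).map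
      (K.toCycles_i (n - 1) n)).trans (Category.comp_id _).symm))

end Groth.Agent.S9052
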