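import Groth.Statements.S9056
import Groth.Agent.H15Site.ModKFlat
import Groth.Prelude.Def_KFlatSite
import Mathlib.CategoryTheory.Abelian.Images

open CategoryTheory CategoryTheory.Limits Opposite Groth.Agent.H15Site Groth.Agent.H15Site.ModTensor
open Groth.Agent.H16Derived


attribute [local instance 10000] SiteInst.hasSheafifySite SiteInst.hasWeakSheafifySite

set_option linter.style.haveILetI false
open CategoryTheory CategoryTheory.Limits Opposite

set_option autoImplicit false
universe u
open CategoryTheory CategoryTheory.Limits Opposite
attribute [local instance] HasDerivedCategory.standard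
open ModSite

namespace Groth.Agent.S9056

/-- On a ringed site (C, O), in a distinguished triangle of K(Mod(O)), if two of the three complexes are
K-flat then so is the third. Distinguished triangles are represented here by mapping cones: for a
morphism φ : K₁ → K₂ of complexes of O-modules with mapping cone C(φ), each of the three
two-out-of-three implications among K₁, K₂, C(φ) holds. -/
theorem result
    {C : Type u} [SmallCategory C] {J : GrothendieckTopology C} (O : Sheaf J CommRingCat.{u})
    {K₁ K₂ : CochainComplex (ModSite.Mod O) ℤ} (φ : K₁ ⟶ K₂) :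
    (ModSite.IsKFlat K₁ → ModSite.IsKFlat K₂ → ModSite.IsKFlat (CochainComplex.mappingCone φ)) ∧
    (ModSite.IsKFlat K₁ → ModSite.IsKFlat (CochainComplex.mappingCone φ) → ModSite.IsKFlat K₂) ∧
    (ModSite.IsKFlat K₂ → ModSite.IsKFlat (CochainComplex.mappingCone φ) → ModSite.IsKFlat K₁) := by
  have := ModKFlat.countableAB4 (O := O)
  simp only [ModKFlat.isKFlat_iff]
  have hS := KFlat.isFSES_of_splitting (F := ModSite.tensorBi O)
    (CochainComplex.mappingCone.triangleRotateShortComplex φ) fun q =>
    ⟨CochainComplex.mappingCone.triangleRotateShortComplexSplitting φ q⟩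
  refine ⟨fun h1 h2 => h1.mappingCone φ h2, fun h1 h3 => hS.isKFlat₁ h3 (h1.shift 1),
    fun h2 h3 => ?_⟩
  exact ((hS.isKFlat₃ h2 h3).shift (-1)).of_iso (shiftShiftNeg K₁ (1 : ℤ))

end Groth.Agent.S9056
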