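import Groth.Statements.S9057
import Groth.Agent.H15Site.ModKFlat
import Groth.Prelude.Def_KFlatSite
import Mathlib.CategoryTheory.Abelian.Images

open CategoryTheory CategoryTheory.Limits Opposite Groth.Agent.H15Site Groth.Agent.H15Site.ModTensor
open Groth.Agent.H16Derived


attribute [local instance 10000] SiteInst.hasSheafifySite SiteInst.hasWeakSheafifySite

set_option linter.style.haveILetI false
open CategoryTheory CategoryTheory.Limits Opposite

set_option autoImplicit false
universe u
open CategoryTheory CategoryTheory.Limits Opposite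
attribute [local instance] HasDerivedCategory.standard
open ModSite

namespace Groth.Agent.S9057

/-- On a ringed site (C, O), let 0 → K₁ → K₂ → K₃ → 0 be a short exact sequence of complexes of
O-modules whose third complex K₃ has flat terms. If two of K₁, K₂, K₃ are K-flat then so is the
third. -/
theorem result
    {C : Type u} [SmallCategory C] {J : GrothendieckTopology C} (O : Sheaf J CommRingCat.{u})
    (S : ShortComplex (CochainComplex (ModSite.Mod O) ℤ)) (hS : S.ShortExact)
    (h3 : ∀ n : ℤ, ModSite.IsFlat (S.X₃.X n)) :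
    (ModSite.IsKFlat S.X₁ → ModSite.IsKFlat S.X₂ → ModSite.IsKFlat S.X₃) ∧
    (ModSite.IsKFlat S.X₁ → ModSite.IsKFlat S.X₃ → ModSite.IsKFlat S.X₂) ∧
    (ModSite.IsKFlat S.X₂ → ModSite.IsKFlat S.X₃ → ModSite.IsKFlat S.X₁) := by
  have := ModKFlat.countableAB4 (O := O)
  simp only [ModKFlat.isKFlat_iff]
  have hF : KFlat.IsFSES (F := ModSite.tensorBi O) S := fun a q =>
    shortExact_tL_map_of_flat (hS.map_of_exact (HomologicalComplex.eval _ _ q)) (h3 q) a
  exact ⟨fun h1 h2 => hF.isKFlat₃ h1 h2, fun h1 h3 => hF.isKFlat₂ h1 h3,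
    fun h2 h3 => hF.isKFlat₁ h2 h3⟩

end Groth.Agent.S9057
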