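import Groth.Statements.S9058
import Groth.Agent.H15Site.ModKFlat
import Groth.Prelude.Def_KFlatSite
import Mathlib.CategoryTheory.Abelian.Images

open CategoryTheory CategoryTheory.Limits Opposite Groth.Agent.H15Site Groth.Agent.H15Site.ModTensor
open Groth.Agent.H16Derived


attribute [local instance 10000] SiteInst.hasSheafifySite SiteInst.hasWeakSheafifySite

set_option linter.style.haveILetI false
open CategoryTheory CategoryTheory.Limits Opposite

set_option autoImplicit false
universe u
open CategoryTheory CategoryTheory.Limits Opposite
attribute [local instance] HasDerivedCategory.standard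
open ModSite

namespace Groth.Agent.S9058

/-- On a ringed site (C, O), a bounded above complex of flat O-modules is K-flat. -/
theorem result
    {C : Type u} [SmallCategory C] {J : GrothendieckTopology C} (O : Sheaf J CommRingCat.{u})
    (K : CochainComplex (ModSite.Mod O) ℤ) (b : ℤ) (hb : K.IsStrictlyLE b)
    (hflat : ∀ n : ℤ, ModSite.IsFlat (K.X n)) : ModSite.IsKFlat K := by
  have := ModKFlat.countableAB4 (O := O)
  have := ModKFlat.hasExactColimitsOfShape_nat (O := O)
  rw [ModKFlat.isKFlat_iff]
  exact KFlat.isKFlat_of_boundedAbove K b
    (fun q hq => CochainComplex.isZero_of_isStrictlyLE K b q hq)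
    (fun q => (ModKFlat.isFlatObj_iff _).2 (hflat q))

end Groth.Agent.S9058
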