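import Groth.Statements.S9060
import Groth.Agent.H15Site.ModKFlat
import Groth.Prelude.Def_KFlatSite
import Mathlib.CategoryTheory.Abelian.Images

open CategoryTheory CategoryTheory.Limits Opposite Groth.Agent.H15Site Groth.Agent.H15Site.ModTensor
open Groth.Agent.H16Derived


attribute [local instance 10000] SiteInst.hasSheafifySite SiteInst.hasWeakSheafifySite

set_option linter.style.haveILetI false
open CategoryTheory CategoryTheory.Limits Opposite

set_option autoImplicit false
universe u
open CategoryTheory CategoryTheory.Limits Opposite
attribute [local instance] HasDerivedCategory.standard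
open ModSite

namespace Groth.Agent.S9060

/-- On a ringed site (C, O), for every complex G of O-modules there are a K-flat complex K with flat
terms and a quasi-isomorphism K → G which is surjective in every degree. -/
theorem result
    {C : Type u} [SmallCategory C] {J : GrothendieckTopology C} (O : Sheaf J CommRingCat.{u})
    (G : CochainComplex (ModSite.Mod O) ℤ) :
    ∃ (K : CochainComplex (ModSite.Mod O) ℤ) (q : K ⟶ G), ModSite.IsKFlat K ∧
      (∀ n : ℤ, ModSite.IsFlat (K.X n)) ∧ QuasiIso q ∧ ∀ n : ℤ, Epi (q.f n) := by
  exact ⟨_, ModKFlat.resψ G, (ModKFlat.isKFlat_iff _).2 (ModKFlat.isKFlat_res G),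
    ModKFlat.isFlat_res_X G, ModKFlat.quasiIso_resψ G⟩

end Groth.Agent.S9060
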