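import Groth.Statements.S9061
import Groth.Agent.H15Site.ModKFlat
import Groth.Prelude.Def_KFlatSite
import Mathlib.CategoryTheory.Abelian.Images

open CategoryTheory CategoryTheory.Limits Opposite Groth.Agent.H15Site Groth.Agent.H15Site.ModTensor
open Groth.Agent.H16Derived


attribute [local instance 10000] SiteInst.hasSheafifySite SiteInst.hasWeakSheafifySite

set_option linter.style.haveILetI false
open CategoryTheory CategoryTheory.Limits Opposite

set_option autoImplicit false
universe u
open CategoryTheory CategoryTheory.Limits Opposite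
attribute [local instance] HasDerivedCategory.standard
open ModSite

namespace Groth.Agent.S9061

/-- On a ringed site (C, O), let a : K → L be a map of complexes of O-modules with K K-flat. Then there
exist a K-flat complex N and maps b : K → N, c : N → L such that c is a quasi-isomorphism and a is
homotopic to c ∘ b. If the terms of K are flat, then N may moreover be chosen with flat terms. -/
theorem result
    {C : Type u} [SmallCategory C] {J : GrothendieckTopology C} (O : Sheaf J CommRingCat.{u})
    {K L : CochainComplex (ModSite.Mod O) ℤ} (a : K ⟶ L) (hK : ModSite.IsKFlat K) :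
    ∃ (N : CochainComplex (ModSite.Mod O) ℤ) (b : K ⟶ N) (c : N ⟶ L), ModSite.IsKFlat N ∧ QuasiIso c ∧
      Nonempty (Homotopy a (b ≫ c)) ∧
      ((∀ n : ℤ, ModSite.IsFlat (K.X n)) → ∀ n : ℤ, ModSite.IsFlat (N.X n)) := by
  have := ModKFlat.countableAB4 (O := O)
  have := (ModKFlat.quasiIso_resψ K).1
  have := (ModKFlat.quasiIso_resψ L).1
  obtain ⟨N, b, c, hN, hc, hbc, hf⟩ := KFlat.exists_factor (F := ModSite.tensorBi O) a
    (ModKFlat.resψ K) (ModKFlat.resψ L)
    ((KFlat.Res.P (ModKFlat.cover O) (ModKFlat.coverπ O)).map a)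
    ((KFlat.Res.ψ (ModKFlat.cover O) (ModKFlat.coverπ O)).naturality a)
    ((ModKFlat.isKFlat_iff K).1 hK) (ModKFlat.isKFlat_res K) (ModKFlat.isKFlat_res L)
  exact ⟨N, b, c, (ModKFlat.isKFlat_iff N).2 hN, hc, ⟨Homotopy.ofEq hbc.symm⟩,
    fun hKf n => (ModKFlat.isFlatObj_iff _).1 (hf (fun q => (ModKFlat.isFlatObj_iff _).2 (hKf q))
      (fun q => (ModKFlat.isFlatObj_iff _).2 (ModKFlat.isFlat_res_X K q))
      (fun q => (ModKFlat.isFlatObj_iff _).2 (ModKFlat.isFlat_res_X L q)) n)⟩

end Groth.Agent.S9061
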