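import Groth.Statements.S9064
import Groth.Agent.H15Site.RlimTruncApps
import Groth.Agent.H15Site.CohInTri

set_option autoImplicit false
universe u
open CategoryTheory CategoryTheory.Limits Opposite
attribute [local instance] HasDerivedCategory.standard
open ModSite

namespace Groth.Agent.S9064

/-- Let (C, O) be a ringed site, A ⊂ Mod(O) a weak Serre subcategory and B a set of objects such that
every object has a covering by members of B and every V ∈ B has an integer d_V and a cofinal system
of coverings {V_i → V} with H^p(V_i, F) = 0 for all F ∈ A and p > d_V. Let (K_n) be an inverse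
system in D^+_A(O) such that for every j the system (H^j(K_n))_n is eventually constant, with value
H^j say. Then H^j(R lim K_n) = H^j: for a derived limit L of (K_n) through maps a_n : L → K_n, each
H^j(a_n) is an isomorphism for n large. Cofinality is expressed by asking every covering sieve of V
to contain such a covering family; H^p(V, -) of a module is the cohomology of its underlying abelian
sheaf; the product of the K_n is an instance hypothesis. -/
theorem result
    {C : Type u} [SmallCategory C] {J : GrothendieckTopology C} (O : Sheaf J CommRingCat.{u})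
    (A : ObjectProperty (ModSite.Mod O)) [WSerre.IsWeakSerre A] (B : Set C)
    (hB : ∀ U : C, ∃ (ι : Type u) (Y : ι → C) (g : ∀ i, Y i ⟶ U), Sieve.ofArrows Y g ∈ J U ∧ ∀ i, Y i ∈ B)
    (hA : ∀ V ∈ B, ∃ d : ℕ, ∀ T ∈ J V, ∃ (ι : Type u) (Y : ι → C) (g : ∀ i, Y i ⟶ V),
      (∀ i, T.arrows (g i)) ∧ Sieve.ofArrows Y g ∈ J V ∧
      ∀ (i : ι) (F : ModSite.Mod O), A F → ∀ k : ℕ, d < k → Subsingleton (ModSite.HU O F k (Y i)))
    (K : ℕ → DerivedCategory (ModSite.Mod O)) (t : ∀ n, K (n + 1) ⟶ K n) [HasProduct K]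
    (hK : ∀ n, WSerre.cohInPlus A (K n))
    (hconst : ∀ j : ℤ, ∃ n₀ : ℕ, ∀ n, n₀ ≤ n →
      IsIso ((DerivedCategory.homologyFunctor (ModSite.Mod O) j).map (t n)))
    (L : DerivedCategory (ModSite.Mod O)) (a : ∀ n, L ⟶ K n) (hL : CohCx.IsRlimVia K t L a) (j : ℤ) :
    ∃ n₀ : ℕ, ∀ n, n₀ ≤ n → IsIso ((DerivedCategory.homologyFunctor (ModSite.Mod O) j).map (a n)) := by
  refine H15Site.RlimTrunc.isIso_homology_of_eventually_constant (H15Site.SiteGenInst.genMod O) A a hL
    (fun n => (hK n).2) (fun n Z g d hT q => ?_) hconst (fun U => ?_) j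
  · exact H15Site.CohInTri.cohIn_obj₂ A _ (Pretriangulated.rot_of_distTriang _ hT) (hK n).1
      (H15Site.CohInTri.cohIn_shift A _ 1 (hK (n + 1)).1) q
  · refine H15Site.SiteGenInst.cofAt_of_cofinal B _ hB (fun V hV => ?_) U
    obtain ⟨d, hd⟩ := hA V hV
    refine ⟨d, fun T hT => ?_⟩
    obtain ⟨ι, Y, g, h1, h2, h3⟩ := hd T hT
    exact ⟨ι, Y, g, h1, h2, fun i F hF k hk =>
      (H15Site.SiteGenInst.van_mod_iff O k (Y i) F).2 (h3 i F hF k hk)⟩

end Groth.Agent.S9064
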