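import Groth.Statements.S9071
import Groth.Agent.H15Site.EpsEquiv

set_option autoImplicit false
universe u
open CategoryTheory CategoryTheory.Limits Opposite
attribute [local instance] HasDerivedCategory.standard
open SiteCmp

set_option linter.style.haveILetI false

attribute [local instance 10000] Groth.Agent.H15Site.SiteInst.hasSheafifySite
  Groth.Agent.H15Site.SiteInst.hasWeakSheafifySite


namespace Groth.Agent.S9071

/-- Let τ' be a coarser topology than τ on a category C, O a τ-sheaf of rings and ε the comparison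
morphism from (C_τ, O) to (C_τ', O). Let B be a set of objects and A a full subcategory of
presheaves of O-modules such that (1) every object of A is a τ-sheaf, (2) A forms a weak Serre
subcategory inside Mod(O_τ), (3) each object of C admits a τ'-covering by members of B, and (4)
H^p_τ(U, F) = 0 for U ∈ B, F ∈ A, p > 0. Then the essential image of A under ε_* forms a weak Serre
subcategory inside Mod(O_τ') and ε^*, Rε_* are quasi-inverse equivalences between D_A(O_τ') and
D_A(O_τ): on objects with cohomology sheaves in the respective subcategory, ε^* and Rε_* preserve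
that condition and the unit and counit are isomorphisms. In the order of topologies used here the
finer topology τ is the larger one, J, and τ' is J' ≤ J; A is given as a property of τ-sheaves of
modules (condition (1) built in); flatness of ε, existence of the unbounded Rε_* and an adjunction
ε^* ⊣ Rε_* are hypotheses. -/
theorem result
    {C : Type u} [SmallCategory C] {J J' : GrothendieckTopology C} (h : J' ≤ J) (O : Sheaf J CommRingCat.{u})
    [PreservesFiniteLimits (SiteCmp.eps h O).pull] [SiteCmp.HasRpushD (SiteCmp.eps h O)]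
    (adj : SiteCmp.pullD (SiteCmp.eps h O) ⊣ SiteCmp.RpushD (SiteCmp.eps h O))
    (A : ObjectProperty (ModSite.Mod O)) [WSerre.IsWeakSerre A] (B : Set C)
    (h3 : ∀ U : C, ∃ (ι : Type u) (Y : ι → C) (g : ∀ i, Y i ⟶ U), Sieve.ofArrows Y g ∈ J' U ∧ ∀ i, Y i ∈ B)
    (h4 : ∀ U ∈ B, ∀ F : ModSite.Mod O, A F → ∀ p : ℕ, 0 < p → Subsingleton (ModSite.HU O F p U)) :
    WSerre.IsWeakSerre (A.map (SiteCmp.eps h O).push) ∧
    (∀ Y : DerivedCategory (ModSite.Mod (SiteCmp.epsRing h O)), WSerre.cohIn (A.map (SiteCmp.eps h O).push) Y →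
      WSerre.cohIn A ((SiteCmp.pullD (SiteCmp.eps h O)).obj Y) ∧ IsIso (adj.unit.app Y)) ∧
    (∀ X : DerivedCategory (ModSite.Mod O), WSerre.cohIn A X →
      WSerre.cohIn (A.map (SiteCmp.eps h O).push) ((SiteCmp.RpushD (SiteCmp.eps h O)).obj X) ∧
      IsIso (adj.counit.app X)) := by
  let f := SiteCmp.eps h O
  haveI : IsIso f.adj.counit := H15Site.EpsEquiv.isIso_counit h O
  have hvan : ∀ U ∈ B, ∀ F : ModSite.Mod O, A F → ∀ p : ℕ, 0 < p →
      Subsingleton (ModSite.HU O F p (f.fn.obj U)) := fun U hU F hF p hp => h4 U hU F hF p hp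
  haveI hW := H15Site.EpsEquiv.isWeakSerre_map f A B h3 hvan
  have h2a : ∀ F', A.map f.push F' → A (f.pull.obj F') := fun F' hF' => by
    obtain ⟨F, hF, ⟨a⟩⟩ := (A.prop_map_iff f.push _).1 hF'
    exact A.prop_of_iso ((asIso (f.adj.counit.app F)).symm ≪≫ f.pull.mapIso a) hF
  have hunit : ∀ F', A.map f.push F' → IsIso (f.adj.unit.app F') := fun F' hF' => by
    haveI := H15Site.EpsEquiv.full_push h O
    haveI := H15Site.EpsEquiv.faithful_push h O
    obtain ⟨F, hF, ⟨a⟩⟩ := (A.prop_map_iff f.push _).1 hF'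
    exact f.adj.isIso_unit_app_of_iso a.symm
  have h2b : ∀ F' G', A.map f.push F' → A.map f.push G' →
      Function.Bijective (fun φ : F' ⟶ G' => f.pull.map φ) := fun F' G' _ hG' => by
    haveI := hunit G' hG'
    have e : (fun φ : F' ⟶ G' => f.pull.map φ) =
        fun φ => (f.adj.homEquiv F' (f.pull.obj G')).symm (φ ≫ f.adj.unit.app G') := by
      funext φ
      exact ((f.adj.homEquiv F' (f.pull.obj G')).eq_symm_apply).2
        ((f.adj.homEquiv_unit _ _ _).trans (f.adj.unit.naturality φ).symm)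
    rw [e]
    exact (f.adj.homEquiv F' (f.pull.obj G')).symm.bijective.comp
      (Iso.homToEquiv (asIso (f.adj.unit.app G')) (Z := F')).bijective
  have h2c : ∀ F, A F → ∃ F', A.map f.push F' ∧ Nonempty (f.pull.obj F' ≅ F) := fun F hF =>
    ⟨f.push.obj F, (A.prop_map_iff f.push _).2 ⟨F, hF, ⟨Iso.refl _⟩⟩, ⟨asIso (f.adj.counit.app F)⟩⟩
  have h3' : ∀ F', A.map f.push F' → IsIso (adj.unit.app (SiteCmp.inD _ F')) := fun F' hF' => by
    haveI := hunit F' hF'
    obtain ⟨r⟩ := H15Site.EpsEquiv.nonempty_push_iso f A B h3 hvan _ (h2a F' hF')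
    exact H15Site.EpsEquiv.isIso_unit_single f adj F' (h2b F' F' hF' hF')
      ⟨r ≪≫ (DerivedCategory.singleFunctor _ 0).mapIso (asIso (f.adj.unit.app F')).symm⟩
  have hBJ : ∀ U : C, ∃ (ι : Type u) (Y : ι → C) (g : ∀ i, Y i ⟶ U),
      Sieve.ofArrows Y g ∈ J U ∧ ∀ i, Y i ∈ B := fun U => by
    obtain ⟨ι, Y, g, hg, hY⟩ := h3 U
    exact ⟨ι, Y, g, h U hg, hY⟩
  refine ⟨hW, H15Site.SiteCmpEquiv.main f adj A (A.map f.push) h2a h2b h2c h3' B B hBJ ?_ h3
    (fun _ Y => Y ∈ B) ?_ ?_⟩
  · refine fun V _ => ⟨0, fun T hT => ?_⟩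
    obtain ⟨ι, Y, g, h1, h2, h5⟩ := H15Site.SiteGenInst.exists_cofinal_mem B hBJ hT
    exact ⟨ι, Y, g, h1, h2, fun i F hF k hk => h4 _ (h5 i) F hF k hk⟩
  · refine fun V _ => ⟨0, fun T hT => ?_⟩
    obtain ⟨ι, Y, g, h1, h2, h5⟩ := H15Site.SiteGenInst.exists_cofinal_mem B h3 hT
    exact ⟨ι, Y, g, h1, h2, h5⟩
  · intro d Y hY F hF i hi
    obtain ⟨k, rfl⟩ : ∃ k : ℕ, i = k := ⟨i.toNat, by omega⟩
    refine H15Site.FreePush.eq_zero_push f Y _ (k : ℤ) fun w => ?_
    exact ((H15Site.SiteGenInst.van_mod_iff O k (f.fn.obj Y) F).2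
      (hvan Y hY F hF k (lt_of_le_of_lt (Nat.zero_le d) (Int.ofNat_lt.1 hi)))).elim w 0

end Groth.Agent.S9071
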