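import Groth.Statements.S9073
import Groth.Agent.H15Site.CmpThms

set_option autoImplicit false
universe u
open CategoryTheory CategoryTheory.Limits Opposite
open SiteCmp

set_option linter.style.haveILetI false
set_option linter.unusedVariables false

attribute [local instance 10000] Groth.Agent.H15Site.SiteInst.hasSheafifySite
  Groth.Agent.H15Site.SiteInst.hasWeakSheafifySite Groth.Agent.H15Site.SiteInst.enoughInjSite

namespace Groth.Agent.S9073

/-- Setting (two topologies τ' coarser than τ on a category C, rendered as J' ≤ J with J the finer one;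
for each object X the comparison morphism ε_X between the localised sites C_τ/X and C_τ'/X, whose
direct image ε_{X,*} regards a τ-sheaf as a τ'-sheaf): P is a class of arrows of C and for every X a
weak Serre subcategory A'_X of the abelian τ'-sheaves on C/X is given, such that (1) arrows of P
admit all base changes and these stay in P; (2) restriction along any f : X → Y sends A'_Y into
A'_X; (3) members of A'_X satisfy the sheaf condition for τ; (4) for f : X → Y in P the higher
direct images R^i f_{τ',*} (right derived functors of the relocalisation pushforward on τ'-sheaves)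
send A'_X into A'_Y for all i ≥ 0; (5) every τ-covering of any U is refined by a family obtained
from a τ'-covering {V_j → U}, single arrows W_j → V_j in P that are τ-coverings, and τ'-coverings
{W_jk → W_j}. Write A_X for the abelian τ-sheaves F on C/X with ε_{X,*}F in A'_X. Then for every X
and every F in A_X we have R^i ε_{X,*}F = 0 for all i ≥ 1, where R^i ε_{X,*} are the right derived
functors of ε_{X,*} on abelian sheaves. (The published lemma also states consequences for bounded
below complexes, not stated here.) -/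
theorem result
    {C : Type u} [SmallCategory C] {J J' : GrothendieckTopology C} (h : J' ≤ J)
    (P : MorphismProperty C)
    (A' : ∀ X : C, ObjectProperty (Sheaf (J'.over X) AddCommGrpCat.{u})) [∀ X : C, WSerre.IsWeakSerre (A' X)]
    (h1 : ∀ ⦃X Y : C⦄ (f : X ⟶ Y), P f → ∀ ⦃Y' : C⦄ (g : Y' ⟶ Y),
      ∃ (W : C) (p : W ⟶ Y') (q : W ⟶ X), IsPullback p q g f ∧ P p)
    (h2 : ∀ ⦃X Y : C⦄ (f : X ⟶ Y) (F' : Sheaf (J'.over Y) AddCommGrpCat.{u}), A' Y F' →
      A' X ((CohSite.push (J'.over Y) (J'.over X) (Over.map f)).obj F'))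
    (h3 : ∀ (X : C) (F' : Sheaf (J'.over X) AddCommGrpCat.{u}), A' X F' → Presheaf.IsSheaf (J.over X) F'.obj)
    (h4 : ∀ ⦃X Y : C⦄ (f : X ⟶ Y)
      [((Over.map f).sheafPushforwardCocontinuous AddCommGrpCat.{u} (J'.over X) (J'.over Y)).Additive],
      P f → ∀ (F' : Sheaf (J'.over X) AddCommGrpCat.{u}), A' X F' → ∀ i : ℕ,
        A' Y ((((Over.map f).sheafPushforwardCocontinuous AddCommGrpCat.{u} (J'.over X) (J'.over Y)).rightDerived i).obj F'))
    (h5 : ∀ (U : C) (S : Sieve U), S ∈ J U → ∃ (ι : Type u) (V : ι → C) (v : ∀ j, V j ⟶ U),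
      Sieve.ofArrows V v ∈ J' U ∧ ∀ j, ∃ (W : C) (w : W ⟶ V j), P w ∧
        Sieve.ofArrows (fun _ : PUnit.{u + 1} => W) (fun _ => w) ∈ J (V j) ∧
        ∃ (κ : Type u) (Wk : κ → C) (wk : ∀ k, Wk k ⟶ W), Sieve.ofArrows Wk wk ∈ J' W ∧
          ∀ k, S.arrows (wk k ≫ w ≫ v j))
    (X : C) (F : Sheaf (J.over X) AddCommGrpCat.{u}) (hF : A' X ((SiteCmp.epsSh (SiteCmp.over_le h X) AddCommGrpCat.{u}).obj F)) (i : ℕ) (hi : 1 ≤ i) :
    IsZero (((SiteCmp.epsSh (SiteCmp.over_le h X) AddCommGrpCat.{u}).rightDerived i).obj F) := by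
  let D : H15Site.CmpSite.Data J J' :=
    { le := h, P := P, A' := A', ws := inferInstance, h2 := h2, h3 := h3
      h4 := fun X Y f hf F' hF' i => h4 f hf F' hF' i
      h5 := h5 }
  exact H15Site.CmpSite.Vn_all D i X F hF i hi le_rfl

end Groth.Agent.S9073
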