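import Groth.Statements.S9079
import Groth.Agent.H15Site.CmpThms

set_option autoImplicit false
universe u
open CategoryTheory CategoryTheory.Limits Opposite
open SiteCmp

set_option linter.style.haveILetI false
set_option linter.unusedVariables false

attribute [local instance 10000] Groth.Agent.H15Site.SiteInst.hasSheafifySite
  Groth.Agent.H15Site.SiteInst.hasWeakSheafifySite Groth.Agent.H15Site.SiteInst.enoughInjSite

namespace Groth.Agent.S9079

/-- Setting (two topologies τ' coarser than τ on a category C, rendered as J' ≤ J with J the finer one;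
for each object X the comparison morphism ε_X between the localised sites C_τ/X and C_τ'/X, whose
direct image ε_{X,*} regards a τ-sheaf as a τ'-sheaf): P is a class of arrows of C and for every X a
weak Serre subcategory A'_X of the abelian τ'-sheaves on C/X is given, such that (1) arrows of P
admit all base changes and these stay in P; (2) restriction along any f : X → Y sends A'_Y into
A'_X; (3) members of A'_X satisfy the sheaf condition for τ; (4) for f : X → Y in P the higher
direct images R^i f_{τ',*} (right derived functors of the relocalisation pushforward on τ'-sheaves)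
send A'_X into A'_Y for all i ≥ 0; (5) every τ-covering of any U is refined by a family obtained
from a τ'-covering {V_j → U}, single arrows W_j → V_j in P that are τ-coverings, and τ'-coverings
{W_jk → W_j}. Write A_X for the abelian τ-sheaves F on C/X with ε_{X,*}F in A'_X. Assume (V_n): for
all Z and all G in A_Z, R^i ε_{Z,*}G = 0 for 1 ≤ i ≤ n. Then for f : X → Y in P, F in A_X and i ≤ n
we have R^i f_{τ',*} ε_{X,*}F = ε_{Y,*} R^i f_{τ,*}F. Here R^i f_{τ,*} and R^i f_{τ',*} are the
right derived functors of the relocalisation pushforwards (right adjoints of restriction along f)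
for the two topologies, the additivity of the τ-one being an instance hypothesis; only the existence
of an isomorphism between the two sheaves is asserted (the comparison map is not named here). -/
theorem result
    {C : Type u} [SmallCategory C] {J J' : GrothendieckTopology C} (h : J' ≤ J)
    (P : MorphismProperty C)
    (A' : ∀ X : C, ObjectProperty (Sheaf (J'.over X) AddCommGrpCat.{u})) [∀ X : C, WSerre.IsWeakSerre (A' X)]
    (h1 : ∀ ⦃X Y : C⦄ (f : X ⟶ Y), P f → ∀ ⦃Y' : C⦄ (g : Y' ⟶ Y),
      ∃ (W : C) (p : W ⟶ Y') (q : W ⟶ X), IsPullback p q g f ∧ P p)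
    (h2 : ∀ ⦃X Y : C⦄ (f : X ⟶ Y) (F' : Sheaf (J'.over Y) AddCommGrpCat.{u}), A' Y F' →
      A' X ((CohSite.push (J'.over Y) (J'.over X) (Over.map f)).obj F'))
    (h3 : ∀ (X : C) (F' : Sheaf (J'.over X) AddCommGrpCat.{u}), A' X F' → Presheaf.IsSheaf (J.over X) F'.obj)
    (h4 : ∀ ⦃X Y : C⦄ (f : X ⟶ Y)
      [((Over.map f).sheafPushforwardCocontinuous AddCommGrpCat.{u} (J'.over X) (J'.over Y)).Additive],
      P f → ∀ (F' : Sheaf (J'.over X) AddCommGrpCat.{u}), A' X F' → ∀ i : ℕ,
        A' Y ((((Over.map f).sheafPushforwardCocontinuous AddCommGrpCat.{u} (J'.over X) (J'.over Y)).rightDerived i).obj F'))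
    (h5 : ∀ (U : C) (S : Sieve U), S ∈ J U → ∃ (ι : Type u) (V : ι → C) (v : ∀ j, V j ⟶ U),
      Sieve.ofArrows V v ∈ J' U ∧ ∀ j, ∃ (W : C) (w : W ⟶ V j), P w ∧
        Sieve.ofArrows (fun _ : PUnit.{u + 1} => W) (fun _ => w) ∈ J (V j) ∧
        ∃ (κ : Type u) (Wk : κ → C) (wk : ∀ k, Wk k ⟶ W), Sieve.ofArrows Wk wk ∈ J' W ∧
          ∀ k, S.arrows (wk k ≫ w ≫ v j))
    (n : ℕ)
    (hV : ∀ (Z : C) (G : Sheaf (J.over Z) AddCommGrpCat.{u}), A' Z ((SiteCmp.epsSh (SiteCmp.over_le h Z) AddCommGrpCat.{u}).obj G) →
      ∀ i : ℕ, 1 ≤ i → i ≤ n → IsZero (((SiteCmp.epsSh (SiteCmp.over_le h Z) AddCommGrpCat.{u}).rightDerived i).obj G))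
    {X Y : C} (f : X ⟶ Y) (hf : P f)
    [((Over.map f).sheafPushforwardCocontinuous AddCommGrpCat.{u} (J'.over X) (J'.over Y)).Additive]
    [((Over.map f).sheafPushforwardCocontinuous AddCommGrpCat.{u} (J.over X) (J.over Y)).Additive]
    (F : Sheaf (J.over X) AddCommGrpCat.{u}) (hF : A' X ((SiteCmp.epsSh (SiteCmp.over_le h X) AddCommGrpCat.{u}).obj F)) (i : ℕ) (hi : i ≤ n) :
    Nonempty ((((Over.map f).sheafPushforwardCocontinuous AddCommGrpCat.{u} (J'.over X) (J'.over Y)).rightDerived i).obj
        ((SiteCmp.epsSh (SiteCmp.over_le h X) AddCommGrpCat.{u}).obj F) ≅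
      (SiteCmp.epsSh (SiteCmp.over_le h Y) AddCommGrpCat.{u}).obj ((((Over.map f).sheafPushforwardCocontinuous AddCommGrpCat.{u} (J.over X) (J.over Y)).rightDerived i).obj F)) := by
  let D : H15Site.CmpSite.Data J J' :=
    { le := h, P := P, A' := A', ws := inferInstance, h2 := h2, h3 := h3
      h4 := fun X Y f hf F' hF' i => h4 f hf F' hF' i
      h5 := h5 }
  exact H15Site.CmpSite.nonempty_rightDerived_dir_iso D f hf F hF i

end Groth.Agent.S9079
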