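import Groth.Statements.S9080
import Groth.Agent.H15Site.SiteCmpEquiv

set_option autoImplicit false
universe u
open CategoryTheory CategoryTheory.Limits Opposite
attribute [local instance] HasDerivedCategory.standard
open SiteCmp

set_option linter.style.haveILetI false

namespace Groth.Agent.S9080

/-- Let f be a flat morphism from the ringed site (C, O_C) to the ringed site (D, O_D), with underlying
continuous functor u : D → C, and A ⊂ Mod(O_C), A' ⊂ Mod(O_D) weak Serre subcategories such that (2)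
f^* restricts to an equivalence from A' onto A, (3) the unit F' → Rf_*f^*F' is invertible for each
F' ∈ A', (4) the data C, O_C, A admit a set B of objects covering everything, every V ∈ B having an
integer d_V and a cofinal system of coverings {V_i → V} with H^p(V_i, F) = 0 for F ∈ A and p > d_V,
and (5) there is a set B' of objects of D covering everything, every V' ∈ B' having an integer
d_{V'} and a cofinal system of coverings {V'_i → V'} with H^p(u(V'_i), F) = 0 for F ∈ A and p >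
d_{V'}. Then f^* : D_{A'}(O_D) → D_A(O_C) is an equivalence with quasi-inverse Rf_*: on objects with
cohomology sheaves in A' (resp. A) the functor f^* (resp. Rf_*) lands in objects with cohomology
sheaves in A (resp. A') and the unit (resp. counit) is an isomorphism there. The adjunction f^* ⊣
Rf_* on unbounded derived categories is a hypothesis; f^* is exact, so it is its own derived
functor. -/
theorem result
    {C : Type u} [SmallCategory C] {J : GrothendieckTopology C} {O_C : Sheaf J CommRingCat.{u}}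
    {D : Type u} [SmallCategory D] {K : GrothendieckTopology D} {O_D : Sheaf K CommRingCat.{u}}
    (f : ModSite.RMor O_C O_D) [PreservesFiniteLimits f.pull] [SiteCmp.HasRpushD f]
    (adj : SiteCmp.pullD f ⊣ SiteCmp.RpushD f)
    (A : ObjectProperty (ModSite.Mod O_C)) [WSerre.IsWeakSerre A]
    (A' : ObjectProperty (ModSite.Mod O_D)) [WSerre.IsWeakSerre A']
    (h2a : ∀ F' : ModSite.Mod O_D, A' F' → A (f.pull.obj F'))
    (h2b : ∀ F' G' : ModSite.Mod O_D, A' F' → A' G' →
      Function.Bijective (fun φ : F' ⟶ G' => f.pull.map φ))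
    (h2c : ∀ F : ModSite.Mod O_C, A F → ∃ F' : ModSite.Mod O_D, A' F' ∧ Nonempty (f.pull.obj F' ≅ F))
    (h3 : ∀ F' : ModSite.Mod O_D, A' F' → IsIso (adj.unit.app (SiteCmp.inD O_D F')))
    (B : Set C) (B' : Set D)
    (hB : ∀ U : C, ∃ (ι : Type u) (Y : ι → C) (g : ∀ i, Y i ⟶ U), Sieve.ofArrows Y g ∈ J U ∧ ∀ i, Y i ∈ B)
    (hA : ∀ V ∈ B, ∃ d : ℕ, ∀ T ∈ J V, ∃ (ι : Type u) (Y : ι → C) (g : ∀ i, Y i ⟶ V),
      (∀ i, T.arrows (g i)) ∧ Sieve.ofArrows Y g ∈ J V ∧
      ∀ (i : ι) (F : ModSite.Mod O_C), A F → ∀ k : ℕ, d < k → Subsingleton (ModSite.HU O_C F k (Y i)))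
    (hB' : ∀ U : D, ∃ (ι : Type u) (Y : ι → D) (g : ∀ i, Y i ⟶ U), Sieve.ofArrows Y g ∈ K U ∧ ∀ i, Y i ∈ B')
    (hA' : ∀ V ∈ B', ∃ d : ℕ, ∀ T ∈ K V, ∃ (ι : Type u) (Y : ι → D) (g : ∀ i, Y i ⟶ V),
      (∀ i, T.arrows (g i)) ∧ Sieve.ofArrows Y g ∈ K V ∧
      ∀ (i : ι) (F : ModSite.Mod O_C), A F → ∀ k : ℕ, d < k → Subsingleton (ModSite.HU O_C F k (f.fn.obj (Y i)))) :
    (∀ Y : DerivedCategory (ModSite.Mod O_D), WSerre.cohIn A' Y →
      WSerre.cohIn A ((SiteCmp.pullD f).obj Y) ∧ IsIso (adj.unit.app Y)) ∧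
    (∀ X : DerivedCategory (ModSite.Mod O_C), WSerre.cohIn A X →
      WSerre.cohIn A' ((SiteCmp.RpushD f).obj X) ∧ IsIso (adj.counit.app X)) := by
  refine H15Site.SiteCmpEquiv.main f adj A A' h2a h2b h2c h3 B B' hB hA hB'
    (fun d Y => ∀ F : ModSite.Mod O_C, A F → ∀ k : ℕ, d < k →
      Subsingleton (ModSite.HU O_C F k (f.fn.obj Y))) hA' ?_
  intro d Y hY F hF i hi z
  refine H15Site.FreePush.eq_zero_push f Y _ i (fun w => ?_) z
  obtain ⟨k, rfl⟩ : ∃ k : ℕ, i = k := ⟨i.toNat, by omega⟩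
  exact ((H15Site.SiteGenInst.van_mod_iff O_C k (f.fn.obj Y) F).2
    (hY F hF k (Int.ofNat_lt.1 hi))).elim w 0

end Groth.Agent.S9080
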