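import Groth.Statements.S9085
import Groth.Agent.H15Site.ModFlat

open CategoryTheory CategoryTheory.Limits Opposite MonoidalCategory Groth.Agent.H15Site Groth.Agent.H15Site.ModTensor

attribute [local instance 10000] SiteInst.hasSheafifySite SiteInst.hasWeakSheafifySite

set_option linter.style.haveILetI false
open CategoryTheory CategoryTheory.Limits Opposite

set_option autoImplicit false
universe u
open CategoryTheory
open ModSite

namespace Groth.Agent.S9085

/-- On a small ringed site (C, O) with O commutative: the tensor product G ⊗_O F of two flat O-modules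
is flat (flat meaning that tensoring with the module is exact on O-modules). -/
theorem result {C : Type u} [SmallCategory C] {J : GrothendieckTopology C}
    (O : Sheaf J CommRingCat.{u}) (G F : ModSite.Mod O) (hG : ModSite.IsFlat G) (hF : ModSite.IsFlat F) :
    ModSite.IsFlat (((ModSite.tensorBi O).obj G).obj F) := by
  rw [isFlat_iff] at hG hF ⊢
  exact Functor.PreservesMonomorphisms.of_iso
    (F := tR G ⋙ tR F) <|
    (Functor.isoWhiskerRight (tRIso G) (tR F) ≪≫
      Functor.isoWhiskerLeft (forg O ⋙ tensorRight ((forg O).obj G)) (aShTR F) ≪≫
      Functor.isoWhiskerLeft (forg O)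
        (Functor.isoWhiskerRight (tensorRightTensor ((forg O).obj G) ((forg O).obj F)).symm (aSh O)) ≪≫
      (tRaSh (((forg O).obj G) ⊗ ((forg O).obj F))).symm :)

end Groth.Agent.S9085
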