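import Groth.Statements.S9089


set_option autoImplicit false
universe u
open CategoryTheory Opposite
open ModSite

set_option linter.style.haveILetI false
open Opposite

namespace Groth.Agent.S9089

variable {C : Type u} [SmallCategory C] {J : GrothendieckTopology C} (O : Sheaf J CommRingCat.{u})

open Classical in
lemma aux (h : ∀ (U : C) (f : O.obj.obj (op U)), ∃ S ∈ J U, ∀ ⦃V : C⦄ (g : V ⟶ U), S g →
        IsUnit ((O.obj.map g.op).hom f) ∨ IsUnit ((O.obj.map g.op).hom (1 - f))) :
    ∀ (n : ℕ) (U : C) (b : Fin (n + 1) → O.obj.obj (op U)), IsUnit (∑ i, b i) →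
      ∃ S ∈ J U, ∀ ⦃V : C⦄ (g : V ⟶ U), S g → ∃ i, IsUnit ((O.obj.map g.op).hom (b i)) := by
  intro n
  induction n with
  | zero =>
    intro U b hb
    rw [Fin.sum_univ_one] at hb
    exact ⟨⊤, J.top_mem U, fun V g _ => ⟨0, hb.map _⟩⟩
  | succ n ih =>
    intro U b hb
    obtain ⟨w, hw⟩ := isUnit_iff_exists_inv.1 hb
    obtain ⟨S, hS, hSc⟩ := h U (b 0 * w)
    choose T hT hTc using fun {V : C} (g : V ⟶ U)
      (hg : IsUnit (∑ i : Fin (n + 1), (O.obj.map g.op).hom (b i.succ))) => ih V _ hg
    refine ⟨Sieve.bind S.arrows (fun V g _ => if hg : IsUnit (∑ i : Fin (n + 1), (O.obj.map g.op).hom (b i.succ))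
      then T g hg else ⊤), J.bind_covering hS (fun V g _ => ?_), ?_⟩
    · split_ifs with hg
      · exact hT g hg
      · exact J.top_mem V
    · rintro W _ ⟨V, g', g, hg, hg', rfl⟩
      simp only [op_comp, Functor.map_comp, CommRingCat.hom_comp, RingHom.comp_apply]
      by_cases hu : IsUnit (∑ i : Fin (n + 1), (O.obj.map g.op).hom (b i.succ))
      · dsimp only at hg'
        rw [dif_pos hu] at hg'
        obtain ⟨i, hi⟩ := hTc g hu g' hg'
        exact ⟨i.succ, hi⟩
      · refine ⟨0, (IsUnit.map (O.obj.map g'.op).hom ?_)⟩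
        rcases hSc g hg with h1 | h1
        · rw [map_mul] at h1
          exact isUnit_of_mul_isUnit_left h1
        · refine absurd ?_ hu
          have e : 1 - b 0 * w = (∑ i : Fin (n + 1), b i.succ) * w := by
            rw [← hw, Fin.sum_univ_succ]; ring
          rw [e, map_mul, map_sum] at h1
          exact isUnit_of_mul_isUnit_left h1

end Groth.Agent.S9089


namespace Groth.Agent.S9089

/-- Part (1): ⇔ (2), for a ringed site (C, O) with C small and O a sheaf of commutative rings: the
following are equivalent. (1) For every object U and every section f of O over U there is a covering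
sieve on U on each of whose arrows either f or 1 - f restricts to a unit. (2) For every object U,
every n ≥ 1 and all sections f₁, …, fₙ of O over U generating the unit ideal of O(U), there is a
covering sieve on U on each of whose arrows some fᵢ restricts to a unit. -/
theorem result {C : Type u} [SmallCategory C] (J : GrothendieckTopology C)
    (O : Sheaf J CommRingCat.{u}) :
    (∀ (U : C) (f : O.obj.obj (op U)), ∃ S ∈ J U, ∀ ⦃V : C⦄ (g : V ⟶ U), S g →
        IsUnit ((O.obj.map g.op).hom f) ∨ IsUnit ((O.obj.map g.op).hom (1 - f))) ↔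
    (∀ (U : C) (n : ℕ) (f : Fin n → O.obj.obj (op U)), 1 ≤ n → Ideal.span (Set.range f) = ⊤ →
        ∃ S ∈ J U, ∀ ⦃V : C⦄ (g : V ⟶ U), S g → ∃ i, IsUnit ((O.obj.map g.op).hom (f i))) := by
  classical
  constructor
  · intro h U n f hn hf
    obtain ⟨m, rfl⟩ : ∃ m, n = m + 1 := ⟨n - 1, by omega⟩
    obtain ⟨a, ha⟩ := (Submodule.mem_span_range_iff_exists_fun _).1
      (show (1 : O.obj.obj (op U)) ∈ Ideal.span (Set.range f) from hf ▸ Submodule.mem_top)
    obtain ⟨S, hS, hSc⟩ := aux O h m U (fun i => a i * f i) (by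
      rw [show (∑ i, a i * f i) = 1 from by simpa using ha]; exact isUnit_one)
    refine ⟨S, hS, fun V g hg => ?_⟩
    obtain ⟨i, hi⟩ := hSc g hg
    rw [map_mul] at hi
    exact ⟨i, isUnit_of_mul_isUnit_right hi⟩
  · intro h U f
    obtain ⟨S, hS, hSc⟩ := h U 2 ![f, 1 - f] (by omega) (by
      rw [Ideal.eq_top_iff_one]
      refine (Submodule.mem_span_range_iff_exists_fun _).2 ⟨![1, 1], ?_⟩
      simp [Fin.sum_univ_two])
    refine ⟨S, hS, fun V g hg => ?_⟩
    obtain ⟨i, hi⟩ := hSc g hg
    fin_cases i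
    · exact Or.inl hi
    · exact Or.inr hi

end Groth.Agent.S9089
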