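import Groth.Statements.S9091


set_option autoImplicit false
universe u
open CategoryTheory Opposite
open ModSite

set_option linter.style.haveILetI false
open Opposite GrothendieckTopology

namespace Groth.Agent.S9091

variable {C : Type u} [SmallCategory C] {J : GrothendieckTopology C} (O : Sheaf J CommRingCat.{u})

lemma exists_isUnit (p : GrothendieckTopology.Point.{u} J) {X : C} (x : p.fiber.obj X)
    (r : O.obj.obj (op X)) (h : IsUnit ((p.toPresheafFiber X x O.obj).hom r)) :
    ∃ (Y : C) (g : Y ⟶ X) (y : p.fiber.obj Y), p.fiber.map g y = x ∧ IsUnit ((O.obj.map g.op).hom r) := by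
  obtain ⟨b, hb⟩ := isUnit_iff_exists_inv.1 h
  obtain ⟨Z, z, b, rfl⟩ := p.toPresheafFiber_jointly_surjective (P := O.obj) b
  obtain ⟨W, w, ⟨g₁, hg₁⟩, ⟨g₂, hg₂⟩⟩ : ∃ (W : C) (w : p.fiber.obj W),
      (∃ g : W ⟶ X, p.fiber.map g w = x) ∧ (∃ g : W ⟶ Z, p.fiber.map g w = z) := by
    let P : p.fiber.Elements := ⟨X, x⟩
    let Q : p.fiber.Elements := ⟨Z, z⟩
    exact ⟨(IsCofiltered.min P Q).1, (IsCofiltered.min P Q).2, ⟨(IsCofiltered.minToLeft P Q).1, (IsCofiltered.minToLeft P Q).2⟩,
      ⟨(IsCofiltered.minToRight P Q).1, (IsCofiltered.minToRight P Q).2⟩⟩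
  subst hg₁ hg₂
  have e : ∀ {T : C} (g : W ⟶ T) (s : O.obj.obj (op T)), (p.toPresheafFiber T (p.fiber.map g w) O.obj).hom s =
      (p.toPresheafFiber W w O.obj).hom ((O.obj.map g.op).hom s) := fun g s =>
    (ConcreteCategory.congr_hom (p.toPresheafFiber_w g w O.obj) s).symm
  erw [e g₁, e g₂, ← map_mul, ← map_one (p.toPresheafFiber W w O.obj).hom] at hb
  obtain ⟨Y, g, y, hy, he⟩ := (p.toPresheafFiber_eq_iff' (P := O.obj) W w _ _).1 hb
  refine ⟨Y, g ≫ g₁, y, by rw [Functor.map_comp_apply, hy], ?_⟩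
  refine IsUnit.of_mul_eq_one ((O.obj.map g.op).hom ((O.obj.map g₂.op).hom b)) ?_
  rw [op_comp, Functor.map_comp, CommRingCat.hom_comp, RingHom.comp_apply, ← map_mul, ← map_one (O.obj.map g.op).hom]
  exact he

end Groth.Agent.S9091


namespace Groth.Agent.S9091

/-- Part (2): ⇒ (1) when the site has enough points, for a ringed site (C, O) with C small and O a sheaf
of commutative rings: if at every point p of the site the stalk O_p is the zero ring or is local,
then for every object U and every section f of O over U there is a covering sieve on U on each of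
whose arrows either f or 1 - f restricts to a unit. -/
theorem result {C : Type u} [SmallCategory C] {J : GrothendieckTopology C}
    (O : Sheaf J CommRingCat.{u}) [GrothendieckTopology.HasEnoughPoints.{u} J]
    (h : ∀ p : GrothendieckTopology.Point.{u} J, Subsingleton (ModSite.stalkRing p O) ∨ IsLocalRing (ModSite.stalkRing p O))
    (U : C) (f : O.obj.obj (op U)) :
    ∃ S ∈ J U, ∀ ⦃V : C⦄ (g : V ⟶ U), S g →
        IsUnit ((O.obj.map g.op).hom f) ∨ IsUnit ((O.obj.map g.op).hom (1 - f)) := by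
  obtain ⟨P, hPs, hP⟩ := GrothendieckTopology.HasEnoughPoints.exists_objectProperty.{u} J
  let ι : Type u := Σ V : C, {g : V ⟶ U // IsUnit ((O.obj.map g.op).hom f) ∨ IsUnit ((O.obj.map g.op).hom (1 - f))}
  let Y : ι → C := fun i => i.1
  let π : ∀ i, Y i ⟶ U := fun i => i.2.1
  refine ⟨Sieve.ofArrows Y π, ?_, ?_⟩
  · rw [hP.jointly_reflect_ofArrows_mem]
    intro Φ x
    have hu : IsUnit ((Φ.obj.toPresheafFiber U x O.obj).hom f) ∨
        IsUnit ((Φ.obj.toPresheafFiber U x O.obj).hom (1 - f)) := by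
      rcases h Φ.obj with hs | hl
      · exact Or.inl (@isUnit_of_subsingleton (ModSite.stalkRing Φ.obj O) _ hs _)
      · rw [map_sub, map_one]
        exact @IsLocalRing.isUnit_or_isUnit_one_sub_self (ModSite.stalkRing Φ.obj O) _ hl _
    rcases hu with hu | hu
    · obtain ⟨V, g, y, hy, hg⟩ := exists_isUnit O Φ.obj x f hu
      exact ⟨⟨V, g, Or.inl hg⟩, y, hy⟩
    · obtain ⟨V, g, y, hy, hg⟩ := exists_isUnit O Φ.obj x (1 - f) hu
      exact ⟨⟨V, g, Or.inr hg⟩, y, hy⟩
  · intro V g hg
    obtain ⟨i, a, rfl⟩ := (Sieve.mem_ofArrows_iff Y π g).1 hg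
    simp only [op_comp, Functor.map_comp, CommRingCat.hom_comp, RingHom.comp_apply]
    exact i.2.2.imp (fun t => t.map _) (fun t => t.map _)

end Groth.Agent.S9091
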