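import Groth.Statements.S9092
import Groth.Agent.H15Site.PointGerm

set_option autoImplicit false
universe u
open CategoryTheory
open ModSite

set_option linter.style.haveILetI false
open Groth.Agent.H15Site

namespace Groth.Agent.S9092

/-- On a small ringed site (C, O) with O commutative: if F is a flat O-module (tensoring with F is exact
on O-modules), then for every point p of the site the stalk F_p is a flat O_p-module. -/
theorem result {C : Type u} [SmallCategory C] {J : GrothendieckTopology C}
    (O : Sheaf J CommRingCat.{u}) (F : ModSite.Mod O) (hF : ModSite.IsFlat F)
    (p : GrothendieckTopology.Point.{u} J) :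
    Module.Flat (ModSite.stalkRing p O) (ModSite.stalkMod p F) := by
  exact PointGerm.flat_stalk_of_locTriv p ((ModRel.isFlat_iff_locTriv F).1 hF)

end Groth.Agent.S9092
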