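import Groth.Statements.S9097
import Groth.Agent.H15Site.ConstSplit
import Groth.Agent.H15Site.HUBasic
import Mathlib.CategoryTheory.Sites.CoverLifting
import Mathlib.CategoryTheory.Adjunction.Triple
import Mathlib.CategoryTheory.Sites.Pullback
import Mathlib.CategoryTheory.Limits.Types.Limits

open Groth.Agent.H15Site

set_option linter.style.haveILetI false
open CategoryTheory CategoryTheory.Limits Opposite

set_option autoImplicit false
universe u
open CategoryTheory Opposite
open CohSite

namespace Groth.Agent.S9097

open CategoryTheory.Limits in
/-- If 0 → A → B → C → 0 is short exact in the category of abelian groups then, for every object U, the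
sequence 0 → A̲(U) → B̲(U) → C̲(U) → 0 of sections of the constant abelian sheaves is short exact;
in other words the sequence of constant sheaves is exact even as a sequence of abelian presheaves.
The instance binder on the sections-of-constant-sheaf functor (it preserves zero morphisms) always
holds and is only needed to form the complex. -/
theorem result {C : Type u} [SmallCategory C] (J : GrothendieckTopology C)
    (S : ShortComplex AddCommGrpCat.{u}) (hS : S.ShortExact) (U : C)
    [(constantSheaf J AddCommGrpCat.{u} ⋙ (sheafSections J AddCommGrpCat.{u}).obj (op U)).PreservesZeroMorphisms] :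
    (S.map (constantSheaf J AddCommGrpCat.{u} ⋙ (sheafSections J AddCommGrpCat.{u}).obj (op U))).ShortExact := by
  haveI : Mono S.f := hS.mono_f
  let G : AddCommGrpCat.{u} ⥤ AddCommGrpCat.{u} :=
    constantSheaf J AddCommGrpCat.{u} ⋙ (sheafSections J AddCommGrpCat.{u}).obj (op U)
  haveI : PreservesFiniteLimits ((sheafSections J AddCommGrpCat.{u}).obj (op U)) :=
    inferInstanceAs (PreservesFiniteLimits (sheafToPresheaf J AddCommGrpCat.{u} ⋙
      (evaluation Cᵒᵖ AddCommGrpCat.{u}).obj (op U)))
  haveI : PreservesFiniteLimits G := comp_preservesFiniteLimits _ _
  exact
    { exact := hS.exact.map_of_mono_of_preservesKernel G hS.mono_f inferInstance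
      mono_f := inferInstanceAs (Mono (G.map S.f))
      epi_g := (AddCommGrpCat.epi_iff_surjective _).2
        (ConstSplit.surjective_sections J S.g ((AddCommGrpCat.epi_iff_surjective _).1 hS.epi_g) (op U)) }

end Groth.Agent.S9097
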