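import Groth.Statements.S9103
import Groth.Agent.H15Site.CoprodPreserve

set_option autoImplicit false
universe u
open CategoryTheory Opposite
open ModSite

namespace Groth.Agent.S9103

open CategoryTheory.Limits in
/-- On a small ringed site (C, O) with O commutative: let U be an object of C which is quasi-compact, in
the sense that the sheaf of sets h_U^# associated to U is a quasi-compact object of the topos. Then
the additive functor Hom_O(j_{U!}O_U, -) from O-modules to abelian groups commutes with arbitrary
direct sums (coproducts indexed by a small type). -/
theorem result {C : Type u} [SmallCategory C] {J : GrothendieckTopology C}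
    (O : Sheaf J CommRingCat.{u}) (U : C)
    (hU : CohCx.IsQcObject ((presheafToSheaf J (Type u)).obj (yoneda.obj U))) (ι : Type u) :
    PreservesColimitsOfShape (Discrete ι) (preadditiveCoyoneda.obj (op (ModSite.freeOn O U))) := by
  exact Groth.Agent.H15Site.CoprodSect.preservesColimitsOfShape_freeOn O (Groth.Agent.H15Site.CoprodSect.qcObj_of_isQcObject hU) ι

end Groth.Agent.S9103
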