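import Groth.Statements.S9104
import Groth.Agent.H15Site.InvRingChart

set_option autoImplicit false
universe u
open CategoryTheory
open ModSite

set_option backward.isDefEq.respectTransparency false
open Opposite Groth.Agent.H15Site Groth.Agent.H15Site.InvRingChart Groth.Agent.H15Site.ModRel

namespace Groth.Agent.S9104

/-- Part (1): for a morphism of ringed sites f : (C, O_C) → (D, O_D) between small sites with
commutative structure sheaves (only the underlying morphism of topoi is used): if (D, O_D) is a
locally ringed site then C equipped with the pulled-back sheaf of rings f⁻¹O_D is a locally ringed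
site. -/
theorem result {C D : Type u} [SmallCategory C] [SmallCategory D] {J : GrothendieckTopology C}
    {K : GrothendieckTopology D} {O_C : Sheaf J CommRingCat.{u}} {O_D : Sheaf K CommRingCat.{u}}
    (f : ModSite.RMor O_C O_D) (hD : ModSite.IsLocallyRinged K O_D) : ModSite.IsLocallyRinged J f.invRing := by
  obtain ⟨hD1, hD2⟩ := hD
  refine ⟨fun U a => ?_, fun U h01 => ?_⟩
  · obtain ⟨S, hS, hS'⟩ := exists_chart_rep f a
    have key : ∀ ⦃V : C⦄ (v : V ⟶ U), S v → ∃ W ∈ J V, ∀ ⦃V' : C⦄ (w : V' ⟶ V), W w →
        IsUnit (rr f.invRing (w ≫ v).op a) ∨ IsUnit (rr f.invRing (w ≫ v).op (1 - a)) := by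
      intro V v hv
      obtain ⟨e, b, r, hr⟩ := hS' v hv
      obtain ⟨T, hT, hT'⟩ := hD1 e r
      obtain ⟨W, hW, hW'⟩ := PullSets.locally_lift (K := K) (J := J) f.fn b T hT
      refine ⟨W, hW, fun V' w hw => ?_⟩
      obtain ⟨e', g, b', hg, hb⟩ := hW' w hw
      have h1 : rr f.invRing (w ≫ v).op a =
          χ f (StructuredArrow.mk b') (rr O_D g.op r) := by
        rw [op_comp, ← rr_rr, hr]
        exact χ_lift f b w g b' hb r
      rcases hT' g hg with hu | hu
      · left
        rw [h1]
        exact hu.map (χ f (StructuredArrow.mk b'))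
      · right
        have h2 : rr f.invRing (w ≫ v).op (1 - a) =
            χ f (StructuredArrow.mk b') (rr O_D g.op (1 - r)) := by
          simp only [rr] at h1 ⊢
          rw [map_sub, map_sub, map_sub, map_one, map_one, map_one, h1]
        rw [h2]
        exact hu.map (χ f (StructuredArrow.mk b'))
    choose W hW hW' using key
    refine ⟨Sieve.bind S.arrows W, J.bind_covering hS hW, ?_⟩
    rintro V' _ ⟨V, w, v, hv, hw, rfl⟩
    exact hW' v hv w hw
  · obtain ⟨S, hS, hS'⟩ := PullLocPres.exists_chart f U
    have key : ∀ ⦃V : C⦄ (v : V ⟶ U), S v → (⊥ : Sieve V) ∈ J V := by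
      intro V v hv
      let X := (hS' v hv).some
      have hX : χ f (StructuredArrow.mk X.hom) (1 : O_D.obj.obj (op X.right)) = 0 := by
        rw [map_one]
        exact ((map_one (f.invRing.obj.map v.op).hom).symm.trans
          ((congrArg _ h01.symm).trans (map_zero _)))
      obtain ⟨T, hT, hT'⟩ := χ_eq_zero f X.hom 1 hX
      refine J.transitive hT _ fun V' w hw => ?_
      obtain ⟨e, b', g, hb, h0⟩ := hT' w hw
      have he : (⊥ : Sieve e) ∈ K e := hD2 e (h0.symm.trans (map_one (O_D.obj.map g.op).hom))
      obtain ⟨W, hW, hW'⟩ := PullSets.locally_lift (K := K) (J := J) f.fn b' ⊥ he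
      refine J.superset_covering (fun V'' u hu => ?_) hW
      obtain ⟨e', g', b'', hg', -⟩ := hW' u hu
      exact hg'.elim
    refine J.transitive hS _ fun V v hv => ?_
    exact J.superset_covering (S := (⊥ : Sieve V)) bot_le (key v hv)

end Groth.Agent.S9104
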