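import Groth.Statements.S9106
import Groth.Agent.H15Site.LanExact

set_option autoImplicit false
universe u
open CategoryTheory CategoryTheory.Limits
open CohSite

open Groth.Agent.H15Site


namespace Groth.Agent.S9106

/-- Let u : C ⥤ D be a functor between small sites which is cocontinuous and continuous, and assume that
C has fibre products and equalizers and that u commutes with them. Let g be the morphism of topoi
attached to u. Then g_! on abelian sheaves, i.e. the left adjoint of restriction along u (left Kan
extension along u followed by sheafification), is exact: being a left adjoint it is right exact, and
it moreover preserves finite limits. -/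
theorem result {C D : Type u} [SmallCategory C] [SmallCategory D]
    (J : GrothendieckTopology C) (K : GrothendieckTopology D) (u : C ⥤ D)
    [u.IsCocontinuous J K] [u.IsContinuous J K] [HasPullbacks C] [HasEqualizers C]
    [PreservesLimitsOfShape WalkingCospan u] [PreservesLimitsOfShape WalkingParallelPair u] :
    PreservesFiniteLimits (u.sheafPullback AddCommGrpCat.{u} J K) := by
  exact LanExact.preservesFiniteLimits_of_pullbacks (u := u) (J := K) (K := J)

end Groth.Agent.S9106
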