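import Groth.Statements.S9108
import Groth.Agent.H15Site.ConstSplit
import Groth.Agent.H15Site.HUBasic
import Mathlib.CategoryTheory.Sites.CoverLifting
import Mathlib.CategoryTheory.Adjunction.Triple
import Mathlib.CategoryTheory.Sites.Pullback
import Mathlib.CategoryTheory.Limits.Types.Limits

open Groth.Agent.H15Site

set_option linter.style.haveILetI false
open CategoryTheory CategoryTheory.Limits Opposite

set_option autoImplicit false
universe u
open CategoryTheory
open CohSite

namespace Groth.Agent.S9108

/-- Let u : C ⥤ D be a functor between small sites which is cocontinuous, continuous (restriction along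
u preserves sheaves, and u sends covering families to covering families) and fully faithful; let g
be the morphism of topoi attached to u, so that g⁻¹ is restriction along u, g_* its right adjoint
and g_! its left adjoint on abelian sheaves. Then for every abelian sheaf F on C the canonical maps
F → g⁻¹g_!F (unit) and g⁻¹g_*F → F (counit) are isomorphisms. -/
theorem result {C D : Type u} [SmallCategory C] [SmallCategory D]
    (J : GrothendieckTopology C) (K : GrothendieckTopology D) (u : C ⥤ D)
    [u.IsCocontinuous J K] [u.IsContinuous J K] (hu : CoverPreserving J K u) [u.Full] [u.Faithful]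
    (F : Sheaf J AddCommGrpCat.{u}) :
    IsIso ((u.sheafAdjunctionContinuous AddCommGrpCat.{u} J K).unit.app F) ∧
      IsIso ((u.sheafAdjunctionCocontinuous AddCommGrpCat.{u} J K).counit.app F) := by
  haveI hc : ∀ G : Sheaf J AddCommGrpCat.{u},
      IsIso ((u.sheafAdjunctionCocontinuous AddCommGrpCat.{u} J K).counit.app G) := fun G => by
    haveI : IsIso ((sheafToPresheaf J AddCommGrpCat.{u}).map
        ((u.sheafAdjunctionCocontinuous AddCommGrpCat.{u} J K).counit.app G)) := by
      haveI : u.op.HasPointwiseRightKanExtension G.obj := fun X => inferInstance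
      haveI : ∀ P : Cᵒᵖ ⥤ AddCommGrpCat.{u}, u.op.HasRightKanExtension P := fun P => inferInstance
      change IsIso ((u.sheafAdjunctionCocontinuous AddCommGrpCat.{u} J K).counit.app G).hom
      rw [Functor.sheafAdjunctionCocontinuous_counit_app_hom]
      haveI : u.op.Full := inferInstance
      haveI : u.op.Faithful := inferInstance
      exact NatIso.isIso_app_of_isIso (u.op.ranAdjunction AddCommGrpCat.{u}).counit G.obj
    exact isIso_of_reflects_iso _ (sheafToPresheaf J AddCommGrpCat.{u})
  haveI : IsIso (u.sheafAdjunctionCocontinuous AddCommGrpCat.{u} J K).counit :=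
    NatIso.isIso_of_isIso_app _
  haveI := (Adjunction.Triple.mk (u.sheafAdjunctionContinuous AddCommGrpCat.{u} J K)
    (u.sheafAdjunctionCocontinuous AddCommGrpCat.{u} J K)).isIso_unit_iff_isIso_counit.2 inferInstance
  exact ⟨NatIso.isIso_app_of_isIso _ F, hc F⟩

end Groth.Agent.S9108
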