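import Groth.Statements.S9109
import Groth.Agent.H15Site.HUBasic
import Mathlib.CategoryTheory.Sites.Pullback
import Mathlib.CategoryTheory.Sites.Point.Skyscraper
import Mathlib.CategoryTheory.Preadditive.AdditiveFunctor

open Groth.Agent.H15Site

set_option linter.style.haveILetI false
open CategoryTheory CategoryTheory.Limits Opposite

set_option autoImplicit false
universe u
open CategoryTheory CategoryTheory.Limits
open CohSite

namespace Groth.Agent.S9109

open CategoryTheory.Limits in
/-- Part (1): on a small site (C, J) with a point p: the skyscraper functor p_* from abelian groups to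
abelian sheaves on C (right adjoint to the stalk functor at p; its value on A is the sheaf U ↦ ∏_{x
∈ p⁻¹U} A) is exact. As a right adjoint it preserves limits; the statement here is that it also
preserves finite colimits. -/
theorem result {C : Type u} [SmallCategory C] {J : GrothendieckTopology C}
    (p : GrothendieckTopology.Point.{u} J) :
    PreservesFiniteColimits (p.skyscraperSheafFunctor (A := AddCommGrpCat.{u})) := by
  haveI : PreservesFiniteLimits (p.skyscraperSheafFunctor (A := AddCommGrpCat.{u})) :=
    haveI := (p.skyscraperSheafAdjunction (A := AddCommGrpCat.{u})).isRightAdjoint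
    inferInstance
  haveI : (p.skyscraperSheafFunctor (A := AddCommGrpCat.{u})).Additive :=
    Functor.additive_of_preserves_binary_products _
  refine HUBasic.preservesFiniteColimits_of_epi _ fun X Y f hf => ?_
  refine (Sheaf.isLocallySurjective_iff_epi' _ _).1 ⟨fun {U} s => ?_⟩
  refine J.superset_covering ?_ (J.top_mem U)
  intro V a _
  let g : ∀ _ : p.fiber.obj V, X ⟶ Y := fun _ => f
  haveI : Epi (Limits.Pi.map g) := by
    refine (AddCommGrpCat.epi_iff_surjective _).2 fun x => ?_
    choose y hy using fun i => (AddCommGrpCat.epi_iff_surjective f).1 hf
      ((Concrete.productEquiv (fun _ : p.fiber.obj V => Y)) x i)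
    refine ⟨(Concrete.productEquiv (fun _ : p.fiber.obj V => X)).symm y, ?_⟩
    apply (Concrete.productEquiv (fun _ : p.fiber.obj V => Y)).injective
    funext i
    refine Eq.trans ?_ (hy i)
    rw [Concrete.productEquiv_apply_apply]
    refine ((ConcreteCategory.congr_hom (Limits.Pi.map_π g i)
      ((Concrete.productEquiv (fun _ : p.fiber.obj V => X)).symm y)).trans ?_)
    exact congrArg f.hom (Concrete.productEquiv_symm_apply_π (fun _ : p.fiber.obj V => X) y i)
  exact (AddCommGrpCat.epi_iff_surjective (Limits.Pi.map g)).1 inferInstance _

end Groth.Agent.S9109
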