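import Groth.Statements.S9117
import Groth.Agent.H15Site.FinPres.Site

set_option backward.isDefEq.respectTransparency false
set_option backward.isDefEq.respectTransparency.types false

set_option autoImplicit false
universe u
open CategoryTheory CategoryTheory.Limits Opposite
open ModSite

namespace Groth.Agent.S9117

open Groth.Agent.H15Site Groth.Agent.H15Site.FinPres
attribute [local instance 10000] SiteInst.hasSheafifySite SiteInst.hasWeakSheafifySite

/-- Let (C, O) be a small ringed site with O commutative and B a set of objects of C such that every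
object has a covering family by members of B, each member of B is quasi-compact (its sheaf h_U^# is
a quasi-compact object of the topos), C has fibre products, and U₁ ×_U U₂ is quasi-compact for all
U, U₁, U₂ in B. Call an O-module of type A if it is isomorphic to Coker(⊕_{j≤m} j_{V_j!}O_{V_j} →
⊕_{i≤n} j_{U_i!}O_{U_i}) with finitely many Uᵢ, Vⱼ in B. If the kernel of every morphism ⊕_{j≤m}
j_{V_j!}O_{V_j} → ⊕_{i≤n} j_{U_i!}O_{U_i} with Uᵢ, Vⱼ in B is of type A, then the kernel of every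
morphism between modules of type A is of type A; together with closure under cokernels and
extensions this makes A a weak Serre subcategory of Mod(O). (The published setting involves only the
fibre products U₁ ×_U U₂ of two members of a covering family of U, which exist in its notion of
site; this row assumes that C has all fibre products and asks quasi-compactness of U₁ ×_U U₂ for all
maps U₁ → U, U₂ → U between members of B.) -/
theorem result {C : Type u} [SmallCategory C] {J : GrothendieckTopology C}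
    (O : Sheaf J CommRingCat.{u}) (B : Set C)
    (hB₁ : ∀ X : C, ∃ (κ : Type u) (Y : κ → C) (g : ∀ k, Y k ⟶ X), Sieve.ofArrows Y g ∈ J X ∧ ∀ k, Y k ∈ B)
    (hB₂ : ∀ U ∈ B, CohCx.IsQcObject ((presheafToSheaf J (Type u)).obj (yoneda.obj U)))
    [HasPullbacks C]
    (hB₃ : ∀ (U U₁ U₂ : C) (f₁ : U₁ ⟶ U) (f₂ : U₂ ⟶ U), U ∈ B → U₁ ∈ B → U₂ ∈ B →
      CohCx.IsQcObject ((presheafToSheaf J (Type u)).obj (yoneda.obj (pullback f₁ f₂))))
    (hker : ∀ (m n : ℕ) (V : Fin m → C) (U : Fin n → C)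
      (φ : (∐ fun j => ModSite.freeOn O (V j)) ⟶ ∐ fun i => ModSite.freeOn O (U i)),
      (∀ j, V j ∈ B) → (∀ i, U i ∈ B) → (∃ (m' n' : ℕ) (V' : Fin m' → C) (U' : Fin n' → C)
        (ψ : (∐ fun j => ModSite.freeOn O (V' j)) ⟶ ∐ fun i => ModSite.freeOn O (U' i)),
        (∀ j, V' j ∈ B) ∧ (∀ i, U' i ∈ B) ∧ Nonempty (kernel φ ≅ cokernel ψ)))
    (F G : ModSite.Mod O) (α : F ⟶ G)
    (hF : (∃ (m' n' : ℕ) (V' : Fin m' → C) (U' : Fin n' → C)
        (ψ : (∐ fun j => ModSite.freeOn O (V' j)) ⟶ ∐ fun i => ModSite.freeOn O (U' i)),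
        (∀ j, V' j ∈ B) ∧ (∀ i, U' i ∈ B) ∧ Nonempty (F ≅ cokernel ψ)))
    (hG : (∃ (m' n' : ℕ) (V' : Fin m' → C) (U' : Fin n' → C)
        (ψ : (∐ fun j => ModSite.freeOn O (V' j)) ⟶ ∐ fun i => ModSite.freeOn O (U' i)),
        (∀ j, V' j ∈ B) ∧ (∀ i, U' i ∈ B) ∧ Nonempty (G ≅ cokernel ψ))) :
    (∃ (m' n' : ℕ) (V' : Fin m' → C) (U' : Fin n' → C)
        (ψ : (∐ fun j => ModSite.freeOn O (V' j)) ⟶ ∐ fun i => ModSite.freeOn O (U' i)),
        (∀ j, V' j ∈ B) ∧ (∀ i, U' i ∈ B) ∧ Nonempty (kernel α ≅ cokernel ψ)) := by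
  have hl := liftPres_finFree (O := O) hB₁ (fun U hU => CoprodSect.qcObj_of_isQcObject (hB₂ U hU))
      (fun U U₁ U₂ f₁ f₂ a b c => CoprodSect.qcObj_of_isQcObject (hB₃ U U₁ U₂ f₁ f₂ a b c))
  have hk : ∀ (L M : ModSite.Mod O) (f : L ⟶ M), FinFree O B L → FinFree O B M →
      Pres (FinFree O B) (kernel f) := fun L M f hL hM => by
    obtain ⟨m, V, hV, ⟨eL⟩⟩ := hL.exists_fin
    obtain ⟨n, U, hU, ⟨eM⟩⟩ := hM.exists_fin
    obtain ⟨m', n', V', U', ψ, hV', hU', ⟨e⟩⟩ := hker m n V U (eL.inv ≫ f ≫ eM.hom) hV hU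
    have i := kernel.mapIso f (eL.inv ≫ f ≫ eM.hom) eL eM (by simp)
    exact (pres_iff (kernel f)).2 ⟨m', n', V', U', ψ, hV', hU', ⟨i ≪≫ e⟩⟩
  have eF : Pres (FinFree O B) F := (pres_iff F).2 hF
  have eG : Pres (FinFree O B) G := (pres_iff G).2 hG
  have e := pres_kernel (P := FinFree O B) finFree_biprod hl hk α eF eG
  exact (pres_iff (kernel α)).1 e

end Groth.Agent.S9117
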