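import Groth.Statements.S9118
import Groth.Agent.H15Site.ConstModule.Basic

set_option backward.isDefEq.respectTransparency false
set_option backward.isDefEq.respectTransparency.types false

set_option autoImplicit false
universe u
open CategoryTheory Opposite
open CohSite

namespace Groth.Agent.S9118

/-- Let Λ be a commutative ring, M a Λ-module and Q a finitely presented Λ-module, and write M̲ for the
constant sheaf of Λ-modules on M. For every object U the canonical comparison map M̲(U) ⊗_Λ Q → (M
⊗_Λ Q)̲(U) is an isomorphism; stated as: there is an isomorphism of Λ-modules M̲(U) ⊗_Λ Q ≅ (M ⊗_Λ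
Q)̲(U) which sends s ⊗ q to the image of the section s under the map of sections induced by the
Λ-linear map M → M ⊗_Λ Q, m ↦ m ⊗ q (this determines the isomorphism, since pure tensors generate). -/
theorem result {C : Type u} [SmallCategory C] (J : GrothendieckTopology C)
    (Λ : Type u) [CommRing Λ] (M Q : Type u) [AddCommGroup M] [Module Λ M] [AddCommGroup Q] [Module Λ Q]
    [Module.FinitePresentation Λ Q] (U : C) :
    ∃ e : ModuleCat.of Λ (TensorProduct Λ (((constantSheaf J (ModuleCat.{u} Λ)).obj (ModuleCat.of Λ M)).obj.obj (op U)) Q) ≅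
        ((constantSheaf J (ModuleCat.{u} Λ)).obj (ModuleCat.of Λ (TensorProduct Λ M Q))).obj.obj (op U),
      ∀ (s : ((constantSheaf J (ModuleCat.{u} Λ)).obj (ModuleCat.of Λ M)).obj.obj (op U)) (q : Q),
        e.hom.hom (TensorProduct.tmul Λ s q) =
          (((constantSheaf J (ModuleCat.{u} Λ)).map (ModuleCat.ofHom ((TensorProduct.mk Λ M Q).flip q))).hom.app (op U)).hom s := by
  refine ⟨(LinearEquiv.ofBijective (Groth.Agent.H15Site.ConstModule.θ (Λ := Λ) J U M Q)
    (Groth.Agent.H15Site.ConstModule.bijective_θ (Q := Q) J U M)).toModuleIso, fun s q => rfl⟩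

end Groth.Agent.S9118
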