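import Groth.Statements.S9121
import Groth.Agent.H15Site.HUBasic
import Mathlib.CategoryTheory.Sites.Pullback
import Mathlib.CategoryTheory.Sites.Point.Skyscraper
import Mathlib.CategoryTheory.Preadditive.AdditiveFunctor

open Groth.Agent.H15Site

set_option linter.style.haveILetI false
open CategoryTheory CategoryTheory.Limits Opposite

set_option autoImplicit false
universe u
open CategoryTheory CategoryTheory.Limits
open CohSite

namespace Groth.Agent.S9121

open CategoryTheory.Limits in
/-- Part (1): for the morphism of topoi f : Sh(C) → Sh(D) attached to a continuous functor u : D ⥤ C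
between small sites whose induced pullback of sheaves of sets is exact (f_* is restriction along u):
if f_* transforms epimorphisms of sheaves of sets into epimorphisms, then f_* on abelian sheaves is
exact; being a right adjoint it preserves finite limits, and the statement is that it also preserves
finite colimits. -/
theorem result {C D : Type u} [SmallCategory C] [SmallCategory D]
    (J : GrothendieckTopology C) (K : GrothendieckTopology D) (u : D ⥤ C) [u.IsContinuous K J]
    [PreservesFiniteLimits (u.sheafPullback (Type u) K J)]
    [(u.sheafPushforwardContinuous (Type u) K J).PreservesEpimorphisms] :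
    PreservesFiniteColimits (u.sheafPushforwardContinuous AddCommGrpCat.{u} K J) := by
  haveI : PreservesFiniteLimits (u.sheafPushforwardContinuous AddCommGrpCat.{u} K J) :=
    haveI := (u.sheafAdjunctionContinuous AddCommGrpCat.{u} K J).isRightAdjoint
    inferInstance
  haveI : (u.sheafPushforwardContinuous AddCommGrpCat.{u} K J).Additive := Functor.additive_of_preserves_binary_products _
  refine HUBasic.preservesFiniteColimits_of_epi _ fun X Y f hf => ?_
  haveI : Epi ((sheafCompose J (forget AddCommGrpCat.{u})).map f) := HUBasic.epi_sheafCompose_forget f
  haveI := (Sheaf.isLocallySurjective_iff_epi _).2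
    ((u.sheafPushforwardContinuous (Type u) K J).map_epi
      ((sheafCompose J (forget AddCommGrpCat.{u})).map f))
  refine (Sheaf.isLocallySurjective_iff_epi' _ _).1 ⟨fun {U} s => ?_⟩
  refine K.superset_covering ?_ (Presheaf.imageSieve_mem K
    ((u.sheafPushforwardContinuous (Type u) K J).map
      ((sheafCompose J (forget AddCommGrpCat.{u})).map f)).hom s)
  rintro V a ⟨t, ht⟩
  exact ⟨t, ht⟩

end Groth.Agent.S9121
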