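import Groth.Statements.S9124
import Groth.Agent.H02CA.Catenary
import Mathlib.RingTheory.Localization.Ideal

set_option autoImplicit false
universe u
open CAlg

namespace Groth.Agent.S9124

/-- A localization of a catenary ring is catenary. -/
theorem result (A : Type u) [CommRing A] (S : Submonoid A)
    (B : Type u) [CommRing B] [Algebra A B] [IsLocalization S B]
    (hA : CAlg.IsCatenary A) : CAlg.IsCatenary B := by
  let e : PrimeSpectrum B ↪o PrimeSpectrum A := OrderEmbedding.ofMapLEIff (PrimeSpectrum.comap (algebraMap A B))
    fun a b => ⟨fun h => by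
      show a.asIdeal ≤ b.asIdeal
      rw [← IsLocalization.map_comap S B a.asIdeal, ← IsLocalization.map_comap S B b.asIdeal]
      exact Ideal.map_mono h, fun h => Ideal.comap_mono h⟩
  refine H02CA.catenary_transfer e (fun a b c _ hc => ?_) hA
  have hd : Disjoint (S : Set A) (b.asIdeal.comap (algebraMap A B) : Set A) :=
    ((IsLocalization.isPrime_iff_isPrime_disjoint S B b.asIdeal).mp b.isPrime).2
  have hdc : Disjoint (S : Set A) (c.asIdeal : Set A) := hd.mono_right hc
  exact ⟨⟨c.asIdeal.map (algebraMap A B), IsLocalization.isPrime_of_isPrime_disjoint S B _ c.isPrime hdc⟩,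
    PrimeSpectrum.ext (IsLocalization.comap_map_of_isPrime_disjoint S B c.isPrime hdc)⟩

end Groth.Agent.S9124
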