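import Groth.Statements.S9127
import Groth.Agent.H02CA.Catenary
import Mathlib.RingTheory.Ideal.MinimalPrime.Basic

set_option autoImplicit false
universe u
open CAlg

namespace Groth.Agent.S9127

/-- A Noetherian ring is catenary if and only if its quotient by every minimal prime is catenary. -/
theorem result (R : Type u) [CommRing R] [IsNoetherianRing R] :
    CAlg.IsCatenary R ↔ ∀ p ∈ minimalPrimes R, CAlg.IsCatenary (R ⧸ p) := by
  refine ⟨fun h p _ => H02CA.catenary_transfer (H02CA.quotEmbedding p) (H02CA.convex_quotEmbedding p) h,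
    fun h => H02CA.catenary_of_cover fun p q hpq => ?_⟩
  obtain ⟨r, hr, hrp⟩ := Ideal.exists_minimalPrimes_le (I := ⊥) (J := p.asIdeal) bot_le
  exact ⟨R ⧸ r, inferInstance, H02CA.quotEmbedding r, H02CA.convex_quotEmbedding r,
    (H02CA.mem_range_quotEmbedding r).mpr hrp, (H02CA.mem_range_quotEmbedding r).mpr (hrp.trans hpq), h r hr⟩

end Groth.Agent.S9127
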