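import Groth.Statements.S9129
import Groth.Agent.H8Props.FlatDepth

set_option autoImplicit false
universe u
open CAlg

namespace Groth.Agent.S9129

/-- Suppose R → S is a flat local homomorphism between Noetherian local rings, with R Cohen–Macaulay.
Assume either that S is finite over R or that the Krull dimension of S is at most that of R. Then
the two rings have equal dimension and S is itself Cohen–Macaulay. -/
theorem result (R S : Type u) [CommRing R] [CommRing S]
    [LocCoh.IsCohenMacaulayLocalRing R] [IsNoetherianRing S] [IsLocalRing S] [Algebra R S]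
    [IsLocalHom (algebraMap R S)] [Module.Flat R S]
    (h : Module.Finite R S ∨ ringKrullDim S ≤ ringKrullDim R) :
    LocCoh.IsCohenMacaulayLocalRing S ∧ ringKrullDim R = ringKrullDim S := by
  have hadd := Groth.Agent.H8Props.FlatDepth.ringKrullDim_eq_add (A := R) (B := S)
  let F := S ⧸ (IsLocalRing.maximalIdeal R).map (algebraMap R S)
  haveI : Nontrivial F := Ideal.Quotient.nontrivial_iff.mpr
    (Groth.Agent.H8Props.FlatDepth.map_maximalIdeal_ne_top (A := R) (B := S))
  haveI : IsLocalRing F := IsLocalRing.of_surjective' (Ideal.Quotient.mk _) Ideal.Quotient.mk_surjective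
  have h0 : ringKrullDim F = 0 := by
    refine le_antisymm ?_ ringKrullDim_nonneg_of_nontrivial
    rcases h with h | h
    · haveI : Module.Finite (R ⧸ IsLocalRing.maximalIdeal R) F := Module.Finite.of_restrictScalars_finite R _ _
      letI := Ideal.Quotient.field (IsLocalRing.maximalIdeal R)
      haveI : IsArtinianRing F := IsArtinianRing.of_finite (R ⧸ IsLocalRing.maximalIdeal R) F
      exact Ring.krullDimLE_iff.mp (inferInstance : Ring.KrullDimLE 0 F)
    · rw [hadd] at h
      have hR1 : ringKrullDim R ≠ ⊤ := (ringKrullDim_lt_top).ne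
      have hR2 : (0 : WithBot ℕ∞) ≤ ringKrullDim R := ringKrullDim_nonneg_of_nontrivial
      have hF : (0 : WithBot ℕ∞) ≤ ringKrullDim F := ringKrullDim_nonneg_of_nontrivial
      generalize ringKrullDim R = a at h hR1 hR2
      generalize hb : ringKrullDim (S ⧸ (IsLocalRing.maximalIdeal R).map (algebraMap R S)) = b at h
      rw [show ringKrullDim F = b from hb] at hF
      match a, b, h, hR1, hR2, hF with
      | ⊥, _, _, _, hR2, _ => simp at hR2
      | (⊤ : ℕ∞), _, _, hR1, _, _ => exact absurd rfl hR1
      | ((c : ℕ) : ℕ∞), ⊥, _, _, _, _ => exact bot_le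
      | ((c : ℕ) : ℕ∞), (⊤ : ℕ∞), h, _, _, _ => norm_cast at h
      | ((c : ℕ) : ℕ∞), ((e : ℕ) : ℕ∞), h, _, _, _ => norm_cast at h ⊢; omega
  refine ⟨(Groth.Agent.H8Props.FlatDepth.isCohenMacaulayLocalRing_iff (A := R) (B := S)).mpr
    ⟨inferInstance, ?_⟩, ?_⟩
  · rw [Groth.Agent.H8Props.FlatDepth.isCM_iff_dim]
    refine le_antisymm ?_ (Groth.Agent.H8Props.FlatDepth.depth_le_dim F)
    rw [h0]
    exact WithBot.coe_le_coe.mpr bot_le
  · rw [hadd, h0, add_zero]

end Groth.Agent.S9129
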