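import Groth.Statements.S9130
import Groth.Agent.H17.DimIneq

set_option autoImplicit false
universe u
open CAlg

namespace Groth.Agent.S9130

/-- Let A ⊆ B be domains with B of finite type over A and A Noetherian, and assume every element of B is
algebraic over A. For a height-one prime p of A, only finitely many primes of B lie over p and each
of them has height one. (The published statement assumes that Frac(B) is finite over Frac(A); this
row assumes B algebraic over A, which is equivalent for a finite type extension of domains.) -/
theorem result (A B : Type u) [CommRing A] [IsDomain A]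
    [IsNoetherianRing A] [CommRing B] [IsDomain B] [Algebra A B] [FaithfulSMul A B]
    [Algebra.FiniteType A B] [Algebra.IsAlgebraic A B] (p : Ideal A) [p.IsPrime]
    (hp : p.height = 1) :
    (p.primesOver B).Finite ∧ ∀ q ∈ p.primesOver B, q.height = 1 := by
  have hinj : Function.Injective (algebraMap A B) := FaithfulSMul.algebraMap_injective A B
  have hp0 : p ≠ ⊥ := fun h => by subst h; rw [Ideal.height_bot] at hp; exact zero_ne_one hp
  haveI : IsNoetherianRing B := Algebra.FiniteType.isNoetherianRing A B
  have hpos : ∀ q : Ideal B, q.IsPrime → p.map (algebraMap A B) ≤ q → 1 ≤ q.height := by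
    intro q hq hle
    rw [Order.one_le_iff_pos, pos_iff_ne_zero]
    intro h
    have this := Ideal.height_eq_zero_iff_eq_bot.mp h
    apply hp0
    refine le_antisymm (fun a ha => ?_) bot_le
    have h0 : algebraMap A B a ∈ q := hle (Ideal.mem_map_of_mem _ ha)
    rw [this, Ideal.mem_bot] at h0
    exact Ideal.mem_bot.mpr (hinj (h0.trans (map_zero _).symm))
  have hone : ∀ q ∈ p.primesOver B, q.height = 1 := by
    rintro q ⟨hq, hlo⟩
    refine le_antisymm ?_ (hpos q hq (Ideal.map_le_iff_le_comap.mpr hlo.over.le))
    have h := Groth.Agent.H17.DimIneq.ineq A B p q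
    rw [hp, trdeg_eq_zero (R := A) (A := B), add_zero] at h
    have h' : (q.height : Cardinal.{u}) ≤ ((1 : ℕ∞) : Cardinal.{u}) := (le_self_add).trans h
    exact Cardinal.ofENat_le_ofENat.mp h'
  refine ⟨(Ideal.finite_minimalPrimes_of_isNoetherianRing B (p.map (algebraMap A B))).subset ?_, hone⟩
  intro q hq
  have h1 := hone q hq
  obtain ⟨hqp, hlo⟩ := hq
  refine ⟨⟨hqp, Ideal.map_le_iff_le_comap.mpr hlo.over.le⟩, ?_⟩
  rintro r ⟨hr, hle⟩ hrq
  by_contra hne
  haveI := hr
  haveI := hqp
  have hlt : r.height < q.height := Ideal.height_strict_mono_of_isPrime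
    (lt_of_le_of_ne hrq fun e => hne e.ge)
  rw [h1] at hlt
  exact absurd (hpos r hr hle) (not_le.mpr hlt)

end Groth.Agent.S9130
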