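import Groth.Statements.S9132
import Mathlib

set_option autoImplicit false
universe u
open CAlg

namespace Groth.Agent.S9132

/-- A Noetherian local domain R that is not a field is dominated by a Noetherian local ring R' of
dimension one lying between R and its fraction field, with R' essentially of finite type over R. -/
theorem result (R : Type u) [CommRing R] [IsDomain R]
    [IsNoetherianRing R] [IsLocalRing R] (hR : ¬ IsField R) :
    ∃ R' : Subalgebra R (FractionRing R), ∃ _ : IsLocalRing R',
      IsNoetherianRing R' ∧ ringKrullDim R' = 1 ∧ IsLocalHom (algebraMap R R') ∧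
        Algebra.EssFiniteType R R' := by
  classical
  let K := FractionRing R
  let 𝔪 := IsLocalRing.maximalIdeal R
  -- an element of `m` which is not nilpotent in the associated graded ring
  obtain ⟨x, hxm, hx⟩ : ∃ x ∈ 𝔪, ∀ n : ℕ, x ^ n ∉ 𝔪 ^ (n + 1) := by
    by_contra hcon
    push Not at hcon
    obtain ⟨G, hG⟩ := IsNoetherian.noetherian 𝔪
    choose e he using hcon
    have hGm : ∀ g ∈ G, g ∈ 𝔪 := fun g hg => hG ▸ Submodule.subset_span hg
    let T := ∑ g ∈ G.attach, (e g (hGm g g.2) + 1)
    have hle : 𝔪 ^ (T + 1) ≤ 𝔪 ^ (T + 2) := by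
      -- every monomial of degree `T + 1` in the generators contains some `g ^ (e g)`
      have key : ∀ (l : Multiset R), (∀ g ∈ l, g ∈ G) → Multiset.card l = T + 1 →
          l.prod ∈ 𝔪 ^ (T + 2) := by
        intro l hl hcard
        obtain ⟨g, hg, hge⟩ : ∃ g, ∃ hg : g ∈ G, e g (hGm g hg) + 1 ≤ l.count g := by
          by_contra hno
          push Not at hno
          have : Multiset.card l < T + 1 := by
            rw [← Multiset.sum_count_eq_card (s := G) hl, ← Finset.sum_attach]
            exact Nat.lt_succ_of_le (Finset.sum_le_sum fun g _ => (hno g g.2).le)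
          omega
        obtain ⟨l', rfl⟩ : ∃ l', l = Multiset.replicate (e g (hGm g hg)) g + l' :=
          Multiset.le_iff_exists_add.mp (Multiset.le_count_iff_replicate_le.mp
            ((Nat.le_succ _).trans hge))
        rw [Multiset.prod_add, Multiset.prod_replicate]
        rw [Multiset.card_add, Multiset.card_replicate] at hcard
        have h1 : l'.prod ∈ 𝔪 ^ Multiset.card l' := by
          clear hcard hge
          induction l' using Multiset.induction_on with
          | empty => simp
          | cons a s ih =>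
            rw [Multiset.prod_cons, Multiset.card_cons, pow_succ']
            exact Ideal.mul_mem_mul (hGm a (hl a (Multiset.mem_add.mpr (Or.inr (Multiset.mem_cons_self a s)))))
              (ih fun b hb => hl b (by
                rcases Multiset.mem_add.mp hb with h | h
                · exact Multiset.mem_add.mpr (Or.inl h)
                · exact Multiset.mem_add.mpr (Or.inr (Multiset.mem_cons_of_mem h))))
        rw [show T + 2 = (e g (hGm g hg) + 1) + Multiset.card l' by omega, pow_add]
        exact Ideal.mul_mem_mul (he g (hGm g hg)) h1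
      have hgen : ∀ n : ℕ, 𝔪 ^ n = Ideal.span
          {z | ∃ l : Multiset R, (∀ g ∈ l, g ∈ G) ∧ Multiset.card l = n ∧ l.prod = z} := by
        intro n
        induction n with
        | zero =>
          rw [pow_zero, Ideal.one_eq_top, eq_comm, Ideal.eq_top_iff_one]
          exact Ideal.subset_span ⟨0, by simp, by simp, by simp⟩
        | succ n ih =>
          rw [pow_succ', ih, ← hG, ← Ideal.span, Ideal.span_mul_span']
          congr 1
          ext z
          constructor
          · rintro ⟨a, ha, b, ⟨l, h1, h2, rfl⟩, rfl⟩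
            refine ⟨a ::ₘ l, fun g hg => ?_, by simp [h2], by simp⟩
            rcases Multiset.mem_cons.mp hg with rfl | h
            exacts [ha, h1 g h]
          · rintro ⟨l, h1, h2, rfl⟩
            obtain ⟨a, ha⟩ := Multiset.card_pos_iff_exists_mem.mp (by rw [h2]; exact n.succ_pos)
            obtain ⟨l', rfl⟩ := Multiset.exists_cons_of_mem ha
            exact ⟨a, h1 a ha, l'.prod, ⟨l', fun g hg => h1 g (Multiset.mem_cons_of_mem hg),
              by simpa using h2, rfl⟩, by simp⟩
      rw [hgen (T + 1), Ideal.span_le]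
      rintro z ⟨l, h1, h2, rfl⟩
      exact key l h1 h2
    have hbot : 𝔪 ^ (T + 1) = ⊥ := Submodule.eq_bot_of_le_smul_of_le_jacobson_bot 𝔪 (𝔪 ^ (T + 1))
      (IsNoetherian.noetherian _) (by rw [smul_eq_mul, ← pow_succ']; exact hle)
      (IsLocalRing.maximalIdeal_le_jacobson ⊥)
    exact hR (IsLocalRing.isField_iff_maximalIdeal_eq.mpr
      (eq_bot_iff.mpr fun a ha => Ideal.mem_bot.mpr (eq_zero_of_pow_eq_zero
        (Ideal.mem_bot.mp (hbot ▸ Ideal.pow_mem_pow ha (T + 1))))))
  have hx0 : x ≠ 0 := fun h => hx 1 (by subst h; simp)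
  have hinj : Function.Injective (algebraMap R K) := IsFractionRing.injective R K
  let X : K := algebraMap R K x
  have hX : X ≠ 0 := fun h => hx0 (hinj (h.trans (map_zero _).symm))
  obtain ⟨G, hG⟩ := IsNoetherian.noetherian 𝔪
  let A : Subalgebra R K := Algebra.adjoin R ((fun a => algebraMap R K a / X) '' (G : Set R))
  haveI : Algebra.FiniteType R A :=
    (Subalgebra.fg_iff_finiteType A).mp (Subalgebra.fg_def.mpr ⟨_, G.finite_toSet.image _, rfl⟩)
  haveI : IsNoetherianRing A := Algebra.FiniteType.isNoetherianRing R A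
  have hdiv : ∀ a ∈ 𝔪, algebraMap R K a / X ∈ A := by
    intro a ha
    rw [← hG] at ha
    induction ha using Submodule.span_induction with
    | mem g hg => exact Algebra.subset_adjoin ⟨g, hg, rfl⟩
    | zero => simp
    | add a b _ _ h1 h2 => rw [map_add, add_div]; exact add_mem h1 h2
    | smul r a _ h1 =>
      rw [smul_eq_mul, map_mul, mul_div_assoc]
      exact mul_mem (A.algebraMap_mem r) h1
  have hrep : ∀ z ∈ A, ∃ (n : ℕ) (f : R), f ∈ 𝔪 ^ n ∧ z * X ^ n = algebraMap R K f := by
    intro z hz
    induction hz using Algebra.adjoin_induction with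
    | mem z hz =>
      obtain ⟨g, hg, rfl⟩ := hz
      exact ⟨1, g, by rw [pow_one, ← hG]; exact Submodule.subset_span hg, by
        rw [pow_one, div_mul_cancel₀ _ hX]⟩
    | algebraMap r => exact ⟨0, r, by simp, by simp⟩
    | add a b _ _ ha hb =>
      obtain ⟨n, f, hf, hf'⟩ := ha
      obtain ⟨m, g, hg, hg'⟩ := hb
      refine ⟨n + m, f * x ^ m + g * x ^ n, add_mem ?_ ?_, ?_⟩
      · rw [pow_add]; exact Ideal.mul_mem_mul hf (Ideal.pow_mem_pow hxm m)
      · rw [pow_add, mul_comm (𝔪 ^ n)]; exact Ideal.mul_mem_mul hg (Ideal.pow_mem_pow hxm n)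
      · rw [map_add, map_mul, map_mul, map_pow, map_pow, ← hf', ← hg', pow_add]; ring
    | mul a b _ _ ha hb =>
      obtain ⟨n, f, hf, hf'⟩ := ha
      obtain ⟨m, g, hg, hg'⟩ := hb
      refine ⟨n + m, f * g, by rw [pow_add]; exact Ideal.mul_mem_mul hf hg, ?_⟩
      rw [map_mul, ← hf', ← hg', pow_add]; ring
  let xA : A := algebraMap R A x
  have hproper : Ideal.span {xA} ≠ ⊤ := by
    rw [Ne, Ideal.span_singleton_eq_top, isUnit_iff_exists_inv]
    rintro ⟨z, hz⟩
    obtain ⟨n, f, hf, hf'⟩ := hrep z z.2
    have hz' : X * (z : K) = 1 := congrArg Subtype.val hz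
    have : x * f = x ^ n := hinj (by
      rw [map_mul, map_pow, ← hf', ← mul_assoc]
      change X * (z : K) * X ^ n = X ^ n
      rw [hz', one_mul])
    exact hx n (this ▸ by rw [pow_succ']; exact Ideal.mul_mem_mul hxm hf)
  obtain ⟨P, hP⟩ := Ideal.nonempty_minimalPrimes hproper
  haveI : P.IsPrime := hP.1.1
  have hxP : xA ∈ P := hP.1.2 (Ideal.mem_span_singleton_self _)
  have hxA0 : xA ≠ 0 := fun h => hX (congrArg Subtype.val h)
  have hmP : ∀ a ∈ 𝔪, algebraMap R A a ∈ P := fun a ha => by
    have : algebraMap R A a = xA * ⟨_, hdiv a ha⟩ := Subtype.ext (by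
      change algebraMap R K a = X * (algebraMap R K a / X)
      rw [mul_div_cancel₀ _ hX])
    rw [this]; exact P.mul_mem_right _ hxP
  have hht : P.height = 1 := by
    refine le_antisymm (Ideal.height_le_one_of_isPrincipal_of_mem_minimalPrimes _ P hP) ?_
    rw [Order.one_le_iff_pos, pos_iff_ne_zero]
    intro h
    rw [Ideal.height_eq_zero_iff_eq_bot.mp h] at hxP
    exact hxA0 (Ideal.mem_bot.mp hxP)
  let L : Subalgebra A K := Localization.subalgebra.ofField K P.primeCompl P.primeCompl_le_nonZeroDivisors
  haveI : IsLocalization P.primeCompl L :=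
    Localization.subalgebra.isLocalization_ofField K P.primeCompl P.primeCompl_le_nonZeroDivisors
  haveI : IsLocalRing L := IsLocalization.AtPrime.isLocalRing L P
  have hlocal : IsLocalHom (algebraMap R L) := by
    refine ⟨fun a ha => ?_⟩
    by_contra hu
    have h1 : algebraMap R A a ∈ P := hmP a hu
    have h2 : IsUnit (algebraMap A L (algebraMap R A a)) := by
      rwa [← IsScalarTower.algebraMap_apply]
    exact (IsLocalization.AtPrime.isUnit_to_map_iff L P _).mp h2 h1
  refine ⟨L.restrictScalars R, (inferInstance : IsLocalRing L), IsLocalization.isNoetherianRing P.primeCompl L inferInstance,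
    ?_, hlocal, ?_⟩
  · show ringKrullDim L = 1
    rw [IsLocalization.AtPrime.ringKrullDim_eq_height P L, hht]
    rfl
  · haveI : Algebra.EssFiniteType A L := Algebra.EssFiniteType.of_isLocalization L P.primeCompl
    exact (Algebra.EssFiniteType.comp R A L : Algebra.EssFiniteType R L)

end Groth.Agent.S9132
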