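import Groth.Statements.S9133
import Groth.Agent.H02CA.DimOne
import Mathlib.RingTheory.Artinian.Module
import Mathlib.RingTheory.FiniteLength
import Mathlib.LinearAlgebra.Dimension.Finite
import Mathlib.LinearAlgebra.FreeModule.Finite.Basic
import Mathlib.RingTheory.Ideal.Over
import Mathlib.RingTheory.KrullDimension.Field

set_option autoImplicit false
universe u
open CAlg

namespace Groth.Agent.S9133

/-- Let R → S be a homomorphism of domains compatible with field maps K → L of their fraction fields (so
R → S is injective), where R is Noetherian local of dimension one and L is finite over K. Then each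
prime n of S whose contraction to R is the maximal ideal of R is a maximal ideal of S, only finitely
many such n exist, and each quotient S/n is a finite R-module (its residue field is a finite
extension of that of R). -/
theorem result (R S K L : Type u)
    [CommRing R] [IsDomain R] [IsNoetherianRing R] [IsLocalRing R] (hdim : ringKrullDim R = 1)
    [CommRing S] [IsDomain S] [Algebra R S] [Field K] [Field L] [Algebra R K] [IsFractionRing R K]
    [Algebra S L] [IsFractionRing S L] [Algebra K L] [Algebra R L] [IsScalarTower R K L]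
    [IsScalarTower R S L] [FiniteDimensional K L] :
    (∀ n ∈ (IsLocalRing.maximalIdeal R).primesOver S, n.IsMaximal) ∧
      ((IsLocalRing.maximalIdeal R).primesOver S).Finite ∧
      ∀ n ∈ (IsLocalRing.maximalIdeal R).primesOver S, Module.Finite R (S ⧸ n) := by
  classical
  haveI : Ring.KrullDimLE 1 R := Ring.krullDimLE_iff.mpr (le_of_eq hdim)
  have hm : IsLocalRing.maximalIdeal R ≠ ⊥ := fun h => by
    have : IsField R := IsLocalRing.isField_iff_maximalIdeal_eq.mpr h
    letI := this.toField
    rw [ringKrullDim_eq_zero_of_field R] at hdim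
    simp at hdim
  obtain ⟨x, hxm, hx⟩ := Submodule.exists_mem_ne_zero_of_ne_bot hm
  let b := Module.finBasis K L
  let ι : S →ₗ[R] (Fin (Module.finrank K L) → K) :=
    (b.equivFun.toLinearMap.restrictScalars R) ∘ₗ (IsScalarTower.toAlgHom R S L).toLinearMap
  have hι : Function.Injective ι := b.equivFun.injective.comp (IsFractionRing.injective S L)
  let e : S ≃ₗ[R] LinearMap.range ι := LinearEquiv.ofInjective ι hι
  have hlen : Module.length R (S ⧸ (Ideal.span {x} • ⊤ : Submodule R S)) ≠ ⊤ := by
    rw [(Submodule.Quotient.equiv _ (Ideal.span {x} • ⊤ : Submodule R (LinearMap.range ι)) e (by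
      show Submodule.map (e : S →ₗ[R] LinearMap.range ι) _ = _
      rw [Submodule.map_smul'', Submodule.map_top, LinearEquiv.range])).length_eq]
    refine ne_top_of_le_ne_top ?_ (H02CA.length_quotient_le K _ _ hx)
    exact WithTop.mul_ne_top (ENat.natCast_ne_top _) (Ring.ord_ne_top (mem_nonZeroDivisors_of_ne_zero hx))
  let I : Ideal S := Ideal.span {algebraMap R S x}
  have hI : (Ideal.span {x} • ⊤ : Submodule R S) = I.restrictScalars R := by
    rw [Ideal.smul_top_eq_map, Ideal.map_span, Set.image_singleton]
  let e' : (S ⧸ (Ideal.span {x} • ⊤ : Submodule R S)) ≃ₗ[R] (S ⧸ I) :=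
    (Submodule.quotEquivOfEq _ _ hI).trans (Submodule.Quotient.restrictScalarsEquiv R I)
  have hfl : IsFiniteLength R (S ⧸ I) := by
    rw [← Module.length_ne_top_iff, ← e'.length_eq]; exact hlen
  obtain ⟨hN, hA⟩ := isFiniteLength_iff_isNoetherian_isArtinian.mp hfl
  haveI : IsArtinianRing (S ⧸ I) := isArtinian_of_tower R hA
  haveI : Module.Finite R (S ⧸ I) := Module.IsNoetherian.finite R _
  have hle : ∀ n ∈ (IsLocalRing.maximalIdeal R).primesOver S, I ≤ n := by
    rintro n ⟨hn, hn'⟩
    rw [Ideal.span_singleton_le_iff_mem, ← Ideal.mem_comap]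
    exact hn'.over.le hxm
  have hmax : ∀ n ∈ (IsLocalRing.maximalIdeal R).primesOver S, n.IsMaximal := by
    intro n hn
    haveI := hn.1
    haveI : (n.map (Ideal.Quotient.mk I)).IsPrime :=
      Ideal.map_isPrime_of_surjective Ideal.Quotient.mk_surjective (by rw [Ideal.mk_ker]; exact hle n hn)
    haveI := IsArtinianRing.isMaximal_of_isPrime (n.map (Ideal.Quotient.mk I))
    have h := Ideal.comap_isMaximal_of_surjective (K := n.map (Ideal.Quotient.mk I)) _ (Ideal.Quotient.mk_surjective (I := I))
    rwa [Ideal.comap_map_of_surjective' _ Ideal.Quotient.mk_surjective, Ideal.mk_ker, sup_eq_left.mpr (hle n hn)] at h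
  refine ⟨hmax, ?_, fun n hn => ?_⟩
  · refine ((Set.toFinite (Set.univ : Set (MaximalSpectrum (S ⧸ I)))).image
      fun P => P.asIdeal.comap (Ideal.Quotient.mk I)).subset ?_
    intro n hn
    haveI := hmax n hn
    have hk : RingHom.ker (Ideal.Quotient.mk I) ≤ n := by rw [Ideal.mk_ker]; exact hle n hn
    refine ⟨⟨_, Ideal.IsMaximal.map_of_surjective_of_ker_le Ideal.Quotient.mk_surjective hk⟩, trivial, ?_⟩
    show Ideal.comap _ (Ideal.map _ n) = n
    rw [Ideal.comap_map_of_surjective' _ Ideal.Quotient.mk_surjective, sup_eq_left.mpr hk]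
  · exact Module.Finite.of_surjective (Ideal.Quotient.factorₐ R (hle n hn)).toLinearMap
      (Ideal.Quotient.factor_surjective (hle n hn))

end Groth.Agent.S9133
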