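import Groth.Statements.S9135
import Mathlib

set_option autoImplicit false
universe u
open CAlg

namespace Groth.Agent.S9135

/-- Let R → S be of finite type and p a minimal prime of R over which only finitely many primes of S
lie. Then for some g ∈ R outside p the localized map R_g → S_g is finite. -/
theorem result (R S : Type u) [CommRing R] [CommRing S]
    [Algebra R S] [Algebra.FiniteType R S] (p : Ideal R) (hp : p ∈ minimalPrimes R)
    (hfin : (p.primesOver S).Finite) :
    ∃ g : R, g ∉ p ∧ (Localization.awayMap (algebraMap R S) g).Finite := by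
  classical
  haveI hpp : p.IsPrime := hp.1.1
  let F := p.Fiber S
  haveI : IsJacobsonRing F := isJacobsonRing_of_finiteType (A := p.ResidueField)
  haveI : Finite (PrimeSpectrum F) := by
    refine (PrimeSpectrum.preimageEquivFiber R S ⟨p, hpp⟩).finite_iff.mp ?_
    have : (PrimeSpectrum.asIdeal '' (PrimeSpectrum.comap (algebraMap R S) ⁻¹' {⟨p, hpp⟩})).Finite := by
      refine hfin.subset ?_
      rintro _ ⟨Q, hQ, rfl⟩
      exact ⟨Q.2, ⟨(congrArg PrimeSpectrum.asIdeal hQ).symm⟩⟩
    exact (Set.finite_image_iff (fun _ _ _ _ h => PrimeSpectrum.ext h)).mp this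
  haveI : Module.Finite p.ResidueField F := by
    rw [Module.finite_iff_isArtinianRing, isArtinianRing_iff_isNoetherianRing_krullDimLE_zero]
    exact ⟨Algebra.FiniteType.isNoetherianRing p.ResidueField _,
      (PrimeSpectrum.discreteTopology_iff_finite_and_krullDimLE_zero.mp inferInstance).right⟩
  -- every element satisfies an equation whose leading coefficient is invertible near `p`
  have key : ∀ t : S, ∃ (c : R) (h : Polynomial R), c ∉ p ∧
      h.leadingCoeff = c ∧ Polynomial.aeval t h = 0 := by
    intro t
    let τ : F := Algebra.TensorProduct.includeRight t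
    let μ := minpoly p.ResidueField τ
    have hμ : μ.Monic := minpoly.monic (IsIntegral.of_finite p.ResidueField τ)
    -- clear denominators coefficientwise
    obtain ⟨b, hb, hblift⟩ : ∃ b : R, b ∉ p ∧
        Polynomial.C (algebraMap R p.ResidueField b) * μ ∈
          Polynomial.lifts (algebraMap R p.ResidueField) := by
      obtain ⟨⟨b, hb⟩, hball⟩ := IsLocalization.exist_integer_multiples
        (nonZeroDivisors (R ⧸ p)) μ.support μ.coeff
      obtain ⟨b, rfl⟩ := Ideal.Quotient.mk_surjective b
      refine ⟨b, fun h => nonZeroDivisors.ne_zero hb (Ideal.Quotient.eq_zero_iff_mem.mpr h), ?_⟩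
      rw [Polynomial.lifts_iff_coeff_lifts]
      intro i
      rw [Polynomial.coeff_C_mul]
      by_cases hi : i ∈ μ.support
      · obtain ⟨a, ha⟩ := hball i hi
        obtain ⟨a, rfl⟩ := Ideal.Quotient.mk_surjective a
        refine ⟨a, ?_⟩
        have ha' : algebraMap (R ⧸ p) p.ResidueField (algebraMap R (R ⧸ p) a) =
            (algebraMap R (R ⧸ p) b) • μ.coeff i := ha
        rw [Algebra.smul_def, ← IsScalarTower.algebraMap_apply,
          ← IsScalarTower.algebraMap_apply] at ha'
        exact ha'
      · exact ⟨0, by rw [Polynomial.notMem_support_iff.mp hi, mul_zero, map_zero]⟩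
    obtain ⟨h₀, hh₀, hdeg⟩ := Polynomial.exists_natDegree_eq_of_mem_lifts hblift
    have hb0 : algebraMap R p.ResidueField b ≠ 0 := fun h =>
      hb (Ideal.algebraMap_residueField_eq_zero.mp h)
    have hlead : algebraMap R p.ResidueField h₀.leadingCoeff = algebraMap R p.ResidueField b := by
      rw [Polynomial.leadingCoeff, ← Polynomial.coeff_map, hh₀, hdeg,
        Polynomial.natDegree_C_mul hb0, Polynomial.coeff_C_mul, hμ.coeff_natDegree, mul_one]
    have hlp : h₀.leadingCoeff ∉ p := fun h => hb0 (hlead.symm.trans
      (Ideal.algebraMap_residueField_eq_zero.mpr h))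
    let s := Polynomial.aeval t h₀
    have hs : Algebra.TensorProduct.includeRight (R := R) (A := p.ResidueField) s = 0 := by
      simp only [s]
      rw [← Polynomial.aeval_algHom_apply, ← Polynomial.aeval_map_algebraMap p.ResidueField, hh₀,
        map_mul, minpoly.aeval, mul_zero]
    let T : Submonoid S := p.primeCompl.map (algebraMap R S) ⊔ Submonoid.powers s
    have h0T : (0 : S) ∈ T := by
      by_contra h0
      have hd : Disjoint ((⊥ : Ideal S) : Set S) (T : Set S) :=
        Set.disjoint_left.mpr fun z hz hzT => h0 ((Ideal.mem_bot.mp hz) ▸ hzT)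
      obtain ⟨Q, hQ, -, hQT⟩ := Ideal.exists_le_prime_disjoint _ _ hd
      have hle : Q.comap (algebraMap R S) ≤ p := fun r hr => by
        by_contra hrp
        exact Set.disjoint_left.mp hQT hr (SetLike.le_def.mp le_sup_left ⟨r, hrp, rfl⟩)
      have heq : Q.comap (algebraMap R S) = p :=
        le_antisymm hle (hp.2 ⟨inferInstance, bot_le⟩ hle)
      let Q' : PrimeSpectrum F := PrimeSpectrum.preimageEquivFiber R S ⟨p, hpp⟩
        ⟨⟨Q, hQ⟩, PrimeSpectrum.ext heq⟩
      have hQ' : Q'.asIdeal.comap
          (Algebra.TensorProduct.includeRight (R := R) (A := p.ResidueField)).toRingHom = Q :=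
        congrArg (fun z => PrimeSpectrum.asIdeal (Subtype.val z))
          ((PrimeSpectrum.preimageEquivFiber R S ⟨p, hpp⟩).symm_apply_apply
            ⟨⟨Q, hQ⟩, PrimeSpectrum.ext heq⟩)
      refine Set.disjoint_left.mp hQT (?_ : s ∈ Q)
        (SetLike.le_def.mp le_sup_right (Submonoid.mem_powers s))
      rw [← hQ', Ideal.mem_comap]
      change Algebra.TensorProduct.includeRight (R := R) (A := p.ResidueField) s ∈ _
      rw [hs]; exact zero_mem _
    obtain ⟨_, ⟨r, hr, rfl⟩, _, ⟨n, rfl⟩, hrn⟩ := Submonoid.mem_sup.mp h0T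
    refine ⟨r * h₀.leadingCoeff ^ n, Polynomial.C r * h₀ ^ n,
      fun h => (hpp.mem_or_mem h).elim hr fun h' => hlp (hpp.mem_of_pow_mem n h'), ?_, ?_⟩
    · have hne : h₀.leadingCoeff ^ n ≠ 0 := fun h => hlp (hpp.mem_of_pow_mem n (h ▸ zero_mem p))
      have hne' : r * h₀.leadingCoeff ^ n ≠ 0 := fun h =>
        (hpp.mem_or_mem (h ▸ zero_mem p)).elim hr fun h' => hlp (hpp.mem_of_pow_mem n h')
      rw [Polynomial.leadingCoeff_mul' (by rwa [Polynomial.leadingCoeff_C,
        Polynomial.leadingCoeff_pow' hne]), Polynomial.leadingCoeff_C,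
        Polynomial.leadingCoeff_pow' hne]
    · rw [map_mul, Polynomial.aeval_C, map_pow]; exact hrn
  choose c h hc hlc hh using key
  obtain ⟨G, hG⟩ := Algebra.FiniteType.out (R := R) (A := S)
  let g := ∏ t ∈ G, c t
  refine ⟨g, fun hmem => ?_, ?_⟩
  · obtain ⟨t, -, ht⟩ := Ideal.IsPrime.prod_mem_iff.mp hmem
    exact hc t ht
  let Rg := Localization.Away g
  let Sg := Localization.Away (algebraMap R S g)
  let φ : Rg →+* Sg := Localization.awayMap (algebraMap R S) g
  have hφ : φ.comp (algebraMap R Rg) = (algebraMap S Sg).comp (algebraMap R S) :=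
    RingHom.ext fun a => by
      simp only [φ, Rg, Sg, Localization.awayMap, IsLocalization.Away.map, RingHom.comp_apply]
      exact IsLocalization.map_eq _ a
  have hgu : φ.IsIntegralElem (IsLocalization.Away.invSelf (algebraMap R S g) : Sg) := by
    have : (IsLocalization.Away.invSelf (algebraMap R S g) : Sg) =
        φ (IsLocalization.Away.invSelf g) := by
      have h1 : φ (algebraMap R Rg g) * φ (IsLocalization.Away.invSelf g) = 1 := by
        rw [← map_mul, IsLocalization.Away.mul_invSelf, map_one]
      have h2 : φ (algebraMap R Rg g) = algebraMap S Sg (algebraMap R S g) := RingHom.congr_fun hφ g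
      rw [h2] at h1
      exact (IsLocalization.Away.algebraMap_isUnit (S := Sg) (algebraMap R S g)).mul_left_cancel
        ((IsLocalization.Away.mul_invSelf _).trans h1.symm)
    rw [this]; exact φ.isIntegralElem_map
  have hS : ∀ z : S, φ.IsIntegralElem (algebraMap S Sg z) := by
    intro z
    have hz : z ∈ Algebra.adjoin R (G : Set S) := hG ▸ trivial
    induction hz using Algebra.adjoin_induction with
    | mem t ht =>
      obtain ⟨u, hu⟩ : IsUnit (algebraMap R Rg (c t)) :=
        isUnit_of_dvd_unit (map_dvd _ (Finset.dvd_prod_of_mem c ht))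
          (IsLocalization.Away.algebraMap_isUnit (S := Rg) g)
      refine ⟨Polynomial.C (↑u⁻¹ : Rg) * (h t).map (algebraMap R Rg), ?_, ?_⟩
      · have hlt : (algebraMap R Rg) (h t).leadingCoeff = (u : Rg) := by rw [hlc, hu]
        by_cases hnt : Nontrivial Rg
        · refine Polynomial.monic_C_mul_of_mul_leadingCoeff_eq_one ?_
          rw [Polynomial.leadingCoeff_map_of_leadingCoeff_ne_zero _ (by rw [hlt]; exact u.ne_zero),
            hlt, Units.inv_mul]
        · haveI := not_nontrivial_iff_subsingleton.mp hnt
          exact Polynomial.monic_of_subsingleton _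
      · rw [Polynomial.eval₂_mul, Polynomial.eval₂_map, hφ, ← Polynomial.hom_eval₂,
          ← Polynomial.aeval_def, hh, map_zero, mul_zero]
    | algebraMap a =>
      rw [show algebraMap S Sg (algebraMap R S a) = φ (algebraMap R Rg a) from
        (RingHom.congr_fun hφ a).symm]
      exact φ.isIntegralElem_map
    | add a b _ _ ha hb => rw [map_add]; exact RingHom.IsIntegralElem.add φ ha hb
    | mul a b _ _ ha hb => rw [map_mul]; exact RingHom.IsIntegralElem.mul φ ha hb
  have hint : φ.IsIntegral := by
    intro z
    obtain ⟨⟨s, _, n, rfl⟩, hs⟩ := IsLocalization.surj (Submonoid.powers (algebraMap R S g)) z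
    have hz : z = algebraMap S Sg s * (IsLocalization.Away.invSelf (algebraMap R S g)) ^ n := by
      rw [← hs, mul_assoc, map_pow, ← mul_pow, IsLocalization.Away.mul_invSelf, one_pow, mul_one]
    rw [hz]
    refine RingHom.IsIntegralElem.mul φ (hS s) ?_
    clear hz hs
    induction n with
    | zero => rw [pow_zero]; exact φ.isIntegralElem_one
    | succ n ih => rw [pow_succ]; exact RingHom.IsIntegralElem.mul φ ih hgu
  letI := φ.toAlgebra
  have hft : φ.FiniteType := by
    have h1 : (φ.comp (algebraMap R Rg)).FiniteType := by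
      rw [hφ]
      exact (RingHom.finiteType_algebraMap.mpr (inferInstance : Algebra.FiniteType S Sg)).comp
        (RingHom.finiteType_algebraMap.mpr inferInstance)
    exact h1.of_comp_finiteType
  exact RingHom.IsIntegral.to_finite hint hft

end Groth.Agent.S9135
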