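import Groth.Statements.S9138
import Groth.Agent.H02CA.ComplFibre

set_option autoImplicit false
universe u
open CAlg

namespace Groth.Agent.S9138

/-- Let R → S be a local ring homomorphism between local rings with finitely generated maximal ideals m
and n, such that S/mS is a finite-dimensional κ(m)-vector space. Then (1) the canonical ring map
from the mS-adic completion of S to the n-adic completion of S is bijective, and (2) the induced
ring map from the m-adic completion of R to the n-adic completion of S is finite. (The hypotheses h
and h' record the inclusion mS ⊆ n, which holds for any local homomorphism; they are the arguments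
the completion maps take.) -/
theorem result (R S : Type u) [CommRing R] [CommRing S]
    [IsLocalRing R] [IsLocalRing S] [Algebra R S] [IsLocalHom (algebraMap R S)]
    (hm : (IsLocalRing.maximalIdeal R).FG) (hn : (IsLocalRing.maximalIdeal S).FG)
    (hfib : Module.Finite (IsLocalRing.maximalIdeal R).ResidueField ((IsLocalRing.maximalIdeal R).Fiber S))
    (h : (IsLocalRing.maximalIdeal R).map (algebraMap R S) ≤ IsLocalRing.maximalIdeal S)
    (h' : ((IsLocalRing.maximalIdeal R).map (algebraMap R S)).map (RingHom.id S) ≤ IsLocalRing.maximalIdeal S) :
    Function.Bijective (FSch.complMap ((IsLocalRing.maximalIdeal R).map (algebraMap R S))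
        (IsLocalRing.maximalIdeal S) (RingHom.id S) h') ∧
      (FSch.complMap (IsLocalRing.maximalIdeal R) (IsLocalRing.maximalIdeal S) (algebraMap R S) h).Finite := by
  have hfin := H02CA.ComplFibre.finite_quot R S hfib
  obtain ⟨c, hc1, hc⟩ := H02CA.ComplFibre.exists_pow_le R S hfin
  have hb := H02CA.ComplFibre.bijective_complMap_id _ _ h' c hc1 hc
  refine ⟨hb, ?_⟩
  have e : FSch.complMap (IsLocalRing.maximalIdeal R) (IsLocalRing.maximalIdeal S) (algebraMap R S) h =
      (FSch.complMap ((IsLocalRing.maximalIdeal R).map (algebraMap R S)) (IsLocalRing.maximalIdeal S)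
        (RingHom.id S) h').comp (FSch.complMap (IsLocalRing.maximalIdeal R)
          ((IsLocalRing.maximalIdeal R).map (algebraMap R S)) (algebraMap R S) le_rfl) := by
    refine RingHom.ext fun x => AdicCompletion.ext_evalₐ fun n => ?_
    rw [RingHom.comp_apply, H02CA.ComplFibre.evalₐ_complMap, H02CA.ComplFibre.evalₐ_complMap,
      H02CA.ComplFibre.evalₐ_complMap]
    obtain ⟨y, hy⟩ := Ideal.Quotient.mk_surjective (AdicCompletion.evalₐ (IsLocalRing.maximalIdeal R) n x)
    rw [← hy]
    simp
  rw [e]
  exact (RingHom.Finite.of_surjective _ hb.2).comp (H02CA.ComplFibre.finite_complMap R S hm hfin)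

end Groth.Agent.S9138
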