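import Groth.Statements.S9139
import Mathlib.RingTheory.Ideal.Operations
import Mathlib.RingTheory.Nilpotent.Lemmas
import Mathlib.RingTheory.Finiteness.Ideal
import Mathlib.RingTheory.Ideal.Quotient.Operations

set_option autoImplicit false
universe u
open CAlg

namespace Groth.Agent.S9139

/-- Let I be a locally nilpotent ideal of a ring R (every element of I is nilpotent) and S → S' a map of
R-algebras with S' of finite type over R. If S → S'/IS' is surjective then so is S → S'. -/
theorem result (R S S' : Type u) [CommRing R] [CommRing S]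
    [CommRing S'] [Algebra R S] [Algebra R S'] [Algebra.FiniteType R S'] (I : Ideal R)
    (hI : ∀ x ∈ I, IsNilpotent x) (f : S →ₐ[R] S')
    (hf : Function.Surjective ((Ideal.Quotient.mk (I.map (algebraMap R S'))).comp f.toRingHom)) :
    Function.Surjective f := by
  classical
  obtain ⟨gen, hgen⟩ := (Algebra.FiniteType.out : (⊤ : Subalgebra R S').FG)
  let T : Submodule R S' := Subalgebra.toSubmodule f.range
  have hT : ∀ s : S', s ∈ T ⊔ I • (⊤ : Submodule R S') := fun s => by
    obtain ⟨a, ha⟩ := hf (Ideal.Quotient.mk _ s)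
    have h1 : s - f a ∈ I.map (algebraMap R S') := Ideal.Quotient.eq.mp ha.symm
    rw [← Submodule.restrictScalars_mem R, ← Ideal.smul_top_eq_map] at h1
    have := Submodule.add_mem_sup (show f a ∈ T from ⟨a, rfl⟩) h1
    rwa [add_sub_cancel] at this
  choose t ht u hu htu using fun s => Submodule.mem_sup.mp (hT s)
  have hex : ∀ v ∈ I • (⊤ : Submodule R S'), ∃ J : Ideal R, J.FG ∧ J ≤ I ∧ v ∈ J • (⊤ : Submodule R S') := by
    intro v hv
    induction hv using Submodule.smul_induction_on' with
    | smul r hr w _ => exact ⟨Ideal.span {r}, Submodule.fg_span_singleton r, (Ideal.span_singleton_le_iff_mem _).mpr hr,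
        Submodule.smul_mem_smul (Ideal.mem_span_singleton_self r) trivial⟩
    | add a _ b _ ha hb =>
      obtain ⟨J, h1, h2, h3⟩ := ha; obtain ⟨K, k1, k2, k3⟩ := hb
      exact ⟨J ⊔ K, Submodule.FG.sup h1 k1, sup_le h2 k2, add_mem (Submodule.smul_mono_left le_sup_left h3)
        (Submodule.smul_mono_left le_sup_right k3)⟩
  choose Jf hJ1 hJ2 hJ3 using fun s => hex (u s) (hu s)
  let J : Ideal R := gen.sup Jf
  have hJfg : J.FG := Submodule.fg_finset_sup gen Jf fun s _ => hJ1 s
  have hJI : J ≤ I := Finset.sup_le fun s _ => hJ2 s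
  let J' : Ideal S' := J.map (algebraMap R S')
  let U : Subalgebra R S' := (f.range.map (Ideal.Quotient.mkₐ R J')).comap (Ideal.Quotient.mkₐ R J')
  have hU : U = ⊤ := by
    rw [← top_le_iff, ← hgen, Algebra.adjoin_le_iff]
    intro s hs
    refine ⟨t s, ht s, Ideal.Quotient.eq.mpr ?_⟩
    have h1 : u s ∈ J • (⊤ : Submodule R S') := Submodule.smul_mono_left (Finset.le_sup hs) (hJ3 s)
    rw [Ideal.smul_top_eq_map, Submodule.restrictScalars_mem] at h1
    nth_rw 2 [← htu s]
    rw [sub_add_cancel_left]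
    exact neg_mem h1
  have hstep : (⊤ : Submodule R S') ≤ T ⊔ J • ⊤ := by
    intro s _
    obtain ⟨w, hw, hws⟩ := (show s ∈ U from hU ▸ Algebra.mem_top)
    have h1 : s - w ∈ J' := Ideal.Quotient.eq.mp hws.symm
    rw [← Submodule.restrictScalars_mem R, ← Ideal.smul_top_eq_map] at h1
    have := Submodule.add_mem_sup (show w ∈ T from hw) h1
    rwa [add_sub_cancel] at this
  have hn : ∀ n, (⊤ : Submodule R S') ≤ T ⊔ J ^ n • ⊤ := by
    intro n
    induction n with
    | zero => rw [pow_zero, Ideal.one_eq_top, Submodule.top_smul]; exact le_sup_right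
    | succ n ih =>
      refine ih.trans (sup_le le_sup_left ?_)
      calc J ^ n • (⊤ : Submodule R S') ≤ J ^ n • (T ⊔ J • ⊤) := Submodule.smul_mono le_rfl hstep
        _ = J ^ n • T ⊔ J ^ (n + 1) • ⊤ := by rw [Submodule.smul_sup, pow_succ, Submodule.mul_smul]
        _ ≤ T ⊔ J ^ (n + 1) • ⊤ := sup_le_sup_right Submodule.smul_le_right _
  obtain ⟨N, hN⟩ : ∃ N, J ^ N ≤ ⊥ := by
    refine Ideal.exists_pow_le_of_le_radical_of_fg ?_ hJfg
    intro x hx
    obtain ⟨k, hk⟩ := hI x (hJI hx)
    exact ⟨k, hk⟩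
  intro s
  have := hn N (Submodule.mem_top (x := s))
  rw [le_bot_iff.mp hN, Submodule.bot_smul, sup_bot_eq] at this
  exact this

end Groth.Agent.S9139
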