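import Groth.Statements.S9141
import Groth.Agent.H9CI.Global
-- import your own Groth.Agent.* helpers here

set_option autoImplicit false
universe u
open Synt

namespace Groth.Agent.S9141

/-- For a finite type algebra S over a field k and g ∈ S, the localization S_g is a global (resp. local)
complete intersection over k whenever S is. -/
theorem result (k S : Type u) [Field k] [CommRing S] [Algebra k S]
    [Algebra.FiniteType k S] (g : S) :
    (Synt.IsGlobalCI k S → Synt.IsGlobalCI k (Localization.Away g)) ∧
      (Synt.IsLCIOver k S → Synt.IsLCIOver k (Localization.Away g)) := by
  exact ⟨fun h => H9CI.isGlobalCI_away h g, fun h => H9CI.isLCIOver_away h g⟩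

end Groth.Agent.S9141
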