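import Groth.Statements.S9143
import Groth.Agent.H9CI.Presentation
-- import your own Groth.Agent.* helpers here

set_option autoImplicit false
universe u
open Synt

namespace Groth.Agent.S9143

/-- For a local k-algebra S which is essentially of finite type over a field k, being a complete
intersection over k is equivalent to each of: (2) whenever a regular local ring R, essentially of
finite type over k, maps onto S by a surjective k-algebra map, the kernel is generated by a regular
sequence; (3) some regular local ring R, essentially of finite type over k, maps onto S by a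
surjective k-algebra map whose kernel is generated by a list of dim R − dim S elements (stated as
dim R = dim S + the length of the list); (4) S is isomorphic over k to a localization at a prime of
a global complete intersection over k; (5) the same with a local complete intersection over k. -/
theorem result (k S : Type u) [Field k] [CommRing S]
    [IsLocalRing S] [Algebra k S] [Algebra.EssFiniteType k S] :
    (Synt.IsCIOver k S ↔
        ∀ (R : Type u) [CommRing R] [IsRegularLocalRing R] [Algebra k R], Algebra.EssFiniteType k R →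
          ∀ π : R →ₐ[k] S, Function.Surjective π →
            ∃ rs : List R, RingTheory.Sequence.IsRegular R rs ∧ RingHom.ker π.toRingHom = Ideal.ofList rs) ∧
      (Synt.IsCIOver k S ↔
        ∃ (R : Type u) (_ : CommRing R) (_ : IsRegularLocalRing R) (_ : Algebra k R),
          Algebra.EssFiniteType k R ∧ ∃ π : R →ₐ[k] S, Function.Surjective π ∧
            ∃ rs : List R, RingHom.ker π.toRingHom = Ideal.ofList rs ∧
              ringKrullDim R = ringKrullDim S + (rs.length : WithBot ℕ∞)) ∧
      (Synt.IsCIOver k S ↔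
        ∃ (A : Type u) (_ : CommRing A) (_ : Algebra k A) (a : Ideal A) (_ : a.IsPrime),
          Algebra.FiniteType k A ∧ Synt.IsGlobalCI k A ∧ Nonempty (S ≃ₐ[k] Localization.AtPrime a)) ∧
      (Synt.IsCIOver k S ↔
        ∃ (A : Type u) (_ : CommRing A) (_ : Algebra k A) (a : Ideal A) (_ : a.IsPrime),
          Synt.IsLCIOver k A ∧ Nonempty (S ≃ₐ[k] Localization.AtPrime a)) := by
  obtain ⟨R₀, _, _, _, hR₀, π₀, hπ₀⟩ := H9CI.exists_regular_presentation (k := k) S
  refine ⟨⟨fun h R _ _ _ hR π hπ => ?_, fun h => ?_⟩, ⟨fun h => ?_, fun ⟨R, _, _, _, hR, π, hπ, rs, hker, hdim⟩ => ?_⟩,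
    ⟨fun h => ?_, fun ⟨A, _, _, a, _, hA, hG, ⟨e⟩⟩ => H9CI.isCIOver_of_algEquiv e.symm (H9CI.isCIOver_of_isGlobalCI hG a)⟩,
    ⟨fun h => ?_, fun ⟨A, _, _, a, _, hA, ⟨e⟩⟩ => H9CI.isCIOver_of_algEquiv e.symm (H9CI.isCIOver_of_isLCIOver hA a)⟩⟩
  · obtain ⟨rs, -, hreg, hker, -⟩ := H9CI.exists_isRegular_of_isCIKer π.toRingHom hπ ((H9CI.isCIOver_iff π hπ).mp h)
    exact ⟨rs, hreg, hker⟩
  · obtain ⟨rs, hreg, hker⟩ := h R₀ hR₀ π₀ hπ₀
    exact (H9CI.isCIOver_iff π₀ hπ₀).mpr (H9CI.isCIKer_of_isRegular π₀.toRingHom hπ₀ rs hreg hker)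
  · obtain ⟨rs, -, hreg, hker, -⟩ := H9CI.exists_isRegular_of_isCIKer π₀.toRingHom hπ₀ ((H9CI.isCIOver_iff π₀ hπ₀).mp h)
    refine ⟨R₀, inferInstance, inferInstance, inferInstance, hR₀, π₀, hπ₀, rs, hker, ?_⟩
    let e : R₀ ⧸ Ideal.ofList rs ≃+* S :=
      (Ideal.quotEquivOfEq hker.symm).trans (RingHom.quotientKerEquivOfSurjective hπ₀)
    rw [← ringKrullDim_eq_of_ringEquiv e, ringKrullDim_add_length_eq_ringKrullDim_of_isRegular rs hreg]
  · classical
    refine (H9CI.isCIOver_iff π hπ).mpr ?_
    unfold H9CI.IsCIKer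
    rw [hdim, hker]
    gcongr
    have : Ideal.ofList rs = Submodule.span R (rs.toFinset : Set R) := by simp [Ideal.ofList, Ideal.span]
    rw [this]
    exact_mod_cast (Submodule.spanFinrank_span_le_ncard_of_finite (Finset.finite_toSet _)).trans
      ((Set.ncard_coe_finset _).trans_le (List.toFinset_card_le rs))
  all_goals
    obtain ⟨A, _, a, _, ⟨e⟩⟩ := H9CI.exists_finiteType_localization (k := k) S
    obtain ⟨n, φ, hφ⟩ := Algebra.FiniteType.iff_quotient_mvPolynomial''.mp ‹Algebra.FiniteType k A›
    obtain ⟨g, hg, hG⟩ := H9CI.exists_isGlobalCI_away_of_isCIOver φ hφ a (H9CI.isCIOver_of_algEquiv e h)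
    have hdisj : Disjoint (Submonoid.powers g : Set A) (a : Set A) := by
      rw [Set.disjoint_left]
      rintro _ ⟨m, rfl⟩ he
      exact hg (‹a.IsPrime›.mem_of_pow_mem m he)
    have := IsLocalization.isPrime_of_isPrime_disjoint (Submonoid.powers g) (Localization.Away g) a ‹_› hdisj
    have hc' := IsLocalization.under_map_of_isPrime_disjoint (Submonoid.powers g) (Localization.Away g) ‹a.IsPrime› hdisj
    change Ideal.comap _ _ = _ at hc'
    obtain ⟨e'⟩ := H9CI.nonempty_algEquiv_localization_atPrime (k := k) (Submonoid.powers g)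
      (a.map (algebraMap _ (Localization.Away g)))
    have key : ∀ (a' : Ideal A) [a'.IsPrime], a' = a → Nonempty (Localization.AtPrime a ≃ₐ[k] Localization.AtPrime a') :=
      fun a' _ h => by subst h; exact ⟨AlgEquiv.refl⟩
    obtain ⟨e''⟩ := key _ hc'
    have : Algebra.FiniteType A (Localization.Away g) := IsLocalization.finiteType_of_monoid_fg (Submonoid.powers g) _
    have hft : Algebra.FiniteType k (Localization.Away g) := Algebra.FiniteType.trans (R := k) (S := A) inferInstance inferInstance
    have iso : Nonempty (S ≃ₐ[k] Localization.AtPrime (a.map (algebraMap _ (Localization.Away g)))) :=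
      ⟨(e.trans e'').trans e'⟩
  · exact ⟨_, inferInstance, inferInstance, _, inferInstance, hft, hG, iso⟩
  · exact ⟨_, inferInstance, inferInstance, _, inferInstance, H9Synt.isLCIOver_of_isGlobalCI hG, iso⟩

end Groth.Agent.S9143
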