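import Groth.Statements.S9144
import Groth.Agent.H9CI.Global
-- import your own Groth.Agent.* helpers here

set_option autoImplicit false
universe u
open Synt

namespace Groth.Agent.S9144

/-- For a finite type algebra S over a field k and a prime q of S, the local ring S_q is a complete
intersection over k if and only if some basic open neighbourhood S_g (g ∉ q) is a local complete
intersection over k, if and only if some S_g (g ∉ q) is a global complete intersection over k. -/
theorem result (k S : Type u) [Field k] [CommRing S] [Algebra k S]
    [Algebra.FiniteType k S] (q : Ideal S) [q.IsPrime] :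
    (Synt.IsCIOver k (Localization.AtPrime q) ↔ ∃ g : S, g ∉ q ∧ Synt.IsLCIOver k (Localization.Away g)) ∧
      (Synt.IsCIOver k (Localization.AtPrime q) ↔
        ∃ g : S, g ∉ q ∧ Synt.IsGlobalCI k (Localization.Away g)) := by
  obtain ⟨n, φ, hφ⟩ := Algebra.FiniteType.iff_quotient_mvPolynomial''.mp ‹Algebra.FiniteType k S›
  have back : ∀ g : S, g ∉ q → Synt.IsLCIOver k (Localization.Away g) → Synt.IsCIOver k (Localization.AtPrime q) := by
    intro g hg h
    have hdisj : Disjoint (Submonoid.powers g : Set S) (q : Set S) := by
      rw [Set.disjoint_left]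
      rintro _ ⟨e, rfl⟩ he
      exact hg (‹q.IsPrime›.mem_of_pow_mem e he)
    have := IsLocalization.isPrime_of_isPrime_disjoint (Submonoid.powers g) (Localization.Away g) q ‹_› hdisj
    have hc := IsLocalization.under_map_of_isPrime_disjoint (Submonoid.powers g) (Localization.Away g) ‹q.IsPrime› hdisj
    change Ideal.comap _ _ = _ at hc
    obtain ⟨e⟩ := H9CI.nonempty_algEquiv_localization_atPrime (k := k) (Submonoid.powers g) (q.map (algebraMap S (Localization.Away g)))
    have h2 := H9CI.isCIOver_of_algEquiv e.symm (H9CI.isCIOver_of_isLCIOver h _)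
    have key : ∀ (q' : Ideal S) [q'.IsPrime], q' = q → Synt.IsCIOver k (Localization.AtPrime q') →
        Synt.IsCIOver k (Localization.AtPrime q) := fun q' _ h h' => by subst h; exact h'
    exact key _ hc h2
  refine ⟨⟨fun h => ?_, fun ⟨g, hg, h⟩ => back g hg h⟩, ⟨fun h => ?_, fun ⟨g, hg, h⟩ => ?_⟩⟩
  · obtain ⟨g, hg, hG⟩ := H9CI.exists_isGlobalCI_away_of_isCIOver φ hφ q h
    have : Algebra.FiniteType S (Localization.Away g) := IsLocalization.finiteType_of_monoid_fg (Submonoid.powers g) _
    have : Algebra.FiniteType k (Localization.Away g) := Algebra.FiniteType.trans (R := k) (S := S) inferInstance inferInstance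
    exact ⟨g, hg, H9Synt.isLCIOver_of_isGlobalCI hG⟩
  · exact H9CI.exists_isGlobalCI_away_of_isCIOver φ hφ q h
  · have : Algebra.FiniteType S (Localization.Away g) := IsLocalization.finiteType_of_monoid_fg (Submonoid.powers g) _
    have : Algebra.FiniteType k (Localization.Away g) := Algebra.FiniteType.trans (R := k) (S := S) inferInstance inferInstance
    exact back g hg (H9Synt.isLCIOver_of_isGlobalCI h)

end Groth.Agent.S9144
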