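import Groth.Statements.S9146
import Groth.Agent.H9CI.Global
import Groth.Agent.H9Synt.Transport
-- import your own Groth.Agent.* helpers here

set_option autoImplicit false
universe u
open Synt
open scoped TensorProduct

namespace Groth.Agent.S9146

/-- Being syntomic is local on the target ring: if finitely many elements of S generating the unit ideal
have syntomic localizations R → S_g, then R → S is syntomic. -/
theorem result (R S : Type u) [CommRing R] [CommRing S] [Algebra R S]
    (s : Finset S) (hs : Ideal.span (s : Set S) = ⊤)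
    (h : ∀ g ∈ s, Synt.IsSyntomic R (Localization.Away g)) : Synt.IsSyntomic R S := by
  have hflat : Module.Flat R S := Module.flat_of_isLocalized_span S S (s : Set S) hs
    (fun r => Localization.Away r.1) (fun r => (Algebra.linearMap S (Localization.Away r.1))) fun r => (h r.1 r.2).1
  have hfp : Algebra.FinitePresentation R S :=
    Algebra.FinitePresentation.of_span_eq_top_target (s : Set S) hs fun r hr => (h r hr).2.1
  refine ⟨hflat, hfp, fun p => ?_⟩
  let K := p.asIdeal.ResidueField
  haveI : Algebra.FiniteType K (p.asIdeal.Fiber S) := inferInstance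
  refine H9CI.isLCIOver_of_forall_maximal fun m _ => ?_
  obtain ⟨g, hg, hgm⟩ : ∃ g ∈ s, (1 : K) ⊗ₜ[R] g ∉ m := by
    by_contra! hall
    have hle : Ideal.span (s : Set S) ≤ m.comap (Algebra.TensorProduct.includeRight : S →ₐ[R] K ⊗[R] S).toRingHom :=
      Ideal.span_le.mpr hall
    rw [hs] at hle
    exact (Ideal.IsPrime.comap _ : (m.comap _).IsPrime).ne_top (top_le_iff.mp hle)
  let e := IsLocalization.Away.tensorProductEquivTMulRight R K g (Localization.Away g)
  have hL := H9Synt.isLCIOver_of_algEquiv e ((h g hg).2.2 p)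
  have hdisj : Disjoint (Submonoid.powers ((1 : K) ⊗ₜ[R] g) : Set (K ⊗[R] S)) (m : Set _) := by
    rw [Set.disjoint_left]
    rintro _ ⟨i, rfl⟩ he
    exact hgm (Ideal.IsPrime.mem_of_pow_mem inferInstance i he)
  have := IsLocalization.isPrime_of_isPrime_disjoint (Submonoid.powers ((1 : K) ⊗ₜ[R] g))
    (Localization.Away ((1 : K) ⊗ₜ[R] g)) m inferInstance hdisj
  have hc := IsLocalization.under_map_of_isPrime_disjoint (Submonoid.powers ((1 : K) ⊗ₜ[R] g))
    (Localization.Away ((1 : K) ⊗ₜ[R] g)) (inferInstance : m.IsPrime) hdisj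
  change Ideal.comap _ _ = _ at hc
  obtain ⟨e'⟩ := H9CI.nonempty_algEquiv_localization_atPrime (k := K) (Submonoid.powers ((1 : K) ⊗ₜ[R] g))
    (m.map (algebraMap _ (Localization.Away ((1 : K) ⊗ₜ[R] g))))
  have h2 := H9CI.isCIOver_of_algEquiv e'.symm (H9CI.isCIOver_of_isLCIOver hL _)
  have key : ∀ (m' : Ideal (K ⊗[R] S)) [m'.IsPrime], m' = m →
      Synt.IsCIOver K (Localization.AtPrime m') → Synt.IsCIOver K (Localization.AtPrime m) :=
    fun m' _ h h' => by subst h; exact h'
  exact key _ hc h2

end Groth.Agent.S9146
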