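import Groth.Statements.S9149
import Mathlib
import Groth.Agent.H9Synt.RootTower
-- import your own Groth.Agent.* helpers here

set_option autoImplicit false
universe u
open Synt

namespace Groth.Agent.S9149

open Polynomial in
/-- A monic polynomial over a ring A splits into linear factors over some A-algebra A' that is syntomic,
finite free and faithfully flat over A. -/
theorem result (A : Type u) [CommRing A] (P : A[X]) (hP : P.Monic) :
    ∃ (A' : Type u) (_ : CommRing A') (_ : Algebra A A'),
      Synt.IsSyntomic A A' ∧ Module.Finite A A' ∧ Module.Free A A' ∧ Module.FaithfullyFlat A A' ∧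
        ∃ s : Multiset A', P.map (algebraMap A A') = (s.map fun b => X - C b).prod := by
  obtain ⟨A', iR, iA, iB, iT, hfin, hfr, hinj, ⟨n, φ, F, hφ, hF⟩, s, hs⟩ :=
    H9Synt.exists_splitting_algebra A P.natDegree A (H9Synt.hasSquarePresentation_self A) P hP rfl
      Function.injective_id
  obtain rfl : iA = iB := Algebra.algebra_ext _ _ fun a =>
    @IsScalarTower.algebraMap_apply A A A' _ _ _ (Algebra.id A) iB iA iT a
  have : Module.Flat A A' := Module.Flat.of_free
  refine ⟨A', iR, iA, H9Synt.isSyntomic_of_finite φ hφ F hF, hfin, hfr, ?_,
    s, ?_⟩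
  · rcases subsingleton_or_nontrivial A with h | h
    · exact ⟨fun m hm => absurd (Subsingleton.elim m ⊤) hm.ne_top⟩
    · have : Nontrivial A' := hinj.nontrivial
      infer_instance
  · exact hs

end Groth.Agent.S9149
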