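import Groth.Statements.S9172
import Groth.Agent.H9CI.RelGCINhd
-- import your own Groth.Agent.* helpers here

set_option autoImplicit false
universe u
open Synt

namespace Groth.Agent.S9172

open MvPolynomial in
/-- Let S = R[x_1, …, x_n]/(F_1, …, F_c) over a ring R. Let I be an ideal of R such that the reduction
R/I[x]/(F mod I) = S/IS is a relative global complete intersection over R/I (its nonempty fibres
have dimension n − c). Then some h in the polynomial ring, with image g in S, satisfies: g maps to 1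
in S/IS, and the presentation S_g = R[x_1, …, x_{n+1}]/(F_1, …, F_c, h·x_{n+1} − 1) is a relative
global complete intersection over R (with S_g isomorphic to it over R). -/
theorem result (R : Type u) [CommRing R] (n c : ℕ) (F : Fin c → MvPolynomial (Fin n) R)
    (I : Ideal R)
    (hI : Synt.IsRelGCI (R ⧸ I) n c (fun i => MvPolynomial.map (Ideal.Quotient.mk I) (F i))) :
    ∃ h : MvPolynomial (Fin n) R,
      Ideal.Quotient.mk (I.map (algebraMap R (Synt.RelGCIRing R n c F)))
        (Ideal.Quotient.mk (Ideal.span (Set.range F)) h) = 1 ∧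
      Synt.IsRelGCI R (n + 1) (c + 1)
        (Fin.snoc (fun i => rename Fin.castSucc (F i)) (rename Fin.castSucc h * X (Fin.last n) - 1)) ∧
      Nonempty (Localization.Away (Ideal.Quotient.mk (Ideal.span (Set.range F)) h) ≃ₐ[R]
        Synt.RelGCIRing R (n + 1) (c + 1)
          (Fin.snoc (fun i => rename Fin.castSucc (F i)) (rename Fin.castSucc h * X (Fin.last n) - 1))) := by
  let S := Synt.RelGCIRing R n c F
  let mkS := Ideal.Quotient.mk (Ideal.span (Set.range F))
  let Z : Ideal (MvPolynomial (Fin n) R) :=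
    { carrier := {z | ∀ x ∈ H9CI.badLocus F, mkS z ∈ (x : PrimeSpectrum S).asIdeal}
      zero_mem' := fun x _ => by rw [map_zero]; exact zero_mem _
      add_mem' := fun {a b} ha hb x hx => by rw [map_add]; exact add_mem (ha x hx) (hb x hx)
      smul_mem' := fun r a ha x hx => by rw [smul_eq_mul, map_mul]; exact Ideal.mul_mem_left _ _ (ha x hx) }
  have htop : Z.map mkS ⊔ I.map (algebraMap R S) = ⊤ := by
    by_contra hne
    obtain ⟨m, hm, hle⟩ := Ideal.exists_le_maximal _ hne
    let x : PrimeSpectrum S := ⟨m, hm.isPrime⟩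
    let p : Ideal R := m.comap (algebraMap R S)
    haveI : p.IsPrime := Ideal.IsPrime.comap _
    have hIp : I ≤ p := Ideal.map_le_iff_le_comap.mp (le_sup_right.trans hle)
    haveI := Ideal.map_isPrime_of_surjective (f := Ideal.Quotient.mk I) Ideal.Quotient.mk_surjective
      (I := p) (by rwa [Ideal.mk_ker])
    let pb : PrimeSpectrum (R ⧸ I) := ⟨p.map (Ideal.Quotient.mk I), inferInstance⟩
    have hpb : PrimeSpectrum.comap (Ideal.Quotient.mk I) pb = ⟨p, inferInstance⟩ := PrimeSpectrum.ext <| by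
      show (p.map (Ideal.Quotient.mk I)).comap _ = p
      rw [Ideal.comap_map_of_surjective' _ Ideal.Quotient.mk_surjective, Ideal.mk_ker, sup_eq_left.mpr hIp]
    have hd := (H8Props.RelGCI.mem_locus_map (Ideal.Quotient.mk I) F).mp hI pb
    rw [hpb] at hd
    replace hd : ringKrullDim (p.Fiber S) ≤ H8Props.RelGCI.bd n c :=
      ((H8Props.RelGCI.dim_fibre F ⟨p, inferInstance⟩).symm.trans_le hd)
    haveI : Nontrivial (p.Fiber S) := by
      let q := PrimeSpectrum.preimageEquivFiber R S ⟨p, inferInstance⟩ ⟨x, rfl⟩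
      exact ⟨⟨0, 1, fun h => q.isPrime.ne_top ((Ideal.eq_top_iff_one _).mpr (h ▸ q.asIdeal.zero_mem))⟩⟩
    have hcn : c ≤ n := by
      by_contra hc
      rw [H8Props.RelGCI.bd, if_neg hc] at hd
      exact Order.krullDim_ne_bot_iff.mpr inferInstance (le_bot_iff.mp hd)
    rw [H8Props.RelGCI.bd, if_pos hcn] at hd
    have hxb := H9CI.notMem_badLocus F (p := p) ⟨hcn, hd⟩ x rfl
    obtain ⟨_, ⟨s, rfl⟩, hxs, hs⟩ := PrimeSpectrum.isTopologicalBasis_basic_opens.exists_subset_of_mem_open
      (show x ∈ (H9CI.badLocus F : Set (PrimeSpectrum S))ᶜ from hxb) (H9CI.isClosed_badLocus F).isOpen_compl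
    obtain ⟨z, rfl⟩ := Ideal.Quotient.mk_surjective s
    have hzZ : z ∈ Z := fun y hy => by
      by_contra hzy
      exact hs hzy hy
    exact hxs (hle (Ideal.mem_sup_left (Ideal.mem_map_of_mem _ hzZ)))
  obtain ⟨a, ha, b, hb, hab⟩ := Submodule.mem_sup.mp ((Ideal.eq_top_iff_one _).mp htop)
  obtain ⟨h, hh, rfl⟩ := (Ideal.mem_map_iff_of_surjective mkS Ideal.Quotient.mk_surjective).mp ha
  refine ⟨h, ?_, H9CI.isRelGCI_awayEqs F h hh, H9CI.nonempty_algEquiv_awayEqs F h⟩
  refine (Ideal.Quotient.eq.mpr ?_ : Ideal.Quotient.mk (I.map (algebraMap R S)) (mkS h) = Ideal.Quotient.mk _ 1)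
  rw [show mkS h - 1 = -b by linear_combination hab]
  exact neg_mem hb

end Groth.Agent.S9172
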