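import Groth.Statements.S9150
import Groth.Agent.H9CI.Syntomic
import Groth.Agent.S9172
-- import your own Groth.Agent.* helpers here

set_option autoImplicit false
universe u
open Synt

namespace Groth.Agent.S9150

open MvPolynomial in
/-- A relative global complete intersection over a quotient ring lifts after localization. -/
theorem exists_lift {R : Type u} [CommRing R] (I : Ideal R) {Sb : Type u} [CommRing Sb]
    [Algebra R Sb] [Algebra (R ⧸ I) Sb] [IsScalarTower R (R ⧸ I) Sb] (g : Sb)
    (h : ∃ (n c : ℕ) (F : Fin c → MvPolynomial (Fin n) (R ⧸ I)), Synt.IsRelGCI (R ⧸ I) n c F ∧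
      Nonempty (Localization.Away g ≃ₐ[R ⧸ I] Synt.RelGCIRing (R ⧸ I) n c F)) :
    ∃ (n c : ℕ) (F : Fin c → MvPolynomial (Fin n) R), Synt.IsRelGCI R n c F ∧
      Nonempty (Localization.Away g ≃ₐ[R]
        (Synt.RelGCIRing R n c F ⧸ I.map (algebraMap R (Synt.RelGCIRing R n c F)))) := by
  obtain ⟨n, c, F, hF, ⟨e⟩⟩ := h
  choose G hG using fun i => MvPolynomial.map_surjective (Ideal.Quotient.mk I) Ideal.Quotient.mk_surjective (F i)
  obtain ⟨h, h1, hrel, ⟨eC⟩⟩ := Groth.Agent.S9172.result R n c G I (by simpa only [hG] using hF)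
  refine ⟨n + 1, c + 1, _, hrel, ?_⟩
  let A := Synt.RelGCIRing R n c G
  let B := Synt.RelGCIRing (R ⧸ I) n c F
  let K := Ideal.span (Set.range G)
  let mB := Ideal.Quotient.mkₐ R (Ideal.span (Set.range F) : Ideal (MvPolynomial (Fin n) (R ⧸ I)))
  let red : MvPolynomial (Fin n) R →ₐ[R] MvPolynomial (Fin n) (R ⧸ I) := MvPolynomial.mapAlgHom (Algebra.ofId R (R ⧸ I))
  have hred : ∀ z, red z = MvPolynomial.map (Ideal.Quotient.mk I) z := fun z => rfl
  let ρ : A →ₐ[R] B := Ideal.Quotient.liftₐ K (mB.comp red) fun z hz => by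
    refine (Ideal.span_le.mpr ?_ : K ≤ RingHom.ker (mB.comp red)) hz
    rintro _ ⟨i, rfl⟩
    show Ideal.Quotient.mk (Ideal.span (Set.range F)) (red (G i)) = 0
    rw [hred, hG]
    exact Ideal.Quotient.eq_zero_iff_mem.mpr (Ideal.subset_span ⟨i, rfl⟩)
  have hρmk : ∀ z, ρ (Ideal.Quotient.mk K z) = Ideal.Quotient.mk (Ideal.span (Set.range F)) (red z) := fun z => rfl
  have hρs : Function.Surjective ρ := fun y => by
    obtain ⟨y, rfl⟩ := Ideal.Quotient.mk_surjective y
    obtain ⟨z, rfl⟩ := MvPolynomial.map_surjective (Ideal.Quotient.mk I) Ideal.Quotient.mk_surjective y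
    exact ⟨Ideal.Quotient.mk K z, rfl⟩
  have hρk : ∀ a : A, ρ a = 0 ↔ a ∈ I.map (algebraMap R A) := fun a => by
    refine ⟨fun ha => ?_, fun ha => ?_⟩
    · obtain ⟨z, rfl⟩ := Ideal.Quotient.mk_surjective a
      rw [hρmk, Ideal.Quotient.eq_zero_iff_mem, hred,
        show Ideal.span (Set.range F) = K.map (MvPolynomial.map (Ideal.Quotient.mk I)) by
          rw [Ideal.map_span, ← Set.range_comp]; exact congrArg Ideal.span (congrArg Set.range (funext fun i => (hG i).symm))] at ha
      obtain ⟨w, hw, hwz⟩ := (Ideal.mem_map_iff_of_surjective _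
        (MvPolynomial.map_surjective _ Ideal.Quotient.mk_surjective)).mp ha
      have hmem : z - w ∈ I.map MvPolynomial.C := by
        have : z - w ∈ RingHom.ker (MvPolynomial.map (σ := Fin n) (Ideal.Quotient.mk I)) := by
          rw [RingHom.mem_ker, map_sub, hwz, sub_self]
        rwa [MvPolynomial.ker_map, Ideal.mk_ker] at this
      have h2 := Ideal.mem_map_of_mem (Ideal.Quotient.mk K) hmem
      rw [map_sub, Ideal.Quotient.eq_zero_iff_mem.mpr hw, sub_zero, Ideal.map_map] at h2
      exact h2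
    · refine (Ideal.map_le_iff_le_comap.mpr fun r hr => ?_ : I.map (algebraMap R A) ≤ RingHom.ker ρ) ha
      rw [Ideal.mem_comap, RingHom.mem_ker, ρ.commutes, IsScalarTower.algebraMap_apply R (R ⧸ I) B,
        Ideal.Quotient.algebraMap_eq, Ideal.Quotient.eq_zero_iff_mem.mpr hr, map_zero]
  have hρh : ρ (Ideal.Quotient.mk K h) = 1 := by
    rw [← sub_eq_zero, ← map_one ρ, ← map_sub, hρk, ← Ideal.Quotient.eq, map_one]
    exact h1
  let L := Localization.Away (Ideal.Quotient.mk K h)
  let ρ' : L →ₐ[R] B := IsLocalization.liftAlgHom (M := Submonoid.powers (Ideal.Quotient.mk K h)) (f := ρ)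
    (by rintro ⟨_, m, rfl⟩; rw [map_pow, hρh, one_pow]; exact isUnit_one)
  have hρ' : ∀ a, ρ' (algebraMap A L a) = ρ a := fun a => IsLocalization.lift_eq _ a
  let C := Synt.RelGCIRing R (n + 1) (c + 1)
    (Fin.snoc (fun i => rename Fin.castSucc (G i)) (rename Fin.castSucc h * X (Fin.last n) - 1))
  let τ : C →ₐ[R] Localization.Away g := ((e.symm.restrictScalars R).toAlgHom.comp ρ').comp eC.symm.toAlgHom
  have hτs : Function.Surjective τ := by
    refine ((e.symm.restrictScalars R).surjective.comp ?_).comp eC.symm.surjective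
    intro y
    obtain ⟨a, rfl⟩ := hρs y
    exact ⟨algebraMap A L a, hρ' a⟩
  have hker : RingHom.ker τ = I.map (algebraMap R C) := by
    refine le_antisymm (fun x hx => ?_) (Ideal.map_le_iff_le_comap.mpr fun r hr => ?_)
    · obtain ⟨a, s, has⟩ := IsLocalization.exists_mk'_eq (Submonoid.powers (Ideal.Quotient.mk K h)) (eC.symm x)
      have hx0 : ρ' (eC.symm x) = 0 := e.symm.injective (hx.trans (map_zero _).symm)
      have ha : ρ a = 0 := by
        rw [← hρ', ← IsLocalization.mk'_spec L a s, map_mul, has, hx0, zero_mul]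
      have h2 : eC.symm x ∈ I.map (algebraMap R L) := by
        rw [← has, IsLocalization.mk'_eq_mul_mk'_one, IsScalarTower.algebraMap_eq R A L, ← Ideal.map_map]
        exact Ideal.mul_mem_right _ _ (Ideal.mem_map_of_mem _ ((hρk a).mp ha))
      have h3 := Ideal.mem_map_of_mem (eC : L →+* C) h2
      rw [Ideal.map_map] at h3
      have h4 : (eC : L →+* C).comp (algebraMap R L) = algebraMap R C := RingHom.ext fun r => eC.commutes r
      rwa [h4, RingHom.coe_coe, AlgEquiv.apply_symm_apply] at h3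
    · rw [Ideal.mem_comap, RingHom.mem_ker, τ.commutes, IsScalarTower.algebraMap_apply R (R ⧸ I),
        Ideal.Quotient.algebraMap_eq, Ideal.Quotient.eq_zero_iff_mem.mpr hr, map_zero]
  exact ⟨((Ideal.quotientEquivAlgOfEq R hker.symm).trans (Ideal.quotientKerAlgEquivOfSurjective hτs)).symm⟩

/-- Let I be an ideal of a ring R and S̄ an R-algebra killed by I which is syntomic over R/I. Then S̄ is
covered by finitely many basic opens S̄_g each isomorphic, as an R-algebra, to S/IS for some
relative global complete intersection S over R. -/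
theorem result (R : Type u) [CommRing R] (I : Ideal R) (Sb : Type u) [CommRing Sb]
    [Algebra R Sb] [Algebra (R ⧸ I) Sb] [IsScalarTower R (R ⧸ I) Sb] (h : Synt.IsSyntomic (R ⧸ I) Sb) :
    ∃ s : Finset Sb, Ideal.span (s : Set Sb) = ⊤ ∧ ∀ g ∈ s,
      ∃ (n c : ℕ) (F : Fin c → MvPolynomial (Fin n) R), Synt.IsRelGCI R n c F ∧
        Nonempty (Localization.Away g ≃ₐ[R]
          (Synt.RelGCIRing R n c F ⧸ I.map (algebraMap R (Synt.RelGCIRing R n c F)))) := by
  obtain ⟨s, hs, hs'⟩ := H9CI.exists_cover_isRelGCI h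
  exact ⟨s, hs, fun g hg => exists_lift I g (hs' g hg)⟩

end Groth.Agent.S9150
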