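import Groth.Statements.S9151
import Groth.Agent.H9CI.Conormal
import Groth.Agent.S9169
import Groth.Agent.H17.LocProj
-- import your own Groth.Agent.* helpers here

set_option autoImplicit false
set_option linter.style.haveILetI false
universe u
open Synt TensorProduct

namespace Groth.Agent.S9151

/-- Let S = R[x_1, …, x_n]/I with I finitely generated and let g ∈ S be such that S_g is syntomic over
R. Then the localization (I/I²)_g of the conormal module is a finite projective S_g-module. -/
theorem result (R : Type u) [CommRing R] (n : ℕ)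
    (I : Ideal (MvPolynomial (Fin n) R)) (hI : I.FG) (g : MvPolynomial (Fin n) R ⧸ I)
    (hg : Synt.IsSyntomic R (Localization.Away g)) :
    Module.Finite (Localization.Away g) (LocalizedModule (Submonoid.powers g) I.Cotangent) ∧
      Module.Projective (Localization.Away g) (LocalizedModule (Submonoid.powers g) I.Cotangent) := by
  classical
  let S := MvPolynomial (Fin n) R ⧸ I
  let φ : MvPolynomial (Fin n) R →ₐ[R] S := Ideal.Quotient.mkₐ R I
  have hφ : Function.Surjective φ := Ideal.Quotient.mk_surjective
  have hker : RingHom.ker φ.toRingHom = I := Ideal.mk_ker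
  haveI : Module.Finite (MvPolynomial (Fin n) R) I := Module.Finite.iff_fg.mpr hI
  haveI : Module.Finite (MvPolynomial (Fin n) R) I.Cotangent :=
    Module.Finite.of_surjective I.toCotangent I.toCotangent_surjective
  haveI : Module.Finite S I.Cotangent := Module.Finite.of_restrictScalars_finite (MvPolynomial (Fin n) R) S _
  let T := Localization.Away g
  let e₀ := LocalizedModule.equivTensorProduct (Submonoid.powers g) I.Cotangent
  refine ⟨Module.Finite.equiv e₀.symm, ?_⟩
  suffices Module.Projective T (T ⊗[S] I.Cotangent) from Module.Projective.of_equiv e₀.symm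
  -- free on a neighbourhood of every point
  let good : Set S := {G | ∃ G', Ideal.Quotient.mk I G' = G ∧
    Module.Free (Localization.Away G) (Localization.Away G ⊗[S] I.Cotangent)}
  have hgood : Ideal.span (algebraMap S T '' good) = ⊤ := by
    by_contra hne
    obtain ⟨m, hm, hle⟩ := Ideal.exists_le_maximal _ hne
    let q := m.comap (algebraMap S T)
    haveI : q.IsPrime := Ideal.IsPrime.comap _
    have hgq : g ∉ q := fun h => hm.ne_top (Ideal.eq_top_of_isUnit_mem _ h (IsLocalization.Away.algebraMap_isUnit g))
    let p := q.comap (algebraMap R S)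
    haveI : q.LiesOver p := ⟨rfl⟩
    let e := PrimeSpectrum.preimageEquivFiber R S ⟨p, inferInstance⟩
    let Q := e ⟨⟨q, inferInstance⟩, rfl⟩
    have hQ : Q.asIdeal.comap (Algebra.TensorProduct.includeRight.toRingHom : S →+* p.Fiber S) = q :=
      congrArg PrimeSpectrum.asIdeal (congrArg Subtype.val (e.symm_apply_apply ⟨⟨q, inferInstance⟩, rfl⟩))
    obtain ⟨-, -, -, hflat, hCI⟩ := (Groth.Agent.S9169.result R S p q Q.asIdeal hQ).2.mp ⟨g, hgq, hg⟩
    haveI := hflat
    obtain ⟨c, F, G, hG, hF, hGK, hrel⟩ :=
      H9CI.exists_equations_nhd p φ hφ (hker.symm ▸ hI) q rfl Q.asIdeal hQ hCI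
    rw [hker] at hF hGK
    exact hG (hle (Ideal.subset_span ⟨Ideal.Quotient.mk I G, ⟨G, rfl, H9CI.free_tensor_cotangent F hF G hGK hrel⟩, rfl⟩))
  obtain ⟨s, hs, hs'⟩ := (Ideal.span_eq_top_iff_finite _).mp hgood
  refine H17.LocProj.projective_of_localizations (ι := (s : Set T)) (fun x => x.1) (by rwa [Subtype.range_coe]) fun x => ?_
  obtain ⟨G, ⟨-, -, hfree⟩, hGx⟩ := hs x.2
  let Tx := Localization.Away x.1
  letI : Algebra (Localization.Away G) Tx := (IsLocalization.Away.lift (S := Localization.Away G) G
    (g := (algebraMap T Tx).comp (algebraMap S T))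
    (by rw [RingHom.comp_apply, hGx]; exact IsLocalization.Away.algebraMap_isUnit x.1)).toAlgebra
  haveI : IsScalarTower S (Localization.Away G) Tx :=
    IsScalarTower.of_algebraMap_eq' (R := S) (S := Localization.Away G) (A := Tx) (by
      rw [RingHom.algebraMap_toAlgebra, IsLocalization.Away.lift_comp, ← IsScalarTower.algebraMap_eq])
  haveI := hfree
  exact Module.Projective.of_equiv
    (((TensorProduct.AlgebraTensorModule.cancelBaseChange S (Localization.Away G) Tx Tx I.Cotangent)).trans
      (TensorProduct.AlgebraTensorModule.cancelBaseChange S T Tx Tx I.Cotangent).symm)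

end Groth.Agent.S9151
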