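import Groth.Statements.S9152
import Groth.Agent.H05EGA4.CMU
import Groth.Agent.H05EGA4.CodepthOpen
import Mathlib.RingTheory.RegularLocalRing.Polynomial
import Mathlib.RingTheory.FiniteType

set_option autoImplicit false
universe u
open CAlg

open Groth.Agent Groth.Agent.H05EGA4 in
set_option maxHeartbeats 800000 in
set_option synthInstance.maxHeartbeats 200000 in
theorem Groth.Agent.S9152.aux (k S : Type u) [Field k] [CommRing S] [Algebra k S] [Algebra.FiniteType k S] :
    IsOpen {q : PrimeSpectrum S | LocCoh.IsCohenMacaulayLocalRing (Localization.AtPrime q.asIdeal)} := by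
  haveI : IsNoetherianRing S := Algebra.FiniteType.isNoetherianRing k S
  obtain ⟨n, f, hf⟩ := Algebra.FiniteType.iff_quotient_mvPolynomial''.mp ‹Algebra.FiniteType k S›
  have h := isOpen_codepth_le (fun p _ => exists_CM_open_of_regular ((Ideal.Quotient.mk p).comp f.toRingHom)
    (Ideal.Quotient.mk_surjective.comp hf)) S 0
  refine (congrArg IsOpen (Set.ext fun q => ?_)).mp h
  exact (depth_congr_self q.asIdeal).symm

namespace Groth.Agent.S9152

/-- The Cohen–Macaulay locus of a finite type algebra over a field is open. -/
theorem result (k S : Type u) [Field k] [CommRing S] [Algebra k S]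
    [Algebra.FiniteType k S] :
    IsOpen {q : PrimeSpectrum S | LocCoh.IsCohenMacaulayLocalRing (Localization.AtPrime q.asIdeal)} := by
  exact aux k S

end Groth.Agent.S9152
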