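import Groth.Statements.S9153
import Groth.Agent.H8Props.FieldDimHeight

set_option autoImplicit false
universe u
open CAlg

namespace Groth.Agent.S9153

/-- In a polynomial ring in finitely many variables over a field, every saturated chain of primes
between two primes p ⊆ q has length equal to the difference of their heights (stated additively:
length + height p = height q). -/
theorem result (k : Type u) [Field k] (n : ℕ)
    (s : LTSeries (PrimeSpectrum (MvPolynomial (Fin n) k)))
    (hsat : ∀ i : Fin s.length, s (Fin.castSucc i) ⋖ s (Fin.succ i)) :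
    (s.length : ℕ∞) + s.head.asIdeal.height = s.last.asIdeal.height := by
  have hfin : ∀ p : PrimeSpectrum (MvPolynomial (Fin n) k), p.asIdeal.height ≠ ⊤ := fun p =>
    Ideal.height_ne_top p.2.ne_top
  have step : ∀ p q : PrimeSpectrum (MvPolynomial (Fin n) k), p ⋖ q →
      q.asIdeal.height = p.asIdeal.height + 1 := by
    intro p q hpq
    let A := MvPolynomial (Fin n) k ⧸ p.asIdeal
    let qb : Ideal A := q.asIdeal.map (Ideal.Quotient.mk p.asIdeal)
    have hle : p.asIdeal ≤ q.asIdeal := hpq.le
    have hcm : qb.comap (Ideal.Quotient.mk p.asIdeal) = q.asIdeal :=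
      Ideal.comap_map_mk hle
    haveI hqb : qb.IsPrime := Ideal.map_isPrime_of_surjective Ideal.Quotient.mk_surjective
      (by rw [Ideal.mk_ker]; exact hle)
    have hne : qb ≠ ⊥ := fun h => hpq.lt.ne (PrimeSpectrum.ext (by
      rw [← hcm, h, ← RingHom.ker_eq_comap_bot, Ideal.mk_ker]))
    have h1 : qb.height = 1 := by
      refine le_antisymm ?_ ?_
      · refine (Ideal.height_le_iff (n := 1)).mpr fun r hr hlt => ?_
        have hr0 : r = ⊥ := by
          by_contra hr0
          let r' : PrimeSpectrum (MvPolynomial (Fin n) k) :=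
            ⟨r.comap (Ideal.Quotient.mk p.asIdeal), inferInstance⟩
          have hpr : p < r' := by
            refine lt_of_le_of_ne (fun x hx => ?_) fun he => hr0 ?_
            · show Ideal.Quotient.mk p.asIdeal x ∈ r
              rw [Ideal.Quotient.eq_zero_iff_mem.mpr hx]; exact r.zero_mem
            · rw [← Ideal.map_comap_of_surjective _ Ideal.Quotient.mk_surjective r,
                show r.comap (Ideal.Quotient.mk p.asIdeal) = p.asIdeal from
                  (congrArg PrimeSpectrum.asIdeal he).symm, Ideal.map_quotient_self]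
          refine hpq.2 hpr (lt_of_le_of_ne ?_ fun he => hlt.ne ?_)
          · show r.comap (Ideal.Quotient.mk p.asIdeal) ≤ q.asIdeal
            rw [← hcm]; exact Ideal.comap_mono hlt.le
          · rw [← Ideal.map_comap_of_surjective _ Ideal.Quotient.mk_surjective r,
              show r.comap (Ideal.Quotient.mk p.asIdeal) = q.asIdeal from
                congrArg PrimeSpectrum.asIdeal he]
        subst hr0
        rw [Ideal.height_bot]; exact zero_lt_one
      · rw [Order.one_le_iff_pos, pos_iff_ne_zero]
        exact fun h => hne (Ideal.height_eq_zero_iff_eq_bot.mp h)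
    have e1 := Groth.Agent.H8Props.FieldDim.height_add_dim_quotient k (MvPolynomial (Fin n) k) p.asIdeal
    have e2 := Groth.Agent.H8Props.FieldDim.height_add_dim_quotient k (MvPolynomial (Fin n) k) q.asIdeal
    have e3 := Groth.Agent.H8Props.FieldDim.height_add_dim_quotient k A qb
    have eq' : ringKrullDim (A ⧸ qb) = ringKrullDim (MvPolynomial (Fin n) k ⧸ q.asIdeal) :=
      ringKrullDim_eq_of_ringEquiv (DoubleQuot.quotQuotEquivQuotOfLE hle)
    rw [h1, eq'] at e3
    have hn : ringKrullDim (MvPolynomial (Fin n) k) = (n : ℕ) := by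
      rw [MvPolynomial.ringKrullDim_of_isNoetherianRing, ringKrullDim_eq_zero_of_field]
      simp
    rw [hn] at e1 e2
    rw [← e3] at e1
    obtain ⟨a, ha⟩ := ENat.ne_top_iff_exists.mp (hfin p)
    obtain ⟨b, hb⟩ := ENat.ne_top_iff_exists.mp (hfin q)
    rw [← ha] at e1 ⊢
    rw [← hb] at e2 ⊢
    generalize hd : ringKrullDim (MvPolynomial (Fin n) k ⧸ q.asIdeal) = d at e1 e2
    match d, e1, e2 with
    | ⊥, e1, e2 => simp at e2
    | (⊤ : ℕ∞), e1, e2 => exact absurd e2 (by rw [← WithBot.coe_add, add_top]; exact fun h => ENat.top_ne_coe n (WithBot.coe_inj.mp h))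
    | ((c : ℕ) : ℕ∞), e1, e2 =>
      norm_cast at e1 e2 ⊢
      omega
  suffices ∀ j : Fin (s.length + 1), (j : ℕ∞) + s.head.asIdeal.height = (s j).asIdeal.height by
    have h := this (Fin.last _)
    rw [Fin.val_last] at h
    exact h
  intro j
  induction j using Fin.induction with
  | zero => simp [RelSeries.head]
  | succ i ih =>
    rw [step _ _ (hsat i), ← ih, Fin.val_succ, Fin.val_castSucc]
    push_cast; ring

end Groth.Agent.S9153
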