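import Groth.Statements.S9154
import Groth.Agent.H02CA.CMEquidim

set_option autoImplicit false
universe u
open CAlg

namespace Groth.Agent.S9154

/-- Let S be a Cohen–Macaulay finite type algebra over a field k, equidimensional of dimension d, and
f_1, …, f_i elements (i ≤ d) generating a proper ideal whose zero locus has dimension at most d − i.
Then that dimension equals d − i and the f_j form a regular sequence in S_q for every prime q
containing them. (The published statement also allows the f_j to generate the unit ideal, where the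
zero locus is empty and the equality fails, e.g. f_1 = 1 in k[x]; this row assumes the ideal is
proper.) -/
theorem result (k S : Type u) [Field k] [CommRing S] [Algebra k S]
    [Algebra.FiniteType k S] [LocCoh.IsCohenMacaulayRing S] (d : ℕ)
    (heq : ∀ p ∈ minimalPrimes S, ringKrullDim (S ⧸ p) = d) (f : List S) (hi : f.length ≤ d)
    (hne : Ideal.ofList f ≠ ⊤)
    (hle : ringKrullDim (S ⧸ Ideal.ofList f) ≤ ((d - f.length : ℕ) : WithBot ℕ∞)) :
    ringKrullDim (S ⧸ Ideal.ofList f) = ((d - f.length : ℕ) : WithBot ℕ∞) ∧
      ∀ (q : Ideal S) [q.IsPrime], Ideal.ofList f ≤ q →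
        RingTheory.Sequence.IsRegular (Localization.AtPrime q)
          (f.map (algebraMap S (Localization.AtPrime q))) := by
  classical
  have hf : ∀ r ∈ f, r ∈ Ideal.ofList f := fun r hr => Ideal.subset_span hr
  have hmain : ∀ m : Ideal S, ∀ hm : m.IsMaximal, Ideal.ofList f ≤ m →
      RingTheory.Sequence.IsWeaklyRegular (Localization.AtPrime m)
        (f.map (algebraMap S (Localization.AtPrime m))) ∧
      (d : WithBot ℕ∞) ≤ ringKrullDim (S ⧸ Ideal.ofList f) + (f.length : WithBot ℕ∞) := by
    intro m hm hfm
    let A := Localization.AtPrime m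
    haveI : LocCoh.IsCohenMacaulayLocalRing A :=
      LocCoh.IsCohenMacaulayRing.isCohenMacaulayLocalRing_localization m
    let gs := f.map (algebraMap S A)
    have hmem : ∀ r ∈ gs, r ∈ IsLocalRing.maximalIdeal A := by
      intro r hr
      obtain ⟨a, ha, rfl⟩ := List.mem_map.mp hr
      exact (IsLocalization.AtPrime.to_map_mem_maximal_iff A m a).mpr (hfm (hf a ha))
    have hdimA : Module.supportDim A A = (d : WithBot ℕ∞) := by
      obtain ⟨p, hp, hpm⟩ := Ideal.exists_minimalPrimes_le (bot_le : (⊥ : Ideal S) ≤ m)
      rw [Module.supportDim_self_eq_ringKrullDim,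
        IsLocalization.AtPrime.ringKrullDim_eq_height m A,
        ← Groth.Agent.H02CA.CMEquidim.dim_quotient_eq_height k p m hp hpm, heq p hp]
    have hle' : Module.supportDim A (A ⧸ Ideal.ofList gs • (⊤ : Submodule A A)) ≤
        ringKrullDim (S ⧸ Ideal.ofList f) := by
      rw [Module.supportDim_eq_of_equiv (Submodule.quotEquivOfEq _ ((Ideal.ofList f).map (algebraMap S A))
        (by rw [smul_eq_mul, Ideal.mul_top, Ideal.map_ofList])),
        Module.supportDim_quotient_eq_ringKrullDim]
      exact Groth.Agent.H02CA.CMEquidim.dim_localization_quotient_le m (Ideal.ofList f)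
    refine ⟨Groth.Agent.H8Props.MiracleFlat.isWeaklyRegular_of_supportDim gs A hmem
      (‹LocCoh.IsCohenMacaulayLocalRing A›).supportDim_eq_depth ?_, ?_⟩
    · rw [hdimA]
      refine (add_le_add_left (hle'.trans hle) _).trans (le_of_eq ?_)
      simp only [gs, List.length_map]
      exact_mod_cast Nat.sub_add_cancel hi
    · rw [← hdimA]
      refine (Groth.Agent.H8Props.MiracleFlat.supportDim_le_add_length gs A hmem).trans ?_
      simp only [gs, List.length_map]
      exact add_le_add_left hle' _
  obtain ⟨m₀, hm₀, hfm₀⟩ := Ideal.exists_le_maximal _ hne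
  refine ⟨le_antisymm hle ?_, fun q hq hfq => ?_⟩
  · have h := (hmain m₀ hm₀ hfm₀).2
    generalize ringKrullDim (S ⧸ Ideal.ofList f) = a at h ⊢
    match a, h with
    | ⊥, h => simp at h
    | (⊤ : ℕ∞), _ => exact WithBot.coe_le_coe.mpr le_top
    | ((c : ℕ) : ℕ∞), h =>
      have h' : d ≤ c + f.length := by exact_mod_cast h
      exact WithBot.coe_le_coe.mpr (Nat.cast_le.mpr (by omega : d - f.length ≤ c))
  · obtain ⟨m, hm, hqm⟩ := Ideal.exists_le_maximal q hq.ne_top
    have hw := (hmain m hm (hfq.trans hqm)).1
    let Am := Localization.AtPrime m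
    let Aq := Localization.AtPrime q
    let φ : Am →ₐ[S] Aq := IsLocalization.liftAlgHom (M := m.primeCompl) (f := Algebra.ofId S Aq)
      fun y => IsLocalization.map_units (M := q.primeCompl) Aq ⟨(y : S), fun h => y.2 (hqm h)⟩
    letI : Algebra Am Aq := φ.toRingHom.toAlgebra
    haveI : IsScalarTower S Am Aq := IsScalarTower.of_algebraMap_eq fun x => (φ.commutes x).symm
    haveI : Module.Flat S Aq := IsLocalization.flat Aq q.primeCompl
    haveI : Module.Flat Am Aq := by
      exact (Module.flat_iff_of_isLocalization Am m.primeCompl Aq).mpr inferInstance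
    have hwq := RingTheory.Sequence.IsWeaklyRegular.of_flat (S := Aq) hw
    rw [List.map_map, ← RingHom.coe_comp, ← IsScalarTower.algebraMap_eq] at hwq
    refine ⟨hwq, fun h => ?_⟩
    have hmemq : Ideal.ofList (f.map (algebraMap S Aq)) ≤ IsLocalRing.maximalIdeal Aq := by
      rw [← Ideal.map_ofList, Ideal.map_le_iff_le_comap]
      intro x hx
      exact (IsLocalization.AtPrime.to_map_mem_maximal_iff Aq q x).mpr (hfq hx)
    rw [smul_eq_mul, Ideal.mul_top] at h
    exact (IsLocalRing.maximalIdeal.isMaximal Aq).ne_top (top_le_iff.mp (h ▸ hmemq))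

end Groth.Agent.S9154
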