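import Groth.Statements.S9155
import Groth.Agent.H06PP.DiffOpExtend

set_option autoImplicit false
universe u
open Diff16

namespace Groth.Agent.S9155

open TensorProduct

/-- A differential operator of order at most k between modules over B (relative to A → B) has exactly
one extension to the localized modules over S⁻¹B that is again a differential operator of order at
most k (relative to A → S⁻¹B), compatible with the localization maps. -/
theorem result (A B : Type u) [CommRing A] [CommRing B] [Algebra A B]
    (S : Submonoid B) (M N : Type u) [AddCommGroup M] [Module B M] [Module A M] [IsScalarTower A B M]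
    [AddCommGroup N] [Module B N] [Module A N] [IsScalarTower A B N] (k : ℕ) (D : M →ₗ[A] N)
    (hD : Diff16.IsDiffOpLE A B M N k D) :
    ∃! E : LocalizedModule S M →ₗ[A] LocalizedModule S N,
      Diff16.IsDiffOpLE A (Localization S) (LocalizedModule S M) (LocalizedModule S N) k E ∧
        E ∘ₗ (LocalizedModule.mkLinearMap S M).restrictScalars A =
          (LocalizedModule.mkLinearMap S N).restrictScalars A ∘ₗ D := by
  haveI : Algebra.FormallyEtale B (Localization S) := Algebra.FormallyEtale.of_isLocalization S
  let eM : Localization S ⊗[B] M ≃ₗ[Localization S] LocalizedModule S M :=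
    (LocalizedModule.isBaseChange S M).equiv
  let eN : Localization S ⊗[B] N ≃ₗ[Localization S] LocalizedModule S N :=
    (LocalizedModule.isBaseChange S N).equiv
  obtain ⟨D', hD', h⟩ := H06PP.exists_extension (S' := Localization S) k D hD
  let E₀ : LocalizedModule S M →ₗ[A] LocalizedModule S N :=
    eN.toLinearMap.restrictScalars A ∘ₗ (D' ∘ₗ eM.symm.toLinearMap.restrictScalars A)
  have hE₀ : Diff16.IsDiffOpLE A (Localization S) (LocalizedModule S M) (LocalizedModule S N) k E₀ :=
    H06DiffOp.diffOp_linear_comp (A := A) eN.toLinearMap
      (H06DiffOp.diffOp_comp_linear hD' eM.symm.toLinearMap)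
  have hM : ∀ m, eM (1 ⊗ₜ m) = LocalizedModule.mkLinearMap S M m := fun m => by
    simp [eM, IsBaseChange.equiv_tmul]
  have hval : ∀ m, E₀ (LocalizedModule.mkLinearMap S M m) = LocalizedModule.mkLinearMap S N (D m) :=
    fun m => by
      show eN (D' (eM.symm (LocalizedModule.mkLinearMap S M m))) = _
      rw [← hM, eM.symm_apply_apply, h]
      simp [eN, IsBaseChange.equiv_tmul]
  refine ⟨E₀, ⟨hE₀, LinearMap.ext hval⟩, fun E hE => ?_⟩
  refine H06PP.diffOp_ext (R := A) (S := B) (S' := Localization S) (LocalizedModule.mkLinearMap S M)
    (fun s m => by rw [map_smul, algebraMap_smul]) ?_ k E E₀ hE.1 hE₀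
    fun m => (LinearMap.congr_fun hE.2 m).trans (hval m).symm
  have := congrArg (Submodule.map eM.toLinearMap)
    (H06PP.span_range_one_tmul (S := B) (S' := Localization S) (M := M))
  rw [Submodule.map_span, ← Set.range_comp, Submodule.map_top, LinearEquiv.range] at this
  rwa [show LocalizedModule.mkLinearMap S M = fun m => eM (1 ⊗ₜ m) from funext fun m => (hM m).symm]

end Groth.Agent.S9155
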