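import Groth.Statements.S9156
import Groth.Agent.H02CA.CMEquidim

set_option autoImplicit false
universe u
open CAlg

namespace Groth.Agent.S9156

/-- A Cohen–Macaulay finite type algebra S over a field k decomposes as a finite product of k-algebras
S_0 × ⋯ × S_N in which every maximal ideal of the factor S_d has height d (so Spec S is a finite
disjoint union of equidimensional open and closed pieces). -/
theorem result (k S : Type u) [Field k] [CommRing S]
    [Algebra k S] [Algebra.FiniteType k S] [LocCoh.IsCohenMacaulayRing S] :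
    ∃ (N : ℕ) (T : Fin (N + 1) → Type u) (_ : ∀ d, CommRing (T d)) (_ : ∀ d, Algebra k (T d)),
      Nonempty (S ≃ₐ[k] ((d : Fin (N + 1)) → T d)) ∧
        ∀ (d : Fin (N + 1)) (m : Ideal (T d)), m.IsMaximal → m.height = (d : ℕ) := by
  classical
  let MP : Finset (Ideal S) := (minimalPrimes.finite_of_isNoetherianRing S).toFinset
  have hMP : ∀ p, p ∈ MP ↔ p ∈ minimalPrimes S := fun p => Set.Finite.mem_toFinset _
  have hδ : ∀ p ∈ MP, ∃ j : ℕ, ringKrullDim (S ⧸ p) = (j : WithBot ℕ∞) := by
    intro p hp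
    obtain ⟨hp', -⟩ := ((hMP p).mp hp).1
    obtain ⟨m, hm, hpm⟩ := Ideal.exists_le_maximal p hp'.ne_top
    obtain ⟨j, hj⟩ := ENat.ne_top_iff_exists.mp (Ideal.height_ne_top (hm.ne_top))
    exact ⟨j, by rw [Groth.Agent.H02CA.CMEquidim.dim_quotient_eq_height k p m ((hMP p).mp hp) hpm, ← hj]; rfl⟩
  choose δ hδ using hδ
  let N := MP.attach.sup fun p => δ p.1 p.2
  let cls : Fin (N + 1) → Finset (Ideal S) := fun d =>
    MP.filter fun p => ringKrullDim (S ⧸ p) = ((d : ℕ) : WithBot ℕ∞)
  let J : Fin (N + 1) → Ideal S := fun d => (cls d).inf id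
  have hJm : ∀ (d : Fin (N + 1)) (m : Ideal S), m.IsMaximal → J d ≤ m → m.height = (d : ℕ) := by
    intro d m hm hle
    obtain ⟨p, hp, hpm⟩ := hm.isPrime.inf_le'.mp hle
    obtain ⟨hp1, hp2⟩ := Finset.mem_filter.mp hp
    have h := Groth.Agent.H02CA.CMEquidim.dim_quotient_eq_height k p m ((hMP p).mp hp1) hpm
    rw [hp2] at h
    exact (WithBot.coe_inj.mp h).symm
  have hcop : Pairwise fun i j => IsCoprime (J i) (J j) := by
    intro i j hij
    rw [Ideal.isCoprime_iff_sup_eq]
    by_contra hne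
    obtain ⟨m, hm, hle⟩ := Ideal.exists_le_maximal _ hne
    have h1 := hJm i m hm (le_sup_left.trans hle)
    rw [hJm j m hm (le_sup_right.trans hle)] at h1
    exact hij (Fin.ext (by exact_mod_cast h1.symm))
  obtain ⟨M, hM⟩ := IsNoetherianRing.isNilpotent_nilradical S
  let f : Fin (N + 1) → Ideal S := fun d => J d ^ (M + 1)
  have hcopf : Pairwise (Function.onFun IsCoprime f) := fun i j hij => (hcop hij).pow
  have hinf : ⨅ d, f d = ⊥ := by
    have h1 := Ideal.prod_eq_iInf_of_pairwise_isCoprime (s := Finset.univ) (J := f)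
      (fun i _ j _ hij => hcopf hij)
    simp only [Finset.mem_univ, iInf_pos] at h1
    rw [← h1, Finset.prod_pow, eq_bot_iff]
    refine (Ideal.pow_right_mono ?_ (M + 1)).trans ?_ (b := (nilradical S) ^ (M + 1))
    · intro x hx
      rw [nilradical, Ideal.zero_eq_bot, Ideal.radical_eq_sInf, Submodule.mem_sInf]
      rintro (P : Ideal S) ⟨-, hP⟩
      obtain ⟨p, hp, hpP⟩ := Ideal.exists_minimalPrimes_le (bot_le : (⊥ : Ideal S) ≤ P)
      refine hpP ?_
      let i : Fin (N + 1) := ⟨δ p ((hMP p).mpr hp), Nat.lt_succ_of_le (Finset.le_sup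
        (f := fun q : MP => δ q.1 q.2) (Finset.mem_attach MP ⟨p, (hMP p).mpr hp⟩))⟩
      have hmem : p ∈ cls i := Finset.mem_filter.mpr ⟨(hMP p).mpr hp, hδ p ((hMP p).mpr hp)⟩
      exact (Finset.inf_le hmem : J i ≤ p) ((Ideal.prod_le_inf.trans (Finset.inf_le (Finset.mem_univ i))) hx)
    · rw [pow_succ, hM]; simp
  have hsm : ∀ {A B : Type u} [CommRing A] [CommRing B] (φ : A →+* B), Function.Surjective φ →
      ∀ (P : Ideal B) [P.IsPrime], P.height ≤ (P.comap φ).height := by
    intro A B _ _ φ hφ P hP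
    have hs : StrictMono (PrimeSpectrum.comap φ) := fun a b hab =>
      lt_of_le_of_ne (fun x hx => hab.le hx) fun he =>
        hab.ne (PrimeSpectrum.comap_injective_of_surjective φ hφ he)
    have h := Order.height_le_height_apply_of_strictMono _ hs ⟨P, hP⟩
    rwa [← PrimeSpectrum.height_eq_orderHeight, ← PrimeSpectrum.height_eq_orderHeight] at h
  let e := (RingEquiv.quotientBot S).symm.trans ((Ideal.quotEquivOfEq hinf.symm).trans
    (Ideal.quotientInfRingEquivPiQuotient f hcopf))
  refine ⟨N, fun d => S ⧸ f d, fun _ => inferInstance, fun _ => inferInstance,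
    ⟨AlgEquiv.ofRingEquiv (f := e) fun c => ?_⟩, fun d m hm => ?_⟩
  · funext d; rfl
  · let m' := m.comap (Ideal.Quotient.mk (f d))
    have hm' : m'.IsMaximal := Ideal.comap_isMaximal_of_surjective _ Ideal.Quotient.mk_surjective
    have hle : f d ≤ m' := fun x hx => by
      show Ideal.Quotient.mk (f d) x ∈ m
      rw [Ideal.Quotient.eq_zero_iff_mem.mpr hx]; exact m.zero_mem
    have hJle : J d ≤ m' := hm'.isPrime.le_of_pow_le hle
    have := hm.isPrime
    refine le_antisymm ((hsm _ Ideal.Quotient.mk_surjective m).trans (hJm d m' hm' hJle).le) ?_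
    obtain ⟨p, hp, hpm'⟩ := hm'.isPrime.inf_le'.mp hJle
    have hpm : p ≤ m' := hpm'
    obtain ⟨hp1, hp2⟩ := Finset.mem_filter.mp hp
    have : p.IsPrime := ((hMP p).mp hp1).1.1
    have hfp : f d ≤ p := (Ideal.pow_le_self (Nat.succ_ne_zero M)).trans (Finset.inf_le hp)
    let g := Ideal.Quotient.factor hfp
    have hg : Function.Surjective g := Ideal.Quotient.factor_surjective hfp
    have hmap : (m'.map (Ideal.Quotient.mk p)).comap g = m := by
      apply Ideal.comap_injective_of_surjective _ Ideal.Quotient.mk_surjective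
      rw [Ideal.comap_comap, Ideal.Quotient.factor_comp_mk, Ideal.comap_map_mk hpm]
    have hprime : (m'.map (Ideal.Quotient.mk p)).IsPrime :=
      Ideal.map_isPrime_of_surjective Ideal.Quotient.mk_surjective (by rw [Ideal.mk_ker]; exact hpm)
    have h1 := hsm g hg (m'.map (Ideal.Quotient.mk p))
    rw [hmap] at h1
    have h2 := Groth.Agent.H02CA.CMEquidim.height_eq_dim_quotient k p m' hpm
    rw [hp2] at h2
    exact (WithBot.coe_inj.mp h2).symm.le.trans h1

end Groth.Agent.S9156
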