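import Groth.Statements.S9157
import Groth.Agent.H02CA.LocalPresentation

set_option autoImplicit false
universe u
open CAlg

namespace Groth.Agent.S9157

/-- If the localization S⁻¹M of an R-module M is finitely presented over S⁻¹R, then some finitely
presented R-module M' maps to M inducing an isomorphism S⁻¹M' → S⁻¹M. -/
theorem result (R : Type u) [CommRing R] (S : Submonoid R)
    (M : Type u) [AddCommGroup M] [Module R M]
    [Module.FinitePresentation (Localization S) (LocalizedModule S M)] :
    ∃ (M' : Type u) (_ : AddCommGroup M') (_ : Module R M') (φ : M' →ₗ[R] M),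
      Module.FinitePresentation R M' ∧ Function.Bijective (LocalizedModule.map S φ) := by
  obtain ⟨n, g, G, hG0, hgen, hrel⟩ := H02CA.exists_local_presentation S (M := M)
  let N : Submodule R (Fin n → R) := Submodule.span R (G : Set (Fin n → R))
  have hN : N ≤ LinearMap.ker g := Submodule.span_le.mpr fun v hv => hG0 v hv
  refine ⟨(Fin n → R) ⧸ N, inferInstance, inferInstance, N.liftQ g hN,
    Module.finitePresentation_of_surjective N.mkQ N.mkQ_surjective ?_, ?_, ?_⟩
  · rw [Submodule.ker_mkQ]; exact ⟨G, rfl⟩
  · rw [injective_iff_map_eq_zero]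
    intro z hz
    induction z using LocalizedModule.induction_on with
    | h x t =>
      obtain ⟨v, rfl⟩ := N.mkQ_surjective x
      rw [LocalizedModule.map_mk, ← LocalizedModule.zero_mk t, LocalizedModule.mk_eq] at hz
      obtain ⟨u, hu⟩ := hz
      have h0 : g (((u : R) * (t : R)) • v) = 0 := by
        simpa [Submonoid.smul_def, smul_smul] using hu
      obtain ⟨s, hs, hsv⟩ := hrel _ h0
      rw [← LocalizedModule.zero_mk t, LocalizedModule.mk_eq]
      refine ⟨⟨s, hs⟩ * u, ?_⟩
      have h1 : N.mkQ (s • ((u : R) * (t : R)) • v) = 0 :=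
        (Submodule.Quotient.mk_eq_zero N).mpr hsv
      simpa [Submonoid.smul_def, smul_smul, mul_assoc] using h1
  · intro z
    induction z using LocalizedModule.induction_on with
    | h m q =>
      obtain ⟨t, ht, x, hx⟩ := hgen m
      refine ⟨LocalizedModule.mk (N.mkQ x) (⟨t, ht⟩ * q), ?_⟩
      rw [LocalizedModule.map_mk, LocalizedModule.mk_eq]
      exact ⟨1, by simp [hx, Submonoid.smul_def, smul_smul, mul_comm]⟩

end Groth.Agent.S9157
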