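import Groth.Statements.S9158
import Groth.Agent.H7Flat.GenericFreeness
import Mathlib.RingTheory.Spectrum.Prime.Topology
import Mathlib.RingTheory.Localization.BaseChange
import Mathlib.RingTheory.RingHom.FinitePresentation

set_option autoImplicit false
universe u
open CAlg

namespace Groth.Agent.S9158

lemma awayMap_fp {R S : Type u} [CommRing R] [CommRing S] [Algebra R S] (f : R)
    [Algebra.FinitePresentation (Localization.Away f) (TensorProduct R (Localization.Away f) S)] :
    (Localization.awayMap (algebraMap R S) f).FinitePresentation := by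
  let Rf := Localization.Away f
  let Sf := Localization.Away (algebraMap R S f)
  let _ : Algebra Rf Sf := (Localization.awayMap (algebraMap R S) f).toAlgebra
  have : IsScalarTower R Rf Sf := IsScalarTower.of_algebraMap_eq' <| by
    rw [RingHom.algebraMap_toAlgebra, IsScalarTower.algebraMap_eq R S Sf]
    exact (IsLocalization.map_comp (S := Rf) (Q := Sf) _).symm
  have : IsLocalization (Algebra.algebraMapSubmonoid S (Submonoid.powers f)) Sf := by
    rw [Algebra.algebraMapSubmonoid, Submonoid.map_powers]
    infer_instance
  have : Algebra.IsPushout R Rf S Sf :=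
    (Algebra.isPushout_of_isLocalization (Submonoid.powers f) Rf S Sf).symm
  have h : Algebra.FinitePresentation Rf Sf :=
    Algebra.FinitePresentation.equiv (Algebra.IsPushout.equiv R Rf S Sf)
  exact h

/-- Generic freeness over a reduced ring: let R → S be of finite type with R reduced and M a finite
S-module. There is a dense open subset U of Spec R such that each point of U lies in a basic open
D(f) ⊆ U with M_f and S_f free over R_f, S_f of finite presentation over R_f, and M_f of finite
presentation over S_f. -/
theorem result (R S : Type u) [CommRing R] [IsReduced R] [CommRing S]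
    [Algebra R S] [Algebra.FiniteType R S] (M : Type u) [AddCommGroup M] [Module S M] [Module R M]
    [IsScalarTower R S M] [Module.Finite S M] :
    ∃ U : Set (PrimeSpectrum R), IsOpen U ∧ Dense U ∧ ∀ u ∈ U, ∃ f : R, f ∉ u.asIdeal ∧
      (PrimeSpectrum.basicOpen f : Set (PrimeSpectrum R)) ⊆ U ∧
      Module.Free (Localization.Away f) (LocalizedModule (Submonoid.powers f) M) ∧
      Module.Free (Localization.Away f) (LocalizedModule (Submonoid.powers f) S) ∧
      (Localization.awayMap (algebraMap R S) f).FinitePresentation ∧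
      Module.FinitePresentation (Localization.Away (algebraMap R S f))
        (LocalizedModule (Submonoid.powers (algebraMap R S f)) M) := by
  let good : Set R := {f | Module.Free (Localization.Away f) (LocalizedModule (Submonoid.powers f) M) ∧
      Module.Free (Localization.Away f) (LocalizedModule (Submonoid.powers f) S) ∧
      (Localization.awayMap (algebraMap R S) f).FinitePresentation ∧
      Module.FinitePresentation (Localization.Away (algebraMap R S f))
        (LocalizedModule (Submonoid.powers (algebraMap R S f)) M)}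
  refine ⟨⋃ f ∈ good, (PrimeSpectrum.basicOpen f : Set (PrimeSpectrum R)),
    isOpen_biUnion fun f _ ↦ (PrimeSpectrum.basicOpen f).2, ?_, fun u hu ↦ ?_⟩
  · rw [PrimeSpectrum.isTopologicalBasis_basic_opens.dense_iff]
    rintro _ ⟨a, rfl⟩ ⟨x, hx⟩
    have ha : a ≠ 0 := fun h ↦ hx (h ▸ x.asIdeal.zero_mem)
    obtain ⟨f₁, hf₁, haf₁, h₁⟩ := Groth.Agent.H7Flat.exists_free_baseChange (R := R) S M a ha
    obtain ⟨f₂, hf₂, hf₁₂, h₂⟩ := Groth.Agent.H7Flat.exists_free_baseChange (R := R) S S f₁ hf₁
    obtain ⟨f₃, hf₃, hf₂₃, h₃⟩ :=
      Groth.Agent.H7Flat.exists_finitePresentation_algebra' (R := R) S f₂ hf₂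
    obtain ⟨f, hf, hf₃f, h₄⟩ :=
      Groth.Agent.H7Flat.exists_finitePresentation_module' (R := R) S M f₃ hf₃
    have hgood : f ∈ good := by
      have := h₁ f ((hf₁₂.trans hf₂₃).trans hf₃f)
      have := h₂ f (hf₂₃.trans hf₃f)
      have := h₃ f hf₃f
      exact ⟨Module.Free.of_equiv (LocalizedModule.equivTensorProduct (Submonoid.powers f) M).symm,
        Module.Free.of_equiv (LocalizedModule.equivTensorProduct (Submonoid.powers f) S).symm,
        awayMap_fp f, h₄ f dvd_rfl⟩
    obtain ⟨p, hp, hfp⟩ : ∃ p : Ideal R, p.IsPrime ∧ f ∉ p := by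
      by_contra h
      push Not at h
      exact hf ((nilpotent_iff_mem_prime.mpr h).eq_zero)
    refine ⟨⟨p, hp⟩, ?_, Set.mem_biUnion hgood hfp⟩
    intro hap
    obtain ⟨c, rfl⟩ := (haf₁.trans hf₁₂).trans (hf₂₃.trans hf₃f)
    exact hfp (p.mul_mem_right c hap)
  · obtain ⟨f, hf, huf⟩ := Set.mem_iUnion₂.mp hu
    exact ⟨f, huf, Set.subset_biUnion_of_mem (u := fun f ↦
      (PrimeSpectrum.basicOpen f : Set (PrimeSpectrum R))) hf, hf⟩

end Groth.Agent.S9158
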