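import Groth.Statements.S9159
import Groth.Agent.H1CAlg.LocalDim
import Groth.Agent.H8Props.MiracleFlat
import Groth.Agent.H8Props.FlatDepth
import Groth.Agent.H4Depth.Regular
import Mathlib

set_option autoImplicit false
universe u
open CAlg

namespace Groth.Agent.S9159

open IsLocalRing LocCoh

theorem fibre_dim_zero {P S : Type u} [CommRing P] [CommRing S] [Algebra P S] [Algebra.QuasiFinite P S] (p : Ideal P)
    [p.IsPrime] (q : Ideal S) [q.IsPrime] [q.LiesOver p] [Algebra (Localization.AtPrime p) (Localization.AtPrime q)]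
    [Localization.AtPrime.IsLiesOverAlgebra p q] [IsScalarTower P (Localization.AtPrime p) (Localization.AtPrime q)]
    [IsLocalHom (algebraMap (Localization.AtPrime p) (Localization.AtPrime q))] :
    ringKrullDim (Localization.AtPrime q ⧸
      (maximalIdeal (Localization.AtPrime p)).map (algebraMap (Localization.AtPrime p) (Localization.AtPrime q))) = 0 := by
  let B := Localization.AtPrime q
  let I := (maximalIdeal (Localization.AtPrime p)).map (algebraMap (Localization.AtPrime p) B)
  have hI : I ≤ maximalIdeal B := Ideal.map_le_iff_le_comap.mpr fun x hx => map_nonunit (algebraMap _ B) x hx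
  haveI : Nontrivial (B ⧸ I) := Ideal.Quotient.nontrivial_iff.mpr (ne_top_of_le_ne_top (maximalIdeal.isMaximal B).ne_top hI)
  refine le_antisymm ?_ ringKrullDim_nonneg_of_nontrivial
  haveI : Ring.KrullDimLE 0 (B ⧸ I) := Ring.krullDimLE_zero_iff.mpr fun Q hQ => by
    haveI := hQ
    let Q' := Q.comap (Ideal.Quotient.mk I)
    haveI : Q'.IsPrime := Ideal.IsPrime.comap _
    have hIQ : I ≤ Q' := Ideal.mk_ker.symm.le.trans (Ideal.ker_le_comap _)
    have hle : Q'.comap (algebraMap S B) ≤ q := by
      exact (Ideal.comap_mono (le_maximalIdeal (Ideal.IsPrime.ne_top inferInstance))).trans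
        (IsLocalization.AtPrime.under_maximalIdeal B q).le
    have hunder : (Q'.comap (algebraMap S B)).under P = q.under P := by
      refine le_antisymm (Ideal.comap_mono hle) ?_
      rw [← (Ideal.LiesOver.over (p := p) (P := q))]
      intro a ha
      show algebraMap S B (algebraMap P S a) ∈ Q'
      rw [← IsScalarTower.algebraMap_apply P S B, IsScalarTower.algebraMap_apply P (Localization.AtPrime p) B]
      refine hIQ (Ideal.mem_map_of_mem _ ?_)
      rw [IsLocalization.AtPrime.to_map_mem_maximal_iff _ p]; exact ha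
    have heq := Algebra.QuasiFinite.eq_of_le_of_under_eq (R := P) _ q hle hunder
    have hQ' : Q' = maximalIdeal B := by
      rw [← IsLocalization.map_under q.primeCompl B Q', ← IsLocalization.map_under q.primeCompl B (maximalIdeal B),
        IsLocalization.AtPrime.under_maximalIdeal B q]
      exact congrArg (Ideal.map (algebraMap S B)) heq
    haveI : Q'.IsMaximal := hQ' ▸ inferInstance
    have hs : Function.Surjective (Ideal.Quotient.mk I) := Ideal.Quotient.mk_surjective
    rw [← Ideal.map_comap_of_surjective _ hs Q]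
    refine (Ideal.map_eq_top_or_isMaximal_of_surjective _ hs ‹_›).resolve_left ?_
    rw [Ideal.map_comap_of_surjective _ hs]; exact hQ.ne_top
  exact Ring.krullDimLE_iff.mp inferInstance

theorem trdeg_residue_eq {k P S : Type u} [Field k] [CommRing P] [CommRing S] [Algebra k P] [Algebra k S] [Algebra P S]
    [IsScalarTower k P S] [Algebra.QuasiFinite P S] (p : Ideal P) [p.IsPrime] (q : Ideal S) [q.IsPrime] [q.LiesOver p] :
    Algebra.trdeg k p.ResidueField = Algebra.trdeg k q.ResidueField := by
  letI := Localization.AtPrime.algebraOfLiesOver p q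
  haveI : Module.Finite p.ResidueField q.ResidueField := inferInstance
  haveI : IsScalarTower k p.ResidueField q.ResidueField := IsScalarTower.of_algebraMap_eq fun a => by
    rw [IsScalarTower.algebraMap_apply k P p.ResidueField, ← IsScalarTower.algebraMap_apply P p.ResidueField,
      IsScalarTower.algebraMap_apply P S q.ResidueField, ← IsScalarTower.algebraMap_apply k P S,
      ← IsScalarTower.algebraMap_apply]
  haveI : FaithfulSMul p.ResidueField q.ResidueField :=
    (faithfulSMul_iff_algebraMap_injective _ _).mpr (algebraMap p.ResidueField q.ResidueField).injective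
  have := trdeg_add_eq k p.ResidueField (A := q.ResidueField)
  rw [trdeg_eq_zero (R := p.ResidueField), add_zero] at this
  exact this

theorem dim_quotient_nat {k S : Type u} [Field k] [CommRing S] [Algebra k S] [Algebra.FiniteType k S] (q : Ideal S)
    [q.IsPrime] : ∃ t : ℕ, ringKrullDim (S ⧸ q) = (t : WithBot ℕ∞) ∧ Algebra.trdeg k q.ResidueField = t := by
  haveI : Algebra.FiniteType k (S ⧸ q) := Algebra.FiniteType.trans (R := k) (S := S) inferInstance inferInstance
  obtain ⟨s, hs, hs'⟩ := H8Props.FieldDim.exists_dim_trdeg (k := k) (S ⧸ q)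
  refine ⟨s, hs, ?_⟩
  haveI : FaithfulSMul (S ⧸ q) q.ResidueField := (faithfulSMul_iff_algebraMap_injective _ _).mpr
    (IsFractionRing.injective (S ⧸ q) q.ResidueField)
  have h1 := trdeg_add_eq k (S ⧸ q) (A := q.ResidueField)
  haveI : Algebra.IsAlgebraic (S ⧸ q) q.ResidueField := IsLocalization.isAlgebraic q.ResidueField (nonZeroDivisors _)
  rw [trdeg_eq_zero (R := S ⧸ q), add_zero, hs'] at h1
  exact h1.symm

theorem localDim_mvPolynomial (k : Type u) [Field k] (d : ℕ) (p : PrimeSpectrum (MvPolynomial (Fin d) k)) :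
    FlatMor.localDim (PrimeSpectrum (MvPolynomial (Fin d) k)) p = (d : WithBot ℕ∞) := by
  have hd : ringKrullDim (MvPolynomial (Fin d) k) = (d : WithBot ℕ∞) := by
    rw [MvPolynomial.ringKrullDim_of_isNoetherianRing, ringKrullDim_eq_zero_of_field, zero_add]
    simp
  rw [H1CAlg.localDim_spec_eq_iSup (k := k)]
  refine le_antisymm (iSup_le fun q => (ringKrullDim_quotient_le _).trans hd.le) ?_
  refine le_iSup_of_le ⟨⟨⊥, Ideal.isPrime_bot⟩, fun x hx => by rw [(Ideal.mem_bot).mp hx]; exact zero_mem _⟩ ?_
  rw [ringKrullDim_eq_of_ringEquiv (RingEquiv.quotientBot _), hd]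

theorem main (k S : Type u) [Field k] [CommRing S] [Algebra k S] [Algebra.FiniteType k S] (d : ℕ)
    [Algebra (MvPolynomial (Fin d) k) S] [IsScalarTower k (MvPolynomial (Fin d) k) S]
    [Algebra.QuasiFinite (MvPolynomial (Fin d) k) S] (q : Ideal S) [q.IsPrime] :
    Module.Flat (MvPolynomial (Fin d) k) (Localization.AtPrime q) ↔
      (LocCoh.IsCohenMacaulayLocalRing (Localization.AtPrime q) ∧
        FlatMor.localDim (PrimeSpectrum S) ⟨q, inferInstance⟩ = (d : WithBot ℕ∞)) := by
  let P := MvPolynomial (Fin d) k
  let p : Ideal P := q.under P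
  haveI : q.LiesOver p := ⟨rfl⟩
  letI := Localization.AtPrime.algebraOfLiesOver p q
  let Pp := Localization.AtPrime p
  let B := Localization.AtPrime q
  haveI : IsScalarTower P Pp B := inferInstance
  haveI : IsLocalHom (algebraMap Pp B) := Localization.isLocalHom_localRingHom p q _ (Ideal.LiesOver.over (P := q) (p := p))
  haveI : IsNoetherianRing S := Algebra.FiniteType.isNoetherianRing k S
  haveI : IsNoetherianRing B := IsLocalization.isNoetherianRing q.primeCompl B inferInstance
  haveI : IsRegularLocalRing Pp := IsRegularRing.isRegularLocalRing_localization p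
  have hfib := fibre_dim_zero p q
  -- dimensions
  obtain ⟨t, ht, ht'⟩ := dim_quotient_nat (k := k) q
  obtain ⟨t', htp, htp'⟩ := dim_quotient_nat (k := k) p
  have htt : t = t' := by
    have := trdeg_residue_eq (k := k) p q
    rw [ht', htp'] at this
    exact_mod_cast this.symm
  subst htt
  have hdim : FlatMor.localDim (PrimeSpectrum S) ⟨q, inferInstance⟩ = ringKrullDim B + (t : WithBot ℕ∞) := by
    rw [H1CAlg.localDim_spec_eq_height_add (k := k), IsLocalization.AtPrime.ringKrullDim_eq_height q B, ht]
  have hdimP : ringKrullDim Pp + (t : WithBot ℕ∞) = (d : WithBot ℕ∞) := by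
    rw [IsLocalization.AtPrime.ringKrullDim_eq_height p Pp, ← htp]
    exact (H1CAlg.localDim_spec_eq_height_add (k := k) (⟨p, inferInstance⟩ : PrimeSpectrum P)).symm.trans
      (localDim_mvPolynomial k d _)
  rw [hdim, ← hdimP]
  constructor
  · intro hfl
    haveI : Module.Flat Pp B := by
      rw [Module.flat_iff_of_isLocalization Pp p.primeCompl B]
      exact hfl
    refine ⟨(H8Props.FlatDepth.isCohenMacaulayLocalRing_iff Pp B).mpr ⟨H4Depth.isCohenMacaulayLocalRing_of_regular Pp, ?_⟩, ?_⟩
    · haveI : Nontrivial (B ⧸ (maximalIdeal Pp).map (algebraMap Pp B)) :=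
        Ideal.Quotient.nontrivial_iff.mpr (H8Props.FlatDepth.map_maximalIdeal_ne_top Pp B)
      refine (H8Props.FlatDepth.isCM_iff_dim _).mpr (le_antisymm ?_ (H8Props.FlatDepth.depth_le_dim _))
      rw [hfib]
      exact WithBot.coe_le_coe.mpr zero_le
    · rw [H8Props.FlatDepth.ringKrullDim_eq_add Pp B, hfib, add_zero]
  · rintro ⟨hCM, h⟩
    haveI := hCM
    haveI : Module.Flat Pp B := H8Props.MiracleFlat.flat_of_regular_of_cohenMacaulay Pp B (by
      rw [hfib, add_zero, (ENat.WithBot.add_le_add_natCast_right_iff (c := t)).mp h.ge |> fun h' => le_antisymm h' ((ENat.WithBot.add_le_add_natCast_right_iff (c := t)).mp h.le)])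
    exact (Module.flat_iff_of_isLocalization Pp p.primeCompl B).mp ‹_›

end Groth.Agent.S9159

namespace Groth.Agent.S9159

/-- Fix a field k, a k-algebra S of finite type, and a quasi-finite map of k-algebras k[y_1, …, y_d] →
S. A prime q of S has S_q flat over k[y_1, …, y_d] exactly when S_q is Cohen–Macaulay and Spec S has
local dimension d at q. -/
theorem result (k S : Type u) [Field k] [CommRing S]
    [Algebra k S] [Algebra.FiniteType k S] (d : ℕ) [Algebra (MvPolynomial (Fin d) k) S]
    [IsScalarTower k (MvPolynomial (Fin d) k) S] [Algebra.QuasiFinite (MvPolynomial (Fin d) k) S]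
    (q : Ideal S) [q.IsPrime] :
    Module.Flat (MvPolynomial (Fin d) k) (Localization.AtPrime q) ↔
      (LocCoh.IsCohenMacaulayLocalRing (Localization.AtPrime q) ∧
        FlatMor.localDim (PrimeSpectrum S) ⟨q, inferInstance⟩ = (d : WithBot ℕ∞)) := by
  exact main k S d q

end Groth.Agent.S9159
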