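import Groth.Statements.S9161
import Mathlib.Tactic.LinearCombination
import Mathlib.Tactic.Module

set_option autoImplicit false
universe u
open CAlg

namespace Groth.Agent.S9161

/-- If two two-term complexes of R-modules A₁ → A₀ and B₁ → B₀ are homotopy equivalent (maps of
complexes both ways whose composites are homotopic to the identity maps), then A₁ ⊕ B₀ and B₁ ⊕ A₀
are isomorphic R-modules. -/
theorem result (R : Type u) [CommRing R]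
    (A₁ A₀ B₁ B₀ : Type u) [AddCommGroup A₁] [Module R A₁] [AddCommGroup A₀] [Module R A₀]
    [AddCommGroup B₁] [Module R B₁] [AddCommGroup B₀] [Module R B₀]
    (dA : A₁ →ₗ[R] A₀) (dB : B₁ →ₗ[R] B₀) (φ₁ : A₁ →ₗ[R] B₁) (φ₀ : A₀ →ₗ[R] B₀)
    (ψ₁ : B₁ →ₗ[R] A₁) (ψ₀ : B₀ →ₗ[R] A₀) (hφ : dB ∘ₗ φ₁ = φ₀ ∘ₗ dA) (hψ : dA ∘ₗ ψ₁ = ψ₀ ∘ₗ dB)
    (h : A₀ →ₗ[R] A₁) (hh₁ : LinearMap.id - ψ₁ ∘ₗ φ₁ = h ∘ₗ dA) (hh₀ : LinearMap.id - ψ₀ ∘ₗ φ₀ = dA ∘ₗ h)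
    (h' : B₀ →ₗ[R] B₁) (hh'₁ : LinearMap.id - φ₁ ∘ₗ ψ₁ = h' ∘ₗ dB)
    (hh'₀ : LinearMap.id - φ₀ ∘ₗ ψ₀ = dB ∘ₗ h') :
    Nonempty ((A₁ × B₀) ≃ₗ[R] (B₁ × A₀)) := by
  let E : B₀ →ₗ[R] A₁ := ψ₁ ∘ₗ h' - h ∘ₗ ψ₀
  let E' : A₀ →ₗ[R] B₁ := h' ∘ₗ φ₀ - φ₁ ∘ₗ h
  let F : (A₁ × B₀) →ₗ[R] (B₁ × A₀) :=
    (φ₁.coprod h').prod ((-dA).coprod ψ₀)
  let G : (B₁ × A₀) →ₗ[R] (A₁ × B₀) :=
    (ψ₁.coprod (-h)).prod (dB.coprod φ₀)
  have e1 := fun a => LinearMap.congr_fun hφ a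
  have e2 := fun a => LinearMap.congr_fun hψ a
  have e3 := fun a => LinearMap.congr_fun hh₁ a
  have e4 := fun a => LinearMap.congr_fun hh₀ a
  have e5 := fun a => LinearMap.congr_fun hh'₁ a
  have e6 := fun a => LinearMap.congr_fun hh'₀ a
  simp only [LinearMap.comp_apply, LinearMap.sub_apply, LinearMap.id_apply] at e1 e2 e3 e4 e5 e6
  have hGF : ∀ a b, G (F (a, b)) = (a + E b, b) := by
    intro a b
    ext
    · simp [G, F, E]; linear_combination (norm := module) -(e3 a)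
    · simp [G, F, E]; linear_combination (norm := module) e1 a - e6 b
  have hFG : ∀ b a, F (G (b, a)) = (b + E' a, a) := by
    intro b a
    ext
    · simp [G, F, E']; linear_combination (norm := module) -(e5 b)
    · simp [G, F, E']; linear_combination (norm := module) -(e2 b) - e4 a
  refine ⟨LinearEquiv.ofBijective F ⟨?_, ?_⟩⟩
  · intro x y hxy
    have := congr_arg G hxy
    rw [hGF x.1 x.2, hGF y.1 y.2] at this
    simp only [Prod.mk.injEq] at this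
    obtain ⟨h1, h2⟩ := this
    rw [h2] at h1
    exact Prod.ext (add_right_cancel h1) h2
  · intro y
    refine ⟨G (y.1 - E' y.2, y.2), ?_⟩
    rw [hFG]; simp

end Groth.Agent.S9161
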