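import Groth.Statements.S9162
import Groth.Agent.H02CA.ConormalSchanuel

set_option autoImplicit false
universe u
open CAlg

namespace Groth.Agent.S9162

/-- Let S be an R-algebra and α : R[x_1, …, x_n] → S, β : R[y_1, …, y_m] → S surjective R-algebra maps
(presentations by polynomial rings in finitely many variables; the kernels I and J need not be
finitely generated). Then I/I² ⊕ S^m and J/J² ⊕ S^n are isomorphic S-modules. -/
theorem result (R S : Type u) [CommRing R] [CommRing S]
    [Algebra R S] (n m : ℕ) (α : MvPolynomial (Fin n) R →ₐ[R] S) (hα : Function.Surjective α)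
    (β : MvPolynomial (Fin m) R →ₐ[R] S) (hβ : Function.Surjective β) :
    Nonempty (((Algebra.Extension.ofSurjective α hα).Cotangent × (Fin m → S)) ≃ₗ[S]
      ((Algebra.Extension.ofSurjective β hβ).Cotangent × (Fin n → S))) := by
  haveI : IsLocalization (IsUnit.submonoid S) S := IsLocalization.of_le_isUnit le_rfl
  obtain ⟨e⟩ := Groth.Agent.H02CA.ConormalSchanuel.main (T := S) (IsUnit.submonoid S)
    (fun s hs => hs) (IsUnit.submonoid S) (fun s hs => hs) n m α hα β hβ
  exact ⟨((TensorProduct.lid S _).symm.prodCongr (LinearEquiv.refl S _)).trans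
    (e.trans ((TensorProduct.lid S _).prodCongr (LinearEquiv.refl S _)))⟩

end Groth.Agent.S9162
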