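import Groth.Statements.S9163
import Mathlib.RingTheory.IntegralClosure.Algebra.Basic
import Mathlib.RingTheory.Adjoin.FG
import Mathlib.Algebra.Polynomial.Lifts

set_option autoImplicit false
universe u
open CAlg

namespace Groth.Agent.S9163

/-- If S is integral over R, then any finitely many elements of R and of S lie in a pair R₀ ⊆ R, S₀ ⊆ S
with R₀ a finite type ℤ-subalgebra, S₀ an R₀-subalgebra of S, and S₀ finite as an R₀-module; so R →
S is the directed colimit of finite maps between finite type ℤ-algebras. -/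
theorem result (R S : Type u) [CommRing R] [CommRing S] [Algebra R S]
    [Algebra.IsIntegral R S] (E : Finset R) (F : Finset S) :
    ∃ (R₀ : Subalgebra ℤ R) (S₀ : Subalgebra R₀ S), Algebra.FiniteType ℤ R₀ ∧ (E : Set R) ⊆ R₀ ∧
      (F : Set S) ⊆ S₀ ∧ Module.Finite R₀ S₀ := by
  classical
  choose q hqm hq using fun f : S => Algebra.IsIntegral.isIntegral (R := R) f
  let E' : Finset R := E ∪ F.biUnion fun f => (q f).coeffs
  let R₀ := Algebra.adjoin ℤ (E' : Set R)
  let S₀ := Algebra.adjoin R₀ (F : Set S)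
  refine ⟨R₀, S₀, (Subalgebra.fg_iff_finiteType _).mp ⟨_, rfl⟩,
    fun x hx => Algebra.subset_adjoin (Finset.mem_union_left _ hx), Algebra.subset_adjoin, ?_⟩
  have hint : ∀ f ∈ F, IsIntegral R₀ f := by
    intro f hf
    have hl : q f ∈ Polynomial.lifts (algebraMap R₀ R) := by
      rw [Polynomial.lifts_iff_coeff_lifts]
      intro n
      by_cases h0 : (q f).coeff n = 0
      · exact ⟨0, by rw [map_zero, h0]⟩
      · exact ⟨⟨_, Algebra.subset_adjoin (Finset.mem_union_right _
          (Finset.mem_biUnion.mpr ⟨f, hf, Polynomial.coeff_mem_coeffs h0⟩))⟩, rfl⟩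
    obtain ⟨p, hp, -, hpm⟩ := Polynomial.lifts_and_natDegree_eq_and_monic hl (hqm f)
    refine ⟨p, hpm, ?_⟩
    rw [IsScalarTower.algebraMap_eq R₀ R S, ← Polynomial.eval₂_map, hp]
    exact hq f
  exact Module.Finite.iff_fg.mpr (fg_adjoin_of_finite (F.finite_toSet) hint)

end Groth.Agent.S9163
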