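import Groth.Statements.S9164
import Groth.Agent.H02CA.DimOne
import Mathlib.RingTheory.Nakayama
import Mathlib.RingTheory.FiniteLength
import Mathlib.RingTheory.Localization.Module
import Mathlib.Algebra.Module.Lattice
import Mathlib.RingTheory.Finiteness.Cofinite
import Mathlib.RingTheory.KrullDimension.Field
import Mathlib.LinearAlgebra.Dimension.Finite
import Mathlib.LinearAlgebra.FreeModule.Finite.Basic

set_option autoImplicit false
universe u
open CAlg

namespace Groth.Agent.S9164

/-- Let R be a one-dimensional Noetherian local domain with fraction field K and V a finite-dimensional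
K-vector space; a lattice is a finitely generated R-submodule of V spanning V over K. (1) For a
lattice M and an R-submodule M' ⊇ M: M' is a lattice iff M'/M has finite length over R iff M' is
finitely generated. (2) For a lattice M and M' ⊆ M: M' is a lattice iff M/M' has finite length. (3)
The intersection of two lattices is a lattice. (The published statement also asserts that the sum M
+ M' of two lattices is a lattice and two identities between lengths of quotients of nested
lattices; this row states (1), (2) and the intersection half of (3).) -/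
theorem result (R K V : Type u) [CommRing R] [IsDomain R]
    [IsNoetherianRing R] [IsLocalRing R] (hdim : ringKrullDim R = 1) [Field K] [Algebra R K]
    [IsFractionRing R K] [AddCommGroup V] [Module K V] [Module R V] [IsScalarTower R K V]
    [FiniteDimensional K V] (M : Submodule R V) [Submodule.IsLattice K M] :
    (∀ M' : Submodule R V, M ≤ M' →
        (Submodule.IsLattice K M' ↔ Module.length R (M' ⧸ Submodule.comap M'.subtype M) ≠ ⊤) ∧
          (Submodule.IsLattice K M' ↔ M'.FG)) ∧
      (∀ M' : Submodule R V, M' ≤ M →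
        (Submodule.IsLattice K M' ↔ Module.length R (M ⧸ Submodule.comap M.subtype M') ≠ ⊤)) ∧
      ∀ M' : Submodule R V, Submodule.IsLattice K M' → Submodule.IsLattice K (M ⊓ M') := by
  classical
  haveI : Ring.KrullDimLE 1 R := Ring.krullDimLE_iff.mpr (le_of_eq hdim)
  have hinj := IsFractionRing.injective R K
  -- scaling into a lattice
  have hsc : ∀ (N : Submodule R V), Submodule.IsLattice K N → ∀ v : V, ∃ c : R, c ≠ 0 ∧ c • v ∈ N := by
    intro N hN v
    have hv : v ∈ Submodule.span K (N : Set V) := by rw [Submodule.IsLattice.span_eq_top]; trivial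
    induction hv using Submodule.span_induction with
    | mem z hz => exact ⟨1, one_ne_zero, by rw [one_smul]; exact hz⟩
    | zero => exact ⟨1, one_ne_zero, by rw [smul_zero]; exact N.zero_mem⟩
    | add y z _ _ h1 h2 =>
      obtain ⟨a, ha, ha'⟩ := h1; obtain ⟨b, hb, hb'⟩ := h2
      refine ⟨a * b, mul_ne_zero ha hb, ?_⟩
      rw [smul_add]
      exact N.add_mem (by rw [mul_comm, mul_smul]; exact N.smul_mem b ha') (by rw [mul_smul]; exact N.smul_mem a hb')
    | smul k z _ h1 =>
      obtain ⟨a, ha, ha'⟩ := h1
      obtain ⟨⟨r, d⟩, hrd⟩ := IsLocalization.surj (nonZeroDivisors R) k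
      refine ⟨(d : R) * a, mul_ne_zero (nonZeroDivisors.ne_zero d.2) ha, ?_⟩
      have : ((d : R) * a) • (k • z) = r • (a • z) := by
        rw [mul_smul, smul_comm a k z, ← algebraMap_smul K (d : R), smul_smul, mul_comm, hrd, algebraMap_smul]
      rw [this]
      exact N.smul_mem r ha'
  have hscfg : ∀ (N : Submodule R V), Submodule.IsLattice K N → ∀ N' : Submodule R V, N'.FG →
      ∃ c : R, c ≠ 0 ∧ ∀ v ∈ N', c • v ∈ N := by
    rintro N hN N' ⟨T, rfl⟩
    choose c hc hcN using hsc N hN
    refine ⟨∏ t ∈ T, c t, Finset.prod_ne_zero_iff.mpr fun t _ => hc t, ?_⟩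
    suffices Submodule.span R (T : Set V) ≤ N.comap ((∏ t ∈ T, c t) • LinearMap.id) from fun v hv => this hv
    refine Submodule.span_le.mpr fun t ht => ?_
    show (∏ s ∈ T, c s) • t ∈ N
    rw [← Finset.mul_prod_erase T c ht, mul_comm, mul_smul]
    exact N.smul_mem _ (hcN t)
  -- finiteness of length
  have hfin : ∀ (N N' : Submodule R V), (∃ c : R, c ≠ 0 ∧ ∀ v ∈ N', c • v ∈ N) →
      Module.length R (N' ⧸ Submodule.comap N'.subtype N) ≠ ⊤ := by
    rintro N N' ⟨c, hc, hcN⟩
    let b := Module.finBasis K V
    let ι : N' →ₗ[R] (Fin (Module.finrank K V) → K) := (b.equivFun.toLinearMap.restrictScalars R) ∘ₗ N'.subtype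
    let e : N' ≃ₗ[R] LinearMap.range ι := LinearEquiv.ofInjective ι (b.equivFun.injective.comp N'.subtype_injective)
    have h1 : Module.length R (N' ⧸ (Ideal.span {c} • ⊤ : Submodule R N')) ≠ ⊤ := by
      rw [(Submodule.Quotient.equiv _ (Ideal.span {c} • ⊤ : Submodule R (LinearMap.range ι)) e (by
        show Submodule.map (e : N' →ₗ[R] LinearMap.range ι) _ = _
        rw [Submodule.map_smul'', Submodule.map_top, LinearEquiv.range])).length_eq]
      refine ne_top_of_le_ne_top ?_ (H02CA.length_quotient_le K _ _ hc)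
      exact WithTop.mul_ne_top (ENat.natCast_ne_top _) (Ring.ord_ne_top (mem_nonZeroDivisors_of_ne_zero hc))
    have hle : (Ideal.span {c} • ⊤ : Submodule R N') ≤ Submodule.comap N'.subtype N := by
      rw [Submodule.ideal_span_singleton_smul]
      rintro _ ⟨v, -, rfl⟩
      exact hcN v v.2
    exact ne_top_of_le_ne_top h1 (Module.length_le_of_surjective _ (Submodule.factor_surjective hle))
  haveI hMN : IsNoetherian R M := isNoetherian_of_fg_of_noetherian M Submodule.IsLattice.fg
  -- finite length quotients are killed by a nonzero element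
  have hkill : ∀ N : Submodule R V, Module.length R (M ⧸ Submodule.comap M.subtype N) ≠ ⊤ →
      ∃ c : R, c ≠ 0 ∧ ∀ v ∈ M, c • v ∈ N := by
    intro N hN
    have hm : IsLocalRing.maximalIdeal R ≠ ⊥ := fun h => by
      letI := (IsLocalRing.isField_iff_maximalIdeal_eq.mpr h).toField
      rw [ringKrullDim_eq_zero_of_field R] at hdim
      simp at hdim
    obtain ⟨x, hxm, hx⟩ := Submodule.exists_mem_ne_zero_of_ne_bot hm
    obtain ⟨hQN, hQA⟩ := isFiniteLength_iff_isNoetherian_isArtinian.mp (Module.length_ne_top_iff.mp hN)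
    obtain ⟨k, hk⟩ := IsArtinian.monotone_stabilizes (R := R) (M := M ⧸ Submodule.comap M.subtype N)
      ⟨fun n => OrderDual.toDual (Ideal.span {x ^ n} • ⊤ : Submodule R (M ⧸ Submodule.comap M.subtype N)), fun a b hab =>
        Submodule.smul_mono_left ((Ideal.span_singleton_le_span_singleton).mpr (pow_dvd_pow x hab))⟩
    have hk' : (Ideal.span {x ^ k} • ⊤ : Submodule R (M ⧸ Submodule.comap M.subtype N)) = Ideal.span {x ^ (k + 1)} • ⊤ :=
      hk (k + 1) (Nat.le_succ k)
    have hbot : (Ideal.span {x ^ k} • ⊤ : Submodule R (M ⧸ Submodule.comap M.subtype N)) = ⊥ := by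
      refine Submodule.eq_bot_of_le_smul_of_le_jacobson_bot (Ideal.span {x}) _ (IsNoetherian.noetherian _) ?_ ?_
      · conv_lhs => rw [hk']
        rw [← Submodule.mul_smul, Ideal.span_singleton_mul_span_singleton, ← pow_succ']
      · rw [IsLocalRing.jacobson_eq_maximalIdeal ⊥ bot_ne_top, Ideal.span_singleton_le_iff_mem]
        exact hxm
    refine ⟨x ^ k, pow_ne_zero k hx, fun v hv => ?_⟩
    have h1 : x ^ k • Submodule.Quotient.mk (p := Submodule.comap M.subtype N) (⟨v, hv⟩ : M) ∈
        (Ideal.span {x ^ k} • ⊤ : Submodule R (M ⧸ Submodule.comap M.subtype N)) :=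
      Submodule.smul_mem_smul (Ideal.mem_span_singleton_self _) trivial
    rw [hbot, Submodule.mem_bot, ← Submodule.Quotient.mk_smul, Submodule.Quotient.mk_eq_zero] at h1
    exact h1
  have hspan : ∀ N : Submodule R V, N.FG → (∃ c : R, c ≠ 0 ∧ ∀ v ∈ M, c • v ∈ N) → Submodule.IsLattice K N := by
    rintro N hN ⟨c, hc, hcN⟩
    refine ⟨hN, eq_top_iff.mpr ?_⟩
    rw [← Submodule.IsLattice.span_eq_top (A := K) (M := M), Submodule.span_le]
    intro v hv
    have h1 := Submodule.smul_mem (Submodule.span K (N : Set V)) (algebraMap R K c)⁻¹ (Submodule.subset_span (hcN v hv))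
    rwa [← algebraMap_smul K c v, smul_smul, inv_mul_cancel₀ ((map_ne_zero_iff _ hinj).mpr hc), one_smul] at h1
  have hfgle : ∀ N : Submodule R V, N ≤ M → N.FG := fun N hle => by
    haveI := isNoetherian_of_le hle
    exact Module.Finite.iff_fg.mp (Module.IsNoetherian.finite R N)
  refine ⟨fun M' hle => ?_, fun M' hle => ?_, fun M' hM' => ?_⟩
  · have hfg : M'.FG → Module.length R (M' ⧸ Submodule.comap M'.subtype M) ≠ ⊤ := fun h =>
      hfin M M' (hscfg M inferInstance M' h)
    have hlat : M'.FG → Submodule.IsLattice K M' := fun h => Submodule.IsLattice.of_le_of_isLattice_of_fg K hle h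
    refine ⟨⟨fun h => hfg h.fg, fun h => hlat ?_⟩, fun h => h.fg, hlat⟩
    obtain ⟨hQN, -⟩ := isFiniteLength_iff_isNoetherian_isArtinian.mp (Module.length_ne_top_iff.mp h)
    haveI : Module.Finite R (M' ⧸ Submodule.comap M'.subtype M) := Module.IsNoetherian.finite R _
    haveI : Module.Finite R (Submodule.comap M'.subtype M) :=
      Module.Finite.equiv (Submodule.comapSubtypeEquivOfLe hle).symm
    exact Module.Finite.iff_fg.mp (Module.Finite.of_submodule_quotient (Submodule.comap M'.subtype M))
  · exact ⟨fun h => hfin M' M (hscfg M' h M Submodule.IsLattice.fg),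
      fun h => hspan M' (hfgle M' hle) (hkill M' h)⟩
  · obtain ⟨c, hc, hcN⟩ := hscfg M' hM' M Submodule.IsLattice.fg
    exact hspan (M ⊓ M') (hfgle _ inf_le_left) ⟨c, hc, fun v hv => ⟨M.smul_mem c hv, hcN v hv⟩⟩

end Groth.Agent.S9164
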