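import Groth.Statements.S9165
import Groth.Agent.H02CA.FibreLocalDim
import Groth.Agent.H8Props.FlatFibreConst
import Groth.Agent.H8Props.CMAt
import Groth.Agent.H1CAlg.LocalDim
import Mathlib.RingTheory.Idempotents

set_option autoImplicit false
universe u
open CAlg

namespace Groth.Agent.S9165

section
open AlgebraicGeometry CategoryTheory CategoryTheory.Limits TopologicalSpace
open Groth.Agent.H8Props Groth.Agent.H8Props.FieldDim
open scoped TensorProduct

theorem fibreDimAt_comap {R A : Type u} [CommRing R] [CommRing A] [Algebra R A]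
    [Algebra.FiniteType R A] (p : PrimeSpectrum R) (Q : PrimeSpectrum (p.asIdeal.Fiber A)) :
    FlatMor.fibreDimAt (Spec.map (CommRingCat.ofHom (algebraMap R A)))
        (PrimeSpectrum.comap (Algebra.TensorProduct.includeRight : A →ₐ[R] p.asIdeal.Fiber A).toRingHom Q) =
      FlatMor.localDim (PrimeSpectrum (p.asIdeal.Fiber A)) Q := by
  obtain ⟨q, hQ⟩ : ∃ q : PrimeSpectrum A,
      PrimeSpectrum.comap (Algebra.TensorProduct.includeRight : A →ₐ[R] p.asIdeal.Fiber A).toRingHom Q = q := ⟨_, rfl⟩
  have hp : q.asIdeal.under R = p.asIdeal := by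
    rw [← hQ]
    haveI : (Q.asIdeal.comap (algebraMap p.asIdeal.ResidueField (p.asIdeal.Fiber A))).IsPrime := Ideal.IsPrime.comap _
    show (Q.asIdeal.comap (Algebra.TensorProduct.includeRight : A →ₐ[R] p.asIdeal.Fiber A).toRingHom).comap
      (algebraMap R A) = _
    rw [Ideal.comap_comap, show (Algebra.TensorProduct.includeRight : A →ₐ[R] p.asIdeal.Fiber A).toRingHom.comp
      (algebraMap R A) = (algebraMap p.asIdeal.ResidueField (p.asIdeal.Fiber A)).comp
        (algebraMap R p.asIdeal.ResidueField) from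
      ((Algebra.TensorProduct.includeRight : A →ₐ[R] p.asIdeal.Fiber A).comp_algebraMap).trans
        (IsScalarTower.algebraMap_eq R p.asIdeal.ResidueField (p.asIdeal.Fiber A)),
      ← Ideal.comap_comap, Ideal.eq_bot_of_prime (Q.asIdeal.comap _), ← RingHom.ker_eq_comap_bot,
      Ideal.ker_algebraMap_residueField]
  obtain ⟨pI, hpI⟩ := p
  obtain rfl : q.asIdeal.under R = pI := hp
  rw [hQ]
  exact Groth.Agent.H02CA.fibreDimAt_eq_localDim_fiber q Q (congrArg PrimeSpectrum.asIdeal hQ)

theorem exists_locallyConstant (R S : Type u) [CommRing R]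
    [CommRing S] [Algebra R S] [Module.Flat R S] [Algebra.FinitePresentation R S]
    (hCM : ∀ p : PrimeSpectrum R, LocCoh.IsCohenMacaulayRing (p.asIdeal.Fiber S)) :
    ∃ d : PrimeSpectrum S → ℕ, IsLocallyConstant d ∧
      ∀ q, FlatMor.fibreDimAt (Spec.map (CommRingCat.ofHom (algebraMap R S))) q = (d q : WithBot ℕ∞) := by
  set φ := Spec.map (CommRingCat.ofHom (algebraMap R S))
  haveI : LocallyOfFinitePresentation φ := (HasRingHomProperty.Spec_iff (P := @LocallyOfFinitePresentation)).mpr
    (RingHom.finitePresentation_algebraMap.mpr inferInstance)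
  haveI : LocallyOfFiniteType φ := (HasRingHomProperty.Spec_iff (P := @LocallyOfFiniteType)).mpr
    (RingHom.finiteType_algebraMap.mpr inferInstance)
  haveI : Flat φ := (HasRingHomProperty.Spec_iff (P := @Flat)).mpr
    (RingHom.flat_algebraMap_iff.mpr inferInstance)
  have hnat : ∀ q : Spec (CommRingCat.of S), ∃ n : ℕ, FlatMor.fibreDimAt φ q = (n : WithBot ℕ∞) := fun q => by
    haveI := locallyOfFiniteType_fiberToSpec φ (φ q)
    exact exists_nat_localDim (k := (Spec (CommRingCat.of R)).residueField (φ q))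
      (φ.fiberToSpecResidueField (φ q)) (φ.asFiber q)
  choose d hd using hnat
  refine ⟨d, (IsLocallyConstant.iff_eventually_eq _).2 fun q => ?_, hd⟩
  have hcm : LocCoh.IsCohenMacaulayLocalRing ((φ.fiber (φ q)).presheaf.stalk (φ.asFiber q)) := by
    let p : PrimeSpectrum R := φ q
    let e : φ.fiber (φ q) ≅ Spec (CommRingCat.of (p.asIdeal.Fiber S)) :=
      Arrow.leftFunc.mapIso (Spec.fiberToSpecResidueFieldIso R S p)
    let u : PrimeSpectrum (p.asIdeal.Fiber S) := e.hom (φ.asFiber q)
    haveI : LocCoh.IsCohenMacaulayLocalRing (Localization.AtPrime u.asIdeal) :=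
      (hCM p).isCohenMacaulayLocalRing_localization u.asIdeal
    haveI : LocCoh.IsCohenMacaulayLocalRing
        ((Spec (CommRingCat.of (p.asIdeal.Fiber S))).presheaf.stalk (e.hom (φ.asFiber q))) :=
      CMAt.isCohenMacaulayLocalRing_of_ringEquiv
        (Spec.stalkIso (CommRingCat.of (p.asIdeal.Fiber S)) u).commRingCatIsoToRingEquiv.symm
    exact CMAt.isCohenMacaulayLocalRing_of_ringEquiv
      ((asIso (e.hom.stalkMap (φ.asFiber q))).commRingCatIsoToRingEquiv)
  filter_upwards [eventually_fibreDimAt_eq φ q hcm] with q' hq'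
  have h' : (d q' : WithBot ℕ∞) = d q := (hd q').symm.trans (Eq.trans hq' (hd q))
  exact_mod_cast h'

theorem exists_idempotents {S : Type u} [CommRing S] {N : ℕ} (d : PrimeSpectrum S → ℕ)
    (hd : IsLocallyConstant d) (hN : ∀ q, d q ≤ N) :
    ∃ e : Fin (N + 1) → S, CompleteOrthogonalIdempotents e ∧
      ∀ i (q : PrimeSpectrum S), e i ∉ q.asIdeal ↔ d q = (i : ℕ) := by
  have h : ∀ i : Fin (N + 1), ∃ e : S, IsIdempotentElem e ∧
      {q | d q = (i : ℕ)} = (PrimeSpectrum.basicOpen e : Set (PrimeSpectrum S)) := fun i =>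
    PrimeSpectrum.isClopen_iff.1 (hd.isClopen_fiber _)
  choose e he heq using h
  have hmem : ∀ i (q : PrimeSpectrum S), e i ∉ q.asIdeal ↔ d q = (i : ℕ) := fun i q =>
    (Set.ext_iff.1 (heq i) q).symm
  have hzero : ∀ x : S, IsIdempotentElem x → (∀ q : PrimeSpectrum S, x ∈ q.asIdeal) → x = 0 := by
    intro x hx hall
    have : IsNilpotent x := nilpotent_iff_mem_prime.2 fun J hJ => hall ⟨J, hJ⟩
    exact hx.eq_zero_of_isNilpotent this
  have hortho : Pairwise fun i j => e i * e j = 0 := fun i j hij =>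
    hzero _ ((he i).mul (he j)) fun q => by
      by_contra h
      have h1 := (hmem i q).1 fun h' => h (q.asIdeal.mul_mem_right _ h')
      have h2 := (hmem j q).1 fun h' => h (q.asIdeal.mul_mem_left _ h')
      exact hij (Fin.ext (h1.symm.trans h2))
  have ho : OrthogonalIdempotents e := ⟨he, hortho⟩
  refine ⟨e, ⟨ho, ?_⟩, hmem⟩
  have hs : IsIdempotentElem (∑ i, e i) := ho.isIdempotentElem_sum
  refine (sub_eq_zero.1 (hzero _ hs.one_sub fun q => ?_)).symm
  by_contra h
  obtain ⟨i, hi⟩ : ∃ i : Fin (N + 1), (i : ℕ) = d q := ⟨⟨d q, Nat.lt_succ_of_le (hN q)⟩, rfl⟩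
  refine (hmem i q).2 hi.symm ?_
  refine (q.isPrime.mem_or_mem_of_mul_eq_zero (?_ : e i * (1 - ∑ j, e j) = 0)).resolve_right h
  rw [mul_sub, mul_one, ho.mul_sum_of_mem (Finset.mem_univ i), sub_self]

theorem isCohenMacaulayRing_of_away {A B : Type u} [CommRing A] [CommRing B] [Algebra A B] (x : A)
    [IsLocalization.Away x B] [LocCoh.IsCohenMacaulayRing A] : LocCoh.IsCohenMacaulayRing B := by
  haveI : IsNoetherianRing B := IsLocalization.isNoetherianRing (Submonoid.powers x) B inferInstance
  refine { isCohenMacaulayLocalRing_localization := fun P _ => ?_ }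
  haveI : IsLocalization.AtPrime (Localization.AtPrime P) (P.comap (algebraMap A B)) :=
    IsLocalization.isLocalization_isLocalization_atPrime_isLocalization (Submonoid.powers x)
      (Localization.AtPrime P) P
  haveI := LocCoh.IsCohenMacaulayRing.isCohenMacaulayLocalRing_localization (R := A) (P.comap (algebraMap A B))
  exact CMAt.isCohenMacaulayLocalRing_of_ringEquiv
    (IsLocalization.algEquiv (P.comap (algebraMap A B)).primeCompl
      (Localization.AtPrime (P.comap (algebraMap A B))) (Localization.AtPrime P)).toRingEquiv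

end


/-- A flat, finitely presented ring map R → S whose fibre rings κ(p) ⊗ S are Cohen–Macaulay decomposes S
as a finite product of R-algebras S_d (d = 0, …, N), each again flat, finitely presented with
Cohen–Macaulay fibres, and with every irreducible component of every fibre of S_d of dimension d. -/
theorem result (R S : Type u) [CommRing R]
    [CommRing S] [Algebra R S] [Module.Flat R S] [Algebra.FinitePresentation R S]
    (hCM : ∀ p : PrimeSpectrum R, LocCoh.IsCohenMacaulayRing (p.asIdeal.Fiber S)) :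
    ∃ (N : ℕ) (T : Fin (N + 1) → Type u) (_ : ∀ d, CommRing (T d)) (_ : ∀ d, Algebra R (T d)),
      Nonempty (S ≃ₐ[R] ((d : Fin (N + 1)) → T d)) ∧
        ∀ d : Fin (N + 1), Module.Flat R (T d) ∧ Algebra.FinitePresentation R (T d) ∧
          (∀ p : PrimeSpectrum R, LocCoh.IsCohenMacaulayRing (p.asIdeal.Fiber (T d))) ∧
          ∀ (p : PrimeSpectrum R), ∀ P ∈ minimalPrimes (p.asIdeal.Fiber (T d)),
            ringKrullDim (p.asIdeal.Fiber (T d) ⧸ P) = ((d : ℕ) : WithBot ℕ∞) := by
  classical
  open Groth.Agent.H8Props in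
  obtain ⟨d, hd, hdim⟩ := exists_locallyConstant R S hCM
  obtain ⟨N, hN⟩ := hd.range_finite.bddAbove
  obtain ⟨e, he, hmem⟩ := exists_idempotents d hd (fun q => hN ⟨q, rfl⟩)
  let T : Fin (N + 1) → Type u := fun i => S ⧸ Ideal.span {1 - e i}
  let E : S ≃ₐ[R] ((i : Fin (N + 1)) → T i) :=
    AlgEquiv.ofBijective (Pi.algHom R T fun i => Ideal.Quotient.mkₐ R (Ideal.span {1 - e i})) he.bijective_pi
  refine ⟨N, T, fun i => inferInstance, fun i => inferInstance, ⟨E⟩, fun i => ?_⟩
  haveI hloc : IsLocalization.Away (e i) (T i) :=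
    IsLocalization.away_of_isIdempotentElem (he.idem i) Ideal.mk_ker Ideal.Quotient.mk_surjective
  haveI : Module.Flat S (T i) := IsLocalization.flat (T i) (Submonoid.powers (e i))
  refine ⟨Module.Flat.trans R S (T i), Algebra.FinitePresentation.quotient ⟨{1 - e i}, by simp⟩, ?_⟩
  have main : ∀ p : PrimeSpectrum R,
      LocCoh.IsCohenMacaulayRing (p.asIdeal.Fiber (T i)) ∧
      ∀ P ∈ minimalPrimes (p.asIdeal.Fiber (T i)),
        ringKrullDim (p.asIdeal.Fiber (T i) ⧸ P) = ((i : ℕ) : WithBot ℕ∞) := by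
    intro p
    haveI := hCM p
    let A := p.asIdeal.Fiber S
    let π : S →ₐ[R] T i := Ideal.Quotient.mkₐ R _
    let π' : A →ₐ[p.asIdeal.ResidueField] p.asIdeal.Fiber (T i) :=
      Algebra.TensorProduct.map (AlgHom.id p.asIdeal.ResidueField p.asIdeal.ResidueField) π
    let ε : A := Algebra.TensorProduct.includeRight (e i)
    have hε : IsIdempotentElem ε := (he.idem i).map (Algebra.TensorProduct.includeRight : S →ₐ[R] A)
    have hs : Function.Surjective π' :=
      LinearMap.lTensor_surjective p.asIdeal.ResidueField (g := π.toLinearMap) Ideal.Quotient.mk_surjective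
    have hk : RingHom.ker π'.toRingHom = Ideal.span {1 - ε} := by
      refine (Algebra.TensorProduct.lTensor_ker (A := p.asIdeal.ResidueField) π Ideal.Quotient.mk_surjective).trans ?_
      rw [show RingHom.ker π = Ideal.span {1 - e i} from Ideal.mk_ker, Ideal.map_span, Set.image_singleton,
        map_sub, map_one]
    letI : Algebra A (p.asIdeal.Fiber (T i)) := π'.toRingHom.toAlgebra
    haveI : IsLocalization.Away ε (p.asIdeal.Fiber (T i)) :=
      IsLocalization.away_of_isIdempotentElem hε hk hs
    refine ⟨isCohenMacaulayRing_of_away ε, fun P hP => ?_⟩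
    haveI := hP.1.1
    let P' : Ideal A := P.comap π'.toRingHom
    have hεP : ε ∉ P' := by
      intro h
      refine hP.1.1.ne_top ((Ideal.eq_top_iff_one _).2 ?_)
      have h1 : π'.toRingHom (1 - ε) = 0 := RingHom.mem_ker.1 (hk.ge (Ideal.mem_span_singleton_self _))
      rw [map_sub, map_one, sub_eq_zero] at h1
      rw [h1]
      exact h
    have hP' : P' ∈ minimalPrimes A := by
      refine ⟨⟨Ideal.IsPrime.comap _, bot_le⟩, fun Q hQ hQP => ?_⟩
      haveI := hQ.1
      have hQk : RingHom.ker π'.toRingHom ≤ Q := by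
        rw [hk, Ideal.span_singleton_le_iff_mem]
        exact (hQ.1.mem_or_mem_of_mul_eq_zero hε.mul_one_sub_self).resolve_left fun h => hεP (hQP h)
      have h1 : (Q.map π'.toRingHom).comap π'.toRingHom = Q := by
        rw [Ideal.comap_map_of_surjective π'.toRingHom hs]
        exact sup_eq_left.2 hQk
      rw [← h1]
      exact Ideal.comap_mono (hP.2 ⟨Ideal.map_isPrime_of_surjective hs hQk, bot_le⟩
        ((Ideal.map_mono hQP).trans Ideal.map_comap_le))
    haveI : P'.IsPrime := hP'.1.1
    let q : PrimeSpectrum S := PrimeSpectrum.comap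
      (Algebra.TensorProduct.includeRight : S →ₐ[R] A).toRingHom ⟨P', inferInstance⟩
    have hdq : d q = (i : ℕ) := (hmem i q).1 hεP
    have h2 := (fibreDimAt_comap p (⟨P', inferInstance⟩ : PrimeSpectrum A)).symm.trans (hdim q)
    haveI : Algebra.FiniteType p.asIdeal.ResidueField A := inferInstance
    rw [Groth.Agent.H1CAlg.localDim_spec_eq_height_add (k := p.asIdeal.ResidueField)] at h2
    rw [show P'.height = 0 from Ideal.height_eq_zero_iff.2 hP', hdq] at h2
    simp only [WithBot.coe_zero, zero_add] at h2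
    refine Eq.trans ?_ h2
    let g : A →+* p.asIdeal.Fiber (T i) ⧸ P := (Ideal.Quotient.mk P).comp π'.toRingHom
    have hg : P' = RingHom.ker g := by
      rw [← RingHom.comap_ker, Ideal.mk_ker]
    exact (ringKrullDim_eq_of_ringEquiv ((Ideal.quotEquivOfEq hg).trans
      (RingHom.quotientKerEquivOfSurjective (f := g) (Ideal.Quotient.mk_surjective.comp hs)))).symm
  exact ⟨fun p => (main p).1, fun p => (main p).2⟩

end Groth.Agent.S9165
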