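import Groth.Statements.S9166
import Mathlib.RingTheory.Flat.EquationalCriterion
import Mathlib.RingTheory.FinitePresentation
import Mathlib.RingTheory.Localization.AtPrime.Basic
import Mathlib.RingTheory.Nakayama
import Mathlib.Algebra.Module.LocalizedModule.Basic
import Mathlib.RingTheory.Localization.Away.Basic

set_option autoImplicit false
universe u
open CAlg

namespace Groth.Agent.S9166

/-- Let I be an ideal of a ring R, S → S' a surjective homomorphism of R-algebras with S of finite type
and S' of finite presentation over R, and q a prime of S containing IS. Assume S'_q is flat over R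
and that S_q/IS_q → S'_q/IS'_q is an isomorphism, which for a surjection says: every element of the
kernel of S → S' maps into I·S_q. Then for some g ∉ q the localized map S_g → S'_g is bijective. -/
theorem result (R S S' : Type u) [CommRing R] [CommRing S]
    [CommRing S'] [Algebra R S] [Algebra R S'] [Algebra.FiniteType R S] [Algebra.FinitePresentation R S']
    (I : Ideal R) (f : S →ₐ[R] S') (hf : Function.Surjective f) (q : Ideal S) [q.IsPrime]
    (hq : I.map (algebraMap R S) ≤ q)
    (hker : ∀ j : S, f j = 0 →
      algebraMap S (Localization.AtPrime q) j ∈ I.map (algebraMap R (Localization.AtPrime q)))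
    (hflat : letI : Module S S' := f.toRingHom.toModule
      Module.Flat R (LocalizedModule q.primeCompl S')) :
    ∃ g : S, g ∉ q ∧ Function.Bijective (Localization.awayMap f.toRingHom g) := by
  classical
  letI : Algebra S S' := f.toRingHom.toAlgebra
  haveI : IsScalarTower R S S' := IsScalarTower.of_algebraMap_eq fun r => (f.commutes r).symm
  let L := Localization.AtPrime q
  let M := LocalizedModule q.primeCompl S'
  haveI hflat' : Module.Flat R M := hflat
  let π : L →ₗ[S] M := IsLocalizedModule.map q.primeCompl (Algebra.linearMap S L)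
    (LocalizedModule.mkLinearMap q.primeCompl S') (Algebra.linearMap S S')
  have hπs : ∀ s, π (algebraMap S L s) = LocalizedModule.mkLinearMap q.primeCompl S' (f s) := fun s =>
    IsLocalizedModule.map_apply q.primeCompl (Algebra.linearMap S L) _ _ s
  have hπ : Function.Surjective π :=
    IsLocalizedModule.map_surjective q.primeCompl (Algebra.linearMap S L) _ _ hf
  -- the kernel is finitely generated
  have hJ : (RingHom.ker f.toRingHom).FG := by
    obtain ⟨n, p, hp⟩ := Algebra.FiniteType.iff_quotient_mvPolynomial''.mp ‹Algebra.FiniteType R S›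
    have h := (Algebra.FinitePresentation.ker_fG_of_surjective (f.comp p) (hf.comp hp)).map p.toRingHom
    rwa [show (f.comp p).toRingHom = f.toRingHom.comp p.toRingHom from rfl, ← RingHom.comap_ker, Ideal.map_comap_of_surjective p.toRingHom hp] at h
  let J : Ideal L := (RingHom.ker f.toRingHom).map (algebraMap S L)
  have hK : ∀ z, π z = 0 → z ∈ J := by
    intro z hz
    obtain ⟨s, t, rfl⟩ := IsLocalization.exists_mk'_eq q.primeCompl z
    have h1 : π (algebraMap S L s) = 0 := by
      rw [← IsLocalization.mk'_spec L s t, mul_comm, ← Algebra.smul_def, map_smul, hz, smul_zero]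
    rw [hπs] at h1
    obtain ⟨c, hc⟩ := (IsLocalizedModule.eq_zero_iff q.primeCompl _).mp h1
    have hu : (c : S) * s ∈ RingHom.ker f.toRingHom := by
      rw [RingHom.mem_ker, map_mul]
      exact hc
    have h2 := Ideal.mem_map_of_mem (algebraMap S L) hu
    rw [map_mul, Ideal.unit_mul_mem_iff_mem _ (IsLocalization.map_units L c)] at h2
    rw [IsLocalization.mk'_eq_mul_mk'_one]
    exact Ideal.mul_mem_right _ _ h2
  have hJm : J ≤ IsLocalRing.maximalIdeal L • J := Ideal.map_le_iff_le_comap.mpr fun j hj => by
    have hz : algebraMap S L j ∈ I • (Submodule.span R (Set.range (id : L → L))) := by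
      rw [Set.range_id, Submodule.span_univ, Ideal.smul_top_eq_map]
      exact hker j (RingHom.mem_ker.mp hj)
    obtain ⟨a, ha, hsum⟩ := (Submodule.mem_ideal_smul_span_iff_exists_sum I id _).mp hz
    have h0 : ∑ i : a.support, a i • π (i : L) = 0 := by
      rw [Finset.sum_coe_sort a.support fun i => a i • π i]
      have : π (∑ i ∈ a.support, a i • i) = 0 := by
        rw [show (∑ i ∈ a.support, a i • i) = algebraMap S L j from hsum, hπs, show f j = 0 from hj, map_zero]
      rw [map_sum] at this
      simpa only [LinearMap.map_smul_of_tower] using this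
    obtain ⟨l, b, y, hxy, hb⟩ := Module.Flat.isTrivialRelation_of_sum_smul_eq_zero h0
    choose y' hy' using fun k => hπ (y k)
    show algebraMap S L j ∈ IsLocalRing.maximalIdeal L • J
    have he : algebraMap S L j = ∑ i : a.support, a i • ((i : L) - ∑ k, b i k • y' k) := by
      simp only [smul_sub, Finset.sum_sub_distrib, Finset.smul_sum, smul_smul]
      conv_rhs => arg 2; rw [Finset.sum_comm]
      simp only [← Finset.sum_smul, hb, zero_smul, Finset.sum_const_zero, sub_zero]
      rw [Finset.sum_coe_sort a.support fun i => a i • i, ← hsum]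
      rfl
    rw [he]
    refine sum_mem fun i _ => ?_
    rw [← algebraMap_smul L (a (i : L))]
    refine Submodule.smul_mem_smul ?_ (hK _ ?_)
    · rw [IsScalarTower.algebraMap_apply R S L, ← Localization.AtPrime.map_eq_maximalIdeal]
      exact Ideal.mem_map_of_mem _ (hq (Ideal.mem_map_of_mem _ (ha i)))
    · rw [map_sub, map_sum, sub_eq_zero]
      refine (hxy i).trans ?_
      exact Finset.sum_congr rfl fun k _ => by rw [LinearMap.map_smul_of_tower, hy']
  have hJ0 : J = ⊥ := Submodule.eq_bot_of_le_smul_of_le_jacobson_bot _ _ (hJ.map _) hJm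
    (IsLocalRing.maximalIdeal_le_jacobson ⊥)
  obtain ⟨G, hG⟩ := hJ
  have hann : ∀ j ∈ G, ∃ g : q.primeCompl, (g : S) * j = 0 := fun j hj => by
    refine (IsLocalization.map_eq_zero_iff q.primeCompl L j).mp ?_
    have : algebraMap S L j ∈ J := Ideal.mem_map_of_mem _ (hG ▸ Ideal.subset_span hj)
    rwa [hJ0, Ideal.mem_bot] at this
  choose g hg using hann
  let g₀ : q.primeCompl := ∏ j : G, g j.1 j.2
  refine ⟨g₀, g₀.2, Localization.awayMap_injective_iff.mpr fun a ha => ⟨1, ?_⟩,
    Localization.awayMap_surjective_iff.mpr fun a => ?_⟩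
  · have hle : RingHom.ker f.toRingHom ≤ LinearMap.ker (LinearMap.mulLeft S (g₀ : S)) := by
      rw [← hG]
      refine Submodule.span_le.mpr fun j hj => ?_
      show (g₀ : S) * j = 0
      obtain ⟨c, hc⟩ : g j hj ∣ g₀ := Finset.dvd_prod_of_mem (fun j : G => g j.1 j.2) (Finset.mem_univ ⟨j, hj⟩)
      rw [hc, Submonoid.coe_mul, mul_comm (g j hj : S), mul_assoc, hg j hj, mul_zero]
    rw [pow_one]
    exact hle (RingHom.mem_ker.mpr ha)
  · obtain ⟨b, hb⟩ := hf a
    exact ⟨b, 0, by rw [pow_zero, one_mul]; exact hb⟩

end Groth.Agent.S9166
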