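import Groth.Statements.S9167
import Groth.Agent.H02CA.LocalPresentation

set_option autoImplicit false
universe u
open CAlg

namespace Groth.Agent.S9167

/-- With R' = S⁻¹(R/I), every finitely presented R'-module is of the form S⁻¹(M/IM) for some finitely
presented R-module M. -/
theorem result (R : Type u) [CommRing R] (I : Ideal R)
    (S : Submonoid R) (M' : Type u) [AddCommGroup M']
    [Module (Localization (S.map (Ideal.Quotient.mk I))) M']
    [Module.FinitePresentation (Localization (S.map (Ideal.Quotient.mk I))) M'] :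
    ∃ (M : Type u) (_ : AddCommGroup M) (_ : Module R M), Module.FinitePresentation R M ∧
      Nonempty (LocalizedModule (S.map (Ideal.Quotient.mk I)) (M ⧸ (I • ⊤ : Submodule R M))
        ≃ₗ[Localization (S.map (Ideal.Quotient.mk I))] M') := by
  letI : Module (R ⧸ I) M' :=
    Module.compHom M' (algebraMap (R ⧸ I) (Localization (S.map (Ideal.Quotient.mk I))))
  haveI : IsScalarTower (R ⧸ I) (Localization (S.map (Ideal.Quotient.mk I))) M' :=
    IsScalarTower.of_algebraMap_smul fun _ _ => rfl
  haveI hid : IsLocalizedModule (S.map (Ideal.Quotient.mk I)) (LinearMap.id : M' →ₗ[R ⧸ I] M') :=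
    isLocalizedModule_id _ _ (Localization (S.map (Ideal.Quotient.mk I)))
  let e0 := (IsLocalizedModule.iso (S.map (Ideal.Quotient.mk I))
    (LinearMap.id : M' →ₗ[R ⧸ I] M')).extendScalarsOfIsLocalization
      (S.map (Ideal.Quotient.mk I)) (Localization (S.map (Ideal.Quotient.mk I)))
  haveI : Module.FinitePresentation (Localization (S.map (Ideal.Quotient.mk I)))
      (LocalizedModule (S.map (Ideal.Quotient.mk I)) M') :=
    Module.FinitePresentation.of_equiv e0.symm
  obtain ⟨n, g, G, hG0, hgen, hrel⟩ :=
    H02CA.exists_local_presentation (S.map (Ideal.Quotient.mk I)) (M := M')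
  classical
  let red : (Fin n → R) →ₗ[R] (Fin n → R ⧸ I) := (Ideal.Quotient.mkₐ R I).toLinearMap.compLeft (Fin n)
  have hred : Function.Surjective red := fun w =>
    ⟨fun i => (Ideal.Quotient.mk_surjective (w i)).choose,
      funext fun i => (Ideal.Quotient.mk_surjective (w i)).choose_spec⟩
  choose lift hlift using hred
  letI : Module R M' := Module.compHom M' (Ideal.Quotient.mk I)
  haveI : IsScalarTower R (R ⧸ I) M' := IsScalarTower.of_algebraMap_smul fun _ _ => rfl
  let N : Submodule R (Fin n → R) := Submodule.span R (lift '' (G : Set (Fin n → R ⧸ I)))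
  let gR : (Fin n → R) →ₗ[R] M' := (g.restrictScalars R) ∘ₗ red
  have hN : N ≤ LinearMap.ker gR := Submodule.span_le.mpr <| by
    rintro _ ⟨v, hv, rfl⟩
    change g (red (lift v)) = 0
    rw [hlift]; exact hG0 v hv
  let φ : ((Fin n → R) ⧸ N) →ₗ[R] M' := N.liftQ gR hN
  have hφI : (I • ⊤ : Submodule R ((Fin n → R) ⧸ N)) ≤ LinearMap.ker φ := by
    rw [Submodule.smul_le]
    intro r hr x _
    rw [LinearMap.mem_ker, map_smul]
    change Ideal.Quotient.mk I r • φ x = 0
    rw [Ideal.Quotient.eq_zero_iff_mem.mpr hr, zero_smul]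
  let φR := (I • ⊤ : Submodule R ((Fin n → R) ⧸ N)).liftQ φ hφI
  let ψ : (((Fin n → R) ⧸ N) ⧸ (I • ⊤ : Submodule R ((Fin n → R) ⧸ N))) →ₗ[R ⧸ I] M' :=
    { toFun := φR
      map_add' := φR.map_add
      map_smul' := fun c x => by
        obtain ⟨c, rfl⟩ := Ideal.Quotient.mk_surjective c
        exact φR.map_smul c x }
  have hψ : ∀ v, ψ (Submodule.Quotient.mk (Submodule.Quotient.mk v)) = g (red v) := fun _ => rfl
  refine ⟨(Fin n → R) ⧸ N, inferInstance, inferInstance,
    Module.finitePresentation_of_surjective N.mkQ N.mkQ_surjective ?_, ?_⟩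
  · rw [Submodule.ker_mkQ]; exact Submodule.fg_span (G.finite_toSet.image _)
  haveI : IsLocalizedModule (S.map (Ideal.Quotient.mk I)) ψ := by
    refine ⟨fun t => hid.map_units t, fun y => ?_, fun {x y} h => ?_⟩
    · obtain ⟨t, ht, w, hw⟩ := hgen y
      exact ⟨⟨Submodule.Quotient.mk (Submodule.Quotient.mk (lift w)), ⟨t, ht⟩⟩, by
        rw [hψ, hlift, hw]; rfl⟩
    · obtain ⟨x, rfl⟩ := Submodule.mkQ_surjective _ x
      obtain ⟨v, rfl⟩ := Submodule.mkQ_surjective _ x
      obtain ⟨y, rfl⟩ := Submodule.mkQ_surjective _ y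
      obtain ⟨w, rfl⟩ := Submodule.mkQ_surjective _ y
      simp only [Submodule.mkQ_apply, hψ] at h
      obtain ⟨t, ht, htv⟩ := hrel (red (v - w)) (by rw [map_sub, map_sub, h, sub_self])
      refine ⟨⟨t, ht⟩, ?_⟩
      obtain ⟨t, rfl⟩ := Ideal.Quotient.mk_surjective t
      have hred' : ∀ z ∈ Submodule.span (R ⧸ I) (G : Set (Fin n → R ⧸ I)), ∀ x, red x = z →
          (Submodule.Quotient.mk x : (Fin n → R) ⧸ N) ∈ (I • ⊤ : Submodule R ((Fin n → R) ⧸ N)) := by
        have hker : ∀ x, red x = 0 →
            (Submodule.Quotient.mk x : (Fin n → R) ⧸ N) ∈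
              (I • ⊤ : Submodule R ((Fin n → R) ⧸ N)) := by
          intro x hx
          rw [pi_eq_sum_univ' x, ← Submodule.mkQ_apply, map_sum]
          refine sum_mem fun i _ => ?_
          rw [map_smul]
          exact Submodule.smul_mem_smul (Ideal.Quotient.eq_zero_iff_mem.mp (congrFun hx i)) trivial
        intro z hz
        induction hz using Submodule.span_induction with
        | mem z hz =>
          intro x hx
          have h1 := hker (x - lift z) (by rw [map_sub, hx, hlift, sub_self])
          rwa [Submodule.Quotient.mk_sub, (Submodule.Quotient.mk_eq_zero N).mpr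
            (Submodule.subset_span ⟨z, hz, rfl⟩), sub_zero] at h1
        | zero => exact hker
        | add a b _ _ ha hb =>
          intro x hx
          have h1 := add_mem (ha (lift a) (hlift a)) (hb (lift b) (hlift b))
          have h2 := hker (x - (lift a + lift b)) (by rw [map_sub, map_add, hx, hlift, hlift, sub_self])
          rw [← Submodule.Quotient.mk_add] at h1
          have h3 := add_mem h2 h1
          rwa [← Submodule.Quotient.mk_add, sub_add_cancel] at h3
        | smul c a _ ha =>
          intro x hx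
          obtain ⟨c, rfl⟩ := Ideal.Quotient.mk_surjective c
          have h1 := Submodule.smul_mem _ c (ha (lift a) (hlift a))
          have h2 := hker (x - c • lift a) (by rw [map_sub, map_smul, hx, hlift]; exact sub_self _)
          rw [← Submodule.Quotient.mk_smul] at h1
          have h3 := add_mem h2 h1
          rwa [← Submodule.Quotient.mk_add, sub_add_cancel] at h3
      have h4 := hred' _ htv (t • (v - w)) (by rw [map_smul]; rfl)
      change t • (Submodule.Quotient.mk (Submodule.Quotient.mk v : (Fin n → R) ⧸ N) :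
          ((Fin n → R) ⧸ N) ⧸ (I • ⊤ : Submodule R ((Fin n → R) ⧸ N))) =
        t • Submodule.Quotient.mk (Submodule.Quotient.mk w)
      rw [← sub_eq_zero, ← smul_sub, ← Submodule.Quotient.mk_sub, ← Submodule.Quotient.mk_sub,
        ← Submodule.Quotient.mk_smul, ← Submodule.Quotient.mk_smul]
      exact (Submodule.Quotient.mk_eq_zero _).mpr h4
  exact ⟨(IsLocalizedModule.iso (S.map (Ideal.Quotient.mk I)) ψ).extendScalarsOfIsLocalization
    (S.map (Ideal.Quotient.mk I)) (Localization (S.map (Ideal.Quotient.mk I)))⟩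

end Groth.Agent.S9167
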