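import Groth.Statements.S9168
import Mathlib.RingTheory.EssentialFiniteness
import Mathlib.RingTheory.LocalRing.RingHom.Basic
import Mathlib.RingTheory.Localization.AtPrime.Basic

set_option autoImplicit false
universe u
open CAlg

namespace Groth.Agent.S9168
theorem aux.{v, w} (R₀ : Type v) (S : Type w) [CommRing R₀] [CommRing S] [IsLocalRing S] [Algebra R₀ S] (F : Finset S) :
    ∃ S₀ : Subring S, (∀ x, algebraMap R₀ S x ∈ S₀) ∧ (F : Set S) ⊆ S₀ ∧ IsLocalRing S₀ ∧
      IsLocalHom S₀.subtype ∧
      ∀ g : R₀ →+* S₀, (∀ x, (g x : S) = algebraMap R₀ S x) → g.EssFiniteType := by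
  let P := MvPolynomial F R₀
  let φ : P →+* S := (MvPolynomial.aeval (fun x : F => (x : S))).toRingHom
  let p : Ideal P := (IsLocalRing.maximalIdeal S).comap φ
  have : p.IsPrime := Ideal.IsPrime.comap φ
  have hu : ∀ y : p.primeCompl, IsUnit (φ y) := fun y =>
    IsLocalRing.notMem_maximalIdeal.mp y.2
  let ψ : Localization.AtPrime p →+* S := IsLocalization.lift hu
  have hψ : IsLocalHom ψ := ⟨fun l hl => by
    obtain ⟨⟨a, s⟩, rfl⟩ := IsLocalization.mk'_surjective p.primeCompl l
    rw [IsLocalization.AtPrime.isUnit_mk'_iff (Localization.AtPrime p) p]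
    intro ha
    have h1 : φ a = ψ (IsLocalization.mk' _ a s) * φ s := by
      rw [← show ψ (algebraMap P (Localization.AtPrime p) (s : P)) = φ s from IsLocalization.lift_eq hu _, ← map_mul, IsLocalization.mk'_spec, IsLocalization.lift_eq]
    exact IsLocalRing.notMem_maximalIdeal.mpr (h1 ▸ hl.mul (hu s)) ha⟩
  refine ⟨ψ.range, fun x => ⟨algebraMap P _ (MvPolynomial.C x), by
      rw [IsLocalization.lift_eq]; exact MvPolynomial.aeval_C _ x⟩,
    fun x hx => ⟨algebraMap P _ (MvPolynomial.X ⟨x, hx⟩), by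
      rw [IsLocalization.lift_eq]; exact MvPolynomial.aeval_X _ _⟩,
    IsLocalRing.of_surjective' ψ.rangeRestrict ψ.rangeRestrict_surjective, ?_, ?_⟩
  · refine ⟨fun z hz => ?_⟩
    obtain ⟨l, hl⟩ := ψ.rangeRestrict_surjective z
    subst hl
    exact (hψ.map_nonunit l hz).map ψ.rangeRestrict
  · intro g hg
    algebraize [g]
    show Algebra.EssFiniteType R₀ ψ.range
    let f : Localization.AtPrime p →ₐ[R₀] ψ.range :=
      { ψ.rangeRestrict with
        commutes' := fun x => by
          apply Subtype.ext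
          show ψ (algebraMap R₀ _ x) = (g x : S)
          rw [hg, IsScalarTower.algebraMap_apply R₀ P (Localization.AtPrime p), IsLocalization.lift_eq]
          exact MvPolynomial.aeval_C _ x }
    exact Algebra.EssFiniteType.of_surjective f ψ.rangeRestrict_surjective


/-- For a local homomorphism of local rings R → S and finite subsets E ⊆ R, F ⊆ S there are local
subrings R₀ ⊆ R and S₀ ⊆ S containing E and F, with R → S mapping R₀ into S₀, such that the
inclusions and the induced map R₀ → S₀ are local homomorphisms, R₀ is essentially of finite type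
over ℤ and S₀ is essentially of finite type over R₀. (So R → S is the directed colimit of such R₀ →
S₀.) -/
theorem result (R S : Type u) [CommRing R] [CommRing S] [IsLocalRing R]
    [IsLocalRing S] [Algebra R S] [IsLocalHom (algebraMap R S)] (E : Finset R) (F : Finset S) :
    ∃ (R₀ : Subring R) (S₀ : Subring S) (h : ∀ x ∈ R₀, algebraMap R S x ∈ S₀),
      (E : Set R) ⊆ R₀ ∧ (F : Set S) ⊆ S₀ ∧ ∃ (_ : IsLocalRing R₀) (_ : IsLocalRing S₀),
        IsLocalHom R₀.subtype ∧ IsLocalHom S₀.subtype ∧
          IsLocalHom ((algebraMap R S).restrict R₀ S₀ h) ∧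
          (algebraMap ℤ R₀).EssFiniteType ∧ ((algebraMap R S).restrict R₀ S₀ h).EssFiniteType := by
  obtain ⟨R₀, -, hE, hlR, hiR, heR⟩ := aux ℤ R E
  letI := ((algebraMap R S).comp R₀.subtype).toAlgebra
  obtain ⟨S₀, h0, hF, hlS, hiS, heS⟩ := aux R₀ S F
  have h : ∀ x ∈ R₀, algebraMap R S x ∈ S₀ := fun x hx => h0 ⟨x, hx⟩
  refine ⟨R₀, S₀, h, hE, hF, hlR, hlS, hiR, hiS, ⟨fun x hx => ?_⟩,
    heR _ (fun x => by simp), heS _ (fun x => rfl)⟩
  exact hiR.map_nonunit x (isUnit_of_map_unit (algebraMap R S) _ (hx.map S₀.subtype))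

end Groth.Agent.S9168
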