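import Groth.Statements.S9170
import Groth.Agent.H9CI.RelGCIProps
-- import your own Groth.Agent.* helpers here

set_option autoImplicit false
universe u
open Synt

namespace Groth.Agent.S9170

/-- For a relative global complete intersection S = R[x_1, …, x_n]/(f_1, …, f_c) over a ring R and a
prime q' of the polynomial ring containing the ideal (f_1, …, f_c): (1) f_1, …, f_c is a regular
sequence in the localization R[x]_{q'} (a local ring); (2) every quotient R[x]_{q'}/(f_1, …, f_i) is
flat over R; (3) the conormal module (f)/(f)² is free over S with basis the classes of the f_i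
(stated as: these classes are linearly independent over S and span). -/
theorem result (R : Type u) [CommRing R] (n c : ℕ)
    (F : Fin c → MvPolynomial (Fin n) R) (h : Synt.IsRelGCI R n c F)
    (q' : Ideal (MvPolynomial (Fin n) R)) [q'.IsPrime] (hq' : Ideal.span (Set.range F) ≤ q') :
    RingTheory.Sequence.IsRegular (Localization.AtPrime q')
        ((List.ofFn F).map (algebraMap (MvPolynomial (Fin n) R) (Localization.AtPrime q'))) ∧
      (∀ i ≤ c, Module.Flat R (Localization.AtPrime q' ⧸ Ideal.ofList
        (((List.ofFn F).take i).map (algebraMap (MvPolynomial (Fin n) R) (Localization.AtPrime q'))))) ∧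
      LinearIndependent (Synt.RelGCIRing R n c F)
        (fun i : Fin c => (Ideal.span (Set.range F)).toCotangent ⟨F i, Ideal.subset_span (Set.mem_range_self i)⟩) ∧
      Submodule.span (Synt.RelGCIRing R n c F) (Set.range
        (fun i : Fin c => (Ideal.span (Set.range F)).toCotangent ⟨F i, Ideal.subset_span (Set.mem_range_self i)⟩)) = ⊤ := by
  have ht := H9CI.isTransRegularSeq_atPrime F h q' hq'
  refine ⟨⟨ht.1, ?_⟩, fun i hi => ?_, ?_, ?_⟩
  · intro htop
    rw [smul_eq_mul, Ideal.mul_top] at htop
    refine (IsLocalRing.maximalIdeal.isMaximal (Localization.AtPrime q')).ne_top (top_le_iff.mp (htop.le.trans ?_))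
    refine Ideal.span_le.mpr fun x hx => ?_
    obtain ⟨y, hy, rfl⟩ := List.mem_map.mp hx
    obtain ⟨j, rfl⟩ := List.mem_ofFn.mp hy
    exact (IsLocalization.AtPrime.to_map_mem_maximal_iff (Localization.AtPrime q') q' _).mpr
      (hq' (Ideal.subset_span ⟨j, rfl⟩))
  · have := ht.2 i (by simpa using hi)
    rwa [← List.map_take] at this
  · rw [Fintype.linearIndependent_iff]
    intro g hg j
    choose a ha using fun i => Ideal.Quotient.mk_surjective (g i)
    have h1 : ∀ i, g i • (Ideal.span (Set.range F)).toCotangent ⟨F i, Ideal.subset_span (Set.mem_range_self i)⟩ =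
        (Ideal.span (Set.range F)).toCotangent (a i • ⟨F i, Ideal.subset_span (Set.mem_range_self i)⟩) := fun i => by
      rw [map_smul, ← ha i]; rfl
    simp only [h1, ← map_sum] at hg
    rw [Ideal.toCotangent_eq_zero, pow_two] at hg
    rw [← ha j]
    exact Ideal.Quotient.eq_zero_iff_mem.mpr (H9CI.mem_span_of_sum_mem_sq F h a (by simpa [Submodule.coe_sum] using hg) j)
  · rw [eq_top_iff]
    intro z _
    obtain ⟨⟨y, hy⟩, rfl⟩ := Ideal.toCotangent_surjective _ z
    obtain ⟨d, hd⟩ := Ideal.mem_span_range_iff_exists_fun.mp hy
    have he : (⟨y, hy⟩ : Ideal.span (Set.range F)) = ∑ i, d i • ⟨F i, Ideal.subset_span (Set.mem_range_self i)⟩ :=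
      Subtype.ext (by simp [Submodule.coe_sum, hd])
    rw [he, map_sum]
    refine Submodule.sum_mem _ fun i _ => ?_
    rw [map_smul]
    let v : Fin c → (Ideal.span (Set.range F)).Cotangent := fun j =>
      (Ideal.span (Set.range F)).toCotangent ⟨F j, Ideal.subset_span (Set.mem_range_self j)⟩
    exact Submodule.smul_mem (Submodule.span (Synt.RelGCIRing R n c F) (Set.range v))
      (Ideal.Quotient.mk (Ideal.span (Set.range F)) (d i)) (Submodule.subset_span (Set.mem_range_self i))

end Groth.Agent.S9170
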