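import Groth.Statements.S9171
import Groth.Agent.H9CI.Presentation
-- import your own Groth.Agent.* helpers here

set_option autoImplicit false
universe u
open Synt

namespace Groth.Agent.S9171

/-- Let S = k[x_1, …, x_n]/I over a field k, q a prime of S, q' the corresponding prime of the
polynomial ring and c the integer with c + ht(q) = ht(q'). Equivalent: (1) S_g is a global complete
intersection over k for some g ∉ q; (2) the extension of I to the local ring k[x]_{q'} is generated
by c elements; (5) that extension is generated by a regular sequence. Stated as (1) ↔ (2) and (1) ↔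
(5). -/
theorem result (k : Type u) [Field k] (n : ℕ)
    (I : Ideal (MvPolynomial (Fin n) k)) (q : Ideal (MvPolynomial (Fin n) k ⧸ I)) [q.IsPrime] (c : ℕ)
    (hc : (c : ℕ∞) + q.height = (q.comap (Ideal.Quotient.mk I)).height) :
    ((∃ g : MvPolynomial (Fin n) k ⧸ I, g ∉ q ∧ Synt.IsGlobalCI k (Localization.Away g)) ↔
        ∃ s : Finset (Localization.AtPrime (q.comap (Ideal.Quotient.mk I))), s.card = c ∧
          Ideal.span (s : Set _) =
            I.map (algebraMap _ (Localization.AtPrime (q.comap (Ideal.Quotient.mk I))))) ∧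
      ((∃ g : MvPolynomial (Fin n) k ⧸ I, g ∉ q ∧ Synt.IsGlobalCI k (Localization.Away g)) ↔
        ∃ rs : List (Localization.AtPrime (q.comap (Ideal.Quotient.mk I))),
          RingTheory.Sequence.IsRegular (Localization.AtPrime (q.comap (Ideal.Quotient.mk I))) rs ∧
          Ideal.ofList rs =
            I.map (algebraMap _ (Localization.AtPrime (q.comap (Ideal.Quotient.mk I))))) := by
  classical
  let φ : MvPolynomial (Fin n) k →ₐ[k] MvPolynomial (Fin n) k ⧸ I := Ideal.Quotient.mkₐ k I
  have hφ : Function.Surjective φ := Ideal.Quotient.mk_surjective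
  let L := Localization.AtPrime (q.comap (Ideal.Quotient.mk I))
  let J := I.map (algebraMap (MvPolynomial (Fin n) k) L)
  have hker : RingHom.ker φ.toRingHom = I := Ideal.mk_ker
  have hJ : (RingHom.ker φ.toRingHom).map (algebraMap (MvPolynomial (Fin n) k) L) = J := by rw [hker]
  have htop : J ≠ ⊤ := by
    obtain ⟨g, hg, hk⟩ := H9CI.exists_localization_presentation φ hφ q
    exact fun h => RingHom.ker_ne_top g.toRingHom ((hk.trans hJ).trans h)
  have hci : (∃ g, g ∉ q ∧ Synt.IsGlobalCI k (Localization.Away g)) ↔ Synt.IsCIOver k (Localization.AtPrime q) := by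
    refine ⟨fun ⟨g, hg, h⟩ => ?_, H9CI.exists_isGlobalCI_away_of_isCIOver φ hφ q⟩
    have hdisj : Disjoint (Submonoid.powers g : Set (MvPolynomial (Fin n) k ⧸ I)) (q : Set _) := by
      rw [Set.disjoint_left]
      rintro _ ⟨e, rfl⟩ he
      exact hg (‹q.IsPrime›.mem_of_pow_mem e he)
    have := IsLocalization.isPrime_of_isPrime_disjoint (Submonoid.powers g) (Localization.Away g) q ‹_› hdisj
    have hc' := IsLocalization.under_map_of_isPrime_disjoint (Submonoid.powers g) (Localization.Away g) ‹q.IsPrime› hdisj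
    change Ideal.comap _ _ = _ at hc'
    obtain ⟨e⟩ := H9CI.nonempty_algEquiv_localization_atPrime (k := k) (Submonoid.powers g)
      (q.map (algebraMap _ (Localization.Away g)))
    have h2 := H9CI.isCIOver_of_algEquiv e.symm (H9CI.isCIOver_of_isGlobalCI h _)
    have key : ∀ (q' : Ideal (MvPolynomial (Fin n) k ⧸ I)) [q'.IsPrime], q' = q →
        Synt.IsCIOver k (Localization.AtPrime q') → Synt.IsCIOver k (Localization.AtPrime q) :=
      fun q' _ h h' => by subst h; exact h'
    exact key _ hc' h2
  have hiff := H9CI.isCIOver_localization_iff φ hφ q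
  rw [hci]
  have hmu : Synt.IsCIOver k (Localization.AtPrime q) → J.spanFinrank = c := fun h => by
    have h1 := (H9CI.spanFinrank_add_height_eq φ hφ q h).trans hc.symm
    rw [hker] at h1
    obtain ⟨b, hb⟩ : ∃ b : ℕ, q.height = b :=
      ⟨_, (ENat.natCast_toNat (Ideal.height_ne_top (Ideal.IsPrime.ne_top ‹_›))).symm⟩
    rw [hb] at h1
    exact Nat.add_right_cancel (ENat.natCast_inj.mp h1 : J.spanFinrank + b = c + b)
  have hle : J.spanFinrank ≤ c → Synt.IsCIOver k (Localization.AtPrime q) := fun h => by
    rw [hiff]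
    show (q.height : WithBot ℕ∞) + _ ≤ ((q.comap (Ideal.Quotient.mk I)).height : WithBot ℕ∞)
    rw [← hc, hker, add_comm (c : ℕ∞), WithBot.coe_add]
    gcongr
    exact WithBot.coe_le_coe.mpr (Nat.cast_le.mpr h)
  refine ⟨⟨fun h => ?_, fun ⟨s, hs, hspan⟩ => hle ?_⟩, ⟨fun h => ?_, fun ⟨rs, hreg, hspan⟩ => ?_⟩⟩
  · have hfin := (IsNoetherian.noetherian J).finite_generators
    refine ⟨hfin.toFinset, ?_, ?_⟩
    · rw [← Set.ncard_eq_toFinset_card _ hfin, (IsNoetherian.noetherian J).generators_ncard, hmu h]
    · rw [Set.Finite.coe_toFinset]; exact Submodule.span_generators J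
  · refine le_of_eq_of_le (congrArg Submodule.spanFinrank hspan.symm) ?_
    exact (Submodule.spanFinrank_span_le_ncard_of_finite s.finite_toSet).trans (by simp [hs])
  · obtain ⟨g, hg, hk⟩ := H9CI.exists_localization_presentation φ hφ q
    have := H9CI.essFiniteType_localization (q.comap φ.toRingHom)
    obtain ⟨rs, -, hreg, hrs, -⟩ := H9CI.exists_isRegular_of_isCIKer g.toRingHom hg ((H9CI.isCIOver_iff g hg).mp h)
    exact ⟨rs, hreg, hrs.symm.trans (hk.trans hJ)⟩
  · obtain ⟨g, hg, hk⟩ := H9CI.exists_localization_presentation φ hφ q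
    have := H9CI.essFiniteType_localization (q.comap φ.toRingHom)
    exact (H9CI.isCIOver_iff g hg).mpr (H9CI.isCIKer_of_isRegular g.toRingHom hg rs hreg ((hk.trans hJ).trans hspan.symm))

end Groth.Agent.S9171
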