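import Groth.Statements.S9173
import Groth.Agent.H9CI.RelGCINhd
-- import your own Groth.Agent.* helpers here

set_option autoImplicit false
universe u
open Synt

namespace Groth.Agent.S9173

open MvPolynomial TensorProduct in
/-- Let S = R[x_1, …, x_n]/(F_1, …, F_c) over a ring R. Let p be a prime of R whose fibre ring κ(p) ⊗ S
has Krull dimension n − c (with c ≤ n). Then some h in the polynomial ring, with image g in S,
satisfies: g maps to a unit of κ(p) ⊗ S, and the presentation S_g = R[x_1, …, x_{n+1}]/(F_1, …, F_c,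
h·x_{n+1} − 1) is a relative global complete intersection over R (with S_g isomorphic to it over R). -/
theorem result (R : Type u) [CommRing R] (n c : ℕ) (F : Fin c → MvPolynomial (Fin n) R)
    (p : Ideal R) [p.IsPrime]
    (hp : c ≤ n ∧ ringKrullDim (p.Fiber (Synt.RelGCIRing R n c F)) = ((n - c : ℕ) : WithBot ℕ∞)) :
    ∃ h : MvPolynomial (Fin n) R,
      IsUnit ((1 : p.ResidueField) ⊗ₜ[R] (Ideal.Quotient.mk (Ideal.span (Set.range F)) h) :
        p.Fiber (Synt.RelGCIRing R n c F)) ∧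
      Synt.IsRelGCI R (n + 1) (c + 1)
        (Fin.snoc (fun i => rename Fin.castSucc (F i)) (rename Fin.castSucc h * X (Fin.last n) - 1)) ∧
      Nonempty (Localization.Away (Ideal.Quotient.mk (Ideal.span (Set.range F)) h) ≃ₐ[R]
        Synt.RelGCIRing R (n + 1) (c + 1)
          (Fin.snoc (fun i => rename Fin.castSucc (F i)) (rename Fin.castSucc h * X (Fin.last n) - 1))) := by
  let S := Synt.RelGCIRing R n c F
  let K := p.Fiber S
  let Z : Ideal (MvPolynomial (Fin n) R) :=
    { carrier := {z | ∀ x ∈ H9CI.badLocus F, Ideal.Quotient.mk (Ideal.span (Set.range F)) z ∈ (x : PrimeSpectrum S).asIdeal}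
      zero_mem' := fun x _ => by rw [map_zero]; exact zero_mem _
      add_mem' := fun {a b} ha hb x hx => by rw [map_add]; exact add_mem (ha x hx) (hb x hx)
      smul_mem' := fun r a ha x hx => by rw [smul_eq_mul, map_mul]; exact Ideal.mul_mem_left _ _ (ha x hx) }
  let incl : S →ₐ[R] K := Algebra.TensorProduct.includeRight
  have htop : ((Z.map (Ideal.Quotient.mk (Ideal.span (Set.range F)))).map incl.toRingHom : Ideal K) = ⊤ := by
    by_contra hne
    obtain ⟨m, hm, hle⟩ := Ideal.exists_le_maximal _ hne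
    have hmp : m.IsPrime := Ideal.IsMaximal.isPrime (α := K) hm
    let x : PrimeSpectrum S := ⟨m.comap incl.toRingHom, Ideal.IsPrime.comap _⟩
    have hxp : x.asIdeal.comap (algebraMap R S) = p := by
      ext r
      show incl (algebraMap R S r) ∈ m ↔ r ∈ p
      rw [incl.commutes, IsScalarTower.algebraMap_apply R p.ResidueField K]
      refine ⟨fun h => ?_, fun h => ?_⟩
      · by_contra hr
        exact hm.ne_top (Ideal.eq_top_of_isUnit_mem _ h
          ((isUnit_iff_ne_zero.mpr fun h0 => hr (Ideal.algebraMap_residueField_eq_zero.mp h0)).map _))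
      · rw [Ideal.algebraMap_residueField_eq_zero.mpr h, map_zero]; exact zero_mem _
    have hxb := H9CI.notMem_badLocus F ⟨hp.1, hp.2.le⟩ x hxp
    obtain ⟨_, ⟨s, rfl⟩, hxs, hs⟩ := PrimeSpectrum.isTopologicalBasis_basic_opens.exists_subset_of_mem_open
      (show x ∈ (H9CI.badLocus F : Set (PrimeSpectrum S))ᶜ from hxb) (H9CI.isClosed_badLocus F).isOpen_compl
    obtain ⟨z, rfl⟩ := Ideal.Quotient.mk_surjective s
    have hzZ : z ∈ Z := fun y hy => by
      by_contra hzy
      exact hs hzy hy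
    exact hxs (hle (Ideal.mem_map_of_mem incl.toRingHom (Ideal.mem_map_of_mem _ hzZ)))
  obtain ⟨r, hr, h, hh, he⟩ : ∃ r ∉ p, ∃ h ∈ Z,
      algebraMap R K r = (1 : p.ResidueField) ⊗ₜ[R] Ideal.Quotient.mk (Ideal.span (Set.range F)) h := by
    have h1 : (1 : K) ∈ (Z.map (Ideal.Quotient.mk (Ideal.span (Set.range F)))).map incl.toRingHom := htop ▸ trivial
    rw [Ideal.map_map] at h1
    suffices H : ∀ y ∈ Z.map (incl.toRingHom.comp (Ideal.Quotient.mk (Ideal.span (Set.range F)))), ∃ r ∉ p, ∃ h ∈ Z,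
        r • y = (1 : p.ResidueField) ⊗ₜ[R] Ideal.Quotient.mk (Ideal.span (Set.range F)) h by
      obtain ⟨r, hr, h, hh, he⟩ := H 1 h1
      exact ⟨r, hr, h, hh, (Algebra.algebraMap_eq_smul_one r).trans he⟩
    intro y h1
    refine Submodule.span_induction ?_ ⟨1, (‹p.IsPrime›).ne_top ∘ (Ideal.eq_top_iff_one _).mpr, 0, zero_mem _,
      by rw [smul_zero, map_zero, TensorProduct.tmul_zero]⟩ ?_ ?_ h1
    · rintro _ ⟨z, hz, rfl⟩
      exact ⟨1, (‹p.IsPrime›).ne_top ∘ (Ideal.eq_top_iff_one _).mpr, z, hz, one_smul R _⟩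
    · rintro u v _ _ ⟨a, ha, z, hz, hu⟩ ⟨b, hb, w, hw, hv⟩
      refine ⟨a * b, fun h => (‹p.IsPrime›.mem_or_mem h).elim ha hb, b • z + a • w,
        add_mem (Z.smul_of_tower_mem b hz) (Z.smul_of_tower_mem a hw), ?_⟩
      rw [smul_add, map_add, TensorProduct.tmul_add, ← Ideal.Quotient.mkₐ_eq_mk R, map_smul, map_smul,
        TensorProduct.tmul_smul, TensorProduct.tmul_smul, mul_comm a b, mul_smul, hu, mul_comm b a, mul_smul, hv]
      rfl
    · rintro t u _ ⟨a, ha, z, hz, hu⟩
      obtain ⟨b, hb, s, hs⟩ := Ideal.Fiber.exists_smul_eq_one_tmul p t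
      obtain ⟨s, rfl⟩ := Ideal.Quotient.mk_surjective s
      refine ⟨b * a, fun h => (‹p.IsPrime›.mem_or_mem h).elim hb ha, s * z, Z.mul_mem_left _ hz, ?_⟩
      rw [smul_eq_mul, ← smul_mul_smul_comm, hs, hu, Algebra.TensorProduct.tmul_mul_tmul, one_mul, map_mul]
  refine ⟨h, ?_, H9CI.isRelGCI_awayEqs F h hh, H9CI.nonempty_algEquiv_awayEqs F h⟩
  rw [← he, IsScalarTower.algebraMap_apply R p.ResidueField K]
  exact (isUnit_iff_ne_zero.mpr fun h0 => hr (Ideal.algebraMap_residueField_eq_zero.mp h0)).map _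

end Groth.Agent.S9173
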