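import Groth.Statements.S9175
import Groth.Agent.H02CA.FibreLocalDim
import Mathlib.AlgebraicGeometry.ZariskisMainTheorem

set_option autoImplicit false
universe u
open CAlg

namespace Groth.Agent.S9175

/-- Let R → S be of finite type, q a prime of S over p, and Q the prime of the fibre ring κ(p) ⊗ S
pulling back to q. If Spec(κ(p) ⊗ S) has local dimension n at Q (the relative dimension of S over R
at q is n), then some S_g with g ∉ q admits an R-algebra map from the polynomial ring R[t_1, …, t_n]
which is of finite type and quasi-finite. -/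
theorem result (R S : Type u) [CommRing R] [CommRing S]
    [Algebra R S] [Algebra.FiniteType R S] (p : Ideal R) [p.IsPrime] (q : Ideal S) [q.IsPrime] [q.LiesOver p]
    (Q : PrimeSpectrum (p.Fiber S))
    (hQ : Q.asIdeal.comap (Algebra.TensorProduct.includeRight.toRingHom) = q) (n : ℕ)
    (hdim : FlatMor.localDim (PrimeSpectrum (p.Fiber S)) Q = (n : WithBot ℕ∞)) :
    ∃ g : S, g ∉ q ∧ ∃ φ : MvPolynomial (Fin n) R →ₐ[R] Localization.Away g,
      φ.toRingHom.FiniteType ∧ φ.toRingHom.QuasiFinite := by
  have hQ' : q.under R = p := ((Ideal.liesOver_iff q p).mp inferInstance).symm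
  subst hQ'
  open Groth.Agent.H8Props.FieldDim in
  obtain ⟨σ, _, γ, hcard, hqf⟩ := exists_quasiFiniteAt_map (R := R) (⟨q, inferInstance⟩ : PrimeSpectrum S) n
    ((Groth.Agent.H02CA.fibreDimAt_eq_localDim_fiber (⟨q, inferInstance⟩ : PrimeSpectrum S) Q hQ).trans hdim).le
  open AlgebraicGeometry CategoryTheory in
  let G : Spec (CommRingCat.of S) ⟶ Spec (CommRingCat.of (MvPolynomial σ R)) := Spec.map (CommRingCat.ofHom γ.toRingHom)
  open AlgebraicGeometry CategoryTheory in
  haveI : LocallyOfFiniteType G := (HasRingHomProperty.Spec_iff (P := @LocallyOfFiniteType)).mpr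
    (RingHom.FiniteType.of_comp_finiteType (f := algebraMap R (MvPolynomial σ R)) (g := γ.toRingHom)
      (show (γ.toRingHom.comp (algebraMap R (MvPolynomial σ R))).FiniteType by
        rw [γ.toRingHom_eq_coe, γ.comp_algebraMap]; exact RingHom.finiteType_algebraMap.mpr inferInstance))
  let W : Set (PrimeSpectrum S) := G.quasiFiniteLocus.1
  have hW : IsOpen W := G.quasiFiniteLocus.2
  have hqW : (⟨q, inferInstance⟩ : PrimeSpectrum S) ∈ W := hqf
  obtain ⟨_, ⟨g, rfl⟩, hgq, hgU⟩ := PrimeSpectrum.isTopologicalBasis_basic_opens.exists_subset_of_mem_open hqW hW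
  refine ⟨g, hgq, ?_⟩
  obtain ⟨ι⟩ := Function.Embedding.nonempty_of_card_le (α := σ) (β := Fin n) (by simpa using hcard)
  let π : MvPolynomial (Fin n) R →ₐ[R] MvPolynomial σ R := MvPolynomial.aeval (Function.extend ι MvPolynomial.X 0)
  have hπ : Function.Surjective π := by
    rw [← AlgHom.range_eq_top, _root_.eq_top_iff, ← MvPolynomial.adjoin_range_X, Algebra.adjoin_le_iff]
    rintro _ ⟨i, rfl⟩
    exact ⟨MvPolynomial.X (ι i), (MvPolynomial.aeval_X _ _).trans (ι.injective.extend_apply _ _ i)⟩
  let φ := ((IsScalarTower.toAlgHom R S (Localization.Away g)).comp γ).comp π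
  have hft : φ.toRingHom.FiniteType := by
    refine RingHom.FiniteType.of_comp_finiteType (f := algebraMap R (MvPolynomial (Fin n) R)) ?_
    rw [φ.toRingHom_eq_coe, φ.comp_algebraMap]
    haveI : Algebra.FiniteType S (Localization.Away g) := IsLocalization.finiteType_of_monoid_fg (Submonoid.powers g) _
    exact RingHom.finiteType_algebraMap.mpr (Algebra.FiniteType.trans (S := S) inferInstance inferInstance)
  refine ⟨φ, hft, ?_⟩
  open AlgebraicGeometry CategoryTheory in
  let j : Spec (CommRingCat.of (Localization.Away g)) ⟶ Spec (CommRingCat.of S) := Spec.map (CommRingCat.ofHom (algebraMap S _))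
  open AlgebraicGeometry CategoryTheory in
  haveI : IsOpenImmersion j := IsOpenImmersion.of_isLocalization g
  open AlgebraicGeometry CategoryTheory in
  haveI : LocallyOfFiniteType (j ≫ G) := inferInstance
  have hj : ∀ y, j y ∈ G.quasiFiniteLocus := fun y => hgU (by
    show g ∉ Ideal.comap (algebraMap S (Localization.Away g)) (y : PrimeSpectrum (Localization.Away g)).asIdeal
    exact fun hy => (y : PrimeSpectrum (Localization.Away g)).2.ne_top
      (Ideal.eq_top_of_isUnit_mem _ hy (IsLocalization.Away.algebraMap_isUnit g)))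
  open AlgebraicGeometry CategoryTheory in
  haveI : LocallyQuasiFinite (j ≫ G) := (j ≫ G).quasiFiniteLocus_eq_top_iff.mp (by
    rw [Scheme.Hom.quasiFiniteLocus_comp]
    exact TopologicalSpace.Opens.ext (Set.eq_univ_of_forall hj))
  open AlgebraicGeometry CategoryTheory in
  have hq : ((algebraMap S (Localization.Away g)).comp γ.toRingHom).QuasiFinite :=
    (HasRingHomProperty.Spec_iff (P := @LocallyQuasiFinite) (φ := CommRingCat.ofHom ((algebraMap S (Localization.Away g)).comp γ.toRingHom))).mp (by
      rw [show CommRingCat.ofHom ((algebraMap S (Localization.Away g)).comp γ.toRingHom) = CommRingCat.ofHom γ.toRingHom ≫ CommRingCat.ofHom (algebraMap S (Localization.Away g)) from rfl, Spec.map_comp]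
      infer_instance)
  exact hq.comp (RingHom.QuasiFinite.of_finite (RingHom.Finite.of_surjective π.toRingHom hπ))

end Groth.Agent.S9175
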