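import Groth.Statements.S9176
import Groth.Agent.H02CA.FibreLocalDim
import Mathlib.RingTheory.Extension.Presentation.Core
import Mathlib.RingTheory.Adjoin.FG

set_option autoImplicit false
universe u
open CAlg

namespace Groth.Agent.S9176

/-- For a ring map R → S of finite presentation and n ≥ 0, the set of primes q of S whose fibre
Spec(κ(p) ⊗ S), p = q ∩ R, has local dimension at most n at the point over q is open and
quasi-compact in Spec S. -/
theorem result (R S : Type u) [CommRing R]
    [CommRing S] [Algebra R S] [Algebra.FinitePresentation R S] (n : ℕ) :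
    IsOpen {q : PrimeSpectrum S | ∀ Q : PrimeSpectrum ((q.asIdeal.under R).Fiber S),
        Q.asIdeal.comap (Algebra.TensorProduct.includeRight.toRingHom) = q.asIdeal →
          FlatMor.localDim (PrimeSpectrum ((q.asIdeal.under R).Fiber S)) Q ≤ (n : WithBot ℕ∞)} ∧
      IsCompact {q : PrimeSpectrum S | ∀ Q : PrimeSpectrum ((q.asIdeal.under R).Fiber S),
        Q.asIdeal.comap (Algebra.TensorProduct.includeRight.toRingHom) = q.asIdeal →
          FlatMor.localDim (PrimeSpectrum ((q.asIdeal.under R).Fiber S)) Q ≤ (n : WithBot ℕ∞)} := by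
  open AlgebraicGeometry CategoryTheory in
  let φ := Spec.map (CommRingCat.ofHom (algebraMap R S))
  open AlgebraicGeometry CategoryTheory in
  haveI : LocallyOfFiniteType φ := (HasRingHomProperty.Spec_iff (P := @LocallyOfFiniteType)).mpr
    (RingHom.finiteType_algebraMap.mpr inferInstance)
  have hset : {q : PrimeSpectrum S | ∀ Q : PrimeSpectrum ((q.asIdeal.under R).Fiber S),
        Q.asIdeal.comap (Algebra.TensorProduct.includeRight.toRingHom) = q.asIdeal →
          FlatMor.localDim (PrimeSpectrum ((q.asIdeal.under R).Fiber S)) Q ≤ (n : WithBot ℕ∞)} =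
      {q : PrimeSpectrum S | FlatMor.fibreDimAt φ q ≤ n} :=
    Set.ext fun q => Groth.Agent.H02CA.forall_localDim_le_iff q _
  rw [hset]
  refine ⟨Groth.Agent.H8Props.FieldDim.isOpen_fibreDimAt_le φ n, ?_⟩
  let P := Algebra.Presentation.ofFinitePresentation R S
  let R₀ := P.Core
  haveI : IsNoetherianRing R₀ := Algebra.FiniteType.isNoetherianRing ℤ R₀
  let S₀ := P.ModelOfHasCoeffs R₀
  haveI : Algebra.FiniteType R₀ S₀ := inferInstance
  haveI : IsNoetherianRing S₀ := Algebra.FiniteType.isNoetherianRing R₀ S₀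
  let e : TensorProduct R₀ R S₀ ≃ₐ[R] S := P.tensorModelOfHasCoeffsEquiv R₀
  let ψ : S₀ →+* S := e.toRingHom.comp (Algebra.TensorProduct.includeRight : S₀ →ₐ[R₀] TensorProduct R₀ R S₀).toRingHom
  open AlgebraicGeometry CategoryTheory in
  let φ₀ := Spec.map (CommRingCat.ofHom (algebraMap R₀ S₀))
  open AlgebraicGeometry CategoryTheory in
  haveI : LocallyOfFiniteType φ₀ := (HasRingHomProperty.Spec_iff (P := @LocallyOfFiniteType)).mpr
    (RingHom.finiteType_algebraMap.mpr inferInstance)
  open AlgebraicGeometry CategoryTheory in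
  have hpo : IsPushout (CommRingCat.ofHom (algebraMap R₀ R)) (CommRingCat.ofHom (algebraMap R₀ S₀))
      (CommRingCat.ofHom (algebraMap R S)) (CommRingCat.ofHom ψ) :=
    (CommRingCat.isPushout_tensorProduct R₀ R S₀).of_iso (Iso.refl _) (Iso.refl _) (Iso.refl _)
      e.toRingEquiv.toCommRingCatIso (by simp) (by simp)
      (by ext r; exact e.commutes r) (by apply CommRingCat.hom_ext; rfl)
  open AlgebraicGeometry CategoryTheory in
  have hsq : IsPullback (Spec.map (CommRingCat.ofHom ψ)) φ φ₀ (Spec.map (CommRingCat.ofHom (algebraMap R₀ R))) :=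
    (isPullback_SpecMap_of_isPushout _ _ _ _ hpo).flip
  haveI : TopologicalSpace.NoetherianSpace (PrimeSpectrum S₀) := inferInstance
  have he : {q : PrimeSpectrum S | FlatMor.fibreDimAt φ q ≤ n} =
      PrimeSpectrum.comap ψ ⁻¹' {w : PrimeSpectrum S₀ | FlatMor.fibreDimAt φ₀ w ≤ n} := by
    ext q
    have h := Groth.Agent.H8Props.FieldDim.fibreDimAt_baseChange φ₀ hsq q
    exact iff_of_eq (congrArg (· ≤ (n : WithBot ℕ∞)) h)
  rw [he]
  open AlgebraicGeometry CategoryTheory in
  exact (Scheme.Hom.isSpectralMap (Spec.map (CommRingCat.ofHom ψ))).isCompact_preimage_of_isOpen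
    (Groth.Agent.H8Props.FieldDim.isOpen_fibreDimAt_le φ₀ n) (TopologicalSpace.NoetherianSpace.isCompact _)

end Groth.Agent.S9176
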