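import Groth.Statements.S9177
import Mathlib

set_option autoImplicit false
universe u
open CAlg

namespace Groth.Agent.S9177

section
open TensorProduct

variable {ι : Type u} [Preorder ι] [Nonempty ι] [IsDirectedOrder ι] {A : Type u} [CommRing A]
  {G : ι → Type u} [∀ i, CommRing (G i)] [∀ i, Algebra A (G i)]
  (φ : ∀ i j, i ≤ j → G i →ₐ[A] G j) {L : Type u} [CommRing L] [Algebra A L] (π : ∀ i, G i →ₐ[A] L)
  (hs : ∀ z, ∃ i x, π i x = z) (hz : ∀ i x, π i x = 0 → ∃ j, ∃ h : i ≤ j, φ i j h x = 0)
  (hφ : ∀ i j k (h : i ≤ j) (h' : j ≤ k) x, φ j k h' (φ i j h x) = φ i k (h.trans h') x)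
  (hπ : ∀ i j (h : i ≤ j) x, π j (φ i j h x) = π i x) (hid : ∀ i x, φ i i (le_refl i) x = x)
  (C : Type u) [AddCommGroup C] [Module A C]

include hs hz hφ hπ hid in
/-- Tensor products with a filtered colimit. -/
theorem tensor_colimit :
    (∀ z : L ⊗[A] C, ∃ i x, (π i).toLinearMap.rTensor C x = z) ∧
      ∀ i (x : G i ⊗[A] C), (π i).toLinearMap.rTensor C x = 0 →
        ∃ j, ∃ h : i ≤ j, (φ i j h).toLinearMap.rTensor C x = 0 := by
  classical
  let f : ∀ i j, i ≤ j → G i →ₗ[A] G j := fun i j h => (φ i j h).toLinearMap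
  haveI : DirectedSystem G (f · · ·) :=
    { map_self := fun i x => hid i x, map_map := fun _ _ _ h h' x => hφ _ _ _ h h' x }
  let q : Module.DirectLimit G f →ₗ[A] L :=
    Module.DirectLimit.lift A ι G f (fun i => (π i).toLinearMap) (fun i j h x => hπ i j h x)
  have hq : ∀ i x, q (Module.DirectLimit.of A ι G f i x) = π i x := fun i x =>
    Module.DirectLimit.lift_of _ _ x
  have hqb : Function.Bijective q := by
    refine ⟨(injective_iff_map_eq_zero q).mpr fun w hw => ?_, fun z => ?_⟩
    · obtain ⟨i, x, rfl⟩ := Module.DirectLimit.exists_of w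
      rw [hq] at hw
      obtain ⟨j, h, hj⟩ := hz i x hw
      rw [← Module.DirectLimit.of_f (hij := h), show f i j h x = 0 from hj, map_zero]
    · obtain ⟨i, x, hx⟩ := hs z
      exact ⟨_, (hq i x).trans hx⟩
  let e := LinearEquiv.ofBijective q hqb
  let E : Module.DirectLimit G f ⊗[A] C ≃ₗ[A] L ⊗[A] C := LinearEquiv.rTensor C e
  have hE : ∀ i x, E ((Module.DirectLimit.of A ι G f i).rTensor C x) = (π i).toLinearMap.rTensor C x := by
    intro i x
    induction x with
    | zero => simp
    | tmul a c =>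
      simp only [E, LinearMap.rTensor_tmul, LinearEquiv.rTensor_tmul]
      exact congrArg (· ⊗ₜ c) (hq i a)
    | add a b ha hb => simp only [map_add, ha, hb]
  have hD : ∀ i x, TensorProduct.directLimitLeft f C ((Module.DirectLimit.of A ι G f i).rTensor C x) =
      Module.DirectLimit.of A ι (G · ⊗[A] C) (fun i j h => (f i j h).rTensor C) i x :=
    fun i x => TensorProduct.directLimitLeft_rTensor_of f C x
  refine ⟨fun z => ?_, fun i x hx => ?_⟩
  · obtain ⟨i, x, hx⟩ := Module.DirectLimit.exists_of (TensorProduct.directLimitLeft f C (E.symm z))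
    rw [← hD, EmbeddingLike.apply_eq_iff_eq] at hx
    exact ⟨i, x, by rw [← hE, hx, LinearEquiv.apply_symm_apply]⟩
  · rw [← hE, LinearEquiv.map_eq_zero_iff] at hx
    have h0 := (hD i x).symm.trans (by rw [hx, map_zero])
    obtain ⟨j, h, hj⟩ := Module.DirectLimit.of.zero_exact h0
    exact ⟨j, h, hj⟩

end

open TensorProduct in
/-- Let R = colim R_i be a directed colimit of A-algebras (compatible transition maps), B and C
A-algebras. (1) If B is of finite type over A, two A-algebra maps B → C whose base changes to R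
coincide already have equal base changes to some R_i. (2) If C is of finite type over A and u : B →
C has surjective base change to R, then its base change to some R_i is surjective. (The A-algebra
structure on R is through any stage R_l; it does not depend on l.) -/
theorem result {ι : Type u} [Preorder ι]
    [Nonempty ι] [IsDirectedOrder ι] (G : ι → Type u) [∀ i, CommRing (G i)]
    (f : ∀ i j, i ≤ j → G i →+* G j) [DirectedSystem G (fun i j h => f i j h)]
    (A : Type u) [CommRing A] [∀ i, Algebra A (G i)]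
    (hf : ∀ i j (h : i ≤ j), (f i j h).comp (algebraMap A (G i)) = algebraMap A (G j)) (l : ι)
    (B C : Type u) [CommRing B] [CommRing C] [Algebra A B] [Algebra A C] :
    letI : Algebra A (Ring.DirectLimit G (fun i j h => f i j h)) :=
      ((Ring.DirectLimit.of G (fun i j h => f i j h) l).comp (algebraMap A (G l))).toAlgebra
    (Algebra.FiniteType A B → ∀ u u' : B →ₐ[A] C,
        Algebra.TensorProduct.map (AlgHom.id A (Ring.DirectLimit G (fun i j h => f i j h))) u =
            Algebra.TensorProduct.map (AlgHom.id A (Ring.DirectLimit G (fun i j h => f i j h))) u' →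
          ∃ i : ι, Algebra.TensorProduct.map (AlgHom.id A (G i)) u =
            Algebra.TensorProduct.map (AlgHom.id A (G i)) u') ∧
      (Algebra.FiniteType A C → ∀ u : B →ₐ[A] C,
        Function.Surjective
            (Algebra.TensorProduct.map (AlgHom.id A (Ring.DirectLimit G (fun i j h => f i j h))) u) →
          ∃ i : ι, Function.Surjective (Algebra.TensorProduct.map (AlgHom.id A (G i)) u)) := by
  classical
  let L := Ring.DirectLimit G (fun i j h => f i j h)
  letI algL : Algebra A L := ((Ring.DirectLimit.of G (fun i j h => f i j h) l).comp (algebraMap A (G l))).toAlgebra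
  let φ : ∀ i j, i ≤ j → G i →ₐ[A] G j := fun i j h =>
    { f i j h with commutes' := fun a => RingHom.congr_fun (hf i j h) a }
  let π : ∀ i, G i →ₐ[A] L := fun i =>
    { Ring.DirectLimit.of G (fun i j h => f i j h) i with
      commutes' := fun a => by
        obtain ⟨j, hij, hlj⟩ := exists_ge_ge i l
        show Ring.DirectLimit.of G (fun i j h => f i j h) i (algebraMap A (G i) a) =
          Ring.DirectLimit.of G (fun i j h => f i j h) l (algebraMap A (G l) a)
        have e1 : f i j hij (algebraMap A (G i) a) = algebraMap A (G j) a := RingHom.congr_fun (hf i j hij) a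
        have e2 : f l j hlj (algebraMap A (G l) a) = algebraMap A (G j) a := RingHom.congr_fun (hf l j hlj) a
        rw [← Ring.DirectLimit.of_f hij (algebraMap A (G i) a), ← Ring.DirectLimit.of_f hlj (algebraMap A (G l) a),
          e1, e2] }
  have hs : ∀ z, ∃ i x, π i x = z := fun z => Ring.DirectLimit.exists_of z
  have hz : ∀ i x, π i x = 0 → ∃ j, ∃ h : i ≤ j, φ i j h x = 0 :=
    fun i x hx => Ring.DirectLimit.of.zero_exact (f' := f) hx
  have hφ : ∀ i j k (h : i ≤ j) (h' : j ≤ k) x, φ j k h' (φ i j h x) = φ i k (h.trans h') x :=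
    fun i j k h h' x => DirectedSystem.map_map' (f := fun i j h => f i j h) h h' x
  have hπ : ∀ i j (h : i ≤ j) x, π j (φ i j h x) = π i x := fun i j h x => Ring.DirectLimit.of_f h x
  have hid : ∀ i x, φ i i (le_refl i) x = x := fun i x => DirectedSystem.map_self' (fun i j h => f i j h) x
  have nat : ∀ (M N : Type u) [CommRing M] [CommRing N] [Algebra A M] [Algebra A N] (u : M →ₐ[A] N)
      (P Q : Type u) [CommRing P] [CommRing Q] [Algebra A P] [Algebra A Q] (g : P →ₐ[A] Q) (x : P ⊗[A] M),
      g.toLinearMap.rTensor N (Algebra.TensorProduct.map (AlgHom.id A P) u x) =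
        Algebra.TensorProduct.map (AlgHom.id A Q) u (g.toLinearMap.rTensor M x) := by
    intro M N _ _ _ _ u P Q _ _ _ _ g x
    induction x with
    | zero => simp
    | tmul a b => simp
    | add a b ha hb => simp only [map_add, ha, hb]
  refine ⟨fun hB u u' h => ?_, fun hC u hu => ?_⟩
  · obtain ⟨T, hT⟩ := Algebra.FiniteType.out (R := A) (A := B)
    obtain ⟨-, hzero⟩ := tensor_colimit φ π hs hz hφ hπ hid C
    have hb : ∀ b : B, ∃ j, ∀ k, j ≤ k → (1 : G k) ⊗ₜ[A] u b = 1 ⊗ₜ u' b := by
      intro b
      obtain ⟨i₀⟩ := (inferInstance : Nonempty ι)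
      have h1 := AlgHom.congr_fun h ((1 : L) ⊗ₜ[A] b)
      rw [Algebra.TensorProduct.map_tmul, Algebra.TensorProduct.map_tmul] at h1
      obtain ⟨j, hij, hj⟩ := hzero i₀ ((1 : G i₀) ⊗ₜ[A] u b - 1 ⊗ₜ u' b) (by
        rw [map_sub, LinearMap.rTensor_tmul, LinearMap.rTensor_tmul, sub_eq_zero]
        simpa using h1)
      rw [map_sub, LinearMap.rTensor_tmul, LinearMap.rTensor_tmul, sub_eq_zero] at hj
      simp only [AlgHom.toLinearMap_apply, map_one] at hj
      refine ⟨j, fun k hjk => ?_⟩
      have := congrArg ((φ j k hjk).toLinearMap.rTensor C) hj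
      simpa using this
    choose J hJ using hb
    obtain ⟨k, hk⟩ := Finset.exists_le (T.image J)
    refine ⟨k, Algebra.TensorProduct.ext (AlgHom.ext fun a => by simp) (AlgHom.ext_of_adjoin_eq_top hT fun b hb => ?_)⟩
    show Algebra.TensorProduct.map (AlgHom.id A (G k)) u (1 ⊗ₜ b) =
      Algebra.TensorProduct.map (AlgHom.id A (G k)) u' (1 ⊗ₜ b)
    rw [Algebra.TensorProduct.map_tmul, Algebra.TensorProduct.map_tmul]
    exact hJ b k (hk _ (Finset.mem_image_of_mem J hb))
  · obtain ⟨T, hT⟩ := Algebra.FiniteType.out (R := A) (A := C)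
    obtain ⟨-, hzero⟩ := tensor_colimit φ π hs hz hφ hπ hid C
    obtain ⟨hsurj, -⟩ := tensor_colimit φ π hs hz hφ hπ hid B
    have hc : ∀ c : C, ∃ j, ∀ k, j ≤ k → (1 : G k) ⊗ₜ[A] c ∈
        (Algebra.TensorProduct.map (AlgHom.id A (G k)) u).range := by
      intro c
      obtain ⟨z, hz'⟩ := hu ((1 : L) ⊗ₜ[A] c)
      obtain ⟨i, x, hx⟩ := hsurj z
      obtain ⟨j, hij, hj⟩ := hzero i
        (Algebra.TensorProduct.map (AlgHom.id A (G i)) u x - 1 ⊗ₜ c) (by
          rw [map_sub, nat, hx, hz', LinearMap.rTensor_tmul, sub_eq_zero]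
          simp)
      rw [map_sub, nat, LinearMap.rTensor_tmul, sub_eq_zero] at hj
      simp only [AlgHom.toLinearMap_apply, map_one] at hj
      refine ⟨j, fun k hjk => ⟨(φ j k hjk).toLinearMap.rTensor B ((φ i j hij).toLinearMap.rTensor B x), ?_⟩⟩
      have h3 := congrArg ((φ j k hjk).toLinearMap.rTensor C) hj
      rw [nat, LinearMap.rTensor_tmul] at h3
      simpa using h3
    choose J hJ using hc
    obtain ⟨k, hk⟩ := Finset.exists_le (T.image J)
    refine ⟨k, fun w => ?_⟩
    induction w with
    | zero => exact ⟨0, map_zero _⟩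
    | add a b ha hb =>
      obtain ⟨a', ha'⟩ := ha
      obtain ⟨b', hb'⟩ := hb
      exact ⟨a' + b', by rw [map_add, ha', hb']⟩
    | tmul g c =>
      have hc : (1 : G k) ⊗ₜ[A] c ∈ (Algebra.TensorProduct.map (AlgHom.id A (G k)) u).range := by
        have : c ∈ Algebra.adjoin A (T : Set C) := hT ▸ trivial
        refine (Algebra.adjoin_le ?_ : Algebra.adjoin A (T : Set C) ≤
          (Algebra.TensorProduct.map (AlgHom.id A (G k)) u).range.comap Algebra.TensorProduct.includeRight) this
        exact fun d hd => hJ d k (hk _ (Finset.mem_image_of_mem J hd))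
      obtain ⟨a, ha⟩ := hc
      refine ⟨(g ⊗ₜ 1) * a, ?_⟩
      rw [map_mul, show Algebra.TensorProduct.map (AlgHom.id A (G k)) u a = 1 ⊗ₜ c from ha]
      simp

end Groth.Agent.S9177
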