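import Groth.Statements.S9178
import Mathlib.RingTheory.Kaehler.Basic
import Mathlib.RingTheory.Ideal.Quotient.ChineseRemainder
import Mathlib.LinearAlgebra.TensorProduct.RightExactness
import Mathlib.LinearAlgebra.TensorProduct.Quotient

set_option autoImplicit false
universe u
open CAlg

namespace Groth.Agent.S9178

/-- For ring maps A → B → C with A → C surjective, writing I = ker(A → C) and J = ker(B → C), the
sequence I/I² → J/J² → C ⊗_B Ω_{B/A} → 0 is exact. Stated: the image of I/I² in J/J² is exactly the
kernel of J/J² → C ⊗_B Ω_{B/A} (surjectivity of the latter map is the standard conormal sequence for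
the surjection B → C). -/
theorem result (A B C : Type u) [CommRing A] [CommRing B]
    [CommRing C] [Algebra A B] [Algebra B C] [Algebra A C] [IsScalarTower A B C]
    (hAC : Function.Surjective (algebraMap A C))
    (h : RingHom.ker (algebraMap A C) ≤ (RingHom.ker (algebraMap B C)).comap (Algebra.ofId A B)) :
    Function.Exact
      (Ideal.mapCotangent (RingHom.ker (algebraMap A C)) (RingHom.ker (algebraMap B C)) (Algebra.ofId A B) h)
      (KaehlerDifferential.kerCotangentToTensor A B C) := by
  classical
  set I := RingHom.ker (algebraMap A C)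
  set J := RingHom.ker (algebraMap B C)
  set ι := Ideal.mapCotangent I J (Algebra.ofId A B) h with hι
  have hmemJ : ∀ a ∈ I, algebraMap A B a ∈ J := fun a ha => h ha
  -- `B` acts on `J/J²` through `C`, so the image is `B`-stable
  let W : Submodule B J.Cotangent :=
    { carrier := Set.range ι
      zero_mem' := ⟨0, map_zero _⟩
      add_mem' := by rintro _ _ ⟨u, rfl⟩ ⟨v, rfl⟩; exact ⟨u + v, map_add _ _ _⟩
      smul_mem' := by
        rintro b _ ⟨u, rfl⟩
        obtain ⟨a, ha⟩ := hAC (algebraMap B C b)
        refine ⟨a • u, ?_⟩
        rw [map_smul, ← algebraMap_smul B a, ← sub_eq_zero, ← sub_smul]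
        have hj : algebraMap A B a - b ∈ J := by
          rw [RingHom.mem_ker, map_sub, ← IsScalarTower.algebraMap_apply, ha, sub_self]
        obtain ⟨w, hw⟩ := J.toCotangent_surjective (ι u)
        rw [← hw, ← map_smul, Ideal.toCotangent_eq_zero, pow_two]
        exact Ideal.mul_mem_mul hj w.2 }
  choose s hs using fun b : B => hAC (algebraMap B C b)
  have hsJ : ∀ b : B, b - algebraMap A B (s b) ∈ J := fun b => by
    rw [RingHom.mem_ker, map_sub, ← IsScalarTower.algebraMap_apply, hs, sub_self]
  let cls : B → J.Cotangent ⧸ W := fun b => Submodule.Quotient.mk (J.toCotangent ⟨_, hsJ b⟩)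
  have hcls : ∀ b a (hj : b - algebraMap A B a ∈ J),
      cls b = Submodule.Quotient.mk (J.toCotangent ⟨_, hj⟩) := by
    intro b a hj
    refine (Submodule.Quotient.eq W).mpr ?_
    rw [← map_sub]
    have ha : a - s b ∈ I := by
      rw [RingHom.mem_ker, map_sub, hs]
      have := RingHom.mem_ker.mp hj
      rw [map_sub, ← IsScalarTower.algebraMap_apply, sub_eq_zero] at this
      rw [this, sub_self]
    refine ⟨I.toCotangent ⟨_, ha⟩, ?_⟩
    rw [hι, Ideal.mapCotangent_toCotangent]
    congr 1
    apply Subtype.ext
    show algebraMap A B (a - s b) = b - algebraMap A B (s b) - (b - algebraMap A B a)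
    rw [map_sub]; ring
  have hkill : ∀ j ∈ J, ∀ z : J.Cotangent ⧸ W, j • z = 0 := by
    intro j hj z
    obtain ⟨w, rfl⟩ := Submodule.Quotient.mk_surjective W z
    obtain ⟨w, rfl⟩ := J.toCotangent_surjective w
    rw [← Submodule.Quotient.mk_smul, ← map_smul, (Ideal.toCotangent_eq_zero J (j • w)).mpr
      (by rw [pow_two]; exact Ideal.mul_mem_mul hj w.2), Submodule.Quotient.mk_zero]
  let δlin : B →ₗ[A] J.Cotangent ⧸ W :=
    { toFun := cls
      map_add' := fun x y => by
        rw [hcls (x + y) (s x + s y) (by rw [map_add, add_sub_add_comm]; exact add_mem (hsJ x) (hsJ y)),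
          ← Submodule.Quotient.mk_add, ← LinearMap.map_add J.toCotangent]
        congr 2
        apply Subtype.ext
        show x + y - algebraMap A B (s x + s y) = _
        rw [map_add, add_sub_add_comm]; rfl
      map_smul' := fun c x => by
        rw [RingHom.id_apply, hcls (c • x) (c * s x) (by
          rw [map_mul, Algebra.smul_def, ← mul_sub]; exact J.mul_mem_left _ (hsJ x)),
          ← algebraMap_smul B c (cls x), ← Submodule.Quotient.mk_smul, ← map_smul]
        congr 2
        apply Subtype.ext
        show c • x - algebraMap A B (c * s x) = algebraMap A B c * (x - algebraMap A B (s x))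
        rw [map_mul, Algebra.smul_def, mul_sub] }
  let δ : Derivation A B (J.Cotangent ⧸ W) :=
    Derivation.mk' δlin fun x y => by
      show cls (x * y) = x • cls y + y • cls x
      rw [hcls (x * y) (s x * s y) (by
        rw [map_mul, show x * y - algebraMap A B (s x) * algebraMap A B (s y)
          = x * (y - algebraMap A B (s y)) + algebraMap A B (s y) * (x - algebraMap A B (s x)) by ring]
        exact add_mem (J.mul_mem_left _ (hsJ y)) (J.mul_mem_left _ (hsJ x)))]
      have e : y • cls x = algebraMap A B (s y) • cls x := by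
        rw [← sub_eq_zero, ← sub_smul, hkill _ (hsJ y)]
      rw [e, ← Submodule.Quotient.mk_smul, ← Submodule.Quotient.mk_smul, ← Submodule.Quotient.mk_add,
        ← map_smul, ← map_smul, ← LinearMap.map_add J.toCotangent]
      congr 2
      apply Subtype.ext
      show x * y - algebraMap A B (s x * s y)
          = x * (y - algebraMap A B (s y)) + algebraMap A B (s y) * (x - algebraMap A B (s x))
      rw [map_mul]; ring
  intro z
  constructor
  · intro hz
    obtain ⟨j, rfl⟩ := J.toCotangent_surjective z
    rw [KaehlerDifferential.kerCotangentToTensor_toCotangent] at hz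
    have hsurj : Function.Surjective (Algebra.linearMap B C) := fun c => by
      obtain ⟨a, rfl⟩ := hAC c
      exact ⟨algebraMap A B a, (IsScalarTower.algebraMap_apply A B C a).symm⟩
    have hω : KaehlerDifferential.D A B j.1 ∈ (J • ⊤ : Submodule B (Ω[B⁄A])) := by
      have hex : Function.Exact J.subtype (Algebra.linearMap B C) := fun b =>
        ⟨fun hb => ⟨⟨b, hb⟩, rfl⟩, fun ⟨c, hc⟩ => hc ▸ c.2⟩
      obtain ⟨t, ht⟩ := (rTensor_exact (Ω[B⁄A]) hex hsurj ((1 : B) ⊗ₜ[B] KaehlerDifferential.D A B j.1)).mp
        (by rw [LinearMap.rTensor_tmul, Algebra.linearMap_apply, map_one]; exact hz)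
      have h2 := congr_arg (TensorProduct.lid B (Ω[B⁄A])) ht
      rw [TensorProduct.lid_tmul, one_smul] at h2
      rw [← h2]
      clear ht h2
      induction t using TensorProduct.induction_on with
      | zero => simp
      | tmul c ω => simpa using Submodule.smul_mem_smul c.2 Submodule.mem_top
      | add a b ha hb => rw [map_add, map_add]; exact add_mem ha hb
    have h0 : δ.liftKaehlerDifferential (KaehlerDifferential.D A B j.1) = 0 := by
      refine Submodule.smul_induction_on hω (fun r hr ω _ => ?_) (fun a b ha hb => ?_)
      · rw [map_smul, hkill r hr]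
      · rw [map_add, ha, hb, add_zero]
    rw [Derivation.liftKaehlerDifferential_comp_D] at h0
    have h1 : cls j.1 = 0 := h0
    rw [hcls j.1 0 (by rw [map_zero, sub_zero]; exact j.2), Submodule.Quotient.mk_eq_zero] at h1
    simp only [map_zero, sub_zero] at h1
    exact h1
  · rintro ⟨u, rfl⟩
    obtain ⟨a, rfl⟩ := I.toCotangent_surjective u
    rw [hι, Ideal.mapCotangent_toCotangent, KaehlerDifferential.kerCotangentToTensor_toCotangent]
    show (1 : C) ⊗ₜ[B] KaehlerDifferential.D A B (algebraMap A B a.1) = 0
    rw [Derivation.map_algebraMap, TensorProduct.tmul_zero]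

end Groth.Agent.S9178
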