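import Groth.Statements.S9179
import Mathlib.RingTheory.MvPolynomial.Basic
import Mathlib.RingTheory.FinitePresentation
import Mathlib.Algebra.Category.Ring.FilteredColimits
import Mathlib.CategoryTheory.Limits.Types.Filtered
import Mathlib.CategoryTheory.Limits.Constructions.Over.Connected
import Mathlib.CategoryTheory.Filtered.Connected

set_option autoImplicit false
universe u
open CategoryTheory CategoryTheory.Limits
open CAlg

namespace Groth.Agent.S9179

section
open CategoryTheory CategoryTheory.Limits

variable {A B P : Type u} [CommRing A] [CommRing B] [CommRing P] [Algebra A B] [Algebra A P]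
variable (π : P →ₐ[A] B)

/-- Finite sets of relations. -/
abbrev Idx : Type u := {G : Finset P // ∀ g ∈ G, π g = 0}

/-- A stage: finitely many relations imposed. -/
abbrev Stage (G : Idx π) : Type u := P ⧸ Ideal.span (G.1 : Set P)

/-- Transition maps. -/
noncomputable def trans {G H : Idx π} (h : G ≤ H) : Stage π G →ₐ[A] Stage π H :=
  Ideal.Quotient.factorₐ A (Ideal.span_mono (Finset.coe_subset.mpr h))

/-- The map to the limit. -/
noncomputable def toB (G : Idx π) : Stage π G →ₐ[A] B :=
  have hI : ∀ a ∈ Ideal.span (G.1 : Set P), π a = 0 := fun a ha =>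
    (Ideal.span_le.mpr (fun g hg => G.2 g hg) : Ideal.span (G.1 : Set P) ≤ RingHom.ker π) ha
  Ideal.Quotient.liftₐ _ π hI

/-- The system. -/
noncomputable def system : Idx π ⥤ Under (CommRingCat.of A) where
  obj G := Under.mk (CommRingCat.ofHom (algebraMap A (Stage π G)))
  map {i j} h := Under.homMk (CommRingCat.ofHom (trans π h.le).toRingHom) (by
    ext a; exact (trans π h.le).commutes a)
  map_id i := by
    ext x
    obtain ⟨x, rfl⟩ := Ideal.Quotient.mk_surjective x
    rfl
  map_comp {i j k} h h' := by
    ext x
    obtain ⟨x, rfl⟩ := Ideal.Quotient.mk_surjective x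
    rfl

/-- The cocone. -/
noncomputable def cocone : Cocone (system π) where
  pt := Under.mk (CommRingCat.ofHom (algebraMap A B))
  ι :=
    { app := fun i => Under.homMk (CommRingCat.ofHom (toB π i).toRingHom) (by
        ext a; exact (toB π i).commutes a)
      naturality := fun i j h => by
        ext x
        obtain ⟨x, rfl⟩ := Ideal.Quotient.mk_surjective x
        rfl }

theorem isColimit (hπ : Function.Surjective π) :
    IsFiltered (Idx π) ∧ Nonempty (IsColimit (cocone π)) := by
  classical
  have : IsDirectedOrder (Idx π) := ⟨fun i j => ⟨⟨i.1 ∪ j.1, fun g hg => (Finset.mem_union.mp hg).elim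
    (i.2 g) (j.2 g)⟩, Finset.subset_union_left, Finset.subset_union_right⟩⟩
  have : Nonempty (Idx π) := ⟨⟨∅, by simp⟩⟩
  have hf : IsFiltered (Idx π) := inferInstance
  have : IsConnected (Idx π) := IsFiltered.isConnected _
  have : ReflectsColimitsOfShape (Idx π) (forget CommRingCat.{u}) :=
    reflectsColimitsOfShape_of_reflectsIsomorphisms
  refine ⟨hf, ⟨isColimitOfReflects (Under.forget _) (isColimitOfReflects (forget CommRingCat) ?_)⟩⟩
  refine Types.FilteredColimit.isColimitOf' _ _ ?_ ?_
  · intro (b : B)
    obtain ⟨p, hp⟩ := hπ b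
    exact ⟨⟨∅, by simp⟩, (Ideal.Quotient.mk _ p : Stage π ⟨∅, by simp⟩), hp.symm⟩
  · intro i (x : Stage π i) (y : Stage π i) (hxy : toB π i x = toB π i y)
    obtain ⟨p, hp⟩ := Ideal.Quotient.mk_surjective (x - y)
    have hp0 : π p = 0 := by
      have : toB π i (Ideal.Quotient.mk _ p) = 0 := by rw [hp, map_sub, hxy, sub_self]
      exact this
    let k : Idx π := ⟨i.1 ∪ {p}, fun g hg => (Finset.mem_union.mp hg).elim (i.2 g)
      fun h => by rw [Finset.mem_singleton] at h; rw [h]; exact hp0⟩
    have hik : i ≤ k := Finset.subset_union_left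
    refine ⟨k, homOfLE hik, ?_⟩
    show trans π hik x = trans π hik y
    rw [← sub_eq_zero, ← map_sub, ← hp]
    exact Ideal.Quotient.eq_zero_iff_mem.mpr
      (Ideal.subset_span (Finset.mem_coe.mpr (Finset.mem_union_right _ (Finset.mem_singleton_self _))))

end

/-- An R-algebra of finite type is the colimit of a filtered system of finitely presented R-algebras
whose transition maps are all surjective. -/
theorem result (R A : Type u) [CommRing R] [CommRing A]
    [Algebra R A] [Algebra.FiniteType R A] :
    ∃ (I : Type u) (_ : SmallCategory I) (_ : IsFiltered I) (D : I ⥤ Under (CommRingCat.of R))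
      (c : Cocone D) (_ : IsColimit c),
      (∀ i, (D.obj i).hom.hom.FinitePresentation) ∧
      (∀ (i j : I) (φ : i ⟶ j), Function.Surjective (D.map φ).right.hom) ∧
      Nonempty (c.pt ≅ Under.mk (CommRingCat.ofHom (algebraMap R A))) := by
  obtain ⟨n, π, hπ⟩ := Algebra.FiniteType.iff_quotient_mvPolynomial''.mp
    (inferInstance : Algebra.FiniteType R A)
  let π' : MvPolynomial (ULift.{u} (Fin n)) R →ₐ[R] A :=
    π.comp (MvPolynomial.rename ULift.down)
  have hπ' : Function.Surjective π' :=
    hπ.comp (MvPolynomial.renameEquiv R Equiv.ulift).surjective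
  obtain ⟨hf, ⟨hc⟩⟩ := isColimit π' hπ'
  refine ⟨Idx π', inferInstance, hf, system π', cocone π', hc, fun G => ?_, fun i j φ => ?_,
    ⟨Iso.refl _⟩⟩
  · exact RingHom.finitePresentation_algebraMap.mpr
      (Algebra.FinitePresentation.quotient (R := R) (Submodule.fg_span G.1.finite_toSet))
  · exact Ideal.Quotient.factor_surjective (Ideal.span_mono (Finset.coe_subset.mpr φ.le))

end Groth.Agent.S9179
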