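import Groth.Statements.S9180
import Groth.Agent.H05EGA4.FormalCatenary
import Groth.Agent.H1CAlg.LocalDim
import Groth.Agent.H8Props.FlatDepth

set_option autoImplicit false
universe u
open CAlg

namespace Groth.Agent.S9180
open TensorProduct in
theorem fib_formula (k S K : Type u) [Field k] [CommRing S] [Algebra k S] [Algebra.FiniteType k S]
    [Field K] [Algebra k K] (q : Ideal S) [q.IsPrime] (P : Ideal (S ⊗[k] K)) [P.IsPrime] [P.LiesOver q] :
    ringKrullDim (EGA4.FibLocRing S (S ⊗[k] K) P) + ringKrullDim ((S ⊗[k] K) ⧸ P) = ringKrullDim (S ⧸ q) ∧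
    ∀ rK : ℕ, (letI : Algebra K (S ⊗[k] K) := Algebra.TensorProduct.rightAlgebra
      Algebra.trdeg K P.ResidueField = rK) → ringKrullDim ((S ⊗[k] K) ⧸ P) = (rK : WithBot ℕ∞) := by
  letI : Algebra K (S ⊗[k] K) := Algebra.TensorProduct.rightAlgebra
  haveI : Algebra.FiniteType k (S ⧸ q) := Algebra.FiniteType.trans (R := k) (S := S) inferInstance inferInstance
  let A := S ⧸ q
  let E := K ⊗[k] A
  let c : S ⊗[k] K ≃ₐ[K] K ⊗[k] S := AlgEquiv.ofRingEquiv
    (f := (Algebra.TensorProduct.comm k S K).toRingEquiv) (fun x => by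
      show Algebra.TensorProduct.comm k S K ((1 : S) ⊗ₜ[k] x) = x ⊗ₜ[k] (1 : S); simp)
  haveI : Algebra.FiniteType K (S ⊗[k] K) := Algebra.FiniteType.equiv (A := K ⊗[k] S) inferInstance c.symm
  refine ⟨?_, fun rK hrK => Groth.Agent.H1CAlg.dim_quotient_eq_trdeg (k := K) P rK hrK⟩
  let I : Ideal (S ⊗[k] K) := q.map (algebraMap S (S ⊗[k] K))
  let π : S ⊗[k] K →+* E :=
    (Algebra.TensorProduct.map (AlgHom.id k K) (Ideal.Quotient.mkₐ k q)).toRingHom.comp
      (Algebra.TensorProduct.comm k S K).toRingEquiv.toRingHom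
  have hπs : Function.Surjective π := (LinearMap.lTensor_surjective K
    (g := (Ideal.Quotient.mkₐ k q).toLinearMap) Ideal.Quotient.mk_surjective).comp
      (Algebra.TensorProduct.comm k S K).surjective
  have hker : RingHom.ker π = I := by
    rw [← RingHom.comap_ker]
    show Ideal.comap (Algebra.TensorProduct.comm k S K).toRingEquiv (RingHom.ker (Algebra.TensorProduct.map (AlgHom.id k K) (Ideal.Quotient.mkₐ k q))) = I
    rw [Algebra.TensorProduct.lTensor_ker (Ideal.Quotient.mkₐ k q) Ideal.Quotient.mk_surjective,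
      ← Ideal.map_symm, ← Ideal.map_coe (Algebra.TensorProduct.comm k S K).toRingEquiv.symm,
      ← Ideal.map_coe (Algebra.TensorProduct.includeRight : S →ₐ[k] K ⊗[k] S), Ideal.map_map]
    show Ideal.map _ (RingHom.ker (Ideal.Quotient.mk q)) = I
    rw [Ideal.mk_ker]
    congr 1
  have hIP : I ≤ P := Ideal.map_le_iff_le_comap.mpr (P.over_def q).le
  let PE := P.map π
  haveI : PE.IsPrime := Ideal.map_isPrime_of_surjective hπs (hker.le.trans hIP)
  have hPE : PE.comap π = P := by
    rw [Ideal.comap_map_of_surjective' _ hπs, hker, sup_eq_left.mpr hIP]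
  have hfib : ringKrullDim (EGA4.FibLocRing S (S ⊗[k] K) P) = PE.height := by
    have h1 : EGA4.FibLocRing S (S ⊗[k] K) P =
        (Localization.AtPrime P ⧸ (P.comap (algebraMap S (S ⊗[k] K))).map (algebraMap S (Localization.AtPrime P))) := rfl
    have h2 : (P.comap (algebraMap S (S ⊗[k] K))).map (algebraMap S (Localization.AtPrime P)) = I.map (algebraMap (S ⊗[k] K) (Localization.AtPrime P)) := by
      rw [show P.comap (algebraMap S (S ⊗[k] K)) = q from (P.over_def q).symm, Ideal.map_map, ← IsScalarTower.algebraMap_eq]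
    rw [ringKrullDim_eq_of_ringEquiv (Ideal.quotEquivOfEq h2 : EGA4.FibLocRing S (S ⊗[k] K) P ≃+* _),
      Groth.Agent.H05EGA4.ringKrullDim_localization_quotient hIP]
    let ψ : (S ⊗[k] K) ⧸ I ≃+* E := (Ideal.quotEquivOfEq hker.symm).trans (RingHom.quotientKerEquivOfSurjective hπs)
    rw [← RingEquiv.height_map ψ, ← Ideal.map_coe ψ, Ideal.map_map]
    rfl
  haveI : Algebra.FiniteType K E := inferInstance
  have hquot : ringKrullDim ((S ⊗[k] K) ⧸ P) = ringKrullDim (E ⧸ PE) := by
    refine ringKrullDim_eq_of_ringEquiv (RingEquiv.ofBijective (Ideal.quotientMap PE π hPE.ge)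
      ⟨Ideal.quotientMap_injective' (H := hPE.ge) hPE.le, Ideal.quotientMap_surjective hπs⟩)
  rw [hfib, hquot, Groth.Agent.H8Props.FieldDim.height_add_dim_quotient_eq_iSup (k := K) E ⟨PE, inferInstance⟩]
  refine le_antisymm (iSup_le fun w => ?_) ?_
  · obtain ⟨m, hm, hle⟩ := Ideal.exists_minimalPrimes_le (I := (⊥ : Ideal E)) (J := w.1.asIdeal) bot_le
    rw [← Groth.Agent.H8Props.FieldDim.dim_quotient_minimalPrimes k K m hm]
    exact ringKrullDim_le_of_surjective _ (Ideal.Quotient.factor_surjective hle)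
  · obtain ⟨m, hm, hle⟩ := Ideal.exists_minimalPrimes_le (I := (⊥ : Ideal E)) (J := PE) bot_le
    rw [← Groth.Agent.H8Props.FieldDim.dim_quotient_minimalPrimes k K m hm]
    exact le_iSup_of_le ⟨⟨m, hm.1.1⟩, hle⟩ le_rfl


open TensorProduct in
/-- Let S be of finite type over a field k, K an extension field of k, S_K = S ⊗_k K, q a prime of S
whose residue field has transcendence degree r over k, and q_K a prime of S_K lying over q whose
residue field has transcendence degree r_K over K. Then the local ring at q_K of the fibre of S →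
S_K over q has dimension dim (S_K)_{q_K} − dim S_q = r − r_K (stated additively), and there is a
prime of S_K over q for which this dimension is zero. -/
theorem result (k S K : Type u) [Field k] [CommRing S] [Algebra k S]
    [Algebra.FiniteType k S] [Field K] [Algebra k K] (q : Ideal S) [q.IsPrime] (r : ℕ)
    (hr : Algebra.trdeg k q.ResidueField = r) (qK : Ideal (S ⊗[k] K)) [qK.IsPrime] [qK.LiesOver q]
    (rK : ℕ)
    (hrK : letI : Algebra K (S ⊗[k] K) := Algebra.TensorProduct.rightAlgebra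
      Algebra.trdeg K qK.ResidueField = rK) :
    ringKrullDim (EGA4.FibLocRing S (S ⊗[k] K) qK) + ringKrullDim (Localization.AtPrime q) =
        ringKrullDim (Localization.AtPrime qK) ∧
      ringKrullDim (EGA4.FibLocRing S (S ⊗[k] K) qK) + (rK : WithBot ℕ∞) = (r : WithBot ℕ∞) ∧
      ∃ (q' : Ideal (S ⊗[k] K)) (_ : q'.IsPrime), q'.LiesOver q ∧
        ringKrullDim (EGA4.FibLocRing S (S ⊗[k] K) q') = 0 := by
  letI : Algebra K (S ⊗[k] K) := Algebra.TensorProduct.rightAlgebra
  obtain ⟨h1, h2⟩ := fib_formula k S K q qK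
  have hr' := Groth.Agent.H1CAlg.dim_quotient_eq_trdeg (k := k) q r hr
  rw [h2 rK hrK, hr'] at h1
  refine ⟨?_, h1, ?_⟩
  · haveI : IsNoetherianRing S := Algebra.FiniteType.isNoetherianRing k S
    let c : S ⊗[k] K ≃ₐ[K] K ⊗[k] S := AlgEquiv.ofRingEquiv
      (f := (Algebra.TensorProduct.comm k S K).toRingEquiv) (fun x => by
        show Algebra.TensorProduct.comm k S K ((1 : S) ⊗ₜ[k] x) = x ⊗ₜ[k] (1 : S); simp)
    haveI : Algebra.FiniteType K (S ⊗[k] K) := Algebra.FiniteType.equiv (A := K ⊗[k] S) inferInstance c.symm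
    haveI : IsNoetherianRing (S ⊗[k] K) := Algebra.FiniteType.isNoetherianRing K _
    letI := Localization.AtPrime.algebraOfLiesOver q qK
    haveI : Module.Flat (Localization.AtPrime q) (Localization.AtPrime qK) := by
      have : Module.Flat S (Localization.AtPrime qK) := Module.Flat.trans S (S ⊗[k] K) _
      exact (Module.flat_iff_of_isLocalization (Localization.AtPrime q) q.primeCompl _).mpr this
    rw [Groth.Agent.H8Props.FlatDepth.ringKrullDim_eq_add (A := Localization.AtPrime q) (B := Localization.AtPrime qK), add_comm]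
    congr 1
    refine ringKrullDim_eq_of_ringEquiv (Ideal.quotEquivOfEq ?_)
    rw [← IsLocalization.AtPrime.map_eq_maximalIdeal q (Localization.AtPrime q), Ideal.map_map,
      ← IsScalarTower.algebraMap_eq, ← Ideal.under_def, ← qK.over_def q]
  · let A := S ⧸ q
    obtain ⟨Q, hQ⟩ : ∃ Q : Ideal (S ⊗[k] K), Q ∈ (q.map (algebraMap S (S ⊗[k] K))).minimalPrimes ∧ Q ≤ qK := by
      obtain ⟨Q, hQ, hle⟩ := Ideal.exists_minimalPrimes_le (Ideal.map_le_iff_le_comap.mpr (qK.over_def q).le)
      exact ⟨Q, hQ, hle⟩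
    haveI := hQ.1.1.1
    haveI : Q.LiesOver q := ⟨le_antisymm (Ideal.map_le_iff_le_comap.mp hQ.1.1.2)
      ((Ideal.comap_mono hQ.2).trans (qK.over_def q).ge)⟩
    refine ⟨Q, inferInstance, inferInstance, ?_⟩
    have hI : (Q.comap (algebraMap S (S ⊗[k] K))).map (algebraMap S (Localization.AtPrime Q)) =
        (q.map (algebraMap S (S ⊗[k] K))).map (algebraMap (S ⊗[k] K) (Localization.AtPrime Q)) := by
      rw [← Ideal.under_def, ← Q.over_def q, Ideal.map_map, ← IsScalarTower.algebraMap_eq]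
    rw [ringKrullDim_eq_of_ringEquiv (Ideal.quotEquivOfEq hI : EGA4.FibLocRing S (S ⊗[k] K) Q ≃+* _),
      Groth.Agent.H05EGA4.ringKrullDim_localization_quotient hQ.1.1.2]
    have hmin : Q.map (Ideal.Quotient.mk (q.map (algebraMap S (S ⊗[k] K)))) ∈ minimalPrimes ((S ⊗[k] K) ⧸ q.map (algebraMap S (S ⊗[k] K))) := by
      rw [Ideal.minimalPrimes_eq_comap] at hQ
      obtain ⟨m, hm, hmQ⟩ := hQ.1
      rw [← hmQ, Ideal.map_comap_of_surjective _ Ideal.Quotient.mk_surjective]
      exact hm
    haveI := hmin.1.1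
    rw [Ideal.height_eq_zero_iff.mpr hmin]
    rfl

end Groth.Agent.S9180
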