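import Groth.Statements.S9181
import Groth.Agent.S9174
import Mathlib.RingTheory.ZariskisMainTheorem

set_option autoImplicit false
universe u
open CAlg

namespace Groth.Agent.S9181

section
open IsLocalRing MvPolynomial

variable {R S : Type u} [CommRing R] [CommRing S] [Algebra R S]

/-- Elements of a residue field are algebraic over any subring containing the image of the ring. -/
theorem isAlgebraic_residueField (q : Ideal S) [q.IsPrime] (U : Type u) [CommRing U] [IsDomain U]
    [Algebra U q.ResidueField]
    (h : ∀ x : S, ∃ u : U, algebraMap U q.ResidueField u = algebraMap S q.ResidueField x) :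
    Algebra.IsAlgebraic U q.ResidueField := by
  refine ⟨fun z => ?_⟩
  obtain ⟨a, b, -, rfl⟩ := IsFractionRing.div_surjective (S ⧸ q) z
  obtain ⟨a, rfl⟩ := Ideal.Quotient.mk_surjective a
  obtain ⟨b, rfl⟩ := Ideal.Quotient.mk_surjective b
  have hi : ∀ x : S, IsAlgebraic U (algebraMap (S ⧸ q) q.ResidueField (Ideal.Quotient.mk q x)) := fun x => by
    obtain ⟨u, hu⟩ := h x
    rw [show algebraMap (S ⧸ q) q.ResidueField (Ideal.Quotient.mk q x) = algebraMap S q.ResidueField x from
      (IsScalarTower.algebraMap_apply S (S ⧸ q) q.ResidueField x).symm, ← hu]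
    exact isAlgebraic_algebraMap u
  rw [div_eq_mul_inv]
  exact (hi a).mul (hi b).inv

/-- The transcendence degree of a point of a fibre, a transcendence basis from the ring, and the dimension
of the local ring of the fibre. -/
theorem exists_basis_and_dim [Algebra.FiniteType R S] (p : Ideal R) [p.IsPrime] (q : Ideal S) [q.IsPrime]
    [q.LiesOver p] [Algebra (Localization.AtPrime p) (Localization.AtPrime q)]
    [Localization.AtPrime.IsLiesOverAlgebra p q] (Q : PrimeSpectrum (p.Fiber S))
    (hQ : Q.asIdeal.comap (Algebra.TensorProduct.includeRight.toRingHom) = q) (n r : ℕ)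
    (hdim : FlatMor.localDim (PrimeSpectrum (p.Fiber S)) Q = (n : WithBot ℕ∞))
    (hr : Algebra.trdeg p.ResidueField q.ResidueField = r) :
    ∃ (t : Fin r → S) (m : ℕ), m + r = n ∧ IsNoetherianRing (EGA4.FibLocRing R S q) ∧
      IsLocalRing (EGA4.FibLocRing R S q) ∧ ringKrullDim (EGA4.FibLocRing R S q) = (m : WithBot ℕ∞) ∧
      AlgebraicIndependent p.ResidueField (fun i => algebraMap S q.ResidueField (t i)) ∧
      Algebra.IsAlgebraic (Algebra.adjoin p.ResidueField (Set.range fun i => algebraMap S q.ResidueField (t i)))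
        q.ResidueField := by
  classical
  let K := p.ResidueField
  let ι : p.Fiber S →ₐ[K] q.ResidueField :=
    Algebra.TensorProduct.lift (Algebra.ofId K q.ResidueField) (IsScalarTower.toAlgHom R S q.ResidueField)
      fun _ _ => Commute.all _ _
  have hι : ∀ s, ι (Algebra.TensorProduct.includeRight s) = algebraMap S q.ResidueField s := fun s => by
    simp [ι]
  let P : PrimeSpectrum (p.Fiber S) := ⟨RingHom.ker ι.toRingHom, RingHom.ker_isPrime _⟩
  have hPQ : P = Q := by
    apply (PrimeSpectrum.preimageEquivFiber R S ⟨p, inferInstance⟩).symm.injective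
    apply Subtype.ext
    apply PrimeSpectrum.ext
    show Ideal.comap _ P.asIdeal = Ideal.comap _ Q.asIdeal
    refine Eq.trans ?_ hQ.symm
    refine Ideal.ext fun s => ?_
    show ι (Algebra.TensorProduct.includeRight s) = 0 ↔ _
    rw [hι, Ideal.algebraMap_residueField_eq_zero]
  subst hPQ
  let ιD : (p.Fiber S ⧸ P.asIdeal) →ₐ[K] q.ResidueField := Ideal.kerLiftAlg ι
  have hιD : Function.Injective ιD := Ideal.kerLiftAlg_injective ι
  haveI : P.asIdeal.IsPrime := P.2
  haveI : IsDomain (p.Fiber S ⧸ P.asIdeal) := Ideal.Quotient.isDomain P.asIdeal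
  letI : Algebra (p.Fiber S ⧸ P.asIdeal) q.ResidueField := ιD.toRingHom.toAlgebra
  haveI : IsScalarTower K (p.Fiber S ⧸ P.asIdeal) q.ResidueField :=
    IsScalarTower.of_algebraMap_eq (R := K) (S := p.Fiber S ⧸ P.asIdeal) (A := q.ResidueField) fun c => (ιD.commutes c).symm
  haveI : FaithfulSMul (p.Fiber S ⧸ P.asIdeal) q.ResidueField :=
    (faithfulSMul_iff_algebraMap_injective _ _).2 hιD
  haveI : Algebra.IsAlgebraic (p.Fiber S ⧸ P.asIdeal) q.ResidueField :=
    isAlgebraic_residueField q _ fun x => ⟨Ideal.Quotient.mk _ (Algebra.TensorProduct.includeRight x), hι x⟩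
  haveI : Algebra.FiniteType K (p.Fiber S ⧸ P.asIdeal) :=
    Algebra.FiniteType.of_surjective (Ideal.Quotient.mkₐ K P.asIdeal) Ideal.Quotient.mk_surjective
  obtain ⟨s, hs, hst⟩ := Groth.Agent.H8Props.FieldDim.exists_dim_trdeg K (p.Fiber S ⧸ P.asIdeal)
  have hsr : s = r := by
    have h := trdeg_add_eq K (p.Fiber S ⧸ P.asIdeal) (A := q.ResidueField)
    rw [hst, trdeg_eq_zero, add_zero, hr] at h
    exact_mod_cast h
  -- the basis
  let T : Set q.ResidueField := Set.range (algebraMap S q.ResidueField)
  haveI : Algebra.IsAlgebraic (Algebra.adjoin K T) q.ResidueField :=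
    isAlgebraic_residueField q _ fun x => ⟨⟨_, Algebra.subset_adjoin ⟨x, rfl⟩⟩, rfl⟩
  obtain ⟨u, huT, hu⟩ := exists_isTranscendenceBasis_subset (R := K) T
  have hcard : Cardinal.mk u = r := hu.cardinalMk_eq_trdeg.trans hr
  obtain ⟨e⟩ : Nonempty (Fin r ≃ u) := Cardinal.lift_mk_eq'.1 (by simp [hcard])
  choose t ht using fun i : Fin r => huT (e i).2
  have htu : (fun i => algebraMap S q.ResidueField (t i)) = ((↑) : u → q.ResidueField) ∘ e := funext ht
  -- the dimension
  have hp : q.comap (algebraMap R S) = p := ((Ideal.liesOver_iff q p).mp inferInstance).symm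
  obtain ⟨eC⟩ : Nonempty (Localization.AtPrime P.asIdeal ≃+* EGA4.FibLocRing R S q) :=
    Groth.Agent.S9174.nonempty_fibLocRing_equiv ⟨p, inferInstance⟩ P ⟨q, inferInstance⟩ hQ hp
  haveI : IsNoetherianRing (p.Fiber S) := Algebra.FiniteType.isNoetherianRing K _
  haveI : IsNoetherianRing (Localization.AtPrime P.asIdeal) :=
    IsLocalization.isNoetherianRing P.asIdeal.primeCompl _ inferInstance
  haveI hC : IsLocalRing (EGA4.FibLocRing R S q) := eC.isLocalRing
  haveI hN : IsNoetherianRing (EGA4.FibLocRing R S q) := isNoetherianRing_of_ringEquiv _ eC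
  rw [Groth.Agent.H1CAlg.localDim_spec_eq_height_add (k := K), hs, hsr,
    ← IsLocalization.AtPrime.ringKrullDim_eq_height P.asIdeal (Localization.AtPrime P.asIdeal),
    ringKrullDim_eq_of_ringEquiv eC] at hdim
  obtain ⟨m, hm⟩ : ∃ m : ℕ, ringKrullDim (EGA4.FibLocRing R S q) = (m : WithBot ℕ∞) := by
    rw [← IsLocalRing.maximalIdeal_height_eq_ringKrullDim]
    exact ⟨(maximalIdeal (EGA4.FibLocRing R S q)).height.toNat,
      congrArg _ (ENat.natCast_toNat (Ideal.height_ne_top (Ideal.IsPrime.ne_top'))).symm⟩
  refine ⟨t, m, ?_, hN, hC, hm, ?_, ?_⟩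
  · rw [hm] at hdim
    exact_mod_cast hdim
  · rw [htu]
    exact hu.1.comp _ e.injective
  · rw [htu, Set.range_comp, e.range_eq_univ, Set.image_univ]
    exact hu.isAlgebraic

/-- Parameters of the local ring of the fibre, taken from the prime. -/
theorem exists_parameters (q : Ideal S) [q.IsPrime] [IsNoetherianRing (EGA4.FibLocRing R S q)]
    [IsLocalRing (EGA4.FibLocRing R S q)] (m : ℕ)
    (hm : ringKrullDim (EGA4.FibLocRing R S q) = (m : WithBot ℕ∞)) :
    ∃ a : Fin m → S, (∀ j, a j ∈ q) ∧ ∀ 𝔮 : Ideal (Localization.AtPrime q), 𝔮.IsPrime →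
      (q.comap (algebraMap R S)).map (algebraMap R (Localization.AtPrime q)) ≤ 𝔮 →
      (∀ j, algebraMap S (Localization.AtPrime q) (a j) ∈ 𝔮) → 𝔮 = maximalIdeal (Localization.AtPrime q) := by
  classical
  let B := Localization.AtPrime q
  let C := EGA4.FibLocRing R S q
  let π : B →+* C := Ideal.Quotient.mk _
  have hπ : Function.Surjective π := Ideal.Quotient.mk_surjective
  haveI : IsLocalHom π := IsLocalHom.of_surjective _ hπ
  obtain ⟨s, hs, hsc⟩ := Ideal.exists_finset_card_eq_height_of_isNoetherianRing (maximalIdeal C)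
  have hsm : s.card = m := by
    have h : ((maximalIdeal C).height : WithBot ℕ∞) = (m : WithBot ℕ∞) :=
      IsLocalRing.maximalIdeal_height_eq_ringKrullDim.trans hm
    rw [← hsc] at h
    exact_mod_cast h
  let e : Fin m ≃ s := (s.equivFinOfCardEq hsm).symm
  have key : ∀ c ∈ maximalIdeal C, ∃ a ∈ q, ∃ v : B, IsUnit v ∧ π (algebraMap S B a) = π v * c := by
    intro c hc
    obtain ⟨b, rfl⟩ := hπ c
    obtain ⟨a, t, rfl⟩ := IsLocalization.exists_mk'_eq q.primeCompl b
    refine ⟨a, (IsLocalization.AtPrime.to_map_mem_maximal_iff B q a).1 ?_, algebraMap S B t,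
      IsLocalization.map_units B t, ?_⟩
    · rw [← IsLocalization.mk'_spec B a t]
      exact Ideal.mul_mem_right _ _ ((mem_maximalIdeal _).2 fun h => (mem_maximalIdeal _).1 hc (h.map π))
    · rw [← map_mul, mul_comm, IsLocalization.mk'_spec]
  choose a ha v hv hav using fun j => key (e j) (hs.1.2 (Ideal.subset_span (e j).2))
  refine ⟨a, ha, fun 𝔮 h𝔮 hp h𝔮a => ?_⟩
  have hker : RingHom.ker π ≤ 𝔮 := (Ideal.mk_ker).le.trans hp
  haveI := h𝔮
  haveI : (𝔮.map π).IsPrime := Ideal.map_isPrime_of_surjective hπ hker
  have hle : Ideal.span (s : Set C) ≤ 𝔮.map π := by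
    refine Ideal.span_le.2 fun c hc => ?_
    obtain ⟨j, hj⟩ := e.surjective ⟨c, hc⟩
    have h := Ideal.mem_map_of_mem π (h𝔮a j)
    rw [hav, hj] at h
    exact (Ideal.unit_mul_mem_iff_mem _ ((hv j).map π)).1 h
  have hmax : 𝔮.map π = maximalIdeal C :=
    le_antisymm (le_maximalIdeal (Ideal.IsPrime.ne_top inferInstance))
      (hs.2 ⟨inferInstance, hle⟩ (le_maximalIdeal (Ideal.IsPrime.ne_top inferInstance)))
  have h2 := congrArg (Ideal.comap π) hmax
  rw [Ideal.comap_map_of_surjective _ hπ, ← RingHom.ker_eq_comap_bot, sup_eq_left.2 hker] at h2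
  rw [h2]
  exact eq_maximalIdeal (Ideal.comap_isMaximal_of_surjective π hπ)

/-- Dropping the variables from `r` on. -/
theorem sub_rename_mem_span {n r : ℕ} (hrn : r ≤ n) (f : MvPolynomial (Fin n) R) :
    f - rename (Fin.castLE hrn) (aeval (fun i : Fin n => if h : (i : ℕ) < r then
        (X ⟨i, h⟩ : MvPolynomial (Fin r) R) else 0) f) ∈
      Ideal.span (Set.range fun i : {i : Fin n // r ≤ (i : ℕ)} => (X (i : Fin n) : MvPolynomial (Fin n) R)) := by
  rw [← Ideal.Quotient.eq]
  set I := Ideal.span (Set.range fun i : {i : Fin n // r ≤ (i : ℕ)} => (X (i : Fin n) : MvPolynomial (Fin n) R))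
  refine AlgHom.congr_fun (φ₁ := Ideal.Quotient.mkₐ R I) (φ₂ := ((Ideal.Quotient.mkₐ R I).comp
    (rename (Fin.castLE hrn))).comp (aeval fun i : Fin n => if h : (i : ℕ) < r then
      (X ⟨i, h⟩ : MvPolynomial (Fin r) R) else 0)) (algHom_ext fun i => ?_) f
  show Ideal.Quotient.mk I (X i) = Ideal.Quotient.mk I (rename (Fin.castLE hrn) (aeval _ (X i)))
  rw [aeval_X]
  by_cases h : (i : ℕ) < r
  · rw [dif_pos h, rename_X]
    rfl
  · rw [dif_neg h, map_zero, map_zero, Ideal.Quotient.eq_zero_iff_mem]
    exact Ideal.subset_span ⟨⟨i, not_lt.1 h⟩, rfl⟩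

/-- The prime below, for a map sending the first variables to elements independent at `q`. -/
theorem comap_eq (p : Ideal R) [p.IsPrime] (q : Ideal S) [q.IsPrime] [q.LiesOver p]
    [Algebra (Localization.AtPrime p) (Localization.AtPrime q)]
    [Localization.AtPrime.IsLiesOverAlgebra p q] {n r : ℕ} (hrn : r ≤ n) (y : Fin n → S)
    (hy : ∀ i : Fin n, r ≤ (i : ℕ) → y i ∈ q)
    (hind : AlgebraicIndependent p.ResidueField (fun i : Fin r => algebraMap S q.ResidueField (y (Fin.castLE hrn i)))) :
    q.comap (aeval y).toRingHom = p.map (algebraMap R (MvPolynomial (Fin n) R)) ⊔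
      Ideal.span (Set.range fun i : {i : Fin n // r ≤ (i : ℕ)} => (X (i : Fin n) : MvPolynomial (Fin n) R)) := by
  have hp : p = q.comap (algebraMap R S) := (Ideal.liesOver_iff q p).mp inferInstance
  have hbig : p.map (algebraMap R (MvPolynomial (Fin n) R)) ⊔
      Ideal.span (Set.range fun i : {i : Fin n // r ≤ (i : ℕ)} => (X (i : Fin n) : MvPolynomial (Fin n) R)) ≤
      q.comap (aeval y).toRingHom := by
    refine sup_le (Ideal.map_le_iff_le_comap.2 fun c hc => ?_) (Ideal.span_le.2 ?_)
    · show aeval y (algebraMap R _ c) ∈ q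
      rw [AlgHom.commutes]
      exact hp.le hc
    · rintro _ ⟨i, rfl⟩
      show aeval y (X (i : Fin n)) ∈ q
      rw [aeval_X]
      exact hy _ i.2
  refine le_antisymm (fun f hf => ?_) hbig
  set g := aeval (fun i : Fin n => if h : (i : ℕ) < r then (X ⟨i, h⟩ : MvPolynomial (Fin r) R) else 0) f
  have hsub := sub_rename_mem_span hrn f
  have hg : rename (Fin.castLE hrn) g ∈ q.comap (aeval y).toRingHom := by
    have := Ideal.sub_mem _ hf (hbig (Ideal.mem_sup_right hsub))
    rwa [sub_sub_cancel] at this
  have h0 : MvPolynomial.map (algebraMap R p.ResidueField) g = 0 := by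
    refine hind ?_
    rw [map_zero, aeval_map_algebraMap]
    have : aeval (y ∘ Fin.castLE hrn) g ∈ q := by
      rw [← aeval_rename]
      exact hg
    rw [← Ideal.algebraMap_residueField_eq_zero] at this
    rw [← this]
    exact (comp_aeval_apply (f := y ∘ Fin.castLE hrn) (IsScalarTower.toAlgHom R S q.ResidueField) g).symm
  have hgp : g ∈ p.map (C : R →+* MvPolynomial (Fin r) R) := by
    rw [mem_map_C_iff]
    intro d
    rw [← Ideal.algebraMap_residueField_eq_zero, ← coeff_map, h0, coeff_zero]
  have h1 := Ideal.mem_map_of_mem (rename (Fin.castLE hrn)).toRingHom hgp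
  rw [Ideal.map_map, show (rename (Fin.castLE hrn)).toRingHom.comp (C : R →+* MvPolynomial (Fin r) R) =
    algebraMap R (MvPolynomial (Fin n) R) from RingHom.ext fun c => rename_C _ c] at h1
  rw [show f = (f - rename (Fin.castLE hrn) g) + rename (Fin.castLE hrn) g by ring]
  exact add_mem (Ideal.mem_sup_right hsub) (Ideal.mem_sup_left h1)

/-- Quasi-finiteness at `q` over the polynomial ring. -/
theorem quasiFiniteAt {P : Type u} [CommRing P] [Algebra R P] [Algebra P S] [IsScalarTower R P S]
    [Algebra.FiniteType P S] (p : Ideal R) [p.IsPrime] (q : Ideal S) [q.IsPrime] [q.LiesOver p]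
    [Algebra (Localization.AtPrime p) (Localization.AtPrime q)]
    [Localization.AtPrime.IsLiesOverAlgebra p q] (T : Set q.ResidueField)
    (hT : ∀ z ∈ T, ∃ x : P, algebraMap S q.ResidueField (algebraMap P S x) = z)
    (halg : Algebra.IsAlgebraic (Algebra.adjoin p.ResidueField T) q.ResidueField)
    (hprimes : ∀ 𝔮 : Ideal (Localization.AtPrime q), 𝔮.IsPrime →
      (q.under P).map (algebraMap P (Localization.AtPrime q)) ≤ 𝔮 → 𝔮 = maximalIdeal (Localization.AtPrime q)) :
    Algebra.QuasiFiniteAt P q := by
  haveI : Algebra.WeaklyQuasiFiniteAt P q := by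
    rw [Algebra.weaklyQuasiFiniteAt_iff]
    let B := Localization.AtPrime q
    let P0 := q.under P
    letI := Localization.AtPrime.algebraOfLiesOver P0 q
    let I := P0.map (algebraMap P B)
    have hI : I ≤ maximalIdeal B := by
      refine Ideal.map_le_iff_le_comap.2 fun x hx => ?_
      rw [Ideal.mem_comap, IsScalarTower.algebraMap_apply P S B]
      exact (IsLocalization.AtPrime.to_map_mem_maximal_iff B q _).2 hx
    let φ₁ : P0.ResidueField →ₐ[P] B ⧸ I :=
      Ideal.quotientMapₐ _ (IsScalarTower.toAlgHom P (Localization.AtPrime P0) B) (by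
        rw [← IsLocalization.AtPrime.map_eq_maximalIdeal P0, Ideal.map_le_iff_le_comap,
          ← Ideal.comap_coe (F := AlgHom _ _ _), Ideal.comap_comap]
        simpa [I, ← IsScalarTower.algebraMap_eq] using Ideal.le_comap_map)
    letI : Algebra P0.ResidueField (B ⧸ I) := φ₁.toRingHom.toAlgebra
    haveI : IsScalarTower P P0.ResidueField (B ⧸ I) :=
      IsScalarTower.of_algebraMap_eq fun x => (φ₁.commutes x).symm
    haveI : Algebra.EssFiniteType P B := Algebra.EssFiniteType.comp P S B
    haveI : Algebra.EssFiniteType B (B ⧸ I) := inferInstance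
    haveI : Algebra.EssFiniteType P (B ⧸ I) := Algebra.EssFiniteType.comp P B (B ⧸ I)
    haveI : Algebra.EssFiniteType P0.ResidueField (B ⧸ I) := Algebra.EssFiniteType.of_comp P _ _
    haveI : IsNoetherianRing (B ⧸ I) := Algebra.EssFiniteType.isNoetherianRing P0.ResidueField _
    haveI : Ring.KrullDimLE 0 (B ⧸ I) := Ring.krullDimLE_zero_iff.2 fun J hJ => by
      have h := hprimes (J.comap (Ideal.Quotient.mk I)) (Ideal.comap_isPrime _ J)
        ((Ideal.mk_ker (I := I)).ge.trans (Ideal.ker_le_comap _))
      have := congrArg (Ideal.map (Ideal.Quotient.mk I)) h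
      rw [Ideal.map_comap_of_surjective _ Ideal.Quotient.mk_surjective] at this
      rw [this]
      exact Ideal.IsMaximal.map_of_surjective_of_ker_le Ideal.Quotient.mk_surjective (Ideal.mk_ker.le.trans hI)
    -- the residue field
    let ψ : B ⧸ I →+* q.ResidueField := Ideal.Quotient.factor hI
    have hψ : Function.Surjective ψ := Ideal.Quotient.factor_surjective hI
    letI : Algebra (B ⧸ I) q.ResidueField := ψ.toAlgebra
    have hcompat : ∀ x : P, algebraMap P0.ResidueField q.ResidueField (algebraMap P P0.ResidueField x) =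
        algebraMap S q.ResidueField (algebraMap P S x) := fun x => by
      rw [← IsScalarTower.algebraMap_apply P P0.ResidueField q.ResidueField,
        ← IsScalarTower.algebraMap_apply P S q.ResidueField]
    haveI : IsScalarTower P0.ResidueField (B ⧸ I) q.ResidueField := by
      refine IsScalarTower.of_algebraMap_eq' (R := P0.ResidueField) (S := B ⧸ I) (A := q.ResidueField)
        (Ideal.ResidueField.ringHom_ext (RingHom.ext fun x => ?_))
      show algebraMap P0.ResidueField q.ResidueField (algebraMap P P0.ResidueField x) =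
        ψ (algebraMap P0.ResidueField (B ⧸ I) (algebraMap P P0.ResidueField x))
      rw [hcompat, ← IsScalarTower.algebraMap_apply P P0.ResidueField (B ⧸ I),
        IsScalarTower.algebraMap_apply P S (B ⧸ I)]
      rfl
    haveI : Algebra.FiniteType (B ⧸ I) q.ResidueField :=
      RingHom.finiteType_algebraMap.mp (RingHom.FiniteType.of_surjective ψ hψ)
    haveI : Algebra.EssFiniteType P0.ResidueField q.ResidueField :=
      Algebra.EssFiniteType.comp P0.ResidueField (B ⧸ I) q.ResidueField
    haveI : Algebra.IsAlgebraic P0.ResidueField q.ResidueField := by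
      let j : p.ResidueField →+* P0.ResidueField := Ideal.ResidueField.map p P0 (algebraMap R P)
        (by
          rw [show P0 = q.comap (algebraMap P S) from rfl, Ideal.comap_comap, ← IsScalarTower.algebraMap_eq]
          exact (Ideal.liesOver_iff q p).mp inferInstance)
      letI : Algebra p.ResidueField P0.ResidueField := j.toAlgebra
      haveI : IsScalarTower p.ResidueField P0.ResidueField q.ResidueField := by
        refine IsScalarTower.of_algebraMap_eq' (Ideal.ResidueField.ringHom_ext (RingHom.ext fun c => ?_))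
        show algebraMap p.ResidueField q.ResidueField (algebraMap R p.ResidueField c) =
          algebraMap P0.ResidueField q.ResidueField (j (algebraMap R p.ResidueField c))
        rw [← IsScalarTower.algebraMap_apply, Ideal.ResidueField.map_algebraMap, hcompat,
          ← IsScalarTower.algebraMap_apply R P S, ← IsScalarTower.algebraMap_apply R S q.ResidueField]
      let A := Algebra.adjoin p.ResidueField T
      let ρ := IsScalarTower.toAlgHom p.ResidueField P0.ResidueField q.ResidueField
      have hA : A ≤ ρ.range := Algebra.adjoin_le fun z hz => by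
        obtain ⟨x, rfl⟩ := hT z hz
        exact ⟨algebraMap P P0.ResidueField x, hcompat x⟩
      let f : A →+* P0.ResidueField :=
        ((AlgEquiv.ofInjective ρ ρ.toRingHom.injective).symm.toAlgHom.comp (Subalgebra.inclusion hA)).toRingHom
      have hf : ∀ a : A, algebraMap P0.ResidueField q.ResidueField (f a) = (a : q.ResidueField) := fun a =>
        congrArg Subtype.val ((AlgEquiv.ofInjective ρ ρ.toRingHom.injective).apply_symm_apply (Subalgebra.inclusion hA a))
      have hfinj : Function.Injective f := fun a b h => Subtype.ext (by rw [← hf a, ← hf b, h])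
      exact ⟨fun z => (halg.isAlgebraic z).ringHom_of_comp_eq f (RingHom.id _) hfinj
        (RingHom.ext fun a => (hf a))⟩
    haveI : Module.Finite P0.ResidueField q.ResidueField := Algebra.finite_of_essFiniteType_of_isAlgebraic
    haveI : Module.Finite P0.ResidueField (B ⧸ I) := by
      refine Module.finite_of_surjective_of_ker_le_nilradical
        (IsScalarTower.toAlgHom P0.ResidueField (B ⧸ I) q.ResidueField) hψ ?_ (IsNoetherian.noetherian _)
      rw [nilradical_eq_sInf, le_sInf_iff]
      intro J hJ
      haveI : J.IsPrime := hJ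
      have h := hprimes (J.comap (Ideal.Quotient.mk I)) (Ideal.comap_isPrime _ J)
        ((Ideal.mk_ker (I := I)).ge.trans (Ideal.ker_le_comap _))
      intro x hx
      obtain ⟨b, rfl⟩ := Ideal.Quotient.mk_surjective x
      show b ∈ J.comap (Ideal.Quotient.mk I)
      rw [h]
      exact Ideal.Quotient.eq_zero_iff_mem.1 hx
    haveI : Algebra.QuasiFinite P (B ⧸ I) := Algebra.QuasiFinite.trans P P0.ResidueField (B ⧸ I)
    exact this
  exact Algebra.QuasiFiniteAt.of_weaklyQuasiFiniteAt q

end


/-- Let R → S be of finite type, q a prime of S over p, Q the prime of κ(p) ⊗ S over q, with the fibre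
of local dimension n at Q and κ(q) of transcendence degree r over κ(p). Then for some f ∉ p and g ∉
q there is an R-algebra map φ : R_f[x_1, …, x_n] → S_g, of finite type and quasi-finite, such that
the inverse image of q S_g under φ is the ideal generated by p and the variables x_{r+1}, …, x_n. -/
theorem result (R S : Type u) [CommRing R] [CommRing S]
    [Algebra R S] [Algebra.FiniteType R S] (p : Ideal R) [p.IsPrime] (q : Ideal S) [q.IsPrime] [q.LiesOver p]
    [Algebra (Localization.AtPrime p) (Localization.AtPrime q)]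
    [Localization.AtPrime.IsLiesOverAlgebra p q] (Q : PrimeSpectrum (p.Fiber S))
    (hQ : Q.asIdeal.comap (Algebra.TensorProduct.includeRight.toRingHom) = q) (n r : ℕ)
    (hdim : FlatMor.localDim (PrimeSpectrum (p.Fiber S)) Q = (n : WithBot ℕ∞))
    (hr : Algebra.trdeg p.ResidueField q.ResidueField = r) :
    ∃ (f : R) (g : S), f ∉ p ∧ g ∉ q ∧
      ∃ φ : MvPolynomial (Fin n) (Localization.Away f) →ₐ[R] Localization.Away g,
        φ.toRingHom.FiniteType ∧ φ.toRingHom.QuasiFinite ∧
        (q.map (algebraMap S (Localization.Away g))).comap φ =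
          p.map (algebraMap R (MvPolynomial (Fin n) (Localization.Away f))) ⊔
            Ideal.span (Set.range fun i : {i : Fin n // r ≤ (i : ℕ)} =>
              (MvPolynomial.X (i : Fin n) : MvPolynomial (Fin n) (Localization.Away f))) := by
  classical
  obtain ⟨t, m, hmn, hN, hL, hdimC, hind, halg⟩ := exists_basis_and_dim p q Q hQ n r hdim hr
  obtain ⟨a, haq, ha⟩ := exists_parameters (R := R) q m hdimC
  have hrn : r ≤ n := hmn ▸ Nat.le_add_left r m
  let y : Fin n → S := fun i => if h : (i : ℕ) < r then t ⟨i, h⟩ else a ⟨(i : ℕ) - r, by omega⟩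
  have hyt : ∀ i : Fin r, y (Fin.castLE hrn i) = t i := fun i => dif_pos i.2
  have hya : ∀ j : Fin m, y ⟨(j : ℕ) + r, by omega⟩ = a j := fun j =>
    (dif_neg (by simp)).trans (congrArg a (Fin.ext (by simp)))
  have hyq : ∀ i : Fin n, r ≤ (i : ℕ) → y i ∈ q := fun i hi => by
    simp only [y, dif_neg (not_lt.2 hi)]
    exact haq _
  let γ : MvPolynomial (Fin n) R →ₐ[R] S := MvPolynomial.aeval y
  have hcomap := comap_eq p q hrn y hyq (by simpa only [hyt] using hind)
  letI : Algebra (MvPolynomial (Fin n) R) S := γ.toRingHom.toAlgebra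
  haveI : IsScalarTower R (MvPolynomial (Fin n) R) S := IsScalarTower.of_algebraMap_eq fun c => (γ.commutes c).symm
  haveI : Algebra.FiniteType (MvPolynomial (Fin n) R) S := Algebra.FiniteType.of_restrictScalars_finiteType R _ _
  haveI : Algebra.QuasiFiniteAt (MvPolynomial (Fin n) R) q := by
    refine quasiFiniteAt p q _ ?_ halg fun 𝔮 h𝔮 hle => ha 𝔮 h𝔮 ?_ fun j => ?_
    · rintro _ ⟨i, rfl⟩
      exact ⟨MvPolynomial.X (Fin.castLE hrn i), congrArg _ ((MvPolynomial.aeval_X y _).trans (hyt i))⟩
    · refine le_trans ?_ hle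
      rw [IsScalarTower.algebraMap_eq R (MvPolynomial (Fin n) R) (Localization.AtPrime q), ← Ideal.map_map]
      refine Ideal.map_mono (Ideal.map_le_iff_le_comap.2 fun c hc => ?_)
      show γ (algebraMap R _ c) ∈ q
      rw [γ.commutes]
      exact hc
    · have hj : r ≤ (j : ℕ) + r := Nat.le_add_left r j
      let x : MvPolynomial (Fin n) R := MvPolynomial.X ⟨(j : ℕ) + r, by omega⟩
      have hx : algebraMap (MvPolynomial (Fin n) R) S x = a j := (MvPolynomial.aeval_X y _).trans (hya j)
      have hxm : x ∈ q.under (MvPolynomial (Fin n) R) := Ideal.mem_comap.2 (hx.symm ▸ haq j)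
      have h := hle (Ideal.mem_map_of_mem _ hxm)
      rwa [IsScalarTower.algebraMap_apply (MvPolynomial (Fin n) R) S (Localization.AtPrime q), hx] at h
  obtain ⟨S', hS', g, hg, hbij⟩ :=
    Algebra.QuasiFiniteAt.exists_fg_and_exists_notMem_and_awayMap_bijective (R := MvPolynomial (Fin n) R) q
  haveI : Module.Finite (MvPolynomial (Fin n) R) S' := ⟨(Submodule.fg_top _).mpr hS'⟩
  haveI : Algebra.QuasiFinite (MvPolynomial (Fin n) R) (Localization.Away g) := .trans _ S' _
  haveI hqf : Algebra.QuasiFinite (MvPolynomial (Fin n) R) (Localization.Away g.1) :=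
    .of_surjective_algHom (R := MvPolynomial (Fin n) R) (S := Localization.Away g) (T := Localization.Away g.1)
      (Localization.awayMapₐ S'.val g) hbij.2
  refine ⟨1, g.1, fun h => Ideal.IsPrime.ne_top inferInstance ((Ideal.eq_top_iff_one p).2 h), hg, ?_⟩
  let e₁ : Localization.Away (1 : R) ≃ₐ[R] R := (IsLocalization.atOne R (Localization.Away (1 : R))).symm
  let e : MvPolynomial (Fin n) (Localization.Away (1 : R)) ≃ₐ[R] MvPolynomial (Fin n) R :=
    MvPolynomial.mapAlgEquiv (Fin n) e₁
  let φ := (((IsScalarTower.toAlgHom R S (Localization.Away g.1)).comp γ).comp e.toAlgHom)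
  haveI : Algebra.FiniteType S (Localization.Away g.1) :=
    IsLocalization.finiteType_of_monoid_fg (Submonoid.powers g.1) _
  haveI : Algebra.FiniteType (MvPolynomial (Fin n) R) (Localization.Away g.1) :=
    Algebra.FiniteType.trans (S := S) inferInstance inferInstance
  refine ⟨φ, ?_, ?_, ?_⟩
  · exact (RingHom.finiteType_algebraMap.mpr ‹Algebra.FiniteType (MvPolynomial (Fin n) R) (Localization.Away g.1)›).comp
      (RingHom.FiniteType.of_surjective _ e.surjective)
  · exact (RingHom.quasiFinite_algebraMap.mpr hqf).comp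
      (RingHom.QuasiFinite.of_finite (RingHom.Finite.of_surjective _ e.surjective))
  · show Ideal.comap ((algebraMap S (Localization.Away g.1)).comp (γ.toRingHom.comp e.toRingEquiv.toRingHom))
      (q.map (algebraMap S (Localization.Away g.1))) = _
    rw [← Ideal.comap_comap, ← Ideal.comap_comap]
    rw [show (q.map (algebraMap S (Localization.Away g.1))).comap (algebraMap S (Localization.Away g.1)) = q from
      IsLocalization.comap_map_of_isPrime_disjoint (Submonoid.powers g.1) _ inferInstance
        ((Ideal.disjoint_powers_iff_notMem _ (Ideal.IsPrime.isRadical inferInstance)).2 hg), hcomap]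
    refine (Ideal.map_symm e.toRingEquiv).symm.trans ?_
    rw [Ideal.map_sup, ← Ideal.map_coe, ← Ideal.map_coe, Ideal.map_map, Ideal.map_span, ← Set.range_comp]
    congr 1
    · congr 1
      exact RingHom.ext fun c => e.symm.commutes c
    · congr 2
      funext i
      exact MvPolynomial.map_X _ _

end Groth.Agent.S9181
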