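import Groth.Statements.S9183
import Groth.Agent.H17.FPUH

set_option autoImplicit false
universe u
open CategoryTheory CategoryTheory.Limits
open CAlg

namespace Groth.Agent.S9183

section
open CategoryTheory CategoryTheory.Limits MvPolynomial
open Groth.Agent.H17 Groth.Agent.H17.FPUH

variable (A B : Type u) [CommRing A] [CommRing B] [Algebra A B]

theorem isDirected₀ : IsDirectedOrder (Idx₀ A B) := by
  classical
  refine ⟨fun i j => ⟨⟨(i.1.1 ∪ j.1.1, i.1.2 ∪ j.1.2), fun g hg => ?_⟩,
    ⟨Finset.subset_union_left, Finset.subset_union_left⟩,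
    ⟨Finset.subset_union_right, Finset.subset_union_right⟩⟩⟩
  rcases Finset.mem_union.mp hg with hg | hg
  · exact ⟨range_mono Finset.subset_union_left (i.2 g hg).1, (i.2 g hg).2⟩
  · exact ⟨range_mono Finset.subset_union_right (j.2 g hg).1, (j.2 g hg).2⟩

/-- The system of all finitely presented stages. -/
noncomputable def system₀ : Idx₀ A B ⥤ Under (CommRingCat.of A) where
  obj i := Under.mk (CommRingCat.ofHom (algebraMap A (Stage i)))
  map {i j} h := Under.homMk (CommRingCat.ofHom (FPUH.trans h.le).toRingHom) (by
    ext a; exact (FPUH.trans h.le).commutes a)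
  map_id i := by ext x; exact trans_refl i x
  map_comp {i j k} h h' := by ext x; exact (trans_trans h.le h'.le x).symm

/-- The tautological cocone. -/
noncomputable def cocone₀ : Cocone (system₀ A B) where
  pt := Under.mk (CommRingCat.ofHom (algebraMap A B))
  ι :=
    { app := fun i => Under.homMk (CommRingCat.ofHom (toB i).toRingHom) (by
        ext a; exact (toB i).commutes a)
      naturality := fun i j h => by ext x; exact toB_trans h.le x }

theorem isColimit₀ : IsFiltered (Idx₀ A B) ∧ Nonempty (IsColimit (cocone₀ A B)) := by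
  classical
  have := isDirected₀ A B
  have : Nonempty (Idx₀ A B) := ⟨⟨(∅, ∅), by simp⟩⟩
  have hf : IsFiltered (Idx₀ A B) := inferInstance
  have : IsConnected (Idx₀ A B) := IsFiltered.isConnected _
  have : ReflectsColimitsOfShape (Idx₀ A B) (forget CommRingCat.{u}) :=
    reflectsColimitsOfShape_of_reflectsIsomorphisms
  refine ⟨hf, ⟨isColimitOfReflects (Under.forget _) (isColimitOfReflects (forget CommRingCat) ?_)⟩⟩
  refine Types.FilteredColimit.isColimitOf' _ _ ?_ ?_
  · intro (b : B)
    let k : Idx₀ A B := ⟨({b}, ∅), by simp⟩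
    refine ⟨k, (Ideal.Quotient.mk (rel k) (X ⟨b, Finset.mem_singleton_self b⟩) : Stage k), ?_⟩
    show b = toB k (Ideal.Quotient.mk _ _)
    rw [toB_mk, val', AlgHom.comp_apply, rename_X]
    exact (aeval_X id b).symm
  · intro i (x : Stage i) (y : Stage i) (hxy : toB i x = toB i y)
    obtain ⟨p, hp⟩ := Ideal.Quotient.mk_surjective (x - y)
    have hp0 : val' i p = 0 := by
      rw [← toB_mk, hp, map_sub, hxy, sub_self]
    let k : Idx₀ A B := ⟨(i.1.1, i.1.2 ∪ {rename Subtype.val p}), fun g hg => by
      rcases Finset.mem_union.mp hg with hg | hg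
      · exact i.2 g hg
      · rw [Finset.mem_singleton] at hg; subst hg
        exact ⟨⟨p, rfl⟩, hp0⟩⟩
    have hik : i ≤ k := ⟨le_refl i.1.1, Finset.subset_union_left⟩
    refine ⟨k, homOfLE hik, ?_⟩
    show FPUH.trans hik x = FPUH.trans hik y
    rw [← sub_eq_zero, ← map_sub, ← hp, trans_mk, Ideal.Quotient.eq_zero_iff_mem]
    refine Ideal.subset_span ⟨_, Finset.mem_union_right _ (Finset.mem_singleton_self _), ?_⟩
    show killCompl _ (rename Subtype.val p) = _
    rw [show rename (Subtype.val : Gen i → B) p =
        rename (Subtype.val : Gen k → B) (rename (incl hik) p) from by rw [rename_rename]; rfl,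
      killCompl_rename_app]

end

/-- Every R-algebra A, with no finiteness assumption, is the colimit of a filtered system of finitely
presented R-algebras. (The published statement asserts that the category of all finitely presented
R-algebras with a map to A is filtered with colimit A; this row states that some small filtered
system of finitely presented R-algebras has colimit A.) -/
theorem result (R A : Type u) [CommRing R] [CommRing A] [Algebra R A] :
    ∃ (I : Type u) (_ : SmallCategory I) (_ : IsFiltered I) (D : I ⥤ Under (CommRingCat.of R))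
      (c : Cocone D) (_ : IsColimit c),
      (∀ i, (D.obj i).hom.hom.FinitePresentation) ∧
      Nonempty (c.pt ≅ Under.mk (CommRingCat.ofHom (algebraMap R A))) := by
  obtain ⟨hf, ⟨hc⟩⟩ := isColimit₀ R A
  exact ⟨Groth.Agent.H17.FPUH.Idx₀ R A, inferInstance, hf, system₀ R A, cocone₀ R A, hc,
    fun i => RingHom.finitePresentation_algebraMap.mpr (Groth.Agent.H17.FPUH.finitePresentation i),
    ⟨Iso.refl _⟩⟩

end Groth.Agent.S9183
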