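import Groth.Statements.S9184
import Groth.Agent.H8Props.FlatLocus.Module
import Groth.Agent.H3CAlg.BuchsbaumEisenbud
import Groth.Agent.H27Misc.FlatCokernel
import Groth.Agent.S0393

set_option autoImplicit false
universe u
open CAlg

namespace Groth.Agent.S9184

section
open IsLocalRing
open scoped TensorProduct

theorem pi_mem_smul_top_iff {A B : Type u} [CommRing A] [CommRing B] [Algebra A B] (I : Ideal A) {a : ℕ}
    (x : Fin a → B) :
    x ∈ (I • ⊤ : Submodule A (Fin a → B)) ↔ ∀ i, x i ∈ I.map (algebraMap A B) := by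
  classical
  have h : ∀ y : B, y ∈ (I • ⊤ : Submodule A B) ↔ y ∈ I.map (algebraMap A B) := fun y => by
    rw [Ideal.smul_top_eq_map, Submodule.restrictScalars_mem]
  refine ⟨fun hx i => ?_, fun hx => ?_⟩
  · have := Submodule.mem_map_of_mem (f := (LinearMap.proj i : (Fin a → B) →ₗ[A] B)) hx
    rw [Submodule.map_smul''] at this
    exact (h _).1 (Submodule.smul_mono le_rfl le_top this)
  · rw [← Finset.univ_sum_single x]
    refine Submodule.sum_mem _ fun i _ => ?_
    have := Submodule.mem_map_of_mem (f := LinearMap.single A (fun _ : Fin a => B) i) ((h _).2 (hx i))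
    rw [Submodule.map_smul''] at this
    exact Submodule.smul_mono le_rfl le_top this

theorem one_tmul_eq_zero_iff {A M : Type u} [CommRing A] [AddCommGroup M] [Module A M] (I : Ideal A) (x : M) :
    ((1 : A ⧸ I) ⊗ₜ[A] x) = 0 ↔ x ∈ (I • ⊤ : Submodule A M) := by
  rw [← (TensorProduct.quotTensorEquivQuotSMul M I).map_eq_zero_iff]
  refine Iff.trans (Eq.to_iff (congrArg (· = 0) ?_)) (Submodule.Quotient.mk_eq_zero _)
  exact TensorProduct.quotTensorEquivQuotSMul_mk_one_tmul I x

theorem lTensor_injective_iff {A N M : Type u} [CommRing A] [AddCommGroup N] [Module A N] [AddCommGroup M]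
    [Module A M] (I : Ideal A) (u : N →ₗ[A] M) :
    Function.Injective (u.lTensor (A ⧸ I)) ↔
      ∀ x, u x ∈ (I • ⊤ : Submodule A M) → x ∈ (I • ⊤ : Submodule A N) := by
  refine ⟨fun h x hx => (one_tmul_eq_zero_iff I x).1 (h ?_), fun h => ?_⟩
  · rw [LinearMap.lTensor_tmul, map_zero]
    exact (one_tmul_eq_zero_iff I _).2 hx
  · rw [injective_iff_map_eq_zero]
    intro z hz
    obtain ⟨x, rfl⟩ := TensorProduct.mk_surjective A N (A ⧸ I) Ideal.Quotient.mk_surjective z
    rw [TensorProduct.mk_apply, LinearMap.lTensor_tmul] at hz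
    rw [TensorProduct.mk_apply]
    exact (one_tmul_eq_zero_iff I _).2 (h x ((one_tmul_eq_zero_iff I _).1 hz))

/-- The local criterion for one spot of a complex. -/
theorem fibre_exact_iff {A B C : Type u} [CommRing A] [CommRing B] [CommRing C] [IsLocalRing A]
    [IsLocalRing B] [IsNoetherianRing B] [Algebra A B] [IsLocalHom (algebraMap A B)] [Module.Flat A B]
    (π : B →+* C) (hπ : Function.Surjective π)
    (hker : RingHom.ker π = (maximalIdeal A).map (algebraMap A B))
    {a b c : ℕ} (φ : Matrix (Fin a) (Fin b) B) (χ : Matrix (Fin b) (Fin c) B) (hc : φ * χ = 0) :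
    LinearMap.ker (φ.map π).mulVecLin = LinearMap.range (χ.map π).mulVecLin ↔
      LinearMap.ker φ.mulVecLin = LinearMap.range χ.mulVecLin ∧
        Module.Flat A ((Fin a → B) ⧸ LinearMap.range φ.mulVecLin) := by
  have hle : LinearMap.range χ.mulVecLin ≤ LinearMap.ker φ.mulVecLin := by
    rintro _ ⟨y, rfl⟩
    rw [LinearMap.mem_ker, Matrix.mulVecLin_apply, Matrix.mulVecLin_apply, Matrix.mulVec_mulVec, hc,
      Matrix.zero_mulVec]
  let K : Submodule B (Fin b → B) := LinearMap.range χ.mulVecLin
  let uB : ((Fin b → B) ⧸ K) →ₗ[B] (Fin a → B) := K.liftQ φ.mulVecLin hle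
  let u : ((Fin b → B) ⧸ K) →ₗ[A] (Fin a → B) := uB.restrictScalars A
  have hu : ∀ x, u (Submodule.Quotient.mk x) = φ.mulVecLin x := fun x => Submodule.liftQ_apply K (f := φ.mulVecLin) (h := hle) x
  have hcoe : ∀ {k : ℕ} (x : Fin k → B), x ∈ (maximalIdeal A • ⊤ : Submodule A (Fin k → B)) ↔ π ∘ x = 0 := by
    intro k x
    rw [pi_mem_smul_top_iff, ← hker]
    exact ⟨fun h => funext h, fun h i => congrFun h i⟩
  have hmap : ∀ {k l : ℕ} (M : Matrix (Fin k) (Fin l) B) (x : Fin l → B),
      π ∘ (M.mulVecLin x) = (M.map π).mulVecLin (π ∘ x) := fun M x => funext fun i => RingHom.map_mulVec π M x i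
  have hlift : ∀ {k : ℕ} (y : Fin k → C), ∃ x : Fin k → B, π ∘ x = y := fun y =>
    ⟨fun i => (hπ (y i)).choose, funext fun i => (hπ (y i)).choose_spec⟩
  have hiso : Function.Injective u ↔ LinearMap.ker φ.mulVecLin = LinearMap.range χ.mulVecLin := by
    show Function.Injective uB ↔ _
    rw [← LinearMap.ker_eq_bot, Submodule.ker_liftQ, ← le_bot_iff, Submodule.map_le_iff_le_comap,
      Submodule.comap_bot, Submodule.ker_mkQ]
    exact ⟨fun h => le_antisymm h hle, fun h => h.le⟩
  have hrg : LinearMap.range u = (LinearMap.range φ.mulVecLin).restrictScalars A := by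
    show LinearMap.range (uB.restrictScalars A) = _
    rw [LinearMap.range_restrictScalars, Submodule.range_liftQ]
  let eflat : ((Fin a → B) ⧸ LinearMap.range u) ≃ₗ[A] ((Fin a → B) ⧸ LinearMap.range φ.mulVecLin) :=
    Submodule.quotEquivOfEq _ _ hrg ≪≫ₗ Submodule.Quotient.restrictScalarsEquiv A _
  have hle' : LinearMap.range (χ.map π).mulVecLin ≤ LinearMap.ker (φ.map π).mulVecLin := by
    rintro _ ⟨y, rfl⟩
    rw [LinearMap.mem_ker, Matrix.mulVecLin_apply, Matrix.mulVecLin_apply, Matrix.mulVec_mulVec,
      ← Matrix.map_mul, hc, Matrix.map_zero _ (map_zero π), Matrix.zero_mulVec]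
  -- the fibre is exact iff `u` stays injective modulo the maximal ideal
  have key : LinearMap.ker (φ.map π).mulVecLin = LinearMap.range (χ.map π).mulVecLin ↔
      Function.Injective (u.lTensor (A ⧸ maximalIdeal A)) := by
    rw [lTensor_injective_iff]
    constructor
    · intro h z hz
      obtain ⟨x, rfl⟩ := Submodule.Quotient.mk_surjective K z
      rw [hu, hcoe, hmap, ← LinearMap.mem_ker, h] at hz
      obtain ⟨y', hy'⟩ := hz
      obtain ⟨y, rfl⟩ := hlift y'
      have hd : x - χ.mulVecLin y ∈ (maximalIdeal A • ⊤ : Submodule A (Fin b → B)) := by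
        rw [hcoe]
        refine funext fun i => ?_
        show π (x i - χ.mulVecLin y i) = 0
        rw [map_sub, sub_eq_zero]
        exact (congrFun ((hmap χ y).trans hy') i).symm
      have := Submodule.mem_map_of_mem (f := K.mkQ.restrictScalars A) hd
      rw [Submodule.map_smul''] at this
      have hK : Submodule.Quotient.mk (x - χ.mulVecLin y) = (Submodule.Quotient.mk x : (Fin b → B) ⧸ K) := by
        rw [Submodule.Quotient.eq]
        simpa using K.neg_mem (⟨y, rfl⟩ : χ.mulVecLin y ∈ K)
      rw [← hK]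
      exact Submodule.smul_mono le_rfl le_top this
    · intro h
      refine le_antisymm (fun x' hx' => ?_) hle'
      obtain ⟨x, rfl⟩ := hlift x'
      rw [LinearMap.mem_ker, ← hmap, ← hcoe, ← hu] at hx'
      have hx := h _ hx'
      have htop : (⊤ : Submodule A ((Fin b → B) ⧸ K)) = Submodule.map (K.mkQ.restrictScalars A) ⊤ := by
        rw [Submodule.map_top, LinearMap.range_eq_top.2]
        exact Submodule.mkQ_surjective K
      rw [htop, ← Submodule.map_smul''] at hx
      obtain ⟨m, hm, hmx⟩ := hx
      obtain ⟨y, hy⟩ : x - m ∈ K := (Submodule.Quotient.eq K).1 hmx.symm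
      refine ⟨π ∘ y, ?_⟩
      rw [← hmap, hy]
      replace hm := (hcoe m).1 hm
      funext i
      show π (x i - m i) = π (x i)
      rw [map_sub, show π (m i) = 0 from congrFun hm i, sub_zero]
  rw [key]
  haveI : Module.Flat A (Fin a → B) := Module.Flat.trans A B (Fin a → B)
  constructor
  · intro h
    obtain ⟨h1, h2⟩ := Groth.Agent.S0393.result (S := B) u h
    exact ⟨hiso.1 h1, Module.Flat.of_linearEquiv eflat.symm⟩
  · rintro ⟨h1, h2⟩
    haveI : Module.Flat A ((Fin a → B) ⧸ LinearMap.range u) := Module.Flat.of_linearEquiv eflat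
    exact Groth.Agent.H27Misc.lTensor_injective_of_flat_cokernel (A ⧸ maximalIdeal A) (hiso.2 h1)
      (LinearMap.exact_map_mkQ_range u) (Submodule.mkQ_surjective _)

variable {R S : Type u} [CommRing R] [CommRing S] [Algebra R S]

/-- Exactness of a localised spot is exactness up to denominators. -/
theorem local_exact_iff (q : Ideal S) [q.IsPrime] {a b c : ℕ} (φ : Matrix (Fin a) (Fin b) S)
    (χ : Matrix (Fin b) (Fin c) S) (hc : φ * χ = 0) :
    LinearMap.ker (φ.map (algebraMap S (Localization.AtPrime q))).mulVecLin =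
        LinearMap.range (χ.map (algebraMap S (Localization.AtPrime q))).mulVecLin ↔
      ∀ x ∈ LinearMap.ker φ.mulVecLin, ∃ s ∈ q.primeCompl, s • x ∈ LinearMap.range χ.mulVecLin := by
  let B := Localization.AtPrime q
  have hmap : ∀ {k l : ℕ} (M : Matrix (Fin k) (Fin l) S) (x : Fin l → S),
      (M.map (algebraMap S B)).mulVecLin (algebraMap S B ∘ x) = algebraMap S B ∘ M.mulVecLin x :=
    fun M x => funext fun i => (RingHom.map_mulVec (algebraMap S B) M x i).symm
  have hsm : ∀ {k : ℕ} (s : S) (x : Fin k → S), algebraMap S B ∘ (s • x) = algebraMap S B s • (algebraMap S B ∘ x) :=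
    fun s x => funext fun i => map_mul (algebraMap S B) s (x i)
  constructor
  · intro h x hx
    have : algebraMap S B ∘ x ∈ LinearMap.range (χ.map (algebraMap S B)).mulVecLin := by
      rw [← h, LinearMap.mem_ker, hmap, LinearMap.mem_ker.1 hx]
      exact funext fun i => map_zero _
    obtain ⟨w, hw⟩ := this
    obtain ⟨t, ht, y, hy⟩ := Groth.Agent.H3CAlg.BuchsbaumEisenbud.exists_lift_smul (R := S) q.primeCompl w
    have hyw : algebraMap S B ∘ y = algebraMap S B t • w := funext hy
    obtain ⟨t', ht', h0⟩ := Groth.Agent.H3CAlg.BuchsbaumEisenbud.exists_smul_eq_zero (S := B) q.primeCompl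
      (t • x - χ.mulVecLin y) fun i => by
        have hb := congrFun (hmap χ y) i
        rw [hyw, map_smul, hw, ← hsm] at hb
        simp only [Function.comp_apply] at hb
        rw [Pi.sub_apply, map_sub, hb, sub_self]
    refine ⟨t' * t, q.primeCompl.mul_mem ht' ht, t' • y, ?_⟩
    rw [smul_sub, sub_eq_zero] at h0
    rw [map_smul, ← h0, smul_smul]
  · intro h
    refine le_antisymm (fun w hw => ?_) ?_
    · obtain ⟨t, ht, x, hx⟩ := Groth.Agent.H3CAlg.BuchsbaumEisenbud.exists_lift_smul (R := S) q.primeCompl w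
      have hxw : algebraMap S B ∘ x = algebraMap S B t • w := funext hx
      obtain ⟨t', ht', h0⟩ := Groth.Agent.H3CAlg.BuchsbaumEisenbud.exists_smul_eq_zero (S := B) q.primeCompl
        (φ.mulVecLin x) fun i => by
          have hb := congrFun (hmap φ x) i
          rw [hxw, map_smul, LinearMap.mem_ker.1 hw, smul_zero] at hb
          exact hb.symm
      obtain ⟨s, hs, y, hy⟩ := h (t' • x) (by rw [LinearMap.mem_ker, map_smul, h0])
      have hb : algebraMap S B ∘ χ.mulVecLin y = algebraMap S B (s * t' * t) • w := by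
        rw [hy, hsm, hsm, hxw, smul_smul, smul_smul, ← map_mul, ← map_mul]
      rw [← hmap] at hb
      obtain ⟨v, hv⟩ := IsLocalization.map_units B (⟨s * t' * t, q.primeCompl.mul_mem (q.primeCompl.mul_mem hs ht') ht⟩ : q.primeCompl)
      refine ⟨((v⁻¹ : Bˣ) : B) • (algebraMap S B ∘ y), ?_⟩
      rw [map_smul, hb, ← hv, smul_smul, Units.inv_mul, one_smul]
    · rintro _ ⟨y, rfl⟩
      rw [LinearMap.mem_ker, Matrix.mulVecLin_apply, Matrix.mulVecLin_apply, Matrix.mulVec_mulVec,
        ← Matrix.map_mul, hc, Matrix.map_zero _ (map_zero _), Matrix.zero_mulVec]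

theorem isOpen_exact [IsNoetherianRing S] {a b c : ℕ} (φ : Matrix (Fin a) (Fin b) S)
    (χ : Matrix (Fin b) (Fin c) S) :
    IsOpen {q : PrimeSpectrum S |
      ∀ x ∈ LinearMap.ker φ.mulVecLin, ∃ s ∈ q.asIdeal.primeCompl, s • x ∈ LinearMap.range χ.mulVecLin} := by
  obtain ⟨t, ht⟩ := IsNoetherian.noetherian (LinearMap.ker φ.mulVecLin)
  let J : (Fin b → S) → Ideal S := fun x =>
    (LinearMap.range χ.mulVecLin).comap (LinearMap.toSpanSingleton S _ x)
  have : {q : PrimeSpectrum S |
      ∀ x ∈ LinearMap.ker φ.mulVecLin, ∃ s ∈ q.asIdeal.primeCompl, s • x ∈ LinearMap.range χ.mulVecLin} =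
      ⋂ x ∈ t, (PrimeSpectrum.zeroLocus (J x : Set S))ᶜ := by
    refine Set.ext fun q => ?_
    simp only [Set.mem_iInter, Set.mem_compl_iff, PrimeSpectrum.mem_zeroLocus, Set.not_subset]
    constructor
    · intro h x hx
      obtain ⟨s, hs, hsx⟩ := h x (ht ▸ Submodule.subset_span hx)
      exact ⟨s, hsx, hs⟩
    · intro h x hx
      rw [← ht] at hx
      induction hx using Submodule.span_induction with
      | mem x hx =>
        obtain ⟨s, hsx, hs⟩ := h x hx
        exact ⟨s, hs, hsx⟩
      | zero => exact ⟨1, q.asIdeal.primeCompl.one_mem, by simp⟩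
      | add x y _ _ hx hy =>
        obtain ⟨s, hs, hsx⟩ := hx
        obtain ⟨s', hs', hsy⟩ := hy
        refine ⟨s * s', q.asIdeal.primeCompl.mul_mem hs hs', ?_⟩
        rw [show (s * s') • (x + y) = s' • s • x + s • s' • y by
          rw [smul_add, smul_smul, smul_smul, mul_comm s']]
        exact add_mem (Submodule.smul_mem _ _ hsx) (Submodule.smul_mem _ _ hsy)
      | smul r x _ hx =>
        obtain ⟨s, hs, hsx⟩ := hx
        exact ⟨s, hs, by rw [smul_comm]; exact Submodule.smul_mem _ _ hsx⟩
  rw [this]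
  exact isOpen_biInter_finset fun x _ => (PrimeSpectrum.isClosed_zeroLocus _).isOpen_compl

theorem flat_coker_iff (q : Ideal S) [q.IsPrime] {a b : ℕ} (φ : Matrix (Fin a) (Fin b) S) :
    Module.Flat R ((Fin a → Localization.AtPrime q) ⧸
        LinearMap.range (φ.map (algebraMap S (Localization.AtPrime q))).mulVecLin) ↔
      Module.Flat R (LocalizedModule q.primeCompl ((Fin a → S) ⧸ LinearMap.range φ.mulVecLin)) := by
  let B := Localization.AtPrime q
  let f : (Fin a → S) →ₗ[S] (Fin a → B) := LinearMap.pi fun i => Algebra.linearMap S B ∘ₗ LinearMap.proj i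
  haveI : IsLocalizedModule q.primeCompl f := IsLocalizedModule.pi q.primeCompl fun _ => Algebra.linearMap S B
  have he : (LinearMap.range φ.mulVecLin).localized' B q.primeCompl f =
      LinearMap.range (φ.map (algebraMap S B)).mulVecLin := by
    rw [Matrix.range_mulVecLin, Matrix.range_mulVecLin, Submodule.localized'_span, ← Set.range_comp]
    rfl
  let e := IsLocalizedModule.linearEquiv q.primeCompl
    ((LinearMap.range φ.mulVecLin).toLocalizedQuotient' B q.primeCompl f)
    (LocalizedModule.mkLinearMap q.primeCompl ((Fin a → S) ⧸ LinearMap.range φ.mulVecLin))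
  rw [← he]
  exact Module.Flat.equiv_iff (e.restrictScalars R)

/-- The criterion at a point of a flat algebra. -/
theorem fibLocRing_exact_iff [IsNoetherianRing S] [Module.Flat R S] (q : Ideal S) [q.IsPrime] {a b c : ℕ}
    (φ : Matrix (Fin a) (Fin b) S) (χ : Matrix (Fin b) (Fin c) S) (hc : φ * χ = 0) :
    LinearMap.ker (φ.map (algebraMap S (EGA4.FibLocRing R S q))).mulVecLin =
        LinearMap.range (χ.map (algebraMap S (EGA4.FibLocRing R S q))).mulVecLin ↔
      (∀ x ∈ LinearMap.ker φ.mulVecLin, ∃ s ∈ q.primeCompl, s • x ∈ LinearMap.range χ.mulVecLin) ∧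
        Module.Flat R (LocalizedModule q.primeCompl ((Fin a → S) ⧸ LinearMap.range φ.mulVecLin)) := by
  let p := q.comap (algebraMap R S)
  let A := Localization.AtPrime p
  let B := Localization.AtPrime q
  letI : Algebra A B := (Localization.localRingHom p q (algebraMap R S) rfl).toAlgebra
  haveI : IsScalarTower R A B := IsScalarTower.of_algebraMap_eq fun r =>
    (IsScalarTower.algebraMap_apply R S B r).trans (Localization.localRingHom_to_map p q (algebraMap R S) rfl r).symm
  haveI : IsLocalHom (algebraMap A B) := Localization.isLocalHom_localRingHom p q (algebraMap R S) rfl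
  haveI : IsNoetherianRing B := IsLocalization.isNoetherianRing q.primeCompl B inferInstance
  haveI : Module.Flat S B := IsLocalization.flat B q.primeCompl
  haveI : Module.Flat R B := Module.Flat.trans R S B
  haveI : Module.Flat A B := (Module.flat_iff_of_isLocalization A p.primeCompl B).2 inferInstance
  have hker : RingHom.ker (Ideal.Quotient.mk (p.map (algebraMap R B))) = (maximalIdeal A).map (algebraMap A B) := by
    rw [Ideal.mk_ker, ← Localization.AtPrime.map_eq_maximalIdeal, Ideal.map_map, ← IsScalarTower.algebraMap_eq]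
  have hm : ∀ {k l : ℕ} (M : Matrix (Fin k) (Fin l) S), M.map (algebraMap S (EGA4.FibLocRing R S q)) =
      (M.map (algebraMap S B)).map (Ideal.Quotient.mk (p.map (algebraMap R B))) := fun M => by
    rw [Matrix.map_map]
    rfl
  rw [hm, hm, fibre_exact_iff (A := A) (Ideal.Quotient.mk (p.map (algebraMap R B))) Ideal.Quotient.mk_surjective
      hker _ _ (by rw [← Matrix.map_mul, hc, Matrix.map_zero _ (map_zero _)]),
    local_exact_iff q φ χ hc, Module.flat_iff_of_isLocalization A p.primeCompl, flat_coker_iff]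

theorem isOpen_fibre_exact [IsNoetherianRing R] [Algebra.FiniteType R S] [Module.Flat R S] {a b c : ℕ}
    (φ : Matrix (Fin a) (Fin b) S) (χ : Matrix (Fin b) (Fin c) S) (hc : φ * χ = 0) :
    IsOpen {q : PrimeSpectrum S |
      LinearMap.ker (φ.map (algebraMap S (EGA4.FibLocRing R S q.asIdeal))).mulVecLin =
        LinearMap.range (χ.map (algebraMap S (EGA4.FibLocRing R S q.asIdeal))).mulVecLin} := by
  haveI : IsNoetherianRing S := Algebra.FiniteType.isNoetherianRing R S
  haveI : Algebra.FinitePresentation R S := Algebra.FinitePresentation.of_finiteType.mp inferInstance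
  haveI : Module.FinitePresentation S ((Fin a → S) ⧸ LinearMap.range φ.mulVecLin) :=
    Module.finitePresentation_of_finite S _
  simp only [fun q : PrimeSpectrum S => fibLocRing_exact_iff (R := R) q.asIdeal φ χ hc, Set.ofPred_and]
  exact (isOpen_exact φ χ).inter
    (Groth.Agent.H8Props.FlatLocus.isOpen_setOf_flat_localizedModule R S ((Fin a → S) ⧸ LinearMap.range φ.mulVecLin))

end


/-- Let R be Noetherian, R → S flat of finite type whose fibre rings are Cohen–Macaulay and
equidimensional of dimension d, and let 0 → S^{n_e} → ⋯ → S^{n_1} → S^{n_0} be a complex of finite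
free S-modules, the map S^{n_{i+1}} → S^{n_i} being given by the matrix φ_i. Then the set of primes
q of S such that the complex is exact (exact at each S^{n_i} with 0 < i < e and injective at
S^{n_e}) after base change to the fibre local ring S_q/pS_q, p = q ∩ R, is open in Spec S. (The
published statement asks only that the fibres be Cohen–Macaulay of dimension d; this row assumes
them equidimensional of dimension d, the hypothesis the printed argument uses.) -/
theorem result (R S : Type u) [CommRing R] [IsNoetherianRing R] [CommRing S]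
    [Algebra R S] [Algebra.FiniteType R S] [Module.Flat R S] (d : ℕ)
    (hCM : ∀ p : PrimeSpectrum R, LocCoh.IsCohenMacaulayRing (p.asIdeal.Fiber S))
    (heq : ∀ p : PrimeSpectrum R, ∀ P ∈ minimalPrimes (p.asIdeal.Fiber S),
      ringKrullDim (p.asIdeal.Fiber S ⧸ P) = (d : WithBot ℕ∞))
    (e : ℕ) (n : ℕ → ℕ) (φ : (i : ℕ) → Matrix (Fin (n i)) (Fin (n (i + 1))) S)
    (hφ : ∀ i, i + 2 ≤ e → φ i * φ (i + 1) = 0) :
    IsOpen {q : PrimeSpectrum S |
      (∀ i, i + 2 ≤ e →
        LinearMap.ker (Matrix.mulVecLin ((φ i).map (algebraMap S (EGA4.FibLocRing R S q.asIdeal)))) =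
          LinearMap.range (Matrix.mulVecLin ((φ (i + 1)).map (algebraMap S (EGA4.FibLocRing R S q.asIdeal))))) ∧
      (1 ≤ e → Function.Injective
        (Matrix.mulVecLin ((φ (e - 1)).map (algebraMap S (EGA4.FibLocRing R S q.asIdeal)))))} := by
  classical
  rw [Set.ofPred_and]
  refine IsOpen.inter ?_ ?_
  · have h : ∀ i ∈ {i | i + 2 ≤ e}, IsOpen {q : PrimeSpectrum S |
        LinearMap.ker (Matrix.mulVecLin ((φ i).map (algebraMap S (EGA4.FibLocRing R S q.asIdeal)))) =
          LinearMap.range (Matrix.mulVecLin ((φ (i + 1)).map (algebraMap S (EGA4.FibLocRing R S q.asIdeal))))} :=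
      fun i hi => isOpen_fibre_exact (φ i) (φ (i + 1)) (hφ i hi)
    convert ((Set.finite_Iio e).subset fun i (hi : i + 2 ≤ e) => (by simp; omega : i ∈ Set.Iio e)).isOpen_biInter h
    ext q
    simp [Set.mem_iInter]
    exact Iff.rfl
  · by_cases he : 1 ≤ e
    · convert isOpen_fibre_exact (R := R) (φ (e - 1)) (0 : Matrix (Fin (n (e - 1 + 1))) (Fin 0) S)
        (Matrix.mul_zero _) using 1
      refine Set.ext fun q => ?_
      simp only [Set.mem_setOf_eq, he, forall_const]
      rw [← LinearMap.ker_eq_bot, Matrix.map_zero _ (map_zero _), Matrix.mulVecLin_zero, LinearMap.range_zero]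
    · simp [he]

end Groth.Agent.S9184
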