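import Groth.Statements.S9185
import Groth.Agent.H06DiffOp.Basic

set_option autoImplicit false
universe u
open Diff16
open scoped TensorProduct

namespace Groth.Agent.S9185

/-- For a ring map R → S, an S-module M and k ≥ 0 there is an S-module P together with a differential
operator D : M → P of order at most k (relative to R → S) such that every differential operator of
order at most k from M to an S-module N is α ∘ D for a unique S-linear map α : P → N; that is,
differential operators of order ≤ k out of M are represented by P. (Target modules N are taken in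
the same universe.) -/
theorem result (R S : Type u) [CommRing R] [CommRing S] [Algebra R S] (M : Type u)
    [AddCommGroup M] [Module S M] [Module R M] [IsScalarTower R S M] (k : ℕ) :
    ∃ (P : Type u) (_ : AddCommGroup P) (_ : Module S P) (_ : Module R P) (_ : IsScalarTower R S P)
      (D : M →ₗ[R] P), Diff16.IsDiffOpLE R S M P k D ∧
        ∀ (N : Type u) [AddCommGroup N] [Module S N] [Module R N] [IsScalarTower R S N] (D' : M →ₗ[R] N),
          Diff16.IsDiffOpLE R S M N k D' → ∃! α : P →ₗ[S] N, α.restrictScalars R ∘ₗ D = D' := by
  classical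
  let η : M →ₗ[R] S ⊗[R] M := (TensorProduct.mk R S M) 1
  let K : Submodule S (S ⊗[R] M) := Submodule.span S
    (Set.range fun p : (Fin (k + 1) → S) × M =>
      Groth.Agent.H06DiffOp.altSum η Finset.univ p.1 p.2)
  have natural : ∀ {P Q : Type u} [AddCommGroup P] [Module S P] [Module R P] [IsScalarTower R S P]
      [AddCommGroup Q] [Module S Q] [Module R Q] [IsScalarTower R S Q]
      (f : P →ₗ[S] Q) (D : M →ₗ[R] P) (b : Fin (k + 1) → S) (t : M),
      Groth.Agent.H06DiffOp.altSum (f.restrictScalars R ∘ₗ D) Finset.univ b t =
        f (Groth.Agent.H06DiffOp.altSum D Finset.univ b t) := by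
    intros
    simp only [Groth.Agent.H06DiffOp.altSum, map_sum, map_zsmul, map_smul, LinearMap.comp_apply,
      LinearMap.coe_restrictScalars]
  refine ⟨(S ⊗[R] M) ⧸ K, inferInstance, inferInstance, inferInstance, inferInstance,
    K.mkQ.restrictScalars R ∘ₗ η, ?_, ?_⟩
  · refine (Groth.Agent.H06DiffOp.diffOp_iff_altSum (Finset.univ : Finset (Fin (k + 1)))
      (by simp) _).2 fun b t => ?_
    rw [natural]
    exact (Submodule.Quotient.mk_eq_zero K).2 (Submodule.subset_span ⟨(b, t), rfl⟩)
  · intro N _ _ _ _ D' hD'
    let L : S ⊗[R] M →ₗ[S] N := D'.liftBaseChange S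
    have hL : L.restrictScalars R ∘ₗ η = D' := by
      ext m; simp [L, η]
    have hK : K ≤ LinearMap.ker L := by
      refine Submodule.span_le.2 ?_
      rintro _ ⟨⟨b, t⟩, rfl⟩
      simp only [SetLike.mem_coe, LinearMap.mem_ker]
      rw [← natural, hL]
      exact (Groth.Agent.H06DiffOp.diffOp_iff_altSum _ (by simp) _).1 hD' b t
    refine ⟨K.liftQ L hK, ?_, ?_⟩
    · exact hL
    · intro α hα
      refine Submodule.linearMap_qext _ (LinearMap.ext fun x => ?_)
      change α (K.mkQ x) = L x
      induction x using TensorProduct.induction_on with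
      | zero => simp
      | tmul c m =>
        have := LinearMap.congr_fun hα m
        have h2 : c ⊗ₜ[R] m = c • ((1 : S) ⊗ₜ[R] m) := by rw [TensorProduct.smul_tmul']; simp
        rw [h2, map_smul, map_smul, map_smul]
        congr 1
        simpa [η, L] using this
      | add x y hx hy => simp only [map_add, hx, hy]

end Groth.Agent.S9185
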