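-- statement Lim.GrothFrozen.S9190 (Groth/Statements/S9190.lean; the theorem Lim.exists_isSeparated_descend_of_qcqs);
import Groth.Statements.S9190
import Groth.Agent.H7Lim.DescendDiagonal

set_option autoImplicit false
universe u
open CategoryTheory AlgebraicGeometry
open Lim

namespace Groth.Agent.S9190

/-- Let S = lim S_i be a cofiltered limit of schemes with affine transition morphisms, S_{i₀} a
quasi-compact quasi-separated stage, f₀ : X₀ → Y₀ a morphism of quasi-compact quasi-separated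
schemes over S_{i₀}, and f : X → Y its base change along S → S_{i₀} (base changes expressed by
pullback squares). If f is separated, then for some index i over i₀ the base change f_i : X_i → Y_i
of f₀ along S_i → S_{i₀} is separated. No finiteness hypothesis on f₀ is needed. -/
theorem result {I : Type u} [SmallCategory I] [IsCofiltered I]
    (D : I ⥤ Scheme.{u}) (c : Limits.Cone D) (hc : Limits.IsLimit c)
    [∀ (i j : I) (f : i ⟶ j), IsAffineHom (D.map f)] (i₀ : I) [CompactSpace (D.obj i₀)]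
    [QuasiSeparatedSpace (D.obj i₀)] {X₀ Y₀ : Scheme.{u}} (f₀ : X₀ ⟶ Y₀) (g₀ : Y₀ ⟶ D.obj i₀)
    [CompactSpace X₀] [QuasiSeparatedSpace X₀] [CompactSpace Y₀] [QuasiSeparatedSpace Y₀]
    {X Y : Scheme.{u}} (f : X ⟶ Y) (g : Y ⟶ c.pt) (qY : Y ⟶ Y₀) (qX : X ⟶ X₀)
    (hY : IsPullback qY g g₀ (c.π.app i₀)) (hX : IsPullback qX f f₀ qY) [IsSeparated f] :
    ∃ (i : I) (φ : i ⟶ i₀) (Xi Yi : Scheme.{u}) (fi : Xi ⟶ Yi) (gi : Yi ⟶ D.obj i) (pY : Yi ⟶ Y₀)
      (pX : Xi ⟶ X₀), IsPullback pY gi g₀ (D.map φ) ∧ IsPullback pX fi f₀ pY ∧ IsSeparated fi := by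
  exact Groth.Agent.H7Lim.exists_descend_square hc (P := @IsSeparated) (Q := ⊤) i₀ f₀ g₀
    Groth.Agent.H7Lim.descends_isSeparated hY hX trivial ‹_›

end Groth.Agent.S9190
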