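-- statement Lim.GrothFrozen.S9197 (Groth/Statements/S9197.lean; the theorem Lim.exists_isFinLocFreeOfDeg_descend_of_locallyOfFinitePresentation);
import Groth.Statements.S9197
import Groth.Agent.H7Lim.DescendFlat
import Groth.Agent.H7Lim.DescendAffine
import Groth.Agent.H7Lim.Topology

set_option autoImplicit false
universe u
open CategoryTheory AlgebraicGeometry
open Lim

namespace Groth.Agent.S9197
open CategoryTheory.Limits
set_option linter.style.haveILetI false
set_option backward.isDefEq.respectTransparency false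

/-- Let S = lim S_i be a cofiltered limit of schemes with affine transition morphisms, S_{i₀} a
quasi-compact quasi-separated stage, f₀ : X₀ → Y₀ a morphism of quasi-compact quasi-separated
schemes over S_{i₀}, and f : X → Y its base change along S → S_{i₀} (base changes expressed by
pullback squares). Let d be a natural number. If f₀ is locally of finite presentation and f is
finite locally free of degree d (finite, flat, locally of finite presentation, with rank function
constant equal to d), then for some index i over i₀ the base change f_i : X_i → Y_i of f₀ along S_i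
→ S_{i₀} is finite locally free of degree d. -/
theorem result {I : Type u} [SmallCategory I] [IsCofiltered I]
    (D : I ⥤ Scheme.{u}) (c : Limits.Cone D) (hc : Limits.IsLimit c)
    [∀ (i j : I) (f : i ⟶ j), IsAffineHom (D.map f)] (i₀ : I) [CompactSpace (D.obj i₀)]
    [QuasiSeparatedSpace (D.obj i₀)] {X₀ Y₀ : Scheme.{u}} (f₀ : X₀ ⟶ Y₀) (g₀ : Y₀ ⟶ D.obj i₀)
    [CompactSpace X₀] [QuasiSeparatedSpace X₀] [CompactSpace Y₀] [QuasiSeparatedSpace Y₀]
    [LocallyOfFinitePresentation f₀] (d : ℕ)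
    {X Y : Scheme.{u}} (f : X ⟶ Y) (g : Y ⟶ c.pt) (qY : Y ⟶ Y₀) (qX : X ⟶ X₀)
    (hY : IsPullback qY g g₀ (c.π.app i₀)) (hX : IsPullback qX f f₀ qY) (hf : Mor2.IsFinLocFreeOfDeg d f) :
    ∃ (i : I) (φ : i ⟶ i₀) (Xi Yi : Scheme.{u}) (fi : Xi ⟶ Yi) (gi : Yi ⟶ D.obj i) (pY : Yi ⟶ Y₀)
      (pX : Xi ⟶ X₀), IsPullback pY gi g₀ (D.map φ) ∧ IsPullback pX fi f₀ pY ∧ Mor2.IsFinLocFreeOfDeg d fi := by
  let P : MorphismProperty Scheme.{u} := @IsFinite ⊓ @Flat
  have hdA : H7Lim.DescendsAffine.{u} P @LocallyOfFinitePresentation := by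
    intro J _ _ E e he _ _ s T a _ _ ha h
    haveI : LocallyOfFinitePresentation a := ha
    obtain ⟨j₁, φ₁, h₁⟩ := H7Lim.descendsAffine_isFinite J E e he s a (inferInstanceAs (LocallyOfFiniteType a)) h.1
    obtain ⟨j₂, φ₂, h₂⟩ := H7Lim.descendsAffine_flat J E e he s a ha h.2
    obtain ⟨k, ψ₁, ψ₂, hψ⟩ := IsCofiltered.cospan φ₁ φ₂
    exact ⟨k, ψ₁ ≫ φ₁, H7Lim.prop_snd_of_fac (E.map ψ₁) (E.map_comp _ _).symm h₁,
      H7Lim.prop_snd_of_fac (E.map ψ₂) (by rw [← E.map_comp, hψ]) h₂⟩
  obtain ⟨⟨hfin, hflat, hlfp⟩, hrk⟩ := hf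
  obtain ⟨i, φ, Xi, Yi, fi, gi, pY, pX, h1, h2, hP⟩ := H7Lim.exists_descend_square hc (P := P)
    (Q := @LocallyOfFinitePresentation) i₀ f₀ g₀ hdA.descends hY hX ‹_› ⟨hfin, hflat⟩
  haveI : IsFinite fi := hP.1
  haveI : Flat fi := hP.2
  haveI : LocallyOfFinitePresentation fi := MorphismProperty.of_isPullback h2 ‹LocallyOfFinitePresentation f₀›
  haveI : IsAffineHom pY := MorphismProperty.of_isPullback h1.flip (inferInstance : IsAffineHom (D.map φ))
  haveI : CompactSpace Yi := QuasiCompact.compactSpace_of_compactSpace pY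
  haveI : QuasiSeparatedSpace Yi := quasiSeparatedSpace_of_quasiSeparated pY
  let E : Set Yi := {y | fi.finrank y = d}
  have hE : Topology.IsLocallyConstructible Eᶜ := by
    refine H7Lim.isLocallyConstructible_compl ?_
    refine Topology.IsConstructible.isLocallyConstructible ?_
    exact (QuasiSeparatedSpace.isRetrocompact_iff_isCompact ((fi.isLocallyConstant_finrank) {d})).2
      (((fi.isLocallyConstant_finrank).isClopen_fiber d).isClosed.isCompact) |>.isConstructible
      ((fi.isLocallyConstant_finrank) {d})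
  let l : Y ⟶ Yi := h1.lift qY (g ≫ c.π.app i) (by rw [Category.assoc, c.w, hY.w])
  have hl : IsPullback l g gi (c.π.app i) := by
    refine IsPullback.of_right (h₁₂ := pY) (h₂₂ := D.map φ) (v₁₃ := g₀) ?_ (h1.lift_snd _ _ _) h1
    rw [h1.lift_fst, c.w]; exact hY
  let m : X ⟶ Xi := h2.lift qX (f ≫ l) (by rw [Category.assoc, h1.lift_fst, hX.w])
  have hm : IsPullback m f fi l := by
    refine IsPullback.of_right (h₁₂ := pX) (h₂₂ := pY) (v₁₃ := f₀) ?_ (h2.lift_snd _ _ _) h2
    rw [h2.lift_fst, h1.lift_fst]; exact hX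
  haveI : ∀ (j k : Over i) (a : j ⟶ k), IsAffineHom ((H7Lim.pbDiagram D i gi).map a) :=
    H7Lim.isAffineHom_pbDiagram_map D i gi
  let e₀ : Over i := Over.mk (𝟙 i)
  let b : (H7Lim.pbDiagram D i gi).obj e₀ ⟶ Yi := pullback.fst gi (D.map (𝟙 i))
  have hE' : Topology.IsLocallyConstructible (b ⁻¹' Eᶜ) := H7Lim.isLocallyConstructible_preimage hE b
  have hπ : ∀ x, (H7Lim.pbCone D c i gi).π.app e₀ x ∈ b ⁻¹' E := by
    intro x
    show fi.finrank (((H7Lim.pbCone D c i gi).π.app e₀ ≫ b) x) = d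
    rw [show (H7Lim.pbCone D c i gi).π.app e₀ ≫ b = hl.isoPullback.inv ≫ l by simp [b, e₀],
      Scheme.Hom.comp_apply, ← Scheme.Hom.finrank_of_isPullback m f fi l hm]
    exact hrk _
  obtain ⟨k, a, hk⟩ := H7Lim.QCImage.exists_preimage_subset (H7Lim.isLimitPbCone D i gi hc)
    (E := Set.univ) (F := b ⁻¹' E)
    (by rw [Set.univ_inter]; exact H7Lim.qcImage_of_isLocallyConstructible hE') (fun x _ => hπ x)
  let pYk := pullback.fst gi (D.map k.hom)
  refine ⟨k.left, k.hom ≫ φ, pullback fi pYk, pullback gi (D.map k.hom), pullback.snd fi pYk,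
    pullback.snd gi (D.map k.hom), pYk ≫ pY, pullback.fst fi pYk ≫ pX,
    by rw [D.map_comp]; exact (IsPullback.of_hasPullback gi (D.map k.hom)).paste_horiz h1,
    (IsPullback.of_hasPullback fi pYk).paste_horiz h2, ⟨inferInstance, inferInstance,
      MorphismProperty.pullback_snd _ _ ‹LocallyOfFinitePresentation fi›⟩, fun y => ?_⟩
  rw [Scheme.Hom.finrank_pullback_snd]
  have hy := hk (Set.mem_univ y)
  show fi.finrank (pYk y) = d
  rw [show pYk = (H7Lim.pbDiagram D i gi).map a ≫ b by simp [pYk, b, e₀], Scheme.Hom.comp_apply]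
  exact hy

end Groth.Agent.S9197
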