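-- statement Lim.GrothFrozen.S9201 (Groth/Statements/S9201.lean; the theorem Lim.eventually_isImmersion_structureMap_of_isLimit);
import Groth.Statements.S9201
import Groth.Agent.H7Lim.Proper.StructureMap

set_option autoImplicit false
universe u
open CategoryTheory AlgebraicGeometry
open Lim

namespace Groth.Agent.S9201
set_option backward.isDefEq.respectTransparency false
attribute [local instance] CategoryTheory.isConnected_of_hasTerminal

/-- Let S be a quasi-separated scheme and X = lim X_i a cofiltered limit of S-schemes X_i (a diagram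
with a compatible family of structure maps to S) whose transition morphisms are closed immersions,
every X_i quasi-compact, quasi-separated and locally of finite type over S; the structure map X → S
is the composite X → X_{i₀} → S for any index i₀. If X → S is an immersion, then X_i → S is an
immersion for all i beyond some index i₁. -/
theorem result {I : Type u} [SmallCategory I] [IsCofiltered I] (S : Scheme.{u}) [QuasiSeparatedSpace S]
    (D : I ⥤ Scheme.{u}) (t : D ⟶ (Functor.const I).obj S) (c : Limits.Cone D) (hc : Limits.IsLimit c)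
    [∀ (i j : I) (a : i ⟶ j), IsClosedImmersion (D.map a)]
    [∀ i, CompactSpace (D.obj i)] [∀ i, QuasiSeparatedSpace (D.obj i)]
    [∀ i, LocallyOfFiniteType (t.app i)] (i₀ : I)
    [IsImmersion (c.π.app i₀ ≫ t.app i₀)] :
    ∃ i₁ : I, ∀ (i : I) (_ : i ⟶ i₁), IsImmersion (t.app i) := by
  haveI : ∀ (i j : I) (a : i ⟶ j), IsAffineHom (D.map a) := fun i j a ↦ inferInstance
  haveI := H7Lim.isClosedImmersion_π_app hc i₀
  haveI : CompactSpace c.pt := QuasiCompact.compactSpace_of_compactSpace (c.π.app i₀)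
  let m : c.pt ⟶ S := c.π.app i₀ ≫ t.app i₀
  have hm : IsImmersion m := ‹_›
  have key : ∀ x ∈ Set.range m, ∃ V : S.Opens, IsAffineOpen V ∧ x ∈ V ∧ V ≤ m.coborderRange := by
    rintro x hx
    obtain ⟨V, hV, hxV, hVle⟩ := exists_isAffineOpen_mem_and_subset (x := x) (U := m.coborderRange)
      (subset_coborder hx)
    exact ⟨V, hV, hxV, hVle⟩
  choose V hV hxV hVle using key
  obtain ⟨T, hT⟩ := (isCompact_range m.continuous).elim_finite_subcover
    (fun x : Set.range m ↦ ((V x.1 x.2 : S.Opens) : Set S)) (fun x ↦ (V x.1 x.2).2)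
    (fun x hx ↦ Set.mem_iUnion.2 ⟨⟨x, hx⟩, hxV x hx⟩)
  let U' : S.Opens := T.sup fun x ↦ V x.1 x.2
  have hU'c : IsCompact (U' : Set S) := by
    classical
    simp only [U']
    clear hT U'
    induction T using Finset.induction with
    | empty => simp
    | insert a s _ ih =>
      rw [Finset.sup_insert, TopologicalSpace.Opens.coe_sup]
      exact (hV a.1 a.2).isCompact.union ih
  have hU'le : U' ≤ m.coborderRange := Finset.sup_le fun x _ ↦ hVle x.1 x.2
  have hsub : Set.range m ⊆ U' := fun y hy ↦ by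
    obtain ⟨x, hx, hyx⟩ := Set.mem_iUnion₂.1 (hT hy)
    exact Finset.le_sup (f := fun x : Set.range m ↦ V x.1 x.2) hx hyx
  haveI : CompactSpace U'.toScheme := isCompact_iff_compactSpace.mp hU'c
  haveI : QuasiSeparatedSpace U'.toScheme :=
    (isQuasiSeparated_iff_quasiSeparatedSpace _ U'.2).mp (.of_quasiSeparatedSpace _)
  have hE : H7Lim.QCImage ((Set.univ : Set (D.obj i₀)) ∩ (t.app i₀ ⁻¹' (U' : Set S))ᶜ) := by
    have := (H7Lim.qcImage_range (𝟙 (D.obj i₀))).inter_isClosed
      (Z := (t.app i₀ ⁻¹' (U' : Set S))ᶜ) ((U'.2.preimage (t.app i₀).continuous).isClosed_compl)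
    simpa using this
  obtain ⟨i₁, φ, hφ⟩ := hE.exists_preimage_subset hc (fun x _ ↦ hsub ⟨x, rfl⟩)
  have hr : ∀ j : Over i₁, Set.range (t.app j.left) ⊆ Set.range U'.ι := by
    rintro j _ ⟨x, rfl⟩
    rw [Scheme.Opens.range_ι]
    have h := hφ (Set.mem_univ (D.map j.hom x))
    have e : t.app j.left = (D.map j.hom ≫ D.map φ) ≫ t.app i₀ := by
      rw [← D.map_comp, t.naturality]; simp
    rw [e]
    exact h
  let E := Over.forget i₁ ⋙ D
  let t' : ∀ j : Over i₁, E.obj j ⟶ U'.toScheme := fun j ↦ IsOpenImmersion.lift U'.ι (t.app j.left) (hr j)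
  have ht' : ∀ {j k : Over i₁} (f : j ⟶ k), E.map f ≫ t' k = t' j := fun {j k} f ↦ by
    rw [← cancel_mono U'.ι, Category.assoc, IsOpenImmersion.lift_fac, IsOpenImmersion.lift_fac]
    exact (t.naturality f.left).trans (Category.comp_id _)
  haveI : ∀ (j k : Over i₁) (f : j ⟶ k), IsClosedImmersion (E.map f) := fun j k f ↦
    inferInstanceAs (IsClosedImmersion (D.map f.left))
  haveI : ∀ (j k : Over i₁) (f : j ⟶ k), IsAffineHom (E.map f) := fun j k f ↦ inferInstance
  haveI : ∀ j, LocallyOfFiniteType (t' j) := fun j ↦ by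
    haveI : LocallyOfFiniteType (t' j ≫ U'.ι) := by rw [IsOpenImmersion.lift_fac]; infer_instance
    exact locallyOfFiniteType_of_comp (t' j) U'.ι
  haveI : ∀ j, CompactSpace (E.obj j) := fun j ↦ inferInstanceAs (CompactSpace (D.obj j.left))
  haveI : ∀ j, QuasiSeparatedSpace (E.obj j) := fun j ↦ inferInstanceAs (QuasiSeparatedSpace (D.obj j.left))
  let e₀ : Over i₁ := Over.mk (𝟙 i₁)
  let k := (Limits.Cone.whisker (Over.forget i₁) c).π.app e₀ ≫ t' e₀
  have hk : k ≫ U'.ι = m := by
    simp only [k, t', Category.assoc, IsOpenImmersion.lift_fac]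
    exact H7Lim.π_app_comp_eq t i₁ i₀
  haveI : IsClosedImmersion k := by
    haveI : IsImmersion (k ≫ U'.ι) := by rw [hk]; exact hm
    haveI : IsImmersion k := IsImmersion.of_comp k U'.ι
    refine .of_isPreimmersion k ?_
    have he : Set.range k = U'.ι ⁻¹' closure (Set.range m) := by
      have h1 : Set.range m ⊆ closure (Set.range m) := subset_closure
      ext y
      constructor
      · rintro ⟨x, rfl⟩
        exact h1 ⟨x, by rw [← hk]; rfl⟩
      · intro hy
        have hy' : U'.ι y ∈ Set.range m := by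
          have hyc : U'.ι y ∈ coborder (Set.range m) := hU'le y.2
          rw [← coborder_inter_closure (s := Set.range m)]
          exact ⟨hyc, hy⟩
        obtain ⟨x, hx⟩ := hy'
        exact ⟨x, U'.ι.isOpenEmbedding.injective (by rw [← hx, ← hk]; rfl)⟩
    rw [he]
    exact isClosed_closure.preimage U'.ι.continuous
  obtain ⟨j, hj⟩ := H7Lim.exists_isClosedImmersion_structureMap (c := Limits.Cone.whisker (Over.forget i₁) c) t' ht'
    ((Functor.Initial.isLimitWhiskerEquiv (Over.forget i₁) c).symm hc) e₀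
  refine ⟨j.left, fun i a ↦ ?_⟩
  haveI := hj (Over.mk (a ≫ j.hom)) (Over.homMk a rfl)
  rw [show t.app i = t' (Over.mk (a ≫ j.hom)) ≫ U'.ι from (IsOpenImmersion.lift_fac _ _ _).symm]
  infer_instance

end Groth.Agent.S9201
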