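-- statement Lim.GrothFrozen.S9202 (Groth/Statements/S9202.lean; the theorem Lim.eventually_isProper_to_stage_of_isLimit);
import Groth.Statements.S9202
import Groth.Agent.H7Lim.Proper.Stage

set_option autoImplicit false
universe u
open CategoryTheory AlgebraicGeometry
open Lim

namespace Groth.Agent.S9202
set_option backward.isDefEq.respectTransparency false

/-- Let S be a scheme and X = lim X_i a cofiltered limit of S-schemes X_i (a diagram with a compatible
family of structure maps to S) with affine transition morphisms, every X_i quasi-compact and
quasi-separated; the structure map X → S is the composite X → X_{i₀} → S for any index i₀. Let h : Y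
→ X be a proper morphism such that the composite Y → X → S is locally of finite type. Then Y → X_i
is proper for all i beyond some index i₁. -/
theorem result {I : Type u} [SmallCategory I] [IsCofiltered I] (S : Scheme.{u})
    (D : I ⥤ Scheme.{u}) (t : D ⟶ (Functor.const I).obj S) (c : Limits.Cone D) (hc : Limits.IsLimit c)
    [∀ (i j : I) (a : i ⟶ j), IsAffineHom (D.map a)]
    [∀ i, CompactSpace (D.obj i)] [∀ i, QuasiSeparatedSpace (D.obj i)] (i₀ : I)
    {Y : Scheme.{u}} (h : Y ⟶ c.pt) [IsProper h] [LocallyOfFiniteType (h ≫ c.π.app i₀ ≫ t.app i₀)] :
    ∃ i₁ : I, ∀ (i : I) (_ : i ⟶ i₁), IsProper (h ≫ c.π.app i) := by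
  exact H7Lim.exists_isProper_stage t hc i₀ h

end Groth.Agent.S9202
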