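import Groth.Statements.S9203
import Mathlib
import Groth.Agent.H22Alg.ClosedUnion2

set_option autoImplicit false
universe u v
open CategoryTheory AlgebraicGeometry
open Lim

namespace Groth.Agent.S9203

/-- Suppose a scheme X is covered, as a topological space, by finitely many closed subschemes each of
which is affine: there are closed immersions Z_k → X, indexed by a finite type, with each Z_k affine
and whose images cover X. Then X is affine. -/
theorem result (X : Scheme.{u}) {κ : Type v} [Finite κ]
    (Z : κ → Scheme.{u}) (ι : ∀ k, Z k ⟶ X) [∀ k, IsClosedImmersion (ι k)] [∀ k, IsAffine (Z k)]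
    (hcov : ∀ x : X, ∃ k, x ∈ Set.range (ι k).base) : IsAffine X := by
  classical
  haveI := Fintype.ofFinite κ
  let C : κ → TopologicalSpace.Closeds X := fun k => ⟨Set.range (ι k), (ι k).isClosedEmbedding.isClosed_range⟩
  have hra : ∀ D : TopologicalSpace.Closeds X,
      Set.range (Scheme.IdealSheafData.vanishingIdeal D).subschemeι = (D : Set X) :=
    fun D => by rw [Scheme.IdealSheafData.range_subschemeι, Scheme.IdealSheafData.coe_support_vanishingIdeal]
  suffices h : ∀ (s : Finset κ) (D : TopologicalSpace.Closeds X), (D : Set X) = ⋃ k ∈ s, (C k : Set X) →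
      IsAffine (Scheme.IdealSheafData.vanishingIdeal D).subscheme by
    haveI := h Finset.univ ⊤ (Set.eq_univ_of_forall fun x => by
      obtain ⟨k, hk⟩ := hcov x
      exact Set.mem_biUnion (Finset.mem_univ k) hk).symm
    refine Groth.Agent.H7Lim.isAffine_of_surjective_closedImmersion
      (Scheme.IdealSheafData.vanishingIdeal (⊤ : TopologicalSpace.Closeds X)).subschemeι fun x => ?_
    exact (hra ⊤).ge (Set.mem_univ x)
  intro s
  induction s using Finset.induction_on with
  | empty =>
    intro D hD
    haveI : IsEmpty (Scheme.IdealSheafData.vanishingIdeal D).subscheme := ⟨fun y => by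
      have h1 : (Scheme.IdealSheafData.vanishingIdeal D).subschemeι y ∈ (D : Set X) := (hra D).le ⟨y, rfl⟩
      rw [hD] at h1
      simp at h1⟩
    infer_instance
  | @insert a s _ ih =>
    intro D hD
    let D' : TopologicalSpace.Closeds X :=
      ⟨⋃ k ∈ s, (C k : Set X), s.finite_toSet.isClosed_biUnion fun k _ => (C k).isClosed⟩
    haveI := ih D' rfl
    haveI := Groth.Agent.H17.isReduced_vanishingIdeal_subscheme D
    refine Groth.Agent.H22Alg.ClosedUnion.isAffine_of_subset_union (ι a)
      (Scheme.IdealSheafData.vanishingIdeal D').subschemeι (Scheme.IdealSheafData.vanishingIdeal D).subschemeι ?_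
    rw [hra, hra, hD, Finset.set_biUnion_insert]
    exact le_refl _

end Groth.Agent.S9203
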