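-- statement Lim.GrothFrozen.S9204 (Groth/Statements/S9204.lean; the theorem Lim.isQuasiAffine_iff_of_isClosedImmersion_isHomeomorph);
import Groth.Statements.S9204
import Groth.Agent.H7Lim.ThickeningQAff

set_option autoImplicit false
universe u
open CategoryTheory AlgebraicGeometry
open Lim

namespace Groth.Agent.S9204

/-- Suppose the closed immersion i : Z → X of schemes is a homeomorphism on the level of topological
spaces. Then Z is quasi-affine exactly when X is. No Noetherian hypothesis is imposed. -/
theorem result {Z X : Scheme.{u}} (i : Z ⟶ X) [IsClosedImmersion i]
    (hi : IsHomeomorph i.base) : X.IsQuasiAffine ↔ Z.IsQuasiAffine := by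
  constructor
  · intro h
    exact Scheme.IsQuasiAffine.of_isAffineHom i
  · intro h
    exact H7Lim.isQuasiAffine_of_surjective_closedImmersion i hi.surjective

end Groth.Agent.S9204
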