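-- statement Lim.GrothFrozen.S9207 (Groth/Statements/S9207.lean; the theorem Lim.exists_isEmpty_pullback_stage_of_isEmpty_pullback_limit);
import Groth.Statements.S9207
import Groth.Agent.H7Lim.Topology

set_option autoImplicit false
universe u
open CategoryTheory CategoryTheory.Limits AlgebraicGeometry
open Lim

namespace Groth.Agent.S9207

/-- Let S = lim S_i be a cofiltered limit of quasi-compact quasi-separated schemes with affine
transition morphisms, let i be an index and T → S_i a morphism of schemes with T quasi-compact. If
the fibre product T ×_{S_i} S is empty, then T ×_{S_i} S_{i'} is empty for some index i' over i (and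
then for every index over i'). -/
theorem result {I : Type u} [SmallCategory I] [IsCofiltered I]
    (D : I ⥤ Scheme.{u}) (c : Limits.Cone D) (hc : Limits.IsLimit c)
    [∀ (i j : I) (f : i ⟶ j), IsAffineHom (D.map f)] [∀ i, CompactSpace (D.obj i)]
    [∀ i, QuasiSeparatedSpace (D.obj i)] (i : I) {T : Scheme.{u}} (a : T ⟶ D.obj i) [CompactSpace T]
    (h : IsEmpty ↥(pullback a (c.π.app i))) :
    ∃ (i' : I) (φ : i' ⟶ i), IsEmpty ↥(pullback a (D.map φ)) := by
  exact Groth.Agent.H7Lim.exists_isEmpty_pullback D i a hc h

end Groth.Agent.S9207
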