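-- statement Lim.GrothFrozen.S9208 (Groth/Statements/S9208.lean; the theorem Lim.locallyOfFinitePresentation_of_hom_from_affine_limit_surjective);
import Groth.Statements.S9208
import Groth.Agent.H7Lim.LFPCriterion

set_option autoImplicit false
universe u
open CategoryTheory AlgebraicGeometry
open Lim

namespace Groth.Agent.S9208
set_option backward.isDefEq.respectTransparency false

/-- Let f : X → S be a morphism of schemes. Suppose that for every inverse system (T_j) of affine
schemes over S indexed by a nonempty directed preordered set, with limit T, the canonical map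
colim_j Mor_S(T_j, X) → Mor_S(T, X) is surjective: every S-morphism T → X is the composite of the
projection T → T_j with an S-morphism T_j → X for some j. Then f is locally of finite presentation
(surjectivity alone suffices; bijectivity is not required). -/
theorem result {X S : Scheme.{u}} (f : X ⟶ S)
    (h : ∀ (J : Type u) [Preorder J] [IsDirected J (· ≤ ·)] [Nonempty J] (D : Jᵒᵖ ⥤ Scheme.{u})
      (t : D ⟶ (Functor.const Jᵒᵖ).obj S) (c : Limits.Cone D) (_ : Limits.IsLimit c),
      (∀ j, IsAffine (D.obj j)) → ∀ (j₀ : Jᵒᵖ) (g : c.pt ⟶ X), g ≫ f = c.π.app j₀ ≫ t.app j₀ →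
        ∃ (j : Jᵒᵖ) (gj : D.obj j ⟶ X), gj ≫ f = t.app j ∧ c.π.app j ≫ gj = g) :
    LocallyOfFinitePresentation f := by
  refine Groth.Agent.H7Lim.locallyOfFinitePresentation_of_surjOn fun U _ J _ _ _ D t c hc haff j₀ g hg => ?_
  exact h J D (t ≫ (Functor.const Jᵒᵖ).map U.ι) c hc haff j₀ g hg

end Groth.Agent.S9208
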