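-- statement Lim.GrothFrozen.S9209 (Groth/Statements/S9209.lean; the theorem Lim.isProper_of_dvr_existence_through_dense);
import Groth.Statements.S9209
import Groth.Agent.H7Lim.DvrDense

set_option autoImplicit false
universe u
open CategoryTheory CategoryTheory.Limits AlgebraicGeometry
open Lim

namespace Groth.Agent.S9209
set_option backward.isDefEq.respectTransparency false

/-- Let S be a locally Noetherian scheme, f : X → S a separated morphism of finite type and h : U → X a
morphism of finite type whose image is dense in X. Suppose that for every discrete valuation ring A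
with fraction field K and every commutative square formed by a morphism Spec K → U → X and a
morphism Spec A → S, there is a morphism Spec A → X making the resulting diagram commute. Then f is
proper. -/
theorem result {X S U : Scheme.{u}} [IsLocallyNoetherian S] (f : X ⟶ S)
    [IsSeparated f] [LocallyOfFiniteType f] [QuasiCompact f] (h : U ⟶ X) [LocallyOfFiniteType h] [QuasiCompact h]
    (hd : DenseRange h.base)
    (H : ∀ (A : Type u) [CommRing A] [IsDomain A] [IsDiscreteValuationRing A]
      (u : Spec (CommRingCat.of (FractionRing A)) ⟶ U) (y : Spec (CommRingCat.of A) ⟶ S),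
      u ≫ h ≫ f = Spec.map (CommRingCat.ofHom (algebraMap A (FractionRing A))) ≫ y →
        ∃ l : Spec (CommRingCat.of A) ⟶ X, l ≫ f = y ∧ Spec.map (CommRingCat.ofHom (algebraMap A (FractionRing A))) ≫ l = u ≫ h) :
    IsProper f := by
  haveI := LocallyOfFiniteType.isLocallyNoetherian f
  refine H7Lim.DvrDense.isProper_of_points f h fun η hη => ?_
  obtain ⟨w, hw⟩ := H7Lim.DvrDense.genericPoints_subset_range h hd hη
  refine ⟨w, hw, fun A hA y hy => ?_⟩
  obtain ⟨e, he, hee⟩ := H11Val.map_fractionRing A (U.residueField w)
  have hee' : e ≫ Spec.map (CommRingCat.ofHom A.subtype) = Spec.map (CommRingCat.ofHom (algebraMap A (FractionRing A))) := hee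
  obtain ⟨l, h1, h2⟩ := H A (e ≫ U.fromSpecResidueField w) y (by rw [Category.assoc, ← hy, ← Category.assoc, hee'])
  refine ⟨l, h1, ?_⟩
  rw [← cancel_epi e, ← Category.assoc, hee', h2, Category.assoc]

end Groth.Agent.S9209
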