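-- statement Lim.GrothFrozen.S9210 (Groth/Statements/S9210.lean; the theorem Lim.isSeparated_of_dvr_uniqueness_through_dense);
import Groth.Statements.S9210
import Groth.Agent.H7Lim.DvrDense

set_option autoImplicit false
universe u
open CategoryTheory CategoryTheory.Limits AlgebraicGeometry
open Lim

namespace Groth.Agent.S9210
set_option backward.isDefEq.respectTransparency false

/-- Let S be a locally Noetherian scheme, f : X → S a morphism locally of finite type and h : U → X a
morphism of finite type whose image is dense in X. Suppose that for every discrete valuation ring A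
with fraction field K and every commutative square formed by a morphism Spec K → U → X and a
morphism Spec A → S, there is at most one morphism Spec A → X making the resulting diagram commute.
Then f is separated. -/
theorem result {X S U : Scheme.{u}} [IsLocallyNoetherian S] (f : X ⟶ S)
    [LocallyOfFiniteType f] (h : U ⟶ X) [LocallyOfFiniteType h] [QuasiCompact h] (hd : DenseRange h.base)
    (H : ∀ (A : Type u) [CommRing A] [IsDomain A] [IsDiscreteValuationRing A]
      (u : Spec (CommRingCat.of (FractionRing A)) ⟶ U) (y : Spec (CommRingCat.of A) ⟶ S),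
      u ≫ h ≫ f = Spec.map (CommRingCat.ofHom (algebraMap A (FractionRing A))) ≫ y →
        ∀ l₁ l₂ : Spec (CommRingCat.of A) ⟶ X, l₁ ≫ f = y → Spec.map (CommRingCat.ofHom (algebraMap A (FractionRing A))) ≫ l₁ = u ≫ h →
          l₂ ≫ f = y → Spec.map (CommRingCat.ofHom (algebraMap A (FractionRing A))) ≫ l₂ = u ≫ h → l₁ = l₂) :
    IsSeparated f := by
  haveI := LocallyOfFiniteType.isLocallyNoetherian f
  refine H7Lim.DvrDense.isSeparated_of_points f h fun η hη => ?_
  obtain ⟨w, hw⟩ := H7Lim.DvrDense.genericPoints_subset_range h hd hη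
  refine ⟨w, hw, fun A hA l₁ l₂ hl h1 h2 => ?_⟩
  obtain ⟨e, he, hee⟩ := H11Val.map_fractionRing A (U.residueField w)
  have hee' : e ≫ Spec.map (CommRingCat.ofHom A.subtype) = Spec.map (CommRingCat.ofHom (algebraMap A (FractionRing A))) := hee
  have k : ∀ l : Spec (CommRingCat.of A) ⟶ X, Spec.map (CommRingCat.ofHom A.subtype) ≫ l = U.fromSpecResidueField w ≫ h →
      Spec.map (CommRingCat.ofHom (algebraMap A (FractionRing A))) ≫ l = (e ≫ U.fromSpecResidueField w) ≫ h := fun l hh => by
    rw [← hee', Category.assoc, hh, Category.assoc]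
  refine H A (e ≫ U.fromSpecResidueField w) (l₁ ≫ f) ?_ l₁ l₂ rfl (k _ h1) hl.symm (k _ h2)
  rw [← Category.assoc _ l₁, k _ h1]
  simp only [Category.assoc]

end Groth.Agent.S9210
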