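-- statement Lim.GrothFrozen.S9211 (Groth/Statements/S9211.lean; the theorem Lim.isSeparated_iff_dvr_uniqueness_at_generic_points);
import Groth.Statements.S9211
import Groth.Agent.H7Lim.DvrDense

set_option autoImplicit false
universe u
open CategoryTheory CategoryTheory.Limits AlgebraicGeometry
open Lim

namespace Groth.Agent.S9211
set_option backward.isDefEq.respectTransparency false

/-- Let S be a locally Noetherian scheme and f : X → S a morphism locally of finite type. Then f is
separated if and only if the following uniqueness holds: for every generic point η of an irreducible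
component of X, every discrete valuation ring A contained in the residue field κ(η) with fraction
field κ(η) (a valuation subring of κ(η) which is a discrete valuation ring), and every pair of
morphisms Spec A → X with the same composite to S and both restricting on Spec κ(η) to the canonical
morphism Spec κ(η) → X, the two morphisms coincide. -/
theorem result {X S : Scheme.{u}} [IsLocallyNoetherian S] (f : X ⟶ S)
    [LocallyOfFiniteType f] :
    IsSeparated f ↔ ∀ (η : X), closure {η} ∈ irreducibleComponents (X : Type u) →
      ∀ (A : ValuationSubring (X.residueField η)), IsDiscreteValuationRing A →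
        ∀ l₁ l₂ : Spec (CommRingCat.of A) ⟶ X, l₁ ≫ f = l₂ ≫ f →
          Spec.map (CommRingCat.ofHom A.subtype) ≫ l₁ = X.fromSpecResidueField η →
          Spec.map (CommRingCat.ofHom A.subtype) ≫ l₂ = X.fromSpecResidueField η → l₁ = l₂ := by
  constructor
  · intro hs η hη A hA l₁ l₂ hl h1 h2
    obtain ⟨e, he, hee⟩ := H11Val.map_fractionRing A (X.residueField η)
    have hee' : e ≫ Spec.map (CommRingCat.ofHom A.subtype) = Spec.map (CommRingCat.ofHom (algebraMap A (FractionRing A))) := hee
    exact H11Val.dvrUniqueness_of_isSeparated f A l₁ l₂ hl (by rw [← hee', Category.assoc, Category.assoc, h1, h2])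
  · intro H
    exact H7Lim.DvrDense.isSeparated_of_points f (𝟙 X) fun η hη => ⟨η, rfl, fun A hA l₁ l₂ hl h1 h2 =>
      H η hη A hA l₁ l₂ hl (h1.trans (Category.comp_id _)) (h2.trans (Category.comp_id _))⟩

end Groth.Agent.S9211
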