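-- statement Lim.GrothFrozen.S9212 (Groth/Statements/S9212.lean; the theorem Lim.isProper_iff_dvr_existsUnique_at_generic_points);
import Groth.Statements.S9212
import Groth.Agent.H7Lim.DvrDense

set_option autoImplicit false
universe u
open CategoryTheory CategoryTheory.Limits AlgebraicGeometry
open Lim

namespace Groth.Agent.S9212
set_option backward.isDefEq.respectTransparency false

/-- Let S be a locally Noetherian scheme and f : X → S a morphism of finite type. Then f is proper if
and only if: for every generic point η of an irreducible component of X, every discrete valuation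
ring A contained in the residue field κ(η) with fraction field κ(η) (a valuation subring of κ(η)
which is a discrete valuation ring), and every morphism Spec A → S whose restriction to Spec κ(η) is
the canonical morphism Spec κ(η) → X followed by f, there is exactly one morphism Spec A → X over S
restricting to the canonical morphism on Spec κ(η). -/
theorem result {X S : Scheme.{u}} [IsLocallyNoetherian S] (f : X ⟶ S)
    [LocallyOfFiniteType f] [QuasiCompact f] :
    IsProper f ↔ ∀ (η : X), closure {η} ∈ irreducibleComponents (X : Type u) →
      ∀ (A : ValuationSubring (X.residueField η)), IsDiscreteValuationRing A →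
        ∀ y : Spec (CommRingCat.of A) ⟶ S,
          Spec.map (CommRingCat.ofHom A.subtype) ≫ y = X.fromSpecResidueField η ≫ f →
          ∃! l : Spec (CommRingCat.of A) ⟶ X,
            l ≫ f = y ∧ Spec.map (CommRingCat.ofHom A.subtype) ≫ l = X.fromSpecResidueField η := by
  constructor
  · intro hp η hη A hA y hy
    obtain ⟨e, he, hee⟩ := H11Val.map_fractionRing A (X.residueField η)
    have hee' : e ≫ Spec.map (CommRingCat.ofHom A.subtype) = Spec.map (CommRingCat.ofHom (algebraMap A (FractionRing A))) := hee
    obtain ⟨l, h1, h2⟩ := H11Val.dvrExistence_of_universallyClosed f A (e ≫ X.fromSpecResidueField η) y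
      (by rw [Category.assoc, ← hy, ← Category.assoc, hee'])
    refine ⟨l, ⟨h1, by rw [← cancel_epi e, ← Category.assoc, hee', h2]⟩, fun l' ⟨h1', h2'⟩ => ?_⟩
    refine H11Val.dvrUniqueness_of_isSeparated f A l' l (h1'.trans h1.symm) ?_
    rw [h2, ← hee', Category.assoc, h2']
  · intro H
    haveI : IsSeparated f := H7Lim.DvrDense.isSeparated_of_points f (𝟙 X) fun η hη => ⟨η, rfl, fun A hA l₁ l₂ hl h1 h2 =>
      (H η hη A hA (l₁ ≫ f) (by rw [← Category.assoc, h1, Category.comp_id])).unique
        ⟨rfl, h1.trans (Category.comp_id _)⟩ ⟨hl.symm, h2.trans (Category.comp_id _)⟩⟩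
    exact H7Lim.DvrDense.isProper_of_points f (𝟙 X) fun η hη => ⟨η, rfl, fun A hA y hy => by
      obtain ⟨l, ⟨h1, h2⟩, -⟩ := H η hη A hA y (by rw [hy, Category.id_comp])
      exact ⟨l, h1, h2.trans (Category.comp_id _).symm⟩⟩

end Groth.Agent.S9212
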