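-- statement Lim.GrothFrozen.S9214 (Groth/Statements/S9214.lean; the theorem Lim.exists_finiteType_stage_closedImmersion_of_noetherian_limit);
import Groth.Statements.S9214
import Groth.Agent.H7Lim.Approx.Consequences
import Groth.Agent.H7Lim.FPDescent.Exists

set_option autoImplicit false
universe u
open CategoryTheory CategoryTheory.Limits AlgebraicGeometry
open Lim

namespace Groth.Agent.S9214
set_option backward.isDefEq.respectTransparency false

/-- Let S = lim S_i be a cofiltered limit of Noetherian schemes with affine transition morphisms, and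
suppose X → S is of finite type and quasi-separated. One can then find an index i, a finite type
morphism W → S_i and a morphism X → W over S_i (compatible with X → S → S_i) for which the resulting
map X → S ×_{S_i} W into the fibre product is a closed immersion. -/
theorem result {I : Type u} [SmallCategory I] [IsCofiltered I]
    (D : I ⥤ Scheme.{u}) (c : Limits.Cone D) (hc : Limits.IsLimit c)
    [∀ (i j : I) (f : i ⟶ j), IsAffineHom (D.map f)] [∀ i, IsNoetherian (D.obj i)]
    {X : Scheme.{u}} (a : X ⟶ c.pt) [QuasiSeparated a] [QuasiCompact a] [LocallyOfFiniteType a] :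
    ∃ (i : I) (W : Scheme.{u}) (w : W ⟶ D.obj i) (b : X ⟶ W) (hb : a ≫ c.π.app i = b ≫ w),
      LocallyOfFiniteType w ∧ QuasiCompact w ∧ IsClosedImmersion (pullback.lift a b hb) := by
  haveI := fun i ↦ isAffineHom_π_app D c hc i
  haveI : Nonempty I := IsCofiltered.nonempty
  let i₀ : I := Classical.arbitrary I
  haveI : CompactSpace c.pt := QuasiCompact.compactSpace_of_compactSpace (c.π.app i₀)
  haveI : QuasiSeparatedSpace c.pt := quasiSeparatedSpace_of_quasiSeparated (c.π.app i₀)
  haveI : CompactSpace X := QuasiCompact.compactSpace_of_compactSpace a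
  haveI : QuasiSeparatedSpace X := quasiSeparatedSpace_of_quasiSeparated a
  obtain ⟨Xb, f', j, hlfp, hqc, hqs, -, -, hj, hjf, -⟩ := H7Lim.Approx.exists_isClosedImmersion_fp a
  obtain ⟨i, ⟨M⟩⟩ := H7Lim.FPDescent.exists_model hc f'
  haveI := M.lfp; haveI := M.qc
  have hb : a ≫ c.π.app i = (j ≫ M.g) ≫ M.p := by rw [← hjf, Category.assoc, Category.assoc, M.hpb.w]
  refine ⟨i, M.P, M.p, j ≫ M.g, hb, inferInstance, inferInstance, ?_⟩
  have h : Limits.pullback.lift a (j ≫ M.g) hb = j ≫ M.hpb.flip.isoPullback.hom := by
    apply Limits.pullback.hom_ext <;> simp [hjf]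
  rw [h]; infer_instance

end Groth.Agent.S9214
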