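-- statement Lim.GrothFrozen.S9224 (Groth/Statements/S9224.lean; the theorem Lim.exists_lfp_nhd_closed_avoiding_fibre);
import Groth.Statements.S9224
import Groth.Agent.H7Lim.AvoidFibre

set_option autoImplicit false
universe u
open CategoryTheory CategoryTheory.Limits AlgebraicGeometry
open Lim

namespace Groth.Agent.S9224
open scoped TensorProduct
set_option backward.isDefEq.respectTransparency false
set_option maxHeartbeats 800000

/-- Let f : X → S be a quasi-compact morphism, g : T → S a morphism, t a point of T and Z a closed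
subset of X_T = X ×_S T which does not meet the fibre of X_T → T over t. Then there exist an affine
open neighbourhood V of t in T, an affine scheme T' with a morphism b : T' → S locally of finite
presentation, a morphism a : V → T' whose composite with b is the restriction of g, and a closed
subset Z' of X_{T'} = X ×_S T' which does not meet the fibre over t' = a(t), such that the induced
morphism X_V → X_{T'} maps every point of X_V lying over Z (under X_V → X_T) into Z'. The morphisms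
X_V → X_T and X_V → X_{T'} are the canonical ones, characterised by their projections. -/
theorem result {X S T : Scheme.{u}} (f : X ⟶ S) [QuasiCompact f] (g : T ⟶ S) (t : T)
    (Z : Set ↥(pullback f g)) (hZ : IsClosed Z) (hZt : ∀ z ∈ Z, (pullback.snd f g).base z ≠ t) :
    ∃ (V : T.Opens) (ht : t ∈ V) (T' : Scheme.{u}) (b : T' ⟶ S) (a : (V : Scheme.{u}) ⟶ T')
      (n : pullback f (V.ι ≫ g) ⟶ pullback f g) (m : pullback f (V.ι ≫ g) ⟶ pullback f b)
      (Z' : Set ↥(pullback f b)),
      IsAffineOpen V ∧ IsAffine T' ∧ LocallyOfFinitePresentation b ∧ a ≫ b = V.ι ≫ g ∧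
      n ≫ pullback.fst f g = pullback.fst f (V.ι ≫ g) ∧ n ≫ pullback.snd f g = pullback.snd f (V.ι ≫ g) ≫ V.ι ∧
      m ≫ pullback.fst f b = pullback.fst f (V.ι ≫ g) ∧ m ≫ pullback.snd f b = pullback.snd f (V.ι ≫ g) ≫ a ∧
      IsClosed Z' ∧ (∀ z' ∈ Z', (pullback.snd f b).base z' ≠ a.base ⟨t, ht⟩) ∧
      ∀ z : ↥(pullback f (V.ι ≫ g)), n.base z ∈ Z → m.base z ∈ Z' := by
  classical
  obtain ⟨W, hW, htW, -⟩ := exists_isAffineOpen_mem_and_subset (X := S) (x := g.base t) (U := ⊤) trivial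
  obtain ⟨V, hV, htV, hVW⟩ := exists_isAffineOpen_mem_and_subset (X := T) (x := t) (U := g ⁻¹ᵁ W) htW
  obtain ⟨fam, hfin, hfam⟩ := (isCompact_and_isOpen_iff_finite_and_eq_biUnion_affineOpens
    (U := ((f ⁻¹ᵁ W : X.Opens) : Set X))).mp ⟨f.isCompact_preimage hW.isCompact, (f ⁻¹ᵁ W).2⟩
  haveI := hfin.fintype
  letI algA : Algebra Γ(S, W) Γ(T, V) := (g.appLE W V hVW).hom.toAlgebra
  have eU : ∀ U : fam, U.1.1 ≤ f ⁻¹ᵁ W := fun U x hx => by
    show x ∈ ((f ⁻¹ᵁ W : X.Opens) : Set X)
    rw [hfam]; exact Set.mem_iUnion₂.mpr ⟨U.1, U.2, hx⟩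
  letI algB : ∀ U : fam, Algebra Γ(S, W) Γ(X, U.1.1) := fun U => (f.appLE W U.1.1 (eU U)).hom.toAlgebra
  let bA : Spec Γ(T, V) ⟶ S := Spec.map (CommRingCat.ofHom (algebraMap Γ(S, W) Γ(T, V))) ≫ hW.fromSpec
  have hbA : bA = hV.fromSpec ≫ g := IsAffineOpen.SpecMap_appLE_fromSpec g hW hV hVW
  let nA : pullback f bA ⟶ pullback f g := pullback.lift (pullback.fst _ _) (pullback.snd _ _ ≫ hV.fromSpec)
    (by rw [pullback.condition, Category.assoc, hbA])
  choose jA hjA_open hjA_range hjA_fst hjA_snd using fun U : fam =>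
    H7Lim.AvoidFibre.exists_chart f hW U.1.2 (eU U) Γ(T, V)
  let q : PrimeSpectrum Γ(T, V) := hV.primeIdealOf ⟨t, htV⟩
  have hq : hV.fromSpec q = t := hV.fromSpec_primeIdealOf ⟨t, htV⟩
  let Ii := fun U : fam => PrimeSpectrum.vanishingIdeal ((jA U ≫ nA).base ⁻¹' Z)
  choose sset hsset using fun U : fam => H7Lim.AvoidFibre.exists_descended_element Γ(X, U.1.1) q (Ii U)
    (fun P hP hPq => by
      have hmem : (jA U ≫ nA).base P ∈ Z := by
        have : P ∈ PrimeSpectrum.zeroLocus (Ii U : Set _) := (PrimeSpectrum.mem_zeroLocus _ _).mpr hP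
        rw [PrimeSpectrum.zeroLocus_vanishingIdeal_eq_closure,
          (hZ.preimage (jA U ≫ nA).continuous).closure_eq] at this
        exact this
      refine hZt _ hmem ?_
      have e : (jA U ≫ nA) ≫ pullback.snd f g = Spec.map (CommRingCat.ofHom
          (Algebra.TensorProduct.includeRight : Γ(T, V) →ₐ[Γ(S, W)] _).toRingHom) ≫ hV.fromSpec := by
        simp only [nA, Category.assoc, pullback.lift_snd]
        rw [reassoc_of% (hjA_snd U)]
      show ((jA U ≫ nA) ≫ pullback.snd f g).base P = t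
      rw [e, ← hq]
      show hV.fromSpec (PrimeSpectrum.comap _ P) = hV.fromSpec q
      exact congrArg hV.fromSpec hPq)
  let σ : Finset Γ(T, V) := Finset.univ.biUnion sset
  choose h' hI' hP' using fun U : fam => hsset U σ (Finset.subset_biUnion_of_mem sset (Finset.mem_univ U))
  let R' := MvPolynomial {a // a ∈ σ} Γ(S, W)
  let b : Spec (CommRingCat.of R') ⟶ S := Spec.map (CommRingCat.ofHom (algebraMap Γ(S, W) R')) ≫ hW.fromSpec
  let ev := Spec.map (CommRingCat.ofHom (H7Lim.AvoidFibre.evalSub Γ(S, W) Γ(T, V) σ).toRingHom)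
  have hev : ev ≫ b = bA := by
    simp only [ev, b, bA, ← Spec.map_comp_assoc, ← CommRingCat.ofHom_comp]
    congr 2
    exact congrArg CommRingCat.ofHom
      (RingHom.ext (H7Lim.AvoidFibre.evalSub Γ(S, W) Γ(T, V) σ).commutes)
  let mA : pullback f bA ⟶ pullback f b := pullback.lift (pullback.fst _ _) (pullback.snd _ _ ≫ ev)
    (by rw [pullback.condition, Category.assoc, hev])
  choose j hj_open hj_range hj_fst hj_snd using fun U : fam =>
    H7Lim.AvoidFibre.exists_chart f hW U.1.2 (eU U) R'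
  let Zc : Set ↥(pullback f b) := (⋃ U : fam, (j U).base '' (PrimeSpectrum.basicOpen (h' U) : Set (PrimeSpectrum _)))ᶜ
  let a : (V : Scheme.{u}) ⟶ Spec (CommRingCat.of R') := hV.isoSpec.hom ≫ ev
  have hVι : hV.isoSpec.hom ≫ bA = V.ι ≫ g := by rw [hbA, IsAffineOpen.isoSpec_hom, IsAffineOpen.toSpecΓ_fromSpec_assoc]
  let k : pullback f (V.ι ≫ g) ⟶ pullback f bA := pullback.lift (pullback.fst _ _)
    (pullback.snd _ _ ≫ hV.isoSpec.hom) (by rw [pullback.condition, Category.assoc, hVι])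
  refine ⟨V, htV, Spec (CommRingCat.of R'), b, a, k ≫ nA, k ≫ mA, Zc, hV, inferInstance, ?_, ?_, ?_, ?_, ?_, ?_,
    ?_, ?_, ?_⟩
  · haveI : LocallyOfFinitePresentation (Spec.map (CommRingCat.ofHom (algebraMap Γ(S, W) R'))) :=
      (HasRingHomProperty.Spec_iff (P := @LocallyOfFinitePresentation)).mpr
        (RingHom.finitePresentation_algebraMap.mpr inferInstance)
    exact MorphismProperty.comp_mem @LocallyOfFinitePresentation _ _ inferInstance inferInstance
  · rw [Category.assoc, hev, hVι]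
  · simp [k, nA]
  · simp only [k, nA, Category.assoc, pullback.lift_snd, pullback.lift_snd_assoc, IsAffineOpen.isoSpec_hom,
      IsAffineOpen.toSpecΓ_fromSpec]
  · simp [k, mA]
  · simp [k, mA, a]
  · exact (isOpen_iUnion fun U => (j U).isOpenEmbedding.isOpenMap _ (PrimeSpectrum.basicOpen (h' U)).2).isClosed_compl
  · intro z' hz' heq
    have hW' : (pullback.fst f b).base z' ∈ f ⁻¹ᵁ W := by
      show f.base ((pullback.fst f b).base z') ∈ W
      rw [← Scheme.Hom.comp_apply, pullback.condition]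
      show hW.fromSpec _ ∈ W
      exact hW.range_fromSpec.le ⟨_, rfl⟩
    have hW'' : (pullback.fst f b).base z' ∈ ((f ⁻¹ᵁ W : X.Opens) : Set X) := hW'
    rw [hfam] at hW''
    obtain ⟨U, hU, hzU⟩ := Set.mem_iUnion₂.mp hW''
    obtain ⟨P, hP⟩ : z' ∈ Set.range (j ⟨U, hU⟩) := by rw [hj_range]; exact hzU
    refine hz' (Set.mem_iUnion.mpr ⟨⟨U, hU⟩, P, hP' ⟨U, hU⟩ P ?_, hP⟩)
    rw [← hP, ← Scheme.Hom.comp_apply, hj_snd] at heq
    refine heq.trans ?_
    show ev (hV.isoSpec.hom ⟨t, htV⟩) = _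
    rfl
  · intro z hz hm
    obtain ⟨U, P, hP, hPz⟩ := Set.mem_iUnion.mp hm
    obtain ⟨Q, hQ⟩ : k.base z ∈ Set.range (jA U) := by
      rw [hjA_range]
      show (pullback.fst f bA).base (k.base z) ∈ (U.1.1 : Set X)
      have hz1 : (pullback.fst f b).base (j U P) ∈ (U.1.1 : Set X) := (hj_range U).le ⟨P, rfl⟩
      rw [hPz] at hz1
      rw [← Scheme.Hom.comp_apply] at hz1 ⊢
      simpa [k, mA] using hz1
    let tm := Spec.map (CommRingCat.ofHom (H7Lim.AvoidFibre.evalTensor Γ(S, W) Γ(T, V) Γ(X, U.1.1) σ).toRingHom)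
    have hcomm : jA U ≫ mA = tm ≫ j U := by
      apply pullback.hom_ext
      · simp only [mA, tm, Category.assoc, pullback.lift_fst]
        erw [hjA_fst U, hj_fst U]
        rw [← Spec.map_comp_assoc, ← CommRingCat.ofHom_comp]
        congr 3
        refine RingHom.ext fun x => ?_
        show x ⊗ₜ (1 : Γ(T, V)) = H7Lim.AvoidFibre.evalTensor Γ(S, W) Γ(T, V) Γ(X, U.1.1) σ (x ⊗ₜ 1)
        simp [H7Lim.AvoidFibre.evalTensor]
      · simp only [mA, tm, Category.assoc, pullback.lift_snd]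
        erw [reassoc_of% (hjA_snd U), hj_snd U]
        simp only [ev]
        rw [← Spec.map_comp, ← Spec.map_comp, ← CommRingCat.ofHom_comp, ← CommRingCat.ofHom_comp]
        congr 2
    have hPQ : tm Q = P := by
      apply (j U).isOpenEmbedding.injective
      rw [← Scheme.Hom.comp_apply, ← hcomm, Scheme.Hom.comp_apply, hQ, ← Scheme.Hom.comp_apply]
      exact hPz.symm
    have hQZ : (jA U ≫ nA).base Q ∈ Z := by
      rw [Scheme.Hom.comp_apply, hQ, ← Scheme.Hom.comp_apply]; exact hz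
    have : H7Lim.AvoidFibre.evalTensor Γ(S, W) Γ(T, V) Γ(X, U.1.1) σ (h' U) ∈ Q.asIdeal :=
      (PrimeSpectrum.mem_vanishingIdeal _ _).mp (hI' U) Q hQZ
    rw [← hPQ] at hP
    exact hP this

end Groth.Agent.S9224
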