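import Groth.Statements.S9225
import Groth.Agent.H02CA.RegularQuotient
import Mathlib.RingTheory.Localization.Ideal
import Mathlib.RingTheory.Localization.AtPrime.Basic

set_option autoImplicit false
universe u
open CAlg

namespace Groth.Agent.S9225

/-- Let R be a regular ring, f an element of R and D a derivation of R such that the image of D(f) in
R/(f) is a unit. Then R/(f) is a regular ring. -/
theorem result (R : Type u) [CommRing R] [IsRegularRing R]
    (f : R) (D : Derivation ℤ R R)
    (hD : IsUnit (Ideal.Quotient.mk (Ideal.span {f}) (D f))) :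
    IsRegularRing (R ⧸ Ideal.span ({f} : Set R)) := by
  classical
  refine isRegularRing_iff.mpr fun Q hQ => ?_
  let q := Q.comap (Ideal.Quotient.mk (Ideal.span {f}))
  have hfq : f ∈ q := by
    show Ideal.Quotient.mk _ f ∈ Q
    rw [Ideal.Quotient.eq_zero_iff_mem.mpr (Ideal.mem_span_singleton_self f)]
    exact Q.zero_mem
  have hDq : D f ∉ q := fun h => hQ.ne_top (Ideal.eq_top_of_isUnit_mem _ h hD)
  haveI := (isRegularRing_iff.mp (inferInstance : IsRegularRing R)) q
  set A := Localization.AtPrime q
  have hfm : algebraMap R A f ∈ IsLocalRing.maximalIdeal A := (IsLocalization.AtPrime.to_map_mem_maximal_iff A q f).mpr hfq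
  have hf2 : algebraMap R A f ∉ IsLocalRing.maximalIdeal A ^ 2 := by
    intro h
    rw [← IsLocalization.AtPrime.map_eq_maximalIdeal q A, ← Ideal.map_pow,
      IsLocalization.algebraMap_mem_map_algebraMap_iff q.primeCompl] at h
    obtain ⟨s, hs, hsf⟩ := h
    have h2 : ∀ z ∈ q ^ 2, D z ∈ q := fun z hz => by
      rw [pow_two] at hz
      induction hz using Submodule.mul_induction_on' with
      | mem_mul_mem a ha b hb =>
        rw [Derivation.leibniz]
        exact add_mem (Ideal.mul_mem_right _ _ ha) (Ideal.mul_mem_right _ _ hb)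
      | add a _ b _ ha hb => rw [map_add]; exact add_mem ha hb
    have h3 := h2 _ hsf
    rw [Derivation.leibniz, smul_eq_mul, smul_eq_mul] at h3
    have h4 : s * D f ∈ q := (Submodule.add_mem_iff_left _ (q.mul_mem_right (D s) hfq)).mp h3
    exact ((inferInstance : q.IsPrime).mem_or_mem h4).elim hs hDq
  obtain ⟨hreg, -⟩ := H02CA.regular_quotient_of_independent (R := A) (fun _ : Fin 1 => algebraMap R A f) (fun _ => hfm)
    fun a ha j => by
      rw [Fin.sum_univ_one] at ha
      by_contra hu
      rw [IsLocalRing.mem_maximalIdeal, mem_nonunits_iff, not_not] at hu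
      have : a 0 = a j := by rw [Subsingleton.elim j 0]
      rw [← this] at hu
      exact hf2 ((Ideal.unit_mul_mem_iff_mem _ hu).mp ha)
  have hspan : Ideal.span (Set.range fun _ : Fin 1 => algebraMap R A f) = (Ideal.span {f}).map (algebraMap R A) := by
    rw [Set.range_const, Ideal.map_span, Set.image_singleton]
  rw [hspan] at hreg
  have hM : Algebra.algebraMapSubmonoid (R ⧸ Ideal.span {f}) q.primeCompl = Q.primeCompl := by
    ext z
    constructor
    · rintro ⟨s, hs, rfl⟩; exact hs
    · intro hz
      obtain ⟨s, rfl⟩ := Ideal.Quotient.mk_surjective z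
      exact ⟨s, hz, rfl⟩
  haveI : IsLocalization Q.primeCompl (A ⧸ (Ideal.span {f}).map (algebraMap R A)) := by
    rw [← hM]; infer_instance
  exact IsRegularLocalRing.of_ringEquiv (IsLocalization.algEquiv Q.primeCompl
    (A ⧸ (Ideal.span {f}).map (algebraMap R A)) (Localization.AtPrime Q)).toRingEquiv

end Groth.Agent.S9225
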