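import Groth.Statements.S9227
import Groth.Agent.S9225
import Mathlib.RingTheory.RegularLocalRing.Polynomial
import Mathlib.RingTheory.Derivation.MapCoeffs
import Mathlib.Algebra.Polynomial.Derivation

set_option autoImplicit false
universe u
open CAlg

namespace Groth.Agent.S9227

/-- Let R be a regular ring, f an element of R and D a derivation of R with D(f) a unit of R. Then for
every polynomial p with integer coefficients the ring R[z]/(p(z) - f) is regular; in particular
R[z]/(z^n - f) is regular for every n ≥ 1. -/
theorem result (R : Type u) [CommRing R]
    [IsRegularRing R] (f : R) (D : Derivation ℤ R R) (hD : IsUnit (D f)) (p : Polynomial ℤ) :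
    IsRegularRing (Polynomial R ⧸
      Ideal.span ({Polynomial.map (Int.castRingHom R) p - Polynomial.C f} : Set (Polynomial R))) := by
  classical
  let E : Derivation ℤ (Polynomial R) (Polynomial R) :=
    (PolynomialModule.equivPolynomialSelf (R := R)).toLinearMap.compDer D.mapCoeffs
  have hE : ∀ q : Polynomial R, ∀ i, (E q).coeff i = D (q.coeff i) := fun q i => rfl
  refine S9225.result (Polynomial R) _ E ?_
  have h1 : E (Polynomial.map (Int.castRingHom R) p - Polynomial.C f) = - Polynomial.C (D f) := by
    refine Polynomial.ext fun i => ?_
    rw [hE, Polynomial.coeff_sub, Polynomial.coeff_map, map_sub, Polynomial.coeff_neg, Polynomial.coeff_C, Polynomial.coeff_C]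
    rw [show D ((Int.castRingHom R) (p.coeff i)) = 0 from by simp]
    split_ifs <;> simp
  erw [h1]
  exact ((hD.map Polynomial.C).neg).map _

end Groth.Agent.S9227
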