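import Groth.Statements.S9229
import Groth.Agent.H9Hens.BranchCompletion
import Groth.Agent.H05EGA4.FormalCatenary

set_option autoImplicit false
universe u
open EGA4

namespace Groth.Agent.S9229

/-- A Noetherian local ring A whose formal fibres are geometrically normal and which is unibranch (a
normal local ring, say) is universally catenary. -/
theorem result (A : Type u) [CommRing A]
    [IsLocalRing A] [IsNoetherianRing A] (hA : EGA4.HasGeomNormalFormalFibres A)
    (hu : CAlg2.IsUnibranch A) : CAlg.IsUniversallyCatenary A := by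
  have h := (Groth.Agent.H05EGA4.hasGeomNormalFormalFibres_iff A).mp hA
  haveI := Groth.Agent.H05EGA4.isNoetherianRing_cpl A
  haveI := Groth.Agent.H9Hens.henselianLocalRing_cpl A
  have hc : Nonempty (minimalPrimes (EGA4.Cpl A)) ∧ Subsingleton (minimalPrimes (EGA4.Cpl A)) := by
    rw [← Groth.Agent.H9Hens.enatCard_eq_one_iff, ← Groth.Agent.H9Hens.numBranches_eq_card_minimalPrimes,
      Groth.Agent.H9Hens.numBranches_cpl h, Groth.Agent.H9Hens.numBranches_eq_one_iff]
    exact hu
  obtain ⟨⟨q⟩, hss⟩ := hc
  have hfe : EGA4.IsFormallyEquidim A :=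
    Groth.Agent.H05EGA4.isEquidim_of_forall (R := EGA4.Cpl A) (ringKrullDim (EGA4.Cpl A ⧸ q.1)) fun p hp => by
      have := @Subsingleton.elim _ hss (⟨p, hp⟩ : minimalPrimes (EGA4.Cpl A)) q
      rw [← this]
  exact Groth.Agent.H05EGA4.isUniversallyCatenary_of_forall_mvPolynomial fun n =>
    Groth.Agent.H8Props.CatenaryBridge.isCatenary_of_localizations fun Q => ⟨Localization.AtPrime Q.asIdeal,
      inferInstance, inferInstance, inferInstance,
      (Groth.Agent.H05EGA4.isEquidim_and_isCatenary_localization_mvPolynomial A hfe n Q.asIdeal).2⟩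

end Groth.Agent.S9229
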