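import Groth.Statements.S9230
import Groth.Agent.H9Hens.BranchCompletion
import Groth.Agent.H9Hens.FormalFibres
import Groth.Agent.S0511
import Groth.Agent.S4754
import Groth.Agent.H05EGA4.FormalCatenary

set_option autoImplicit false
universe u
open EGA4

namespace Groth.Agent.S9230

/-- For a Noetherian local ring A whose formal fibres are geometrically normal, every henselization S of
A is universally catenary. -/
theorem result (A S : Type u) [CommRing A]
    [IsLocalRing A] [IsNoetherianRing A] [CommRing S] [IsLocalRing S] [Algebra A S]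
    [IsLocalHom (algebraMap A S)] [Hensel.IsHenselization A S]
    (hA : EGA4.HasGeomNormalFormalFibres A) : CAlg.IsUniversallyCatenary S := by
  haveI : IsNoetherianRing S := (Groth.Agent.S0511.result A S).mp inferInstance
  haveI := Groth.Agent.H05EGA4.isNoetherianRing_cpl A
  haveI := Groth.Agent.H05EGA4.isNoetherianRing_cpl S
  haveI : HenselianLocalRing S := Hensel.IsHenselization.henselian A
  have hS : EGA4.HasGeomNormalFormalFibres S := (Groth.Agent.H05EGA4.hasGeomNormalFormalFibres_iff S).mpr
    ((Groth.Agent.H9Hens.grsHom_cpl_henselization_iff A S).mpr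
      ((Groth.Agent.H05EGA4.hasGeomNormalFormalFibres_iff A).mp hA))
  refine Groth.Agent.H05EGA4.isUniversallyCatenary_of_isFormallyCatenary S fun p hp => ?_
  haveI : IsLocalRing (S ⧸ p) := .of_surjective' _ Ideal.Quotient.mk_surjective
  haveI : HenselianLocalRing (S ⧸ p) := Groth.Agent.H9Hens.henselianLocalRing_quotient p
  have h := (Groth.Agent.H05EGA4.hasGeomNormalFormalFibres_iff (S ⧸ p)).mp (Groth.Agent.S4754.result S hS p)
  haveI := Groth.Agent.H9Hens.isDomain_cpl_of_henselian h
  exact Groth.Agent.H05EGA4.isEquidim_of_isDomain (EGA4.Cpl (S ⧸ p))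

end Groth.Agent.S9230
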