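import Groth.Statements.S9231
import Groth.Agent.H02CA.CompletionFlat

set_option autoImplicit false
universe u
open CAlg

namespace Groth.Agent.S9231

/-- For a local ring map A → B between Noetherian local rings, let ψ be the induced map from the
completion of A at its maximal ideal to that of B (here: a ring map of the completions whose
composite with A → A^ is the composite A → B → B^; since A is Noetherian such a map is unique, hence
is the canonical one). Then ψ is flat exactly when A → B is flat. -/
theorem result (A B : Type u) [CommRing A] [CommRing B] [IsLocalRing A]
    [IsLocalRing B] [IsNoetherianRing A] [IsNoetherianRing B] [Algebra A B]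
    [IsLocalHom (algebraMap A B)]
    (ψ : AdicCompletion (IsLocalRing.maximalIdeal A) A →+* AdicCompletion (IsLocalRing.maximalIdeal B) B)
    (hψ : ψ.comp (algebraMap A (AdicCompletion (IsLocalRing.maximalIdeal A) A)) =
      (algebraMap B (AdicCompletion (IsLocalRing.maximalIdeal B) B)).comp (algebraMap A B)) :
    ψ.Flat ↔ (algebraMap A B).Flat := by
  exact H02CA.flat_completion_iff (algebraMap A B) ψ hψ

end Groth.Agent.S9231
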