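import Groth.Statements.S9241
import Groth.Agent.H9Hens.PuncturedHens
import Groth.Agent.H9Hens.StrictHens
import Groth.Agent.H05EGA4.Completion
-- import your own Groth.Agent.* helpers here

set_option autoImplicit false
universe u
open Brnch IsLocalRing Groth.Agent.H9Hens

namespace Groth.Agent.S9241

/-- For a Noetherian local ring A of dimension 1, A and its completion A^ have the same number of
branches and the same number of geometric branches. -/
theorem result (A : Type u) [CommRing A] [IsLocalRing A]
    [IsNoetherianRing A] (hA : ringKrullDim A = 1) :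
    Brnch.numBranches (AdicCompletion (IsLocalRing.maximalIdeal A) A) = Brnch.numBranches A ∧
      Brnch.numGeomBranches (AdicCompletion (IsLocalRing.maximalIdeal A) A) =
        Brnch.numGeomBranches A := by
  haveI := H9Hens.henselianLocalRing_cpl A
  haveI := H05EGA4.isNoetherianRing_cpl A
  haveI := H9Hens.isLocalHom_cpl A
  haveI := H05EGA4.flat_cpl A
  let C := EGA4.Cpl A
  have hC : ringKrullDim C = 1 := (H05EGA4.ringKrullDim_adicCompletion A).trans hA
  constructor
  · obtain ⟨S, _, _, _, _, π, hπ, hS⟩ := exists_isHenselization_colim A
    obtain ⟨ψ, hψ, -⟩ := Hensel.IsHenselization.universal (R := A) (S := S) C _ (H9Hens.isLocalHom_cpl A)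
    obtain ⟨_, _, hfl, hm, hres⟩ := henselization_to_cpl_data A S ψ hψ
    letI : Algebra S C := ψ.toAlgebra
    haveI : Module.Flat S C := hfl
    rw [← card_minimalPrimes_henselization A S]
    exact (numBranches_eq_card_minimalPrimes C).trans (card_minimalPrimes_eq_of_dim_one hm hres hC)
  · obtain ⟨kA, _, _, _, _, _, S, _, _, _, _, π, hπ, hS⟩ := exists_isStrictHenselization_colim A
    obtain ⟨kC, _, _, _, _, _, T, _, _, _, _, ρ, hρ, hT⟩ := exists_isStrictHenselization_colim C
    haveI := hS.henselian
    haveI := hT.henselian
    haveI := hπ.isNoetherianRing (ker_algebraMap_of_tower (R := A) (k := kA))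
    haveI := hρ.isNoetherianRing (ker_algebraMap_of_tower (R := C) (k := kC))
    haveI := hρ.flat
    letI : Algebra A T := ((algebraMap C T).comp (algebraMap A C)).toAlgebra
    haveI : IsScalarTower A C T := IsScalarTower.of_algebraMap_eq fun _ => rfl
    haveI : IsLocalHom (algebraMap A T) := ⟨fun a ha =>
      IsUnit.of_map (algebraMap A C) a (IsUnit.of_map (algebraMap C T) _ ha)⟩
    haveI : Module.Flat A T := Module.Flat.trans A C T
    have hsS := hS.isSepClosure
    have hsT := hT.isSepClosure
    haveI := hsS.sep_closed
    haveI := hsS.separable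
    haveI := hsT.sep_closed
    haveI := hsT.separable
    haveI : IsScalarTower (ResidueField A) (ResidueField C) (ResidueField T) :=
      IsScalarTower.of_algebraMap_eq fun x => by obtain ⟨x, rfl⟩ := residue_surjective x; rfl
    haveI : Algebra.IsSeparable (ResidueField A) (ResidueField C) := ⟨fun y => by
      obtain ⟨y, rfl⟩ := residue_surjective y
      obtain ⟨a, ha⟩ := residue_trivial_cpl A y
      rw [show residue C y = algebraMap (ResidueField A) (ResidueField C) (residue A a) from
        Ideal.Quotient.eq.mpr ha]
      exact isSeparable_algebraMap _⟩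
    haveI : Algebra.IsSeparable (ResidueField A) (ResidueField T) :=
      Algebra.IsSeparable.trans _ (ResidueField C) _
    let j : ResidueField S →ₐ[ResidueField A] ResidueField T := IsSepClosed.lift
    obtain ⟨ψ, ⟨hψ, hψ'⟩, -⟩ := hS.universal T (algebraMap A T) j.toRingHom (RingHom.ext fun x => j.commutes x)
    letI : Algebra S T := ψ.toAlgebra
    haveI : IsScalarTower A S T := IsScalarTower.of_algebraMap_eq fun a => (RingHom.congr_fun hψ a).symm
    haveI : Module.Flat S T := hπ.flat_of_restrictScalars T
    have hm : (maximalIdeal S).map (algebraMap S T) = maximalIdeal T := by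
      rw [← hπ.map_maximalIdeal (ker_algebraMap_of_tower (R := A) (k := kA)), Ideal.map_map,
        ← IsScalarTower.algebraMap_eq, IsScalarTower.algebraMap_eq A C T, ← Ideal.map_map,
        ← AdicCompletion.maximalIdeal_eq_map, hρ.map_maximalIdeal (ker_algebraMap_of_tower (R := C) (k := kC))]
    have hres : ∀ x : T, ∃ a : S, x - algebraMap S T a ∈ maximalIdeal T := fun x => by
      letI : Algebra (ResidueField S) (ResidueField T) := j.toRingHom.toAlgebra
      haveI : IsScalarTower (ResidueField A) (ResidueField S) (ResidueField T) :=
        IsScalarTower.of_algebraMap_eq fun y => (j.commutes y).symm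
      haveI : Algebra.IsSeparable (ResidueField S) (ResidueField T) :=
        Algebra.isSeparable_tower_top_of_isSeparable (ResidueField A) _ _
      obtain ⟨y, hy⟩ := IsSepClosed.algebraMap_surjective (ResidueField S) (ResidueField T) (residue T x)
      obtain ⟨a, rfl⟩ := residue_surjective y
      exact ⟨a, Ideal.Quotient.eq.mp (hy.symm.trans (hψ' a).symm)⟩
    rw [← card_minimalPrimes_strictHenselization C T, ← card_minimalPrimes_strictHenselization A S]
    exact card_minimalPrimes_eq_of_dim_one hm hres
      ((hρ.ringKrullDim_eq (ker_algebraMap_of_tower (R := C) (k := kC))).trans hC)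

end Groth.Agent.S9241
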