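import Groth.Statements.S9243
import Groth.Agent.H9Hens.PuncturedHens
-- import your own Groth.Agent.* helpers here

set_option autoImplicit false
universe u
open Brnch

namespace Groth.Agent.S9243

/-- Let A be a Noetherian local ring with henselization S and completion A^, and ψ : S → A^ the ring map
compatible with the structure maps from A. Then A and A^ have the same number of branches if and
only if, for every minimal prime q of S, the radical of the extension of q along ψ is a prime ideal
of A^. -/
theorem result (A S : Type u) [CommRing A] [IsLocalRing A]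
    [IsNoetherianRing A] [CommRing S] [IsLocalRing S] [Algebra A S] [IsLocalHom (algebraMap A S)]
    [Hensel.IsHenselization A S] (ψ : S →+* AdicCompletion (IsLocalRing.maximalIdeal A) A)
    (hψ : ψ.comp (algebraMap A S) = algebraMap A (AdicCompletion (IsLocalRing.maximalIdeal A) A)) :
    Brnch.numBranches A = Brnch.numBranches (AdicCompletion (IsLocalRing.maximalIdeal A) A) ↔
      ∀ q ∈ minimalPrimes S, (Ideal.map ψ q).radical.IsPrime := by
  haveI := H9Hens.henselianLocalRing_cpl A
  haveI := H05EGA4.isNoetherianRing_cpl A
  obtain ⟨_, _, hfl, hm, hres⟩ := H9Hens.henselization_to_cpl_data A S ψ hψ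
  letI : Algebra S (EGA4.Cpl A) := ψ.toAlgebra
  haveI : Module.Flat S (EGA4.Cpl A) := hfl
  haveI : IsLocalHom (algebraMap S (EGA4.Cpl A)) := ((IsLocalRing.local_hom_TFAE _).out 2 0).mp hm.le
  haveI : Module.FaithfullyFlat S (EGA4.Cpl A) := Module.FaithfullyFlat.of_flat_of_isLocalHom
  rw [← H9Hens.card_minimalPrimes_henselization A S, H9Hens.numBranches_eq_card_minimalPrimes (EGA4.Cpl A)]
  exact (eq_comm.trans H9Hens.card_minimalPrimes_eq_iff_injective).trans
    H9Hens.radical_isPrime_iff_injective.symm

end Groth.Agent.S9243
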