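import Groth.Statements.S9245
import Groth.Agent.H06Desc.Noetherian
import Mathlib.RingTheory.Etale.Basic
import Mathlib.RingTheory.EssentialFiniteness
import Mathlib.RingTheory.Localization.Submodule
import Mathlib.RingTheory.Flat.Localization
import Mathlib.RingTheory.Flat.FaithfullyFlat.Algebra

set_option autoImplicit false
universe u
open CAlg

namespace Groth.Agent.S9245

theorem setup (A B : Type u) [CommRing A] [CommRing B] [Algebra A B] [Algebra.Etale A B] (p : Ideal A) [p.IsPrime] (q : Ideal B) [q.IsPrime] [q.LiesOver p]
    [Algebra (Localization.AtPrime p) (Localization.AtPrime q)] [Localization.AtPrime.IsLiesOverAlgebra p q] :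
    Algebra.EssFiniteType (Localization.AtPrime p) (Localization.AtPrime q) := by
  haveI : Algebra.EssFiniteType A (Localization.AtPrime q) := Algebra.EssFiniteType.comp A B _
  exact Algebra.EssFiniteType.of_comp A _ _

/-- For an étale ring map A → B and a prime q of B with contraction p in A, the localization A_p is a
Noetherian ring exactly when the localization B_q is. -/
theorem result (A B : Type u) [CommRing A] [CommRing B]
    [Algebra A B] [Algebra.Etale A B] (q : Ideal B) [q.IsPrime] :
    IsNoetherianRing (Localization.AtPrime (Ideal.comap (algebraMap A B) q)) ↔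
      IsNoetherianRing (Localization.AtPrime q) := by
  set p := Ideal.comap (algebraMap A B) q
  haveI : q.LiesOver p := ⟨rfl⟩
  letI := Localization.AtPrime.algebraOfLiesOver p q
  haveI := setup A B p q
  refine ⟨fun _ => Algebra.EssFiniteType.isNoetherianRing (Localization.AtPrime p) _, fun _ => ?_⟩
  haveI : Module.FaithfullyFlat (Localization.AtPrime p) (Localization.AtPrime q) := Module.FaithfullyFlat.of_flat_of_isLocalHom
  exact Groth.Agent.H06Desc.isNoetherianRing_of_faithfullyFlat (B := Localization.AtPrime q)

end Groth.Agent.S9245
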