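import Groth.Statements.S9246
import Groth.Agent.S9245
import Groth.Agent.H02CA.FlatRegular
import Groth.Agent.H05EGA4.Regular
import Mathlib.RingTheory.Unramified.LocalRing
import Mathlib.RingTheory.Etale.Basic

set_option autoImplicit false
universe u
open CAlg

namespace Groth.Agent.S9246



/-- Let A → B be an étale ring map and q a prime of B lying over the prime p of A. Then A_p is a regular
local ring if and only if B_q is a regular local ring. -/
theorem result (A B : Type u) [CommRing A] [CommRing B]
    [Algebra A B] [Algebra.Etale A B] (q : Ideal B) [q.IsPrime] :
    IsRegularLocalRing (Localization.AtPrime (Ideal.comap (algebraMap A B) q)) ↔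
      IsRegularLocalRing (Localization.AtPrime q) := by
  set p := Ideal.comap (algebraMap A B) q
  haveI : q.LiesOver p := ⟨rfl⟩
  letI := Localization.AtPrime.algebraOfLiesOver p q
  haveI := Groth.Agent.S9245.setup A B p q
  constructor
  · intro _
    haveI : IsNoetherianRing (Localization.AtPrime q) := (Groth.Agent.S9245.result A B q).mp inferInstance
    haveI : Algebra.FormallyUnramified A (Localization.AtPrime q) := Algebra.FormallyUnramified.comp A B _
    haveI : Algebra.FormallyUnramified (Localization.AtPrime p) (Localization.AtPrime q) :=
      Algebra.FormallyUnramified.of_restrictScalars A _ _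
    apply Groth.Agent.H02CA.isRegularLocalRing_of_flat_of_fibre (Localization.AtPrime p)
    letI := (Algebra.FormallyUnramified.isField_quotient_map_maximalIdeal (R := Localization.AtPrime p) (S := Localization.AtPrime q)).toField
    exact IsRegularLocalRing.of_isRegularRing_of_isLocalRing _
  · intro _
    haveI : IsNoetherianRing (Localization.AtPrime p) := (Groth.Agent.S9245.result A B q).mpr inferInstance
    exact Groth.Agent.H05EGA4.isRegularLocalRing_of_flat (B := Localization.AtPrime q)

end Groth.Agent.S9246
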