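import Groth.Statements.S9252
import Groth.Agent.H06QR.SymQuot
import Groth.Agent.H1CAlg.ProjDescent
import Mathlib.RingTheory.TensorProduct.Quotient
import Mathlib.RingTheory.Finiteness.Descent

set_option autoImplicit false
universe u
attribute [local instance] HasDerivedCategory.standard
open CategoryTheory
open PP16

namespace Groth.Agent.S9252

open scoped TensorProduct

open Groth.Agent.H06QR in
theorem main {A B : Type u} [CommRing A] [CommRing B] [Algebra A B] [Module.FaithfullyFlat A B] (I : Ideal A)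
    (IB : Ideal B) (hIB : I.map (algebraMap A B) = IB) [Algebra (A ⧸ I) (B ⧸ IB)]
    (hq : ∀ a, algebraMap (A ⧸ I) (B ⧸ IB) (Ideal.Quotient.mk I a) = Ideal.Quotient.mk IB (algebraMap A B a))
    (hff : Module.FaithfullyFlat (A ⧸ I) (B ⧸ IB)) (hfg : I.FG) (hP : Module.Projective (B ⧸ IB) IB.Cotangent)
    (hS : PP16.SymGrBijective B IB) :
    Module.Projective (A ⧸ I) I.Cotangent ∧ PP16.SymGrBijective A I := by
  classical
  have hAB : ∀ (a : A) (y : B ⧸ IB), algebraMap (A ⧸ I) (B ⧸ IB) (Ideal.Quotient.mk I a) * y =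
      a • y := fun a y => by
    rw [hq, Algebra.smul_def]
    rfl
  let φ : ↥I →ₗ[A] ↥(IB.restrictScalars A) :=
    (Algebra.linearMap A B).restrict fun x hx => hIB ▸ Ideal.mem_map_of_mem _ hx
  let ι₀ : I.Cotangent → IB.Cotangent := fun c =>
    IB.toCotangent ⟨algebraMap A B (rep I c), hIB ▸ Ideal.mem_map_of_mem _ (rep_mem I c)⟩
  have hpow : ∀ k, ∀ x ∈ I ^ k, algebraMap A B x ∈ IB ^ k := fun k x hx => by
    rw [← hIB, ← Ideal.map_pow]; exact Ideal.mem_map_of_mem _ hx
  have hι : ∀ (x : A) (hx : x ∈ I), ι₀ (I.toCotangent ⟨x, hx⟩) =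
      IB.toCotangent ⟨algebraMap A B x, hIB ▸ Ideal.mem_map_of_mem _ hx⟩ := fun x hx => by
    refine (Ideal.toCotangent_eq IB).mpr ?_
    show algebraMap A B _ - algebraMap A B x ∈ _
    rw [← map_sub]
    exact hpow 2 _ (rep_sub_mem I hx)
  let ι : I.Cotangent →+ IB.Cotangent := AddMonoidHom.mk' ι₀ fun a b => by
    obtain ⟨⟨x, hx⟩, rfl⟩ := Ideal.toCotangent_surjective I a
    obtain ⟨⟨y, hy⟩, rfl⟩ := Ideal.toCotangent_surjective I b
    rw [← map_add, show (⟨x, hx⟩ + ⟨y, hy⟩ : ↥I) = ⟨x + y, add_mem hx hy⟩ from rfl, hι, hι, hι, ← map_add]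
    exact congrArg _ (Subtype.ext (map_add (algebraMap A B) x y))
  let _ : Module (A ⧸ I) IB.Cotangent := Module.compHom _ (algebraMap (A ⧸ I) (B ⧸ IB))
  have : IsScalarTower (A ⧸ I) (B ⧸ IB) IB.Cotangent := IsScalarTower.of_algebraMap_smul fun _ _ => rfl
  have hsm : ∀ (a : A) (y : IB.Cotangent),
      algebraMap (A ⧸ I) (B ⧸ IB) (Ideal.Quotient.mk I a) • y = algebraMap A B a • y := fun a y => by
    rw [hq]; rfl
  let ιl : I.Cotangent →ₗ[A ⧸ I] IB.Cotangent :=
    { ι with
      map_smul' := fun c y => by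
        obtain ⟨a, rfl⟩ := Ideal.Quotient.mk_surjective c
        obtain ⟨⟨x, hx⟩, rfl⟩ := Ideal.toCotangent_surjective I y
        show ι₀ (a • I.toCotangent ⟨x, hx⟩) = algebraMap (A ⧸ I) (B ⧸ IB) _ • ι₀ _
        rw [← map_smul, show a • (⟨x, hx⟩ : ↥I) = ⟨a * x, Ideal.mul_mem_left _ a hx⟩ from rfl, hι, hι, RingHom.id_apply, hsm,
          ← map_smul]
        exact congrArg _ (Subtype.ext (map_mul (algebraMap A B) a x)) }
  let Φ : (B ⧸ IB) ⊗[A ⧸ I] I.Cotangent →ₗ[B ⧸ IB] IB.Cotangent := ιl.liftBaseChange (B ⧸ IB)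
  -- Φ is bijective
  let τ₀ : B ⊗[A] ↥I →+ (B ⧸ IB) ⊗[A ⧸ I] I.Cotangent :=
    TensorProduct.liftAddHom
      (AddMonoidHom.mk' (fun b => AddMonoidHom.mk'
          (fun x => (Ideal.Quotient.mk IB b) ⊗ₜ[A ⧸ I] I.toCotangent x)
          fun x y => by rw [map_add, TensorProduct.tmul_add])
        fun b c => AddMonoidHom.ext fun x => by
          show (Ideal.Quotient.mk IB (b + c)) ⊗ₜ[A ⧸ I] I.toCotangent x = _ + _
          rw [map_add, TensorProduct.add_tmul]
          rfl)
      fun a b x => by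
        show (Ideal.Quotient.mk IB (a • b)) ⊗ₜ[A ⧸ I] I.toCotangent x =
          (Ideal.Quotient.mk IB b) ⊗ₜ[A ⧸ I] I.toCotangent (a • x)
        rw [show I.toCotangent (a • x) = Ideal.Quotient.mk I a • I.toCotangent x from map_smul _ a x,
          ← TensorProduct.smul_tmul, Algebra.smul_def (Ideal.Quotient.mk I a), hAB]
        rfl
  let ν : B ⊗[A] ↥I →ₗ[A] B :=
    TensorProduct.lift (LinearMap.mk₂ A (fun b (x : ↥I) => b * algebraMap A B (x : A))
      (fun b c x => add_mul _ _ _) (fun a b x => smul_mul_assoc a b _)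
      (fun b x y => by rw [Submodule.coe_add, map_add, mul_add])
      (fun a b x => by rw [Submodule.coe_smul, smul_eq_mul, map_mul, mul_left_comm, Algebra.smul_def]))
  have hν : Function.Injective ν := by
    have e : ν = (TensorProduct.rid A B).toLinearMap ∘ₗ I.subtype.lTensor B := TensorProduct.ext' fun b x => by
      simp [ν, Algebra.smul_def, mul_comm]
    rw [e, LinearMap.coe_comp]
    exact (TensorProduct.rid A B).injective.comp
      (Module.Flat.lTensor_preserves_injective_linearMap _ I.injective_subtype)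
  have hνmem : ∀ z, ν z ∈ IB := fun z => by
    induction z using TensorProduct.induction_on with
    | zero => rw [map_zero]; exact zero_mem _
    | add u v hu hv => rw [map_add]; exact add_mem hu hv
    | tmul b x => exact Ideal.mul_mem_left _ b (hIB ▸ Ideal.mem_map_of_mem _ x.2)
  have hΦτ : ∀ z, Φ (τ₀ z) = IB.toCotangent ⟨ν z, hνmem z⟩ := fun z => by
    induction z using TensorProduct.induction_on with
    | zero =>
      rw [map_zero, map_zero, show (⟨ν 0, hνmem 0⟩ : ↥IB) = 0 from Subtype.ext (map_zero ν), map_zero]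
    | add u v hu hv =>
      rw [map_add, map_add, hu, hv, ← map_add]
      exact congrArg _ (Subtype.ext (map_add ν u v).symm)
    | tmul b x =>
      show ιl.liftBaseChange (B ⧸ IB) ((Ideal.Quotient.mk IB b) ⊗ₜ[A ⧸ I] I.toCotangent x) = _
      rw [LinearMap.liftBaseChange_tmul]
      show b • ι₀ _ = _
      rw [hι x.1 x.2, ← map_smul]
      rfl
  have hτ : Function.Surjective τ₀ := fun z => by
    induction z using TensorProduct.induction_on with
    | zero => exact ⟨0, map_zero _⟩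
    | add u v hu hv =>
      obtain ⟨u, rfl⟩ := hu; obtain ⟨v, rfl⟩ := hv
      exact ⟨u + v, map_add _ _ _⟩
    | tmul b y =>
      obtain ⟨b, rfl⟩ := Ideal.Quotient.mk_surjective b
      obtain ⟨x, rfl⟩ := Ideal.toCotangent_surjective I y
      exact ⟨b ⊗ₜ x, rfl⟩
  have hsq : ∀ y ∈ IB ^ 2, ∃ w, ν w = y ∧ τ₀ w = 0 := by
    intro y hy
    rw [← hIB, ← Ideal.map_pow, Ideal.map] at hy
    induction hy using Submodule.span_induction with
    | mem y hy =>
      obtain ⟨x, hx, rfl⟩ := hy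
      have hxI : x ∈ I := Ideal.pow_le_self two_ne_zero hx
      refine ⟨1 ⊗ₜ ⟨x, hxI⟩, one_mul _, ?_⟩
      show (Ideal.Quotient.mk IB 1) ⊗ₜ[A ⧸ I] I.toCotangent ⟨x, hxI⟩ = 0
      rw [show I.toCotangent ⟨x, hxI⟩ = 0 from (Ideal.toCotangent_eq_zero I _).mpr hx, TensorProduct.tmul_zero]
    | zero => exact ⟨0, map_zero _, map_zero _⟩
    | add u v _ _ hu hv =>
      obtain ⟨a, ha, ha'⟩ := hu; obtain ⟨c, hc, hc'⟩ := hv
      exact ⟨a + c, by rw [map_add, ha, hc], by rw [map_add, ha', hc', add_zero]⟩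
    | smul c u _ hu =>
      obtain ⟨a, ha, ha'⟩ := hu
      have h1 : ν (c • a) = c * ν a := by
        clear ha ha'
        induction a using TensorProduct.induction_on with
        | zero => rw [smul_zero, map_zero, mul_zero]
        | add p q hp hq => rw [smul_add, map_add, map_add, hp, hq, mul_add]
        | tmul b x => rw [TensorProduct.smul_tmul']; exact mul_assoc _ _ _
      have h2 : τ₀ (c • a) = Ideal.Quotient.mk IB c • τ₀ a := by
        clear ha ha' h1
        induction a using TensorProduct.induction_on with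
        | zero => rw [smul_zero, map_zero, smul_zero]
        | add p q hp hq => rw [smul_add, map_add, map_add, hp, hq, smul_add]
        | tmul b x =>
          rw [TensorProduct.smul_tmul']
          show (Ideal.Quotient.mk IB (c * b)) ⊗ₜ[A ⧸ I] _ = _ • ((Ideal.Quotient.mk IB b) ⊗ₜ[A ⧸ I] _)
          rw [TensorProduct.smul_tmul', smul_eq_mul, map_mul]
          rfl
      exact ⟨c • a, by rw [h1, ha]; rfl, by rw [h2, ha', smul_zero]⟩
  have hΦi : Function.Injective Φ := by
    refine (injective_iff_map_eq_zero _).mpr fun z hz => ?_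
    obtain ⟨z, rfl⟩ := hτ z
    rw [hΦτ] at hz
    obtain ⟨w, hw, hw0⟩ := hsq _ ((Ideal.toCotangent_eq_zero IB _).mp hz)
    rw [← hν hw, hw0]
  have hΦs : Function.Surjective Φ := fun y => by
    obtain ⟨⟨y, hy⟩, rfl⟩ := Ideal.toCotangent_surjective IB y
    suffices ∀ y ∈ IB, ∃ z, ν z = y by
      obtain ⟨z, hz⟩ := this y hy
      refine ⟨τ₀ z, (hΦτ z).trans ?_⟩
      subst hz
      rfl
    intro y hy
    rw [← hIB, Ideal.map] at hy
    induction hy using Submodule.span_induction with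
    | mem y hy => obtain ⟨x, hx, rfl⟩ := hy; exact ⟨1 ⊗ₜ ⟨x, hx⟩, one_mul _⟩
    | zero => exact ⟨0, map_zero _⟩
    | add u v _ _ hu hv => obtain ⟨a, rfl⟩ := hu; obtain ⟨c, rfl⟩ := hv; exact ⟨a + c, map_add _ _ _⟩
    | smul c u _ hu =>
      obtain ⟨a, rfl⟩ := hu
      refine ⟨c • a, ?_⟩
      show ν (c • a) = c * ν a
      suffices ∀ a : B ⊗[A] ↥I, ν (c • a) = c * ν a from this a
      intro a
      induction a using TensorProduct.induction_on with
      | zero => rw [smul_zero, map_zero, mul_zero]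
      | add p q hp hq => rw [smul_add, map_add, map_add, hp, hq, mul_add]
      | tmul b x => rw [TensorProduct.smul_tmul']; exact mul_assoc _ _ _
  let eΦ := LinearEquiv.ofBijective Φ ⟨hΦi, hΦs⟩
  have : Module.Projective (B ⧸ IB) ((B ⧸ IB) ⊗[A ⧸ I] I.Cotangent) := Module.Projective.of_equiv eΦ.symm
  have hPA : Module.Projective (A ⧸ I) I.Cotangent := H1CAlg.projective_of_baseChange (A ⧸ I) (B ⧸ IB) _
  refine ⟨hPA, symGr_of_injective fun κ _ _ => ?_⟩
  obtain ⟨s, hs⟩ := hPA.out
  -- the base changed section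
  let g : I.Cotangent →ₗ[A ⧸ I] (I.Cotangent →₀ B ⧸ IB) :=
    Finsupp.mapRange.linearMap (Algebra.linearMap (A ⧸ I) (B ⧸ IB)) ∘ₗ s
  let s' : IB.Cotangent →ₗ[B ⧸ IB] (I.Cotangent →₀ B ⧸ IB) := g.liftBaseChange (B ⧸ IB) ∘ₗ eΦ.symm.toLinearMap
  let L := (Finsupp.linearCombination (A ⧸ I)
    (fun i => (MvPolynomial.X i : MvPolynomial I.Cotangent (A ⧸ I))) ∘ₗ s).restrictScalars A
  let L' := (Finsupp.linearCombination (B ⧸ IB)
    (fun i => (MvPolynomial.X i : MvPolynomial I.Cotangent (B ⧸ IB))) ∘ₗ s').restrictScalars B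
  have hLL : ∀ c, L' (ι₀ c) = MvPolynomial.map (algebraMap (A ⧸ I) (B ⧸ IB)) (L c) := by
    intro c
    have he : eΦ.symm (ι₀ c) = 1 ⊗ₜ c := by
      rw [LinearEquiv.symm_apply_eq]
      show ι₀ c = ιl.liftBaseChange (B ⧸ IB) (1 ⊗ₜ c)
      rw [LinearMap.liftBaseChange_tmul, one_smul]
      rfl
    show Finsupp.linearCombination (B ⧸ IB) _ (g.liftBaseChange (B ⧸ IB) (eΦ.symm _)) = _
    rw [he, LinearMap.liftBaseChange_tmul, one_smul]
    show Finsupp.linearCombination (B ⧸ IB) _ (Finsupp.mapRange _ (map_zero _) _) =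
      MvPolynomial.map _ (Finsupp.linearCombination (A ⧸ I) _ _)
    rw [Finsupp.linearCombination_apply, Finsupp.sum_mapRange_index (by simp),
      Finsupp.linearCombination_apply, map_finsuppSum]
    refine Finsupp.sum_congr fun i _ => ?_
    rw [MvPolynomial.smul_eq_C_mul, MvPolynomial.smul_eq_C_mul, map_mul, MvPolynomial.map_C, MvPolynomial.map_X]
    rfl
  refine LinearMap.ker_eq_bot.mp ((Submodule.eq_bot_iff _).mpr fun t ht => ?_)
  rw [LinearMap.mem_ker] at ht
  suffices ∀ t, ∃ t' : SymmetricPower B κ IB.Cotangent,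
      H06PP.SymPow.eval L' t' = MvPolynomial.map (algebraMap (A ⧸ I) (B ⧸ IB)) (H06PP.SymPow.eval L t) ∧
      ∀ (x : A) hx, phiJ t = cls _ x hx → ∀ hx', phiJ t' = cls _ (algebraMap A B x) hx' by
    obtain ⟨t', he, hp⟩ := this t
    have h0 : phiJ t' = 0 := by
      rw [hp 0 (zero_mem _) (by rw [ht]; exact ((cls_eq_zero _).mpr (zero_mem _)).symm)
        (by rw [map_zero]; exact zero_mem _)]
      exact (cls_eq_zero _).mpr (by rw [map_zero]; exact zero_mem _)
    rw [phiJ_injective hS (h0.trans (map_zero (phiJ (J := IB) (ι := κ))).symm), map_zero] at he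
    refine eval_injective_of_retraction (σ := I.Cotangent) s id hs ?_
    show H06PP.SymPow.eval L t = H06PP.SymPow.eval L 0
    rw [map_zero]
    refine MvPolynomial.map_injective _ ?_ (he.symm.trans (map_zero _).symm)
    exact FaithfulSMul.algebraMap_injective (A ⧸ I) (B ⧸ IB)
  clear ht t
  intro t
  have hmem : t ∈ Submodule.span A (Set.range (SymmetricPower.tprod A (ι := κ) (M := I.Cotangent))) := by
    rw [SymmetricPower.span_tprod_eq_top]; trivial
  induction hmem using Submodule.span_induction with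
  | mem y hy =>
    obtain ⟨c, rfl⟩ := hy
    choose x hx using fun i => Ideal.toCotangent_surjective I (c i)
    obtain rfl : c = fun i => I.toCotangent (x i) := funext fun i => (hx i).symm
    let x' : κ → ↥IB := fun i => ⟨algebraMap A B (x i), hIB ▸ Ideal.mem_map_of_mem _ (x i).2⟩
    refine ⟨SymmetricPower.tprod B fun i => IB.toCotangent (x' i), ?_, fun z hz hb hz' => ?_⟩
    · rw [H06PP.SymPow.eval_tprod, H06PP.SymPow.eval_tprod, map_prod]
      refine Finset.prod_congr rfl fun i _ => ?_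
      rw [← hLL]
      exact congrArg L' (hι _ (x i).2).symm
    · rw [phiJ_tprod] at hb ⊢
      refine cls_eq _ _ ?_
      show ∏ i, algebraMap A B (x i) - algebraMap A B z ∈ _
      rw [← map_prod, ← map_sub]
      exact hpow _ _ ((cls_eq_iff (prod_mem (fun i => (x i : A)) fun i => (x i).2) hz).mp hb)
  | zero =>
    refine ⟨0, by rw [map_zero, map_zero, map_zero], fun x hx hb hx' => ?_⟩
    rw [map_zero] at hb ⊢
    exact ((cls_eq_zero _).mpr (hpow _ _ ((cls_eq_zero hx).mp hb.symm))).symm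
  | add a c _ _ ha hc =>
    obtain ⟨a', ha1, ha2⟩ := ha
    obtain ⟨c', hc1, hc2⟩ := hc
    refine ⟨a' + c', by rw [map_add, ha1, hc1, map_add, map_add], fun x hx hb hx' => ?_⟩
    obtain ⟨⟨xa, hxa⟩, hqa⟩ := Submodule.Quotient.mk_surjective _ (phiJ a)
    obtain ⟨⟨xc, hxc⟩, hqc⟩ := Submodule.Quotient.mk_surjective _ (phiJ c)
    rw [map_add, ha2 xa hxa hqa.symm (hpow _ _ hxa), hc2 xc hxc hqc.symm (hpow _ _ hxc)]
    rw [map_add, ← hqa, ← hqc, ← Submodule.Quotient.mk_add] at hb
    refine cls_eq (x := algebraMap A B xa + algebraMap A B xc) (add_mem (hpow _ _ hxa) (hpow _ _ hxc)) hx' ?_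
    rw [← map_add, ← map_sub]
    exact hpow _ _ ((cls_eq_iff (add_mem hxa hxc) hx).mp hb)
  | smul r a _ ha =>
    obtain ⟨a', ha1, ha2⟩ := ha
    refine ⟨algebraMap A B r • a', ?_, fun x hx hb hx' => ?_⟩
    · rw [map_smul, ha1, map_smul, ← algebraMap_smul (B ⧸ IB) (algebraMap A B r),
        ← algebraMap_smul (A ⧸ I) r, MvPolynomial.smul_eq_C_mul, MvPolynomial.smul_eq_C_mul, map_mul,
        MvPolynomial.map_C]
      exact congrArg (fun c => MvPolynomial.C c * _) (hq r).symm
    obtain ⟨⟨xa, hxa⟩, hqa⟩ := Submodule.Quotient.mk_surjective _ (phiJ a)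
    rw [map_smul, ha2 xa hxa hqa.symm (hpow _ _ hxa)]
    rw [map_smul, ← hqa, ← Submodule.Quotient.mk_smul] at hb
    refine cls_eq (x := algebraMap A B r * algebraMap A B xa) (Ideal.mul_mem_left _ _ (hpow _ _ hxa)) hx' ?_
    rw [← map_mul, ← map_sub]
    exact hpow _ _ ((cls_eq_iff (x := r * xa) (Ideal.mul_mem_left _ r hxa) hx).mp hb)

theorem faithfullyFlat_quotient {A B : Type u} [CommRing A] [CommRing B] [Algebra A B]
    [Module.FaithfullyFlat A B] (I : Ideal A) :
    Module.FaithfullyFlat (A ⧸ I) (B ⧸ I.map (algebraMap A B)) :=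
  Module.FaithfullyFlat.of_linearEquiv (A ⧸ I) ((A ⧸ I) ⊗[A] B)
    (Algebra.TensorProduct.quotIdealMapEquivQuotTensor B I).toLinearEquiv

/-- Let A → B be faithfully flat and I an ideal of A. If IB is a quasi-regular ideal of B then I is a
quasi-regular ideal of A. -/
theorem result (A B : Type u) [CommRing A] [CommRing B]
    [Algebra A B] [Module.FaithfullyFlat A B] (I : Ideal A)
    (h : PP16.IsLocallyQuasiRegular B (Ideal.map (algebraMap A B) I)) :
    PP16.IsLocallyQuasiRegular A I := by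
  rw [H06QR.isLocallyQuasiRegular_iff] at h ⊢
  have hfgB := H06QR.fg_of_charts h
  have hfg : I.FG := Ideal.FG.of_FG_map_of_faithfullyFlat hfgB
  let IB := I.map (algebraMap A B)
  have hff : Module.FaithfullyFlat (A ⧸ I) (B ⧸ IB) := faithfullyFlat_quotient I
  obtain ⟨hP, hS⟩ := main I IB rfl (fun a => rfl) hff hfg (H06QR.projective_of_charts h)
    (H06QR.symGr_of_injective fun κ _ _ => H06QR.phiJ_injective_of_charts h κ)
  intro P hP' hIP
  exact H06QR.exists_chart hfg hS P hIP

end Groth.Agent.S9252
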