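import Groth.Statements.S9253
import Groth.Agent.H8Props.KoszImm.LCI

set_option autoImplicit false
universe u
attribute [local instance] HasDerivedCategory.standard
open CategoryTheory
open LCI

namespace Groth.Agent.S9253

/-- Let R → S be a ring map and g_1, ..., g_m elements of S generating the unit ideal. When every
localization S_{g_j} is a local complete intersection algebra over R, so is S. -/
theorem result (R S : Type u) [CommRing R] [CommRing S] [Algebra R S]
    (m : ℕ) (g : Fin m → S) (hg : Ideal.span (Set.range g) = ⊤)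
    (h : ∀ j, LCI.IsLCI R (Localization.Away (g j))) : LCI.IsLCI R S := by
  open AlgebraicGeometry CategoryTheory in
  refine Groth.Agent.H8Props.KoszImm.forall_isKoszulAt_Spec_iff.1 fun z => ?_
  obtain ⟨j, hj⟩ : ∃ j, g j ∉ z.asIdeal := by
    by_contra! hcon
    refine z.isPrime.ne_top (top_le_iff.1 (hg ▸ Ideal.span_le.2 ?_))
    rintro _ ⟨j, rfl⟩
    exact hcon j
  let L := Localization.Away (g j)
  let e : AlgebraicGeometry.Spec (CommRingCat.of L) ⟶ AlgebraicGeometry.Spec (CommRingCat.of S) :=
    AlgebraicGeometry.Spec.map (CommRingCat.ofHom (algebraMap S L))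
  haveI : AlgebraicGeometry.IsOpenImmersion e := AlgebraicGeometry.IsOpenImmersion.of_isLocalization (g j)
  obtain ⟨w, rfl⟩ : z ∈ Set.range (PrimeSpectrum.comap (algebraMap S L)) := by
    rw [PrimeSpectrum.localization_away_comap_range L (g j)]
    exact hj
  have hw := Groth.Agent.H8Props.KoszImm.forall_isKoszulAt_Spec_iff.2 (h j) w
  rw [IsScalarTower.algebraMap_eq R S L, CommRingCat.ofHom_comp, AlgebraicGeometry.Spec.map_comp] at hw
  exact (Groth.Agent.H8Props.KoszImm.isKoszulAt_open_iff e _ w).1 hw

end Groth.Agent.S9253
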