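import Groth.Statements.S9256
import Groth.Agent.H02CA.RegularHom
import Mathlib.RingTheory.Nilpotent.GeometricallyReduced
import Mathlib.RingTheory.Artinian.Algebra

set_option autoImplicit false
universe u
open CAlg

namespace Groth.Agent.S9256

open TensorProduct

theorem regular_of_artinian_reduced (T : Type u) [CommRing T] [IsArtinianRing T] [IsReduced T] : IsRegularRing T := by
  rw [isRegularRing_iff]
  intro p _
  letI := (IsArtinianRing.isField_of_isReduced_of_isLocalRing (Localization.AtPrime p)).toField
  exact IsRegularLocalRing.of_isRegularRing_of_isLocalRing _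

theorem reduced_of_finite {k K : Type u} [Field k] [Field K] [Algebra k K] (h : CAlg.IsRegularHom k K)
    (L : Type u) [Field L] [Algebra k L] [Module.Finite k L] : IsReduced (L ⊗[k] K) := by
  let e := Ideal.algEquivResidueFieldOfField (⊥ : Ideal k)
  letI : Algebra (⊥ : Ideal k).ResidueField L := ((algebraMap k L).comp e.symm.toRingEquiv.toRingHom).toAlgebra
  haveI : IsScalarTower k (⊥ : Ideal k).ResidueField L :=
    .of_algebraMap_eq fun r => congrArg (algebraMap k L) (e.symm.commutes r).symm
  haveI : Module.Finite (⊥ : Ideal k).ResidueField L := Module.Finite.of_restrictScalars_finite k _ L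
  haveI : IsRegularRing (L ⊗[k] K) := Groth.Agent.H02CA.isRegularRing_tensor_of_isRegularHom h (⊥ : Ideal k) L
  refine isReduced_ofLocalizationMaximal _ fun m _ => ?_
  haveI : IsRegularLocalRing (Localization.AtPrime m) := IsRegularRing.isRegularLocalRing_localization m
  haveI := Groth.Agent.H4Depth.isDomain_of_isRegularLocalRing (Localization.AtPrime m)
  infer_instance

/-- For a field extension K of k, the ring map k → K is regular exactly when K is separable over k, that
is, geometrically reduced over k. -/
theorem result (k K : Type u) [Field k] [Field K]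
    [Algebra k K] : CAlg.IsRegularHom k K ↔ Algebra.IsGeometricallyReduced k K := by
  constructor
  · intro h
    rw [Algebra.isGeometricallyReduced_field_iff]
    refine ⟨fun x hx => ?_⟩
    classical
    obtain ⟨T, rfl⟩ := TensorProduct.exists_finset x
    let L := IntermediateField.adjoin k ((T.image Prod.fst : Finset (AlgebraicClosure k)) : Set (AlgebraicClosure k))
    haveI : FiniteDimensional k L := IntermediateField.finiteDimensional_adjoin fun x _ =>
      Algebra.IsIntegral.isIntegral x
    haveI := reduced_of_finite h L
    let ψ : L ⊗[k] K →ₐ[k] AlgebraicClosure k ⊗[k] K := Algebra.TensorProduct.map L.val (AlgHom.id k K)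
    have hψ : Function.Injective ψ :=
      Module.Flat.rTensor_preserves_injective_linearMap (M := K) L.val.toLinearMap Subtype.val_injective
    let y : L ⊗[k] K := ∑ i ∈ T.attach,
      (⟨i.1.1, IntermediateField.subset_adjoin k _ (Finset.mem_coe.mpr (Finset.mem_image_of_mem _ i.2))⟩ : L) ⊗ₜ[k] i.1.2
    have hy : ψ y = ∑ i ∈ T, i.1 ⊗ₜ[k] i.2 := by
      rw [map_sum, ← Finset.sum_attach T]
      rfl
    rw [← hy] at hx ⊢
    rw [((IsNilpotent.map_iff (f := ψ.toRingHom) hψ).mp hx).eq_zero, map_zero]
  · intro h
    haveI hart : ∀ (L : Type u) [Field L] [Algebra k L] [Module.Finite k L], IsArtinianRing (L ⊗[k] K) := by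
      intro L _ _ _
      haveI : IsArtinianRing (K ⊗[k] L) := IsArtinianRing.of_finite K _
      exact (Algebra.TensorProduct.comm k K L).toRingEquiv.surjective.isArtinianRing
    refine Groth.Agent.H02CA.isRegularHom_of_forall ?_ ?_
    · intro p _
      haveI : Module.Finite k p.ResidueField := Module.Finite.equiv (Ideal.algEquivResidueFieldOfField p).toLinearEquiv
      haveI : IsArtinianRing (p.Fiber K) := hart p.ResidueField
      infer_instance
    · intro p _ k' _ _ _ _ _
      haveI : Module.Finite k p.ResidueField := Module.Finite.equiv (Ideal.algEquivResidueFieldOfField p).toLinearEquiv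
      haveI : Module.Finite k k' := Module.Finite.trans p.ResidueField k'
      exact regular_of_artinian_reduced _

end Groth.Agent.S9256
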