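import Groth.Statements.S9257
import Groth.Agent.H05EGA4.GenericFormalFibres

set_option autoImplicit false
universe u
open CAlg

namespace Groth.Agent.S9257

/-- A Noetherian ring R is a G-ring exactly when, for all primes q ⊆ p of R, the completion of the local
domain (R/q)_p tensored with its fraction field κ(q) is geometrically regular over κ(q). Here the
pairs q ⊆ p are enumerated as primes P of R/q. -/
theorem result (R : Type u) [CommRing R] [IsNoetherianRing R] :
    CAlg.IsGRing R ↔
      ∀ (q : Ideal R) [q.IsPrime] (P : Ideal (R ⧸ q)) [P.IsPrime],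
        CAlg.IsGeometricallyRegular (⊥ : Ideal (Localization.AtPrime P)).ResidueField
          (EGA4.formalFibre (Localization.AtPrime P) (⊥ : Ideal (Localization.AtPrime P))) := by
  refine ⟨fun h q _ P _ => ?_, Groth.Agent.H05EGA4.isGRing_of_generic R⟩
  exact (((Groth.Agent.H05EGA4.isGRing_of_finiteType (S := R ⧸ q) h).2 P).2 (⊥ : Ideal (Localization.AtPrime P))).2

end Groth.Agent.S9257
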