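import Groth.Statements.S9258
import Groth.Prelude.Def_CAlgX
import Mathlib.Algebra.TrivSqZeroExt.Basic
import Mathlib.RingTheory.Derivation.Basic
import Mathlib.RingTheory.AdicCompletion.Basic
import Mathlib.RingTheory.LocalRing.MaximalIdeal.Basic

set_option autoImplicit false
universe u
open CAlg

namespace Groth.Agent.S9258

open TrivSqZeroExt in
/-- One approximation step. -/
theorem exists_step {A B : Type u} [CommRing A] [CommRing B] [Algebra A B] (m : Ideal B)
    (hfs : CAlgX.IsAdicFormallySmooth A B m) (D : Derivation ℤ A A) (n : ℕ) (d : B → B)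
    (hadd : ∀ x y, d (x + y) - (d x + d y) ∈ m ^ n)
    (hmul : ∀ x y, d (x * y) - (x * d y + y * d x) ∈ m ^ n)
    (halg : ∀ a, d (algebraMap A B a) - algebraMap A B (D a) ∈ m ^ n) :
    ∃ d' : B → B, (∀ x, d' x - d x ∈ m ^ n) ∧
      (∀ x y, d' (x + y) - (d' x + d' y) ∈ m ^ (n + 1)) ∧
      (∀ x y, d' (x * y) - (x * d' y + y * d' x) ∈ m ^ (n + 1)) ∧
      ∀ a, d' (algebraMap A B a) - algebraMap A B (D a) ∈ m ^ (n + 1) := by
  let π := Ideal.Quotient.mk (m ^ (n + 1))
  let φ : A →+* (TrivSqZeroExt (B ⧸ m ^ (n + 1)) (B ⧸ m ^ (n + 1))) :=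
    { toFun := fun a => inl (π (algebraMap A B a)) + inr (π (algebraMap A B (D a)))
      map_one' := by simp only [map_one, Derivation.map_one_eq_zero, map_zero, inr_zero, add_zero]; rfl
      map_mul' := fun a b => by
        refine TrivSqZeroExt.ext ?_ ?_
        · simp
        · simp [D.leibniz, mul_comm]
      map_zero' := by simp
      map_add' := fun a b => TrivSqZeroExt.ext (by simp) (by simp) }
  letI : Algebra A (TrivSqZeroExt (B ⧸ m ^ (n + 1)) (B ⧸ m ^ (n + 1))) := φ.toAlgebra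
  let J : Ideal (TrivSqZeroExt (B ⧸ m ^ (n + 1)) (B ⧸ m ^ (n + 1))) :=
    { carrier := {x | x.fst = 0 ∧ x.snd ∈ (m ^ n).map π}
      add_mem' := fun hx hy => ⟨by simp [hx.1, hy.1], by simpa using add_mem hx.2 hy.2⟩
      zero_mem' := ⟨rfl, zero_mem _⟩
      smul_mem' := fun c x hx => ⟨by simp [hx.1],
        by simpa [hx.1] using Ideal.mul_mem_left _ _ hx.2⟩ }
  have hJ : J ^ 2 = ⊥ := by
    rw [pow_two, eq_bot_iff, Ideal.mul_le]
    intro x hx y hy
    rw [Ideal.mem_bot]
    exact TrivSqZeroExt.ext (by simp [hx.1]) (by simp [hx.1, hy.1])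
  have hmemJ : ∀ {z : B}, z ∈ m ^ n → ∀ {x : (TrivSqZeroExt (B ⧸ m ^ (n + 1)) (B ⧸ m ^ (n + 1)))}, x.fst = 0 → x.snd = π z → x ∈ J :=
    fun hz _ h1 h2 => ⟨h1, h2 ▸ Ideal.mem_map_of_mem π hz⟩
  let ψ0 : B → (TrivSqZeroExt (B ⧸ m ^ (n + 1)) (B ⧸ m ^ (n + 1))) := fun b => inl (π b) + inr (π (d b))
  have hd1 : d 1 ∈ m ^ n := by simpa using hmul 1 1
  have hd0 : d 0 ∈ m ^ n := by simpa using hadd 0 0
  let ψ : B →ₐ[A] (TrivSqZeroExt (B ⧸ m ^ (n + 1)) (B ⧸ m ^ (n + 1))) ⧸ J :=
    { toFun := fun b => Ideal.Quotient.mk J (ψ0 b)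
      map_one' := Ideal.Quotient.eq.mpr (hmemJ hd1 (by simp [ψ0]) (by simp [ψ0]))
      map_mul' := fun x y => by
        rw [← map_mul]
        exact Ideal.Quotient.eq.mpr (hmemJ (hmul x y) (by simp [ψ0])
          (by simp [ψ0, mul_comm (π (d x))]))
      map_zero' := Ideal.Quotient.eq_zero_iff_mem.mpr
        (hmemJ hd0 (by simp [ψ0]) (by simp [ψ0]))
      map_add' := fun x y => by
        rw [← map_add]
        exact Ideal.Quotient.eq.mpr (hmemJ (hadd x y) (by simp [ψ0]) (by simp [ψ0]))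
      commutes' := fun a => Ideal.Quotient.eq.mpr (hmemJ (halg a)
        (by simp [ψ0, RingHom.algebraMap_toAlgebra, φ]) (by simp [ψ0, RingHom.algebraMap_toAlgebra, φ])) }
  have hdeg : ∀ j : ℕ, j ≤ n → ∀ x ∈ m ^ (j + 1), d x ∈ m ^ j := by
    intro j
    induction j with
    | zero => intro _ x _; simp
    | succ j ih =>
      intro hj x hx
      rw [pow_succ] at hx
      induction hx using Submodule.mul_induction_on' with
      | mem_mul_mem p hp q hq =>
        have h1 := Ideal.pow_le_pow_right hj (hmul p q)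
        have h2 : p * d q ∈ m ^ (j + 1) := Ideal.mul_mem_right _ _ hp
        have h3 : q * d p ∈ m ^ (j + 1) := by
          rw [pow_succ']; exact Ideal.mul_mem_mul hq (ih (by omega) p hp)
        simpa using add_mem h1 (add_mem h2 h3)
      | add p _ q _ hp hq =>
        simpa using add_mem (Ideal.pow_le_pow_right hj (hadd p q)) (add_mem hp hq)
  obtain ⟨χ, hχ⟩ := hfs (TrivSqZeroExt (B ⧸ m ^ (n + 1)) (B ⧸ m ^ (n + 1))) J hJ ψ ⟨n + 1, fun x hx => Ideal.Quotient.eq_zero_iff_mem.mpr
    (hmemJ (hdeg n le_rfl x hx) (by simp [ψ0, π, Ideal.Quotient.eq_zero_iff_mem.mpr hx])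
      (by simp [ψ0]))⟩
  have hχ' : ∀ b, χ b - ψ0 b ∈ J := fun b => Ideal.Quotient.eq.mp (AlgHom.congr_fun hχ b)
  have hfst : ∀ b, (χ b).fst = π b := fun b => by
    simpa [ψ0, sub_eq_zero] using (hχ' b).1
  choose d' hd' using fun b => Ideal.Quotient.mk_surjective ((χ b).snd)
  refine ⟨d', fun x => ?_, fun x y => ?_, fun x y => ?_, fun a => ?_⟩
  · have h1 : π (d' x - d x) ∈ (m ^ n).map π := by
      simpa [ψ0, π, hd'] using (hχ' x).2
    obtain ⟨z, hz, hzx⟩ := (Ideal.mem_map_iff_of_surjective π Ideal.Quotient.mk_surjective).mp h1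
    have := Ideal.Quotient.eq.mp hzx.symm
    have h2 := add_mem (Ideal.pow_le_pow_right (Nat.le_succ n) this) hz
    simpa using h2
  · refine Ideal.Quotient.eq.mp ?_
    rw [map_add, hd', hd', hd', map_add, snd_add]
  · refine Ideal.Quotient.eq.mp ?_
    rw [map_add, map_mul, map_mul, hd', hd', hd', map_mul χ, TrivSqZeroExt.snd_mul, hfst, hfst]
    simp [π, mul_comm]
  · refine Ideal.Quotient.eq.mp ?_
    rw [hd', χ.commutes]
    simp [RingHom.algebraMap_toAlgebra, φ, π]

/-- Suppose A → B is a local map of Noetherian local rings, B is complete, and A → B is formally smooth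
for the adic topology of the maximal ideal of B. Then each derivation D of A extends to a derivation
D' of B, in the sense that D' restricted along A → B equals D followed by A → B. -/
theorem result (A B : Type u) [CommRing A]
    [CommRing B] [IsLocalRing A] [IsLocalRing B] [IsNoetherianRing A] [IsNoetherianRing B]
    [Algebra A B] [IsLocalHom (algebraMap A B)]
    [IsAdicComplete (IsLocalRing.maximalIdeal B) B]
    (hfs : CAlgX.IsAdicFormallySmooth A B (IsLocalRing.maximalIdeal B)) (D : Derivation ℤ A A) :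
    ∃ D' : Derivation ℤ B B, ∀ a : A, D' (algebraMap A B a) = algebraMap A B (D a) := by
  classical
  set m := IsLocalRing.maximalIdeal B with hm
  let P : ℕ → (B → B) → Prop := fun n d =>
    (∀ x y, d (x + y) - (d x + d y) ∈ m ^ n) ∧
    (∀ x y, d (x * y) - (x * d y + y * d x) ∈ m ^ n) ∧
    ∀ a, d (algebraMap A B a) - algebraMap A B (D a) ∈ m ^ n
  have step : ∀ n d, P n d → ∃ d', (∀ x, d' x - d x ∈ m ^ n) ∧ P (n + 1) d' := fun n d h => by
    obtain ⟨d', h1, h2, h3, h4⟩ := exists_step m hfs D n d h.1 h.2.1 h.2.2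
    exact ⟨d', h1, h2, h3, h4⟩
  choose g hg hg' using step
  let seq : (n : ℕ) → {d : B → B // P n d} := fun n =>
    Nat.rec ⟨fun _ => 0, by simp [P]⟩ (fun n p => ⟨g n p.1 p.2, hg' n p.1 p.2⟩) n
  have hcauchy : ∀ x : B, ∀ {i j : ℕ}, i ≤ j →
      (seq i).1 x ≡ (seq j).1 x [SMOD (m ^ i • ⊤ : Submodule B B)] := by
    intro x i j hij
    induction j, hij using Nat.le_induction with
    | base => rfl
    | succ j hij ih =>
      refine ih.trans (SModEq.sub_mem.mpr ?_)
      rw [smul_eq_mul, Ideal.mul_top]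
      have h1 := neg_mem (Ideal.pow_le_pow_right hij (hg j (seq j).1 (seq j).2 x))
      rw [neg_sub] at h1
      exact h1
  choose L hL using fun x : B => IsPrecomplete.prec (inferInstance : IsPrecomplete m B) (hcauchy x)
  have hL' : ∀ x n, (seq n).1 x - L x ∈ m ^ n := fun x n => by
    have h2 := hL x n
    rw [SModEq.sub_mem, smul_eq_mul, Ideal.mul_top] at h2
    exact h2
  have hzero : ∀ z : B, (∀ n, z ∈ m ^ n) → z = 0 := fun z hz =>
    IsHausdorff.haus (I := m) inferInstance z fun n => by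
      rw [SModEq.zero, smul_eq_mul, Ideal.mul_top]; exact hz n
  have hadd : ∀ x y, L (x + y) = L x + L y := fun x y => sub_eq_zero.mp (hzero _ fun n => by
    rw [show L (x + y) - (L x + L y) = ((seq n).1 (x + y) - ((seq n).1 x + (seq n).1 y)) -
      ((seq n).1 (x + y) - L (x + y)) + ((seq n).1 x - L x) + ((seq n).1 y - L y) by ring]
    exact add_mem (add_mem (sub_mem ((seq n).2.1 x y) (hL' _ n)) (hL' x n)) (hL' y n))
  have hmul : ∀ x y, L (x * y) = x * L y + y * L x := fun x y => sub_eq_zero.mp (hzero _ fun n => by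
    rw [show L (x * y) - (x * L y + y * L x) =
      ((seq n).1 (x * y) - (x * (seq n).1 y + y * (seq n).1 x)) -
      ((seq n).1 (x * y) - L (x * y)) + x * ((seq n).1 y - L y) + y * ((seq n).1 x - L x) by ring]
    exact add_mem (add_mem (sub_mem ((seq n).2.2.1 x y) (hL' _ n))
      (Ideal.mul_mem_left _ _ (hL' y n))) (Ideal.mul_mem_left _ _ (hL' x n)))
  refine ⟨Derivation.mk' (AddMonoidHom.mk' L hadd).toIntLinearMap (fun x y => by simpa using hmul x y),
    fun a => sub_eq_zero.mp (hzero _ fun n => ?_)⟩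
  change L (algebraMap A B a) - algebraMap A B (D a) ∈ m ^ n
  have := sub_mem ((seq n).2.2.2 a) (hL' (algebraMap A B a) n)
  simpa using this

end Groth.Agent.S9258
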