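import Groth.Statements.S9259
import Groth.Agent.H02CA.RegularLocal

set_option autoImplicit false
universe u
open CAlg

namespace Groth.Agent.S9259



/-- Regularity of a ring map is a local property: for a ring map R → Λ with Noetherian target,
regularity of R → Λ is equivalent to regularity of every induced local map R_p → Λ_q (q a prime of
Λ, p = q ∩ R), and also to regularity of those induced maps at the maximal ideals q of Λ. (The maps
of local rings are the canonical localized maps.) -/
theorem result (R Λ : Type u) [CommRing R] [CommRing Λ] [Algebra R Λ]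
    [IsNoetherianRing Λ] :
    (CAlg.IsRegularHom R Λ ↔
      ∀ (q : Ideal Λ) [q.IsPrime],
        letI := (Localization.localRingHom (Ideal.comap (algebraMap R Λ) q) q (algebraMap R Λ) rfl).toAlgebra
        CAlg.IsRegularHom (Localization.AtPrime (Ideal.comap (algebraMap R Λ) q))
          (Localization.AtPrime q)) ∧
    (CAlg.IsRegularHom R Λ ↔
      ∀ (n : Ideal Λ) [n.IsMaximal],
        letI := (Localization.localRingHom (Ideal.comap (algebraMap R Λ) n) n (algebraMap R Λ) rfl).toAlgebra
        CAlg.IsRegularHom (Localization.AtPrime (Ideal.comap (algebraMap R Λ) n))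
          (Localization.AtPrime n)) := by
  have fwd : CAlg.IsRegularHom R Λ → ∀ (q : Ideal Λ) [q.IsPrime],
      letI := (Localization.localRingHom (Ideal.comap (algebraMap R Λ) q) q (algebraMap R Λ) rfl).toAlgebra
      CAlg.IsRegularHom (Localization.AtPrime (Ideal.comap (algebraMap R Λ) q)) (Localization.AtPrime q) := by
    intro h q _
    haveI : q.LiesOver (Ideal.comap (algebraMap R Λ) q) := ⟨rfl⟩
    letI := (Localization.localRingHom (Ideal.comap (algebraMap R Λ) q) q (algebraMap R Λ) rfl).toAlgebra
    haveI : Localization.AtPrime.IsLiesOverAlgebra (Ideal.comap (algebraMap R Λ) q) q := ⟨rfl⟩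
    exact Groth.Agent.H02CA.isRegularHom_localization h _ q
  exact ⟨⟨fwd, fun h => Groth.Agent.H02CA.isRegularHom_of_localization fun n _ => h n⟩,
    ⟨fun h n _ => fwd h n, fun h => Groth.Agent.H02CA.isRegularHom_of_localization h⟩⟩

end Groth.Agent.S9259
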