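import Groth.Statements.S9260
import Groth.Agent.H02CA.InvariantPoly
import Mathlib.RingTheory.Ideal.Maps
import Mathlib.LinearAlgebra.Finsupp.LinearCombination

set_option autoImplicit false
universe u
open CAlg

namespace Groth.Agent.S9260

/-- Suppose a finite group G with n elements acts on a ring R by ring automorphisms, A → R is a ring map
compatible with the action whose image contains the invariants (so that A maps onto R^G), J is an
ideal of A, and x lies in JR. Then ∏_σ (T - σ(x)) is the image of a monic polynomial over A of
degree at most n whose coefficients below degree n all lie in J. (The published statement takes A =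
R^G and a polynomial of degree n; this row allows any such A mapping onto R^G and asks degree at
most n, which is the same when A is nonzero.) -/
theorem result (A R G : Type u) [CommRing A]
    [CommRing R] [Algebra A R] [Group G] [Fintype G] [MulSemiringAction G R] [SMulCommClass G A R]
    [Algebra.IsInvariant A R G] (J : Ideal A) (x : R) (hx : x ∈ Ideal.map (algebraMap A R) J) :
    ∃ P : Polynomial A, P.Monic ∧ P.natDegree ≤ Fintype.card G ∧
      (∀ i : ℕ, i < Fintype.card G → P.coeff i ∈ J) ∧
      Polynomial.map (algebraMap A R) P = ∏ σ : G, (Polynomial.X - Polynomial.C (σ • x)) := by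
  classical
  rw [Ideal.map, Ideal.span, Submodule.mem_span_set] at hx
  obtain ⟨c, hc, hcx⟩ := hx
  have hj : ∀ y : c.support, ∃ j ∈ J, algebraMap A R j = (y : R) := fun y => hc y.2
  choose j hj hjy using hj
  obtain ⟨Q, hQ, hQd, hQ0, hQm⟩ := H02CA.exists_universal_lift A (G := G) (fun y : c.support => c (y : R))
  refine ⟨Q.map (MvPolynomial.eval₂Hom (RingHom.id A) j), hQ.map _, Polynomial.natDegree_map_le.trans hQd, fun i hi => ?_, ?_⟩
  · rw [Polynomial.coeff_map]
    exact H02CA.eval₂_mem_of_constantCoeff_eq_zero _ _ J hj _ (hQ0 i hi)
  · have h1 : (algebraMap A R).comp (MvPolynomial.eval₂Hom (RingHom.id A) j) =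
        (MvPolynomial.eval₂Hom (RingHom.id R) fun y => algebraMap A R (j y)).comp (MvPolynomial.map (algebraMap A R)) := by
      apply MvPolynomial.ringHom_ext <;> intro a <;> simp
    rw [Polynomial.map_map, h1, ← Polynomial.map_map, hQm, Polynomial.map_prod]
    refine Finset.prod_congr rfl fun σ _ => ?_
    rw [Polynomial.map_sub, Polynomial.map_X, Polynomial.map_C]
    congr 2
    have h2 : σ • x = ∑ y : c.support, σ • c (y : R) * algebraMap A R (j y) := by
      conv_lhs => rw [← hcx, Finsupp.sum, Finset.smul_sum, ← Finset.sum_coe_sort]
      refine Finset.sum_congr rfl fun y _ => ?_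
      rw [smul_eq_mul, smul_mul', ← hjy, smul_algebraMap]
    rw [h2]
    simp

end Groth.Agent.S9260
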