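import Groth.Statements.S9261
import Mathlib.RingTheory.Flat.Basic
import Mathlib.LinearAlgebra.TensorProduct.Pi
import Mathlib.LinearAlgebra.TensorProduct.RightExactness

set_option autoImplicit false
universe u
open CAlg

namespace Groth.Agent.S9261

/-- Let G be a finite group acting on a ring R, S = R^G its ring of invariants (here: S → R injective
with image the invariants) and A a flat S-algebra. Then the map A → A ⊗_S R is injective with image
the invariants of G acting on A ⊗_S R through the second factor; that is, A → (A ⊗_S R)^G is an
isomorphism. -/
theorem result (S R A G : Type u) [CommRing S] [CommRing R] [Algebra S R]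
    [FaithfulSMul S R] [Group G] [Finite G] [MulSemiringAction G R] [SMulCommClass G S R]
    [Algebra.IsInvariant S R G] [CommRing A] [Algebra S A] [Module.Flat S A] :
    Function.Injective (algebraMap A (TensorProduct S A R)) ∧
      ∀ x : TensorProduct S A R,
        (∀ σ : G, Algebra.TensorProduct.map (AlgHom.id S A) (MulSemiringAction.toAlgHom S R σ) x = x) →
          x ∈ Set.range (algebraMap A (TensorProduct S A R)) := by
  classical
  have : Fintype G := Fintype.ofFinite G
  let ι : S →ₗ[S] R := Algebra.linearMap S R
  let d : R →ₗ[S] (G → R) := LinearMap.pi fun σ =>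
    (MulSemiringAction.toAlgHom S R σ).toLinearMap - LinearMap.id
  have hinj : Function.Injective ι := FaithfulSMul.algebraMap_injective S R
  have hex : Function.Exact ι d := by
    intro x
    constructor
    · intro hx
      obtain ⟨s, hs⟩ := Algebra.IsInvariant.isInvariant (A := S) (G := G) x fun σ =>
        sub_eq_zero.mp (congr_fun hx σ)
      exact ⟨s, hs⟩
    · rintro ⟨s, rfl⟩
      funext σ
      simp [d, ι]
  have hcomp : algebraMap A (TensorProduct S A R) = fun a => LinearMap.lTensor A ι (a ⊗ₜ[S] 1) := by
    funext a; simp [ι]
  constructor
  · rw [hcomp]
    exact (Module.Flat.lTensor_preserves_injective_linearMap ι hinj).comp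
      (TensorProduct.rid S A).symm.injective
  · intro x hx
    have hd : LinearMap.lTensor A d x = 0 := by
      apply (TensorProduct.piRight S S A (fun _ : G => R)).injective
      funext σ
      have key : ∀ y : TensorProduct S A R,
          TensorProduct.piRight S S A (fun _ : G => R) (LinearMap.lTensor A d y) σ =
            Algebra.TensorProduct.map (AlgHom.id S A) (MulSemiringAction.toAlgHom S R σ) y - y := by
        intro y
        induction y using TensorProduct.induction_on with
        | zero => simp
        | tmul a r => simp [d, TensorProduct.tmul_sub]
        | add a b h1 h2 => simp only [map_add, Pi.add_apply, h1, h2]; abel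
      rw [key, hx σ, map_zero]; simp
    obtain ⟨y, rfl⟩ := (Module.Flat.lTensor_exact A hex x).mp hd
    obtain ⟨a, rfl⟩ := (TensorProduct.rid S A).symm.surjective y
    exact ⟨a, by rw [hcomp]; rfl⟩

end Groth.Agent.S9261
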