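import Groth.Statements.S9264
import Groth.Agent.H16Derived.ExtCech

set_option autoImplicit false
universe u
attribute [local instance] HasDerivedCategory.standard
open CategoryTheory
open DerCA

namespace Groth.Agent.S9264

/-- The cohomology of the extended alternating Cech complex of a module M with respect to f_1, ..., f_r
vanishes in degrees outside [0, r]. -/
theorem result (R : Type u) [CommRing R] (fs : List R)
    (M : ModuleCat.{u} R) (q : ℤ) (hq : q < 0 ∨ (fs.length : ℤ) < q) :
    Limits.IsZero (DerCA.extCechH fs M q) := by
  exact Groth.Agent.H16Derived.ExtCech.isZero_extCechH_of_degree M fs q hq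

end Groth.Agent.S9264
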