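import Groth.Statements.S9265
import Groth.Agent.H16Derived.ExtCech

set_option autoImplicit false
universe u
attribute [local instance] HasDerivedCategory.standard
open CategoryTheory
open DerCA

namespace Groth.Agent.S9265

/-- Every element of the cohomology of the extended alternating Cech complex of M with respect to f_1,
..., f_r is killed by a common power of the f_i; in particular these cohomology modules are
supported on V(f_1, ..., f_r). -/
theorem result (R : Type u) [CommRing R] (fs : List R) (M : ModuleCat.{u} R)
    (q : ℤ) (x : DerCA.extCechH fs M q) :
    ∃ n : ℕ, 1 ≤ n ∧ ∀ f ∈ fs, (f ^ n) • x = 0 := by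
  exact Groth.Agent.H16Derived.ExtCech.exists_pow_smul_homology_eq_zero M fs q x

end Groth.Agent.S9265
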