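import Groth.Statements.S9268
import Groth.Agent.H02CA.EssFTSmooth
import Mathlib.RingTheory.Smooth.Locus

set_option autoImplicit false
set_option linter.style.haveILetI false
universe u
open CAlg

namespace Groth.Agent.S9268

theorem result (A B : Type u) [CommRing A] [IsNoetherianRing A]
    [CommRing B] [Algebra A B] [Algebra.FiniteType A B] (q : Ideal B) [q.IsPrime] :
    (∃ g : B, g ∉ q ∧ Algebra.Smooth A (Localization.Away g)) ↔
      letI := (Localization.localRingHom (Ideal.comap (algebraMap A B) q) q (algebraMap A B) rfl).toAlgebra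
      CAlgX.IsAdicFormallySmooth (Localization.AtPrime (Ideal.comap (algebraMap A B) q))
        (Localization.AtPrime q) (IsLocalRing.maximalIdeal (Localization.AtPrime q)) := by
  let p := Ideal.comap (algebraMap A B) q
  let Ap := Localization.AtPrime p
  let Bq := Localization.AtPrime q
  letI : Algebra Ap Bq := (Localization.localRingHom p q (algebraMap A B) rfl).toAlgebra
  haveI : IsScalarTower A Ap Bq := IsScalarTower.of_algebraMap_eq fun a => by
    change algebraMap A Bq a = Localization.localRingHom p q (algebraMap A B) rfl (algebraMap A Ap a)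
    rw [Localization.localRingHom_to_map, IsScalarTower.algebraMap_apply A B Bq]
  haveI : IsNoetherianRing Ap := IsLocalization.isNoetherianRing p.primeCompl _ inferInstance
  haveI : Algebra.EssFiniteType B Bq := .of_isLocalization Bq q.primeCompl
  haveI : Algebra.EssFiniteType A Bq := Algebra.EssFiniteType.comp A B Bq
  haveI : Algebra.EssFiniteType Ap Bq := Algebra.EssFiniteType.of_comp A Ap Bq
  haveI : Algebra.FinitePresentation A B := Algebra.FinitePresentation.of_finiteType.mp inferInstance
  constructor
  · rintro ⟨g, hg, hsm⟩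
    haveI : Algebra.IsSmoothAt A q :=
      ((Algebra.basicOpen_subset_smoothLocus_iff_smooth (f := g)).mpr hsm)
        (show (⟨q, inferInstance⟩ : PrimeSpectrum B) ∈ (PrimeSpectrum.basicOpen g : Set (PrimeSpectrum B)) from hg)
    intro C _ _ J hJ ψ _
    letI : Algebra A C := ((algebraMap Ap C).comp (algebraMap A Ap)).toAlgebra
    haveI : IsScalarTower A Ap C := IsScalarTower.of_algebraMap_eq fun _ => rfl
    obtain ⟨χ, hχ⟩ := Algebra.FormallySmooth.comp_surjective A Bq J hJ (ψ.restrictScalars A)
    refine ⟨AlgHom.mk χ.toRingHom (fun c => RingHom.congr_fun (IsLocalization.ringHom_ext p.primeCompl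
      (j := χ.toRingHom.comp (algebraMap Ap Bq)) (k := algebraMap Ap C) (RingHom.ext fun a => ?_)) c),
      AlgHom.ext fun x => AlgHom.congr_fun hχ x⟩
    change χ (algebraMap Ap Bq (algebraMap A Ap a)) = algebraMap Ap C (algebraMap A Ap a)
    rw [← IsScalarTower.algebraMap_apply, ← IsScalarTower.algebraMap_apply, AlgHom.commutes]
  · intro h
    haveI : Algebra.FormallySmooth Ap Bq := H02CA.EssFTSmooth.formallySmooth_of_isAdicFormallySmooth h
    haveI : Algebra.FormallyEtale A Ap := .of_isLocalization p.primeCompl
    haveI : Algebra.IsSmoothAt A q := Algebra.FormallySmooth.comp A Ap Bq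
    exact Algebra.IsSmoothAt.exists_notMem_smooth A q

end Groth.Agent.S9268
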