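import Groth.Statements.S9271
import Groth.Agent.H02CA.NilLiftFlat

set_option autoImplicit false
universe u
open CAlg

namespace Groth.Agent.S9271

open TensorProduct

theorem smooth_of_smooth_nil {A Q Qb : Type u} [CommRing A] [CommRing Q] [CommRing Qb] [Algebra A Q]
    [Algebra.FinitePresentation A Q] [Module.Flat A Q] (I : Ideal A) (hI : I ≤ nilradical A) [Algebra (A ⧸ I) Qb]
    [Algebra.Smooth (A ⧸ I) Qb] (e : (A ⧸ I) ⊗[A] Q ≃ₐ[A ⧸ I] Qb) : Algebra.Smooth A Q := by
  refine Algebra.Smooth.of_formallySmooth_fiber fun p _ => ?_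
  let φ : A ⧸ I →+* p.ResidueField := Ideal.Quotient.lift I (algebraMap A p.ResidueField) fun a ha =>
    Ideal.algebraMap_residueField_eq_zero.mpr ((hI.trans (nilradical_le_prime p)) ha)
  letI := φ.toAlgebra
  haveI : IsScalarTower A (A ⧸ I) p.ResidueField := IsScalarTower.of_algebraMap_eq fun _ => rfl
  haveI : Algebra.Smooth (A ⧸ I) ((A ⧸ I) ⊗[A] Q) :=
    ⟨Algebra.FormallySmooth.of_equiv e.symm, Algebra.FinitePresentation.equiv e.symm⟩
  exact Algebra.FormallySmooth.of_equiv (Algebra.TensorProduct.cancelBaseChange A (A ⧸ I) p.ResidueField p.ResidueField Q)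

end Groth.Agent.S9271

namespace Groth.Agent.S9271

/-- Suppose A' → B' is a flat ring map of finite presentation (smooth maps being one example), and let I
be a locally nilpotent ideal of A', with A = A'/I and B = B'/IB'. Let f'_1, ..., f'_r be elements of
B' whose images f_1, ..., f_r in B form a quasi-regular sequence with B/(f_1, ..., f_r) smooth over
A. Then B'/(f'_1, ..., f'_r) is smooth over A'. -/
theorem result (A' B' : Type u) [CommRing A']
    [CommRing B'] [Algebra A' B'] [Module.Flat A' B'] [Algebra.FinitePresentation A' B']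
    (I : Ideal A') (hI : ∀ x ∈ I, IsNilpotent x) (r : ℕ) (f' : Fin r → B')
    (hq : CAlgX.IsQuasiRegular
      (fun i => Ideal.Quotient.mk (Ideal.map (algebraMap A' B') I) (f' i)))
    (hsm : Algebra.Smooth (A' ⧸ I)
      ((B' ⧸ Ideal.map (algebraMap A' B') I) ⧸
        Ideal.span (Set.range (fun i => Ideal.Quotient.mk (Ideal.map (algebraMap A' B') I) (f' i))))) :
    Algebra.Smooth A' (B' ⧸ Ideal.span (Set.range f')) := by
  haveI : Algebra.FinitePresentation A' (B' ⧸ Ideal.span (Set.range f')) :=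
    Algebra.FinitePresentation.quotient (Submodule.fg_span (Set.finite_range _))
  haveI := Groth.Agent.H02CA.NilLift.main I B' (fun x hx => hI x hx) f' hq (haveI := hsm; inferInstance)
  let IB := Ideal.map (algebraMap A' B') I
  let J := Ideal.span (Set.range f')
  have hJ : Ideal.span (Set.range fun i => Ideal.Quotient.mk IB (f' i)) = J.map (Ideal.Quotient.mkₐ A' IB) := by
    rw [Ideal.map_span, ← Set.range_comp]; rfl
  let e₀ : TensorProduct A' (A' ⧸ I) (B' ⧸ J) ≃ₐ[A'] ((B' ⧸ IB) ⧸ Ideal.span (Set.range fun i => Ideal.Quotient.mk IB (f' i))) :=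
    (Algebra.TensorProduct.comm A' (A' ⧸ I) (B' ⧸ J)).trans <|
    ((Algebra.TensorProduct.quotIdealMapEquivTensorQuot (B' ⧸ J) I).symm.restrictScalars A').trans <|
    (Ideal.quotientEquivAlgOfEq A' (show I.map (algebraMap A' (B' ⧸ J)) = IB.map (Ideal.Quotient.mkₐ A' J) by
      rw [show algebraMap A' (B' ⧸ J) = (Ideal.Quotient.mk J).comp (algebraMap A' B') from rfl, ← Ideal.map_map]; rfl)).trans <|
    (DoubleQuot.quotQuotEquivCommₐ A' J IB).trans <|
    Ideal.quotientEquivAlgOfEq A' hJ.symm
  let e : TensorProduct A' (A' ⧸ I) (B' ⧸ J) ≃ₐ[A' ⧸ I] ((B' ⧸ IB) ⧸ Ideal.span (Set.range fun i => Ideal.Quotient.mk IB (f' i))) :=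
    { e₀ with
      commutes' := fun r => by
        obtain ⟨a, rfl⟩ := Ideal.Quotient.mk_surjective r
        exact e₀.commutes a }
  exact Groth.Agent.S9271.smooth_of_smooth_nil I (fun x hx => hI x hx) e

end Groth.Agent.S9271
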