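import Groth.Statements.S9273
import Groth.Prelude.Def_CAlgX
import Mathlib.LinearAlgebra.TensorProduct.Pi
import Mathlib.RingTheory.Flat.Equalizer

set_option autoImplicit false
universe u
open CAlgX

namespace Groth.Agent.S9273

/-- Let A → B and A → A' be ring maps and B' = A' ⊗_A B. If f_1, ..., f_r is an H_1-regular sequence in
B with B/(f_1, ..., f_r) flat over A, then the images of the f_i in B' form an H_1-regular sequence. -/
theorem result (A B A' : Type u) [CommRing A] [CommRing B]
    [CommRing A'] [Algebra A B] [Algebra A A'] (r : ℕ) (f : Fin r → B)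
    (hflat : Module.Flat A (B ⧸ Ideal.span (Set.range f))) (hq : CAlgX.IsH1Regular f) :
    CAlgX.IsH1Regular (fun i => ((1 : A') ⊗ₜ[A] f i : TensorProduct A A' B)) := by
  classical
  haveI := hflat
  set J := Ideal.span (Set.range f) with hJ
  let g : (Fin r → B) →ₗ[A] B := (Fintype.linearCombination B f).restrictScalars A
  have hgapp : ∀ c, g c = ∑ i, c i * f i := fun c => by simp [g, Fintype.linearCombination_apply]
  let φ : (Fin r → B) →ₗ[A] J.restrictScalars A := g.codRestrict _ fun c => by
    rw [hgapp]; exact sum_mem fun i _ => J.mul_mem_left _ (Ideal.subset_span ⟨i, rfl⟩)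
  have hφ : Function.Surjective φ := fun x => by
    obtain ⟨c, hc⟩ := (Submodule.mem_span_range_iff_exists_fun B).mp x.2
    exact ⟨c, Subtype.ext ((hgapp c).trans hc)⟩
  let K : Submodule A (Fin r → B) :=
    (Submodule.span B {v : Fin r → B | ∃ i j : Fin r, v = Pi.single i (f j) - Pi.single j (f i)}).restrictScalars A
  have hK : Function.Exact K.subtype φ := by
    intro c
    refine ⟨fun hc => ⟨⟨c, hq c ?_⟩, rfl⟩, ?_⟩
    · rw [← hgapp]; exact congrArg Subtype.val hc
    · rintro ⟨⟨k, hk⟩, rfl⟩
      refine Subtype.ext ?_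
      show g k = 0
      have : Submodule.span B {v : Fin r → B | ∃ i j : Fin r, v = Pi.single i (f j) - Pi.single j (f i)} ≤
          LinearMap.ker (Fintype.linearCombination B f) := by
        refine Submodule.span_le.mpr ?_
        rintro _ ⟨i, j, rfl⟩
        simp [Fintype.linearCombination_apply_single, mul_comm]
      exact this hk
  have hinj : Function.Injective ((J.restrictScalars A).subtype.lTensor A') :=
    LinearMap.lTensor_injective_of_exact_of_flat
      (Ideal.Quotient.mkₐ A J).toLinearMap (Ideal.Quotient.mkₐ_surjective A J) (J.restrictScalars A).subtype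
      Subtype.val_injective (fun x => by
        show Ideal.Quotient.mk J x = 0 ↔ _
        rw [Ideal.Quotient.eq_zero_iff_mem]
        exact ⟨fun h => ⟨⟨x, h⟩, rfl⟩, fun ⟨y, hy⟩ => hy ▸ y.2⟩) A'
  intro a ha
  let e := TensorProduct.piRight A A A' (fun _ : Fin r => B)
  let T : Submodule (TensorProduct A A' B) (Fin r → TensorProduct A A' B) :=
    Submodule.span _ {v | ∃ i j : Fin r, v = Pi.single i ((1 : A') ⊗ₜ[A] f j) - Pi.single j ((1 : A') ⊗ₜ[A] f i)}
  show a ∈ T
  have hsum : ∀ t : TensorProduct A A' (Fin r → B), g.lTensor A' t = ∑ i, e t i * ((1 : A') ⊗ₜ[A] f i) := by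
    intro t
    induction t with
    | zero => simp
    | tmul x c =>
      rw [LinearMap.lTensor_tmul, hgapp, TensorProduct.tmul_sum]
      simp [e, Algebra.TensorProduct.tmul_mul_tmul]
    | add u v hu hv => simp [hu, hv, add_mul, Finset.sum_add_distrib]
  have h0 : φ.lTensor A' (e.symm a) = 0 := by
    refine hinj ?_
    rw [map_zero, ← LinearMap.lTensor_comp_apply]
    show g.lTensor A' (e.symm a) = 0
    rw [hsum, e.apply_symm_apply]
    exact ha
  obtain ⟨s, hs⟩ := (lTensor_exact A' hK hφ _).mp h0
  rw [← e.apply_symm_apply a, ← hs]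
  clear hs h0
  induction s with
  | zero => simp
  | tmul x k =>
    have h1 : (fun i => (1 : A') ⊗ₜ[A] (k : Fin r → B) i) ∈ T := by
      obtain ⟨k, hk⟩ := k
      show (fun i => (1 : A') ⊗ₜ[A] k i) ∈ T
      induction hk using Submodule.span_induction with
      | mem v hv =>
        obtain ⟨i, j, rfl⟩ := hv
        refine Submodule.subset_span ⟨i, j, funext fun l => ?_⟩
        simp [TensorProduct.tmul_sub, Pi.single_apply]
        split_ifs <;> simp
      | zero => simp; exact zero_mem T
      | add u v _ _ hu hv => simpa [TensorProduct.tmul_add, Pi.add_def] using add_mem hu hv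
      | smul b u _ hu =>
        have := T.smul_mem ((1 : A') ⊗ₜ[A] b) hu
        simpa [Pi.smul_def, Algebra.TensorProduct.tmul_mul_tmul] using this
    have := T.smul_mem (x ⊗ₜ[A] (1 : B)) h1
    convert this using 1
    funext i
    simp [e, Algebra.TensorProduct.tmul_mul_tmul]
  | add u v hu hv => simpa using add_mem hu hv

end Groth.Agent.S9273
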