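import Groth.Statements.S9275
import Mathlib.RingTheory.RingHom.Etale
import Mathlib.RingTheory.Localization.Away.Basic
import Mathlib.RingTheory.Ideal.Quotient.Operations
-- import your own Groth.Agent.* helpers here

set_option autoImplicit false
universe u
open EtAlg

namespace Groth.Agent.S9275

/-- Let A → B be a ring map and J an ideal of B such that A → B is étale at every prime of V(J), in the
sense that every prime q ⊇ J has some h ∉ q with A → B_h étale. Then there is g ∈ B mapping to a
unit of B/J such that A → B_g is étale. -/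
theorem result (A B : Type u) [CommRing A] [CommRing B]
    [Algebra A B] (J : Ideal B)
    (h : ∀ (q : Ideal B) [q.IsPrime], J ≤ q → ∃ h : B, h ∉ q ∧ Algebra.Etale A (Localization.Away h)) :
    ∃ g : B, IsUnit (Ideal.Quotient.mk J g) ∧ Algebra.Etale A (Localization.Away g) := by
  choose h hh het using fun q : {q : Ideal B // q.IsPrime ∧ J ≤ q} =>
    @h q.1 q.2.1 q.2.2
  have htop : J ⊔ Ideal.span (Set.range h) = ⊤ := by
    by_contra hne
    obtain ⟨m, hm, hle⟩ := Ideal.exists_le_maximal _ hne
    exact hh ⟨m, hm.isPrime, le_sup_left.trans hle⟩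
      (hle (Ideal.mem_sup_right (Ideal.subset_span ⟨_, rfl⟩)))
  obtain ⟨j, hj, g, hg, hjg⟩ := Submodule.mem_sup.mp ((Ideal.eq_top_iff_one _).mp htop)
  refine ⟨g, ?_, ?_⟩
  · rw [show g = 1 - j by rw [← hjg, add_sub_cancel_left], map_sub, map_one,
      Ideal.Quotient.eq_zero_iff_mem.mpr hj, sub_zero]
    exact isUnit_one
  let S := Localization.Away g
  rw [← RingHom.etale_algebraMap]
  refine RingHom.Etale.propertyIsLocal.ofLocalizationSpanTarget _
    (algebraMap B S '' Set.range h) ?_ ?_
  · rw [← Ideal.map_span]
    exact Ideal.eq_top_of_isUnit_mem _ (Ideal.mem_map_of_mem _ hg)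
      (IsLocalization.Away.algebraMap_isUnit g)
  rintro ⟨_, _, ⟨q, rfl⟩, rfl⟩
  rw [show ((algebraMap S (Localization.Away (algebraMap B S (h q)))).comp (algebraMap A S)) =
    algebraMap A (Localization.Away (algebraMap B S (h q))) from
    (IsScalarTower.algebraMap_eq A S _).symm, RingHom.etale_algebraMap]
  let Bh := Localization.Away (h q)
  let D := Localization.Away (algebraMap B Bh g)
  haveI : Algebra.Etale A Bh := het q
  haveI : Algebra.Etale Bh D := Algebra.Etale.of_isLocalizationAway (algebraMap B Bh g)
  haveI : Algebra.Etale A D := Algebra.Etale.comp A Bh D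
  haveI : IsLocalization.Away (g * h q) D := IsLocalization.Away.mul Bh D (h q) g
  haveI : IsLocalization.Away (g * h q) (Localization.Away (algebraMap B S (h q))) :=
    IsLocalization.Away.mul' S _ g (h q)
  exact Algebra.Etale.of_equiv
    ((IsLocalization.algEquiv (Submonoid.powers (g * h q)) D
      (Localization.Away (algebraMap B S (h q)))).restrictScalars A)

end Groth.Agent.S9275
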