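import Groth.Statements.S9280
import Groth.Agent.H05EGA4.J2
import Groth.Agent.H05EGA4.IntegralDim

set_option autoImplicit false
set_option maxHeartbeats 800000
universe u
open EGA4

open IsLocalRing PrimeSpectrum Groth.Agent.H05EGA4 Groth.Agent

namespace Groth.Agent.S9280

/-- A Nagata ring of dimension 1 is J-2, that is, every finite type algebra over it has open regular
locus. -/
theorem result (R : Type u) [CommRing R] (hR : CAlg.IsNagata R)
    (hdim : ringKrullDim R = 1) : EGA4.IsJ2 R := by
  classical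
  have := hR.1
  refine isJ2_of_finite_domains R fun A' _ _ _ hfin => ?_
  obtain ⟨I, hI, alg, tower, hf⟩ := exists_quotient_ker (A := R) (B := A')
  have : Module.Finite (R ⧸ I) A' := Module.Finite.of_restrictScalars_finite R _ _
  let L := FractionRing A'
  let K := FractionRing (R ⧸ I)
  letI : Algebra K L := FractionRing.liftAlgebra (R ⧸ I) L
  have : FiniteDimensional K L := by
    have : Algebra.IsIntegral (R ⧸ I) A' := inferInstance
    infer_instance
  have : Module.Finite (R ⧸ I) (integralClosure (R ⧸ I) L) := hR.2 I L inferInstance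
  let C := integralClosure (R ⧸ I) L
  have : IsNoetherianRing (R ⧸ I) := inferInstance
  have : IsNoetherianRing C := IsNoetherianRing.of_finite (R ⧸ I) C
  have : Ring.DimensionLEOne (R ⧸ I) := by
    refine ⟨fun {q} hq0 hq => ?_⟩
    obtain ⟨m, hm, hqm⟩ := Ideal.exists_le_maximal q hq.ne_top
    rcases hqm.lt_or_eq with h | h
    · have h01 : (⟨⊥, Ideal.isPrime_bot⟩ : PrimeSpectrum (R ⧸ I)) < ⟨q, hq⟩ := lt_of_le_of_ne bot_le
        fun h => hq0 (congrArg PrimeSpectrum.asIdeal h).symm
      have h12 : (⟨q, hq⟩ : PrimeSpectrum (R ⧸ I)) < ⟨m, hm.isPrime⟩ := h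
      have h1 : ((2 : ℕ) : WithBot ℕ∞) ≤ ringKrullDim (R ⧸ I) :=
        Order.LTSeries.length_le_krullDim (α := PrimeSpectrum (R ⧸ I)) ⟨2, ![⟨⊥, Ideal.isPrime_bot⟩, ⟨q, hq⟩, ⟨m, hm.isPrime⟩], fun i => by
          fin_cases i
          exacts [h01, h12]⟩
      have h2 : ((2 : ℕ) : WithBot ℕ∞) ≤ ((1 : ℕ) : WithBot ℕ∞) :=
        h1.trans ((ringKrullDim_quotient_le I).trans hdim.le)
      norm_cast at h2
    · exact h ▸ hm
  have : IsFractionRing C L := integralClosure.isFractionRing_of_finite_extension K L
  have : IsIntegrallyClosed C := integralClosure.isIntegrallyClosedOfFiniteExtension K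
  have : IsDedekindRing C := (isDedekindRing_iff C L).mpr ⟨inferInstance, inferInstance,
    fun {x} hx => (isIntegrallyClosed_iff L).mp inferInstance hx⟩
  have : IsDedekindDomain C := ⟨⟩
  have hA'C : ∀ a : A', algebraMap A' L a ∈ C := fun a =>
    IsIntegral.algebraMap (Algebra.IsIntegral.isIntegral (R := R ⧸ I) a)
  let j : A' →+* C := (algebraMap A' L).codRestrict C hA'C
  letI := j.toAlgebra
  have : IsScalarTower (R ⧸ I) A' C := IsScalarTower.of_algebraMap_eq fun r =>
    Subtype.ext (IsScalarTower.algebraMap_apply (R ⧸ I) A' L r)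
  have : IsScalarTower A' C L := IsScalarTower.of_algebraMap_eq fun _ => rfl
  have : Module.Finite A' C := Module.Finite.of_restrictScalars_finite (R ⧸ I) A' C
  obtain ⟨gens, hgens⟩ := Module.Finite.fg_top (R := A') (M := C)
  obtain ⟨c, hc⟩ := IsLocalization.exist_integer_multiples (nonZeroDivisors A') gens fun x => (x : L)
  have hjinj : Function.Injective j := fun a b h => IsFractionRing.injective A' L (congrArg Subtype.val h :)
  have hall : ∀ x : C, ∃ a : A', j a = j c.1 * x := by
    intro x
    have hx : x ∈ Submodule.span A' (gens : Set C) := hgens ▸ trivial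
    induction hx using Submodule.span_induction with
    | mem y hy =>
      obtain ⟨a, ha⟩ := hc y hy
      refine ⟨a, Subtype.ext ?_⟩
      rw [Algebra.smul_def] at ha
      exact ha
    | zero => exact ⟨0, by simp⟩
    | add y z _ _ hy hz =>
      obtain ⟨a, ha⟩ := hy
      obtain ⟨b, hb⟩ := hz
      exact ⟨a + b, by rw [map_add, ha, hb, mul_add]⟩
    | smul r y _ hy =>
      obtain ⟨a, ha⟩ := hy
      refine ⟨r * a, ?_⟩
      rw [map_mul, ha, Algebra.smul_def, RingHom.algebraMap_toAlgebra]
      ring
  let Cc := Localization.Away (j c.1)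
  have hloc : IsLocalization.Away c.1 Cc := by
    refine IsLocalization.Away.mk c.1 ?_ (fun z => ?_) fun a b hab => ?_
    · rw [IsScalarTower.algebraMap_apply A' C Cc]
      exact IsLocalization.Away.algebraMap_isUnit (j c.1)
    · obtain ⟨n, x, hx⟩ := IsLocalization.Away.surj (j c.1) z
      obtain ⟨a, ha⟩ := hall x
      refine ⟨n + 1, a, ?_⟩
      rw [IsScalarTower.algebraMap_apply A' C Cc c.1, IsScalarTower.algebraMap_apply A' C Cc a,
        RingHom.algebraMap_toAlgebra, ha, map_mul, ← hx, pow_succ]
      ring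
    · refine ⟨0, ?_⟩
      have hne : Submonoid.powers (j c.1) ≤ nonZeroDivisors C := powers_le_nonZeroDivisors_of_noZeroDivisors
        ((map_ne_zero_iff _ hjinj).mpr (nonZeroDivisors.ne_zero c.2))
      rw [IsScalarTower.algebraMap_apply A' C Cc a, IsScalarTower.algebraMap_apply A' C Cc b] at hab
      rw [hjinj (IsLocalization.injective Cc hne hab)]
  refine ⟨basicOpen c.1, (basicOpen c.1).2, ⟨⟨⊥, Ideal.isPrime_bot⟩, fun h => nonZeroDivisors.ne_zero c.2 h⟩,
    fun Q hQ => ?_⟩
  have hd : Disjoint (Submonoid.powers c.1 : Set A') Q.asIdeal := (Ideal.disjoint_powers_iff_notMem_of_isPrime _).mpr hQ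
  have hP := IsLocalization.isPrime_of_isPrime_disjoint (Submonoid.powers c.1) Cc Q.asIdeal Q.2 hd
  have hP' := IsLocalization.under_map_of_isPrime_disjoint (Submonoid.powers c.1) Cc Q.2 hd
  refine (isRegularLocalRing_localization_congr hP').mp
    ((isRegularLocalRing_localization_iff (Submonoid.powers c.1) Cc _).mp ?_)
  exact (isRegularLocalRing_localization_iff (Submonoid.powers (j c.1)) Cc _).mpr
    (IsRegularRing.isRegularLocalRing_localization _)


end Groth.Agent.S9280
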