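import Groth.Statements.S9282
import Mathlib.RingTheory.Kaehler.JacobiZariski
import Mathlib.RingTheory.Kaehler.Basic
import Mathlib.LinearAlgebra.TensorProduct.RightExactness
import Mathlib.RingTheory.LocalRing.ResidueField.Basic
import Mathlib.RingTheory.Ideal.Quotient.Operations

set_option autoImplicit false
universe u
open CAlg

namespace Groth.Agent.S9282

section
open TensorProduct Algebra IsLocalRing

set_option backward.isDefEq.respectTransparency false in
lemma core (A B : Type u) [CommRing A] [CommRing B] [IsLocalRing B] [Algebra A B]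
    (hfs : CAlgX.IsAdicFormallySmooth A B (maximalIdeal B))
    (P : Type u) [CommRing P] [Algebra A P] (g : P →ₐ[A] B) (hg : Function.Surjective g)
    [Algebra P (ResidueField B)] (hπ : ∀ p, algebraMap P (ResidueField B) p = residue B (g p))
    (y : P) (hgy : g y ∈ maximalIdeal B ^ 2)
    (hd : (1 : ResidueField B) ⊗ₜ[P] (KaehlerDifferential.D A P) y = 0) :
    y ∈ RingHom.ker (algebraMap P (ResidueField B)) ^ 2 := by
  let J := RingHom.ker (algebraMap P (ResidueField B))
  have hJ : ∀ p, p ∈ J ↔ g p ∈ maximalIdeal B := fun p => by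
    rw [RingHom.mem_ker, hπ, residue_eq_zero_iff]
  let m2 := maximalIdeal B ^ 2
  let W := P ⧸ J ^ 2
  let φ0 : P →ₐ[A] B ⧸ m2 := (Ideal.Quotient.mkₐ A m2).comp g
  have hφ0 : ∀ p ∈ J ^ 2, φ0 p = 0 := fun p hp => by
    show Ideal.Quotient.mk m2 (g p) = 0
    rw [Ideal.Quotient.eq_zero_iff_mem]
    have h1 : g p ∈ (J ^ 2).map g.toRingHom := Ideal.mem_map_of_mem _ hp
    rw [Ideal.map_pow] at h1
    exact Ideal.pow_right_mono ((Ideal.map_le_iff_le_comap (f := g.toRingHom) (K := maximalIdeal B)).mpr fun q hq => (hJ q).mp hq) 2 h1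
  let φ : W →ₐ[A] B ⧸ m2 := Ideal.Quotient.liftₐ (J ^ 2) φ0 hφ0
  have hφ : Function.Surjective φ := fun b => by
    obtain ⟨b, rfl⟩ := Ideal.Quotient.mk_surjective b
    obtain ⟨p, rfl⟩ := hg b
    exact ⟨Ideal.Quotient.mk _ p, rfl⟩
  let I := RingHom.ker φ
  have hIJ : I ≤ J.map (Ideal.Quotient.mk (J ^ 2)) := by
    intro w hw
    obtain ⟨p, rfl⟩ := Ideal.Quotient.mk_surjective w
    have h1 : g p ∈ m2 := Ideal.Quotient.eq_zero_iff_mem.mp hw
    exact Ideal.mem_map_of_mem _ ((hJ p).mpr (Ideal.pow_le_self two_ne_zero h1))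
  have hJ2 : J.map (Ideal.Quotient.mk (J ^ 2)) ^ 2 = ⊥ := by
    rw [← Ideal.map_pow, Ideal.map_quotient_self]
  have hI2 : I ^ 2 = ⊥ := le_bot_iff.mp ((Ideal.pow_right_mono hIJ 2).trans hJ2.le)
  let e := Ideal.quotientKerAlgEquivOfSurjective hφ
  let ψ : B →ₐ[A] W ⧸ I := e.symm.toAlgHom.comp (Ideal.Quotient.mkₐ A m2)
  obtain ⟨χ, hχ⟩ := hfs W I hI2 ψ ⟨2, fun x hx => by
    show e.symm (Ideal.Quotient.mk m2 x) = 0
    rw [Ideal.Quotient.eq_zero_iff_mem.mpr hx, map_zero]⟩
  have hlift : ∀ p : P, Ideal.Quotient.mk (J ^ 2) p - χ (g p) ∈ I := by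
    intro p
    rw [← Ideal.Quotient.eq]
    have h1 := AlgHom.congr_fun hχ (g p)
    change Ideal.Quotient.mk I (χ (g p)) = e.symm (Ideal.Quotient.mk m2 (g p)) at h1
    rw [h1]
    apply e.injective
    rw [AlgEquiv.apply_symm_apply]
    exact Ideal.quotientKerAlgEquivOfSurjective_mk hφ _
  have hJI : ∀ p ∈ J, ∀ w ∈ I, Ideal.Quotient.mk (J ^ 2) p * w = 0 := fun p hp w hw => by
    have h2 := Ideal.mul_mem_mul (Ideal.mem_map_of_mem (Ideal.Quotient.mk (J ^ 2)) hp) (hIJ hw)
    rwa [← sq, hJ2] at h2
  let D : Derivation A P W :=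
    Derivation.mk'
      ((Ideal.Quotient.mkₐ A (J ^ 2)).toLinearMap - (χ.comp g).toLinearMap) (fun a b => by
        show Ideal.Quotient.mk (J ^ 2) (a * b) - χ (g (a * b)) =
          Ideal.Quotient.mk (J ^ 2) a * (Ideal.Quotient.mk (J ^ 2) b - χ (g b)) +
            Ideal.Quotient.mk (J ^ 2) b * (Ideal.Quotient.mk (J ^ 2) a - χ (g a))
        have h0 : (Ideal.Quotient.mk (J ^ 2) a - χ (g a)) * (Ideal.Quotient.mk (J ^ 2) b - χ (g b)) = 0 := by
          have h2 := Ideal.mul_mem_mul (hlift a) (hlift b)
          rwa [← sq, hI2] at h2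
        rw [map_mul, map_mul, map_mul]
        linear_combination -h0)
  have hD : ∀ p, D p = Ideal.Quotient.mk (J ^ 2) p - χ (g p) := fun p => rfl
  have hrange : ∀ ω, D.liftKaehlerDifferential ω ∈ I := by
    intro ω
    have : ω ∈ Submodule.span P (Set.range (KaehlerDifferential.D A P)) := by
      rw [KaehlerDifferential.span_range_derivation]; trivial
    induction this using Submodule.span_induction with
    | mem x hx => obtain ⟨p, rfl⟩ := hx; rw [Derivation.liftKaehlerDifferential_comp_D, hD]; exact hlift p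
    | zero => rw [map_zero]; exact zero_mem _
    | add a b _ _ ha hb => rw [map_add]; exact add_mem ha hb
    | smul c a _ ha => rw [map_smul, Algebra.smul_def]; exact I.mul_mem_left _ ha
  have hkill : ∀ ω ∈ J • (⊤ : Submodule P (Ω[P⁄A])), D.liftKaehlerDifferential ω = 0 := by
    intro ω hω
    refine Submodule.smul_induction_on hω (fun r hr z _ => ?_) fun a b ha hb => by rw [map_add, ha, hb, add_zero]
    rw [map_smul, Algebra.smul_def]
    exact hJI r hr _ (hrange z)
  have hω : KaehlerDifferential.D A P y ∈ J • (⊤ : Submodule P (Ω[P⁄A])) := by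
    have hsurj : Function.Surjective (Algebra.linearMap P (ResidueField B)) := fun k => by
      obtain ⟨b, rfl⟩ := residue_surjective k
      obtain ⟨p, rfl⟩ := hg b
      exact ⟨p, hπ p⟩
    have hex : Function.Exact (Submodule.subtype J) (Algebra.linearMap P (ResidueField B)) := fun p =>
      ⟨fun hp => ⟨⟨p, hp⟩, rfl⟩, fun ⟨q, hq⟩ => hq ▸ q.2⟩
    have h0 : (Algebra.linearMap P (ResidueField B)).rTensor (Ω[P⁄A])
        ((1 : P) ⊗ₜ[P] KaehlerDifferential.D A P y) = 0 := by
      rw [LinearMap.rTensor_tmul, Algebra.linearMap_apply, map_one, hd]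
    obtain ⟨w, hw⟩ := (rTensor_exact (Ω[P⁄A]) hex hsurj _).mp h0
    have hrid : ∀ w : J ⊗[P] Ω[P⁄A],
        TensorProduct.lid P (Ω[P⁄A]) (J.subtype.rTensor (Ω[P⁄A]) w) ∈ J • (⊤ : Submodule P (Ω[P⁄A])) := by
      intro w
      induction w with
      | zero => simp
      | tmul j ω =>
        rw [LinearMap.rTensor_tmul, TensorProduct.lid_tmul]
        exact Submodule.smul_mem_smul j.2 trivial
      | add a b ha hb => rw [map_add, map_add]; exact add_mem ha hb
    have h2 := hrid w
    rwa [hw, TensorProduct.lid_tmul, one_smul] at h2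
  have h3 := hkill _ hω
  rw [Derivation.liftKaehlerDifferential_comp_D, hD] at h3
  have hχm : ∀ b ∈ maximalIdeal B, χ b ∈ J.map (Ideal.Quotient.mk (J ^ 2)) := by
    intro b hb
    obtain ⟨p, rfl⟩ := hg b
    rw [show χ (g p) = Ideal.Quotient.mk (J ^ 2) p - (Ideal.Quotient.mk (J ^ 2) p - χ (g p)) by ring]
    exact sub_mem (Ideal.mem_map_of_mem _ ((hJ p).mpr hb)) (hIJ (hlift p))
  have h4 : χ (g y) = 0 := by
    have h5 : χ (g y) ∈ m2.map χ.toRingHom := Ideal.mem_map_of_mem _ hgy
    rw [Ideal.map_pow] at h5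
    have h6 := Ideal.pow_right_mono ((Ideal.map_le_iff_le_comap (f := χ.toRingHom) (K := J.map (Ideal.Quotient.mk (J ^ 2)))).mpr hχm) 2 h5
    rwa [hJ2] at h6
  rw [h4, sub_zero, Ideal.Quotient.eq_zero_iff_mem] at h3
  exact h3

set_option backward.isDefEq.respectTransparency false in
theorem main (A B : Type u) [CommRing A] [CommRing B] [IsLocalRing B] [Algebra A B]
    (hfs : CAlgX.IsAdicFormallySmooth A B (maximalIdeal B)) :
    Function.Injective (Algebra.H1Cotangent.map A B (ResidueField B) (ResidueField B)) := by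
  let K := ResidueField B
  let g : MvPolynomial B A →ₐ[A] B := MvPolynomial.aeval (id : B → B)
  have hg : Function.Surjective g := fun b => ⟨MvPolynomial.X b, by simp [g]⟩
  let φ : MvPolynomial B A →ₐ[A] K := (IsScalarTower.toAlgHom A B K).comp g
  have hφ : Function.Surjective φ := residue_surjective.comp hg
  let E2 : Extension.{u} A K := Extension.ofSurjective φ hφ
  let E3 : Extension.{u} B K := Extension.ofSurjective (IsScalarTower.toAlgHom B B K) residue_surjective
  let h23 : Extension.Hom E2 E3 :=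
    { toRingHom := g.toRingHom
      toRingHom_algebraMap := fun a => g.commutes a
      algebraMap_toRingHom := fun p => rfl }
  let back : Extension.Hom E2 (Generators.self A K).toExtension :=
    Extension.Hom.ofAlgHom (MvPolynomial.aeval fun b => MvPolynomial.X (residue B b) :
        MvPolynomial B A →ₐ[A] MvPolynomial K A) (by
      refine MvPolynomial.algHom_ext fun b => ?_
      show MvPolynomial.aeval (id : K → K) (MvPolynomial.aeval _ (MvPolynomial.X b)) = φ (MvPolynomial.X b)
      simp [φ, g]
      rfl)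
  intro x x' hxx
  rw [← sub_eq_zero] at hxx ⊢
  rw [← map_sub] at hxx
  generalize x - x' = z at hxx ⊢
  clear x x'
  let f : Extension.Hom (Generators.self A K).toExtension E2 := Extension.defaultHom A K E2
  let f3 : Extension.Hom (Generators.self B K).toExtension E3 := Extension.defaultHom B K E3
  let zz := Extension.H1Cotangent.map f z
  have hz : Extension.H1Cotangent.map h23 zz = 0 := by
    rw [← Extension.H1Cotangent.map_comp_apply, Extension.H1Cotangent.map_eq _
      (f3.comp (Generators.defaultHom (Generators.self A K) (Generators.self B K)).toExtensionHom),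
      Extension.H1Cotangent.map_comp_apply]
    show Extension.H1Cotangent.map f3 (Algebra.H1Cotangent.map A B K K z) = 0
    rw [hxx, map_zero]
  have key : ∀ w : E2.H1Cotangent, Extension.H1Cotangent.map h23 w = 0 → w = 0 := by
    rintro ⟨w, hw⟩ hw0
    obtain ⟨⟨y, hy⟩, rfl⟩ := Extension.Cotangent.mk_surjective w
    refine Extension.h1Cotangentι_ext _ _ ?_
    show Extension.Cotangent.mk ⟨y, hy⟩ = 0
    rw [Extension.Cotangent.mk_eq_zero_iff]
    have h1 : Extension.Cotangent.map h23 (Extension.Cotangent.mk ⟨y, hy⟩) = 0 := congrArg Subtype.val hw0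
    rw [Extension.Cotangent.map_mk, Extension.Cotangent.mk_eq_zero_iff] at h1
    rw [LinearMap.mem_ker, Extension.cotangentComplex_mk] at hw
    letI : Algebra (MvPolynomial B A) K := φ.toRingHom.toAlgebra
    refine core A B hfs (MvPolynomial B A) g hg (fun p => rfl) y ?_ hw
    have h2 : g y ∈ RingHom.ker (residue B) ^ 2 := h1
    rwa [ker_residue] at h2
  have h0 := key zz hz
  have hid : Extension.H1Cotangent.map back zz = z := by
    rw [← Extension.H1Cotangent.map_comp_apply, Extension.H1Cotangent.map_eq _ (Extension.Hom.id _),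
      Extension.H1Cotangent.map_id]
    rfl
  rw [← hid, h0, map_zero]

end

/-- Let A → B be a local ring map between Noetherian local rings that is formally smooth for the adic
topology of the maximal ideal of B, and write K for the residue field of B. In the Jacobi–Zariski
sequence attached to A → B → K, the map from H_1(NL_{K/A}) to H_1(NL_{K/B}), which is m_B/m_B^2, is
injective; the remaining terms are exact in general, so that sequence starts with a zero. -/
theorem result (A B : Type u) [CommRing A]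
    [CommRing B] [IsLocalRing A] [IsLocalRing B] [IsNoetherianRing A] [IsNoetherianRing B]
    [Algebra A B] [IsLocalHom (algebraMap A B)]
    (hfs : CAlgX.IsAdicFormallySmooth A B (IsLocalRing.maximalIdeal B)) :
    Function.Injective
      (Algebra.H1Cotangent.map A B (IsLocalRing.ResidueField B) (IsLocalRing.ResidueField B)) := by
  exact main A B hfs

end Groth.Agent.S9282
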