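import Groth.Statements.S9283
import Mathlib.RingTheory.Ideal.Maximal
import Mathlib.RingTheory.Ideal.Operations
import Mathlib.RingTheory.Finiteness.Ideal

set_option autoImplicit false
universe u
open CAlg

namespace Groth.Agent.S9283

/-- Let R be an auto-associated ring, that is, a local ring whose maximal ideal is weakly associated to
R: some nonzero x ∈ R is killed by a power of every element of the maximal ideal. Then every proper
finitely generated ideal of R has a nonzero annihilator. -/
theorem result (R : Type u) [CommRing R] [IsLocalRing R]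
    (h : ∃ x : R, x ≠ 0 ∧ ∀ f ∈ IsLocalRing.maximalIdeal R, ∃ n : ℕ, f ^ n * x = 0)
    (I : Ideal R) (hI : I.FG) (hI' : I ≠ ⊤) : I.annihilator ≠ ⊥ := by
  classical
  obtain ⟨x, hx0, hx⟩ := h
  let J : Ideal R := LinearMap.ker (LinearMap.mulRight R x)
  have hIJ : I ≤ J.radical := fun f hf => by
    obtain ⟨n, hn⟩ := hx f (IsLocalRing.le_maximalIdeal hI' hf)
    exact ⟨n, hn⟩
  have hex := Ideal.exists_pow_le_of_le_radical_of_fg hIJ hI
  have hn0 : Nat.find hex ≠ 0 := by
    intro h0
    have h1 := Nat.find_spec hex
    rw [h0, pow_zero, Ideal.one_eq_top] at h1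
    exact hx0 (by simpa [J] using h1 (Submodule.mem_top : (1 : R) ∈ ⊤))
  obtain ⟨m, hm⟩ := Nat.exists_eq_succ_of_ne_zero hn0
  obtain ⟨a, ha, haJ⟩ := SetLike.not_le_iff_exists.mp (Nat.find_min hex (m := m) (by omega))
  intro hann
  apply haJ
  have h2 : a * x ∈ I.annihilator := by
    refine Submodule.mem_annihilator.mpr fun i hi => ?_
    have : a * i ∈ J := Nat.find_spec hex (by rw [hm, pow_succ]; exact Ideal.mul_mem_mul ha hi)
    simp only [J, LinearMap.mem_ker, LinearMap.mulRight_apply] at this
    rw [smul_eq_mul, mul_right_comm]; exact this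
  rw [hann, Submodule.mem_bot] at h2
  exact h2

end Groth.Agent.S9283
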