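import Groth.Statements.S9284
import Groth.Agent.H3CAlg.PropertyP
import Groth.Agent.S9285
import Groth.Prelude.Def_CAlgX

set_option autoImplicit false
universe u
open CAlgX

namespace Groth.Agent.S9284

/-- Let R be a ring such that every proper finitely generated ideal of R has a nonzero annihilator, and
let u : N → M be an R-linear map between projective R-modules. Then u stays injective after
tensoring with every R-module exactly when u is injective. -/
theorem result (R : Type u) [CommRing R]
    (hP : (∀ I : Ideal R, I.FG → I ≠ ⊤ → I.annihilator ≠ ⊥))
    (N M : Type u) [AddCommGroup N] [Module R N] [Module.Projective R N] [AddCommGroup M]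
    [Module R M] [Module.Projective R M] (u : N →ₗ[R] M) :
    CAlgX.UniversallyInjective R u ↔ Function.Injective u := by
  constructor
  · intro h
    have h1 := h R
    intro a b hab
    have := h1 (a₁ := a ⊗ₜ[R] (1 : R)) (a₂ := b ⊗ₜ[R] (1 : R)) (by simp [hab])
    simpa using congrArg (TensorProduct.rid R N) this
  · intro hu Q _ _
    exact Groth.Agent.H3CAlg.PropertyP.rTensor_injective ((Groth.Agent.S9285.result R).mp hP) u hu Q

end Groth.Agent.S9284
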