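import Groth.Statements.S9286
import Mathlib.RingTheory.Finiteness.Projective
import Mathlib.RingTheory.Finiteness.Ideal
import Mathlib.LinearAlgebra.Quotient.Basic
import Mathlib.LinearAlgebra.Pi
import Mathlib.LinearAlgebra.Projection
import Mathlib.Algebra.Module.Projective
import Mathlib.LinearAlgebra.Finsupp.LinearCombination

set_option autoImplicit false
universe u
open CAlg

namespace Groth.Agent.S9286

theorem left_inverse_free {R : Type*} [CommRing R] (hP : ∀ I : Ideal R, I.FG → I ≠ ⊤ → I.annihilator ≠ ⊥) :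
    ∀ (n p : ℕ) (u : (Fin n → R) →ₗ[R] (Fin p → R)), Function.Injective u → ∃ r, r ∘ₗ u = LinearMap.id := by
  classical
  intro n
  induction n with
  | zero => exact fun p u _ => ⟨0, LinearMap.ext fun x => Subsingleton.elim _ _⟩
  | succ n ih =>
    intro p u hu
    set a := u (Pi.single 0 1)
    have htop : Ideal.span (Set.range a) = ⊤ := by
      by_contra h
      obtain ⟨c, hc, hc0⟩ := Submodule.exists_mem_ne_zero_of_ne_bot (hP _ (Submodule.fg_span (Set.finite_range a)) h)
      have h1 : u (c • Pi.single 0 1) = 0 := by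
        rw [map_smul]
        funext k
        exact Submodule.mem_annihilator.mp hc (a k) (Ideal.subset_span ⟨k, rfl⟩)
      have h2 := congr_fun (hu (h1.trans (map_zero u).symm)) 0
      exact hc0 (by simpa using h2)
    obtain ⟨c, hc⟩ := Ideal.mem_span_range_iff_exists_fun.mp (htop ▸ Submodule.mem_top : (1 : R) ∈ Ideal.span (Set.range a))
    let φ : (Fin p → R) →ₗ[R] R := ∑ k, c k • LinearMap.proj k
    have hφ : φ a = 1 := by simpa [φ] using hc
    let j : (Fin n → R) →ₗ[R] (Fin (n + 1) → R) := LinearMap.pi (Fin.cases 0 fun i => LinearMap.proj i)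
    let π : (Fin p → R) →ₗ[R] (Fin p → R) := LinearMap.id - φ.smulRight a
    have hinj : Function.Injective (π ∘ₗ u ∘ₗ j) := by
      rw [← LinearMap.ker_eq_bot, LinearMap.ker_eq_bot']
      intro v hv
      have h1 : u (j v) = u (φ (u (j v)) • Pi.single 0 1) := by
        rw [map_smul]
        simpa [π, sub_eq_zero] using hv
      funext i
      simpa [j] using congr_fun (hu h1) i.succ
    obtain ⟨r, hr⟩ := ih p _ hinj
    let top : (Fin n → R) →ₗ[R] (Fin (n + 1) → R) := j - (φ ∘ₗ u ∘ₗ j).smulRight (Pi.single 0 1)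
    refine ⟨φ.smulRight (Pi.single 0 1) + top ∘ₗ r ∘ₗ π, LinearMap.ext fun x => ?_⟩
    have hx : x = x 0 • Pi.single 0 1 + j (fun i => x i.succ) := by
      funext i
      refine Fin.cases ?_ (fun i => ?_) i <;> simp [j]
    set v : Fin n → R := fun i => x i.succ
    have h2 : r (π (u (j v))) = v := LinearMap.congr_fun hr v
    have h3 : π a = 0 := by simp [π, hφ]
    rw [LinearMap.comp_apply, LinearMap.id_apply]
    conv_lhs => rw [hx, map_add, map_smul]
    change φ.smulRight _ (x 0 • a + u (j v)) + top (r (π (x 0 • a + u (j v)))) = x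
    rw [map_add π, map_smul π, h3, smul_zero, zero_add, h2]
    simp only [LinearMap.smulRight_apply, map_add, map_smul, hφ, smul_eq_mul, mul_one, top, LinearMap.sub_apply, LinearMap.comp_apply]
    conv_rhs => rw [hx]
    rw [one_smul]
    abel

/-- Let R be a ring in which every proper finitely generated ideal has a nonzero annihilator. Given an
injective R-linear map u : N → M, where both N and M are finite and projective over R, the quotient
Coker(u) = M/u(N) is again projective as an R-module. -/
theorem result (R : Type u) [CommRing R]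
    (hP : (∀ I : Ideal R, I.FG → I ≠ ⊤ → I.annihilator ≠ ⊥))
    (N M : Type u) [AddCommGroup N] [Module R N] [Module.Finite R N] [Module.Projective R N]
    [AddCommGroup M] [Module R M] [Module.Finite R M] [Module.Projective R M]
    (u : N →ₗ[R] M) (hu : Function.Injective u) :
    Module.Projective R (M ⧸ LinearMap.range u) := by
  classical
  -- reduce to free modules
  obtain ⟨n, s, t, hs, ht, hst⟩ := Module.Finite.exists_comp_eq_id_of_projective R N
  obtain ⟨p, s', t', hs', ht', hst'⟩ := Module.Finite.exists_comp_eq_id_of_projective R M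
  -- `N × ker s` is free of rank `n`
  let U : (Fin n → R) →ₗ[R] (Fin p → R) × (Fin n → R) := ((t' ∘ₗ u) ∘ₗ s).prod (LinearMap.id - t ∘ₗ s)
  have hU : Function.Injective U := by
    rw [← LinearMap.ker_eq_bot, LinearMap.ker_eq_bot']
    intro x hx
    simp only [U, LinearMap.prod_apply, Function.prod_apply, Prod.mk_eq_zero, LinearMap.comp_apply, LinearMap.sub_apply, LinearMap.id_apply] at hx
    have h1 : s x = 0 := hu (ht' (by rw [hx.1, map_zero, map_zero]))
    simpa [h1] using hx.2
  let e : ((Fin p → R) × (Fin n → R)) ≃ₗ[R] (Fin (p + n) → R) :=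
    (LinearEquiv.sumArrowLequivProdArrow (Fin p) (Fin n) R R).symm ≪≫ₗ LinearEquiv.funCongrLeft R R finSumFinEquiv.symm
  obtain ⟨r, hr⟩ := left_inverse_free hP n (p + n) (e.toLinearMap ∘ₗ U) (e.injective.comp hU)
  let ρ : M →ₗ[R] N := s ∘ₗ r ∘ₗ e.toLinearMap ∘ₗ LinearMap.inl R _ _ ∘ₗ t'
  have hρ : ρ ∘ₗ u = LinearMap.id := LinearMap.ext fun x => by
    have h1 : U (t x) = (t' (u x), 0) := by
      have := LinearMap.congr_fun hst x
      simp only [LinearMap.comp_apply, LinearMap.id_apply] at this
      simp [U, this]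
    have h2 := LinearMap.congr_fun hr (t x)
    simp only [LinearMap.comp_apply, LinearEquiv.coe_coe, h1] at h2
    simp only [ρ, LinearMap.comp_apply, LinearEquiv.coe_coe, LinearMap.inl_apply, h2, LinearMap.id_apply]
    simpa using LinearMap.congr_fun hst x
  refine Module.Projective.of_split (Submodule.liftQ _ (LinearMap.id - u ∘ₗ ρ) ?_) (LinearMap.range u).mkQ ?_
  · rintro _ ⟨x, rfl⟩
    have := LinearMap.congr_fun hρ x
    simp only [LinearMap.comp_apply, LinearMap.id_apply] at this
    simp [this]
  · refine Submodule.linearMap_qext _ (LinearMap.ext fun x => ?_)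
    simp only [LinearMap.comp_apply, Submodule.mkQ_apply, Submodule.liftQ_apply, LinearMap.sub_apply, LinearMap.id_apply]
    rw [Submodule.Quotient.mk_sub, (Submodule.Quotient.mk_eq_zero _).mpr (LinearMap.mem_range.mpr ⟨ρ x, rfl⟩), sub_zero]

end Groth.Agent.S9286
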