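import Groth.Statements.S9289
import Groth.Agent.H05EGA4.GRingPoly

set_option autoImplicit false
universe u
open CAlg

namespace Groth.Agent.S9289

/-- Let R and R' be Noetherian rings with R' of finite type over R and quasi-finite at the prime p' of
R', lying over p. If R_p has geometrically regular formal fibres, so does R'_{p'}; stated as: if the
completion map of R_p is regular, so is that of R'_{p'}. -/
theorem result (R R' : Type u) [CommRing R]
    [CommRing R'] [IsNoetherianRing R] [IsNoetherianRing R'] [Algebra R R'] [Algebra.FiniteType R R']
    (p' : Ideal R') [p'.IsPrime] [Algebra.QuasiFiniteAt R p']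
    (h : CAlg.IsRegularHom (Localization.AtPrime (Ideal.comap (algebraMap R R') p'))
      (AdicCompletion (IsLocalRing.maximalIdeal (Localization.AtPrime (Ideal.comap (algebraMap R R') p')))
        (Localization.AtPrime (Ideal.comap (algebraMap R R') p')))) :
    CAlg.IsRegularHom (Localization.AtPrime p')
      (AdicCompletion (IsLocalRing.maximalIdeal (Localization.AtPrime p')) (Localization.AtPrime p')) := by
  let p := p'.comap (algebraMap R R')
  haveI : p'.LiesOver p := ⟨rfl⟩
  let A := Localization.AtPrime p
  let B := Localization.AtPrime p'
  haveI : IsNoetherianRing A := IsLocalization.isNoetherianRing p.primeCompl _ inferInstance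
  haveI : IsNoetherianRing B := IsLocalization.isNoetherianRing p'.primeCompl _ inferInstance
  letI := Localization.AtPrime.algebraOfLiesOver p p'
  haveI : Algebra.EssFiniteType R' B := Algebra.EssFiniteType.of_isLocalization B p'.primeCompl
  haveI : Algebra.EssFiniteType R B := Algebra.EssFiniteType.comp R R' B
  haveI : Algebra.EssFiniteType A B := Algebra.EssFiniteType.of_comp R A B
  haveI := H05EGA4.isNoetherianRing_cpl B
  exact H05EGA4.isRegularHom_iff_grsHom.mpr
    ((H05EGA4.grsHom_of_isRegularHom h).cpl_essFiniteType B)

end Groth.Agent.S9289
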