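import Groth.Statements.S9290
import Groth.Agent.H05EGA4.GRing
import Groth.Agent.H05EGA4.FormalFibres
import Mathlib.RingTheory.ZariskisMainTheorem

set_option autoImplicit false
universe u
open CAlg

namespace Groth.Agent.S9290

set_option maxHeartbeats 800000
set_option synthInstance.maxHeartbeats 200000
section
open TensorProduct IsLocalRing

variable {R R' : Type u} [CommRing R] [CommRing R'] [Algebra R R']

/-- A finite subalgebra with the same local ring (Zariski's main theorem). -/
lemma isLocalization_atPrime_subalgebra (S' : Subalgebra R R') (r : S') (p' : Ideal R') [p'.IsPrime]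
    (hr : (r : R') ∉ p') (hbij : Function.Bijective (Localization.awayMap S'.val.toRingHom r)) :
    IsLocalization.AtPrime (Localization.AtPrime p') (p'.comap (algebraMap S' R')) := by
  let B := Localization.AtPrime p'
  have hpow : ∀ t : R', ∃ N : ℕ, (r : R') ^ N * t ∈ S' := by
    intro t
    obtain ⟨y, hy⟩ := hbij.2 (algebraMap R' _ t)
    obtain ⟨a, ⟨_, n, rfl⟩, rfl⟩ := IsLocalization.exists_mk'_eq (Submonoid.powers r) y
    rw [Localization.awayMap, IsLocalization.Away.map, IsLocalization.map_mk',
      IsLocalization.mk'_eq_iff_eq_mul, ← map_mul,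
      IsLocalization.eq_iff_exists (Submonoid.powers (S'.val.toRingHom r))] at hy
    obtain ⟨⟨_, k, rfl⟩, hk⟩ := hy
    refine ⟨k + n, ?_⟩
    have h : (r : R') ^ (k + n) * t = (r : R') ^ k * (a : R') := by
      simpa [pow_add, mul_assoc, mul_comm t] using hk.symm
    rw [h]
    exact mul_mem (pow_mem r.2 k) a.2
  rw [IsLocalization.AtPrime, isLocalization_iff]
  refine ⟨fun y => IsLocalization.map_units (M := p'.primeCompl) B ⟨_, y.2⟩, fun z => ?_, fun {a b} hab => ?_⟩
  · obtain ⟨⟨t, u⟩, htu⟩ := IsLocalization.surj p'.primeCompl z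
    obtain ⟨N, hN⟩ := hpow t
    obtain ⟨M, hM⟩ := hpow u
    let b : S' := r ^ N * ⟨_, hM⟩
    have hb : b ∈ (p'.comap (algebraMap S' R')).primeCompl := by
      change ¬ ((r : R') ^ N * ((r : R') ^ M * u) ∈ p')
      exact p'.primeCompl.mul_mem (pow_mem (show (r : R') ∈ p'.primeCompl from hr) N)
        (p'.primeCompl.mul_mem (pow_mem (show (r : R') ∈ p'.primeCompl from hr) M) u.2)
    refine ⟨⟨r ^ M * ⟨_, hN⟩, ⟨b, hb⟩⟩, ?_⟩
    change z * algebraMap R' B ((r : R') ^ N * ((r : R') ^ M * u)) =
      algebraMap R' B ((r : R') ^ M * ((r : R') ^ N * t))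
    simp only [map_mul]
    rw [show algebraMap R' B t = z * algebraMap R' B (u : R') from htu.symm]
    ring
  · obtain ⟨u, hu⟩ := IsLocalization.exists_of_eq (M := p'.primeCompl) (S := B) (x := (a : R')) (y := (b : R')) hab
    obtain ⟨N, hN⟩ := hpow u
    refine ⟨⟨⟨_, hN⟩, p'.primeCompl.mul_mem (pow_mem (show (r : R') ∈ p'.primeCompl from hr) N) u.2⟩, Subtype.ext ?_⟩
    show (r : R') ^ N * u * a = (r : R') ^ N * u * b
    rw [mul_assoc, mul_assoc, hu]

lemma finite_field_of_finite_algebra (K K' : Type u) [Field K] [Field K'] [Algebra K K'] (A : Type u) [CommRing A]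
    [Algebra R A] [Module.Finite R A] [Algebra R K] [Algebra R K'] [IsScalarTower R K K'] [Algebra A K']
    [IsScalarTower R A K'] (hgen : ∀ z : K', ∃ a t : A, z = algebraMap A K' a / algebraMap A K' t) :
    Module.Finite K K' := by
  let g : K ⊗[R] A →ₐ[K] K' := Algebra.TensorProduct.lift (Algebra.ofId K K')
    (IsScalarTower.toAlgHom R A K') fun _ _ => Commute.all _ _
  haveI : Module.Finite K g.range :=
    Module.Finite.of_surjective g.rangeRestrict.toLinearMap g.rangeRestrict_surjective
  haveI : Algebra.IsIntegral K g.range := Algebra.IsIntegral.of_finite K g.range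
  have hfield : IsField g.range := isField_of_isIntegral_of_isField' (R := K) (Field.toIsField K)
  have htop : g.range = ⊤ := by
    refine eq_top_iff.mpr fun z _ => ?_
    obtain ⟨a, t, rfl⟩ := hgen z
    have hmem : ∀ x : A, algebraMap A K' x ∈ g.range := fun x => ⟨1 ⊗ₜ x, by simp [g]⟩
    rcases eq_or_ne (algebraMap A K' t) 0 with h0 | h0
    · rw [h0, div_zero]; exact zero_mem _
    · obtain ⟨w, hw⟩ := hfield.mul_inv_cancel (a := (⟨_, hmem t⟩ : g.range)) (fun e => h0 (congrArg Subtype.val e))
      have hw' : algebraMap A K' t * (w : K') = 1 := congrArg Subtype.val hw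
      rw [div_eq_mul_inv, inv_eq_of_mul_eq_one_right hw']
      exact mul_mem (hmem a) w.2
  exact Module.Finite.of_surjective g.toLinearMap fun z => by
    obtain ⟨x, hx⟩ := htop.ge (Algebra.mem_top (R := K) (x := z)); exact ⟨x, hx⟩

theorem transfer_fibre [IsNoetherianRing R] (A B : Type u) [CommRing A] [Algebra R A] [Module.Finite R A]
    (pb : Ideal A) [pb.IsPrime] [CommRing B] [IsLocalRing B] [IsNoetherianRing B] [Algebra A B] [Algebra R B]
    [IsScalarTower R A B] [IsLocalization.AtPrime B pb] (p : Ideal R) [p.IsPrime] (hp : pb.comap (algebraMap R A) = p)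
    (Q' : Ideal B) [Q'.IsPrime] (Q : Ideal (Localization.AtPrime p)) [Q.IsPrime]
    (hQ : Q.comap (algebraMap R (Localization.AtPrime p)) = Q'.comap (algebraMap R B))
    (h : CAlg.IsGeometricallyRegular Q.ResidueField (EGA4.formalFibre (Localization.AtPrime p) Q)) :
    CAlg.IsGeometricallyRegular Q'.ResidueField (EGA4.formalFibre B Q') := by
  let S := Localization.AtPrime p
  let Sh := EGA4.Cpl S
  let C := EGA4.Cpl B
  haveI : IsNoetherianRing C := H05EGA4.isNoetherianRing_cpl B
  haveI : IsNoetherianRing A := IsNoetherianRing.of_finite R A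
  haveI : IsAdicComplete (maximalIdeal C) C := by
    rw [AdicCompletion.maximalIdeal_eq_map]
    exact AdicCompletion.isAdicComplete_self _ (IsNoetherian.noetherian _)
  haveI : Module.FaithfullyFlat B C := H05EGA4.faithfullyFlat_cpl B
  intro L _ _ hfinL
  -- the map from the local ring at `p`
  letI : Algebra B L := ((algebraMap Q'.ResidueField L).comp (algebraMap B Q'.ResidueField)).toAlgebra
  haveI : IsScalarTower B Q'.ResidueField L := IsScalarTower.of_algebraMap_eq fun _ => rfl
  letI : Algebra A L := ((algebraMap B L).comp (algebraMap A B)).toAlgebra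
  haveI : IsScalarTower A B L := IsScalarTower.of_algebraMap_eq fun _ => rfl
  letI : Algebra R L := ((algebraMap B L).comp (algebraMap R B)).toAlgebra
  haveI : IsScalarTower R B L := IsScalarTower.of_algebraMap_eq fun _ => rfl
  haveI : IsScalarTower R A L := IsScalarTower.of_algebraMap_eq fun x => by
    show algebraMap B L (algebraMap R B x) = algebraMap B L (algebraMap A B (algebraMap R A x))
    rw [← IsScalarTower.algebraMap_apply R A B]
  let j : S →+* B := IsLocalization.lift (M := p.primeCompl) (g := algebraMap R B) fun y => by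
    rw [IsScalarTower.algebraMap_apply R A B]
    exact IsLocalization.map_units B (⟨algebraMap R A y.1, fun hy => y.2 (hp.le (Ideal.mem_comap.mpr hy))⟩ : pb.primeCompl)
  have hj : j.comp (algebraMap R S) = algebraMap R B := IsLocalization.lift_comp _
  have hjQ : Q'.comap j = Q := by
    rw [← IsLocalization.map_under p.primeCompl S (Q'.comap j), ← IsLocalization.map_under p.primeCompl S Q]
    congr 1
    show (Q'.comap j).comap (algebraMap R S) = Q.comap (algebraMap R S)
    rw [Ideal.comap_comap, hj, hQ]
  letI : Algebra S L := ((algebraMap B L).comp j).toAlgebra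
  haveI : IsScalarTower R S L := IsScalarTower.of_algebraMap_eq fun x => by
    show algebraMap B L (algebraMap R B x) = algebraMap B L (j (algebraMap R S x))
    rw [← RingHom.comp_apply j, hj]
  let κ : Q.ResidueField →+* Q'.ResidueField :=
    Ideal.ResidueField.map Q Q' j hjQ.symm
  letI : Algebra Q.ResidueField Q'.ResidueField := κ.toAlgebra
  letI : Algebra Q.ResidueField L := ((algebraMap Q'.ResidueField L).comp κ).toAlgebra
  haveI : IsScalarTower Q.ResidueField Q'.ResidueField L := IsScalarTower.of_algebraMap_eq fun _ => rfl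
  have hκ : ∀ s : S, κ (algebraMap S Q.ResidueField s) = algebraMap B Q'.ResidueField (j s) := fun s =>
    Ideal.ResidueField.map_algebraMap Q Q' j hjQ.symm s
  haveI : IsScalarTower S Q.ResidueField L := IsScalarTower.of_algebraMap_eq fun s => by
    show algebraMap Q'.ResidueField L (algebraMap B Q'.ResidueField (j s)) =
      algebraMap Q'.ResidueField L (κ (algebraMap S Q.ResidueField s))
    rw [hκ]
  haveI : Module.Finite Q.ResidueField Q'.ResidueField := by
    letI : Algebra R Q.ResidueField := ((algebraMap S Q.ResidueField).comp (algebraMap R S)).toAlgebra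
    letI : Algebra A Q'.ResidueField := ((algebraMap B Q'.ResidueField).comp (algebraMap A B)).toAlgebra
    letI : Algebra R Q'.ResidueField := ((algebraMap B Q'.ResidueField).comp (algebraMap R B)).toAlgebra
    haveI : IsScalarTower R Q.ResidueField Q'.ResidueField := IsScalarTower.of_algebraMap_eq fun x => by
      show algebraMap B Q'.ResidueField (algebraMap R B x) = κ (algebraMap S Q.ResidueField (algebraMap R S x))
      rw [hκ, ← RingHom.comp_apply j, hj]
    haveI : IsScalarTower R A Q'.ResidueField := IsScalarTower.of_algebraMap_eq fun x => by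
      show algebraMap B Q'.ResidueField (algebraMap R B x) =
        algebraMap B Q'.ResidueField (algebraMap A B (algebraMap R A x))
      rw [← IsScalarTower.algebraMap_apply R A B]
    refine finite_field_of_finite_algebra (R := R) Q.ResidueField Q'.ResidueField A fun z => ?_
    obtain ⟨x, y, -, rfl⟩ := IsFractionRing.div_surjective (B ⧸ Q') z
    obtain ⟨x, rfl⟩ := Ideal.Quotient.mk_surjective x
    obtain ⟨y, rfl⟩ := Ideal.Quotient.mk_surjective y
    obtain ⟨⟨a, s⟩, ha⟩ := IsLocalization.surj pb.primeCompl x
    obtain ⟨⟨c, t⟩, hc⟩ := IsLocalization.surj pb.primeCompl y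
    refine ⟨a * t, c * s, ?_⟩
    have hu : ∀ t : pb.primeCompl, algebraMap B Q'.ResidueField (algebraMap A B t) ≠ 0 := fun t =>
      ((IsLocalization.map_units B t).map _).ne_zero
    show algebraMap B Q'.ResidueField x / algebraMap B Q'.ResidueField y = algebraMap B Q'.ResidueField _ / algebraMap B Q'.ResidueField _
    rw [map_mul (algebraMap A B) a, map_mul (algebraMap A B) c, ← ha,
      show algebraMap A B c = y * algebraMap A B (t : A) from hc.symm]
    simp only [map_mul]
    rw [mul_assoc, mul_assoc, mul_comm (algebraMap B Q'.ResidueField (algebraMap A B (t : A))),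
      mul_div_mul_right _ _ (mul_ne_zero (hu s) (hu t))]
  haveI : Module.Finite Q.ResidueField L := Module.Finite.trans Q'.ResidueField L
  -- regularity over the completion of `S`
  haveI h1 : IsRegularRing (L ⊗[Q.ResidueField] EGA4.formalFibre S Q) := h L inferInstance
  haveI : IsRegularRing (L ⊗[S] Sh) :=
    IsRegularRing.of_ringEquiv (Algebra.TensorProduct.cancelBaseChange S Q.ResidueField L L Sh).toRingEquiv
  haveI : TensorProduct.CompatibleSMul R S L Sh := IsLocalization.tensorProduct_compatibleSMul p.primeCompl S L Sh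
  haveI : IsRegularRing (L ⊗[R] Sh) :=
    IsRegularRing.of_ringEquiv (Algebra.TensorProduct.equivOfCompatibleSMul R S L L Sh).toRingEquiv
  have hmax : pb.map (algebraMap A C) = maximalIdeal C := by
    rw [IsScalarTower.algebraMap_eq A B C, ← Ideal.map_map, IsLocalization.AtPrime.map_eq_maximalIdeal pb B,
      ← AdicCompletion.maximalIdeal_eq_map]
  have hres : ∀ c : C, ∃ a t : A, t ∉ pb ∧ c * algebraMap A C t - algebraMap A C a ∈ maximalIdeal C := by
    intro c
    obtain ⟨b, hb⟩ := Ideal.Quotient.mk_surjective (AdicCompletion.evalOneₐ (maximalIdeal B) c)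
    have hcb : c - algebraMap B C b ∈ maximalIdeal C := by
      rw [AdicCompletion.maximalIdeal_eq_map,
        ← AdicCompletion.ker_evalOneₐ_eq_map (maximalIdeal B) (IsNoetherian.noetherian _), RingHom.mem_ker]
      show AdicCompletion.evalOneₐ (maximalIdeal B) (c - algebraMap B C b) = 0
      rw [map_sub, AlgHom.commutes, ← hb]
      exact sub_self _
    obtain ⟨⟨a, t⟩, ha⟩ := IsLocalization.surj pb.primeCompl b
    refine ⟨a, t, t.2, ?_⟩
    rw [IsScalarTower.algebraMap_apply A B C a, ← ha, map_mul, ← IsScalarTower.algebraMap_apply, ← sub_mul]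
    exact Ideal.mul_mem_right _ _ hcb
  have hJ : ∀ (J : Ideal A) (a : A), algebraMap A C a ∈ J.map (algebraMap A C) → ∃ t ∉ pb, t * a ∈ J := by
    intro J a ha
    rw [IsScalarTower.algebraMap_eq A B C, ← Ideal.map_map, RingHom.comp_apply, ← Ideal.mem_comap,
      Ideal.comap_map_eq_self_of_faithfullyFlat] at ha
    obtain ⟨t, ht, hta⟩ := (IsLocalization.algebraMap_mem_map_algebraMap_iff pb.primeCompl B _ _).mp ha
    exact ⟨t, ht, hta⟩
  haveI : IsRegularRing (L ⊗[A] C) :=
    H05EGA4.isRegularRing_tensor_transfer (R0 := R) p pb C hp hmax hres hJ L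
  haveI : TensorProduct.CompatibleSMul A B L C := IsLocalization.tensorProduct_compatibleSMul pb.primeCompl B L C
  haveI : IsRegularRing (L ⊗[B] C) :=
    IsRegularRing.of_ringEquiv (Algebra.TensorProduct.equivOfCompatibleSMul A B L L C).symm.toRingEquiv
  exact IsRegularRing.of_ringEquiv (Algebra.TensorProduct.cancelBaseChange B Q'.ResidueField L L C).symm.toRingEquiv

end

/-- Let R' be a Noetherian algebra of finite type over the Noetherian ring R, quasi-finite at the prime
p' over p, and let Q' ⊆ R'_{p'} and Q ⊆ R_p be primes with the same contraction to R (that is, a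
prime q' ⊆ p' of R' lying over the prime q ⊆ p of R). If the formal fibre of R_p at Q is
geometrically regular over κ(Q), then the formal fibre of R'_{p'} at Q' is geometrically regular
over κ(Q'). -/
theorem result (R R' : Type u) [CommRing R] [CommRing R']
    [IsNoetherianRing R] [IsNoetherianRing R'] [Algebra R R'] [Algebra.FiniteType R R']
    (p' : Ideal R') [p'.IsPrime] [Algebra.QuasiFiniteAt R p']
    (Q' : Ideal (Localization.AtPrime p')) [Q'.IsPrime]
    (Q : Ideal (Localization.AtPrime (Ideal.comap (algebraMap R R') p'))) [Q.IsPrime]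
    (hQ : Ideal.comap (algebraMap R (Localization.AtPrime (Ideal.comap (algebraMap R R') p'))) Q =
      Ideal.comap (algebraMap R (Localization.AtPrime p')) Q')
    (h : CAlg.IsGeometricallyRegular Q.ResidueField
      (EGA4.formalFibre (Localization.AtPrime (Ideal.comap (algebraMap R R') p')) Q)) :
    CAlg.IsGeometricallyRegular Q'.ResidueField (EGA4.formalFibre (Localization.AtPrime p') Q') := by
  obtain ⟨S', hfg, r, hr, hbij⟩ :=
    Algebra.QuasiFiniteAt.exists_fg_and_exists_notMem_and_awayMap_bijective (R := R) p'
  haveI : Module.Finite R S' := ⟨(Submodule.fg_top _).mpr hfg⟩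
  haveI := isLocalization_atPrime_subalgebra S' r p' hr hbij
  haveI : IsNoetherianRing (Localization.AtPrime p') := IsLocalization.isNoetherianRing p'.primeCompl _ inferInstance
  exact transfer_fibre (R := R) S' (Localization.AtPrime p') (p'.comap (algebraMap S' R'))
    (p'.comap (algebraMap R R')) (by rw [Ideal.comap_comap, ← IsScalarTower.algebraMap_eq]) Q' Q hQ h

end Groth.Agent.S9290
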