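import Groth.Statements.S9291
import Groth.Agent.H9Hens.EtNbhd
-- import your own Groth.Agent.* helpers here

set_option autoImplicit false
universe u
open EtAlg

namespace Groth.Agent.S9291

/-- Let A be a ring, I an ideal and u a unit of A/I. Then there is an étale ring map A → A' such that
A/I → A'/IA' is an isomorphism, together with a unit of A' mapping to the image of u. -/
theorem result (A : Type u) [CommRing A] (I : Ideal A) (u : (A ⧸ I)ˣ) :
    ∃ (A' : Type u) (_ : CommRing A') (_ : Algebra A A'), Algebra.Etale A A' ∧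
      Function.Bijective (Ideal.quotientMap (Ideal.map (algebraMap A A') I) (algebraMap A A')
        Ideal.le_comap_map) ∧
      ∃ u' : A'ˣ, Ideal.Quotient.mk (Ideal.map (algebraMap A A') I) (u' : A') =
        Ideal.quotientMap (Ideal.map (algebraMap A A') I) (algebraMap A A') Ideal.le_comap_map
          (u : A ⧸ I) := by
  obtain ⟨s, hs⟩ := Ideal.Quotient.mk_surjective (u : A ⧸ I)
  obtain ⟨T, _, _, hT, ψ, σT, hbij, -, hψ⟩ := H9Hens.exists_etale_nbhd A (Algebra.ofId A (A ⧸ I)) s
    (by rw [Algebra.ofId_apply, Ideal.Quotient.algebraMap_eq, hs]; exact u.isUnit)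
  refine ⟨T, inferInstance, inferInstance, hT, hbij, hψ.unit, ?_⟩
  have h : ψ s = algebraMap A T s := ψ.commutes s
  rw [IsUnit.unit_spec, ← hs, Ideal.quotientMap_mk, h]

end Groth.Agent.S9291
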