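import Groth.Statements.S9292
import Groth.Agent.H9Hens.EtNbhd
import Mathlib.RingTheory.Etale.Pi
import Mathlib.RingTheory.Idempotents
-- import your own Groth.Agent.* helpers here

set_option autoImplicit false
universe u
open EtAlg

namespace Groth.Agent.S9292

/-- Let A be a ring, I an ideal, and e_1, ..., e_n a complete system of orthogonal idempotents of A/I
(equivalently a finite disjoint open covering of Spec(A/I)). Then one can find an A-algebra A' that
is étale over A, such that the induced map A/I → A'/IA' is bijective, together with a complete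
system of orthogonal idempotents of A' lifting the e_j. -/
theorem result (A : Type u) [CommRing A] (I : Ideal A)
    (n : ℕ) (e : Fin n → A ⧸ I) (he : CompleteOrthogonalIdempotents e) :
    ∃ (A' : Type u) (_ : CommRing A') (_ : Algebra A A'), Algebra.Etale A A' ∧
      Function.Bijective (Ideal.quotientMap (Ideal.map (algebraMap A A') I) (algebraMap A A')
        Ideal.le_comap_map) ∧
      ∃ e' : Fin n → A', CompleteOrthogonalIdempotents e' ∧
        ∀ j, Ideal.Quotient.mk (Ideal.map (algebraMap A A') I) (e' j) =
          Ideal.quotientMap (Ideal.map (algebraMap A A') I) (algebraMap A A') Ideal.le_comap_map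
            (e j) := by
  let σ : (Fin n → A) →ₐ[A] A ⧸ I := AlgHom.ofLinearMap
    { toFun := fun x => ∑ i, algebraMap A (A ⧸ I) (x i) * e i
      map_add' := fun x y => by simp [add_mul, Finset.sum_add_distrib]
      map_smul' := fun a x => by simp [Algebra.smul_def, mul_assoc, Finset.mul_sum] }
    (by simp [he.complete])
    (fun x y => by
      simp only [LinearMap.coe_mk, AddHom.coe_mk, Finset.sum_mul_sum, Pi.mul_apply, map_mul]
      refine Finset.sum_congr rfl fun i _ => ((Finset.sum_eq_single i (fun j _ hj => ?_) (by simp)).trans ?_).symm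
      · rw [mul_mul_mul_comm, he.ortho hj.symm, mul_zero]
      · rw [mul_mul_mul_comm, (he.idem i).eq])
  obtain ⟨T, _, _, hT, ψ, σT, hbij, hcomp, -⟩ :=
    H9Hens.exists_etale_nbhd (Fin n → A) σ 1 (by rw [map_one]; exact isUnit_one)
  refine ⟨T, inferInstance, inferInstance, hT, hbij, _,
    (CompleteOrthogonalIdempotents.single (fun _ : Fin n => A)).map ψ.toRingHom, fun j => ?_⟩
  rw [H9Hens.mk_eq_quotientMap_section hbij.2 σT]
  congr 1
  refine (DFunLike.congr_fun hcomp _).trans ?_
  show ∑ i, algebraMap A (A ⧸ I) ((Pi.single j 1 : Fin n → A) i) * e i = e j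
  simp [Pi.single_apply]

end Groth.Agent.S9292
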