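import Groth.Statements.S9294
import Groth.Agent.H02CA.RegularHom

set_option autoImplicit false
universe u
open CAlg

namespace Groth.Agent.S9294



/-- If A → B and B → C are regular ring maps and every fibre ring of the composite A → C is Noetherian,
the composite is regular. -/
theorem result (A B C : Type u) [CommRing A] [CommRing B] [CommRing C]
    [Algebra A B] [Algebra B C] [Algebra A C] [IsScalarTower A B C]
    (hAB : CAlg.IsRegularHom A B) (hBC : CAlg.IsRegularHom B C)
    (hN : ∀ (p : Ideal A) [p.IsPrime], IsNoetherianRing (p.Fiber C)) :
    CAlg.IsRegularHom A C := by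
  exact Groth.Agent.H02CA.isRegularHom_comp A B C hAB hBC hN

end Groth.Agent.S9294
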