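import Groth.Statements.S9297
import Groth.Agent.H05EGA4.Completion

set_option autoImplicit false
set_option maxHeartbeats 400000
universe u
open EGA4

open IsLocalRing TensorProduct Groth.Agent.H05EGA4

namespace Groth.Agent.S9297

/-- Let A → B be a flat local homomorphism of Noetherian local rings with B catenary and Spec(B)
equidimensional. Then Spec(B/pB) is equidimensional for every prime p of A. -/
theorem result (A B : Type u) [CommRing A] [CommRing B]
    [IsNoetherianRing A] [IsNoetherianRing B] [IsLocalRing A] [IsLocalRing B] [Algebra A B]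
    [IsLocalHom (algebraMap A B)] [Module.Flat A B] (hcat : CAlg.IsCatenary B) (heq : EGA4.IsEquidim B)
    (p : Ideal A) [p.IsPrime] : EGA4.IsEquidim (B ⧸ Ideal.map (algebraMap A B) p) := by
  refine isEquidim_quotient_of_forall _ fun P hP Q hQ => ?_
  have hPp : P.IsPrime := hP.isPrime
  have hQp : Q.IsPrime := hQ.isPrime
  have e1 := height_add_dim_eq_of_isEquidim hcat heq P
  have e2 := height_add_dim_eq_of_isEquidim hcat heq Q
  rw [(liesOver_and_height_eq p hP).2] at e1
  rw [(liesOver_and_height_eq p hQ).2] at e2
  obtain ⟨a, ha⟩ := exists_nat_dim_quotient_eq P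
  obtain ⟨b, hb⟩ := exists_nat_dim_quotient_eq Q
  obtain ⟨h, hh⟩ := exists_nat_height_eq p
  obtain ⟨d, hd⟩ := exists_dim_eq_nat B
  rw [ha, hh, hd] at e1
  rw [hb, hh, hd] at e2
  rw [ha, hb]
  norm_cast at e1 e2
  exact_mod_cast (show a = b by omega)


end Groth.Agent.S9297
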