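import Groth.Statements.S9298
import Groth.Agent.H02CA.Algebraize
import Mathlib.RingTheory.Localization.Away.Basic
import Mathlib.RingTheory.Localization.InvSubmonoid
import Mathlib.RingTheory.Localization.Away.AdjoinRoot
import Mathlib.LinearAlgebra.Charpoly.ToMatrix
import Mathlib.RingTheory.Ideal.Quotient.Operations
import Mathlib.RingTheory.Finiteness.Prod
import Mathlib.RingTheory.Jacobson.Ideal

set_option autoImplicit false
universe u
open CAlg

namespace Groth.Agent.S9298

open Groth.Agent.H02CA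

theorem exists_pow_le {R : Type u} [CommRing R] [IsNoetherianRing R] (Q J : Ideal R) (c : ℕ)
    (h : Q ^ c * J ≤ J ^ 2) : ∃ M : ℕ, Q ^ M ≤ J ⊔ Submodule.annihilator J := by
  refine Ideal.exists_pow_le_of_le_radical_of_fg (fun q hq ↦ ?_) (IsNoetherian.noetherian Q)
  let a := q ^ c
  have ha : a ∈ Q ^ c := Ideal.pow_mem_pow hq c
  let f : J →ₗ[R] J := LinearMap.lsmul R J a
  have hf : LinearMap.range f ≤ J • (⊤ : Submodule R J) := by
    rintro _ ⟨x, rfl⟩
    rw [Submodule.mem_smul_top_iff]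
    have h2 := h (Ideal.mul_mem_mul ha x.2)
    rwa [pow_two] at h2
  obtain ⟨p, hp, -, hpc, hp0⟩ :=
    LinearMap.exists_monic_and_natDegree_eq_and_coeff_mem_pow_and_aeval_eq_zero R f J hf
  have hann : p.eval a ∈ Submodule.annihilator J := Submodule.mem_annihilator.mpr fun x hx ↦ by
    have hf' : f = algebraMap R (Module.End R J) a := LinearMap.ext fun y ↦ rfl
    rw [hf', Polynomial.aeval_algebraMap_apply, Polynomial.coe_aeval_eq_eval] at hp0
    exact congrArg Subtype.val (LinearMap.congr_fun hp0 ⟨x, hx⟩)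
  refine ⟨c * p.natDegree, ?_⟩
  rw [pow_mul]
  have : p.eval a - a ^ p.natDegree ∈ J := by
    rw [Polynomial.eval_eq_sum_range, Finset.sum_range_succ, hp.coeff_natDegree, one_mul,
      add_sub_cancel_right]
    exact sum_mem fun k hk ↦ Ideal.mul_mem_right _ _
      (Ideal.pow_le_self (Nat.sub_ne_zero_of_lt (Finset.mem_range.mp hk)) (hpc k))
  rw [show a ^ p.natDegree = -(p.eval a - a ^ p.natDegree) + p.eval a by ring]
  exact add_mem (Ideal.mem_sup_left (neg_mem this)) (Ideal.mem_sup_right hann)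

theorem prod_mem_map {A C₁ C₂ : Type u} [CommRing A] [CommRing C₁] [CommRing C₂] [Algebra A C₁]
    [Algebra A C₂] (Q : Ideal A) {x : C₁ × C₂} (h₁ : x.1 ∈ Q.map (algebraMap A C₁))
    (h₂ : x.2 ∈ Q.map (algebraMap A C₂)) : x ∈ Q.map (algebraMap A (C₁ × C₂)) := by
  rw [show algebraMap A C₁ = (RingHom.fst C₁ C₂).comp (algebraMap A (C₁ × C₂)) from rfl,
    ← Ideal.map_map, Ideal.mem_map_iff_of_surjective _ Prod.fst_surjective] at h₁
  rw [show algebraMap A C₂ = (RingHom.snd C₁ C₂).comp (algebraMap A (C₁ × C₂)) from rfl,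
    ← Ideal.map_map, Ideal.mem_map_iff_of_surjective _ Prod.snd_surjective] at h₂
  obtain ⟨w₁, hw₁, e₁⟩ := h₁
  obtain ⟨w₂, hw₂, e₂⟩ := h₂
  rw [show x = (1, 0) * w₁ + (0, 1) * w₂ from Prod.ext (by simp [← e₁]) (by simp [← e₂])]
  exact add_mem (Ideal.mul_mem_left _ _ hw₁) (Ideal.mul_mem_left _ _ hw₂)

open Groth.Agent.H02CA.Algebraize in
theorem localization_completion {A D C₁ C₂ : Type u} [CommRing A] [CommRing D] [Algebra A D]
    [CommRing C₁] [CommRing C₂] [Algebra A C₁] [Algebra A C₂] (I : Ideal A) (hI : I.FG)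
    [IsAdicComplete (I.map (algebraMap A C₁)) C₁] (θ : D →ₐ[A] C₁ × C₂)
    (happ : ∀ (n : ℕ) (x : C₁ × C₂), ∃ d, x - θ d ∈ I.map (algebraMap A (C₁ × C₂)) ^ n)
    (hind : ∀ (n : ℕ) (d : D), θ d ∈ I.map (algebraMap A (C₁ × C₂)) ^ n →
      d ∈ I.map (algebraMap A D) ^ n) :
    ∃ (d : D) (e : C₁ ≃+* AdicCompletion (I.map (algebraMap A (Localization.Away d))) (Localization.Away d)),
      ∀ a : A, e (algebraMap A C₁ a) = algebraMap (Localization.Away d) _ (algebraMap A _ a) := by
  obtain ⟨d, hd⟩ := happ 1 (1, 0)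
  rw [pow_one] at hd
  have hfst : ∀ {n : ℕ} {x : C₁ × C₂}, x ∈ I.map (algebraMap A (C₁ × C₂)) ^ n →
      x.1 ∈ I.map (algebraMap A C₁) ^ n := fun {n x} hx ↦ by
    have := Ideal.mem_map_of_mem (RingHom.fst C₁ C₂) hx
    rwa [Ideal.map_pow, Ideal.map_map] at this
  have hsnd : (θ d).2 ∈ I.map (algebraMap A C₂) := by
    have := Ideal.mem_map_of_mem (RingHom.snd C₁ C₂) hd
    rw [Ideal.map_map] at this
    have h2 : -(θ d).2 ∈ I.map (algebraMap A C₂) := by
      rw [← zero_sub]
      exact this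
    exact neg_mem_iff.mp h2
  let g₀ : D →ₐ[A] C₁ := (AlgHom.fst A C₁ C₂).comp θ
  have hu : IsUnit (g₀ d) := by
    have h1 : 1 - g₀ d ∈ I.map (algebraMap A C₁) := by
      have := hfst (n := 1) (x := (1, 0) - θ d) (by rwa [pow_one])
      rw [pow_one] at this
      exact this
    have h2 := Ideal.mem_jacobson_bot.mp (IsAdicComplete.le_jacobson_bot _ (neg_mem h1)) 1
    rwa [mul_one, neg_sub, sub_add_cancel] at h2
  have hu' : ∀ y : Submonoid.powers d, IsUnit (g₀ y) := by
    rintro ⟨_, k, rfl⟩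
    change IsUnit (g₀ (d ^ k))
    rw [map_pow]
    exact hu.pow k
  let g : Localization.Away d →ₐ[A] C₁ := IsLocalization.liftAlgHom (M := Submonoid.powers d) hu'
  have hg : ∀ x, g (algebraMap D _ x) = g₀ x := fun x ↦ IsLocalization.lift_eq _ _
  have hmapD : ∀ {n : ℕ} {x : D}, x ∈ I.map (algebraMap A D) ^ n →
      algebraMap D (Localization.Away d) x ∈ I.map (algebraMap A (Localization.Away d)) ^ n :=
    fun {n x} hx ↦ by
      have := Ideal.mem_map_of_mem (algebraMap D (Localization.Away d)) hx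
      rwa [Ideal.map_pow, Ideal.map_map, ← IsScalarTower.algebraMap_eq] at this
  have happ' : ∀ (n : ℕ) (x : C₁), ∃ z, x - g z ∈ I.map (algebraMap A C₁) ^ n := fun n x ↦ by
    obtain ⟨x', hx'⟩ := happ n (x, 0)
    refine ⟨algebraMap D _ x', ?_⟩
    rw [hg]
    exact hfst (x := (x, 0) - θ x') hx'
  have hind' : ∀ (n : ℕ) (z : Localization.Away d), g z ∈ I.map (algebraMap A C₁) ^ n →
      z ∈ I.map (algebraMap A (Localization.Away d)) ^ n := fun n z hz ↦ by
    obtain ⟨⟨x, y⟩, hxy⟩ := IsLocalization.surj (Submonoid.powers d) z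
    have h1 : (θ x).1 ∈ I.map (algebraMap A C₁) ^ n := by
      have := congrArg g hxy
      rw [map_mul, hg, hg] at this
      rw [show (θ x).1 = g₀ x from rfl, ← this]
      exact Ideal.mul_mem_right _ _ hz
    have h2 : θ (d ^ n * x) ∈ I.map (algebraMap A (C₁ × C₂)) ^ n := by
      rw [← Ideal.map_pow]
      refine prod_mem_map _ ?_ ?_
      · rw [Ideal.map_pow, map_mul, Prod.fst_mul]
        exact Ideal.mul_mem_left _ _ h1
      · rw [Ideal.map_pow, map_mul, map_pow, Prod.snd_mul, Prod.pow_snd]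
        exact Ideal.mul_mem_right _ _ (Ideal.pow_mem_pow hsnd n)
    have h3 := hmapD (hind n _ h2)
    rw [map_mul, map_pow, ← hxy, ← mul_assoc, mul_comm, ← mul_assoc] at h3
    have hdu : IsUnit (algebraMap D (Localization.Away d) d) :=
      IsLocalization.map_units (Localization.Away d) ⟨d, Submonoid.mem_powers d⟩
    exact (Ideal.mul_unit_mem_iff_mem _ ((IsLocalization.map_units (Localization.Away d) y).mul
      (hdu.pow n))).mp (by rw [← mul_assoc]; convert! h3 using 1; ring)
  obtain ⟨e, he⟩ := exists_completion_equiv I (hI.map _) g happ' hind'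
  exact ⟨d, e, fun a ↦ by rw [← g.commutes a, he]⟩

open Groth.Agent.H02CA.Algebraize in
theorem main (A : Type u) [CommRing A]
    [IsNoetherianRing A] (I : Ideal A) (B : Type u) [CommRing B] [Algebra A B] [Algebra.FiniteType A B]
    (Bh : Type u) [CommRing Bh] [Algebra A Bh] [Algebra B Bh] [IsScalarTower A B Bh] [IsNoetherianRing Bh]
    (hd : Dense (I.map (algebraMap A B)) Bh) [IsAdicComplete (I.map (algebraMap A Bh)) Bh]
    (J : Ideal Bh) (c : ℕ) (hJ : I.map (algebraMap A Bh) ^ c * J ≤ J ^ 2) :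
    ∃ (D : Type u) (_ : CommRing D) (_ : Algebra A D), Algebra.FiniteType A D ∧
      ∃ e : (Bh ⧸ J) ≃+* AdicCompletion (I.map (algebraMap A D)) D,
        ∀ a : A, e (algebraMap A _ a) = algebraMap D _ (algebraMap A D a) := by
  have : IsNoetherianRing B := Algebra.FiniteType.isNoetherianRing A B
  obtain ⟨M, hM⟩ := exists_pow_le _ J c hJ
  let J' := Submodule.annihilator J
  have hIB : (I.map (algebraMap A B)).map (algebraMap B Bh) = I.map (algebraMap A Bh) := by
    rw [Ideal.map_map, ← IsScalarTower.algebraMap_eq]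
  have hmem : ∀ a ∈ I.map (algebraMap A B) ^ M, algebraMap B Bh a ∈ J ⊔ J' := fun a ha ↦ by
    refine hM ?_
    rw [← hIB, ← Ideal.map_pow]
    exact Ideal.mem_map_of_mem _ ha
  let K : Ideal Bh := J ⊓ J'
  have hK : ∀ x ∈ K, ∀ a ∈ I.map (algebraMap A B) ^ M, a • x = 0 := fun x hx a ha ↦ by
    obtain ⟨j, hj, α, hα, hjα⟩ := Submodule.mem_sup.mp (hmem a ha)
    rw [Algebra.smul_def, ← hjα, add_mul, mul_comm j x,
      show x * j = 0 from Submodule.mem_annihilator.mp hx.2 j hj,
      show α * x = 0 from Submodule.mem_annihilator.mp hα x hx.1, add_zero]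
  let θ₀ : (Bh ⧸ K) →+* (Bh ⧸ J) × (Bh ⧸ J') := Ideal.Quotient.lift K
    ((Ideal.Quotient.mk J).prod (Ideal.Quotient.mk J')) fun x hx ↦
      Prod.ext (Ideal.Quotient.eq_zero_iff_mem.mpr hx.1) (Ideal.Quotient.eq_zero_iff_mem.mpr hx.2)
  letI := θ₀.toAlgebra
  have : IsScalarTower Bh (Bh ⧸ K) ((Bh ⧸ J) × (Bh ⧸ J')) :=
    IsScalarTower.of_algebraMap_eq (R := Bh) (S := Bh ⧸ K) (A := (Bh ⧸ J) × (Bh ⧸ J')) fun x ↦ rfl
  have : IsScalarTower B (Bh ⧸ K) ((Bh ⧸ J) × (Bh ⧸ J')) :=
    IsScalarTower.of_algebraMap_eq (R := B) (S := Bh ⧸ K) (A := (Bh ⧸ J) × (Bh ⧸ J')) fun x ↦ rfl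
  have : Module.Finite (Bh ⧸ K) ((Bh ⧸ J) × (Bh ⧸ J')) :=
    Module.Finite.of_restrictScalars_finite Bh _ _
  have hinj : Function.Injective (algebraMap (Bh ⧸ K) ((Bh ⧸ J) × (Bh ⧸ J'))) := by
    refine (injective_iff_map_eq_zero _).mpr fun x hx ↦ ?_
    obtain ⟨x, rfl⟩ := Ideal.Quotient.mk_surjective x
    exact Ideal.Quotient.eq_zero_iff_mem.mpr ⟨Ideal.Quotient.eq_zero_iff_mem.mp (congrArg Prod.fst hx),
      Ideal.Quotient.eq_zero_iff_mem.mp (congrArg Prod.snd hx)⟩
  have : IsNoetherianRing (Bh ⧸ K) := isNoetherianRing_of_surjective Bh _ (Ideal.Quotient.mk K) Ideal.Quotient.mk_surjective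
  obtain ⟨D, hfin, happ, hind⟩ := (hd.quotient K hK).exists_finite_subalgebra
    ((Bh ⧸ J) × (Bh ⧸ J')) hinj fun x ↦ ⟨M, fun a ha ↦ by
      obtain ⟨u, hu⟩ := Ideal.Quotient.mk_surjective x.1
      obtain ⟨v, hv⟩ := Ideal.Quotient.mk_surjective x.2
      obtain ⟨j, hj, α, hα, hjα⟩ := Submodule.mem_sup.mp (hmem a ha)
      refine ⟨Ideal.Quotient.mk K (α * u + j * v), Prod.ext ?_ ?_⟩
      · change Ideal.Quotient.mk J (α * u + j * v) = a • x.1
        rw [← hu, Algebra.smul_def, IsScalarTower.algebraMap_apply B Bh (Bh ⧸ J), ← hjα,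
          Ideal.Quotient.algebraMap_eq, ← map_mul, Ideal.Quotient.eq]
        rw [show α * u + j * v - (j + α) * u = j * (v - u) by ring]
        exact J.mul_mem_right _ hj
      · change Ideal.Quotient.mk J' (α * u + j * v) = a • x.2
        rw [← hv, Algebra.smul_def, IsScalarTower.algebraMap_apply B Bh (Bh ⧸ J'), ← hjα,
          Ideal.Quotient.algebraMap_eq, ← map_mul, Ideal.Quotient.eq]
        rw [show α * u + j * v - (j + α) * v = α * (u - v) by ring]
        exact J'.mul_mem_right _ hα⟩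
  have : IsAdicComplete (I.map (algebraMap A (Bh ⧸ J))) (Bh ⧸ J) := by
    rw [show I.map (algebraMap A (Bh ⧸ J)) = (I.map (algebraMap A Bh)).map (algebraMap Bh (Bh ⧸ J)) by
      rw [Ideal.map_map, ← IsScalarTower.algebraMap_eq], IsAdicComplete.map_algebraMap_iff]
    exact H24Adic.isAdicComplete_of_finite _
  have hT : (I.map (algebraMap A B)).map (algebraMap B ((Bh ⧸ J) × (Bh ⧸ J'))) =
      I.map (algebraMap A ((Bh ⧸ J) × (Bh ⧸ J'))) := by
    rw [Ideal.map_map, ← IsScalarTower.algebraMap_eq]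
  have hD : (I.map (algebraMap A B)).map (algebraMap B D) = I.map (algebraMap A D) := by
    rw [Ideal.map_map, ← IsScalarTower.algebraMap_eq]
  rw [hT] at happ hind
  rw [hD] at hind
  obtain ⟨d, e, he⟩ := localization_completion I (IsNoetherian.noetherian I)
    (D.val.restrictScalars A) happ hind
  refine ⟨Localization.Away d, inferInstance, inferInstance, ?_, e, he⟩
  have : Algebra.FiniteType A D := Algebra.FiniteType.trans (R := A) (S := B) inferInstance inferInstance
  exact Algebra.FiniteType.trans (R := A) (S := D) inferInstance inferInstance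

/-- Let A be a Noetherian ring, I an ideal, B a finite type A-algebra and B^ its I-adic completion. Let
π be a surjective ring map from B^ to C, with kernel J, and suppose some power I^c (c ≥ 0) kills the
conormal module J/J^2. Then, compatibly with the maps from A, C is isomorphic to the I-adic
completion of some finite type A-algebra. -/
theorem result (A : Type u) [CommRing A]
    [IsNoetherianRing A] (I : Ideal A) (B : Type u) [CommRing B] [Algebra A B] [Algebra.FiniteType A B]
    (C : Type u) [CommRing C]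
    (π : AdicCompletion (Ideal.map (algebraMap A B) I) B →+* C) (hπ : Function.Surjective π) (c : ℕ)
    (hJ : Ideal.map ((algebraMap B (AdicCompletion (Ideal.map (algebraMap A B) I) B)).comp
        (algebraMap A B)) I ^ c * RingHom.ker π ≤ RingHom.ker π ^ 2) :
    ∃ (D : Type u) (_ : CommRing D) (_ : Algebra A D), Algebra.FiniteType A D ∧
      ∃ e : C ≃+* AdicCompletion (Ideal.map (algebraMap A D) I) D,
        ∀ a : A, e (π (algebraMap B _ (algebraMap A B a))) =
          algebraMap D _ (algebraMap A D a) := by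
  have : IsNoetherianRing B := Algebra.FiniteType.isNoetherianRing A B
  have := H24Adic.isNoetherianRing_adicCompletion (I.map (algebraMap A B))
  have hcomp : (algebraMap B (AdicCompletion (I.map (algebraMap A B)) B)).comp (algebraMap A B) =
      algebraMap A (AdicCompletion (I.map (algebraMap A B)) B) :=
    (IsScalarTower.algebraMap_eq A B _).symm
  have hcompl : IsAdicComplete (I.map (algebraMap A (AdicCompletion (I.map (algebraMap A B)) B)))
      (AdicCompletion (I.map (algebraMap A B)) B) := by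
    rw [← hcomp, ← Ideal.map_map]
    exact AdicCompletion.isAdicComplete_self _ (IsNoetherian.noetherian _)
  obtain ⟨D, i₁, i₂, hft, e, he⟩ := main A I B _ (Algebraize.dense_completion _) (RingHom.ker π) c
    (by rw [← hcomp]; exact hJ)
  refine ⟨D, i₁, i₂, hft, (RingHom.quotientKerEquivOfSurjective hπ).symm.trans e, fun a ↦ ?_⟩
  rw [RingEquiv.trans_apply, show (RingHom.quotientKerEquivOfSurjective hπ).symm
    (π (algebraMap B _ (algebraMap A B a))) = Ideal.Quotient.mk (RingHom.ker π)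
      (algebraMap B _ (algebraMap A B a)) from (RingEquiv.symm_apply_eq _).mpr rfl]
  exact he a

end Groth.Agent.S9298
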