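import Groth.Statements.S9299
import Groth.Agent.H05EGA4.GRingPoly
import Groth.Agent.H05EGA4.FiniteDomains
import Groth.Agent.H05EGA4.Rk
import Groth.Agent.S9126

set_option autoImplicit false
set_option linter.style.haveILetI false
set_option maxHeartbeats 800000
set_option synthInstance.maxHeartbeats 100000
universe u
open CAlg

open IsLocalRing TensorProduct Groth.Agent Groth.Agent.H05EGA4

namespace Groth.Agent.S9299

/-- Let k be a field of characteristic p, A = k[[x_1, ..., x_n]][y_1, ..., y_m] with fraction field K,
and P a prime of A. Then A_P^ ⊗_A K, the generic formal fibre of the local ring A_P, is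
geometrically regular over K. (The ring A is a domain; this is recorded as an instance hypothesis.) -/
theorem result (p : ℕ) [Fact p.Prime]
    (k : Type u) [Field k] [CharP k p] (n m : ℕ)
    [IsDomain (MvPolynomial (Fin m) (MvPowerSeries (Fin n) k))]
    (P : Ideal (MvPolynomial (Fin m) (MvPowerSeries (Fin n) k))) [P.IsPrime] :
    CAlg.IsGeometricallyRegular (@Ideal.ResidueField (Localization.AtPrime P) _ ⊥ _)
      (EGA4.formalFibre (Localization.AtPrime P) (⊥ : Ideal (Localization.AtPrime P))) := by
  haveI : IsAdicComplete (maximalIdeal (MvPowerSeries (Fin n) k)) (MvPowerSeries (Fin n) k) := by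
    haveI : IsAdicComplete (maximalIdeal k) k := by
      rw [(IsLocalRing.isField_iff_maximalIdeal_eq.mp (Field.toIsField k) : maximalIdeal k = ⊥)]
      infer_instance
    exact H24Art.isAdicComplete_mvPowerSeries
  exact (((isGRing_of_finiteType (isGRing_of_isAdicComplete (MvPowerSeries (Fin n) k))).2 P).2 ⊥).2


end Groth.Agent.S9299
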