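import Groth.Statements.S9300

set_option autoImplicit false
universe u
open CAlg

namespace Groth.Agent.S9300

/-- Let A and B be domains and A → B a ring map for which the generic point of Spec(A) has a unique
preimage in Spec(B). Then every nonzero ideal of B has nonzero preimage in A. -/
theorem result (A B : Type u) [CommRing A] [IsDomain A]
    [CommRing B] [IsDomain B] (φ : A →+* B)
    (h : ∃! q : PrimeSpectrum B, Ideal.comap φ q.asIdeal = ⊥) (J : Ideal B) (hJ : J ≠ ⊥) :
    Ideal.comap φ J ≠ ⊥ := by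
  obtain ⟨q, hq, huniq⟩ := h
  have hker : RingHom.ker φ = ⊥ := by
    rw [eq_bot_iff, ← hq]
    exact Ideal.comap_mono bot_le
  intro hJc
  have hd : Disjoint (J : Set B) ↑((nonZeroDivisors A).map φ) := by
    rw [Set.disjoint_left]
    rintro _ hx ⟨a, ha, rfl⟩
    have : a ∈ Ideal.comap φ J := hx
    rw [hJc, Ideal.mem_bot] at this
    exact nonZeroDivisors.ne_zero ha this
  obtain ⟨r, hr, hJr, hdisj⟩ := Ideal.exists_le_prime_disjoint _ _ hd
  have hrc : Ideal.comap φ r = ⊥ := by
    rw [eq_bot_iff]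
    intro a ha
    by_contra hne
    exact Set.disjoint_left.mp hdisj ha ⟨a, mem_nonZeroDivisors_of_ne_zero hne, rfl⟩
  have h1 : (⟨r, hr⟩ : PrimeSpectrum B) = q := huniq _ hrc
  have h2 : (⟨⊥, Ideal.isPrime_bot⟩ : PrimeSpectrum B) = q := huniq _ hker
  have h3 : r = ⊥ := congr_arg PrimeSpectrum.asIdeal (h1.trans h2.symm)
  exact hJ (eq_bot_iff.mpr (h3 ▸ hJr))

end Groth.Agent.S9300
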