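import Groth.Statements.S9301
import Mathlib.RingTheory.QuasiFinite.Basic
import Mathlib.RingTheory.Flat.Basic
import Mathlib.RingTheory.Localization.FractionRing
import Mathlib.RingTheory.IntegralClosure.Algebra.Basic
import Mathlib.RingTheory.TensorProduct.Maps
import Mathlib.RingTheory.Flat.TorsionFree

set_option autoImplicit false
universe u
open CAlg

namespace Groth.Agent.S9301

theorem comap_ne_bot {A B : Type u} [CommRing A] [IsDomain A] [CommRing B] [IsDomain B] [Algebra A B]
    (J : Ideal B) (b : B) (hb : b ∈ J) (hb0 : b ≠ 0) (halg : IsAlgebraic A b) :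
    Ideal.comap (algebraMap A B) J ≠ ⊥ :=
  Ideal.comap_ne_bot_of_algebraic_mem hb0 hb halg

/-- Let A and B be domains and A → B a flat ring map which is the localization of a quasi-finite ring
map A → B₀ (of finite type with finite fibres). Then every nonzero ideal of B has nonzero preimage
in A. -/
theorem result (A B₀ B : Type u) [CommRing A] [IsDomain A]
    [CommRing B₀] [CommRing B] [IsDomain B] [Algebra A B₀] [Algebra.FiniteType A B₀]
    [Algebra.QuasiFinite A B₀] (S : Submonoid B₀) [Algebra B₀ B] [IsLocalization S B] [Algebra A B]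
    [IsScalarTower A B₀ B] [Module.Flat A B] (J : Ideal B) (hJ : J ≠ ⊥) :
    Ideal.comap (algebraMap A B) J ≠ ⊥ := by
  obtain ⟨b, hb, hb0⟩ := Submodule.exists_mem_ne_zero_of_ne_bot hJ
  obtain ⟨⟨b₀, s⟩, hbs⟩ := IsLocalization.surj S b
  have hmem : algebraMap B₀ B b₀ ∈ J := hbs ▸ J.mul_mem_right _ hb
  have hne : algebraMap B₀ B b₀ ≠ 0 := by
    rw [← hbs]
    exact mul_ne_zero hb0 (IsLocalization.map_units B s).ne_zero
  refine comap_ne_bot J _ hmem hne ?_
  have hinj : Function.Injective (algebraMap A B) := by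
    rw [injective_iff_map_eq_zero]
    intro a ha
    by_contra h
    exact one_ne_zero ((Module.isTorsionFree_iff_smul_eq_zero.mp
      (inferInstance : Module.IsTorsionFree A B) a (1 : B) (by rw [Algebra.smul_def, ha, zero_mul])).resolve_left h)
  let L := FractionRing B
  haveI : (⊥ : Ideal A).IsPrime := Ideal.isPrime_bot
  have hAL : Function.Injective (algebraMap A L) := by
    rw [IsScalarTower.algebraMap_eq A B L]
    exact (IsFractionRing.injective B L).comp hinj
  let g : (⊥ : Ideal A).ResidueField →+* L := Ideal.ResidueField.lift ⊥ (algebraMap A L) bot_le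
    fun x hx => isUnit_iff_ne_zero.mpr fun h => hx (hAL (h.trans (map_zero _).symm))
  letI : Algebra (⊥ : Ideal A).ResidueField L := g.toAlgebra
  haveI : IsScalarTower A (⊥ : Ideal A).ResidueField L :=
    IsScalarTower.of_algebraMap_eq fun a => (Ideal.ResidueField.lift_algebraMap _ _ _ _ a).symm
  let F : (⊥ : Ideal A).Fiber B₀ →ₐ[(⊥ : Ideal A).ResidueField] L :=
    Algebra.TensorProduct.lift (Algebra.ofId _ L)
      ((IsScalarTower.toAlgHom A B L).comp (IsScalarTower.toAlgHom A B₀ B)) fun _ _ => Commute.all _ _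
  have h1 : IsIntegral (⊥ : Ideal A).ResidueField (algebraMap B L (algebraMap B₀ B b₀)) := by
    have : algebraMap B L (algebraMap B₀ B b₀) = F (1 ⊗ₜ b₀) := by simp [F]
    rw [this]
    exact (IsIntegral.of_finite _ _).map F
  have h2 : IsAlgebraic A (algebraMap B L (algebraMap B₀ B b₀)) := by
    haveI : Algebra.IsAlgebraic A (⊥ : Ideal A).ResidueField :=
      ⟨fun x => by
        obtain ⟨⟨a, c⟩, hac⟩ := IsLocalization.surj (nonZeroDivisors (A ⧸ (⊥ : Ideal A))) x
        obtain ⟨a, rfl⟩ := Ideal.Quotient.mk_surjective a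
        obtain ⟨c', hc'⟩ := Ideal.Quotient.mk_surjective (c : A ⧸ (⊥ : Ideal A))
        refine ⟨Polynomial.C c' * Polynomial.X - Polynomial.C a, fun h => ?_, ?_⟩
        · have h3 := congrArg (fun p : Polynomial A => p.coeff 1) h
          simp only [Polynomial.coeff_sub, Polynomial.coeff_C_mul, Polynomial.coeff_X_one, mul_one,
            Polynomial.coeff_C_succ, sub_zero, Polynomial.coeff_zero] at h3
          refine nonZeroDivisors.ne_zero c.2 ?_
          rw [← hc', h3, map_zero]
        · rw [map_sub, map_mul, Polynomial.aeval_C, Polynomial.aeval_X, Polynomial.aeval_C,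
            IsScalarTower.algebraMap_apply A (A ⧸ (⊥ : Ideal A)) (⊥ : Ideal A).ResidueField c',
            IsScalarTower.algebraMap_apply A (A ⧸ (⊥ : Ideal A)) (⊥ : Ideal A).ResidueField a,
            Ideal.Quotient.algebraMap_eq, hc', ← hac, mul_comm, sub_self]⟩
    exact h1.isAlgebraic.restrictScalars A
  exact (isAlgebraic_algebraMap_iff (IsFractionRing.injective B L)).mp h2

end Groth.Agent.S9301
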