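import Groth.Statements.S9302
import Groth.Agent.H9Hens.Limits
import Mathlib.CategoryTheory.Limits.Types.Limits
import Mathlib.Algebra.Category.Ring.Limits
-- import your own Groth.Agent.* helpers here

set_option autoImplicit false
universe u
open CategoryTheory
open EtAlg

namespace Groth.Agent.S9302

open CategoryTheory

/-- Henselian pairs are preserved under limits: for an inverse system (A_j, I_j) of henselian pairs over
a preordered set J, the limit A = lim A_j with the ideal I = lim I_j (elements all of whose
projections lie in the I_j) is a henselian pair. -/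
theorem result (J : Type u) [Preorder J] (F : J ⥤ CommRingCat.{u})
    (I : ∀ j : J, Ideal (F.obj j))
    (hI : ∀ (i j : J) (φ : i ⟶ j), Ideal.map (F.map φ).hom (I i) ≤ I j)
    (h : ∀ j : J, HenselianRing (F.obj j) (I j)) :
    HenselianRing ((Limits.limit F : CommRingCat.{u}) : Type u)
      (⨅ j : J, Ideal.comap (Limits.limit.π F j).hom (I j)) := by
  let P := fun j => (Limits.limit.π F j).hom
  have hc : ∀ {i j : J} (φ : i ⟶ j), (F.map φ).hom.comp (P i) = P j := fun φ => by
    rw [← CommRingCat.hom_comp, Limits.limit.w]
  let e := Limits.Types.isLimitEquivSections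
    (Limits.isLimitOfPreserves (forget CommRingCat.{u}) (Limits.limit.isLimit F))
  exact H9Hens.henselianRing_of_components P I h (fun e : Σ i j : J, (i ⟶ j) => e.1)
    (fun e => e.2.1) (fun e => (F.map e.2.2).hom) (fun e => hI _ _ e.2.2) (fun e => hc e.2.2)
    (fun a b hab => e.injective (Subtype.ext (funext fun j => hab j)))
    (fun x hx => ⟨e.symm ⟨x, fun {i j} φ => hx ⟨i, j, φ⟩⟩, fun j => congrFun
      (congrArg Subtype.val (e.apply_symm_apply ⟨x, fun {i j} φ => hx ⟨i, j, φ⟩⟩)) j⟩)

end Groth.Agent.S9302
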