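import Groth.Statements.S9303
import Mathlib.RingTheory.Localization.BaseChange
import Mathlib.RingTheory.Idempotents

set_option autoImplicit false
universe u
open CAlg

namespace Groth.Agent.S9303

variable {A C : Type u} [CommRing A] [CommRing C] [Algebra A C] {f : A} {e : Localization.Away f}

theorem exists_pow_of_zero (he : IsIdempotentElem e)
    (hl : IsLocalization.Away e (Localization (Algebra.algebraMapSubmonoid C (Submonoid.powers f)))) {b : A} {m : ℕ}
    (hb : algebraMap A C (f ^ m * b) = 0) : algebraMap A (Localization.Away f) b * e = 0 := by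
  haveI := hl
  have h0 : algebraMap (Localization.Away f) (Localization (Algebra.algebraMapSubmonoid C (Submonoid.powers f)))
      (algebraMap A _ b) = 0 := by
    rw [← IsScalarTower.algebraMap_apply, IsScalarTower.algebraMap_apply A C]
    refine (IsLocalization.map_eq_zero_iff (Algebra.algebraMapSubmonoid C (Submonoid.powers f)) _ _).mpr
      ⟨⟨algebraMap A C (f ^ m), Algebra.mem_algebraMapSubmonoid_of_mem (⟨f ^ m, m, rfl⟩ : Submonoid.powers f)⟩, ?_⟩
    rw [← map_mul]; exact hb
  obtain ⟨⟨_, n, rfl⟩, hn⟩ := (IsLocalization.map_eq_zero_iff (Submonoid.powers e) _ _).mp h0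
  rcases n with _ | n
  · simp only [pow_zero, one_mul] at hn; rw [hn, zero_mul]
  · rw [mul_comm, ← he.pow_succ_eq n]; exact hn

theorem algebraMap_idem (he : IsIdempotentElem e)
    (hl : IsLocalization.Away e (Localization (Algebra.algebraMapSubmonoid C (Submonoid.powers f)))) :
    algebraMap (Localization.Away f) (Localization (Algebra.algebraMapSubmonoid C (Submonoid.powers f))) e = 1 := by
  haveI := hl
  exact IsIdempotentElem.iff_eq_one_of_isUnit (IsLocalization.Away.algebraMap_isUnit e) |>.mp (he.map _)

theorem away_surjective (he : IsIdempotentElem e)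
    (hl : IsLocalization.Away e (Localization (Algebra.algebraMapSubmonoid C (Submonoid.powers f)))) :
    Function.Surjective (algebraMap (Localization.Away f) (Localization (Algebra.algebraMapSubmonoid C (Submonoid.powers f)))) := by
  haveI := hl
  intro z
  obtain ⟨n, r, hr⟩ := IsLocalization.Away.surj e z
  exact ⟨r, by rw [← hr, algebraMap_idem he hl, one_pow, mul_one]⟩

theorem pow_mul_zero_of_map_zero {b : A} (hb : algebraMap A (Localization.Away f) b = 0) : ∃ m, f ^ m * b = 0 := by
  obtain ⟨⟨_, m, rfl⟩, hm⟩ := (IsLocalization.map_eq_zero_iff (Submonoid.powers f) _ _).mp hb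
  exact ⟨m, hm⟩

end Groth.Agent.S9303

namespace Groth.Agent.S9303

/-- Let A be a ring, I a finitely generated ideal and A → C a ring map such that for every f ∈ I the map
A_f → C_f is the localization of A_f at an idempotent. Then there is a surjection A → C' (C' = A/K
for an ideal K) such that A_f → (C × C')_f is an isomorphism for every f ∈ I. -/
theorem result (A : Type u) [CommRing A]
    (I : Ideal A) (hI : I.FG) (C : Type u) [CommRing C] [Algebra A C]
    (h : ∀ f ∈ I, ∃ e : Localization.Away f, IsIdempotentElem e ∧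
      IsLocalization.Away e (Localization (Algebra.algebraMapSubmonoid C (Submonoid.powers f)))) :
    ∃ K : Ideal A, ∀ f ∈ I, Function.Bijective
      (algebraMap (Localization.Away f)
        (Localization (Algebra.algebraMapSubmonoid (C × (A ⧸ K)) (Submonoid.powers f)))) := by
  classical
  choose e he hl using h
  obtain ⟨s, hs⟩ := hI
  have hsI : ∀ g ∈ s, g ∈ I := fun g hg => hs ▸ Submodule.subset_span hg
  -- numerators of `1 - e` and of `e`
  have hnum : ∀ f (hf : f ∈ I), ∃ (i m : ℕ) (d : A),
      e f hf * algebraMap A (Localization.Away f) (f ^ i) = algebraMap A _ d ∧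
      algebraMap A C (f ^ m * (f ^ i - d)) = 0 := fun f hf => by
    obtain ⟨i, d, hd⟩ := IsLocalization.Away.surj f (e f hf)
    rw [← map_pow] at hd
    have h0 : algebraMap C (Localization (Algebra.algebraMapSubmonoid C (Submonoid.powers f)))
        (algebraMap A C (f ^ i - d)) = 0 := by
      rw [← IsScalarTower.algebraMap_apply, IsScalarTower.algebraMap_apply A (Localization.Away f),
        map_sub, ← hd, map_sub, map_mul, algebraMap_idem (he f hf) (hl f hf), one_mul, sub_self]
    obtain ⟨⟨_, a, ⟨m, rfl⟩, rfl⟩, hm⟩ :=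
      (IsLocalization.map_eq_zero_iff (Algebra.algebraMapSubmonoid C (Submonoid.powers f)) _ _).mp h0
    refine ⟨i, m, d, hd, ?_⟩
    rw [map_mul]; exact hm
  choose i m d hd hm using hnum
  let P : A → Prop := fun a => ∀ g (hg : g ∈ s), algebraMap A (Localization.Away g) (a * (g ^ i g (hsI g hg) - d g (hsI g hg))) = 0
  let K : Ideal A :=
    { carrier := {a | P a}
      add_mem' := fun ha hb g hg => by rw [add_mul, map_add, ha g hg, hb g hg, add_zero]
      zero_mem' := fun g hg => by rw [zero_mul, map_zero]
      smul_mem' := fun c a ha g hg => by rw [smul_eq_mul, mul_assoc, map_mul, ha g hg, mul_zero] }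
  refine ⟨K, fun f hf => ?_⟩
  -- elements of `K` lie in `(e)` after localizing at `f`
  have hK1 : ∀ a ∈ K, algebraMap A (Localization.Away f) a * (1 - e f hf) = 0 := by
    intro a ha
    have key : ∀ g (hg : g ∈ s), ∃ n, g ^ n * (a * (f ^ m f hf * (f ^ i f hf - d f hf))) = 0 := fun g hg => by
      refine pow_mul_zero_of_map_zero ?_
      have h1 := exists_pow_of_zero (he g (hsI g hg)) (hl g (hsI g hg)) (m := 0)
        (b := f ^ m f hf * (f ^ i f hf - d f hf)) (by rw [pow_zero, one_mul]; exact hm f hf)
      have h2 : algebraMap A (Localization.Away g) a * (1 - e g (hsI g hg)) = 0 := by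
        refine (IsUnit.mul_left_eq_zero ((IsLocalization.Away.algebraMap_isUnit g).pow (i g (hsI g hg)))).mp ?_
        rw [mul_assoc, sub_mul, one_mul, ← map_pow, hd, ← map_sub, ← map_mul]
        exact ha g hg
      rw [map_mul]
      linear_combination (algebraMap A (Localization.Away g) (f ^ m f hf * (f ^ i f hf - d f hf))) * h2 +
        algebraMap A (Localization.Away g) a * h1
    choose n hn using key
    let N := s.attach.sup fun g => n g.1 g.2
    let z := a * (f ^ m f hf * (f ^ i f hf - d f hf))
    let Ann : Ideal A := LinearMap.ker (LinearMap.toSpanSingleton A A z)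
    have hann : ∀ g ∈ s, g ∈ Ann.radical := fun g hg =>
      ⟨n g hg, LinearMap.mem_ker.mpr (by rw [LinearMap.toSpanSingleton_apply]; exact hn g hg)⟩
    have hfr : f ∈ Ann.radical :=
      (Ideal.span_le.mpr hann) (hs.symm ▸ hf)
    obtain ⟨M, hM⟩ := hfr
    have hM' : f ^ M * z = 0 := by simpa using LinearMap.mem_ker.mp hM
    have h3 : algebraMap A (Localization.Away f) (f ^ M * z) = 0 := by rw [hM', map_zero]
    refine (IsUnit.mul_left_eq_zero ((IsLocalization.Away.algebraMap_isUnit f).pow (M + m f hf + i f hf))).mp ?_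
    rw [← h3]
    simp only [z, map_mul, map_sub, map_pow, ← hd f hf]
    ring
  -- elements of `(e)` multiply into `K`
  have hK2 : ∀ x : A, algebraMap A (Localization.Away f) x * (1 - e f hf) = 0 → ∃ M, f ^ M * x ∈ K := by
    intro x hx
    have key : ∀ g (hg : g ∈ s), ∃ n, f ^ n * (x * (g ^ m g (hsI g hg) * (g ^ i g (hsI g hg) - d g (hsI g hg)))) = 0 := fun g hg => by
      refine pow_mul_zero_of_map_zero ?_
      have h1 := exists_pow_of_zero (he f hf) (hl f hf) (m := 0)
        (b := g ^ m g (hsI g hg) * (g ^ i g (hsI g hg) - d g (hsI g hg))) (by rw [pow_zero, one_mul]; exact hm g (hsI g hg))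
      rw [map_mul]
      linear_combination (algebraMap A (Localization.Away f) (g ^ m g (hsI g hg) * (g ^ i g (hsI g hg) - d g (hsI g hg)))) * hx +
        algebraMap A (Localization.Away f) x * h1
    choose n hn using key
    refine ⟨s.attach.sup fun g => n g.1 g.2, fun g hg => ?_⟩
    refine (IsUnit.mul_left_eq_zero ((IsLocalization.Away.algebraMap_isUnit g).pow (m g (hsI g hg)))).mp ?_
    rw [← map_pow, ← map_mul]
    have hle := Finset.le_sup (f := fun g : {x // x ∈ s} => n g.1 g.2) (Finset.mem_attach s ⟨g, hg⟩)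
    have : f ^ (s.attach.sup fun g => n g.1 g.2) * x * (g ^ i g (hsI g hg) - d g (hsI g hg)) * g ^ m g (hsI g hg) = 0 := by
      rw [← Nat.sub_add_cancel hle, pow_add]
      linear_combination f ^ ((s.attach.sup fun g => n g.1 g.2) - n g hg) * hn g hg
    rw [this, map_zero]
  let P' := C × (A ⧸ K)
  let L := Localization (Algebra.algebraMapSubmonoid P' (Submonoid.powers f))
  have hL : ∀ (a : A) (k : ℕ), algebraMap (Localization.Away f) L (algebraMap A _ a) =
      algebraMap P' L (algebraMap A P' a) := fun a _ => by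
    rw [← IsScalarTower.algebraMap_apply, IsScalarTower.algebraMap_apply A P' L]
  refine ⟨(injective_iff_map_eq_zero _).mpr fun r hr => ?_, fun z => ?_⟩
  · obtain ⟨k, a, ha⟩ := IsLocalization.Away.surj f r
    have h1 : algebraMap P' L (algebraMap A P' a) = 0 := by rw [← hL a 0, ← ha, map_mul, hr, zero_mul]
    obtain ⟨⟨_, _, ⟨n, rfl⟩, rfl⟩, hn⟩ :=
      (IsLocalization.map_eq_zero_iff (Algebra.algebraMapSubmonoid P' (Submonoid.powers f)) _ _).mp h1
    rw [← map_mul] at hn
    have hC : algebraMap A C (f ^ n * a) = 0 := congrArg Prod.fst hn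
    have hQ : f ^ n * a ∈ K := Ideal.Quotient.eq_zero_iff_mem.mp (congrArg Prod.snd hn)
    have h2 := exists_pow_of_zero (he f hf) (hl f hf) hC
    have h3 := hK1 _ hQ
    refine (IsUnit.mul_left_eq_zero ((IsLocalization.Away.algebraMap_isUnit f).pow (k + n))).mp ?_
    rw [pow_add, ← mul_assoc, ha]
    rw [map_mul, map_pow] at h3
    linear_combination h3 + (algebraMap A (Localization.Away f) f) ^ n * h2
  · obtain ⟨⟨⟨c, q⟩, ⟨_, _, ⟨k, rfl⟩, rfl⟩⟩, hz⟩ :=
      IsLocalization.surj (Algebra.algebraMapSubmonoid P' (Submonoid.powers f)) z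
    obtain ⟨a₂, rfl⟩ := Ideal.Quotient.mk_surjective q
    obtain ⟨x, hx⟩ := away_surjective (he f hf) (hl f hf) (algebraMap C _ c)
    obtain ⟨n, a, ha⟩ := IsLocalization.Away.surj f x
    have hca : algebraMap C (Localization (Algebra.algebraMapSubmonoid C (Submonoid.powers f))) (algebraMap A C a) =
        algebraMap C _ (algebraMap A C (f ^ n) * c) := by
      rw [map_mul, ← hx, ← IsScalarTower.algebraMap_apply, ← IsScalarTower.algebraMap_apply,
        IsScalarTower.algebraMap_apply A (Localization.Away f), ← ha, map_mul,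
        IsScalarTower.algebraMap_apply A (Localization.Away f) _ (f ^ n), map_pow, mul_comm]
      congr 1; simp only [map_pow]
    obtain ⟨⟨_, _, ⟨M₁, rfl⟩, rfl⟩, hM₁⟩ :=
      (IsLocalization.eq_iff_exists (Algebra.algebraMapSubmonoid C (Submonoid.powers f)) _).mp hca
    obtain ⟨M₂, hM₂⟩ := hK2 (d f hf) (by
      rw [← hd f hf]
      linear_combination (-(algebraMap A (Localization.Away f) (f ^ i f hf))) * (he f hf).eq)
    let num := d f hf * a + (f ^ i f hf - d f hf) * a₂ * f ^ n
    let u := algebraMap A (Localization.Away f) (f ^ (i f hf + n))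
    have hu : IsUnit u := by
      simp only [u, map_pow]; exact (IsLocalization.Away.algebraMap_isUnit f).pow _
    have key : algebraMap P' L (algebraMap A P' num) = algebraMap P' L (algebraMap A P' (f ^ (i f hf + n)) * (c, Ideal.Quotient.mk K a₂)) := by
      refine (IsLocalization.eq_iff_exists (Algebra.algebraMapSubmonoid P' (Submonoid.powers f)) _).mpr
        ⟨⟨algebraMap A P' (f ^ (M₁ + M₂ + m f hf)), Algebra.mem_algebraMapSubmonoid_of_mem (⟨f ^ _, _, rfl⟩ : Submonoid.powers f)⟩, Prod.ext ?_ ?_⟩
      · show algebraMap A C (f ^ (M₁ + M₂ + m f hf)) * algebraMap A C num =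
          algebraMap A C (f ^ (M₁ + M₂ + m f hf)) * (algebraMap A C (f ^ (i f hf + n)) * c)
        have h4 := hm f hf
        simp only [num, map_mul, map_add, map_sub, map_pow, pow_add] at h4 hM₁ ⊢
        linear_combination (algebraMap A C f ^ M₁ * algebraMap A C f ^ M₂) *
            (algebraMap A C a₂ * algebraMap A C f ^ n - algebraMap A C a) * h4 +
          (algebraMap A C f ^ M₂ * algebraMap A C f ^ m f hf * algebraMap A C f ^ i f hf) * hM₁
      · show Ideal.Quotient.mk K (f ^ (M₁ + M₂ + m f hf)) * Ideal.Quotient.mk K num =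
          Ideal.Quotient.mk K (f ^ (M₁ + M₂ + m f hf)) * (Ideal.Quotient.mk K (f ^ (i f hf + n)) * Ideal.Quotient.mk K a₂)
        rw [← map_mul, ← map_mul, ← map_mul, Ideal.Quotient.eq]
        have : f ^ (M₁ + M₂ + m f hf) * num - f ^ (M₁ + M₂ + m f hf) * (f ^ (i f hf + n) * a₂) =
            f ^ (M₁ + m f hf) * (a - a₂ * f ^ n) * (f ^ M₂ * d f hf) := by
          simp only [num, pow_add]; ring
        rw [this]
        exact K.mul_mem_left _ hM₂
    refine ⟨algebraMap A _ num * ((hu.unit⁻¹ : (Localization.Away f)ˣ) : Localization.Away f) * ((((IsLocalization.Away.algebraMap_isUnit (S := Localization.Away f) f).pow k).unit⁻¹ : (Localization.Away f)ˣ) : Localization.Away f), ?_⟩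
    have hzu : IsUnit (algebraMap (Localization.Away f) L u) := hu.map _
    have hku : IsUnit (algebraMap (Localization.Away f) L ((algebraMap A _ f) ^ k)) :=
      ((IsLocalization.Away.algebraMap_isUnit f).pow k).map _
    refine (hzu.mul hku).mul_right_cancel ?_
    rw [← map_mul, ← map_mul]
    have e0 : algebraMap A (Localization.Away f) num * ((hu.unit⁻¹ : (Localization.Away f)ˣ) : Localization.Away f) * ((((IsLocalization.Away.algebraMap_isUnit (S := Localization.Away f) f).pow k).unit⁻¹ : (Localization.Away f)ˣ) : Localization.Away f) *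
        (u * (algebraMap A _ f) ^ k) = algebraMap A _ num := by
      rw [mul_mul_mul_comm, mul_assoc (algebraMap A (Localization.Away f) num), IsUnit.val_inv_mul, IsUnit.val_inv_mul,
        mul_one, mul_one]
    rw [e0, hL num 0, key, map_mul (algebraMap P' L), map_mul (algebraMap (Localization.Away f) L), hL _ 0, ← hz,
      ← map_pow, hL _ 0]
    ring

end Groth.Agent.S9303
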