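import Groth.Statements.S9306
import Groth.Agent.H9Ram.UnramBC
-- import your own Groth.Agent.* helpers here

set_option autoImplicit false
universe u
open EtRam

namespace Groth.Agent.S9306

open TensorProduct in
/-- Let A → B be an injective local homomorphism of discrete valuation rings with fraction fields K ⊆ L,
and let K' be a finite separable extension of K that is unramified relative to A. Then every field F
onto which K' ⊗_K L surjects is, as an extension of L, unramified relative to B. (The published
statement also records that K' ⊗_K L is a finite product of fields, whose factors are these F; this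
row does not state that part.) -/
theorem result (A B K L K' : Type u) [CommRing A] [IsDomain A]
    [IsDiscreteValuationRing A] [CommRing B] [IsDomain B] [IsDiscreteValuationRing B] [Algebra A B]
    [IsLocalHom (algebraMap A B)] (hinj : Function.Injective (algebraMap A B))
    [Field K] [Field L] [Field K'] [Algebra A K] [IsFractionRing A K] [Algebra B L] [IsFractionRing B L]
    [Algebra K L] [Algebra A L] [IsScalarTower A K L] [IsScalarTower A B L]
    [Algebra K K'] [FiniteDimensional K K'] [Algebra.IsSeparable K K']
    (h : EtRam.IsUnramifiedExt A ((algebraMap K K').comp (algebraMap A K)))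
    (F : Type u) [Field F] [Algebra (K' ⊗[K] L) F] (hF : Function.Surjective (algebraMap (K' ⊗[K] L) F)) :
    EtRam.IsUnramifiedExt B ((algebraMap (K' ⊗[K] L) F).comp
      ((Algebra.TensorProduct.includeRight : L →ₐ[K] K' ⊗[K] L).toRingHom.comp (algebraMap B L))) := by
  let iK : K' →+* F := (algebraMap (K' ⊗[K] L) F).comp Algebra.TensorProduct.includeLeftRingHom
  let iL : L →+* F := (algebraMap (K' ⊗[K] L) F).comp
    (Algebra.TensorProduct.includeRight : L →ₐ[K] K' ⊗[K] L).toRingHom
  have hc : iK.comp (algebraMap K K') = iL.comp (algebraMap K L) := RingHom.ext fun c => by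
    show algebraMap (K' ⊗[K] L) F (algebraMap K K' c ⊗ₜ 1) = algebraMap (K' ⊗[K] L) F (1 ⊗ₜ algebraMap K L c)
    rw [Algebra.TensorProduct.tmul_one_eq_one_tmul]
  have hgen : ∀ x : F, x ∈ Subfield.closure (Set.range iK ∪ Set.range iL) := by
    intro x
    obtain ⟨t, rfl⟩ := hF x
    induction t with
    | zero => rw [map_zero]; exact zero_mem _
    | tmul a b =>
      rw [← one_mul b, ← mul_one a, ← Algebra.TensorProduct.tmul_mul_tmul, map_mul]
      exact mul_mem (Subfield.subset_closure (Or.inl ⟨a, rfl⟩)) (Subfield.subset_closure (Or.inr ⟨b, rfl⟩))
    | add a b ha hb => rw [map_add]; exact add_mem ha hb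
  exact H9Ram.UnramBC.isUnramifiedExt_of_compositum h iK iL hc hgen

end Groth.Agent.S9306
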