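import Groth.Statements.S9307
import Groth.Agent.H9Ram.TameBC
-- import your own Groth.Agent.* helpers here

set_option autoImplicit false
universe u
open EtRam

namespace Groth.Agent.S9307

open TensorProduct in
/-- Let A → B be an injective local homomorphism of discrete valuation rings with fraction fields K ⊆ L,
and let K' be a finite separable extension of K that is tamely ramified relative to A. Then every
field F onto which K' ⊗_K L surjects is, as an extension of L, tamely ramified relative to B. (The
published statement also records that K' ⊗_K L is a finite product of fields, whose factors are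
these F; this row does not state that part.) -/
theorem result (A B K L K' : Type u) [CommRing A] [IsDomain A]
    [IsDiscreteValuationRing A] [CommRing B] [IsDomain B] [IsDiscreteValuationRing B] [Algebra A B]
    [IsLocalHom (algebraMap A B)] (hinj : Function.Injective (algebraMap A B))
    [Field K] [Field L] [Field K'] [Algebra A K] [IsFractionRing A K] [Algebra B L] [IsFractionRing B L]
    [Algebra K L] [Algebra A L] [IsScalarTower A K L] [IsScalarTower A B L]
    [Algebra K K'] [FiniteDimensional K K'] [Algebra.IsSeparable K K']
    (h : EtRam.IsTamelyRamified A ((algebraMap K K').comp (algebraMap A K)))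
    (F : Type u) [Field F] [Algebra (K' ⊗[K] L) F] (hF : Function.Surjective (algebraMap (K' ⊗[K] L) F)) :
    EtRam.IsTamelyRamified B ((algebraMap (K' ⊗[K] L) F).comp
      ((Algebra.TensorProduct.includeRight : L →ₐ[K] K' ⊗[K] L).toRingHom.comp (algebraMap B L))) := by
  let : Algebra K' F := ((algebraMap (K' ⊗[K] L) F).comp Algebra.TensorProduct.includeLeftRingHom).toAlgebra
  let : Algebra L F := ((algebraMap (K' ⊗[K] L) F).comp
    (Algebra.TensorProduct.includeRight : L →ₐ[K] K' ⊗[K] L).toRingHom).toAlgebra
  let : Algebra K F := ((algebraMap L F).comp (algebraMap K L)).toAlgebra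
  have : IsScalarTower K L F := IsScalarTower.of_algebraMap_eq fun _ => rfl
  have : IsScalarTower K K' F := IsScalarTower.of_algebraMap_eq fun c => by
    show algebraMap (K' ⊗[K] L) F (1 ⊗ₜ algebraMap K L c) = algebraMap (K' ⊗[K] L) F (algebraMap K K' c ⊗ₜ 1)
    rw [Algebra.TensorProduct.tmul_one_eq_one_tmul]
  have hgen : ∀ x : F, x ∈ Subfield.closure (Set.range (algebraMap K' F) ∪ Set.range (algebraMap L F)) := by
    intro x
    obtain ⟨t, rfl⟩ := hF x
    induction t with
    | zero => rw [map_zero]; exact zero_mem _
    | tmul a b =>
      rw [← one_mul b, ← mul_one a, ← Algebra.TensorProduct.tmul_mul_tmul, map_mul]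
      exact mul_mem (Subfield.subset_closure (Or.inl ⟨a, rfl⟩)) (Subfield.subset_closure (Or.inr ⟨b, rfl⟩))
    | add a b ha hb => rw [map_add]; exact add_mem ha hb
  let ψ : L ⊗[K] K' →ₐ[L] F :=
    Algebra.TensorProduct.lift (Algebra.ofId L F) (IsScalarTower.toAlgHom K K' F) fun _ _ => Commute.all _ _
  have hψ : Function.Surjective ψ := fun x => by
    obtain ⟨t, rfl⟩ := hF x
    induction t with
    | zero => exact ⟨0, by simp⟩
    | tmul a b =>
      refine ⟨b ⊗ₜ a, ?_⟩
      simp only [ψ, Algebra.TensorProduct.lift_tmul, Algebra.ofId_apply, IsScalarTower.coe_toAlgHom']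
      show algebraMap (K' ⊗[K] L) F (1 ⊗ₜ b) * algebraMap (K' ⊗[K] L) F (a ⊗ₜ 1) = _
      rw [← map_mul, Algebra.TensorProduct.tmul_mul_tmul, one_mul, mul_one]
    | add a b ha hb =>
      obtain ⟨s, hs⟩ := ha
      obtain ⟨t, ht⟩ := hb
      exact ⟨s + t, by rw [map_add, map_add, hs, ht]⟩
  have : FiniteDimensional L F := Module.Finite.of_surjective ψ.toLinearMap hψ
  have : Algebra.IsSeparable L F := ⟨fun x => by
    have hle : Subfield.closure (Set.range (algebraMap K' F) ∪ Set.range (algebraMap L F)) ≤
        (separableClosure L F).toSubfield := Subfield.closure_le.mpr (by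
      rintro _ (⟨a, rfl⟩ | ⟨b, rfl⟩)
      · exact mem_separableClosure_iff.mpr
          (((Algebra.IsSeparable.isSeparable K a).map (IsScalarTower.toAlgHom K K' F)
            (algebraMap K' F).injective).tower_top L)
      · exact mem_separableClosure_iff.mpr (isSeparable_algebraMap b))
    exact mem_separableClosure_iff.mp (hle (hgen x))⟩
  exact H9Ram.TameBC.isTamelyRamified_of_compositum (K' := K') hgen h

end Groth.Agent.S9307
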