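import Groth.Statements.S9308
import Groth.Agent.H02CA.ColimRegular
import Groth.Agent.H02CA.ColimDescent
import Groth.Agent.H02CA.RegularHom
import Groth.Agent.H02CA.SmoothRegular
import Mathlib.Algebra.Colimit.DirectLimit
import Mathlib.RingTheory.Flat.Tensor
import Mathlib.RingTheory.Smooth.Flat

set_option autoImplicit false
universe u
open CAlg TensorProduct

namespace Groth.Agent.S9308

open H02CA in
theorem flat_of_approx {ι : Type u} {R : Type u} [CommRing R] {G : ι → Type u} [∀ i, CommRing (G i)]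
    [∀ i, Algebra R (G i)] {A : Type u} [CommRing A] [Algebra R A] {g : ∀ i, G i →ₐ[R] A}
    (hG : ColimTensor.Approx g G A (fun i ↦ g i) (fun φ ↦ φ.1)) [∀ i, Module.Flat R (G i)] :
    Module.Flat R A := by
  rw [Module.Flat.iff_lTensor_injective']
  intro I
  rw [injective_iff_map_eq_zero]
  intro z hz
  obtain ⟨i, w, rfl⟩ := (hG.rTensor (R := R) (fun i ↦ (g i).toLinearMap) (fun φ ↦ φ.1.toLinearMap) I).surj z
  obtain ⟨j, φ, hφ⟩ := (hG.rTensor (R := R) (fun i ↦ (g i).toLinearMap) (fun φ ↦ φ.1.toLinearMap) R).eq i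
    (I.subtype.lTensor (G i) w) 0 (by
      rw [map_zero, ← LinearMap.comp_apply, LinearMap.rTensor_comp_lTensor, ← LinearMap.lTensor_comp_rTensor]
      exact hz)
  rw [map_zero, ← LinearMap.comp_apply, LinearMap.rTensor_comp_lTensor, ← LinearMap.lTensor_comp_rTensor,
    LinearMap.comp_apply] at hφ
  have h0 := Module.Flat.iff_lTensor_injective'.mp (inferInstance : Module.Flat R (G j)) I
    (hφ.trans (map_zero _).symm)
  change (g i).toLinearMap.rTensor I w = 0
  have := (hG.rTensor (R := R) (fun i ↦ (g i).toLinearMap) (fun φ ↦ φ.1.toLinearMap) I).compat φ w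
  rw [h0] at this
  exact this.symm.trans (map_zero _)

theorem result (R : Type u) [CommRing R] {ι : Type u} [Preorder ι]
    [IsDirectedOrder ι] [Nonempty ι] (G : ι → Type u) [∀ i, CommRing (G i)] [∀ i, Algebra R (G i)]
    (f : ∀ i j : ι, i ≤ j → (G i →ₐ[R] G j)) [DirectedSystem G (fun i j h => f i j h)]
    (hs : ∀ i, Algebra.Smooth R (G i))
    (hN : ∀ (p : Ideal R) [p.IsPrime], IsNoetherianRing (p.Fiber (DirectLimit G f))) :
    CAlg.IsRegularHom R (DirectLimit G f) := by
  let g : ∀ i, G i →ₐ[R] DirectLimit G f := fun i ↦ DirectLimit.Algebra.of G f i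
  have hG : H02CA.ColimTensor.Approx g G (DirectLimit G f) (fun i ↦ g i) (fun φ ↦ φ.1) :=
    H02CA.ColimTensor.approx_of_directed f
      (fun i j h ↦ AlgHom.ext fun x ↦ DirectLimit.Algebra.of_f h x)
      (fun a ↦ a.induction _ fun i x ↦ ⟨i, x, rfl⟩)
      (fun i x hx ↦ by
        obtain ⟨j, h, hj⟩ := (DirectLimit.exists_eq_zero ⟨i, x⟩).mp hx
        exact ⟨j, h, hj⟩)
  have := fun i ↦ hs i
  have : Module.Flat R (DirectLimit G f) := flat_of_approx hG
  refine H02CA.isRegularHom_of_forall hN fun p _ k' _ _ _ _ _ ↦ ?_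
  have : IsNoetherianRing (k' ⊗[R] DirectLimit G f) := by
    haveI := hN p
    haveI : Algebra.FiniteType (p.Fiber (DirectLimit G f)) ((p.Fiber (DirectLimit G f)) ⊗[p.ResidueField] k') := inferInstance
    haveI := Algebra.FiniteType.isNoetherianRing (p.Fiber (DirectLimit G f)) ((p.Fiber (DirectLimit G f)) ⊗[p.ResidueField] k')
    exact isNoetherianRing_of_ringEquiv _ ((Algebra.TensorProduct.comm p.ResidueField (p.Fiber (DirectLimit G f)) k').toRingEquiv.trans
      (H02CA.fiberBaseChangeEquiv p k' (DirectLimit G f)))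
  have : ∀ i, IsRegularRing (H02CA.ColimDescent.E R k' G i) := fun i ↦ H02CA.isRegularRing_of_smooth k' _
  exact H02CA.ColimRegular.isRegularRing_of_approx (v := H02CA.ColimDescent.uE k' g)
    (lp := fun φ ↦ H02CA.ColimDescent.mE k' φ) (H02CA.ColimDescent.approxE hG)

end Groth.Agent.S9308
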