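import Groth.Statements.S9310
import Groth.Agent.H02CA.PowerSeries

set_option autoImplicit false
universe u
open CAlg

namespace Groth.Agent.S9310

/-- Let K be a field, A = K[[x_1, ..., x_n]], and y_1, ..., y_n ∈ A a regular system of parameters (n
elements generating the maximal ideal). Then the substitution map K[[y_1, ..., y_n]] → A is an
isomorphism: f ↦ f(y_1, ..., y_n) is a bijection of K[[x_1, ..., x_n]] onto itself. -/
theorem result (K : Type u) [Field K] (n : ℕ)
    (y : Fin n → MvPowerSeries (Fin n) K)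
    (hy : Ideal.span (Set.range y) = IsLocalRing.maximalIdeal (MvPowerSeries (Fin n) K)) :
    Function.Bijective (MvPowerSeries.subst y : MvPowerSeries (Fin n) K → MvPowerSeries (Fin n) K) := by
  classical
  have hy0 : ∀ i, MvPowerSeries.constantCoeff (y i) = 0 := fun i => by
    rw [← H02CA.PS.mem_vars_iff, ← H02CA.PS.maximalIdeal_eq_vars, ← hy]
    exact Ideal.subset_span ⟨i, rfl⟩
  have ha := MvPowerSeries.hasSubst_of_constantCoeff_zero hy0
  let φ : MvPowerSeries (Fin n) K →ₐ[K] MvPowerSeries (Fin n) K := MvPowerSeries.substAlgHom ha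
  have hX : ∀ i, ∃ a : Fin n → MvPowerSeries (Fin n) K, ∑ k, a k * y k = MvPowerSeries.X i := fun i =>
    Ideal.mem_span_range_iff_exists_fun.mp (by
      rw [hy, H02CA.PS.maximalIdeal_eq_vars]; exact Ideal.subset_span ⟨i, rfl⟩)
  choose a hsum using hX
  have hJ : IsUnit (Matrix.det (Matrix.of fun i j : Fin n =>
      MvPowerSeries.coeff (Finsupp.single j 1) (φ (MvPowerSeries.X i)))) := by
    refine IsUnit.of_mul_eq_one (Matrix.det (Matrix.of fun i k : Fin n => MvPowerSeries.constantCoeff (a i k))) ?_
    rw [mul_comm, ← Matrix.det_mul]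
    convert Matrix.det_one (n := Fin n) (R := K) using 2
    ext i j
    have h1 := congr_arg (MvPowerSeries.coeff (Finsupp.single j 1)) (hsum i)
    rw [map_sum, MvPowerSeries.coeff_index_single_X] at h1
    simp only [H02CA.PS.coeff_single_mul _ _ (hy0 _)] at h1
    simp only [Matrix.mul_apply, Matrix.of_apply, φ, MvPowerSeries.substAlgHom_X, Matrix.one_apply]
    rw [h1]
    exact if_congr eq_comm rfl rfl
  have hbij := H02CA.PS.bijective_of_isUnit_det (φ := φ)
    (fun i => by simp only [φ, MvPowerSeries.substAlgHom_X]; exact hy0 i) hJ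
  rwa [MvPowerSeries.coe_substAlgHom] at hbij

end Groth.Agent.S9310
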