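import Groth.Statements.S9311
import Groth.Agent.H02CA.PowerSeries
import Mathlib.RingTheory.MvPowerSeries.Inverse

set_option autoImplicit false
universe u
open CAlg

namespace Groth.Agent.S9311

/-- Let Λ be a Cohen ring (a complete discrete valuation ring whose maximal ideal is generated by a
prime number p), B = Λ[[x_1, ..., x_n]], and y_1, ..., y_n ∈ B with zero constant terms such that p,
y_1, ..., y_n is a regular system of parameters of B (these n + 1 elements generate the maximal
ideal). Then the substitution map Λ[[y_1, ..., y_n]] → B is an isomorphism: f ↦ f(y_1, ..., y_n) is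
a bijection of Λ[[x_1, ..., x_n]] onto itself. (The published statement allows the y_i to have
constant terms in pΛ, the substitution being defined through the (p, x)-adic topology of B; this row
asks the constant terms to vanish, the case in which substitution is defined coefficientwise with no
topology on Λ.) -/
theorem result (Λ : Type u) [CommRing Λ] [IsDomain Λ]
    [IsDiscreteValuationRing Λ] [IsAdicComplete (IsLocalRing.maximalIdeal Λ) Λ] (p : ℕ) (hp : p.Prime)
    (hm : IsLocalRing.maximalIdeal Λ = Ideal.span {(p : Λ)}) (n : ℕ)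
    (y : Fin n → MvPowerSeries (Fin n) Λ) (hy0 : ∀ i, MvPowerSeries.constantCoeff (y i) = 0)
    (hy : Ideal.span (insert (p : MvPowerSeries (Fin n) Λ) (Set.range y)) =
      IsLocalRing.maximalIdeal (MvPowerSeries (Fin n) Λ)) :
    Function.Bijective (MvPowerSeries.subst y : MvPowerSeries (Fin n) Λ → MvPowerSeries (Fin n) Λ) := by
  classical
  have ha := MvPowerSeries.hasSubst_of_constantCoeff_zero hy0
  let φ : MvPowerSeries (Fin n) Λ →ₐ[Λ] MvPowerSeries (Fin n) Λ := MvPowerSeries.substAlgHom ha
  have hXm : ∀ i : Fin n, MvPowerSeries.X i ∈ IsLocalRing.maximalIdeal (MvPowerSeries (Fin n) Λ) := fun i => by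
    rw [IsLocalRing.mem_maximalIdeal, mem_nonunits_iff, MvPowerSeries.isUnit_iff_constantCoeff, MvPowerSeries.constantCoeff_X]
    exact not_isUnit_zero
  have hX : ∀ i, ∃ b : MvPowerSeries (Fin n) Λ, ∃ a : Fin n → MvPowerSeries (Fin n) Λ,
      b * (p : MvPowerSeries (Fin n) Λ) + ∑ k, a k * y k = MvPowerSeries.X i := fun i => by
    have h1 := hXm i
    rw [← hy, Ideal.span, Submodule.mem_span_insert] at h1
    obtain ⟨b, z, hz, hbz⟩ := h1
    obtain ⟨a, ha'⟩ := Ideal.mem_span_range_iff_exists_fun.mp hz
    exact ⟨b, a, by rw [ha', hbz, smul_eq_mul]⟩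
  choose b a hsum using hX
  set J := Matrix.of fun i j : Fin n =>
      MvPowerSeries.coeff (Finsupp.single j 1) (φ (MvPowerSeries.X i))
  have hJ : IsUnit J.det := by
    refine isUnit_of_map_unit (IsLocalRing.residue Λ) _ (IsUnit.of_mul_eq_one
      (IsLocalRing.residue Λ (Matrix.of fun i k : Fin n => MvPowerSeries.constantCoeff (a i k)).det) ?_)
    rw [← map_mul, mul_comm, ← Matrix.det_mul, RingHom.map_det]
    convert Matrix.det_one (n := Fin n) (R := IsLocalRing.ResidueField Λ) using 2
    ext i j
    have h1 := congr_arg (fun f => IsLocalRing.residue Λ (MvPowerSeries.coeff (Finsupp.single j 1) f)) (hsum i)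
    simp only [map_add, map_sum, MvPowerSeries.coeff_index_single_X] at h1
    have hp0 : IsLocalRing.residue Λ (MvPowerSeries.coeff (Finsupp.single j 1) (b i * (p : MvPowerSeries (Fin n) Λ))) = 0 := by
      rw [← map_natCast (MvPowerSeries.C (σ := Fin n) (R := Λ)), mul_comm, MvPowerSeries.coeff_C_mul,
        IsLocalRing.residue_eq_zero_iff, hm]
      exact Ideal.mul_mem_right _ _ (Ideal.mem_span_singleton_self _)
    rw [hp0, zero_add] at h1
    simp only [H02CA.PS.coeff_single_mul _ _ (hy0 _)] at h1
    simp only [RingHom.mapMatrix_apply, Matrix.map_apply, Matrix.mul_apply, Matrix.of_apply, J,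
      φ, MvPowerSeries.substAlgHom_X, map_sum, Matrix.one_apply]
    rw [h1]
    by_cases hij : i = j
    · subst hij; simp
    · simp [hij, Ne.symm hij]
  have hbij := H02CA.PS.bijective_of_isUnit_det (φ := φ)
    (fun i => by simp only [φ, MvPowerSeries.substAlgHom_X]; exact hy0 i) hJ
  rwa [MvPowerSeries.coe_substAlgHom] at hbij

end Groth.Agent.S9311
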