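import Groth.Statements.S9312
import Groth.Agent.H02CA.InvariantPoly
import Groth.Agent.S9260
import Mathlib.RingTheory.TensorProduct.Maps
import Mathlib.LinearAlgebra.TensorProduct.Finiteness
import Mathlib.RingTheory.Invariant.Basic

set_option autoImplicit false
universe u
open CAlg

namespace Groth.Agent.S9312

noncomputable local instance (priority := high) coeffSMul {R G ι : Type*} [CommRing R] [Group G] [MulSemiringAction G R] :
    SMul G (MvPolynomial ι R) := ⟨fun σ p => MvPolynomial.map (MulSemiringAction.toRingHom G R σ) p⟩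

noncomputable local instance (priority := high) coeffAction {R G ι : Type*} [CommRing R] [Group G] [MulSemiringAction G R] :
    MulSemiringAction G (MvPolynomial ι R) where
  toSMul := coeffSMul
  one_smul p := by
    show MvPolynomial.map _ p = p
    rw [show MulSemiringAction.toRingHom G R 1 = RingHom.id R from RingHom.ext fun r => one_smul G r, MvPolynomial.map_id]
  mul_smul σ τ p := by
    show MvPolynomial.map _ p = MvPolynomial.map _ (MvPolynomial.map _ p)
    rw [MvPolynomial.map_map]
    congr 2
    exact RingHom.ext fun r => mul_smul σ τ r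
  smul_zero σ := map_zero _
  smul_add σ p q := map_add _ p q
  smul_one σ := map_one _
  smul_mul σ p q := map_mul _ p q

theorem aux {R G : Type u} {ι : Type u} [CommRing R] [Group G] [Fintype G] [MulSemiringAction G R]
    (I : Ideal (MvPolynomial ι (FixedPoints.subring R G))) (a : ι)
    (h : MvPolynomial.map (algebraMap (FixedPoints.subring R G) R) (MvPolynomial.X a) ∈
      I.map (MvPolynomial.map (algebraMap (FixedPoints.subring R G) R))) (i : ℕ) (hi : i < Fintype.card G) :
    ((Polynomial.X - Polynomial.C (MvPolynomial.X a : MvPolynomial ι (FixedPoints.subring R G))) ^ Fintype.card G).coeff i ∈ I := by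
  let inc := MvPolynomial.map (σ := ι) (algebraMap (FixedPoints.subring R G) R)
  letI : Algebra (MvPolynomial ι (FixedPoints.subring R G)) (MvPolynomial ι R) := inc.toAlgebra
  have hfix : ∀ (σ : G) p, σ • inc p = inc p := fun σ p => by
    show MvPolynomial.map (MulSemiringAction.toRingHom G R σ) (MvPolynomial.map _ p) = _
    rw [MvPolynomial.map_map]
    congr 2
    exact RingHom.ext fun r => r.2 σ
  haveI : SMulCommClass G (MvPolynomial ι (FixedPoints.subring R G)) (MvPolynomial ι R) := ⟨fun σ p q => by
    rw [Algebra.smul_def, Algebra.smul_def]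
    exact (smul_mul' σ (inc p) q).trans (congrArg (· * σ • q) (hfix σ p))⟩
  haveI : Algebra.IsInvariant (MvPolynomial ι (FixedPoints.subring R G)) (MvPolynomial ι R) G := ⟨fun q hq => by
    refine RingHom.mem_range.mp ?_
    show q ∈ inc.range
    rw [← SetLike.mem_coe, RingHom.coe_range, MvPolynomial.mem_range_map_iff_coeffs_subset]
    intro c hc
    obtain ⟨d, -, rfl⟩ := MvPolynomial.mem_coeffs_iff.mp hc
    refine ⟨⟨_, fun σ => ?_⟩, rfl⟩
    conv_rhs => rw [← hq σ]
    exact (MvPolynomial.coeff_map (MulSemiringAction.toRingHom G R σ) q d).symm⟩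
  obtain ⟨Q, -, -, hQI, hQm⟩ := S9260.result (MvPolynomial ι (FixedPoints.subring R G)) (MvPolynomial ι R) G I (inc (MvPolynomial.X a)) h
  have hQm' : Q.map inc = ((Polynomial.X - Polynomial.C (MvPolynomial.X a : MvPolynomial ι (FixedPoints.subring R G))) ^ Fintype.card G).map inc := by
    refine hQm.trans ?_
    rw [Polynomial.map_pow, ← Finset.card_univ, ← Finset.prod_const]
    refine Finset.prod_congr rfl fun σ _ => ?_
    rw [hfix, Polynomial.map_sub, Polynomial.map_X, Polynomial.map_C]
  have hinj : Function.Injective inc := MvPolynomial.map_injective _ Subtype.val_injective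
  rw [← Polynomial.map_injective inc hinj hQm']
  exact hQI i hi

/-- Let a finite group G with n elements act on a ring R by ring automorphisms, with invariant ring R^G,
and let A be an algebra over R^G; G acts on A ⊗ R through the factor R. (1) For every G-invariant b
∈ A ⊗ R there is a monic polynomial over A whose image in (A ⊗ R)[T] is (T - b)^n. (2) For every a
in the kernel of A → A ⊗ R, all coefficients of (T - a)^n below degree n vanish, that is (T - a)^n =
T^n in A[T]. -/
theorem result (R G A : Type u) [CommRing R] [Group G] [Fintype G]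
    [MulSemiringAction G R] [CommRing A] [Algebra (FixedPoints.subring R G) A] :
    (∀ b : TensorProduct (FixedPoints.subring R G) A R,
      (∀ σ : G, Algebra.TensorProduct.map (AlgHom.id (FixedPoints.subring R G) A)
        (MulSemiringAction.toAlgHom (FixedPoints.subring R G) R σ) b = b) →
      ∃ P : Polynomial A, P.Monic ∧
        Polynomial.map (algebraMap A (TensorProduct (FixedPoints.subring R G) A R)) P =
          (Polynomial.X - Polynomial.C b) ^ Fintype.card G) ∧
    (∀ a : A, algebraMap A (TensorProduct (FixedPoints.subring R G) A R) a = 0 →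
      ∀ i : ℕ, i < Fintype.card G → ((Polynomial.X - Polynomial.C a) ^ Fintype.card G).coeff i = 0) := by
  classical
  haveI : Algebra.IsInvariant (FixedPoints.subring R G) R G := ⟨fun b hb => ⟨⟨b, fun σ => hb σ⟩, rfl⟩⟩
  refine ⟨fun b hb => ?_, fun a ha i hi => ?_⟩
  · obtain ⟨S, rfl⟩ := TensorProduct.exists_finset (R := (FixedPoints.subring R G)) b
    obtain ⟨Q, hQ, -, -, hQm⟩ := H02CA.exists_universal_lift (FixedPoints.subring R G) (G := G) (fun y : S => y.1.2)
    refine ⟨Q.map (MvPolynomial.eval₂Hom (algebraMap (FixedPoints.subring R G) A) fun y : S => y.1.1), hQ.map _, ?_⟩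
    have h1 : (algebraMap A (TensorProduct (FixedPoints.subring R G) A R)).comp (MvPolynomial.eval₂Hom (algebraMap (FixedPoints.subring R G) A) fun y : S => y.1.1) =
        (MvPolynomial.eval₂Hom (Algebra.TensorProduct.includeRight (R := (FixedPoints.subring R G)) (A := A) (B := R)).toRingHom
          fun y : S => y.1.1 ⊗ₜ[(FixedPoints.subring R G)] (1 : R)).comp (MvPolynomial.map (algebraMap (FixedPoints.subring R G) R)) := by
      apply MvPolynomial.ringHom_ext
      · intro r
        simp only [RingHom.comp_apply, MvPolynomial.eval₂Hom_C, MvPolynomial.map_C, AlgHom.toRingHom_eq_coe, RingHom.coe_coe,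
          Algebra.TensorProduct.includeRight_apply, Algebra.TensorProduct.algebraMap_apply]
        exact Algebra.TensorProduct.tmul_one_eq_one_tmul r
      · intro y; simp
    rw [Polynomial.map_map, h1, ← Polynomial.map_map, hQm, Polynomial.map_prod, ← Finset.card_univ, ← Finset.prod_const]
    refine Finset.prod_congr rfl fun σ _ => ?_
    rw [Polynomial.map_sub, Polynomial.map_X, Polynomial.map_C]
    congr 2
    rw [← hb σ, map_sum, map_sum]
    conv_rhs => rw [← Finset.sum_coe_sort]
    refine Finset.sum_congr rfl fun y _ => ?_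
    simp
  · let P₀ := MvPolynomial A (FixedPoints.subring R G)
    let π : P₀ →ₐ[(FixedPoints.subring R G)] A := MvPolynomial.aeval id
    let I : Ideal P₀ := RingHom.ker π.toRingHom
    let P := MvPolynomial A R
    let inc : P₀ →+* P := MvPolynomial.map (algebraMap (FixedPoints.subring R G) R)
    have hπ : Function.Surjective π := fun a => ⟨MvPolynomial.X a, MvPolynomial.aeval_X _ _⟩
    let θ₀ : P₀ →ₐ[(FixedPoints.subring R G)] P ⧸ I.map inc := (Ideal.Quotient.mkₐ (FixedPoints.subring R G) _).comp (MvPolynomial.mapAlgHom (Algebra.ofId (FixedPoints.subring R G) R))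
    have hker : RingHom.ker π ≤ RingHom.ker θ₀ := fun p hp =>
      Ideal.Quotient.eq_zero_iff_mem.mpr (Ideal.mem_map_of_mem inc hp)
    let θ : A →ₐ[(FixedPoints.subring R G)] P ⧸ I.map inc := AlgHom.liftOfSurjective π hπ θ₀ hker
    let Θ : TensorProduct (FixedPoints.subring R G) A R →ₐ[(FixedPoints.subring R G)] P ⧸ I.map inc :=
      Algebra.TensorProduct.productMap θ ((Ideal.Quotient.mkₐ (FixedPoints.subring R G) _).comp (IsScalarTower.toAlgHom (FixedPoints.subring R G) R P))
    have hXa : inc (MvPolynomial.X a) ∈ I.map inc := by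
      rw [← Ideal.Quotient.eq_zero_iff_mem]
      have h1 := congr_arg Θ (show (a ⊗ₜ[(FixedPoints.subring R G)] (1 : R)) = (0 : TensorProduct (FixedPoints.subring R G) A R) from ha)
      rw [map_zero, Algebra.TensorProduct.productMap_apply_tmul, map_one, mul_one] at h1
      have h2 : θ (π (MvPolynomial.X a)) = θ₀ (MvPolynomial.X a) :=
        AlgHom.congr_fun (AlgHom.liftOfSurjective_comp π hπ θ₀ hker) _
      rw [show π (MvPolynomial.X a) = a from MvPolynomial.aeval_X _ _] at h2
      rw [h2] at h1
      exact h1
    have h3 : _ ∈ I := aux I a hXa i hi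
    rw [RingHom.mem_ker] at h3
    have h4 : ((Polynomial.X - Polynomial.C (MvPolynomial.X a : P₀)) ^ Fintype.card G).map π.toRingHom =
        (Polynomial.X - Polynomial.C a) ^ Fintype.card G := by
      rw [Polynomial.map_pow, Polynomial.map_sub, Polynomial.map_X, Polynomial.map_C]
      congr 3
      exact MvPolynomial.aeval_X _ _
    rw [← h4, Polynomial.coeff_map]
    exact h3

end Groth.Agent.S9312
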