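import Groth.Statements.S9313
import Mathlib.RingTheory.ZariskisMainTheorem
import Mathlib.RingTheory.IntegralClosure.IntegralRestrict
import Mathlib.RingTheory.Localization.Integral

set_option autoImplicit false
universe u
open CAlg

namespace Groth.Agent.S9313

section
open PrimeSpectrum

variable {A B : Type u} [CommRing A] [CommRing B] [Algebra A B]

/-- The elements of the integral closure whose powers multiply any given element into it. -/
def goodIdeal (A B : Type u) [CommRing A] [CommRing B] [Algebra A B] :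
    Ideal (integralClosure A B) :=
  ⨅ x : B, Ideal.radical
    { carrier := {h | (h : B) * x ∈ integralClosure A B}
      add_mem' := fun {a b} ha hb => by
        show ((a : B) + b) * x ∈ integralClosure A B
        rw [add_mul]
        exact add_mem ha hb
      zero_mem' := by
        show (0 : B) * x ∈ integralClosure A B
        rw [zero_mul]
        exact zero_mem _
      smul_mem' := fun c a ha => by
        show (c : B) * a * x ∈ integralClosure A B
        rw [mul_assoc]
        exact mul_mem c.2 ha }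

theorem mem_goodIdeal {h : integralClosure A B} :
    h ∈ goodIdeal A B ↔ ∀ x : B, ∃ n : ℕ, (h : B) ^ n * x ∈ integralClosure A B := by
  simp [goodIdeal, Ideal.mem_iInf, Ideal.mem_radical_iff]

theorem quasiFiniteAt_of_finite_piece [Algebra.FiniteType A B] {C : Type u} [CommRing C] [Algebra A C]
    [Module.Finite A C] (π : B →ₐ[A] C) (hπ : Function.Surjective π) (q : Ideal B) [q.IsPrime]
    (hq : RingHom.ker π ≤ q) (t : B) (htq : t ∉ q)
    (ht : ∀ q' : Ideal B, q'.IsPrime → q.comap (algebraMap A B) ≤ q'.comap (algebraMap A B) → t ∉ q' →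
      RingHom.ker π ≤ q') (hπt : IsUnit (π t)) :
    Algebra.QuasiFiniteAt A q := by
  let q₀ : PrimeSpectrum B := ⟨q, inferInstance⟩
  show Algebra.QuasiFiniteAt A q₀.asIdeal
  apply Algebra.QuasiFiniteAt.of_isOpen_singleton_fiber
  let p := q₀.comap (algebraMap A B)
  let X := (PrimeSpectrum.comap (algebraMap A B)) ⁻¹' {p}
  show IsOpen (X := X) {⟨q₀, rfl⟩}
  let U : Set X := {x | t ∉ x.1.asIdeal}
  have hU : IsOpen U := (PrimeSpectrum.isOpen_basicOpen (a := t)).preimage continuous_subtype_val
  have hle : ∀ x ∈ U, RingHom.ker π ≤ x.1.asIdeal := fun x hx =>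
    ht _ x.1.isPrime (le_of_eq (congrArg PrimeSpectrum.asIdeal x.2).symm) hx
  have hback : ∀ x ∈ U, (x.1.asIdeal.map π.toRingHom).IsPrime ∧
      (x.1.asIdeal.map π.toRingHom).comap π.toRingHom = x.1.asIdeal ∧
      (x.1.asIdeal.map π.toRingHom).comap (algebraMap A C) = p.asIdeal := by
    intro x hx
    have h1 : (x.1.asIdeal.map π.toRingHom).comap π.toRingHom = x.1.asIdeal := by
      rw [Ideal.comap_map_of_surjective π.toRingHom hπ]
      exact sup_eq_left.2 (hle x hx)
    refine ⟨Ideal.map_isPrime_of_surjective hπ (hle x hx), h1, ?_⟩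
    rw [show algebraMap A C = π.toRingHom.comp (algebraMap A B) from π.comp_algebraMap.symm,
      ← Ideal.comap_comap, h1]
    exact congrArg PrimeSpectrum.asIdeal x.2
  have hfin : U.Finite := by
    refine Set.Finite.of_finite_image (f := fun x : X => x.1.asIdeal.map π.toRingHom)
      ((Algebra.QuasiFinite.finite_primesOver (S := C) p.asIdeal).subset ?_) ?_
    · rintro _ ⟨x, hx, rfl⟩
      exact ⟨(hback x hx).1, ⟨(hback x hx).2.2.symm⟩⟩
    · intro x hx y hy hxy
      refine Subtype.ext (PrimeSpectrum.ext ?_)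
      rw [← (hback x hx).2.1, ← (hback y hy).2.1]
      exact congrArg _ hxy
  have hclosed : ∀ x ∈ U, IsClosed ({x} : Set X) := by
    intro x hx
    have : ({x} : Set X) = Subtype.val ⁻¹' PrimeSpectrum.zeroLocus (x.1.asIdeal : Set B) := by
      ext y
      refine ⟨fun h => h ▸ Set.Subset.refl _, fun h => ?_⟩
      have hxy : x.1.asIdeal ≤ y.1.asIdeal := h
      have hy : y ∈ U := by
        intro hty
        have h1 : RingHom.ker π ≤ y.1.asIdeal := (hle x hx).trans hxy
        obtain ⟨c, hc⟩ := hπt.exists_right_inv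
        obtain ⟨b, rfl⟩ := hπ c
        refine y.1.isPrime.ne_top ((Ideal.eq_top_iff_one _).2 ?_)
        have h2 : t * b - 1 ∈ y.1.asIdeal := h1 (by
          rw [RingHom.mem_ker, map_sub, map_mul, hc, map_one, sub_self])
        have h3 := y.1.asIdeal.sub_mem (y.1.asIdeal.mul_mem_right b hty) h2
        rwa [sub_sub_cancel] at h3
      haveI := (hback x hx).1
      haveI := (hback y hy).1
      have h4 : x.1.asIdeal.map π.toRingHom = y.1.asIdeal.map π.toRingHom :=
        Algebra.QuasiFinite.eq_of_le_of_under_eq (R := A) _ _ (Ideal.map_mono hxy)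
          ((hback x hx).2.2.trans (hback y hy).2.2.symm)
      refine Subtype.ext (PrimeSpectrum.ext ?_)
      rw [← (hback y hy).2.1, ← h4]
      exact (hback x hx).2.1
    rw [this]
    exact (PrimeSpectrum.isClosed_zeroLocus _).preimage continuous_subtype_val
  let q₁ : X := ⟨q₀, rfl⟩
  have hq₁ : q₁ ∈ U := htq
  have : ({q₁} : Set X) = U \ ⋃ x ∈ U \ {q₁}, {x} := by
    rw [Set.biUnion_of_singleton, Set.sdiff_sdiff_right_self]
    exact (inf_eq_right.2 (Set.singleton_subset_iff.2 hq₁)).symm
  show IsOpen ({q₁} : Set X)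
  rw [this]
  exact hU.sdiff ((hfin.sdiff).isClosed_biUnion fun x hx => hclosed x hx.1)

end


/-- Let A be a ring with an ideal I and A → B a ring map of finite type, and suppose B/IB = C_1 × C_2
(given by an idempotent e of B/IB with C_1 = (B/IB)/(1 - e)) where C_1 is finite over A/I. Writing
B' for the integral closure of A in B, some g ∈ B' has idempotent image in B'/IB' lifting e (so
B'/IB' = C_1' × C_2' compatibly with the decomposition of B/IB), and the map B'_g → B_g is an
isomorphism (whence C_1' = C_1). -/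
theorem result (A B : Type u) [CommRing A] [CommRing B]
    [Algebra A B] [Algebra.FiniteType A B] (I : Ideal A) (e : B ⧸ Ideal.map (algebraMap A B) I)
    (he : IsIdempotentElem e)
    (hfin : Module.Finite (A ⧸ I) ((B ⧸ Ideal.map (algebraMap A B) I) ⧸ Ideal.span {1 - e})) :
    ∃ g : integralClosure A B,
      IsIdempotentElem (Ideal.Quotient.mk (Ideal.map (algebraMap A (integralClosure A B)) I) g) ∧
      Ideal.Quotient.mk (Ideal.map (algebraMap A B) I) (g : B) = e ∧
      Function.Bijective (algebraMap (Localization.Away g)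
        (Localization (Algebra.algebraMapSubmonoid B (Submonoid.powers g)))) := by
  classical
  haveI := hfin
  let C := (B ⧸ Ideal.map (algebraMap A B) I) ⧸ Ideal.span {1 - e}
  haveI : Module.Finite A C := Module.Finite.trans (A ⧸ I) C
  let π : B →ₐ[A] C :=
    (Ideal.Quotient.mkₐ A (Ideal.span {1 - e})).comp (Ideal.Quotient.mkₐ A (Ideal.map (algebraMap A B) I))
  have hπ : Function.Surjective π :=
    (Ideal.Quotient.mk_surjective (I := Ideal.span {1 - e})).comp Ideal.Quotient.mk_surjective
  have hπk : ∀ b : B, π b = 0 → Ideal.Quotient.mk (Ideal.map (algebraMap A B) I) b * e = 0 := by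
    intro b hb
    obtain ⟨c, hc⟩ := Ideal.mem_span_singleton'.1 (Ideal.Quotient.eq_zero_iff_mem.1 hb)
    change _ = Ideal.Quotient.mk (Ideal.map (algebraMap A B) I) b at hc
    rw [← hc, mul_assoc, sub_mul, one_mul, he.eq, sub_self, mul_zero]
  obtain ⟨t, rfl⟩ := Ideal.Quotient.mk_surjective e
  have hπt : π t = 1 := by
    refine ((Ideal.Quotient.eq (I := Ideal.span {1 - Ideal.Quotient.mk (Ideal.map (algebraMap A B) I) t})
      (x := Ideal.Quotient.mk (Ideal.map (algebraMap A B) I) t) (y := 1)).2 ?_).trans (map_one _)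
    rw [Ideal.mem_span_singleton']
    exact ⟨-1, by ring⟩
  let J := goodIdeal A B
  let f : integralClosure A B →ₐ[A] C := π.comp (integralClosure A B).val
  have hJP : J ⊔ RingHom.ker f = ⊤ := by
    by_contra hne
    obtain ⟨r, hrmax, hr⟩ := Ideal.exists_le_maximal _ hne
    have hfi : f.toRingHom.IsIntegral := by
      refine RingHom.IsIntegral.tower_top (algebraMap A (integralClosure A B)) _ ?_
      have : f.toRingHom.comp (algebraMap A (integralClosure A B)) = algebraMap A C := f.comp_algebraMap
      rw [this]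
      intro c
      exact Algebra.IsIntegral.isIntegral (R := A) c
    obtain ⟨q₁, hq₁, hq₁r⟩ : ∃ q₁ : Ideal C, q₁.IsMaximal ∧ q₁.comap f.toRingHom = r := by
      letI := f.toRingHom.toAlgebra
      haveI : Algebra.IsIntegral (integralClosure A B) C := ⟨hfi⟩
      exact Ideal.exists_ideal_over_maximal_of_isIntegral r (le_sup_right.trans hr)
    let q := q₁.comap π.toRingHom
    haveI : q.IsPrime := Ideal.IsPrime.comap _
    have hkq : RingHom.ker π ≤ q := fun x hx => by
      show π x ∈ q₁
      rw [show π x = 0 from hx]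
      exact q₁.zero_mem
    have htq : t ∉ q := fun h => hq₁.ne_top ((Ideal.eq_top_iff_one _).2 (hπt ▸ h))
    haveI := quasiFiniteAt_of_finite_piece π hπ q hkq t htq (fun q' hq' hle htq' b hb => by
      have hI : Ideal.map (algebraMap A B) I ≤ q' := by
        refine Ideal.map_le_iff_le_comap.2 (le_trans ?_ hle)
        refine Ideal.map_le_iff_le_comap.1 (le_trans ?_ hkq)
        intro x hx
        rw [RingHom.mem_ker]
        show Ideal.Quotient.mk _ (Ideal.Quotient.mk _ x) = 0
        rw [Ideal.Quotient.eq_zero_iff_mem.2 hx, map_zero]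
      have h1 := hπk b hb
      rw [← map_mul, Ideal.Quotient.eq_zero_iff_mem] at h1
      exact (hq'.mem_or_mem (hI h1)).resolve_right htq') (hπt ▸ isUnit_one)
    obtain ⟨h, hhq, hhi, hh⟩ := Algebra.zariskisMainProperty_iff.1
      (Algebra.ZariskisMainProperty.of_finiteType (R := A) q)
    refine hhq ?_
    have : (⟨h, hhi⟩ : integralClosure A B) ∈ r :=
      hr (Ideal.mem_sup_left (mem_goodIdeal.2 fun x => hh x))
    rw [← hq₁r] at this
    exact this
  obtain ⟨h, hhJ, c, hc, hhc⟩ := Submodule.mem_sup.1 ((Ideal.eq_top_iff_one _).1 hJP)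
  have hπh : π (h : B) = 1 := by
    have h1 := congrArg f hhc
    rw [map_add, RingHom.mem_ker.1 hc, add_zero, map_one] at h1
    exact h1
  obtain ⟨n, hn⟩ := mem_goodIdeal.1 hhJ t
  let g₀ : integralClosure A B := h * ⟨(h : B) ^ n * t, hn⟩
  have hg₀J : g₀ ∈ J := J.mul_mem_right _ hhJ
  have hg₀e : Ideal.Quotient.mk (Ideal.map (algebraMap A B) I) (g₀ : B) =
      Ideal.Quotient.mk (Ideal.map (algebraMap A B) I) t := by
    have h2 := hπk ((h : B) ^ (n + 1) - 1) (by rw [map_sub, map_pow, hπh, one_pow, map_one, sub_self])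
    rw [map_sub, map_one, sub_mul, one_mul, sub_eq_zero] at h2
    conv_rhs => rw [← h2]
    rw [← map_mul]
    congr 1
    show (h : B) * ((h : B) ^ n * t) = _
    ring
  have key : ∀ d ∈ Ideal.map (algebraMap A B) I, ∃ M : ℕ,
      ∃ z ∈ Ideal.map (algebraMap A (integralClosure A B)) I, (z : B) = (g₀ : B) ^ M * d := by
    intro d hd
    induction hd using Submodule.span_induction with
    | mem x hx =>
      obtain ⟨i, hi, rfl⟩ := hx
      exact ⟨0, algebraMap A _ i, Ideal.mem_map_of_mem _ hi, by simp⟩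
    | zero => exact ⟨0, 0, zero_mem _, by simp⟩
    | add x y _ _ hx hy =>
      obtain ⟨M, z, hz, hzx⟩ := hx
      obtain ⟨N, w, hw, hwy⟩ := hy
      refine ⟨M + N, g₀ ^ N * z + g₀ ^ M * w, add_mem (Ideal.mul_mem_left _ _ hz) (Ideal.mul_mem_left _ _ hw), ?_⟩
      push_cast
      rw [hzx, hwy]; ring
    | smul b x _ hx =>
      obtain ⟨M, z, hz, hzx⟩ := hx
      obtain ⟨N, hN⟩ := mem_goodIdeal.1 hg₀J b
      refine ⟨N + M, ⟨(g₀ : B) ^ N * b, hN⟩ * z, Ideal.mul_mem_left _ _ hz, ?_⟩
      push_cast
      rw [hzx, smul_eq_mul]; ring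
  obtain ⟨M, z, hz, hzd⟩ := key ((g₀ : B) * g₀ - g₀) (by
    rw [← Ideal.Quotient.eq_zero_iff_mem, map_sub, map_mul, hg₀e, he.eq, sub_self])
  let G := Ideal.Quotient.mk (Ideal.map (algebraMap A (integralClosure A B)) I) g₀
  have hG : G ^ (M + 1) * G = G ^ (M + 1) := by
    rw [← sub_eq_zero]
    have hz' : z = g₀ ^ M * (g₀ * g₀ - g₀) := Subtype.ext hzd
    have := Ideal.Quotient.eq_zero_iff_mem.2 hz
    rw [hz', map_mul, map_sub, map_mul, map_pow] at this
    refine Eq.trans ?_ this
    ring
  have hGj : ∀ j : ℕ, G ^ (M + 1) * G ^ j = G ^ (M + 1) := by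
    intro j
    induction j with
    | zero => rw [pow_zero, mul_one]
    | succ j ih => rw [pow_succ G j, ← mul_assoc, ih, hG]
  refine ⟨g₀ ^ (M + 1), ?_, ?_, ?_⟩
  · show _ * _ = _
    rw [map_pow]
    exact hGj _
  · rw [SubmonoidClass.coe_pow, map_pow, hg₀e]
    exact he.pow_succ_eq M
  · have hgJ : g₀ ^ (M + 1) ∈ J := J.pow_mem_of_mem hg₀J _ M.succ_pos
    constructor
    · haveI : IsLocalization (Submonoid.map (algebraMap (integralClosure A B) B) (Submonoid.powers (g₀ ^ (M + 1))))
          (Localization (Algebra.algebraMapSubmonoid B (Submonoid.powers (g₀ ^ (M + 1))))) :=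
        Localization.isLocalization
      exact IsLocalization.map_injective_of_injective (Submonoid.powers (g₀ ^ (M + 1))) _ _
        Subtype.val_injective
    · intro x
      obtain ⟨⟨b, s, hs⟩, rfl⟩ := IsLocalization.mk'_surjective
        (Algebra.algebraMapSubmonoid B (Submonoid.powers (g₀ ^ (M + 1)))) x
      obtain ⟨s', ⟨k, rfl⟩, rfl⟩ := hs
      obtain ⟨N, hN⟩ := mem_goodIdeal.1 hgJ b
      let w : Submonoid.powers (g₀ ^ (M + 1)) := ⟨(g₀ ^ (M + 1)) ^ (N + k), N + k, rfl⟩
      refine ⟨IsLocalization.mk' (Localization.Away (g₀ ^ (M + 1))) (⟨_, hN⟩ : integralClosure A B) w, ?_⟩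
      show IsLocalization.map _ (algebraMap (integralClosure A B) B) _ _ = _
      rw [IsLocalization.map_mk']
      refine IsLocalization.mk'_eq_of_eq ?_
      show (((g₀ ^ (M + 1)) ^ (N + k) : integralClosure A B) : B) * b =
        (((g₀ ^ (M + 1)) ^ k : integralClosure A B) : B) * (((g₀ ^ (M + 1) : integralClosure A B) : B) ^ N * b)
      push_cast
      ring

end Groth.Agent.S9313
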