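import Groth.Statements.S9314
import Mathlib
import Groth.Prelude.Def_EGA4b
import Groth.Agent.H05EGA4.FormalFibreFS

set_option autoImplicit false
set_option linter.style.haveILetI false
universe u
open CAlg

open IsLocalRing TensorProduct Groth.Agent CAlgX Groth.Agent.H05EGA4

namespace Groth.Agent.S9314

/-- Let `A` and `B` be Noetherian local rings and `A → B` a local ring map, and suppose that the map
from `A` to its completion along the maximal ideal is a regular ring map. If `A → B` is formally
smooth for the adic topology of the maximal ideal of `B`, then `A → B` is a regular ring map: flat,
with Noetherian fibres that are geometrically regular over the residue fields of `A`. -/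
theorem result {A B : Type u}
    [CommRing A] [CommRing B] [IsLocalRing A] [IsLocalRing B] [IsNoetherianRing A]
    [IsNoetherianRing B] [Algebra A B] [IsLocalHom (algebraMap A B)]
    (hA : CAlg.IsRegularHom A (AdicCompletion (IsLocalRing.maximalIdeal A) A))
    (h : CAlgX.IsAdicFormallySmooth A B (IsLocalRing.maximalIdeal B)) :
    CAlg.IsRegularHom A B := by
  exact isRegularHom_of_isAdicFormallySmooth hA h


end Groth.Agent.S9314
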