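import Groth.Statements.S9319
import Mathlib.RingTheory.Kaehler.JacobiZariski
import Mathlib.RingTheory.Flat.Basic
import Mathlib.Algebra.Field.ULift
import Groth.Agent.H05EGA4.CohenSmooth

set_option autoImplicit false
universe u
open CAlg

namespace Groth.Agent.S9319

section
open TensorProduct Algebra MvPolynomial Algebra.Generators

variable (P : Type) [Field P] {K L M : Type u} [Field K] [Field L] [Field M] [Algebra P K] [Algebra P L]
  [Algebra P M] [Algebra K L] [Algebra L M] [Algebra K M] [IsScalarTower K L M] [IsScalarTower P K L]
  [IsScalarTower P K M]

set_option backward.isDefEq.respectTransparency false in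
lemma δAux_natural (x : (Generators.self K L).Ring) :
    Generators.H1Cotangent.δAux P (Generators.self K M)
        ((Generators.defaultHom (Generators.self K L) (Generators.self K M)).toAlgHom x) =
      LinearMap.rTensor _ (IsScalarTower.toAlgHom K L M).toLinearMap
        (Generators.H1Cotangent.δAux P (Generators.self K L) x) := by
  induction x using MvPolynomial.induction_on with
  | C s =>
    rw [Hom.toAlgHom_C, Generators.H1Cotangent.δAux_C, Generators.H1Cotangent.δAux_C, LinearMap.rTensor_tmul]
    simp
  | add a b ha hb => simp only [map_add, ha, hb]
  | mul_X p i ih =>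
    have hX : (Generators.defaultHom (Generators.self K L) (Generators.self K M)).toAlgHom (X i) =
        X (algebraMap L M i) := by
      rw [Hom.toAlgHom_X]; rfl
    rw [map_mul, hX, Generators.H1Cotangent.δAux_mul, Generators.H1Cotangent.δAux_X,
      Generators.H1Cotangent.δAux_mul, Generators.H1Cotangent.δAux_X, ih, smul_zero, smul_zero, zero_add,
      zero_add]
    have h1 : ∀ (z : (Generators.self K L).Ring) (v : L ⊗[K] Ω[K⁄P]),
        z • v = algebraMap (Generators.self K L).Ring L z • v := fun z v =>
      (IsScalarTower.algebraMap_smul L z v).symm
    have h2 : ∀ (z : (Generators.self K M).Ring) (v : M ⊗[K] Ω[K⁄P]),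
        z • v = algebraMap (Generators.self K M).Ring M z • v := fun z v =>
      (IsScalarTower.algebraMap_smul M z v).symm
    rw [h1, h2]
    simp only [Generators.algebraMap_apply, aeval_X, Generators.self_val, id_eq]
    generalize Generators.H1Cotangent.δAux P (Generators.self K L) p = w
    induction w with
    | zero => simp
    | tmul a ω => simp [smul_tmul', Algebra.smul_def]
    | add a b ha hb => simp only [map_add, smul_add, ha, hb]

set_option backward.isDefEq.respectTransparency false in
lemma δ_natural (x : H1Cotangent K L) :
    H1Cotangent.δ P K M (H1Cotangent.map K K L M x) =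
      LinearMap.rTensor _ (IsScalarTower.toAlgHom K L M).toLinearMap (H1Cotangent.δ P K L x) := by
  obtain ⟨x, hx⟩ := x
  obtain ⟨⟨y, hy⟩, rfl⟩ := Extension.Cotangent.mk_surjective x
  show Generators.H1Cotangent.δ _ _ ⟨_, _⟩ =
    LinearMap.rTensor _ _ (Generators.H1Cotangent.δ _ _ _)
  rw [Generators.H1Cotangent.δ_eq_δAux]
  simp only [LinearMap.domRestrict_apply, Extension.Cotangent.map_mk, Generators.H1Cotangent.δ_eq_δAux]
  exact δAux_natural P y

theorem main [PerfectField P] : Function.Injective ((H1Cotangent.map K K L M).liftBaseChange M) := by
  haveI := H05EGA4.formallySmooth_of_perfectField P L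
  have hδ : Function.Injective (H1Cotangent.δ P K L) := by
    rw [injective_iff_map_eq_zero]
    intro x hx
    obtain ⟨y, rfl⟩ := (H1Cotangent.exact_map_δ P K L x).mp hx
    rw [Subsingleton.elim y 0, map_zero]
  have hK : Function.Injective ((H1Cotangent.δ P K L).baseChange M) :=
    Module.Flat.lTensor_preserves_injective_linearMap _ hδ
  have key : ∀ v : M ⊗[L] H1Cotangent K L,
      TensorProduct.AlgebraTensorModule.cancelBaseChange K L M M Ω[K⁄P] ((H1Cotangent.δ P K L).baseChange M v) =
        H1Cotangent.δ P K M ((H1Cotangent.map K K L M).liftBaseChange M v) := by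
    intro v
    induction v with
    | zero => simp only [map_zero]
    | add a b ha hb => simp only [map_add, ha, hb]
    | tmul m x =>
      rw [LinearMap.baseChange_tmul, LinearMap.liftBaseChange_tmul, map_smul, δ_natural]
      generalize H1Cotangent.δ P K L x = w
      induction w with
      | zero => simp
      | tmul a ω => simp [Algebra.smul_def, smul_tmul', mul_comm]
      | add a b ha hb => simp only [tmul_add, map_add, smul_add, ha, hb]
  intro a b hab
  apply hK
  apply (TensorProduct.AlgebraTensorModule.cancelBaseChange K L M M Ω[K⁄P]).injective
  rw [key, key, hab]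

end

open TensorProduct in
/-- For a tower of fields `K ⊆ L ⊆ M`, the first map of the Jacobi–Zariski sequence, from `H_1(L_{L/K})
⊗_L M` to `H_1(L_{M/K})`, is injective; here `H_1(L)` denotes the first homology of the naive
cotangent complex and the map is the `M`-linear extension of the functoriality map. (The rest of the
six-term sequence is exact for any three rings, so for fields it is exact with a zero on the left.) -/
theorem result {K L M : Type u} [Field K] [Field L]
    [Field M] [Algebra K L] [Algebra L M] [Algebra K M] [IsScalarTower K L M] :
    Function.Injective ((Algebra.H1Cotangent.map K K L M).liftBaseChange M) := by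
  rcases CharP.exists K with ⟨p, hp⟩
  rcases CharP.char_is_prime_or_zero K p with hp' | hp'
  · haveI := Fact.mk hp'
    haveI : CharP L p := charP_of_injective_algebraMap (algebraMap K L).injective p
    haveI : CharP M p := charP_of_injective_algebraMap (algebraMap K M).injective p
    letI := ZMod.algebra K p
    letI := ZMod.algebra L p
    letI := ZMod.algebra M p
    haveI : IsScalarTower (ZMod p) K L := IsScalarTower.of_algebraMap_eq' (Subsingleton.elim _ _)
    haveI : IsScalarTower (ZMod p) K M := IsScalarTower.of_algebraMap_eq' (Subsingleton.elim _ _)
    haveI : PerfectField (ZMod p) := PerfectField.ofFinite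
    exact main (ZMod p)
  · subst hp'
    haveI : CharZero K := CharP.charP_to_charZero K
    haveI : CharZero L := charZero_of_injective_algebraMap (algebraMap K L).injective
    haveI : CharZero M := charZero_of_injective_algebraMap (algebraMap K M).injective
    haveI : IsScalarTower ℚ K L := IsScalarTower.of_algebraMap_eq' (Subsingleton.elim _ _)
    haveI : IsScalarTower ℚ K M := IsScalarTower.of_algebraMap_eq' (Subsingleton.elim _ _)
    exact main ℚ

end Groth.Agent.S9319
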