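import Groth.Statements.S9320
import Groth.Agent.H02CA.CartierField
import Mathlib.Algebra.Field.ULift

set_option autoImplicit false
universe u
open CAlg

namespace Groth.Agent.S9320

section
open TensorProduct Algebra MvPolynomial Algebra.Generators

variable (P : Type) [Field P] {k k' K K' : Type u} [Field k] [Field k'] [Field K] [Field K']
  [Algebra P k] [Algebra P k'] [Algebra P K] [Algebra P K'] [Algebra k k'] [Algebra k K]
  [Algebra k K'] [Algebra k' K'] [Algebra K K'] [IsScalarTower k k' K'] [IsScalarTower k K K']
  [IsScalarTower P k k'] [IsScalarTower P k K] [IsScalarTower P k' K'] [IsScalarTower P K K']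

omit [Algebra k' K'] [IsScalarTower k k' K'] [IsScalarTower P k' K'] [Algebra P k'] [Algebra k k']
  [IsScalarTower P k k'] in
/-- The base change of the differentials of `k` to those of `k'`, over `K'`. -/
noncomputable def u₀ (k' : Type u) [Field k'] [Algebra P k'] [Algebra k k'] [Algebra k' K']
    [IsScalarTower k k' K'] [IsScalarTower P k k'] :
    K' ⊗[k] Ω[k⁄P] →ₗ[K'] K' ⊗[k'] Ω[k'⁄P] :=
  (KaehlerDifferential.mapBaseChange P k k').baseChange K' ∘ₗ
    (AlgebraTensorModule.cancelBaseChange k k' K' K' Ω[k⁄P]).symm.toLinearMap

lemma u₀_tmul (l : K') (ω : Ω[k⁄P]) :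
    u₀ P (K' := K') k' (l ⊗ₜ ω) = l ⊗ₜ KaehlerDifferential.map P P k k' ω := by
  simp [u₀]

set_option backward.isDefEq.respectTransparency false in
lemma δAux_natural (x : (Generators.self k K).Ring) :
    Generators.H1Cotangent.δAux P (Generators.self k' K')
        ((Generators.defaultHom (Generators.self k K) (Generators.self k' K')).toAlgHom x) =
      u₀ P k' (LinearMap.rTensor _ (IsScalarTower.toAlgHom k K K').toLinearMap
        (Generators.H1Cotangent.δAux P (Generators.self k K) x)) := by
  induction x using MvPolynomial.induction_on with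
  | C s =>
    rw [Hom.toAlgHom_C, Generators.H1Cotangent.δAux_C]
    simp [u₀_tmul, Generators.H1Cotangent.δAux_C]
  | add a b ha hb => simp only [map_add, ha, hb]
  | mul_X p i ih =>
    have hX : (Generators.defaultHom (Generators.self k K) (Generators.self k' K')).toAlgHom (X i) =
        X (algebraMap K K' i) := by
      rw [Hom.toAlgHom_X]; rfl
    rw [map_mul, hX, Generators.H1Cotangent.δAux_mul, Generators.H1Cotangent.δAux_X,
      Generators.H1Cotangent.δAux_mul, Generators.H1Cotangent.δAux_X, ih, smul_zero, smul_zero, zero_add,
      zero_add]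
    have h1 : ∀ (z : (Generators.self k K).Ring) (v : K ⊗[k] Ω[k⁄P]),
        z • v = algebraMap (Generators.self k K).Ring K z • v := fun z v =>
      (IsScalarTower.algebraMap_smul K z v).symm
    have h2 : ∀ (z : (Generators.self k' K').Ring) (v : K' ⊗[k'] Ω[k'⁄P]),
        z • v = algebraMap (Generators.self k' K').Ring K' z • v := fun z v =>
      (IsScalarTower.algebraMap_smul K' z v).symm
    rw [h1, h2]
    simp only [Generators.algebraMap_apply, aeval_X, Generators.self_val, id_eq]
    generalize Generators.H1Cotangent.δAux P (Generators.self k K) p = w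
    induction w with
    | zero => simp
    | tmul a ω => simp [u₀_tmul, smul_tmul', Algebra.smul_def]
    | add a b ha hb => simp only [map_add, smul_add, ha, hb]

set_option backward.isDefEq.respectTransparency false in
lemma δ_natural (x : H1Cotangent k K) :
    H1Cotangent.δ P k' K' (H1Cotangent.map k k' K K' x) =
      u₀ P k' (LinearMap.rTensor _ (IsScalarTower.toAlgHom k K K').toLinearMap
        (H1Cotangent.δ P k K x)) := by
  obtain ⟨x, hx⟩ := x
  obtain ⟨⟨y, hy⟩, rfl⟩ := Extension.Cotangent.mk_surjective x
  show Generators.H1Cotangent.δ _ _ ⟨_, _⟩ =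
    u₀ P k' (LinearMap.rTensor _ _ (Generators.H1Cotangent.δ _ _ _))
  rw [Generators.H1Cotangent.δ_eq_δAux]
  simp only [LinearMap.domRestrict_apply, Extension.Cotangent.map_mk, Generators.H1Cotangent.δ_eq_δAux]
  exact δAux_natural P y

lemma map_natural (ω : Ω[K⁄P]) :
    KaehlerDifferential.map k k' K K' (KaehlerDifferential.map P k K K ω) =
      KaehlerDifferential.map P k' K' K' (KaehlerDifferential.map P P K K' ω) := by
  have hω : ω ∈ Submodule.span K (Set.range (KaehlerDifferential.D P K)) :=
    KaehlerDifferential.span_range_derivation P K ▸ trivial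
  induction hω using Submodule.span_induction with
  | mem x hx =>
    obtain ⟨a, rfl⟩ := hx
    simp only [KaehlerDifferential.map_D, Algebra.algebraMap_self, RingHom.id_apply]
  | zero => simp only [map_zero]
  | add x y _ _ hx hy => simp only [map_add, hx, hy]
  | smul a x _ hx => simp only [map_smul, LinearMap.map_smul_of_tower, hx]

open Groth.Agent.H02CA.CartierField in
theorem main [PerfectField P] [IsScalarTower P k K'] [Algebra.EssFiniteType k k']
    [Algebra.EssFiniteType K K'] :
    Module.Finite K' (LinearMap.ker ((KaehlerDifferential.map k k' K K').liftBaseChange K')) ∧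
      Module.Finite K' (Ω[K'⁄k'] ⧸ LinearMap.range ((KaehlerDifferential.map k k' K K').liftBaseChange K')) ∧
      Module.Finite K' (LinearMap.ker ((Algebra.H1Cotangent.map k k' K K').liftBaseChange K')) ∧
      Module.Finite K' (Algebra.H1Cotangent k' K' ⧸ LinearMap.range ((Algebra.H1Cotangent.map k k' K K').liftBaseChange K')) ∧
      ((Module.finrank K' (LinearMap.ker ((KaehlerDifferential.map k k' K K').liftBaseChange K')) : ℤ)
          - Module.finrank K' (Ω[K'⁄k'] ⧸ LinearMap.range ((KaehlerDifferential.map k k' K K').liftBaseChange K'))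
          - Module.finrank K' (LinearMap.ker ((Algebra.H1Cotangent.map k k' K K').liftBaseChange K'))
          + Module.finrank K' (Algebra.H1Cotangent k' K' ⧸ LinearMap.range ((Algebra.H1Cotangent.map k k' K K').liftBaseChange K'))
        = (Cardinal.toNat (Algebra.trdeg k k') : ℤ) - Cardinal.toNat (Algebra.trdeg K K')) := by
  haveI := H05EGA4.formallySmooth_of_perfectField P K
  haveI := H05EGA4.formallySmooth_of_perfectField P K'
  have hδ : Function.Injective (H1Cotangent.δ P k K) := by
    rw [injective_iff_map_eq_zero]
    intro x hx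
    obtain ⟨y, rfl⟩ := (H1Cotangent.exact_map_δ P k K x).mp hx
    rw [Subsingleton.elim y 0, map_zero]
  have hδ' : Function.Injective (H1Cotangent.δ P k' K') := by
    rw [injective_iff_map_eq_zero]
    intro x hx
    obtain ⟨y, rfl⟩ := (H1Cotangent.exact_map_δ P k' K' x).mp hx
    rw [Subsingleton.elim y 0, map_zero]
  let c := AlgebraTensorModule.cancelBaseChange k K K' K' Ω[k⁄P]
  let ι := c.toLinearMap ∘ₗ (H1Cotangent.δ P k K).baseChange K'
  let d := (KaehlerDifferential.mapBaseChange P k K).baseChange K' ∘ₗ c.symm.toLinearMap
  let π := (KaehlerDifferential.map P k K K).baseChange K'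
  have hι : Function.Injective ι :=
    c.injective.comp (Module.Flat.lTensor_preserves_injective_linearMap _ hδ)
  have hιd : Function.Exact ι d := by
    intro x
    refine (Module.Flat.lTensor_exact K' (H1Cotangent.exact_δ_mapBaseChange P k K) (c.symm x)).trans ?_
    constructor
    · rintro ⟨y, hy⟩
      refine ⟨y, ?_⟩
      show c ((H1Cotangent.δ P k K).baseChange K' y) = x
      exact (congrArg c hy).trans (c.apply_symm_apply x)
    · rintro ⟨y, rfl⟩
      exact ⟨y, (c.symm_apply_apply _).symm⟩
  have hdπ : Function.Exact d π := by
    intro x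
    refine (lTensor_exact K' (KaehlerDifferential.exact_mapBaseChange_map P k K)
      (KaehlerDifferential.map_surjective P k K) x).trans ?_
    constructor
    · rintro ⟨y, rfl⟩
      exact ⟨c y, congrArg ((KaehlerDifferential.mapBaseChange P k K).baseChange K') (c.symm_apply_apply y)⟩
    · rintro ⟨y, rfl⟩
      exact ⟨c.symm y, rfl⟩
  have hπ : Function.Surjective π :=
    LinearMap.lTensor_surjective K' (KaehlerDifferential.map_surjective P k K)
  obtain ⟨hvk, hvc, hv⟩ := index_fg_field P K K'
  obtain ⟨h0k, h0c, h0⟩ := index_fg_field P k k'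
  obtain ⟨hbk, hbc, hb⟩ := index_baseChange K' (KaehlerDifferential.mapBaseChange P k k')
  let e := (AlgebraTensorModule.cancelBaseChange k k' K' K' Ω[k⁄P]).symm
  haveI := hbk
  haveI := hbc
  haveI : FiniteDimensional K' (LinearMap.ker e.toLinearMap) := by
    rw [LinearEquiv.ker]; infer_instance
  haveI : FiniteDimensional K' ((K' ⊗[k'] (k' ⊗[k] Ω[k⁄P])) ⧸ LinearMap.range e.toLinearMap) := by
    rw [LinearEquiv.range]; infer_instance
  have huk : FiniteDimensional K' (LinearMap.ker (u₀ P (k := k) (K' := K') k')) := by
    rw [u₀, LinearMap.ker_comp]; infer_instance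
  have huc : FiniteDimensional K' ((K' ⊗[k'] Ω[k'⁄P]) ⧸ LinearMap.range (u₀ P (k := k) (K' := K') k')) := by
    rw [u₀, LinearEquiv.range_comp]; infer_instance
  have hu : (u₀ P (k := k) (K' := K') k').index = -(Cardinal.toNat (Algebra.trdeg k k') : ℤ) := by
    rw [u₀, LinearMap.index_comp, hb, h0, LinearEquiv.index_eq_zero, add_zero]
  obtain ⟨r1, r2, r3, r4, r5⟩ := index_complex ι d π (H1Cotangent.δ P k' K')
    (KaehlerDifferential.mapBaseChange P k' K') (KaehlerDifferential.map P k' K' K')
    ((Algebra.H1Cotangent.map k k' K K').liftBaseChange K') (u₀ P k')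
    (KaehlerDifferential.mapBaseChange P K K') ((KaehlerDifferential.map k k' K K').liftBaseChange K')
    hι hιd hdπ hπ hδ' (H1Cotangent.exact_δ_mapBaseChange P k' K')
    (KaehlerDifferential.exact_mapBaseChange_map P k' K') (KaehlerDifferential.map_surjective P k' K')
    (fun x => by
      induction x with
      | zero => simp only [map_zero]
      | add a b ha hb => simp only [map_add, ha, hb]
      | tmul m x =>
        rw [LinearMap.liftBaseChange_tmul, map_smul, δ_natural, LinearMap.comp_apply,
          LinearMap.baseChange_tmul]
        generalize H1Cotangent.δ P k K x = w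
        induction w with
        | zero => simp
        | add a b ha hb => simp only [tmul_add, map_add, smul_add, ha, hb]
        | tmul a ω => simp [c, u₀_tmul, Algebra.smul_def, smul_tmul', mul_comm])
    (fun x => by
      induction x with
      | zero => simp only [map_zero]
      | add a b ha hb => simp only [map_add, ha, hb]
      | tmul m ω =>
        rw [u₀_tmul, KaehlerDifferential.mapBaseChange_tmul]
        simp only [d, c, LinearMap.comp_apply, LinearEquiv.coe_coe,
          AlgebraTensorModule.cancelBaseChange_symm_tmul, LinearMap.baseChange_tmul,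
          KaehlerDifferential.mapBaseChange_tmul, one_smul, H05EGA4.CotIdx.map_map])
    (fun x => by
      induction x with
      | zero => simp only [map_zero]
      | add a b ha hb => simp only [map_add, ha, hb]
      | tmul m ω =>
        rw [LinearMap.baseChange_tmul, LinearMap.liftBaseChange_tmul,
          KaehlerDifferential.mapBaseChange_tmul, map_smul, map_natural])
    huk huc hvk hvc
  refine ⟨r3, r4, r1, r2, ?_⟩
  rw [hv, hu] at r5
  simp only [LinearMap.index_eq_finrank_sub] at r5
  omega

end


open TensorProduct in
/-- Consider a commutative square of fields with maps `k → K`, `k → k'`, `k' → K'` and `K → K'`, where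
`k'` is a finitely generated field extension of `k` and `K'` is a finitely generated field extension
of `K`. Let `α : Ω_{K/k} ⊗_K K' → Ω_{K'/k'}` and `β : H_1(L_{K/k}) ⊗_K K' → H_1(L_{K'/k'})` be the
comparison maps (`H_1(L)` the first homology of the naive cotangent complex). Then the kernels and
cokernels of `α` and `β` are finite-dimensional `K'`-vector spaces, and the difference of
transcendence degrees trdeg_k(k') − trdeg_K(K') equals (dim Ker α + dim Coker β) − (dim Coker α +
dim Ker β). -/
theorem result {k k' K K' : Type u} [Field k] [Field k']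
    [Field K] [Field K'] [Algebra k k'] [Algebra k K] [Algebra k K'] [Algebra k' K'] [Algebra K K']
    [IsScalarTower k k' K'] [IsScalarTower k K K']
    [Algebra.EssFiniteType k k'] [Algebra.EssFiniteType K K'] :
    Module.Finite K' (LinearMap.ker ((KaehlerDifferential.map k k' K K').liftBaseChange K')) ∧
      Module.Finite K' (Ω[K'⁄k'] ⧸ LinearMap.range ((KaehlerDifferential.map k k' K K').liftBaseChange K')) ∧
      Module.Finite K' (LinearMap.ker ((Algebra.H1Cotangent.map k k' K K').liftBaseChange K')) ∧
      Module.Finite K' (Algebra.H1Cotangent k' K' ⧸ LinearMap.range ((Algebra.H1Cotangent.map k k' K K').liftBaseChange K')) ∧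
      ((Module.finrank K' (LinearMap.ker ((KaehlerDifferential.map k k' K K').liftBaseChange K')) : ℤ)
          - Module.finrank K' (Ω[K'⁄k'] ⧸ LinearMap.range ((KaehlerDifferential.map k k' K K').liftBaseChange K'))
          - Module.finrank K' (LinearMap.ker ((Algebra.H1Cotangent.map k k' K K').liftBaseChange K'))
          + Module.finrank K' (Algebra.H1Cotangent k' K' ⧸ LinearMap.range ((Algebra.H1Cotangent.map k k' K K').liftBaseChange K'))
        = (Cardinal.toNat (Algebra.trdeg k k') : ℤ) - Cardinal.toNat (Algebra.trdeg K K')) := by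
  rcases CharP.exists k with ⟨p, hp⟩
  haveI hk' : CharP k' p := charP_of_injective_algebraMap (algebraMap k k').injective p
  haveI hK : CharP K p := charP_of_injective_algebraMap (algebraMap k K).injective p
  haveI hK' : CharP K' p := charP_of_injective_algebraMap (algebraMap k K').injective p
  rcases CharP.char_is_prime_or_zero k p with hp' | hp'
  · haveI := Fact.mk hp'
    letI := ZMod.algebra k p
    letI := ZMod.algebra k' p
    letI := ZMod.algebra K p
    letI := ZMod.algebra K' p
    haveI : IsScalarTower (ZMod p) k k' := IsScalarTower.of_algebraMap_eq' (Subsingleton.elim _ _)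
    haveI : IsScalarTower (ZMod p) k K := IsScalarTower.of_algebraMap_eq' (Subsingleton.elim _ _)
    haveI : IsScalarTower (ZMod p) k K' := IsScalarTower.of_algebraMap_eq' (Subsingleton.elim _ _)
    haveI : IsScalarTower (ZMod p) k' K' := IsScalarTower.of_algebraMap_eq' (Subsingleton.elim _ _)
    haveI : IsScalarTower (ZMod p) K K' := IsScalarTower.of_algebraMap_eq' (Subsingleton.elim _ _)
    haveI : PerfectField (ZMod p) := PerfectField.ofFinite
    exact main (ZMod p)
  · subst hp'
    haveI : CharZero k := CharP.charP_to_charZero k
    haveI : CharZero k' := CharP.charP_to_charZero k'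
    haveI : CharZero K := CharP.charP_to_charZero K
    haveI : CharZero K' := CharP.charP_to_charZero K'
    haveI : IsScalarTower ℚ k k' := IsScalarTower.of_algebraMap_eq' (Subsingleton.elim _ _)
    haveI : IsScalarTower ℚ k K := IsScalarTower.of_algebraMap_eq' (Subsingleton.elim _ _)
    haveI : IsScalarTower ℚ k K' := IsScalarTower.of_algebraMap_eq' (Subsingleton.elim _ _)
    haveI : IsScalarTower ℚ k' K' := IsScalarTower.of_algebraMap_eq' (Subsingleton.elim _ _)
    haveI : IsScalarTower ℚ K K' := IsScalarTower.of_algebraMap_eq' (Subsingleton.elim _ _)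
    exact main ℚ

end Groth.Agent.S9320
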