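import Groth.Statements.S9321
import Groth.Agent.H02CA.AdicSmooth
import Groth.Agent.H05EGA4.CohenSmooth

set_option autoImplicit false
open CAlg

namespace Groth.Agent.S9321

/-- Let `K` be a field of characteristic zero and `n ≥ 0`. Then `ℚ → K[[x_1, …, x_n]]` is formally
smooth for the adic topology of the maximal ideal of the power series ring. (`K` is taken in the
lowest universe, where `ℚ` lives.) -/
theorem result (K : Type) [Field K] [CharZero K] (n : ℕ) :
    CAlgX.IsAdicFormallySmooth ℚ (MvPowerSeries (Fin n) K)
      (IsLocalRing.maximalIdeal (MvPowerSeries (Fin n) K)) := by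
  haveI := H05EGA4.formallySmooth_of_perfectField ℚ K
  refine H02CA.AdicSmooth.mvPowerSeries _ (fun i => ?_) fun A _ _ J hJ ψ _ =>
    Algebra.FormallySmooth.comp_surjective ℚ K J hJ ψ
  rw [IsLocalRing.mem_maximalIdeal, mem_nonunits_iff, MvPowerSeries.isUnit_iff_constantCoeff,
    MvPowerSeries.constantCoeff_X]
  exact not_isUnit_zero

end Groth.Agent.S9321
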