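import Groth.Statements.S9323
import Groth.Agent.H02CA.AdicSmooth
import Groth.Agent.H05EGA4.CohenStructure

set_option autoImplicit false
open CAlg

namespace Groth.Agent.S9323

/-- Let `Λ` be a Cohen ring (a complete discrete valuation ring whose maximal ideal is generated by a
prime number) and `n ≥ 0`. Then `ℤ → Λ[[x_1, …, x_n]]` is formally smooth for the adic topology of
the maximal ideal of the power series ring. (`Λ` is taken in the lowest universe, where `ℤ` lives.) -/
theorem result (Λ : Type) [CommRing Λ] [IsLocalRing Λ]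
    (hΛ : CAlg.IsCohenRing Λ) (n : ℕ) :
    CAlgX.IsAdicFormallySmooth ℤ (MvPowerSeries (Fin n) Λ)
      (IsLocalRing.maximalIdeal (MvPowerSeries (Fin n) Λ)) := by
  obtain ⟨_, _, hc, p, hp, hmax⟩ := id hΛ
  haveI := Fact.mk hp
  have hne : Ideal.span {(p : Λ)} ≠ ⊤ := by
    intro h
    have hu : IsUnit (p : Λ) := Ideal.span_singleton_eq_top.mp h
    exact (IsLocalRing.maximalIdeal.isMaximal Λ).ne_top (hmax ▸ h)
  have hpΛ : (p : Λ) ∈ IsLocalRing.maximalIdeal Λ := by
    rw [IsLocalRing.mem_maximalIdeal, mem_nonunits_iff, ← Ideal.span_singleton_eq_top]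
    exact hne
  refine H02CA.AdicSmooth.mvPowerSeries _ (fun i => ?_) ?_
  · rw [IsLocalRing.mem_maximalIdeal, mem_nonunits_iff, MvPowerSeries.isUnit_iff_constantCoeff,
      MvPowerSeries.constantCoeff_X]
    exact not_isUnit_zero
  · intro A _ _ J hJ ψ ⟨k, hk⟩
    have hpC : IsNilpotent (p : A) := by
      refine ⟨k * 2, ?_⟩
      have h1 : algebraMap Λ (MvPowerSeries (Fin n) Λ) (p : Λ) ∈
          IsLocalRing.maximalIdeal (MvPowerSeries (Fin n) Λ) := by
        rw [IsLocalRing.mem_maximalIdeal, mem_nonunits_iff, MvPowerSeries.isUnit_iff_constantCoeff]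
        simpa [MvPowerSeries.algebraMap_apply] using (IsLocalRing.mem_maximalIdeal _).mp hpΛ
      have h2 : ψ ((p : Λ) ^ k) = 0 := hk _ (by rw [map_pow]; exact Ideal.pow_mem_pow h1 k)
      rw [map_pow, map_natCast, ← map_natCast (Ideal.Quotient.mk J), ← map_pow,
        Ideal.Quotient.eq_zero_iff_mem] at h2
      rw [pow_mul]
      exact Ideal.mem_bot.mp (hJ ▸ Ideal.pow_mem_pow h2 2)
    obtain ⟨v, hv⟩ := H05EGA4.exists_lift_of_isCohenRing hΛ p hne J ⟨2, hJ⟩ hpC ψ.toRingHom
    exact ⟨{ v with commutes' := fun r => by simp }, AlgHom.ext fun x => RingHom.congr_fun hv x⟩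

end Groth.Agent.S9323
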