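import Groth.Statements.S9325
import Mathlib

set_option autoImplicit false
universe u
open CAlg

namespace Groth.Agent.S9325

/-- Let `A` be a ring and `I ⊆ J` ideals of `A` such that the ideal `J/I` of `A/I` is `H_1`-regular: for
every prime `𝔮` of `A/I` containing `J/I` there is `g ∉ 𝔮` such that the extension of `J/I` to
`(A/I)_g` is generated by an `H_1`-regular sequence (a finite sequence all of whose linear relations
are combinations of the trivial ones). Then `I ∩ J² = I J`. -/
theorem result {A : Type u} [CommRing A] (I J : Ideal A)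
    (hIJ : I ≤ J)
    (h : ∀ (𝔮 : Ideal (A ⧸ I)) [𝔮.IsPrime], J.map (Ideal.Quotient.mk I) ≤ 𝔮 →
      ∃ g : A ⧸ I, g ∉ 𝔮 ∧ ∃ (c : ℕ) (f : Fin c → Localization.Away g),
        CAlgX.IsH1Regular f ∧
          Ideal.span (Set.range f) =
            (J.map (Ideal.Quotient.mk I)).map (algebraMap (A ⧸ I) (Localization.Away g))) :
    I ⊓ J ^ 2 = I * J := by
  classical
  refine le_antisymm (fun x hx => ?_) (le_inf Ideal.mul_le_left ?_)
  swap
  · rw [pow_two]; exact Ideal.mul_mono_left hIJ
  obtain ⟨hxI, hxJ⟩ := hx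
  let K : Ideal A := (I * J).colon ({x} : Set A)
  suffices hK : K = ⊤ by
    have := Submodule.mem_colon_singleton.mp ((Ideal.eq_top_iff_one K).mp hK)
    simpa using this
  by_contra hK
  obtain ⟨m, hm, hKm⟩ := Ideal.exists_le_maximal K hK
  have notK : ∀ a : A, a * x ∈ I * J → a ∈ m := fun a ha =>
    hKm (Submodule.mem_colon_singleton.mpr ha)
  have hJm : J ≤ m := fun j hj => notK j (mul_comm j x ▸ Ideal.mul_mem_mul hxI hj)
  let π := Ideal.Quotient.mk I
  let 𝔮 := m.map π
  have h𝔮 : 𝔮.IsPrime := Ideal.map_isPrime_of_surjective Ideal.Quotient.mk_surjective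
    (by rw [Ideal.mk_ker]; exact hIJ.trans hJm)
  obtain ⟨g, hg, c, f, hf, hspan⟩ := h 𝔮 (Ideal.map_mono hJm)
  obtain ⟨g, rfl⟩ := Ideal.Quotient.mk_surjective g
  have hgm : g ∉ m := fun h' => hg (Ideal.mem_map_of_mem π h')
  let L := Localization.Away (π g)
  let η : A →+* L := (algebraMap (A ⧸ I) L).comp π
  have hηu : IsUnit (η g) := IsLocalization.Away.algebraMap_isUnit (S := L) (π g)
  have hη0 : ∀ a, η a = 0 → ∃ n : ℕ, g ^ n * a ∈ I := by
    intro a ha
    obtain ⟨⟨_, n, rfl⟩, hn⟩ := (IsLocalization.map_eq_zero_iff (Submonoid.powers (π g)) L _).mp ha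
    exact ⟨n, Ideal.Quotient.eq_zero_iff_mem.mp (by rw [map_mul, map_pow]; exact hn)⟩
  have hsurj : ∀ z : L, ∃ (n : ℕ) (a : A), η g ^ n * z = η a := by
    intro z
    obtain ⟨⟨b, _, n, rfl⟩, hb⟩ := IsLocalization.surj (Submonoid.powers (π g)) z
    obtain ⟨a, rfl⟩ := Ideal.Quotient.mk_surjective b
    exact ⟨n, a, by rw [mul_comm]; simpa [η, π] using hb⟩
  have hf' : ∀ i, f i ∈ (J.map π).map (algebraMap (A ⧸ I) L) := fun i =>
    hspan ▸ Ideal.subset_span ⟨i, rfl⟩
  have hrep : ∀ i, ∃ (n : ℕ) (y : A), y ∈ J ∧ η g ^ n * f i = η y := by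
    intro i
    obtain ⟨⟨⟨b, hb⟩, _, n, rfl⟩, hbe⟩ :=
      (IsLocalization.mem_map_algebraMap_iff (Submonoid.powers (π g)) L).mp (hf' i)
    obtain ⟨a, ha, rfl⟩ := (Ideal.mem_map_iff_of_surjective π Ideal.Quotient.mk_surjective).mp hb
    exact ⟨n, a, ha, by rw [mul_comm]; simpa [η, π] using hbe⟩
  choose n y hy hye using hrep
  let k := ∑ i, n i
  let w : Fin c → A := fun i => g ^ (k - n i) * y i
  have hw : ∀ i, w i ∈ J := fun i => J.mul_mem_left _ (hy i)
  have hwe : ∀ i, η (w i) = η g ^ k * f i := fun i => by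
    simp only [w]
    rw [map_mul, map_pow, ← hye, ← mul_assoc, ← pow_add,
      Nat.sub_add_cancel (Finset.single_le_sum (fun i _ => Nat.zero_le (n i)) (Finset.mem_univ i))]
  -- everything in `J` is a combination of the `w i` modulo `I`, up to powers of `g`
  have hgen : ∀ j ∈ J, ∃ (N : ℕ) (s : Fin c → A), g ^ N * j - ∑ i, s i * w i ∈ I := by
    intro j hj
    have : η j ∈ Ideal.span (Set.range f) :=
      hspan ▸ Ideal.mem_map_of_mem _ (Ideal.mem_map_of_mem π hj)
    obtain ⟨a, ha⟩ := (Submodule.mem_span_range_iff_exists_fun L).mp this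
    choose N s hs using fun i => hsurj (a i)
    let M := ∑ i, N i
    obtain ⟨n', hn'⟩ := hη0 (g ^ (M + k) * j - ∑ i, (g ^ (M - N i) * s i) * w i) (by
      rw [map_sub, map_mul, map_pow, map_sum, sub_eq_zero, ← ha, Finset.mul_sum]
      refine Finset.sum_congr rfl fun i _ => ?_
      rw [map_mul, map_mul, map_pow, hwe, ← hs, smul_eq_mul, ← mul_assoc (η g ^ (M - N i)),
        ← pow_add, Nat.sub_add_cancel
          (Finset.single_le_sum (fun i _ => Nat.zero_le (N i)) (Finset.mem_univ i)), pow_add]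
      ring)
    refine ⟨n' + (M + k), fun i => g ^ n' * (g ^ (M - N i) * s i), ?_⟩
    convert hn' using 1
    rw [mul_sub, Finset.mul_sum]
    congr 1
    · ring
    · exact Finset.sum_congr rfl fun i _ => by ring
  -- elements of `J ^ 2`
  have hsq : ∀ z ∈ J ^ 2, ∃ (N : ℕ) (a : Fin c → A),
      (∀ i, a i ∈ J) ∧ g ^ N * z - ∑ i, a i * w i ∈ I * J := by
    intro z hz
    rw [pow_two] at hz
    induction hz using Submodule.mul_induction_on' with
    | mem_mul_mem p hp q hq =>
      obtain ⟨N, s, hs⟩ := hgen q hq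
      refine ⟨N, fun i => p * s i, fun i => J.mul_mem_right _ hp, ?_⟩
      have := Ideal.mul_mem_mul hs hp
      convert this using 1
      rw [sub_mul, Finset.sum_mul]
      congr 1
      · ring
      · exact Finset.sum_congr rfl fun i _ => by ring
    | add p _ q _ hp hq =>
      obtain ⟨N, a, ha, hp⟩ := hp
      obtain ⟨M, b, hb, hq⟩ := hq
      refine ⟨N + M, fun i => g ^ M * a i + g ^ N * b i,
        fun i => add_mem (J.mul_mem_left _ (ha i)) (J.mul_mem_left _ (hb i)), ?_⟩
      convert add_mem ((I * J).mul_mem_left (g ^ M) hp) ((I * J).mul_mem_left (g ^ N) hq) using 1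
      simp only [add_mul, Finset.sum_add_distrib, mul_sub, Finset.mul_sum, mul_assoc]
      rw [pow_add]; ring
  obtain ⟨N, a, haJ, ha⟩ := hsq x hxJ
  let P : (Fin c → L) → Prop := fun b => ∃ (M : ℕ) (b' : Fin c → A),
    (∀ i, η (b' i) = η g ^ M * b i) ∧ ∑ i, b' i * w i ∈ I * J
  have hP : P fun i => η (a i) := by
    have hrel : ∑ i, η (a i) * f i = 0 := by
      refine (hηu.pow k).mul_right_eq_zero.mp ?_
      have h0 : η (∑ i, a i * w i) = 0 := by
        change algebraMap (A ⧸ I) L (π _) = 0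
        refine (congrArg (algebraMap (A ⧸ I) L) (Ideal.Quotient.eq_zero_iff_mem.mpr ?_)).trans
          (map_zero _)
        have := sub_mem (I.mul_mem_left (g ^ N) hxI) (Ideal.mul_le_left ha)
        simpa using this
      rw [Finset.mul_sum, ← h0, map_sum]
      exact Finset.sum_congr rfl fun i _ => by rw [map_mul, hwe]; ring
    have := hf _ hrel
    generalize (fun i => η (a i)) = v at this ⊢
    induction this using Submodule.span_induction with
    | mem v hv =>
      obtain ⟨i, j, rfl⟩ := hv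
      refine ⟨k, Pi.single i (w j) - Pi.single j (w i), fun l => ?_, ?_⟩
      · simp only [Pi.sub_apply, Pi.single_apply, map_sub, mul_sub]
        split_ifs <;> simp [hwe]
      · have : ∑ l, (Pi.single i (w j) - Pi.single j (w i) : Fin c → A) l * w l = 0 := by
          simp only [Pi.sub_apply, sub_mul, Finset.sum_sub_distrib, Pi.single_apply, ite_mul,
            zero_mul, Finset.sum_ite_eq', Finset.mem_univ, if_true]
          ring
        rw [this]; exact zero_mem _
    | zero => exact ⟨0, 0, fun i => by simp, by simp⟩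
    | add u v _ _ hu hv =>
      obtain ⟨M, b, hb, hb'⟩ := hu
      obtain ⟨M', d, hd, hd'⟩ := hv
      refine ⟨M + M', fun i => g ^ M' * b i + g ^ M * d i, fun i => ?_, ?_⟩
      · rw [map_add, map_mul, map_mul, map_pow, map_pow, hb, hd, Pi.add_apply, pow_add]; ring
      · convert add_mem ((I * J).mul_mem_left (g ^ M') hb') ((I * J).mul_mem_left (g ^ M) hd') using 1
        simp only [add_mul, Finset.sum_add_distrib, Finset.mul_sum, mul_assoc]
    | smul r v _ hv =>
      obtain ⟨M, b, hb, hb'⟩ := hv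
      obtain ⟨l, r', hr⟩ := hsurj r
      refine ⟨l + M, fun i => r' * b i, fun i => ?_, ?_⟩
      · rw [map_mul, ← hr, hb, Pi.smul_apply, smul_eq_mul, pow_add]; ring
      · convert (I * J).mul_mem_left r' hb' using 1
        simp only [Finset.mul_sum, mul_assoc]
  obtain ⟨M, b, hb, hb'⟩ := hP
  choose e he using fun i => hη0 (g ^ M * a i - b i) (by rw [map_sub, map_mul, map_pow, hb, sub_self])
  let E := ∑ i, e i
  have hfin : g ^ (E + M + N) * x ∈ I * J := by
    have h1 : ∑ i, g ^ E * (g ^ M * a i - b i) * w i ∈ I * J :=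
      Submodule.sum_mem _ fun i _ => Ideal.mul_mem_mul (by
        have : g ^ E = g ^ (E - e i) * g ^ e i := by
          rw [← pow_add, Nat.sub_add_cancel
            (Finset.single_le_sum (fun i _ => Nat.zero_le (e i)) (Finset.mem_univ i))]
        rw [this, mul_assoc]
        exact I.mul_mem_left _ (he i)) (hw i)
    have h2 := add_mem (add_mem ((I * J).mul_mem_left (g ^ (E + M)) ha) h1)
      ((I * J).mul_mem_left (g ^ E) hb')
    convert h2 using 1
    simp only [mul_sub, sub_mul, Finset.mul_sum, Finset.sum_sub_distrib, pow_add]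
    rw [show ∑ i, g ^ E * (g ^ M * a i) * w i = ∑ i, g ^ E * g ^ M * (a i * w i) from
      Finset.sum_congr rfl fun i _ => by ring,
      show ∑ i, g ^ E * b i * w i = ∑ i, g ^ E * (b i * w i) from
      Finset.sum_congr rfl fun i _ => by ring]
    ring
  exact hgm (hm.isPrime.mem_of_pow_mem _ (notK _ hfin))

end Groth.Agent.S9325
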