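import Groth.Statements.S9326
import Mathlib.Topology.Algebra.Nonarchimedean.Basic
import Mathlib.Topology.Algebra.InfiniteSum.Nonarchimedean
import Mathlib.Topology.GDelta.Basic

set_option autoImplicit false
universe u
open CAlg

namespace Groth.Agent.S9326
open Filter
open scoped Topology


/-- Let `u : N → M` be a continuous homomorphism of topological abelian groups. Assume `M` is Hausdorff
and `N` is Hausdorff and complete, linearly topologized (every neighbourhood of zero contains an
open subgroup) and first countable (zero has a countable basis of neighbourhoods). Then exactly one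
of two things holds: `u` is an open map; or there is an open subgroup of `N` whose image is nowhere
dense in `M`. -/
theorem result {N M : Type u} [AddCommGroup N]
    [AddCommGroup M] [UniformSpace N] [IsUniformAddGroup N] [TopologicalSpace M]
    [IsTopologicalAddGroup M] [T2Space M] [T2Space N] [CompleteSpace N] [NonarchimedeanAddGroup N]
    [FirstCountableTopology N] (u : N →+ M) (hu : Continuous u) :
    Xor (IsOpenMap u) (∃ V : OpenAddSubgroup N, IsNowhereDense (u '' (V : Set N))) := by
  by_cases H : ∃ V : OpenAddSubgroup N, IsNowhereDense (u '' (V : Set N))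
  · refine Or.inr ⟨H, fun ho => ?_⟩
    obtain ⟨V, hV⟩ := H
    have h : u 0 ∈ interior (closure (u '' (V : Set N))) :=
      interior_mono subset_closure ((ho _ V.isOpen).interior_eq.symm ▸ Set.mem_image_of_mem u V.zero_mem)
    rw [hV] at h
    exact h
  refine Or.inl ⟨?_, H⟩
  let Cl : AddSubgroup N → AddSubgroup M := fun V => (V.map u).topologicalClosure
  have hCl : ∀ V : AddSubgroup N, (Cl V : Set M) = closure (u '' (V : Set N)) := fun V => by
    simp [Cl, AddSubgroup.topologicalClosure_coe]
  have hopen : ∀ V : OpenAddSubgroup N, IsOpen (Cl V.toAddSubgroup : Set M) := fun V => by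
    have h : (interior (closure (u '' (V : Set N)))).Nonempty :=
      Set.nonempty_iff_ne_empty.mpr fun h => H ⟨V, h⟩
    obtain ⟨z, hz⟩ := h
    refine AddSubgroup.isOpen_of_mem_nhds _ (g := z) ?_
    rw [hCl]
    exact mem_interior_iff_mem_nhds.mp hz
  have key : ∀ V : OpenAddSubgroup N, (Cl V.toAddSubgroup : Set M) ⊆ u '' (V : Set N) := by
    intro V y hy
    obtain ⟨b, hb, -⟩ := (𝓝 (0 : N)).exists_antitone_basis
    choose W hW using fun n => NonarchimedeanAddGroup.is_nonarchimedean (b n) (hb.mem_of_mem trivial)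
    let Vs : ℕ → OpenAddSubgroup N := Nat.rec V fun n P => P ⊓ W n
    have hanti : Antitone Vs := antitone_nat_of_succ_le fun n => inf_le_left
    have hsub : ∀ O ∈ 𝓝 (0 : N), ∃ m, ∀ z ∈ Vs m, z ∈ O := fun O hO => by
      obtain ⟨n, -, hn⟩ := hb.mem_iff.mp hO
      exact ⟨n + 1, fun z hz => hn (hW n hz.2)⟩
    have hstep : ∀ n r, r ∈ Cl (Vs n).toAddSubgroup →
        ∃ x ∈ Vs n, r - u x ∈ Cl (Vs (n + 1)).toAddSubgroup := by
      intro n r hr
      rw [← SetLike.mem_coe, hCl, mem_closure_iff] at hr
      obtain ⟨_, hy', x, hx, rfl⟩ := hr ((fun z => r - z) ⁻¹' (Cl (Vs (n + 1)).toAddSubgroup : Set M))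
        ((hopen _).preimage (continuous_const.sub continuous_id)) (by simp)
      exact ⟨x, hx, hy'⟩
    choose! g hg hg' using hstep
    let r : ℕ → M := Nat.rec y fun n a => a - u (g n a)
    have hr : ∀ n, r n ∈ Cl (Vs n).toAddSubgroup := fun n => Nat.rec hy (fun n ih => hg' n (r n) ih) n
    let s : ℕ → N := Nat.rec 0 fun n a => a + g n (r n)
    have hs : ∀ n, y - u (s n) = r n := fun n => by
      induction n with
      | zero => show y - u 0 = y; rw [map_zero, sub_zero]
      | succ n ih =>
        show y - u (s n + g n (r n)) = r n - u (g n (r n))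
        rw [map_add, ← ih, sub_add_eq_sub_sub]
    have hsV : ∀ n, s n ∈ V := fun n => by
      induction n with
      | zero => exact V.zero_mem
      | succ n ih => exact V.add_mem ih (hanti (Nat.zero_le n) (hg n _ (hr n)))
    have hc : CauchySeq s := by
      refine NonarchimedeanAddGroup.cauchySeq_of_tendsto_sub_nhds_zero ?_
      intro O hO
      obtain ⟨m, hm⟩ := hsub O hO
      refine Filter.mem_map.mpr (Filter.mem_atTop_sets.mpr ⟨m, fun n hn => hm _ (hanti hn ?_)⟩)
      show s n + g n (r n) - s n ∈ Vs n
      rw [add_sub_cancel_left]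
      exact hg n _ (hr n)
    obtain ⟨l, hl⟩ := cauchySeq_tendsto_of_complete hc
    refine ⟨l, V.isClosed.mem_of_tendsto hl (Filter.Eventually.of_forall hsV), ?_⟩
    by_contra hne
    have hz : y - u l ≠ 0 := sub_ne_zero.mpr (Ne.symm hne)
    obtain ⟨O, hO, hOc, hOsub⟩ := exists_mem_nhds_isClosed_subset
      (isOpen_compl_singleton.mem_nhds (Ne.symm hz) : ({y - u l}ᶜ : Set M) ∈ 𝓝 (0 : M))
    obtain ⟨m, hm⟩ := hsub (u ⁻¹' O) (hu.continuousAt.preimage_mem_nhds (by rw [map_zero]; exact hO))
    have hle : (Cl (Vs m).toAddSubgroup : Set M) ⊆ O := by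
      rw [hCl]
      exact closure_minimal (Set.image_subset_iff.mpr fun z hz => hm z hz) hOc
    have hlim : Filter.Tendsto (fun n => y - u (s n)) Filter.atTop (𝓝 (y - u l)) :=
      tendsto_const_nhds.sub ((hu.tendsto l).comp hl)
    have hmem : y - u l ∈ (Cl (Vs m).toAddSubgroup : Set M) :=
      (AddSubgroup.isClosed_topologicalClosure _).mem_of_tendsto hlim
        (Filter.eventually_atTop.mpr ⟨m, fun n hn => by
          rw [hs]
          refine (?_ : Cl (Vs n).toAddSubgroup ≤ Cl (Vs m).toAddSubgroup) (hr n)
          exact AddSubgroup.topologicalClosure_mono (AddSubgroup.map_mono (hanti hn))⟩)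
    exact hOsub (hle hmem) rfl
  intro O hO
  rw [isOpen_iff_mem_nhds]
  rintro _ ⟨x, hx, rfl⟩
  obtain ⟨V, hV⟩ := NonarchimedeanAddGroup.is_nonarchimedean ((fun z => x + z) ⁻¹' O)
    ((continuous_const.add continuous_id).continuousAt.preimage_mem_nhds (by simpa using hO.mem_nhds hx))
  refine Filter.mem_of_superset (((hopen V).preimage (continuous_id.sub continuous_const)).mem_nhds
    (show u x - u x ∈ (Cl V.toAddSubgroup : Set M) by simp)) fun z hz => ?_
  obtain ⟨v, hv, hv'⟩ := key V hz
  exact ⟨x + v, hV hv, by rw [map_add, hv']; simp⟩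

end Groth.Agent.S9326
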