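import Groth.Statements.S9333
import Groth.Agent.H17.Fibre

set_option autoImplicit false
universe u
open QFin

namespace Groth.Agent.S9333

open CategoryTheory Limits AlgebraicGeometry TopologicalSpace

open AlgebraicGeometry CategoryTheory in
/-- Let f : X → S be locally of finite type, g : S' → S any morphism and X' = X ×_S S' with projections
g' : X' → X and f' : X' → S'. If x' ∈ X' maps to x ∈ X and x is closed in the fibre X_{f x}, then x'
is closed in the fibre X'_{f' x'}. -/
theorem result {X S X' S' : Scheme.{u}} (f : X ⟶ S) [LocallyOfFiniteType f] (g : S' ⟶ S)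
    (g' : X' ⟶ X) (f' : X' ⟶ S') (hsq : IsPullback g' f' f g) (x' : X')
    (hx : IsClosed ({f.asFiber (g'.base x')} : Set ↑(f.fiber (f.base (g'.base x'))))) :
    IsClosed ({f'.asFiber x'} : Set ↑(f'.fiber (f'.base x'))) := by
  have sq := isPullback_fiberToSpecResidueField_of_isPullback hsq (f' x')
  have : LocallyOfFiniteType (f.fiberToSpecResidueField (g (f' x'))) :=
    MorphismProperty.pullback_snd (P := @LocallyOfFiniteType) _ _ inferInstance
  have : JacobsonSpace (Spec (S.residueField (g (f' x')))) := inferInstance
  refine @Groth.Agent.H17.isClosed_singleton_of_isPullback _ _ _ _ _ _ _ _ sq (by assumption) _ _ (by assumption) (f'.asFiber x') ?_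
  have key : ∀ (x : X) (y : S) (z : f.fiber y), f.fiberι y z = x →
      IsClosed ({f.asFiber x} : Set (f.fiber (f x))) → IsClosed ({z} : Set (f.fiber y)) := by
    intro x y z hz h
    obtain rfl : f x = y := by
      rw [← hz]
      have : f.fiberι y z ∈ Set.range (f.fiberι y) := Set.mem_range_self z
      rw [f.range_fiberι] at this
      exact this
    obtain rfl : z = f.asFiber x := (f.fiberι (f x)).isEmbedding.injective (by rw [hz, f.fiberι_asFiber])
    exact h
  refine key (g' x') _ _ ?_ hx
  have e : pullback.map f' (S'.fromSpecResidueField (f' x')) f (S.fromSpecResidueField (g (f' x'))) g'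
      (Spec.map (g.residueFieldMap (f' x'))) g hsq.w.symm (by simp) ≫ f.fiberι (g (f' x')) =
      f'.fiberι (f' x') ≫ g' := pullback.lift_fst ..
  exact congr($e (f'.asFiber x')).trans congr(g' $(f'.fiberι_asFiber x'))

end Groth.Agent.S9333
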