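import Groth.Statements.S9335
import Groth.Agent.H17.Imports

set_option autoImplicit false
universe u
open QFin

namespace Groth.Agent.S9335

open AlgebraicGeometry CategoryTheory in
/-- If f : X → S is of finite type and s ∈ S, then f is quasi-finite at only finitely many points of the
fibre over s. -/
theorem result {X S : Scheme.{u}} (f : X ⟶ S) [LocallyOfFiniteType f] [QuasiCompact f] (s : S) :
    {x : ↑X | f.base x = s ∧ f.QuasiFiniteAt x}.Finite := by
  have : LocallyOfFiniteType (f.fiberToSpecResidueField s) :=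
    MorphismProperty.pullback_snd (P := @LocallyOfFiniteType) _ _ inferInstance
  have : IsLocallyNoetherian (f.fiber s) :=
    LocallyOfFiniteType.isLocallyNoetherian (f.fiberToSpecResidueField s)
  have : IsNoetherian (f.fiber s) := ⟨⟩
  let W : Set (Set (f.fiber s)) := {t | IsOpen t ∧ ∃ a, t = {a}}
  have hc : IsCompact (⋃₀ W) := TopologicalSpace.NoetherianSpace.isCompact _
  obtain ⟨T, hT, hTf, hsub⟩ := hc.elim_finite_subcover_image (b := W) (c := id) (fun t ht => ht.1)
    (by simp [Set.sUnion_eq_biUnion])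
  refine ((hTf.biUnion (t := id) fun t ht => ?_).image (f.fiberι s)).subset ?_
  · obtain ⟨a, rfl⟩ := (hT ht).2; exact Set.finite_singleton a
  rintro x ⟨rfl, hx⟩
  exact ⟨f.asFiber x, hsub ⟨_, ⟨(Scheme.Hom.quasiFiniteAt_iff_isOpen_singleton_asFiber.mp hx), _, rfl⟩, rfl⟩,
    f.fiberι_asFiber x⟩

end Groth.Agent.S9335
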