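import Groth.Statements.S9336
import Groth.Agent.H17.Fibre
import Mathlib.AlgebraicGeometry.AlgClosed.Basic
import Mathlib.Data.DFinsupp.WellFounded

set_option autoImplicit false
universe u
open QFin

namespace Groth.Agent.S9336

open CategoryTheory Limits AlgebraicGeometry TopologicalSpace

open AlgebraicGeometry CategoryTheory in
/-- Let f : X → Y be surjective and g : Y → S locally of finite type. If g ∘ f is locally quasi-finite
(and locally of finite type), then g is locally quasi-finite. -/
theorem result {X Y S : Scheme.{u}} (f : X ⟶ Y) (g : Y ⟶ S) [Surjective f]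
    [LocallyQuasiFinite (f ≫ g)] [LocallyOfFiniteType (f ≫ g)] [LocallyOfFiniteType g] :
    LocallyQuasiFinite g := by
  rw [locallyQuasiFinite_iff_isDiscrete_preimage_singleton]
  intro s
  have := Groth.Agent.H17.isLocallyNoetherian_fiber g s
  have : DiscreteTopology (g.fiber s) := Groth.Agent.H17.discreteTopology_of_isClosed_singleton fun z => by
    have hs : g (g.fiberι s z) = s := by
      have : g.fiberι s z ∈ Set.range (g.fiberι s) := Set.mem_range_self z
      rw [g.range_fiberι] at this; exact this
    obtain ⟨x, hx⟩ := f.surjective (g.fiberι s z)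
    have hfin := Groth.Agent.H17.finite_residueFieldMap (f ≫ g) x
      ((Groth.Agent.H17.quasiFiniteAt_iff_isClosed_and_max (f ≫ g) x).mp ((f ≫ g).quasiFiniteAt x)).1
    have hint : (g.residueFieldMap (f x)).hom.IsIntegral := by
      have h2 := RingHom.Finite.to_isIntegral hfin
      rw [Scheme.residueFieldMap_comp] at h2
      exact RingHom.IsIntegral.tower_bot (g.residueFieldMap (f x)).hom (f.residueFieldMap x).hom (RingHom.injective _) h2
    have h3 := Groth.Agent.H17.isClosed_singleton_asFiber g (f x) hint
    have key : ∀ (y : Y) (t : S) (w : g.fiber t), g.fiberι t w = y →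
        IsClosed ({g.asFiber y} : Set (g.fiber (g y))) → IsClosed ({w} : Set (g.fiber t)) := by
      intro y t w hw h
      obtain rfl : g y = t := by
        have : g.fiberι t w ∈ Set.range (g.fiberι t) := Set.mem_range_self w
        rw [g.range_fiberι] at this
        exact hw ▸ this
      obtain rfl : w = g.asFiber y := (g.fiberι (g y)).isEmbedding.injective (by rw [hw, g.fiberι_asFiber])
      exact h
    exact key _ _ z hx.symm h3
  exact ⟨(g.fiberHomeo s).discreteTopology⟩

end Groth.Agent.S9336
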