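import Groth.Statements.S9337
import Groth.Agent.H17.FtPoints

set_option autoImplicit false
universe u
open FtPts

namespace Groth.Agent.S9337

open CategoryTheory Limits AlgebraicGeometry TopologicalSpace

open AlgebraicGeometry CategoryTheory in
/-- Let k be a field and f : Spec k → S a morphism of schemes with image point u. Then f is locally of
finite type if and only if some affine open U ∋ u of S has u as a closed point and the residue field
of Spec k (that is, k) is finite over κ(u). -/
theorem result (S : Scheme.{u}) (k : Type u) [Field k] (f : Spec (CommRingCat.of k) ⟶ S) :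
    LocallyOfFiniteType f ↔
      ∃ U : S.Opens, IsAffineOpen U ∧ ∃ hu : f.base (IsLocalRing.closedPoint k) ∈ U,
        IsClosed ({⟨f.base (IsLocalRing.closedPoint k), hu⟩} : Set ↥U) ∧
          (f.residueFieldMap (IsLocalRing.closedPoint k)).hom.Finite := by
  set pt : Spec (CommRingCat.of k) := IsLocalRing.closedPoint k
  have hcomp : Spec.map (f.residueFieldMap pt) ≫ S.fromSpecResidueField (f pt) =
      (Spec (CommRingCat.of k)).fromSpecResidueField pt ≫ f :=
    f.SpecMap_residueFieldMap_fromSpecResidueField pt
  have : IsClosedImmersion ((Spec (CommRingCat.of k)).fromSpecResidueField pt) :=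
    isClosed_singleton_iff_isClosedImmersion.mp (IsLocalRing.isClosed_singleton_closedPoint k)
  have : IsIso ((Spec (CommRingCat.of k)).fromSpecResidueField pt) := by
    have : Surjective ((Spec (CommRingCat.of k)).fromSpecResidueField pt) :=
      ⟨fun z => ⟨IsLocalRing.closedPoint _, Subsingleton.elim _ _⟩⟩
    exact isIso_of_isClosedImmersion_of_surjective _
  constructor
  · intro _
    obtain ⟨U, hU, hu, hc⟩ := Groth.Agent.H17.exists_isAffineOpen_isClosed f
    refine ⟨U, hU, hu, hc, ?_⟩
    have h1 := Groth.Agent.H17.locallyOfFiniteType_fromSpecResidueField hu hc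
    have : LocallyOfFiniteType (Spec.map (f.residueFieldMap pt) ≫ S.fromSpecResidueField (f pt)) := by
      rw [hcomp]; infer_instance
    have := locallyOfFiniteType_of_comp (Spec.map (f.residueFieldMap pt)) (S.fromSpecResidueField (f pt))
    rw [← IsFinite.SpecMap_iff]
    exact (isFinite_iff_locallyOfFiniteType_of_jacobsonSpace (f := Spec.map (f.residueFieldMap pt))).mpr this
  · rintro ⟨U, -, hu, hc, hfin⟩
    have h1 := Groth.Agent.H17.locallyOfFiniteType_fromSpecResidueField hu hc
    have : IsFinite (Spec.map (f.residueFieldMap pt)) := (IsFinite.SpecMap_iff _).mpr hfin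
    have : LocallyOfFiniteType ((Spec (CommRingCat.of k)).fromSpecResidueField pt ≫ f) := by
      rw [← hcomp]; infer_instance
    exact (MorphismProperty.cancel_left_of_respectsIso (P := @LocallyOfFiniteType) _ f).mp this

end Groth.Agent.S9337
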