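import Groth.Statements.S9338
import Groth.Agent.H17.Imports

set_option autoImplicit false
universe u
open FtPts

namespace Groth.Agent.S9338

open CategoryTheory Limits AlgebraicGeometry TopologicalSpace

open AlgebraicGeometry CategoryTheory in
/-- For an Artinian local ring A with residue field κ, a morphism f : Spec A → S is (locally) of finite
type exactly when the composite Spec κ → Spec A → S is. -/
theorem result (S : Scheme.{u}) (A : Type u) [CommRing A] [IsArtinianRing A] [IsLocalRing A]
    (f : Spec (CommRingCat.of A) ⟶ S) :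
    LocallyOfFiniteType f ↔
      LocallyOfFiniteType (Spec.map (CommRingCat.ofHom (IsLocalRing.residue A)) ≫ f) := by
  constructor
  · intro h
    have : LocallyOfFiniteType (Spec.map (CommRingCat.ofHom (IsLocalRing.residue A))) := by
      rw [HasRingHomProperty.Spec_iff (P := @LocallyOfFiniteType)]
      exact RingHom.FiniteType.of_surjective _ IsLocalRing.residue_surjective
    infer_instance
  intro h
  let c : Spec (CommRingCat.of A) := IsLocalRing.closedPoint A
  obtain ⟨V, hV, hcV, -⟩ := exists_isAffineOpen_mem_and_subset (Opens.mem_top (f c))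
  have hall : ∀ p : Spec (CommRingCat.of A), p = c := fun p => by
    apply PrimeSpectrum.ext
    exact (IsLocalRing.eq_maximalIdeal (IsArtinianRing.isMaximal_of_isPrime p.asIdeal))
  have hr : Set.range f ⊆ Set.range hV.fromSpec := by
    rintro _ ⟨p, rfl⟩
    rw [hV.range_fromSpec, hall p]
    exact hcV
  obtain ⟨ψ, hψ⟩ : ∃ ψ, ψ ≫ hV.fromSpec = f := ⟨_, IsOpenImmersion.lift_fac hV.fromSpec f hr⟩
  obtain ⟨φ, rfl⟩ := Spec.map_surjective ψ
  rw [← hψ] at h ⊢
  rw [← Category.assoc] at h
  have h1 := locallyOfFiniteType_of_comp (Spec.map (CommRingCat.ofHom (IsLocalRing.residue A)) ≫ Spec.map φ) hV.fromSpec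
  rw [← Spec.map_comp, HasRingHomProperty.Spec_iff (P := @LocallyOfFiniteType), CommRingCat.hom_comp] at h1
  suffices φ.hom.FiniteType by
    have : LocallyOfFiniteType (Spec.map φ) := (HasRingHomProperty.Spec_iff (P := @LocallyOfFiniteType)).mpr this
    infer_instance
  change ((IsLocalRing.residue A).comp φ.hom).FiniteType at h1
  algebraize [φ.hom]
  change RingHom.FiniteType (algebraMap _ _) 
  rw [RingHom.finiteType_algebraMap]
  let π : A →ₐ[Γ(S, V)] IsLocalRing.ResidueField A := IsScalarTower.toAlgHom _ A _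
  have h1' : Algebra.FiniteType Γ(S, V) (IsLocalRing.ResidueField A) := by
    rw [← RingHom.finiteType_algebraMap, IsScalarTower.algebraMap_eq Γ(S, V) A]
    exact h1
  obtain ⟨t, ht⟩ := h1'.out
  classical
  obtain ⟨t', ht'⟩ : ∃ t' : Finset A, t'.image π = t :=
    ⟨t.image (Function.surjInv IsLocalRing.residue_surjective), by
      rw [Finset.image_image]
      exact (Finset.image_congr fun a _ => Function.surjInv_eq IsLocalRing.residue_surjective a).trans Finset.image_id⟩
  obtain ⟨G, hG⟩ := IsNoetherian.noetherian (IsLocalRing.maximalIdeal A)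
  let T := Algebra.adjoin Γ(S, V) ((t' ∪ G : Finset A) : Set A)
  have h0 : ∀ a : A, ∃ b ∈ T, a - b ∈ IsLocalRing.maximalIdeal A := by
    intro a
    have : π a ∈ T.map π := by
      have hle : Algebra.adjoin Γ(S, V) (t : Set (IsLocalRing.ResidueField A)) ≤ T.map π := by
        rw [AlgHom.map_adjoin, ← ht', Finset.coe_image]
        exact Algebra.adjoin_mono (Set.image_mono (by simp))
      exact hle (ht ▸ trivial)
    obtain ⟨b, hb, e⟩ := this
    exact ⟨b, hb, Ideal.Quotient.eq.mp e.symm⟩
  have hstep : ∀ n, ∀ a ∈ IsLocalRing.maximalIdeal A ^ n, ∃ b ∈ T, a - b ∈ IsLocalRing.maximalIdeal A ^ (n + 1) := by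
    have hone : ∀ a ∈ IsLocalRing.maximalIdeal A, ∃ b ∈ T, a - b ∈ IsLocalRing.maximalIdeal A ^ 2 := by
      intro a ha
      rw [← hG] at ha
      induction ha using Submodule.span_induction with
      | mem g hg => exact ⟨g, Algebra.subset_adjoin (by simp [Finset.mem_coe.mp hg]), by simp⟩
      | zero => exact ⟨0, T.zero_mem, by simp⟩
      | add x y _ _ hx hy =>
        obtain ⟨b, hb, hb'⟩ := hx; obtain ⟨c, hc, hc'⟩ := hy
        exact ⟨b + c, T.add_mem hb hc, by rw [add_sub_add_comm]; exact add_mem hb' hc'⟩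
      | smul r x hx' hx =>
        obtain ⟨b, hb, hb'⟩ := hx
        obtain ⟨s, hs, hs'⟩ := h0 r
        refine ⟨s * b, T.mul_mem hs hb, ?_⟩
        have hbm : b ∈ IsLocalRing.maximalIdeal A := by
          have := sub_mem (hG.le hx') (Ideal.pow_le_self two_ne_zero hb')
          simpa using this
        rw [smul_eq_mul, show r * x - s * b = r * (x - b) + (r - s) * b by ring]
        refine add_mem (Ideal.mul_mem_left _ _ hb') ?_
        rw [pow_two]
        exact Ideal.mul_mem_mul hs' hbm
    intro n
    induction n with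
    | zero => intro a _; simpa using h0 a
    | succ n ih =>
      intro a ha
      rw [pow_succ] at ha
      refine Submodule.mul_induction_on ha (fun x hx y hy => ?_) (fun x y hx hy => ?_)
      · obtain ⟨b, hb, hb'⟩ := ih x hx
        obtain ⟨c, hc, hc'⟩ := hone y hy
        refine ⟨b * c, T.mul_mem hb hc, ?_⟩
        rw [show x * y - b * c = (x - b) * y + b * (y - c) by ring]
        refine add_mem ?_ ?_
        · rw [pow_succ]
          exact Ideal.mul_mem_mul hb' hy
        · have hbn : b ∈ IsLocalRing.maximalIdeal A ^ n := by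
            have := sub_mem hx (Ideal.pow_le_pow_right (Nat.le_succ n) hb')
            simpa using this
          rw [show n + 1 + 1 = n + 2 from rfl, pow_add]
          exact Ideal.mul_mem_mul hbn hc'
      · obtain ⟨b, hb, hb'⟩ := hx; obtain ⟨c, hc, hc'⟩ := hy
        exact ⟨b + c, T.add_mem hb hc, by rw [add_sub_add_comm]; exact add_mem hb' hc'⟩
  have happrox : ∀ n, ∀ a : A, ∃ b ∈ T, a - b ∈ IsLocalRing.maximalIdeal A ^ n := by
    intro n
    induction n with
    | zero => exact fun a => ⟨0, T.zero_mem, by simp⟩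
    | succ n ih =>
      intro a
      obtain ⟨b, hb, hb'⟩ := ih a
      obtain ⟨c, hc, hc'⟩ := hstep n _ hb'
      exact ⟨b + c, T.add_mem hb hc, by rw [sub_add_eq_sub_sub]; exact hc'⟩
  obtain ⟨N, hN⟩ := (isArtinianRing_iff_isNilpotent_maximalIdeal A).mp inferInstance
  refine ⟨t' ∪ G, eq_top_iff.mpr fun a _ => ?_⟩
  obtain ⟨b, hb, hb'⟩ := happrox N a
  rw [hN, Ideal.zero_eq_bot, Ideal.mem_bot, sub_eq_zero] at hb'
  exact hb' ▸ hb

end Groth.Agent.S9338
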