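import Groth.Statements.S9340
import Groth.Agent.H17.FtPoints
import Groth.Agent.S9339

set_option autoImplicit false
universe u
open FtPts

namespace Groth.Agent.S9340

open CategoryTheory Limits AlgebraicGeometry TopologicalSpace

open AlgebraicGeometry CategoryTheory in
/-- A surjective morphism locally of finite type maps the set of finite type points of the source onto
the set of finite type points of the target. -/
theorem result {T S : Scheme.{u}} (f : T ⟶ S) [LocallyOfFiniteType f] [Surjective f] :
    f.base '' {t : ↑T | LocallyOfFiniteType (T.fromSpecResidueField t)} =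
      {s : ↑S | LocallyOfFiniteType (S.fromSpecResidueField s)} := by
  refine subset_antisymm ?_ fun s (hs : LocallyOfFiniteType (S.fromSpecResidueField s)) => ?_
  · exact Groth.Agent.S9339.result f
  · have : LocallyOfFiniteType (f.fiberι s) :=
      MorphismProperty.pullback_fst (P := @LocallyOfFiniteType) _ _ hs
    obtain ⟨t₀, ht₀⟩ := f.surjective s
    have : Nonempty ↥(f.fiber s) := by subst ht₀; exact ⟨f.asFiber t₀⟩
    obtain ⟨w, -, hw⟩ := nonempty_inter_closedPoints (Set.univ_nonempty (α := ↥(f.fiber s))) isClosed_univ.isLocallyClosed
    have : LocallyOfFiniteType ((f.fiber s).fromSpecResidueField w) :=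
      isClosed_singleton_iff_locallyOfFiniteType.mp hw
    have := @Groth.Agent.H17.locallyOfFiniteType_fromSpecResidueField_of_finiteType T ((f.fiber s).residueField w) _
      ((f.fiber s).fromSpecResidueField w ≫ f.fiberι s) inferInstance
    have hmem : f.fiberι s w ∈ Set.range (f.fiberι s) := Set.mem_range_self w
    rw [f.range_fiberι] at hmem
    refine ⟨f.fiberι s w, ?_, hmem⟩
    show LocallyOfFiniteType _
    rwa [Scheme.Hom.comp_apply, Scheme.fromSpecResidueField_apply] at this

end Groth.Agent.S9340
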