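import Groth.Statements.S9343
import Groth.Agent.H17.QcImage
import Mathlib.AlgebraicGeometry.AlgClosed.Basic
import Mathlib.Data.DFinsupp.WellFounded

set_option autoImplicit false
universe u
open Dom

namespace Groth.Agent.S9343

open CategoryTheory Limits AlgebraicGeometry TopologicalSpace

open AlgebraicGeometry CategoryTheory in
/-- The base change of a quasi-compact dominant morphism f : X → S along a morphism g : S' → S along
which generalizations lift is dominant. -/
theorem result {X S X' S' : Scheme.{u}} (f : X ⟶ S) [QuasiCompact f] [IsDominant f]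
    (g : S' ⟶ S) (g' : X' ⟶ X) (f' : X' ⟶ S') (hsq : IsPullback g' f' f g) (hg : GeneralizingMap g.base) :
    IsDominant f' := by
  have hr : Set.range f' = g ⁻¹' Set.range f := by
    rw [← hsq.isoPullback_hom_snd, ← Scheme.Pullback.range_snd f g, Scheme.Hom.comp_base, TopCat.coe_comp]
    exact hsq.isoPullback.hom.surjective.range_comp _
  refine ⟨fun s' => ?_⟩
  obtain ⟨x, hx⟩ := Groth.Agent.H17.exists_specializes_of_mem_closure_range f (f.denseRange (g s'))
  obtain ⟨s'', hs, hgs⟩ := hg hx
  refine hs.mem_closed isClosed_closure (subset_closure ?_)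
  rw [hr]
  exact ⟨x, hgs.symm⟩

end Groth.Agent.S9343
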