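import Groth.Statements.S9344
import Groth.Agent.H17.Imports

set_option autoImplicit false
universe u
open Dom

namespace Groth.Agent.S9344

open CategoryTheory Limits AlgebraicGeometry TopologicalSpace

open AlgebraicGeometry CategoryTheory in
/-- The base change of a dominant morphism f : X → S along an open morphism g : S' → S is dominant. -/
theorem result {X S X' S' : Scheme.{u}} (f : X ⟶ S) [IsDominant f]
    (g : S' ⟶ S) (g' : X' ⟶ X) (f' : X' ⟶ S') (hsq : IsPullback g' f' f g) (hg : IsOpenMap g.base) :
    IsDominant f' := by
  have hr : Set.range f' = g ⁻¹' Set.range f := by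
    rw [← hsq.isoPullback_hom_snd, ← Scheme.Pullback.range_snd f g, Scheme.Hom.comp_base, TopCat.coe_comp]
    exact hsq.isoPullback.hom.surjective.range_comp _
  refine ⟨?_⟩
  rw [denseRange_iff_closure_range, hr, ← hg.preimage_closure_eq_closure_preimage g.continuous,
    f.denseRange.closure_range, Set.preimage_univ]

end Groth.Agent.S9344
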