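import Groth.Statements.S9345
import Groth.Agent.H17.Fibre
import Mathlib.AlgebraicGeometry.AlgClosed.Basic
import Mathlib.Data.DFinsupp.WellFounded

set_option autoImplicit false
universe u
open Dom

namespace Groth.Agent.S9345

open CategoryTheory Limits AlgebraicGeometry TopologicalSpace

open AlgebraicGeometry CategoryTheory in
/-- For a morphism f : X → S whose source has only finitely many irreducible components, the image of f
is dense exactly when it contains the generic point of each irreducible component of S, and then S
too has finitely many. -/
theorem result {X S : Scheme.{u}} (f : X ⟶ S)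
    (hX : (irreducibleComponents (↑X : Type u)).Finite) :
    (IsDominant f ↔ ∀ s : ↑S, closure {s} ∈ irreducibleComponents (↑S : Type u) → s ∈ Set.range f.base) ∧
      (IsDominant f → (irreducibleComponents (↑S : Type u)).Finite) := by
  have hG : (genericPoints X).Finite := genericPoints.finite hX
  have key : IsDominant f → genericPoints S ⊆ f '' genericPoints X := by
    intro hd s hs
    have h1 : s ∈ closure (f '' genericPoints X) := by
      have : Set.range f ⊆ closure (f '' genericPoints X) := by
        rw [← Set.image_univ, ← genericPoints.closure (α := X)]
        exact image_closure_subset_closure_image f.continuous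
      exact closure_minimal this isClosed_closure (f.denseRange s)
    rw [← Set.biUnion_of_singleton (f '' genericPoints X), (hG.image f).closure_biUnion] at h1
    obtain ⟨z, hz, hsz⟩ := Set.mem_iUnion₂.mp h1
    have := Groth.Agent.H17.mem_genericPoints_iff.mp hs _ (specializes_iff_mem_closure.mpr hsz)
    exact this ▸ hz
  refine ⟨⟨fun hd s hs => ?_, fun h => ⟨dense_iff_closure_eq.mpr (Set.univ_subset_iff.mp ?_)⟩⟩, fun hd => ?_⟩
  · obtain ⟨z, -, hz⟩ := key hd hs
    exact ⟨z, hz⟩
  · rw [← genericPoints.closure (α := S)]
    exact closure_mono fun y hy => h y hy
  · have := ((hG.image f).subset (key hd)).to_subtype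
    exact Finite.of_equiv _ genericPoints.equiv

end Groth.Agent.S9345
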