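import Groth.Statements.S9346
import Groth.Agent.H17.Imports

set_option autoImplicit false
universe u
open Dom

namespace Groth.Agent.S9346

open CategoryTheory Limits AlgebraicGeometry TopologicalSpace

open AlgebraicGeometry CategoryTheory in
/-- For a morphism f : X → Y between integral schemes, these six conditions coincide: (1) f is dominant;
(2) f sends the generic point of X to that of Y; (3) there exist affine opens U ⊆ X, V ⊆ Y with U
nonempty and U ⊆ f⁻¹V such that the induced ring map on sections is injective; (4) the same for all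
such pairs; (5) for some x ∈ X the map of local rings O_{Y,f x} → O_{X,x} is injective; (6) the same
for all x. -/
theorem result {X Y : Scheme.{u}} [AlgebraicGeometry.IsIntegral X] [AlgebraicGeometry.IsIntegral Y] (f : X ⟶ Y) :
    [IsDominant f,
      f.base (genericPoint ↑X) = genericPoint ↑Y,
      ∃ (U : X.Opens) (V : Y.Opens) (hUV : U ≤ f ⁻¹ᵁ V), IsAffineOpen U ∧ IsAffineOpen V ∧ (U : Set ↑X).Nonempty ∧
        Function.Injective (f.appLE V U hUV),
      ∀ (U : X.Opens) (V : Y.Opens) (hUV : U ≤ f ⁻¹ᵁ V), IsAffineOpen U → IsAffineOpen V → (U : Set ↑X).Nonempty →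
        Function.Injective (f.appLE V U hUV),
      ∃ x : ↑X, Function.Injective (f.stalkMap x),
      ∀ x : ↑X, Function.Injective (f.stalkMap x)].TFAE := by
  -- compatibility of `appLE` with germs
  have key : ∀ (U : X.Opens) (V : Y.Opens) (hUV : U ≤ f ⁻¹ᵁ V) (x : X) (hx : x ∈ U) (a : Γ(Y, V)),
      X.presheaf.germ U x hx (f.appLE V U hUV a) =
        f.stalkMap x (Y.presheaf.germ V (f x) (hUV hx) a) := by
    intro U V hUV x hx a
    rw [Scheme.Hom.germ_stalkMap_apply]
    simp only [Scheme.Hom.appLE, CommRingCat.comp_apply, TopCat.Presheaf.germ_res_apply]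
  have hinj : ∀ (U : X.Opens) (V : Y.Opens) (hUV : U ≤ f ⁻¹ᵁ V) (x : X), x ∈ U →
      Function.Injective (f.stalkMap x) → Function.Injective (f.appLE V U hUV) := by
    intro U V hUV x hx hs a b hab
    apply germ_injective_of_isIntegral Y (f x) (hUV hx)
    apply hs
    rw [← key U V hUV x hx, ← key U V hUV x hx, hab]
  have hsi : ∀ {y' y : Y} (h : y' ⤳ y), Function.Injective (Y.presheaf.stalkSpecializes h) := by
    intro y' y h a b hab
    obtain ⟨U, hyU, s, rfl⟩ := Y.presheaf.exists_germ_eq a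
    obtain ⟨U', hyU', s', rfl⟩ := Y.presheaf.exists_germ_eq b
    obtain ⟨W, hW, iW, iW', e⟩ : ∃ (W : Y.Opens) (hW : y ∈ W) (iW : W ⟶ U) (iW' : W ⟶ U'), True :=
      ⟨U ⊓ U', ⟨hyU, hyU'⟩, Opens.infLELeft _ _, Opens.infLERight _ _, trivial⟩
    rw [← TopCat.Presheaf.germ_res_apply Y.presheaf iW y hW, ← TopCat.Presheaf.germ_res_apply Y.presheaf iW' y hW] at hab ⊢
    rw [TopCat.Presheaf.germ_stalkSpecializes_apply, TopCat.Presheaf.germ_stalkSpecializes_apply] at hab
    exact congrArg _ (germ_injective_of_isIntegral Y y' (h.mem_open W.2 hW) hab)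
  tfae_have 1 → 2 := by
    intro hd
    have h1 := (genericPoint_spec X).image f.continuous
    rw [Set.image_univ, hd.denseRange.closure_range] at h1
    exact h1.eq (genericPoint_spec Y)
  tfae_have 2 → 1 := fun h2 => ⟨Dense.mono (s₁ := {genericPoint Y}) (Set.singleton_subset_iff.mpr ⟨_, h2⟩) (dense_iff_closure_eq.mpr (genericPoint_spec Y).def)⟩
  tfae_have 2 → 6 := by
    intro h2 x
    have hsp : genericPoint X ⤳ x := (genericPoint_spec X).specializes trivial
    intro a b hab
    have hfield : IsField (Y.presheaf.stalk (f (genericPoint X))) := by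
      rw [show f (genericPoint X) = genericPoint Y from h2]
      exact Field.toIsField (Y.functionField)
    let := hfield.toField
    apply hsi (hsp.map f.continuous)
    apply (f.stalkMap (genericPoint X)).hom.injective
    rw [Scheme.Hom.stalkSpecializes_stalkMap_apply f (genericPoint X) x hsp, Scheme.Hom.stalkSpecializes_stalkMap_apply f (genericPoint X) x hsp, hab]
  tfae_have 6 → 4 := fun h6 U V hUV _ _ ⟨x, hx⟩ => hinj U V hUV x hx (h6 x)
  tfae_have 6 → 5 := fun h6 => ⟨genericPoint X, h6 _⟩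
  tfae_have 4 → 3 := by
    intro h4
    obtain ⟨V, hV, hxV, -⟩ := exists_isAffineOpen_mem_and_subset (Opens.mem_top (f (genericPoint X)))
    obtain ⟨U, hU, hxU, hUV⟩ := exists_isAffineOpen_mem_and_subset (U := f ⁻¹ᵁ V) hxV
    exact ⟨U, V, hUV, hU, hV, ⟨_, hxU⟩, h4 U V hUV hU hV ⟨_, hxU⟩⟩
  tfae_have 5 → 3 := by
    rintro ⟨x, hx⟩
    obtain ⟨V, hV, hxV, -⟩ := exists_isAffineOpen_mem_and_subset (Opens.mem_top (f x))
    obtain ⟨U, hU, hxU, hUV⟩ := exists_isAffineOpen_mem_and_subset (U := f ⁻¹ᵁ V) hxV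
    exact ⟨U, V, hUV, hU, hV, ⟨x, hxU⟩, hinj U V hUV x hxU hx⟩
  tfae_have 3 → 2 := by
    rintro ⟨U, V, hUV, hU, hV, hne, hi⟩
    obtain ⟨x, hx⟩ := hne
    refine ((genericPoint_spec Y).eq ?_).symm
    rw [isGenericPoint_iff_specializes]
    refine fun y => ⟨fun _ => trivial, fun _ => specializes_iff_forall_open.mpr fun W hW hyW => ?_⟩
    obtain ⟨z, -, hzW, hzV⟩ := PreirreducibleSpace.isPreirreducible_univ W (V : Set Y) hW V.2
      ⟨y, trivial, hyW⟩ ⟨f x, trivial, hUV hx⟩
    obtain ⟨a, haW, hza⟩ := hV.exists_basicOpen_le (V := ⟨W, hW⟩) ⟨z, hzW⟩ hzV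
    have ha : f.appLE V U hUV a ≠ 0 := by
      intro h0
      have ha0 : a = 0 := hi (h0.trans (map_zero _).symm)
      rw [ha0, Scheme.basicOpen_zero] at hza
      exact hza
    rw [ne_eq, ← basicOpen_eq_bot_iff, Scheme.basicOpen_appLE] at ha
    obtain ⟨w, hw⟩ := Opens.ne_bot_iff_nonempty _ |>.mp ha
    exact haW (((genericPoint_spec X).mem_open_set_iff (U ⊓ f ⁻¹ᵁ Y.basicOpen a).2).mpr ⟨w, trivial, hw⟩).2
  tfae_finish

end Groth.Agent.S9346
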