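import Groth.Statements.S9348
import Groth.Agent.H17.Imports

set_option autoImplicit false
universe u
open Dom

namespace Groth.Agent.S9348

open CategoryTheory Limits AlgebraicGeometry TopologicalSpace

open AlgebraicGeometry CategoryTheory in
/-- Let f : X → Y be a morphism and g : Y' → Y open and surjective. If the base change f' : X ×_Y Y' →
Y' of f is quasi-compact, then so is f. -/
theorem result {X Y X' Y' : Scheme.{u}} (f : X ⟶ Y) (g : Y' ⟶ Y) [Surjective g]
    (hg : IsOpenMap g.base) (g' : X' ⟶ X) (f' : X' ⟶ Y') (hsq : IsPullback g' f' f g) [QuasiCompact f'] :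
    QuasiCompact f := by
  refine quasiCompact_iff_forall_isAffineOpen.mpr fun V hV => ?_
  choose O hO hmem using fun y : (g ⁻¹ᵁ V : Y'.Opens) =>
    Y'.isBasis_affineOpens.exists_subset_of_mem_open y.2 (g ⁻¹ᵁ V).2
  obtain ⟨t, ht⟩ := hV.isCompact.elim_finite_subcover (fun y => g '' O y)
    (fun y => hg _ (by obtain ⟨U, -, hU⟩ := hO y; exact hU ▸ U.2)) (fun v hv => by
      obtain ⟨y, rfl⟩ := g.surjective v
      exact Set.mem_iUnion.mpr ⟨⟨y, hv⟩, y, (hmem ⟨y, hv⟩).1, rfl⟩)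
  have hK : IsCompact (⋃ y ∈ t, f' ⁻¹' O y) := t.isCompact_biUnion fun y _ => by
    obtain ⟨U, hU', hU⟩ := hO y
    rw [← hU]; exact f'.isCompact_preimage (IsAffineOpen.isCompact hU')
  have heq : (f ⁻¹ᵁ V : Set X) = g' '' (⋃ y ∈ t, f' ⁻¹' O y) := by
    ext x
    constructor
    · intro hx
      obtain ⟨y, hy, w, hw, hwx⟩ := Set.mem_iUnion₂.mp (ht hx)
      obtain ⟨z, hz1, hz2⟩ := Scheme.Pullback.exists_preimage_pullback x w hwx.symm
      refine ⟨hsq.isoPullback.inv z, Set.mem_iUnion₂.mpr ⟨y, hy, ?_⟩, ?_⟩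
      · show f' (hsq.isoPullback.inv z) ∈ O y
        rwa [← Scheme.Hom.comp_apply, hsq.isoPullback_inv_snd, hz2]
      · rw [← Scheme.Hom.comp_apply, hsq.isoPullback_inv_fst, hz1]
    · rintro ⟨z, hz, rfl⟩
      obtain ⟨y, hy, hzy⟩ := Set.mem_iUnion₂.mp hz
      show f (g' z) ∈ V
      rw [← Scheme.Hom.comp_apply, hsq.w, Scheme.Hom.comp_apply]
      exact (hmem y).2 hzy
  rw [heq]; exact hK.image g'.continuous

end Groth.Agent.S9348
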