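import Groth.Statements.S9349
import Groth.Agent.H8Props.FlatLocus.Sections

set_option autoImplicit false
universe u
open FlatMod

namespace Groth.Agent.S9349

open AlgebraicGeometry CategoryTheory in
/-- Let f : X → Y be an affine morphism of S-schemes, with q : Y → S, and F a quasi-coherent O_X-module.
Flatness of F over S (along f ≫ q) is equivalent to flatness of f_*F over S (along q). -/
theorem result {X Y S : Scheme.{u}} (f : X ⟶ Y) [IsAffineHom f] (q : Y ⟶ S)
    (F : X.Modules) (hF : Coh.IsQCoh F) :
    FlatMod.IsFlatOver (f ≫ q) F ↔ FlatMod.IsFlatOver q ((Coh.push f).obj F) := by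
  exact H8Props.FlatLocus.isFlatOver_push_iff f q F hF

end Groth.Agent.S9349
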