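import Groth.Statements.S9350
import Groth.Agent.H06Mod.StalkFaithful

set_option autoImplicit false
universe u
open FlatMod
open Groth.Agent.H06Mod
open CategoryTheory AlgebraicGeometry TensorProduct

namespace Groth.Agent.S9350

open AlgebraicGeometry CategoryTheory in
/-- Let h : X → Y be a morphism of S-schemes, q : Y → S, G a quasi-coherent O_Y-module and x ∈ X with h
flat at x. Flatness of G over S at h x is equivalent to flatness of h^*G over S at x. -/
theorem result {X Y S : Scheme.{u}} (h : X ⟶ Y) (q : Y ⟶ S)
    (G : Y.Modules) (hG : Coh.IsQCoh G) (x : X) (hflat : (h.stalkMap x).hom.Flat) :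
    FlatMod.IsFlatOverAt q G (h.base x) ↔ FlatMod.IsFlatOverAt (h ≫ q) ((Scheme.Modules.pullback h).obj G) x := by
  letI : Algebra (Y.presheaf.stalk (h.base x)) (X.presheaf.stalk x) := stalkAlgebra h x
  haveI : Module.FaithfullyFlat (Y.presheaf.stalk (h.base x)) (X.presheaf.stalk x) := by
    haveI : Module.Flat (Y.presheaf.stalk (h.base x)) (X.presheaf.stalk x) := hflat
    haveI : IsLocalHom (algebraMap (Y.presheaf.stalk (h.base x)) (X.presheaf.stalk x)) :=
      inferInstanceAs (IsLocalHom (h.stalkMap x).hom)
    exact Module.FaithfullyFlat.of_flat_of_isLocalHom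
  letI : Algebra (S.presheaf.stalk (q.base (h.base x))) (Y.presheaf.stalk (h.base x)) :=
    (q.stalkMap (h.base x)).hom.toAlgebra
  letI : Algebra (S.presheaf.stalk (q.base (h.base x))) (X.presheaf.stalk x) := stalkAlgebra (h ≫ q) x
  haveI : IsScalarTower (S.presheaf.stalk (q.base (h.base x))) (Y.presheaf.stalk (h.base x))
      (X.presheaf.stalk x) := .of_algebraMap_eq fun r => by
    show ((h ≫ q).stalkMap x).hom r = (h.stalkMap x).hom ((q.stalkMap (h.base x)).hom r)
    rw [Scheme.Hom.stalkMap_comp]
    rfl
  letI := FlatMod.moduleStalkOver q G (h.base x)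
  haveI : IsScalarTower (S.presheaf.stalk (q.base (h.base x))) (Y.presheaf.stalk (h.base x))
      (G.presheaf.stalk (h.base x)) := .of_algebraMap_smul fun _ _ => rfl
  letI m1 : Module (S.presheaf.stalk (q.base (h.base x)))
      (((Scheme.Modules.pullback h).obj G).presheaf.stalk x) :=
    FlatMod.moduleStalkOver (h ≫ q) ((Scheme.Modules.pullback h).obj G) x
  refine Iff.symm (Iff.trans ?_ (flat_tensor_iff (R := S.presheaf.stalk (q.base (h.base x)))
    (S := Y.presheaf.stalk (h.base x)) (T := X.presheaf.stalk x) (N := G.presheaf.stalk (h.base x))))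
  let e : (X.presheaf.stalk x ⊗[Y.presheaf.stalk (h.base x)] G.presheaf.stalk (h.base x))
      ≃ₗ[S.presheaf.stalk (q.base (h.base x))] ((Scheme.Modules.pullback h).obj G).presheaf.stalk x :=
    { (pullStalkEquiv h G x).toAddEquiv with
      map_smul' := fun r t => by
        show pullStalkEquiv h G x (r • t) = ((h ≫ q).stalkMap x).hom r • pullStalkEquiv h G x t
        rw [← algebraMap_smul (X.presheaf.stalk x) r t, map_smul]
        rfl }
  show Module.Flat (S.presheaf.stalk (q.base (h.base x)))
    (((Scheme.Modules.pullback h).obj G).presheaf.stalk x) ↔ _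
  constructor
  · intro h'
    haveI := h'
    exact Module.Flat.of_linearEquiv e
  · intro h'
    haveI := h'
    exact Module.Flat.of_linearEquiv e.symm

end Groth.Agent.S9350
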