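import Groth.Statements.S9353
import Groth.Agent.H8Props.FlatLocus.Sheaf
import Mathlib.RingTheory.Flat.Localization

set_option autoImplicit false
universe u
open FlatMod

namespace Groth.Agent.S9353
theorem flat_localizedModule {R S M : Type u} [CommRing R] [CommRing S] [Algebra R S] [AddCommGroup M]
    [Module R M] [Module S M] [IsScalarTower R S M] (T : Submonoid S) [Module.Flat R M] :
    Module.Flat R (LocalizedModule T M) := by
  rw [Module.Flat.iff_lTensor_injectiveₛ]
  intro P _ _ N
  rw [← TensorProduct.AlgebraTensorModule.coe_lTensor (A := S)]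
  let f := LocalizedModule.mkLinearMap T M
  let gN := TensorProduct.AlgebraTensorModule.rTensor R N f
  let gP := TensorProduct.AlgebraTensorModule.rTensor R P f
  have h := IsLocalizedModule.map_injective T gN gP _
    (show Function.Injective (TensorProduct.AlgebraTensorModule.lTensor S M N.subtype) from
      Module.Flat.lTensor_preserves_injective_linearMap N.subtype Subtype.val_injective)
  simpa [gN, gP, IsLocalizedModule.map_lTensor] using h



open AlgebraicGeometry CategoryTheory Opposite in
/-- Let f : X → S be a morphism of schemes and let F be an O_X-module that is quasi-coherent. Flatness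
of F over S is equivalent to the following: for all affine opens U ⊆ X and V ⊆ S with U ⊆ f⁻¹V the
module F(U) is flat over O_S(V). -/
theorem result {X S : Scheme.{u}} (f : X ⟶ S) (F : X.Modules) (hF : Coh.IsQCoh F) :
    FlatMod.IsFlatOver f F ↔
      ∀ (U : X.Opens) (V : S.Opens) (hUV : U ≤ f ⁻¹ᵁ V), IsAffineOpen U → IsAffineOpen V →
        @Module.Flat Γ(S, V) (F.val.obj (op U)) _ _ (Module.compHom (F.val.obj (op U)) (f.appLE V U hUV).hom) := by
  constructor
  · intro hflat U V hUV hU hV
    letI := Module.compHom Γ(F, U) (f.appLE V U hUV).hom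
    letI := (f.appLE V U hUV).hom.toAlgebra
    haveI : IsScalarTower Γ(S, V) Γ(X, U) Γ(F, U) := .of_algebraMap_smul fun _ _ => rfl
    haveI := hU.isOpenImmersion_fromSpec
    change Module.Flat Γ(S, V) Γ(F, U)
    refine Module.flat_of_isLocalized_maximal Γ(X, U) Γ(F, U)
      (fun P _ => LocalizedModule P.primeCompl Γ(F, U))
      (fun P _ => LocalizedModule.mkLinearMap P.primeCompl Γ(F, U)) ?_
    intro P hP
    let q : Spec Γ(X, U) := ⟨P, hP.isPrime⟩
    have hmem : hU.fromSpec q ∈ U := hU.range_fromSpec.subset ⟨q, rfl⟩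
    have e : hU.primeIdealOf ⟨hU.fromSpec q, hmem⟩ = q :=
      hU.fromSpec.isOpenEmbedding.injective (hU.fromSpec_primeIdealOf _)
    have h := (Groth.Agent.H8Props.FlatLocus.isFlatOverAt_iff_localizedModule f F hF hV hU hUV
      ⟨hU.fromSpec q, hmem⟩).mp (hflat _)
    rw [e] at h
    exact h
  · intro h x
    obtain ⟨_, ⟨V, hV, rfl⟩, hxV, -⟩ :=
      S.isBasis_affineOpens.exists_subset_of_mem_open (Set.mem_univ (f x)) isOpen_univ
    obtain ⟨_, ⟨U, hU, rfl⟩, hxU, hUV⟩ :=
      X.isBasis_affineOpens.exists_subset_of_mem_open (show x ∈ (f ⁻¹ᵁ V : Set X) from hxV) (f ⁻¹ᵁ V).2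
    letI := Module.compHom Γ(F, U) (f.appLE V U hUV).hom
    letI := (f.appLE V U hUV).hom.toAlgebra
    haveI : IsScalarTower Γ(S, V) Γ(X, U) Γ(F, U) := .of_algebraMap_smul fun _ _ => rfl
    haveI : Module.Flat Γ(S, V) Γ(F, U) := h U V hUV hU hV
    exact (Groth.Agent.H8Props.FlatLocus.isFlatOverAt_iff_localizedModule f F hF hV hU hUV ⟨x, hxU⟩).mpr
      (flat_localizedModule _)

end Groth.Agent.S9353
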