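import Groth.Statements.S9357
import Groth.Agent.H8Props.FieldDimFormula

set_option autoImplicit false
universe u
open FibDim

namespace Groth.Agent.S9357

open AlgebraicGeometry CategoryTheory in
/-- Suppose both f : X → Y and g : Y → Z are morphisms locally of finite type. When the relative
dimension of f is at most d and that of g is at most e, the composite g ∘ f has relative dimension
at most d + e. Moreover, when f is flat of relative dimension exactly d and g is of relative
dimension exactly e, the composite g ∘ f is of relative dimension exactly d + e (every nonempty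
fibre equidimensional of that dimension). -/
theorem result {X Y Z : Scheme.{u}} (f : X ⟶ Y) (g : Y ⟶ Z) [LocallyOfFiniteType f] [LocallyOfFiniteType g] (d e : ℕ) :
    ((∀ x : ↑X, FlatMor.fibreDimAt f x ≤ d) → (∀ y : ↑Y, FlatMor.fibreDimAt g y ≤ e) →
        ∀ x : ↑X, FlatMor.fibreDimAt (f ≫ g) x ≤ (d + e : ℕ)) ∧
      (Cyc.HasRelDim f d → Cyc.HasRelDim g e → Flat f → Cyc.HasRelDim (f ≫ g) (d + e)) := by
  refine ⟨fun hd he x => ?_, fun hd he hflat z T hT => ?_⟩
  · refine ((Groth.Agent.H8Props.FieldDim.fibreDimAt_comp_le f g x).1.trans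
      (add_le_add (hd x) (he (f x)))).trans (le_of_eq ?_)
    push_cast
    rfl
  · haveI := Groth.Agent.H8Props.FieldDim.locallyOfFiniteType_fiberToSpec (f ≫ g) z
    obtain ⟨u, rfl, hmax⟩ := Groth.Agent.H8Props.FieldDim.mem_irreducibleComponents_iff hT
    have h1 := Groth.Agent.H8Props.FieldDim.localDim_of_maximal (k := Z.residueField z)
      ((f ≫ g).fiberToSpecResidueField z) u hmax
    rw [← Groth.Agent.H8Props.FieldDim.fibreDimAt_eq_localDim (f ≫ g) u] at h1
    refine h1.symm.trans ?_
    generalize (f ≫ g).fiberι z u = x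
    have hf : FlatMor.fibreDimAt f x = (d : WithBot ℕ∞) := by
      haveI := Groth.Agent.H8Props.FieldDim.locallyOfFiniteType_fiberToSpec f (f x)
      exact Groth.Agent.H8Props.FieldDim.localDim_eq_of_pure (k := Y.residueField (f x))
        (f.fiberToSpecResidueField (f x)) _ _ (hd (f x))
    have hg : FlatMor.fibreDimAt g (f x) = (e : WithBot ℕ∞) := by
      haveI := Groth.Agent.H8Props.FieldDim.locallyOfFiniteType_fiberToSpec g (g (f x))
      exact Groth.Agent.H8Props.FieldDim.localDim_eq_of_pure (k := Z.residueField (g (f x)))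
        (g.fiberToSpecResidueField (g (f x))) _ _ (he (g (f x)))
    rw [(Groth.Agent.H8Props.FieldDim.fibreDimAt_comp_le f g x).2 (Flat.stalkMap f x), hf, hg]
    push_cast
    rfl

end Groth.Agent.S9357
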