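import Groth.Statements.S9360
import Groth.Agent.H17.Image
import Groth.Agent.H17.Reduced
import Groth.Agent.H17.SchDense

set_option autoImplicit false
universe u
open SchDense

namespace Groth.Agent.S9360

open CategoryTheory Limits AlgebraicGeometry TopologicalSpace

open AlgebraicGeometry CategoryTheory in
/-- Let U ⊆ X be a reduced open subscheme. Then the scheme-theoretic closure of U in X is X if and only
if U is scheme-theoretically dense in X (for every open W the scheme-theoretic closure of U ∩ W in W
is W); and in that case X is reduced. -/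
theorem result (X : Scheme.{u}) (U : X.Opens) [IsReduced (↑U : Scheme.{u})] :
    (IsSchemeTheoreticallyDominant U.ι ↔
        ∀ W : X.Opens, IsSchemeTheoreticallyDominant (X.homOfLE (inf_le_right : U ⊓ W ≤ W))) ∧
      (IsSchemeTheoreticallyDominant U.ι → IsReduced X) := by
  have hred : IsSchemeTheoreticallyDominant U.ι → IsReduced X ∧ Dense (U : Set X) := by
    intro h
    have hk := h.ker_eq_bot
    rw [Groth.Agent.H17.ker_eq_vanishingIdeal] at hk
    have hN : X.nilradical = ⊥ := by
      rw [← Scheme.IdealSheafData.vanishingIdeal_top]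
      refine le_bot_iff.mp (le_of_le_of_eq (Scheme.IdealSheafData.gc.monotone_u ?_) hk)
      exact (le_top : _ ≤ (⊤ : Closeds X))
    constructor
    · have h2 : IsReduced (⊥ : X.IdealSheafData).subscheme := by
        rw [Groth.Agent.H17.isReduced_subscheme_iff]
        intro V
        rw [← hN]
        exact Ideal.radical_isRadical _
      exact isReduced_of_isOpenImmersion (inv (⊥ : X.IdealSheafData).subschemeι)
    · have h3 := congrArg (fun I : X.IdealSheafData => (I.support : Set X)) hk
      simp only [Scheme.IdealSheafData.coe_support_vanishingIdeal, Scheme.IdealSheafData.support_bot,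
        Closeds.coe_mk, Closeds.coe_top, Scheme.Opens.range_ι] at h3
      exact dense_iff_closure_eq.mpr h3
  refine ⟨⟨fun h W => ?_, fun h => ?_⟩, fun h => (hred h).1⟩
  · obtain ⟨_, hd⟩ := hred h
    exact Groth.Agent.H17.isSchemeTheoreticallyDominant_homOfLE_of_dense U W hd
  · have := h ⊤
    have e : (X.homOfLE (inf_top_eq U).ge) ≫ X.homOfLE (inf_le_right : U ⊓ ⊤ ≤ ⊤) ≫ (⊤ : X.Opens).ι = U.ι := by
      simp
    rw [← e]
    have : IsIso (⊤ : X.Opens).ι := inferInstanceAs (IsIso X.topIso.hom)
    have : IsIso (X.homOfLE (inf_top_eq U).ge) :=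
      ⟨X.homOfLE (inf_top_eq U).le, by simp, by simp⟩
    infer_instance

end Groth.Agent.S9360
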