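import Groth.Statements.S9361
import Groth.Agent.H17.Imports

set_option autoImplicit false
universe u
open SchImage

namespace Groth.Agent.S9361

open CategoryTheory Limits AlgebraicGeometry TopologicalSpace

open AlgebraicGeometry CategoryTheory in
/-- Let f : X → Y be separated, V ⊆ Y a retrocompact open and s : V → X a section of f over V. If Y' ⊆ X
is the scheme-theoretic image of s, then Y' → Y is an isomorphism over V. -/
theorem result {X Y : Scheme.{u}} (f : X ⟶ Y) [IsSeparated f] (V : Y.Opens) [QuasiCompact V.ι]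
    (s : (↑V : Scheme.{u}) ⟶ X) (hs : s ≫ f = V.ι) :
    IsIso ((s.imageι ≫ f) ∣_ V) := by
  have : QuasiCompact (s ≫ f) := hs ▸ inferInstance
  have : QuasiCompact s := QuasiCompact.of_comp s f
  have : IsImmersion (s ≫ f) := hs ▸ inferInstance
  have : IsImmersion s := IsImmersion.of_comp s f
  let g := s.imageι ≫ f
  have hg : s.toImage ≫ g = V.ι := by rw [Scheme.Hom.toImage_imageι_assoc, hs]
  have hr : Set.range s.toImage ⊆ Set.range (g ⁻¹ᵁ V).ι := by
    rw [Scheme.Opens.range_ι]
    rintro _ ⟨v, rfl⟩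
    show g (s.toImage v) ∈ V
    rw [← Scheme.Hom.comp_apply, hg]
    exact v.2
  let q := IsOpenImmersion.lift (g ⁻¹ᵁ V).ι s.toImage hr
  have hq : q ≫ (g ⁻¹ᵁ V).ι = s.toImage := IsOpenImmersion.lift_fac _ _ _
  have hq1 : q ≫ (g ∣_ V) = 𝟙 _ := by
    rw [← cancel_mono V.ι, Category.assoc, morphismRestrict_ι, reassoc_of% hq, hg, Category.id_comp]
  have hsep : IsSeparated (g ∣_ V) := inferInstance
  have : IsOpenImmersion (q ≫ (g ⁻¹ᵁ V).ι) := hq ▸ inferInstance
  have : IsOpenImmersion q := IsOpenImmersion.of_comp q (g ⁻¹ᵁ V).ι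
  have : IsClosedImmersion (q ≫ (g ∣_ V)) := hq1 ▸ inferInstance
  have : IsClosedImmersion q := IsClosedImmersion.of_comp q (g ∣_ V)
  have hd : DenseRange q := by
    have hd := (inferInstance : IsDominant s.toImage).denseRange
    rw [DenseRange, ← hq, Scheme.Hom.comp_base, TopCat.coe_comp, Set.range_comp] at hd
    refine (hd.preimage (g ⁻¹ᵁ V).ι.isOpenEmbedding.isOpenMap).mono ?_
    rintro x ⟨y, hy, e⟩
    rwa [← (g ⁻¹ᵁ V).ι.isOpenEmbedding.injective e]
  have : Surjective q := ⟨fun x => by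
    have : x ∈ closure (Set.range q) := hd x
    rwa [q.isClosedEmbedding.isClosed_range.closure_eq] at this⟩
  have : Epi q.base := (TopCat.epi_iff_surjective _).mpr q.surjective
  have : IsIso q := IsOpenImmersion.isIso q
  have : g ∣_ V = inv q := IsIso.eq_inv_of_hom_inv_id hq1
  show IsIso (g ∣_ V)
  rw [this]; infer_instance

end Groth.Agent.S9361
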