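import Groth.Statements.S9367
import Groth.Agent.H9CI.FibreDim
import Groth.Agent.S9364
-- import your own Groth.Agent.* helpers here

set_option autoImplicit false
universe u
open Synt

namespace Groth.Agent.S9367


open AlgebraicGeometry CategoryTheory in
/-- Fibre dimensions in a chart. -/
theorem fibreDimAt_chart {A B C X S : Scheme.{u}} (j : A ⟶ X) [IsOpenImmersion j] (e : A ⟶ C) [IsOpenImmersion e]
    (φ : C ⟶ B) [LocallyOfFiniteType φ] (i : B ⟶ S) [IsOpenImmersion i] (f : X ⟶ S) [LocallyOfFiniteType f]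
    (h : j ≫ f = e ≫ φ ≫ i) (a : A) : FlatMor.fibreDimAt f (j a) = FlatMor.fibreDimAt φ (e a) := by
  rw [← H8Props.FieldDim.fibreDimAt_openImmersion_comp j f a, h,
    H8Props.FieldDim.fibreDimAt_openImmersion_comp e (φ ≫ i) a, H8Props.FieldDim.fibreDimAt_comp_openImmersion]

open AlgebraicGeometry CategoryTheory in
/-- If f : X → S is syntomic, then x ↦ dim_x(X_{f x}) is locally constant on X. -/
theorem result {X S : Scheme.{u}} (f : X ⟶ S) (hf : Synt.IsSyntomicMor f) :
    IsLocallyConstant (fun x : ↑X => FlatMor.fibreDimAt f x) := by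
  rw [IsLocallyConstant.iff_exists_open]
  intro x
  obtain ⟨V, (hV : IsAffineOpen V), hxV, -⟩ := TopologicalSpace.Opens.isBasis_iff_nbhd.mp S.isBasis_affineOpens
    (show f x ∈ (⊤ : S.Opens) from trivial)
  let V' : S.affineOpens := ⟨V, hV⟩
  obtain ⟨U, e, hxU, R, _, n, c, F, hF, e₁, e₂, he⟩ := (Groth.Agent.S9364.result f x V' hxV).mp (hf x)
  have hlft : LocallyOfFiniteType f := by
    have : H9CI.syntMor f := (H9CI.isSyntomicMor_iff_syntMor f).mp hf
    refine (HasRingHomProperty.iff_appLE (P := @LocallyOfFiniteType)).mpr fun V U e => ?_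
    have h := HasRingHomProperty.appLE H9CI.syntMor f this V U e
    letI := (f.appLE V.1 U.1 e).hom.toAlgebra
    haveI : Algebra.FinitePresentation Γ(S, V.1) Γ(X, U.1) := h.2.1
    exact (inferInstance : Algebra.FiniteType Γ(S, V.1) Γ(X, U.1))
  suffices key : ∀ u : U.1, FlatMor.fibreDimAt f u.1 = ((n - c : ℕ) : WithBot ℕ∞) from
    ⟨U.1, U.1.isOpen, hxU, fun y hy => (key ⟨y, hy⟩).trans (key ⟨x, hxU⟩).symm⟩
  intro u
  let φ := Spec.map (CommRingCat.ofHom (algebraMap R (Synt.RelGCIRing R n c F)))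
  haveI : LocallyOfFiniteType φ :=
    (HasRingHomProperty.Spec_iff (P := @LocallyOfFiniteType)).mpr (RingHom.finiteType_algebraMap.mpr inferInstance)
  have hcomm : U.1.ι ≫ f = e₁.hom ≫ φ ≫ e₂.inv ≫ V'.1.ι := by
    rw [← Scheme.Hom.resLE_comp_ι f e]
    exact (congrArg (· ≫ V'.1.ι) (show f.resLE V'.1 U.1 e = (e₁.hom ≫ φ) ≫ e₂.inv by
      rw [he, Category.assoc, e₂.hom_inv_id, Category.comp_id])).trans (by simp only [Category.assoc])
  have hu : (U.1.ι u : X) = u.1 := rfl
  rw [← hu, fibreDimAt_chart U.1.ι e₁.hom φ (e₂.inv ≫ V'.1.ι) f hcomm u]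
  exact H9CI.fibreDimAt_relGCI F hF _

end Groth.Agent.S9367
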