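import Groth.Statements.S9368
import Groth.Agent.H9CI.SyntomicField
import Groth.Agent.H9CI.SyntomicScheme
import Groth.Agent.H9CI.Global
import Groth.Agent.H9CI.FiniteType
import Groth.Agent.H9Synt.Basic
import Groth.Agent.H8Props.KoszImm.Bridge

set_option autoImplicit false
set_option linter.style.haveILetI false
universe u
open Synt

namespace Groth.Agent.S9368

open AlgebraicGeometry CategoryTheory in
/-- For X locally of finite type over a field k with structure morphism p, the following are equivalent: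
(1) p is syntomic; (2) every x ∈ X has an affine open neighbourhood whose coordinate ring is a
global complete intersection over k; (3) each stalk O_{X,x} is a complete intersection ring over k
(k-algebra structures induced by p). -/
theorem result (k : Type u) [Field k] (X : Scheme.{u}) (p : X ⟶ Spec (CommRingCat.of k)) [LocallyOfFiniteType p] :
    [Synt.IsSyntomicMor p,
      ∀ x : ↑X, ∃ U : X.affineOpens, x ∈ U.1 ∧
        letI := ((Scheme.ΓSpecIso (CommRingCat.of k)).inv ≫ p.appLE ⊤ U.1 le_top).hom.toAlgebra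
        Synt.IsGlobalCI k Γ(X, U.1),
      ∀ x : ↑X,
        letI := ((Scheme.ΓSpecIso (CommRingCat.of k)).inv ≫ p.appLE ⊤ ⊤ le_top ≫ X.presheaf.germ ⊤ x trivial).hom.toAlgebra
        Synt.IsCIOver k (X.presheaf.stalk x)].TFAE := by
  have hΓ : ∀ U : X.affineOpens, Synt.IsSyntomicMor p →
      letI := ((Scheme.ΓSpecIso (CommRingCat.of k)).inv ≫ p.appLE ⊤ U.1 le_top).hom.toAlgebra
      Synt.IsLCIOver k Γ(X, U.1) := by
    intro U hp
    let V : (Spec (CommRingCat.of k)).affineOpens := ⟨⊤, isAffineOpen_top _⟩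
    have h1 : Groth.Agent.H9CI.SyntomicHom (p.appLE ⊤ U.1 le_top).hom :=
      Groth.Agent.H9CI.isSyntomic_appLE p hp U V le_top
    have h2 := (Groth.Agent.H9CI.syntomicHom_respectsIso.cancel_left_isIso
      (Scheme.ΓSpecIso (CommRingCat.of k)).inv (p.appLE ⊤ U.1 le_top)).2 h1
    algebraize [((Scheme.ΓSpecIso (CommRingCat.of k)).inv ≫ p.appLE ⊤ U.1 le_top).hom]
    exact (Groth.Agent.H9CI.isSyntomic_iff_isLCIOver _).1 (Groth.Agent.H9CI.syntomicHom_algebraMap.1 h2)
  have hstalk : ∀ (U : X.affineOpens) (x : X) (hx : x ∈ U.1),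
      letI := ((Scheme.ΓSpecIso (CommRingCat.of k)).inv ≫ p.appLE ⊤ U.1 le_top).hom.toAlgebra
      letI := ((Scheme.ΓSpecIso (CommRingCat.of k)).inv ≫ p.appLE ⊤ ⊤ le_top ≫
        X.presheaf.germ ⊤ x trivial).hom.toAlgebra
      Synt.IsCIOver k (X.presheaf.stalk x) ↔
        Synt.IsCIOver k (Localization.AtPrime (U.2.primeIdealOf ⟨x, hx⟩).asIdeal) := by
    intro U x hx
    letI a1 : Algebra k Γ(X, U.1) :=
      ((Scheme.ΓSpecIso (CommRingCat.of k)).inv ≫ p.appLE ⊤ U.1 le_top).hom.toAlgebra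
    letI a2 : Algebra k (X.presheaf.stalk x) := ((Scheme.ΓSpecIso (CommRingCat.of k)).inv ≫
      p.appLE ⊤ ⊤ le_top ≫ X.presheaf.germ ⊤ x trivial).hom.toAlgebra
    letI a3 : Algebra Γ(X, U.1) (X.presheaf.stalk x) := X.presheaf.algebra_section_stalk ⟨x, hx⟩
    haveI : IsLocalization.AtPrime (X.presheaf.stalk x) (U.2.primeIdealOf ⟨x, hx⟩).asIdeal :=
      U.2.isLocalization_stalk ⟨x, hx⟩
    haveI : IsScalarTower k Γ(X, U.1) (X.presheaf.stalk x) := IsScalarTower.of_algebraMap_eq' (by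
      change ((Scheme.ΓSpecIso (CommRingCat.of k)).inv ≫ p.appLE ⊤ ⊤ le_top ≫
          X.presheaf.germ ⊤ x trivial).hom =
        (((Scheme.ΓSpecIso (CommRingCat.of k)).inv ≫ p.appLE ⊤ U.1 le_top) ≫
          X.presheaf.germ U.1 x hx).hom
      rw [← p.appLE_map (show (⊤ : X.Opens) ≤ p ⁻¹ᵁ ⊤ from le_top) (homOfLE (le_top : U.1 ≤ ⊤)).op,
        Category.assoc, Category.assoc, TopCat.Presheaf.germ_res])
    let e : X.presheaf.stalk x ≃ₐ[k] Localization.AtPrime (U.2.primeIdealOf ⟨x, hx⟩).asIdeal :=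
      (IsLocalization.algEquiv (U.2.primeIdealOf ⟨x, hx⟩).asIdeal.primeCompl _ _).restrictScalars k
    exact ⟨fun h => Groth.Agent.H9CI.isCIOver_of_algEquiv e h,
      fun h => Groth.Agent.H9CI.isCIOver_of_algEquiv e.symm h⟩
  tfae_have 1 → 2 := by
    intro hp x
    obtain ⟨U, hU, hxU, -⟩ := TopologicalSpace.Opens.isBasis_iff_nbhd.mp X.isBasis_affineOpens
      (TopologicalSpace.Opens.mem_top x)
    algebraize [((Scheme.ΓSpecIso (CommRingCat.of k)).inv ≫ p.appLE ⊤ U le_top).hom]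
    obtain ⟨-, hcov⟩ := hΓ ⟨U, hU⟩ hp
    obtain ⟨g, hg, hgci⟩ := hcov (hU.primeIdealOf ⟨x, hxU⟩)
    refine ⟨⟨X.basicOpen g, hU.basicOpen g⟩, ?_, ?_⟩
    · exact (Groth.Agent.H8Props.KoszImm.mem_basicOpen_iff_notMem ⟨U, hU⟩ x hxU g).2 hg
    · letI : Algebra k Γ(X, X.basicOpen g) :=
        ((Scheme.ΓSpecIso (CommRingCat.of k)).inv ≫ p.appLE ⊤ (X.basicOpen g) le_top).hom.toAlgebra
      haveI : IsLocalization.Away g Γ(X, X.basicOpen g) := hU.isLocalization_basicOpen g
      haveI : IsScalarTower k Γ(X, U) Γ(X, X.basicOpen g) := IsScalarTower.of_algebraMap_eq' (by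
        change ((Scheme.ΓSpecIso (CommRingCat.of k)).inv ≫ p.appLE ⊤ (X.basicOpen g) le_top).hom =
          (((Scheme.ΓSpecIso (CommRingCat.of k)).inv ≫ p.appLE ⊤ U le_top) ≫
            X.presheaf.map (homOfLE (X.basicOpen_le g)).op).hom
        rw [Category.assoc, Scheme.Hom.appLE_map])
      exact Groth.Agent.H9Synt.isGlobalCI_of_algEquiv
        ((IsLocalization.algEquiv (Submonoid.powers g) _ _).restrictScalars k) hgci
  tfae_have 2 → 3 := by
    intro h x
    obtain ⟨U, hxU, hci⟩ := h x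
    algebraize [((Scheme.ΓSpecIso (CommRingCat.of k)).inv ≫ p.appLE ⊤ U.1 le_top).hom]
    exact (hstalk U x hxU).2 (Groth.Agent.H9CI.isCIOver_of_isGlobalCI hci _)
  tfae_have 3 → 1 := by
    intro h x
    obtain ⟨U, hU, hxU, -⟩ := TopologicalSpace.Opens.isBasis_iff_nbhd.mp X.isBasis_affineOpens
      (TopologicalSpace.Opens.mem_top x)
    refine ⟨⟨U, hU⟩, ⟨⊤, isAffineOpen_top _⟩, le_top, hxU, ?_⟩
    algebraize [((Scheme.ΓSpecIso (CommRingCat.of k)).inv ≫ p.appLE ⊤ U le_top).hom]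
    haveI : Algebra.FiniteType k Γ(X, U) := by
      have h1 : (p.appLE ⊤ U le_top).hom.FiniteType :=
        HasRingHomProperty.appLE @LocallyOfFiniteType p inferInstance ⟨⊤, isAffineOpen_top _⟩ ⟨U, hU⟩ le_top
      have h2 := (RingHom.finiteType_respectsIso.cancel_left_isIso
        (Scheme.ΓSpecIso (CommRingCat.of k)).inv (p.appLE ⊤ U le_top)).2 h1
      exact RingHom.finiteType_algebraMap.1 h2
    have hlci : Synt.IsLCIOver k Γ(X, U) := Groth.Agent.H9CI.isLCIOver_of_forall_maximal fun m hm => by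
      have hm' : hU.primeIdealOf ⟨hU.fromSpec ⟨m, hm.isPrime⟩,
          hU.range_fromSpec.le ⟨_, rfl⟩⟩ = ⟨m, hm.isPrime⟩ :=
        hU.fromSpec.isOpenEmbedding.injective (by rw [hU.fromSpec_primeIdealOf])
      have h1 := (hstalk ⟨U, hU⟩ (hU.fromSpec ⟨m, hm.isPrime⟩) (hU.range_fromSpec.le ⟨_, rfl⟩)).1 (h _)
      have key : ∀ (q : PrimeSpectrum Γ(X, U)), q = ⟨m, hm.isPrime⟩ →
          Synt.IsCIOver k (Localization.AtPrime q.asIdeal) → Synt.IsCIOver k (Localization.AtPrime m) := by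
        rintro _ rfl h'; exact h'
      exact key _ hm' h1
    have h2 := Groth.Agent.H9CI.syntomicHom_algebraMap.2 ((Groth.Agent.H9CI.isSyntomic_iff_isLCIOver _).2 hlci)
    exact (Groth.Agent.H9CI.syntomicHom_respectsIso.cancel_left_isIso
      (Scheme.ΓSpecIso (CommRingCat.of k)).inv (p.appLE ⊤ U le_top)).1 h2
  tfae_finish

end Groth.Agent.S9368
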