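import Groth.Statements.S9369
import Groth.Agent.H29Omega.DerAffine

set_option autoImplicit false
universe u
open OmegaSh

namespace Groth.Agent.S9369

open AlgebraicGeometry CategoryTheory in
/-- For a morphism of affine schemes f : X → S and an O_X-module F, restricting an S-derivation O_X → F
to global sections is a bijection onto the derivations of Γ(X, O_X) into Γ(X, F) over Γ(S, O_S)
(additive, Leibniz, killing the image of Γ(S, O_S)). -/
theorem result {X S : Scheme.{u}} [IsAffine X] [IsAffine S] (f : X ⟶ S) (F : X.Modules) :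
    Function.Injective (fun D : OmegaSh.Der f F => D.app ⊤) ∧
      ∀ δ : Γ(X, ⊤) →+ Γ(F, ⊤),
        ((∀ a b : Γ(X, ⊤), δ (a * b) = a • δ b + b • δ a) ∧ ∀ c : Γ(S, ⊤), δ (f.appTop c) = 0) ↔
          ∃ D : OmegaSh.Der f F, D.app ⊤ = δ := by
  refine ⟨Groth.Agent.H29Omega.DerAffine.injective_app_top F f, fun δ ↦ ⟨fun ⟨h1, h2⟩ ↦
    Groth.Agent.H29Omega.DerAffine.exists_der F h1 f h2, ?_⟩⟩
  rintro ⟨D, rfl⟩
  exact ⟨fun a b ↦ D.d_mul a b, fun c ↦ D.d_app (X := Opposite.op ⊤) c⟩

end Groth.Agent.S9369
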