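import Groth.Statements.S9373
import Groth.Agent.H22Alg.CohSupport
-- import your own Groth.Agent.* helpers here

set_option autoImplicit false
universe u
open QCohSub

namespace Groth.Agent.S9373

open AlgebraicGeometry CategoryTheory in
/-- The support of a quasi-coherent O_X-module is closed under specialization. -/
theorem result (X : Scheme.{u}) (F : X.Modules) (hF : Coh.IsQCoh F) :
    StableUnderSpecialization (CohB1.support F) := by
  intro x y hxy hx
  obtain ⟨U, hU, hyU, -⟩ := exists_isAffineOpen_mem_and_subset (X := X) (x := y) (U := ⊤) trivial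
  have hxU : x ∈ U := hxy.mem_open U.isOpen hyU
  show ¬ Subsingleton _
  rw [not_subsingleton_iff_nontrivial]
  replace hx : Nontrivial _ := not_subsingleton_iff_nontrivial.1 hx
  rw [Groth.Agent.H22Alg.CohSupport.nontrivial_stalk_iff F hF hU ⟨y, hyU⟩]
  refine Module.mem_support_mono ?_ ((Groth.Agent.H22Alg.CohSupport.nontrivial_stalk_iff F hF hU ⟨x, hxU⟩).1 hx)
  have h := hU.fromSpec_primeIdealOf ⟨x, hxU⟩
  rw [PrimeSpectrum.le_iff_specializes]
  refine hU.fromSpec.isOpenEmbedding.isInducing.specializes_iff.1 ?_
  rw [hU.fromSpec_primeIdealOf, hU.fromSpec_primeIdealOf]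
  exact hxy

end Groth.Agent.S9373
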