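import Groth.Statements.S9379
import Groth.Agent.H13CI.Scheme
import Groth.Agent.H13CI.Syntomic
-- import your own Groth.Agent.* helpers here

set_option autoImplicit false
universe u
open Synt

namespace Groth.Agent.S9379


open AlgebraicGeometry CategoryTheory
theorem essFT_stalk {P : Scheme.{u}} {K : CommRingCat.{u}} (p : P ⟶ Spec K) [LocallyOfFiniteType p] (u : P) :
    ((Scheme.ΓSpecIso K).inv ≫ p.appLE ⊤ ⊤ le_top ≫ P.presheaf.germ ⊤ u trivial).hom.EssFiniteType := by
  have h1 : (Scheme.ΓSpecIso K).inv ≫ p.appLE ⊤ ⊤ le_top ≫ P.presheaf.germ ⊤ u trivial =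
      ((Scheme.ΓSpecIso K).inv ≫ (Spec K).presheaf.germ ⊤ (p u) trivial) ≫ p.stalkMap u := by
    simp [Scheme.Hom.appLE, Scheme.Hom.germ_stalkMap]
  rw [h1, CommRingCat.hom_comp]
  refine RingHom.EssFiniteType.comp ?_ (LocallyOfFiniteType.stalkMap p u)
  letI : Algebra K ((Spec K).presheaf.stalk (p u)) := StructureSheaf.stalkAlgebra K (p u)
  haveI : IsLocalization.AtPrime ((Spec K).presheaf.stalk (p u)) (p u).asIdeal :=
    StructureSheaf.IsLocalization.to_stalk K (p u)
  exact RingHom.essFiniteType_algebraMap.mpr (Algebra.EssFiniteType.of_isLocalization _ (p u).asIdeal.primeCompl)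

theorem isCIOver_fibre_iff {X S : Scheme.{u}} (f : X ⟶ S) [LocallyOfFiniteType f] (x : X) :
    letI := ((Scheme.ΓSpecIso (S.residueField (f.base x))).inv ≫
        (f.fiberToSpecResidueField (f.base x)).appLE ⊤ ⊤ le_top ≫
          (f.fiber (f.base x)).presheaf.germ ⊤ (f.asFiber x) trivial).hom.toAlgebra
    Synt.IsCIOver (S.residueField (f.base x)) ((f.fiber (f.base x)).presheaf.stalk (f.asFiber x)) ↔
      Pi1.IsCompleteIntersection ((f.fiber (f.base x)).presheaf.stalk (f.asFiber x)) := by
  letI := ((Scheme.ΓSpecIso (S.residueField (f.base x))).inv ≫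
        (f.fiberToSpecResidueField (f.base x)).appLE ⊤ ⊤ le_top ≫
          (f.fiber (f.base x)).presheaf.germ ⊤ (f.asFiber x) trivial).hom.toAlgebra
  haveI : LocallyOfFiniteType (f.fiberToSpecResidueField (f x)) :=
    H8Props.FieldDim.locallyOfFiniteType_fiberToSpec f _
  haveI : Algebra.EssFiniteType (S.residueField (f.base x)) ((f.fiber (f.base x)).presheaf.stalk (f.asFiber x)) :=
    RingHom.essFiniteType_algebraMap.mp (essFT_stalk (f.fiberToSpecResidueField (f.base x)) (f.asFiber x))
  exact H13CI.isCIOver_iff_isCI

open AlgebraicGeometry CategoryTheory in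
/-- For f : X → S locally of finite type, the set of points x at which the local ring of the fibre X_{f
x} is a complete intersection over κ(f x) is compatible with arbitrary base change: in a cartesian
square with base change f' : X' → S', g' : X' → X, the corresponding set for f' is the inverse image
of the one for f. (The published statement adds that, for f flat and locally of finite presentation,
the set of points at which f is syntomic is compatible with base change in the same way; this row
states only the first assertion.) -/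
theorem result {X S X' S' : Scheme.{u}} (f : X ⟶ S) [LocallyOfFiniteType f] (g : S' ⟶ S)
    (g' : X' ⟶ X) (f' : X' ⟶ S') (hsq : IsPullback g' f' f g) :
    {x' : ↑X' |
        letI := ((Scheme.ΓSpecIso (S'.residueField (f'.base x'))).inv ≫
            (f'.fiberToSpecResidueField (f'.base x')).appLE ⊤ ⊤ le_top ≫
              (f'.fiber (f'.base x')).presheaf.germ ⊤ (f'.asFiber x') trivial).hom.toAlgebra
        Synt.IsCIOver (S'.residueField (f'.base x')) ((f'.fiber (f'.base x')).presheaf.stalk (f'.asFiber x'))} =
      g'.base ⁻¹' {x : ↑X |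
        letI := ((Scheme.ΓSpecIso (S.residueField (f.base x))).inv ≫
            (f.fiberToSpecResidueField (f.base x)).appLE ⊤ ⊤ le_top ≫
              (f.fiber (f.base x)).presheaf.germ ⊤ (f.asFiber x) trivial).hom.toAlgebra
        Synt.IsCIOver (S.residueField (f.base x)) ((f.fiber (f.base x)).presheaf.stalk (f.asFiber x))} := by
  haveI : LocallyOfFiniteType f' := MorphismProperty.of_isPullback hsq ‹_›
  ext x'
  exact (isCIOver_fibre_iff f' x').trans ((H13CI.fibre_ci_baseChange hsq x').trans (isCIOver_fibre_iff f _).symm)

end Groth.Agent.S9379
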