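import Groth.Statements.S9380
import Groth.Agent.H11Cone.Factor
import Groth.Agent.H11Aff.RelSpecUniv

set_option autoImplicit false
universe u
open QAff

namespace Groth.Agent.S9380

open AlgebraicGeometry CategoryTheory in
/-- A quasi-compact quasi-separated morphism f : X → S is quasi-affine if and only if the canonical
S-morphism X → Spec_S(f_*O_X) (the one inducing the comparison map on direct-image algebras) exists
as a quasi-compact open immersion. -/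
theorem result {X S : Scheme.{u}} (f : X ⟶ S) [QuasiCompact f] [QuasiSeparated f] :
    MoreMor.IsQuasiAffineHom f ↔
      ∃ (c : X ⟶ (RelSpec.QCAlg.directImage f).spec) (e : c ≫ (RelSpec.QCAlg.directImage f).π = f),
        (RelSpec.QCAlg.directImage f).gammaMap = AffAlg.algHom (RelSpec.QCAlg.directImage f).π f c e ∧
          QuasiCompact c ∧ IsOpenImmersion c := by
  let A := RelSpec.QCAlg.directImage f
  constructor
  · intro hf
    obtain ⟨⟨c, w⟩, hc⟩ := H11Aff.algOf_surjective A.π f ⟨A.gammaMap, A.π_c_gammaMap⟩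
    have hc' : A.gammaMap = AffAlg.algHom A.π f c w := (congrArg Subtype.val hc).symm
    haveI : QuasiCompact (c ≫ A.π) := w ▸ inferInstance
    haveI : QuasiCompact c := QuasiCompact.of_comp c A.π
    refine ⟨c, w, hc', inferInstance, ?_⟩
    refine IsZariskiLocalAtTarget.of_iSup_eq_top (fun U : S.affineOpens => A.π ⁻¹ᵁ U.1) ?_ fun U => ?_
    · rw [← Scheme.Hom.preimage_iSup, iSup_affineOpens_eq_top, Scheme.Hom.preimage_top]
    · have heq : f ⁻¹ᵁ U.1 = c ⁻¹ᵁ (A.π ⁻¹ᵁ U.1) := by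
        rw [← Scheme.Hom.comp_preimage, w]
      haveI : IsAffine (A.π ⁻¹ᵁ U.1).toScheme := U.2.preimage A.π
      haveI : (c ⁻¹ᵁ (A.π ⁻¹ᵁ U.1)).toScheme.IsQuasiAffine := heq ▸ hf.2 U.1 U.2
      have hb : ∀ (V : X.Opens) (e : V ≤ c ⁻¹ᵁ (A.π ⁻¹ᵁ U.1)), V = c ⁻¹ᵁ (A.π ⁻¹ᵁ U.1) →
          Function.Bijective (c.appLE (A.π ⁻¹ᵁ U.1) V e) → IsIso (c.app (A.π ⁻¹ᵁ U.1)) := by
        intro V e hV h
        subst hV
        rw [Scheme.Hom.appLE_eq_app] at h
        exact (ConcreteCategory.isIso_iff_bijective _).2 h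
      haveI hiso : IsIso (c.app (A.π ⁻¹ᵁ U.1)) :=
        hb _ (H11Aff.preimage_le A.π f c w U.1) heq (H11Cone.bijective_appLE_directImage f c w hc'.symm U)
      haveI : IsIso (c ∣_ (A.π ⁻¹ᵁ U.1)).appTop := by
        rw [morphismRestrict_appTop]
        have : (A.π ⁻¹ᵁ U.1).ι ''ᵁ ⊤ = A.π ⁻¹ᵁ U.1 := Scheme.Opens.ι_image_top _
        have h1 : IsIso (c.app ((A.π ⁻¹ᵁ U.1).ι ''ᵁ ⊤)) := by rw [this]; exact hiso
        exact @IsIso.comp_isIso _ _ _ _ _ _ _ h1 (Functor.map_isIso _ _)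
      let h := c ∣_ (A.π ⁻¹ᵁ U.1)
      have hh : h = Scheme.toSpecΓ _ ≫ Spec.map h.appTop ≫ (A.π ⁻¹ᵁ U.1).toScheme.isoSpec.inv := by
        rw [← Category.assoc, ← Scheme.toSpecΓ_naturality, Category.assoc, ← Scheme.isoSpec_hom,
          Iso.hom_inv_id, Category.comp_id]
      show IsOpenImmersion h
      rw [hh]
      infer_instance
  · rintro ⟨c, w, -, hcq, hco⟩
    refine ⟨inferInstance, fun V hV => ?_⟩
    have heq : f ⁻¹ᵁ V = c ⁻¹ᵁ (A.π ⁻¹ᵁ V) := by rw [← Scheme.Hom.comp_preimage, w]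
    haveI : IsAffine (A.π ⁻¹ᵁ V).toScheme := hV.preimage A.π
    haveI : QuasiCompact (c ∣_ (A.π ⁻¹ᵁ V)) := IsZariskiLocalAtTarget.restrict hcq _
    haveI : CompactSpace (c ⁻¹ᵁ (A.π ⁻¹ᵁ V)).toScheme :=
      QuasiCompact.compactSpace_of_compactSpace (c ∣_ (A.π ⁻¹ᵁ V))
    rw [heq]
    exact Scheme.IsQuasiAffine.of_isImmersion (c ∣_ (A.π ⁻¹ᵁ V))

end Groth.Agent.S9380
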