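import Groth.Statements.S9381
import Groth.Agent.H8Props.FieldDimFibre

set_option autoImplicit false
universe u
open FibDim

namespace Groth.Agent.S9381

open AlgebraicGeometry CategoryTheory in
/-- Let f : X → S be locally of finite type and x ⤳ x' a nontrivial specialization of points of X in the
same fibre (f x = f x'). Then trdeg_{κ(f x)} κ(x) > trdeg_{κ(f x')} κ(x'). -/
theorem result {X S : Scheme.{u}} (f : X ⟶ S) [LocallyOfFiniteType f] (x x' : X)
    (hsp : x ⤳ x') (hne : x ≠ x') (hfx : f.base x = f.base x') :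
    @Algebra.trdeg (S.residueField (f.base x')) (X.residueField x') _ _ (f.residueFieldMap x').hom.toAlgebra <
      @Algebra.trdeg (S.residueField (f.base x)) (X.residueField x) _ _ (f.residueFieldMap x).hom.toAlgebra := by
  obtain ⟨u, hu⟩ : x ∈ Set.range (f.fiberι (f.base x)) := by rw [f.range_fiberι]; rfl
  obtain ⟨u', hu'⟩ : x' ∈ Set.range (f.fiberι (f.base x)) := by rw [f.range_fiberι]; exact hfx.symm
  haveI := Groth.Agent.H8Props.FieldDim.locallyOfFiniteType_fiberToSpec f (f.base x)
  have hlt := Groth.Agent.H8Props.FieldDim.cdim_lt (k := S.residueField (f.base x))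
    (f.fiberToSpecResidueField (f.base x)) (x := u) (y := u')
    ((f.fiberι _).isEmbedding.isInducing.specializes_iff.mp (by rw [hu, hu']; exact hsp))
    (fun e => hne (by rw [← hu, ← hu', e]))
  obtain ⟨s, hs, ht⟩ := Groth.Agent.H8Props.FieldDim.exists_trdeg_fiber f u
  obtain ⟨s', hs', ht'⟩ := Groth.Agent.H8Props.FieldDim.exists_trdeg_fiber f u'
  rw [hs, hs'] at hlt
  generalize hgen : f.fiberι (f.base x) u = z at ht
  generalize hgen' : f.fiberι (f.base x) u' = z' at ht'
  obtain rfl : z = x := hgen.symm.trans hu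
  obtain rfl : z' = x' := hgen'.symm.trans hu'
  rw [ht, ht']
  exact_mod_cast hlt

end Groth.Agent.S9381
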