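import Groth.Statements.S9382
import Mathlib.AlgebraicGeometry.IdealSheaf.Subscheme
import Mathlib.AlgebraicGeometry.Morphisms.ClosedImmersion
-- import your own Groth.Agent.* helpers here

set_option autoImplicit false
universe u
open QCohSub

namespace Groth.Agent.S9382

open AlgebraicGeometry CategoryTheory in
/-- For closed subschemes Z, Y ⊆ X with ideal sheaves I, J, the scheme-theoretic intersection (ideal
sheaf I ⊔ J) together with its inclusions into Z and Y forms a cartesian square over X. -/
theorem result (X : Scheme.{u}) (I J : X.IdealSheafData) :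
    IsPullback (Scheme.IdealSheafData.inclusion (le_sup_left : I ≤ I ⊔ J))
      (Scheme.IdealSheafData.inclusion (le_sup_right : J ≤ I ⊔ J)) I.subschemeι J.subschemeι := by
  refine IsPullback.of_isLimit' ⟨by simp⟩ (Limits.PullbackCone.IsLimit.mk _
    (fun s => IsClosedImmersion.lift (I ⊔ J).subschemeι (s.fst ≫ I.subschemeι) ?_) ?_ ?_ ?_)
  · rw [Scheme.IdealSheafData.ker_subschemeι]
    refine sup_le ?_ ?_
    · exact (le_of_eq I.ker_subschemeι.symm).trans (s.fst.le_ker_comp _)
    · rw [show s.fst ≫ I.subschemeι = s.snd ≫ J.subschemeι from s.condition]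
      exact (le_of_eq J.ker_subschemeι.symm).trans (s.snd.le_ker_comp _)
  · intro s
    rw [← cancel_mono I.subschemeι, Category.assoc, Scheme.IdealSheafData.inclusion_subschemeι]
    exact IsClosedImmersion.lift_fac _ _ _
  · intro s
    rw [← cancel_mono J.subschemeι, Category.assoc, Scheme.IdealSheafData.inclusion_subschemeι]
    exact (IsClosedImmersion.lift_fac _ _ _).trans s.condition
  · intro s m h1 _
    rw [← cancel_mono (I ⊔ J).subschemeι, IsClosedImmersion.lift_fac, ← h1, Category.assoc,
      Scheme.IdealSheafData.inclusion_subschemeι]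

end Groth.Agent.S9382
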