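import Groth.Statements.S9389
import Groth.Agent.H17.Fibre

set_option autoImplicit false
universe u
open QFin

namespace Groth.Agent.S9389

open CategoryTheory Limits AlgebraicGeometry TopologicalSpace

open AlgebraicGeometry CategoryTheory in
/-- For f : X → S locally of finite type and a cartesian square with base change f' : X' → S', g' : X' →
X, the quasi-finite locus of f' is the inverse image under g' of the quasi-finite locus of f. -/
theorem result {X S X' S' : Scheme.{u}} (f : X ⟶ S) [LocallyOfFiniteType f] (g : S' ⟶ S)
    (g' : X' ⟶ X) (f' : X' ⟶ S') (hsq : IsPullback g' f' f g) :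
    {x' : ↑X' | f'.QuasiFiniteAt x'} = g'.base ⁻¹' {x : ↑X | f.QuasiFiniteAt x} := by
  ext x'
  have : LocallyOfFiniteType f' :=
    MorphismProperty.of_isPullback (P := @LocallyOfFiniteType) hsq inferInstance
  have key : ∀ (x : X) (y : S) (z : f.fiber y), f.fiberι y z = x →
      (f.QuasiFiniteAt x ↔ IsOpen ({z} : Set (f.fiber y))) := by
    intro x y z hz
    obtain rfl : f x = y := by
      rw [← hz]
      have : f.fiberι y z ∈ Set.range (f.fiberι y) := Set.mem_range_self z
      rw [f.range_fiberι] at this
      exact this
    obtain rfl : z = f.asFiber x := (f.fiberι (f x)).isEmbedding.injective (by rw [hz, f.fiberι_asFiber])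
    exact Scheme.Hom.quasiFiniteAt_iff_isOpen_singleton_asFiber
  have sq := isPullback_fiberToSpecResidueField_of_isPullback hsq (f' x')
  have e : pullback.map f' (S'.fromSpecResidueField (f' x')) f (S.fromSpecResidueField (g (f' x'))) g'
      (Spec.map (g.residueFieldMap (f' x'))) g hsq.w.symm (by simp) ≫ f.fiberι (g (f' x')) =
      f'.fiberι (f' x') ≫ g' := pullback.lift_fst ..
  have hz := congr($e (f'.asFiber x')).trans congr(g' $(f'.fiberι_asFiber x'))
  show f'.QuasiFiniteAt x' ↔ f.QuasiFiniteAt (g' x')
  rw [Scheme.Hom.quasiFiniteAt_iff_isOpen_singleton_asFiber, key _ _ _ hz]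
  set h : f'.fiber (f' x') ⟶ f.fiber (g (f' x')) := pullback.map f' (S'.fromSpecResidueField (f' x')) f (S.fromSpecResidueField (g (f' x'))) g'
      (Spec.map (g.residueFieldMap (f' x'))) g hsq.w.symm (by simp)
  constructor
  · intro ho
    have : UniversallyOpen h := MorphismProperty.of_isPullback (P := @UniversallyOpen) sq.flip inferInstance
    have := h.isOpenMap _ ho
    rwa [Set.image_singleton] at this
  · intro ho
    have hcl := isClosed_singleton_of_isLocallyClosed_singleton ho.isLocallyClosed
    let Z : (f'.fiber (f' x')).Opens := ⟨h ⁻¹' {h (f'.asFiber x')}, ho.preimage h.continuous⟩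
    have := Groth.Agent.H17.isLocallyNoetherian_fiber f' (f' x')
    have : LocallyOfFiniteType (f.fiberToSpecResidueField (g (f' x'))) :=
      MorphismProperty.pullback_snd (P := @LocallyOfFiniteType) _ _ inferInstance
    have hZ : ∀ z : Z.toScheme, IsClosed ({z} : Set Z.toScheme) := fun z => by
      have hz1 : IsClosed ({Z.ι z} : Set (f'.fiber (f' x'))) := by
        refine @Groth.Agent.H17.isClosed_singleton_of_isPullback _ _ _ _ _ _ _ _ sq (by assumption) _ _ inferInstance (Z.ι z) ?_
        have : h (Z.ι z) = h (f'.asFiber x') := z.2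
        exact Eq.subst (motive := fun w => IsClosed ({w} : Set _)) this.symm hcl
      have := hz1.preimage Z.ι.continuous
      rwa [← Set.image_singleton, Set.preimage_image_eq _ Z.ι.isEmbedding.injective] at this
    have : DiscreteTopology Z.toScheme := Groth.Agent.H17.discreteTopology_of_isClosed_singleton hZ
    have := Z.ι.isOpenEmbedding.isOpenMap _ (@isOpen_discrete _ _ this ({(⟨f'.asFiber x', rfl⟩ : Z.toScheme)} : Set Z.toScheme))
    erw [Set.image_singleton] at this
    exact this

end Groth.Agent.S9389
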