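import Groth.Statements.S9391
import Groth.Agent.H02CA.N2

set_option autoImplicit false
universe u
open CAlg

namespace Groth.Agent.S9391

/-- A localization of an N-1 domain which is again a domain is N-1. -/
theorem result (R : Type u) [CommRing R] [IsDomain R] (M : Submonoid R)
    (S : Type u) [CommRing S] [IsDomain S] [Algebra R S] [IsLocalization M S]
    (h : CAlg.IsN1 R) : CAlg.IsN1 S := by
  have hM : M ≤ nonZeroDivisors R := fun m hm => mem_nonZeroDivisors_of_ne_zero fun h0 =>
    not_subsingleton S (IsLocalization.subsingleton (M := M) (h0 ▸ hm))
  haveI : IsFractionRing R (FractionRing S) := H02CA.isFractionRing_of_localization M S (FractionRing S)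
  exact H02CA.finite_integralClosure_of_isLocalization M (H02CA.finite_integralClosure_of_isN1 h (FractionRing S))

end Groth.Agent.S9391
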