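import Groth.Statements.S9395
import Mathlib.Tactic.LinearCombination
import Groth.Agent.H02CA.N2
import Mathlib.RingTheory.Polynomial.Basic

set_option autoImplicit false
universe u
open CAlg

namespace Groth.Agent.S9395

/-- For a Noetherian domain R, if the Laurent polynomial ring R[X, 1/X] (the localization of R[X] away
from X) is N-1, then R is N-1. -/
theorem result (R : Type u) [CommRing R] [IsDomain R] [IsNoetherianRing R]
    (S : Type u) [CommRing S] [IsDomain S] [Algebra (Polynomial R) S]
    [IsLocalization.Away (Polynomial.X : Polynomial R) S] (h : CAlg.IsN1 S) : CAlg.IsN1 R := by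
  classical
  haveI hSN : IsNoetherianRing S := IsLocalization.isNoetherianRing (Submonoid.powers (Polynomial.X : Polynomial R)) S inferInstance
  let ι : R →+* S := (algebraMap (Polynomial R) S).comp Polynomial.C
  have hinjS : Function.Injective (algebraMap (Polynomial R) S) :=
    IsLocalization.injective S (powers_le_nonZeroDivisors_of_noZeroDivisors Polynomial.X_ne_zero)
  let F := FractionRing S
  have hι : Function.Injective ((algebraMap S F).comp ι) :=
    (IsFractionRing.injective S F).comp (hinjS.comp Polynomial.C_injective)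
  obtain ⟨ψ, hψ⟩ : ∃ ψ : FractionRing R →+* F, ∀ r, ψ (algebraMap R (FractionRing R) r) = algebraMap S F (ι r) :=
    ⟨IsFractionRing.lift hι, IsFractionRing.lift_algebraMap hι⟩
  -- a common denominator in `S`
  haveI : Module.Finite S (integralClosure S F) := h
  obtain ⟨G, hG⟩ := (Module.Finite.iff_fg (N := Subalgebra.toSubmodule (integralClosure S F))).mp h
  obtain ⟨d, hd⟩ := IsLocalization.exist_integer_multiples (nonZeroDivisors S) G id
  have hd' : ∀ z ∈ integralClosure S F, ∃ s : S, algebraMap S F s = (d : S) • z := by
    intro z hz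
    have hz' : z ∈ Subalgebra.toSubmodule (integralClosure S F) := hz
    rw [← hG] at hz'
    clear hz
    induction hz' using Submodule.span_induction with
    | mem z hz => exact hd z hz
    | zero => exact ⟨0, by simp⟩
    | add a b _ _ ha hb =>
      obtain ⟨s, hs⟩ := ha; obtain ⟨t, ht⟩ := hb
      exact ⟨s + t, by rw [map_add, hs, ht, smul_add]⟩
    | smul c a _ ha =>
      obtain ⟨s, hs⟩ := ha
      exact ⟨c * s, by rw [map_mul, hs, smul_comm, Algebra.smul_def c]⟩
  obtain ⟨⟨P, ⟨_, l, rfl⟩⟩, hP⟩ := IsLocalization.surj (Submonoid.powers (Polynomial.X : Polynomial R)) (d : S)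
  simp only [map_pow] at hP
  have hP0 : P ≠ 0 := by
    intro h0
    rw [h0, map_zero, mul_eq_zero] at hP
    rcases hP with h1 | h1
    · exact nonZeroDivisors.ne_zero d.2 h1
    · exact pow_ne_zero l ((map_ne_zero_iff _ hinjS).mpr Polynomial.X_ne_zero) h1
  obtain ⟨j, hj⟩ : ∃ j, P.coeff j ≠ 0 := by
    by_contra hc; push Not at hc; exact hP0 (Polynomial.ext fun j => by simpa using hc j)
  -- every integral element has `P.coeff j` as denominator
  have key : ∀ c : integralClosure R (FractionRing R), ∃ r : R, algebraMap R (FractionRing R) r = P.coeff j • (c : FractionRing R) := by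
    intro c
    obtain ⟨⟨a, b⟩, hab⟩ := IsLocalization.surj (nonZeroDivisors R) (c : FractionRing R)
    simp only at hab
    have hψc : ψ (c : FractionRing R) ∈ integralClosure S F := by
      obtain ⟨p, hp, hp'⟩ := c.2
      refine ⟨p.map ι, hp.map ι, ?_⟩
      rw [Polynomial.eval₂_map]
      have := congr_arg ψ hp'
      rw [Polynomial.hom_eval₂, map_zero] at this
      rwa [show (algebraMap S F).comp ι = ψ.comp (algebraMap R (FractionRing R)) from
        RingHom.ext fun r => (hψ r).symm]
    obtain ⟨s, hs⟩ := hd' _ hψc
    obtain ⟨⟨g, ⟨_, t, rfl⟩⟩, hg⟩ := IsLocalization.surj (Submonoid.powers (Polynomial.X : Polynomial R)) s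
    simp only [map_pow] at hg
    have h1 : ψ (c : FractionRing R) * algebraMap S F (ι (b : R)) = algebraMap S F (ι a) := by
      have := congr_arg ψ hab
      simpa [map_mul, hψ] using this
    have hsd : s * ι (b : R) = (d : S) * ι a := by
      apply IsFractionRing.injective S F
      rw [map_mul, map_mul, hs, Algebra.smul_def, mul_assoc, h1]
    have h2 : g * Polynomial.C (b : R) * Polynomial.X ^ l = P * Polynomial.C a * Polynomial.X ^ t := by
      apply hinjS
      simp only [map_mul, map_pow, ← hg, ← hP]
      show s * _ * ι (b : R) * _ = (d : S) * _ * ι a * _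
      linear_combination algebraMap (Polynomial R) S Polynomial.X ^ (t + l) * hsd
    have h3 := congr_arg (fun q => Polynomial.coeff q (j + t)) h2
    simp only [Polynomial.coeff_mul_X_pow, Polynomial.coeff_mul_C] at h3
    rw [Polynomial.coeff_mul_X_pow'] at h3
    refine ⟨if l ≤ j + t then g.coeff (j + t - l) else 0, ?_⟩
    have hb0 : algebraMap R (FractionRing R) (b : R) ≠ 0 :=
      (map_ne_zero_iff _ (IsFractionRing.injective R _)).mpr (nonZeroDivisors.ne_zero b.2)
    refine mul_right_cancel₀ hb0 ?_
    rw [Algebra.smul_def, mul_assoc, hab, ← map_mul, ← map_mul, ← h3]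
    congr 1
    split_ifs <;> simp
  -- embed in `R`
  choose r hr using key
  have hu : algebraMap R (FractionRing R) (P.coeff j) ≠ 0 := (map_ne_zero_iff _ (IsFractionRing.injective R _)).mpr hj
  let θ : integralClosure R (FractionRing R) →ₗ[R] R :=
    { toFun := r
      map_add' := fun x y => IsFractionRing.injective R (FractionRing R) (by rw [map_add, hr, hr, hr, Subalgebra.coe_add, smul_add])
      map_smul' := fun c x => IsFractionRing.injective R (FractionRing R) (by
        rw [RingHom.id_apply, smul_eq_mul, map_mul, hr, hr, Subalgebra.coe_smul, smul_comm, Algebra.smul_def c]) }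
  refine Module.Finite.of_injective θ fun x y (hxy : r x = r y) => Subtype.ext ?_
  have h4 := congr_arg (algebraMap R (FractionRing R)) hxy
  rw [hr, hr, Algebra.smul_def, Algebra.smul_def] at h4
  exact mul_left_cancel₀ hu h4

end Groth.Agent.S9395
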