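import Groth.Statements.S9397
import Groth.Agent.H02CA.N2
import Mathlib.RingTheory.DedekindDomain.IntegralClosure

set_option autoImplicit false
universe u
open CAlg

namespace Groth.Agent.S9397

/-- A ring R is universally Japanese provided that each R-algebra of finite type which is a domain is
N-1. -/
theorem result (R : Type u) [CommRing R]
    (h : ∀ (S : Type u) [CommRing S] [IsDomain S] [Algebra R S], Algebra.FiniteType R S → CAlg.IsN1 S) :
    CAlg.IsUniversallyJapanese R := by
  intro S _ _ _ hS
  intro L _ _ _ _ hL
  classical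
  haveI := hS
  obtain ⟨y, hy, hint⟩ := exists_integral_multiples S (FractionRing S)
    (Finset.univ.image (Module.finBasis (FractionRing S) L))
  let b := Module.finBasis (FractionRing S) L
  let T : Finset L := Finset.univ.image fun i => y • b i
  have hT : ∀ x ∈ T, IsIntegral S x := fun x hx => by
    obtain ⟨i, -, rfl⟩ := Finset.mem_image.mp hx
    exact hint _ (Finset.mem_image_of_mem _ (Finset.mem_univ i))
  letI : Algebra R L := ((algebraMap S L).comp (algebraMap R S)).toAlgebra
  haveI : IsScalarTower R S L := IsScalarTower.of_algebraMap_eq fun _ => rfl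
  let S' : Subalgebra S L := Algebra.adjoin S (T : Set L)
  haveI : Module.Finite S S' := Module.Finite.iff_fg.mpr
    (fg_adjoin_of_finite T.finite_toSet (fun x hx => hT x hx))
  haveI : Algebra.FiniteType R S' := Algebra.FiniteType.trans hS inferInstance
  have hclear : ∀ z : L, ∃ d : S, d ≠ 0 ∧ d • z ∈ S' := fun z => by
    obtain ⟨d, hd⟩ := IsLocalization.exist_integer_multiples (nonZeroDivisors S)
      Finset.univ (fun i => b.repr z i)
    refine ⟨d.1 * y, mul_ne_zero (nonZeroDivisors.ne_zero d.2) hy, ?_⟩
    rw [← b.sum_repr z, Finset.smul_sum]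
    refine sum_mem fun i _ => ?_
    obtain ⟨s, hs⟩ := hd i (Finset.mem_univ i)
    rw [mul_smul, smul_comm y (b.repr z i) (b i), ← smul_assoc, ← hs, algebraMap_smul]
    exact S'.smul_mem (Algebra.subset_adjoin (Finset.mem_coe.mpr
      (Finset.mem_image_of_mem _ (Finset.mem_univ i)))) s
  haveI : IsFractionRing S' L := IsFractionRing.of_field S' L fun z => by
    obtain ⟨d, hd, hz⟩ := hclear z
    refine ⟨⟨d • z, hz⟩, ⟨algebraMap S L d, S'.algebraMap_mem d⟩, ?_⟩
    change z = (d • z) / algebraMap S L d
    have : algebraMap S L d ≠ 0 := by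
      rw [IsScalarTower.algebraMap_apply S (FractionRing S) L]
      simpa using hd
    rw [Algebra.smul_def]; field_simp
  have h1 : Module.Finite S' (integralClosure S' L) :=
    H02CA.finite_integralClosure_of_isN1 (h S' inferInstance) L
  haveI : Module.Finite S (integralClosure S' L) := Module.Finite.trans S' _
  haveI : Algebra.IsIntegral S S' := Algebra.IsIntegral.of_finite S S'
  let ψ : integralClosure S' L →ₗ[S] integralClosure S L :=
    { toFun := fun x => ⟨(x : L), isIntegral_trans (x : L) x.2⟩
      map_add' := fun _ _ => rfl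
      map_smul' := fun _ _ => rfl }
  exact Module.Finite.of_surjective ψ fun x => ⟨⟨(x : L), x.2.tower_top⟩, rfl⟩

end Groth.Agent.S9397
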