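import Groth.Statements.S9401
import Groth.Agent.H02CA.SmoothRegular
import Groth.Agent.H1CAlg.NagataFiniteType
import Groth.Agent.H8Props.NagataAffine
import Mathlib.RingTheory.Smooth.IntegralClosure
import Mathlib.RingTheory.Finiteness.Descent
import Mathlib.RingTheory.Flat.FaithfullyFlat.Algebra
import Mathlib.RingTheory.Smooth.Flat

set_option autoImplicit false
set_option linter.style.haveILetI false
universe u
open CAlg TensorProduct

namespace Groth.Agent.S9401

open TensorProduct

theorem isNoetherianRing_of_faithfullyFlat (R S : Type u) [CommRing R] [CommRing S] [Algebra R S]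
    [Module.FaithfullyFlat R S] [IsNoetherianRing S] : IsNoetherianRing R := by
  have hm : StrictMono (fun I : Ideal R => I.map (algebraMap R S)) :=
    (show Monotone fun I : Ideal R => I.map (algebraMap R S) from fun I J h => Ideal.map_mono h).strictMono_of_injective
      fun I J h => by
        simpa [Ideal.comap_map_eq_self_of_faithfullyFlat] using congrArg (Ideal.comap (algebraMap R S)) h
  exact isNoetherian_iff.mpr ((StrictMono.wellFoundedGT hm).wf)

theorem faithfullyFlat_of_smooth (R S : Type u) [CommRing R] [CommRing S] [Algebra R S] [Algebra.Smooth R S]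
    (hs : Function.Surjective (PrimeSpectrum.comap (algebraMap R S))) : Module.FaithfullyFlat R S :=
  Module.FaithfullyFlat.of_comap_surjective hs

set_option maxHeartbeats 800000 in
/-- A prime factor of a ring generated by a Nagata ring and a finite extension of fraction fields. -/
theorem exists_fg_submodule (R S T L : Type u) [CommRing R] [IsDomain R] [CommRing S] [Algebra R S] [CommRing T]
    [Algebra S T] [Field L] [Algebra R L] [Algebra (FractionRing R) L] [IsScalarTower R (FractionRing R) L]
    [FiniteDimensional (FractionRing R) L] (iL : L →+* T)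
    (hiL : ∀ r, iL (algebraMap R L r) = algebraMap S T (algebraMap R S r))
    (hgen : ∀ t : T, ∃ (n : ℕ) (a : Fin n → S) (l : Fin n → L), t = ∑ i, algebraMap S T (a i) * iL (l i))
    (hS : CAlg.IsNagata S) (Q : Ideal T) [Q.IsPrime] :
    ∃ N : Submodule S (FractionRing (T ⧸ Q)),
      N.FG ∧ ∀ x ∈ integralClosure S T, algebraMap (T ⧸ Q) (FractionRing (T ⧸ Q)) (Ideal.Quotient.mk Q x) ∈ N := by
  let K := FractionRing R
  let F := FractionRing (T ⧸ Q)
  let φ : T →+* F := (algebraMap (T ⧸ Q) F).comp (Ideal.Quotient.mk Q)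
  let q : Ideal S := RingHom.ker (φ.comp (algebraMap S T))
  haveI : q.IsPrime := RingHom.ker_isPrime _
  letI : Algebra (S ⧸ q) F := (RingHom.kerLift (φ.comp (algebraMap S T))).toAlgebra
  have hinjS : Function.Injective (algebraMap (S ⧸ q) F) := RingHom.kerLift_injective _
  let E := FractionRing (S ⧸ q)
  letI : Algebra E F := (IsFractionRing.lift (A := S ⧸ q) (K := E) hinjS).toAlgebra
  haveI : IsScalarTower (S ⧸ q) E F := IsScalarTower.of_algebraMap_eq fun x =>
    (IsFractionRing.lift_algebraMap hinjS x).symm
  let ιR : R →+* E := ((algebraMap (S ⧸ q) E).comp (Ideal.Quotient.mk q)).comp (algebraMap R S)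
  have hcomp : ∀ r, algebraMap E F (ιR r) = φ (iL (algebraMap R L r)) := fun r => by
    simp only [ιR, RingHom.comp_apply]
    rw [← IsScalarTower.algebraMap_apply]
    show φ (algebraMap S T (algebraMap R S r)) = _
    rw [hiL]
  have hιR : Function.Injective ιR := fun a b h => by
    have := congrArg (algebraMap E F) h
    rw [hcomp, hcomp] at this
    have hinj : Function.Injective (algebraMap R L) := by
      rw [IsScalarTower.algebraMap_eq R K L, RingHom.coe_comp]
      exact (algebraMap K L).injective.comp (IsFractionRing.injective R K)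
    exact hinj ((φ.comp iL).injective this)
  let ιK : K →+* E := IsFractionRing.lift (A := R) (K := K) hιR
  have hK : (algebraMap E F).comp ιK = (φ.comp iL).comp (algebraMap K L) :=
    IsLocalization.ringHom_ext (nonZeroDivisors R) (RingHom.ext fun r => by
      simp only [RingHom.comp_apply, ιK, IsFractionRing.lift_algebraMap, hcomp]
      rw [← IsScalarTower.algebraMap_apply R K L])
  let bas := Module.finBasis K L
  let s : Set F := Set.range fun i => φ (iL (bas i))
  let W := IntermediateField.adjoin E s
  have hint : ∀ x ∈ s, IsIntegral E x := by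
    rintro _ ⟨i, rfl⟩
    obtain ⟨p, hp, hp0⟩ := Algebra.IsIntegral.isIntegral (R := K) (bas i)
    refine ⟨p.map ιK, hp.map _, ?_⟩
    rw [Polynomial.eval₂_map, hK]
    show Polynomial.eval₂ _ ((φ.comp iL) (bas i)) p = 0
    rw [← Polynomial.hom_eval₂, hp0, map_zero]
  haveI : FiniteDimensional E W := by
    haveI : Finite s := (Set.finite_range _).to_subtype
    exact IntermediateField.finiteDimensional_adjoin hint
  have hgenS : ∀ a : S, φ (algebraMap S T a) ∈ W := fun a => by
    rw [show φ (algebraMap S T a) = algebraMap (S ⧸ q) F (Ideal.Quotient.mk q a) from rfl,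
      IsScalarTower.algebraMap_apply (S ⧸ q) E F]
    exact W.algebraMap_mem _
  have hgenL : ∀ l : L, φ (iL l) ∈ W := fun l => by
    rw [← bas.sum_repr l, map_sum, map_sum]
    refine W.sum_mem fun i _ => ?_
    rw [Algebra.smul_def, map_mul, map_mul]
    refine W.mul_mem ?_ (IntermediateField.subset_adjoin E s ⟨i, rfl⟩)
    have := RingHom.congr_fun hK (bas.repr l i)
    simp only [RingHom.comp_apply] at this
    rw [← this]; exact W.algebraMap_mem _
  have hmem : ∀ t : T, φ t ∈ W := fun t => by
    obtain ⟨n, a, l, rfl⟩ := hgen t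
    rw [map_sum]
    refine W.sum_mem fun i _ => ?_
    rw [map_mul]
    exact W.mul_mem (hgenS _) (hgenL _)
  have htop : W = ⊤ := by
    refine eq_top_iff.mpr fun x _ => ?_
    obtain ⟨a, c, -, rfl⟩ := IsFractionRing.div_surjective (T ⧸ Q) x
    obtain ⟨a, rfl⟩ := Ideal.Quotient.mk_surjective a
    obtain ⟨c, rfl⟩ := Ideal.Quotient.mk_surjective c
    exact W.div_mem (hmem a) (hmem c)
  haveI : FiniteDimensional E F := by
    haveI : Module.Finite E (⊤ : IntermediateField E F) := htop ▸ ‹FiniteDimensional E W›
    exact Module.Finite.equiv IntermediateField.topEquiv.toLinearEquiv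
  haveI : Module.Finite (S ⧸ q) (integralClosure (S ⧸ q) F) := hS.2 q F inferInstance
  haveI : IsScalarTower S (S ⧸ q) F := IsScalarTower.of_algebraMap_eq fun _ => rfl
  haveI : Module.Finite S (integralClosure (S ⧸ q) F) := Module.Finite.trans (S ⧸ q) _
  refine ⟨(integralClosure (S ⧸ q) F).toSubmodule.restrictScalars S, ?_, fun x hx => ?_⟩
  · exact (Module.Finite.iff_fg (N := (integralClosure (S ⧸ q) F).toSubmodule.restrictScalars S)).mp
      (inferInstanceAs (Module.Finite S (integralClosure (S ⧸ q) F)))
  · show φ x ∈ integralClosure (S ⧸ q) F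
    obtain ⟨p, hp, hp0⟩ := (hx : IsIntegral S x)
    refine ⟨p.map (Ideal.Quotient.mk q), hp.map _, ?_⟩
    rw [Polynomial.eval₂_map, show (algebraMap (S ⧸ q) F).comp (Ideal.Quotient.mk q) = φ.comp (algebraMap S T) from rfl,
      ← Polynomial.hom_eval₂, hp0, map_zero]

set_option maxHeartbeats 800000 in
set_option synthInstance.maxHeartbeats 100000 in
theorem isN2_of_smooth (R S : Type u) [CommRing R] [IsDomain R] [CommRing S] [Algebra R S] [Algebra.Smooth R S]
    [Module.FaithfullyFlat R S] (hS : CAlg.IsNagata S) : CAlg.IsN2 R := by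
  intro L _ _ _ _ hfin
  haveI : IsNoetherianRing S := hS.1
  haveI : FiniteDimensional (FractionRing R) L := hfin
  let K := FractionRing R
  let T := S ⊗[R] L
  let iL : L →+* T := (Algebra.TensorProduct.includeRight : L →ₐ[R] T).toRingHom
  haveI : IsReduced (L ⊗[R] S) := H02CA.isReduced_of_smooth L (L ⊗[R] S)
  haveI : IsNoetherianRing (L ⊗[R] S) := Algebra.FiniteType.isNoetherianRing L _
  haveI : IsReduced T := isReduced_of_injective (Algebra.TensorProduct.comm R S L).toRingHom
    (Algebra.TensorProduct.comm R S L).injective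
  haveI : IsNoetherianRing T := isNoetherianRing_of_ringEquiv _ (Algebra.TensorProduct.comm R L S).toRingEquiv
  haveI : Finite (minimalPrimes T) := (minimalPrimes.finite_of_isNoetherianRing T).to_subtype
  have key : ∀ Q : minimalPrimes T, ∃ N : Submodule S (FractionRing (T ⧸ Q.1)),
      N.FG ∧ ∀ x ∈ integralClosure S T, algebraMap (T ⧸ Q.1) (FractionRing (T ⧸ Q.1)) (Ideal.Quotient.mk Q.1 x) ∈ N := by
    rintro ⟨Q, hQ⟩
    haveI : Q.IsPrime := hQ.1.1
    refine exists_fg_submodule R S T L iL (fun r => ?_) (fun t => ?_) hS Q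
    · exact ((Algebra.TensorProduct.includeRight : L →ₐ[R] T).commutes r).trans (IsScalarTower.algebraMap_apply R S T r)
    · obtain ⟨n, a, l, rfl⟩ := TensorProduct.exists_sum_tmul_eq t
      refine ⟨n, a, l, Finset.sum_congr rfl fun i _ => ?_⟩
      show _ = (a i ⊗ₜ[R] (1 : L)) * ((1 : S) ⊗ₜ[R] l i)
      rw [Algebra.TensorProduct.tmul_mul_tmul, mul_one, one_mul]
  choose N hN hNmem using key
  haveI : ∀ Q, Module.Finite S (N Q) := fun Q => Module.Finite.iff_fg.mpr (hN Q)
  let f : integralClosure S T →ₗ[S] (Π Q : minimalPrimes T, N Q) :=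
    LinearMap.pi fun Q => ((IsScalarTower.toAlgHom S T (FractionRing (T ⧸ Q.1))).toLinearMap ∘ₗ
      (integralClosure S T).val.toLinearMap).codRestrict (N Q) fun x => hNmem Q x x.2
  have hf : Function.Injective f := by
    rw [injective_iff_map_eq_zero]
    intro x hx
    refine Subtype.ext (IsNilpotent.eq_zero ?_)
    rw [nilpotent_iff_mem_prime]
    intro P hP
    obtain ⟨Q, hQ, hQP⟩ := Ideal.exists_minimalPrimes_le (show (⊥ : Ideal T) ≤ P from bot_le)
    haveI : Q.IsPrime := hQ.1.1
    have h1 := congrArg Subtype.val (congrFun hx ⟨Q, hQ⟩)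
    exact hQP (Ideal.Quotient.eq_zero_iff_mem.mp
      (IsFractionRing.injective (T ⧸ Q) (FractionRing (T ⧸ Q)) (h1.trans (map_zero _).symm)))
  haveI : Module.Finite S (integralClosure S T) := Module.Finite.of_injective f hf
  haveI : Module.Finite S (S ⊗[R] integralClosure R L) :=
    Module.Finite.equiv (AlgEquiv.ofBijective _ (TensorProduct.toIntegralClosure_bijective_of_smooth (R := R) (S := S) (B := L))).symm.toLinearEquiv
  exact Module.Finite.of_finite_tensorProduct_of_faithfullyFlat S

end Groth.Agent.S9401

namespace Groth.Agent.S9401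

/-- The Nagata property descends along smooth ring maps that are surjective on spectra. -/
theorem result (R : Type u) [CommRing R] (S : Type u)
    [CommRing S] [Algebra R S] [Algebra.Smooth R S]
    (hs : Function.Surjective (PrimeSpectrum.comap (algebraMap R S))) (hS : CAlg.IsNagata S) :
    CAlg.IsNagata R := by
  haveI := faithfullyFlat_of_smooth R S hs
  haveI : IsNoetherianRing S := hS.1
  refine ⟨isNoetherianRing_of_faithfullyFlat R S, fun p _ => ?_⟩
  let S' := S ⊗[R] (R ⧸ p)
  have hS' : CAlg.IsNagata S' := Groth.Agent.H1CAlg.isNagata_of_finiteType (R := S) hS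
  have hS'' : CAlg.IsNagata ((R ⧸ p) ⊗[R] S) :=
    Groth.Agent.H8Props.NagataAffine.isNagata_of_ringEquiv (Algebra.TensorProduct.comm R S (R ⧸ p)).toRingEquiv hS'
  exact isN2_of_smooth (R ⧸ p) ((R ⧸ p) ⊗[R] S) hS''


end Groth.Agent.S9401
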