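import Groth.Statements.S9403
import Mathlib.RingTheory.Filtration
import Mathlib.Tactic.LinearCombination
import Mathlib.Algebra.Algebra.Rat
import Mathlib.RingTheory.Nilpotent.Basic

set_option autoImplicit false
universe u
open CAlg

namespace Groth.Agent.S9403

/-- Let R → S be a ring map with S a Noetherian local ring which is an algebra over the rationals, and f
∈ S such that some S-linear form on the module of differentials of S over R sends df to 1 (df spans
a free direct summand of rank one). Then f is a nonzerodivisor of S. (The published statement asks
only that S·df be a direct summand of the module of differentials, which also holds for the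
rationals with a square-zero element adjoined, where f is a zero divisor; this row asks for an
S-linear form on the differentials sending df to 1, as the published proof uses.) -/
theorem result (R : Type u) [CommRing R]
    (S : Type u) [CommRing S] [IsLocalRing S] [IsNoetherianRing S] [Algebra R S] [Algebra ℚ S]
    (f : S) (θ : Ω[S⁄R] →ₗ[S] S) (hθ : θ (KaehlerDifferential.D R S f) = 1) : f ∈ nonZeroDivisors S := by
  rw [mem_nonZeroDivisors_iff_right]
  intro x hx
  by_cases hu : IsUnit f
  · exact hu.mul_left_eq_zero.mp hx
  have h1 : ∀ n, x ∈ Ideal.span {f} ^ n := by
    intro n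
    induction n with
    | zero => simp
    | succ n ih =>
      rw [Ideal.span_singleton_pow, Ideal.mem_span_singleton] at ih ⊢
      obtain ⟨u, rfl⟩ := ih
      have := congr_arg (fun z => θ (KaehlerDifferential.D R S z))
        (show f ^ (n + 1) * u = 0 by linear_combination hx)
      simp only [Derivation.leibniz, Derivation.leibniz_pow, map_add, map_smul, map_nsmul, hθ,
        map_zero, smul_eq_mul, mul_one, nsmul_eq_mul, Nat.add_sub_cancel] at this
      obtain ⟨c, hc⟩ := isUnit_iff_exists_inv.mp
        ((IsUnit.mk0 ((n + 1 : ℕ) : ℚ) (by positivity)).map (algebraMap ℚ S))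
      rw [map_natCast] at hc
      exact ⟨-c * θ (KaehlerDifferential.D R S u), by linear_combination c * this - u * f ^ n * hc⟩
  have h2 : x ∈ ⨅ n, Ideal.span {f} ^ n := by simpa [Submodule.mem_iInf] using h1
  rw [Ideal.iInf_pow_eq_bot_of_isLocalRing _ (by rwa [Ne, Ideal.span_singleton_eq_top])] at h2
  simpa using h2

end Groth.Agent.S9403
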