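import Groth.Statements.S9404
import Mathlib.RingTheory.Spectrum.Prime.Homeomorph
import Mathlib.RingTheory.LocalRing.ResidueField.Basic
import Mathlib.RingTheory.IntegralClosure.Algebra.Basic
import Mathlib.RingTheory.Ideal.GoingUp
import Mathlib.RingTheory.TensorProduct.Maps

set_option autoImplicit false
universe u
open CAlg

namespace Groth.Agent.S9404

open TensorProduct in
/-- For local homomorphisms of local rings A → B and A → C with A → C integral, if the residue field of
C or that of B is purely inseparable over the residue field of A, then B ⊗_A C is local and both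
structure maps into it are local. -/
theorem result (A : Type u) [CommRing A]
    [IsLocalRing A] (B : Type u) [CommRing B] [IsLocalRing B] [Algebra A B]
    [IsLocalHom (algebraMap A B)] (C : Type u) [CommRing C] [IsLocalRing C] [Algebra A C]
    [IsLocalHom (algebraMap A C)] [Algebra.IsIntegral A C]
    (h : IsPurelyInseparable (IsLocalRing.ResidueField A) (IsLocalRing.ResidueField C) ∨
      IsPurelyInseparable (IsLocalRing.ResidueField A) (IsLocalRing.ResidueField B)) :
    IsLocalRing (B ⊗[A] C) ∧
      IsLocalHom (Algebra.TensorProduct.includeLeft : B →ₐ[A] B ⊗[A] C).toRingHom ∧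
      IsLocalHom (Algebra.TensorProduct.includeRight : C →ₐ[A] B ⊗[A] C).toRingHom := by
  let κA := IsLocalRing.ResidueField A
  let κB := IsLocalRing.ResidueField B
  let κC := IsLocalRing.ResidueField C
  let π : B ⊗[A] C →ₐ[A] κB ⊗[κA] κC :=
    Algebra.TensorProduct.lift
      (((Algebra.TensorProduct.includeLeft : κB →ₐ[κA] κB ⊗[κA] κC).restrictScalars A).comp
        (IsScalarTower.toAlgHom A B κB))
      (((Algebra.TensorProduct.includeRight : κC →ₐ[κA] κB ⊗[κA] κC).restrictScalars A).comp
        (IsScalarTower.toAlgHom A C κC))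
      (fun _ _ => Commute.all _ _)
  -- the tensor product of the residue fields has one prime
  have hsub : Subsingleton (PrimeSpectrum (κB ⊗[κA] κC)) := by
    rcases h with h | h <;> haveI := h
    · exact (PrimeSpectrum.isHomeomorph_comap_of_isPurelyInseparable κA κC κB).bijective.1.subsingleton
    · haveI := (PrimeSpectrum.isHomeomorph_comap_of_isPurelyInseparable κA κB κC).bijective.1.subsingleton
      exact (PrimeSpectrum.homeomorphOfRingEquiv
        (Algebra.TensorProduct.comm κA κB κC).toRingEquiv).toEquiv.subsingleton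
  haveI : Nontrivial (κB ⊗[κA] κC) :=
    (Algebra.TensorProduct.includeLeft_injective (R := κA) (S := κA) (A := κB) (B := κC)
      (RingHom.injective _)).nontrivial
  haveI : Nontrivial (B ⊗[A] C) := π.toRingHom.domain_nontrivial
  haveI : Algebra.IsIntegral B (B ⊗[A] C) := inferInstance
  obtain ⟨P⟩ : Nonempty (PrimeSpectrum (κB ⊗[κA] κC)) := inferInstance
  -- all maximal ideals are the preimage of that prime
  have hM : ∀ M : Ideal (B ⊗[A] C), M.IsMaximal →
      M = P.asIdeal.comap π.toRingHom ∧
        M.comap (Algebra.TensorProduct.includeLeft : B →ₐ[A] B ⊗[A] C).toRingHom =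
          IsLocalRing.maximalIdeal B ∧
        M.comap (Algebra.TensorProduct.includeRight : C →ₐ[A] B ⊗[A] C).toRingHom =
          IsLocalRing.maximalIdeal C := by
    intro M hM
    have hB : M.comap (Algebra.TensorProduct.includeLeft : B →ₐ[A] B ⊗[A] C).toRingHom =
        IsLocalRing.maximalIdeal B :=
      IsLocalRing.eq_maximalIdeal (Ideal.isMaximal_comap_of_isIntegral_of_isMaximal (R := B) M)
    have hA : ∀ a ∈ IsLocalRing.maximalIdeal A, algebraMap A (B ⊗[A] C) a ∈ M := fun a ha => by
      have h1 : algebraMap A B a ∈ IsLocalRing.maximalIdeal B :=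
        (IsLocalRing.mem_maximalIdeal _).mpr fun hu => (IsLocalRing.mem_maximalIdeal _).mp ha
          (isUnit_of_map_unit (algebraMap A B) a hu)
      rw [← hB] at h1
      exact h1
    have hC : M.comap (Algebra.TensorProduct.includeRight : C →ₐ[A] B ⊗[A] C).toRingHom =
        IsLocalRing.maximalIdeal C := by
      refine IsLocalRing.eq_maximalIdeal
        (Ideal.isMaximal_of_isIntegral_of_isMaximal_comap (R := A) _ ?_)
      have : ((M.comap (Algebra.TensorProduct.includeRight : C →ₐ[A] B ⊗[A] C).toRingHom).comap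
          (algebraMap A C)) = IsLocalRing.maximalIdeal A := by
        refine le_antisymm (IsLocalRing.le_maximalIdeal (Ideal.comap_ne_top _
          (Ideal.comap_ne_top _ hM.ne_top))) fun a ha => ?_
        change Algebra.TensorProduct.includeRight (algebraMap A C a) ∈ M
        rw [AlgHom.commutes]; exact hA a ha
      rw [this]; infer_instance
    letI := Ideal.Quotient.field M
    letI : Algebra κA ((B ⊗[A] C) ⧸ M) :=
      (Ideal.Quotient.lift (IsLocalRing.maximalIdeal A) (algebraMap A ((B ⊗[A] C) ⧸ M))
        fun a ha => Ideal.Quotient.eq_zero_iff_mem.mpr (hA a ha)).toAlgebra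
    let fB : κB →ₐ[κA] (B ⊗[A] C) ⧸ M :=
      { Ideal.Quotient.lift (IsLocalRing.maximalIdeal B) ((Ideal.Quotient.mk M).comp
          (Algebra.TensorProduct.includeLeft : B →ₐ[A] B ⊗[A] C).toRingHom)
            (fun b hb => Ideal.Quotient.eq_zero_iff_mem.mpr (hB.ge hb)) with
        commutes' := fun a => by
          obtain ⟨a, rfl⟩ := IsLocalRing.residue_surjective a
          exact congrArg (Ideal.Quotient.mk M) (AlgHom.commutes _ a) }
    let fC : κC →ₐ[κA] (B ⊗[A] C) ⧸ M :=
      { Ideal.Quotient.lift (IsLocalRing.maximalIdeal C) ((Ideal.Quotient.mk M).comp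
          (Algebra.TensorProduct.includeRight : C →ₐ[A] B ⊗[A] C).toRingHom)
            (fun c hc => Ideal.Quotient.eq_zero_iff_mem.mpr (hC.ge hc)) with
        commutes' := fun a => by
          obtain ⟨a, rfl⟩ := IsLocalRing.residue_surjective a
          exact congrArg (Ideal.Quotient.mk M) (AlgHom.commutes _ a) }
    let f := Algebra.TensorProduct.lift fB fC (fun _ _ => Commute.all _ _)
    have hfπ : ∀ x, f (π x) = Ideal.Quotient.mk M x := by
      intro x
      induction x using TensorProduct.induction_on with
      | zero => simp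
      | add x y hx hy => rw [map_add, map_add, map_add, hx, hy]
      | tmul b c =>
        change f ((IsLocalRing.residue B b ⊗ₜ[κA] (1 : κC)) * ((1 : κB) ⊗ₜ[κA] IsLocalRing.residue C c)) = _
        rw [Algebra.TensorProduct.tmul_mul_tmul, mul_one, one_mul, Algebra.TensorProduct.lift_tmul]
        change Ideal.Quotient.mk M (b ⊗ₜ[A] 1) * Ideal.Quotient.mk M (1 ⊗ₜ[A] c) = _
        rw [← map_mul, Algebra.TensorProduct.tmul_mul_tmul, mul_one, one_mul]
    haveI : (RingHom.ker f.toRingHom).IsPrime := RingHom.ker_isPrime f.toRingHom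
    have hP : RingHom.ker f.toRingHom = P.asIdeal :=
      congrArg PrimeSpectrum.asIdeal (Subsingleton.elim (⟨RingHom.ker f.toRingHom, RingHom.ker_isPrime _⟩ : PrimeSpectrum _) P)
    refine ⟨?_, hB, hC⟩
    ext x
    rw [Ideal.mem_comap, ← hP, RingHom.mem_ker]
    change _ ↔ f (π x) = 0
    rw [hfπ x]
    exact Ideal.Quotient.eq_zero_iff_mem.symm
  have hloc : IsLocalRing (B ⊗[A] C) := by
    obtain ⟨M, hMax⟩ := Ideal.exists_maximal (B ⊗[A] C)
    exact IsLocalRing.of_unique_max_ideal
      ⟨M, hMax, fun N hN => (hM N hN).1.trans (hM M hMax).1.symm⟩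
  haveI := hloc
  obtain ⟨-, h2, h3⟩ := hM _ (IsLocalRing.maximalIdeal.isMaximal (B ⊗[A] C))
  exact ⟨hloc, ((IsLocalRing.local_hom_TFAE _).out 4 0).mp h2,
    ((IsLocalRing.local_hom_TFAE _).out 4 0).mp h3⟩

end Groth.Agent.S9404
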