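import Groth.Statements.S9405
import Groth.Agent.H9Hens.Local
import Groth.Agent.H24Adic.Basic
import Groth.Agent.H05EGA4.CompleteNormalization

set_option autoImplicit false
universe u
open CAlg

namespace Groth.Agent.S9405

theorem bij {R : Type u} [CommRing R] [IsLocalRing R]
    [IsAdicComplete (IsLocalRing.maximalIdeal R) R] (S : Type u) [CommRing S] [Algebra R S]
    [Module.Finite R S] : Function.Bijective (MaximalSpectrum.toPiLocalization S) :=
  H9Hens.toPiLocalization_bijective_of_idem_lift fun b hb =>
    H9Hens.exists_idem_lift (I := IsLocalRing.maximalIdeal R) b hb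

theorem complete {R : Type u} [CommRing R] [IsLocalRing R] [IsNoetherianRing R]
    [IsAdicComplete (IsLocalRing.maximalIdeal R) R] (T : Type u) [CommRing T] [IsLocalRing T]
    [Algebra R T] [Module.Finite R T] : IsAdicComplete (IsLocalRing.maximalIdeal T) T := by
  have : IsNoetherianRing T := IsNoetherianRing.of_finite R T
  set L := (IsLocalRing.maximalIdeal R).map (algebraMap R T) with hL
  have hc : IsAdicComplete L T :=
    (IsAdicComplete.map_algebraMap_iff (IsLocalRing.maximalIdeal R) T (S := T)).mpr
      (H24Adic.isAdicComplete_of_finite _)
  have hrad : IsLocalRing.maximalIdeal T ≤ L.radical := by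
    rw [← Ideal.sInf_minimalPrimes]
    refine le_sInf fun P hP => ?_
    have := hP.isPrime
    have hPc : P.comap (algebraMap R T) = IsLocalRing.maximalIdeal R :=
      ((IsLocalRing.maximalIdeal.isMaximal R).eq_of_le (Ideal.IsPrime.ne_top inferInstance)
        (Ideal.map_le_iff_le_comap.mp hP.le)).symm
    have : (P.comap (algebraMap R T)).IsMaximal := hPc ▸ IsLocalRing.maximalIdeal.isMaximal R
    exact (IsLocalRing.eq_maximalIdeal (Ideal.isMaximal_of_isIntegral_of_isMaximal_comap P this)).ge
  obtain ⟨k, hk⟩ := Ideal.exists_pow_le_of_le_radical_of_fg hrad (IsNoetherian.noetherian _)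
  exact H24Adic.isAdicComplete_of_pow_le (I := L) (a := k) (b := 1) hk
    (by rw [pow_one]; exact H05EGA4.map_le_maximalIdeal_of_finite) T

/-- A module-finite algebra S over a complete Noetherian local ring R is a finite product of complete
Noetherian local rings; precisely, S has finitely many maximal ideals, S maps bijectively onto the
product of its localizations at them, and each of these localizations is Noetherian and complete for
its maximal ideal. -/
theorem result (R : Type u) [CommRing R]
    [IsLocalRing R] [IsNoetherianRing R] [IsAdicComplete (IsLocalRing.maximalIdeal R) R]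
    (S : Type u) [CommRing S] [Algebra R S] [Module.Finite R S] :
    Finite (MaximalSpectrum S) ∧
      Function.Bijective
        (algebraMap S ((m : MaximalSpectrum S) → Localization.AtPrime m.asIdeal)) ∧
      ∀ m : MaximalSpectrum S, IsNoetherianRing (Localization.AtPrime m.asIdeal) ∧
        IsAdicComplete (IsLocalRing.maximalIdeal (Localization.AtPrime m.asIdeal))
          (Localization.AtPrime m.asIdeal) := by
  haveI := H9Hens.finite_maximalSpectrum (R := R) S
  have hb := bij (R := R) S
  refine ⟨inferInstance, hb, fun m => ?_⟩
  haveI : IsNoetherianRing S := IsNoetherianRing.of_finite R S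
  haveI : Module.Finite R (Localization.AtPrime m.asIdeal) := Module.Finite.of_surjective
    (IsScalarTower.toAlgHom R S (Localization.AtPrime m.asIdeal)).toLinearMap fun y => by
      classical
      obtain ⟨x, hx⟩ := hb.2 (Pi.single m y)
      refine ⟨x, ?_⟩
      have := congrFun hx m
      rw [MaximalSpectrum.toPiLocalization_apply_apply, Pi.single_eq_same] at this
      exact this
  exact ⟨IsLocalization.isNoetherianRing m.asIdeal.primeCompl _ inferInstance,
    complete (R := R) (Localization.AtPrime m.asIdeal)⟩

end Groth.Agent.S9405
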