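import Groth.Statements.S9407
import Groth.Agent.H02CA.SmoothRegular

set_option autoImplicit false
universe u
open CAlg

namespace Groth.Agent.S9407



/-- Reducedness ascends along smooth ring maps: if R is reduced and S is smooth over R then S is
reduced. -/
theorem result (R : Type u) [CommRing R] (S : Type u) [CommRing S]
    [Algebra R S] [Algebra.Smooth R S] [IsReduced R] : IsReduced S := by
  exact Groth.Agent.H02CA.isReduced_of_smooth R S

end Groth.Agent.S9407
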