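import Groth.Statements.S9408
import Groth.Agent.H02CA.SmoothRegular
import Mathlib.RingTheory.TensorProduct.Maps

set_option autoImplicit false
universe u
open CAlg

namespace Groth.Agent.S9408

open TensorProduct

/-- Over a field k, geometric regularity ascends along smooth maps of k-algebras: for A Noetherian and
geometrically regular over k and B smooth over A, B is geometrically regular over k. -/
theorem result (k : Type u) [Field k] (A : Type u) [CommRing A]
    [Algebra k A] [IsNoetherianRing A] (B : Type u) [CommRing B] [Algebra k B] [Algebra A B]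
    [IsScalarTower k A B] [Algebra.Smooth A B] (hA : CAlg.IsGeometricallyRegular k A) :
    CAlg.IsGeometricallyRegular k B := by
  intro k' _ _ hfin
  haveI := hA k' hfin
  haveI : IsRegularRing (A ⊗[k] k') := IsRegularRing.of_ringEquiv (R := k' ⊗[k] A) (Algebra.TensorProduct.comm k k' A).toRingEquiv
  haveI : IsRegularRing ((A ⊗[k] k') ⊗[A] B) := Groth.Agent.H02CA.isRegularRing_of_smooth (A ⊗[k] k') _
  exact IsRegularRing.of_ringEquiv (R := (A ⊗[k] k') ⊗[A] B)
    ((Algebra.TensorProduct.comm A (A ⊗[k] k') B).toRingEquiv.trans
      ((Algebra.TensorProduct.cancelBaseChange k A A B k').toRingEquiv.trans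
        (Algebra.TensorProduct.comm k B k').toRingEquiv))

end Groth.Agent.S9408
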