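import Groth.Statements.S9410
import Groth.Agent.H02CA.GeomRegular
import Groth.Agent.S9635
import Groth.Agent.S9409
import Mathlib.FieldTheory.IntermediateField.Adjoin.Basic

set_option autoImplicit false
universe u
open CAlg

namespace Groth.Agent.S9410

open TensorProduct in
lemma back (k k' A : Type u) [Field k] [Field k'] [Algebra k k'] [Algebra.IsSeparable k k']
    [CommRing A] [Algebra k' A] [Algebra k A] [IsScalarTower k k' A] [IsNoetherianRing A]
    (h : CAlg.IsGeometricallyRegular k' A) : CAlg.IsGeometricallyRegular k A := by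
  intro K _ _ hfin
  let B := k' ⊗[k] K
  have : IsReduced (K ⊗[k] k') := Groth.Agent.S9635.isReduced_tensor_separable K
  have : IsReduced B := isReduced_of_injective _ (Algebra.TensorProduct.comm k k' K).injective
  have : IsArtinianRing B := isArtinian_of_tower k' inferInstance
  have : IsNoetherianRing (A ⊗[k] K) := Algebra.FiniteType.isNoetherianRing A _
  let eC : B ⊗[k'] A ≃+* A ⊗[k] K := (Algebra.TensorProduct.comm k' B A).toRingEquiv.trans
    (Algebra.TensorProduct.cancelBaseChange k k' k' A K).toRingEquiv
  have : IsNoetherianRing (B ⊗[k'] A) := isNoetherianRing_of_ringEquiv (A ⊗[k] K) eC.symm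
  have : IsRegularRing (B ⊗[k'] A) := by
    refine Groth.Agent.H02CA.isRegularRing_of_forall_residue B _ fun m hm ↦ ?_
    let _ := Ideal.Quotient.field m
    have : IsRegularRing ((B ⧸ m) ⊗[k'] A) := h (B ⧸ m) inferInstance
    exact IsRegularRing.of_ringEquiv (R := (B ⧸ m) ⊗[k'] A)
      ((Algebra.TensorProduct.cancelBaseChange k' B B (B ⧸ m) A).symm.toRingEquiv.trans
        (Algebra.TensorProduct.comm B (B ⧸ m) (B ⊗[k'] A)).toRingEquiv)
  exact IsRegularRing.of_ringEquiv (R := B ⊗[k'] A)
    (eC.trans (Algebra.TensorProduct.comm k A K).toRingEquiv)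

open TensorProduct in
lemma forth (k k' A : Type u) [Field k] [Field k'] [Algebra k k'] [Algebra.IsSeparable k k']
    [CommRing A] [Algebra k' A] [Algebra k A] [IsScalarTower k k' A] [IsNoetherianRing A]
    (h : CAlg.IsGeometricallyRegular k A) : CAlg.IsGeometricallyRegular k' A := by
  refine Groth.Agent.S9409.result k' (ι := {F : IntermediateField k k' // Module.Finite k F})
    (fun F ↦ F.1) ?_ ?_ A fun F ↦ ?_
  · intro F G
    have := F.2
    have := G.2
    refine ⟨⟨F.1 ⊔ G.1, IntermediateField.finiteDimensional_sup _ _⟩, ?_, ?_⟩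
    · rintro _ ⟨x, rfl⟩
      exact ⟨⟨x.1, (le_sup_left : F.1 ≤ F.1 ⊔ G.1) x.2⟩, rfl⟩
    · rintro _ ⟨x, rfl⟩
      exact ⟨⟨x.1, (le_sup_right : G.1 ≤ F.1 ⊔ G.1) x.2⟩, rfl⟩
  · intro x
    exact ⟨⟨IntermediateField.adjoin k {x},
      IntermediateField.adjoin.finiteDimensional (Algebra.IsIntegral.isIntegral x)⟩,
      ⟨⟨x, IntermediateField.mem_adjoin_simple_self k x⟩, rfl⟩⟩
  · intro E _ _ hE
    have := F.2
    let _ : Algebra k E := ((algebraMap F.1 E).comp (algebraMap k F.1)).toAlgebra
    have : IsScalarTower k F.1 E := IsScalarTower.of_algebraMap_eq fun _ ↦ rfl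
    have : Module.Finite k E := Module.Finite.trans F.1 E
    have : IsRegularRing (E ⊗[k] A) := h E inferInstance
    have : Algebra.IsSeparable k F.1 := Algebra.isSeparable_tower_bot_of_isSeparable k F.1 k'
    have : Algebra.FormallyUnramified k F.1 := Algebra.FormallyUnramified.of_isSeparable k F.1
    exact Groth.Agent.H02CA.isRegularRing_tensor_of_unramified k F.1 E A

/-- Given a separable algebraic field extension k'/k and a Noetherian k'-algebra A, geometric regularity
of A over k' is equivalent to geometric regularity of A over k. -/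
theorem result (k : Type u) [Field k] (k' : Type u)
    [Field k'] [Algebra k k'] [Algebra.IsSeparable k k'] (A : Type u) [CommRing A] [Algebra k' A]
    [Algebra k A] [IsScalarTower k k' A] [IsNoetherianRing A] :
    CAlg.IsGeometricallyRegular k A ↔ CAlg.IsGeometricallyRegular k' A := by
  exact ⟨forth k k' A, back k k' A⟩

end Groth.Agent.S9410
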