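import Groth.Statements.S9411
import Groth.Agent.H05EGA4.NormalTensorGeom

set_option autoImplicit false
set_option linter.style.haveILetI false
set_option maxHeartbeats 800000
set_option synthInstance.maxHeartbeats 200000
universe u
open EGA4

open TensorProduct Groth.Agent Groth.Agent.H05EGA4

namespace Groth.Agent.S9411

/-- Let k'/k be a separable algebraic field extension and A a k'-algebra. Geometric normality of A over
k' is equivalent to geometric normality of A over k. -/
theorem result (k : Type u) [Field k] (k' : Type u) [Field k']
    [Algebra k k'] [Algebra.IsSeparable k k'] (A : Type u) [CommRing A] [Algebra k' A]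
    [Algebra k A] [IsScalarTower k k' A] :
    EGA4.IsGeomNormal k A ↔ EGA4.IsGeomNormal k' A := by
  have hfield : ∀ (F : Type u) [Field F], EGA4.IsNormalRing F := fun F _ p _ => by
    have hle : p.primeCompl ≤ nonZeroDivisors F := p.primeCompl_le_nonZeroDivisors
    exact ⟨IsLocalization.isDomain_localization hle,
      (isIntegrallyClosed_of_isLocalization (R := F) (S := Localization.AtPrime p) p.primeCompl hle)⟩
  constructor
  · intro h L _ _ hL
    letI : Algebra k L := ((algebraMap k' L).comp (algebraMap k k')).toAlgebra
    haveI : IsScalarTower k k' L := .of_algebraMap_eq fun _ => rfl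
    obtain ⟨π, M, hM⟩ := exists_isLocalization_of_isSeparable k k' L A
    letI := π.toAlgebra
    exact isNormalRing_of_isLocalization M (isNormalRing_of_ringEquiv (Algebra.TensorProduct.comm k A L).toRingEquiv
      (isNormalRing_tensor_of_isGeomNormal_general h L (hfield L)))
  · intro h L _ _ hL
    haveI : Algebra.IsGeometricallyReduced k k' := by
      refine Algebra.IsGeometricallyReduced.of_forall_fg fun B0 hB0 => ?_
      haveI : Algebra.FiniteType k B0 := (Subalgebra.fg_iff_finiteType _).mp hB0
      haveI : Algebra.IsIntegral k B0 :=
        ⟨fun x => (isIntegral_algHom_iff B0.val Subtype.val_injective).1 (Algebra.IsIntegral.isIntegral (x : k'))⟩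
      letI : Field B0 := (isField_of_isIntegral_of_isField' (Field.toIsField k) : IsField B0).toField
      haveI : Algebra.IsSeparable k B0 := Algebra.IsSeparable.of_algHom k k' B0.val
      haveI : Algebra.FormallyUnramified k B0 := Algebra.FormallyUnramified.of_isSeparable k B0
      rw [Algebra.isGeometricallyReduced_field_iff]
      exact Algebra.FormallyUnramified.isReduced_of_field (AlgebraicClosure k) _
    have hB : EGA4.IsNormalRing (k' ⊗[k] L) := isNormalRing_tensor_of_fields
      (redFibres_of_grsHom zero_le_one one_le_two (grsHom_of_isGeometricallyReduced k k'))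
      (fun K _ _ => isNormalRing_tensor_field_of_grsHom (grsHom_of_isGeometricallyReduced k k') K) (hfield L)
    have hn := isNormalRing_tensor_of_isGeomNormal_general h (k' ⊗[k] L) hB
    exact isNormalRing_of_ringEquiv (Algebra.TensorProduct.comm k A L).toRingEquiv
      (isNormalRing_of_ringEquiv (Algebra.TensorProduct.cancelBaseChange k k' A A L).toRingEquiv hn)


end Groth.Agent.S9411
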