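import Groth.Statements.S9412
import Groth.Agent.H05EGA4.FormalFibres
import Groth.Agent.H05EGA4.NorLocus

set_option autoImplicit false
set_option linter.style.haveILetI false
universe u
open EGA4

open IsLocalRing TensorProduct Groth.Agent Groth.Agent.H05EGA4

namespace Groth.Agent.S9412

/-- A localization of a geometrically normal algebra over a field k is geometrically normal over k. -/
theorem result (k : Type u) [Field k] (A : Type u) [CommRing A]
    [Algebra k A] (M : Submonoid A) (B : Type u) [CommRing B] [Algebra A B] [IsLocalization M B]
    [Algebra k B] [IsScalarTower k A B] (h : EGA4.IsGeomNormal k A) :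
    EGA4.IsGeomNormal k B := by
  intro k' _ _ hk' P _
  letI := (Algebra.TensorProduct.map (AlgHom.id k k') (IsScalarTower.toAlgHom k A B)).toRingHom.toAlgebra
  haveI := isLocalization_tensor_right k A B k' M
  haveI := IsLocalization.isLocalization_isLocalization_atPrime_isLocalization
    (M.map (Algebra.TensorProduct.includeRight : A →ₐ[k] k' ⊗[k] A).toRingHom) (Localization.AtPrime P) P
  let P0 := P.comap (algebraMap (k' ⊗[k] A) (k' ⊗[k] B))
  obtain ⟨hd, hi⟩ := h k' hk' P0
  let e := (IsLocalization.algEquiv P0.primeCompl (Localization.AtPrime P0) (Localization.AtPrime P)).toRingEquiv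
  haveI := hd
  haveI : IsIntegrallyClosed _ := hi
  exact ⟨e.symm.toMulEquiv.isDomain, IsIntegrallyClosed.of_equiv e⟩


end Groth.Agent.S9412
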