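import Groth.Statements.S9415
import Groth.Agent.H02CA.GeomReducedField
import Mathlib.RingTheory.Smooth.Kaehler
import Mathlib.RingTheory.Smooth.Basic

set_option autoImplicit false
universe u
open CAlg

namespace Groth.Agent.S9415

/-- Let R be a Noetherian local algebra over a field k whose residue field κ is a finitely generated,
separable (that is, geometrically reduced) field extension of k. Then the map from m/m² (m the
maximal ideal, realised as the kernel of R → κ) to κ ⊗_R Ω_{R/k} sending the class of x to 1 ⊗ dx is
injective. -/
theorem result (k : Type u) [Field k] (R : Type u)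
    [CommRing R] [IsLocalRing R] [IsNoetherianRing R] [Algebra k R]
    [Algebra.EssFiniteType k (IsLocalRing.ResidueField R)]
    [Algebra.IsGeometricallyReduced k (IsLocalRing.ResidueField R)] :
    Function.Injective
      (KaehlerDifferential.kerCotangentToTensor k R (IsLocalRing.ResidueField R)) := by
  have := H02CA.formallySmooth_of_isGeometricallyReduced k (IsLocalRing.ResidueField R)
  have hf : Function.Surjective (algebraMap R (IsLocalRing.ResidueField R)) := IsLocalRing.residue_surjective
  let π := (IsScalarTower.toAlgHom k R (IsLocalRing.ResidueField R)).kerSquareLift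
  have hπ : Function.Surjective π := fun x => by
    obtain ⟨r, rfl⟩ := hf x
    exact ⟨Ideal.Quotient.mk _ r, rfl⟩
  have hnil : IsNilpotent (RingHom.ker π.toRingHom) := by
    refine ⟨2, ?_⟩
    exact (congrArg (· ^ 2) (AlgHom.ker_kerSquareLift _)).trans (Ideal.cotangentIdeal_square _)
  let g := Algebra.FormallySmooth.liftOfSurjective (AlgHom.id k _) π hπ hnil
  obtain ⟨l, hl⟩ := (retractionKerCotangentToTensorEquivSection (R := k) hf).symm
    ⟨g, AlgHom.ext fun x => Algebra.FormallySmooth.liftOfSurjective_apply (AlgHom.id k _) π hπ hnil x⟩
  exact Function.LeftInverse.injective (g := l) fun x => LinearMap.congr_fun hl x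

end Groth.Agent.S9415
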