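import Groth.Statements.S9416
import Groth.Agent.H05EGA4.DerivationRadical
-- import your own Groth.Agent.* helpers here

set_option autoImplicit false
universe u
open CAlg

namespace Groth.Agent.S9416

/-- Suppose R is a normal Noetherian domain whose field of fractions K has prime characteristic p > 0, D
a derivation of K preserving R, and a ∈ K with D(a) ≠ 0. For a field L generated over K by an
element x with x^p = a, the integral closure of R in L is module-finite over R. -/
theorem result (R : Type u) [CommRing R]
    [IsDomain R] [IsNoetherianRing R] [IsIntegrallyClosed R] (K : Type u) [Field K] [Algebra R K]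
    [IsFractionRing R K] (p : ℕ) [Fact p.Prime] [CharP K p] (D : Derivation ℤ K K)
    (hD : ∀ r : R, ∃ s : R, D (algebraMap R K r) = algebraMap R K s) (a : K) (ha : D a ≠ 0)
    (L : Type u) [Field L] [Algebra K L] [Algebra R L] [IsScalarTower R K L] (x : L)
    (hx : x ^ p = algebraMap K L a) (hgen : IntermediateField.adjoin K {x} = ⊤) :
    Module.Finite R (integralClosure R L) := by
  exact Groth.Agent.H05EGA4.DerivationRadical.finite_integralClosure (fun r => (hD r).imp fun _ h => h.symm) a ha L x hx hgen

end Groth.Agent.S9416
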