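import Groth.Statements.S9418
import Groth.Agent.H02CA.ColimDescent

set_option autoImplicit false
universe u
open CAlg

namespace Groth.Agent.S9418

open Groth.Agent.H02CA Groth.Agent.H02CA.ColimTensor

open TensorProduct in
/-- Let (A_i) be a directed system of A₀-algebras with colimit A (given by compatible maps A_i → A which
are jointly surjective and whose kernels die in the system), and B₀ → C₀ a homomorphism of
A₀-algebras with C₀ of finite type over B₀. If the base change of B₀ → C₀ along B₀ → B₀ ⊗_{A₀} A is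
surjective, then already its base change along B₀ → B₀ ⊗_{A₀} A_i is surjective for some index i. -/
theorem result {ι : Type u} [Preorder ι] [IsDirected ι (· ≤ ·)] [Nonempty ι]
    (A₀ : Type u) [CommRing A₀] (G : ι → Type u) [∀ i, CommRing (G i)] [∀ i, Algebra A₀ (G i)]
    (f : ∀ i j, i ≤ j → (G i →ₐ[A₀] G j)) (A : Type u) [CommRing A] [Algebra A₀ A]
    (g : ∀ i, G i →ₐ[A₀] A) (hg : ∀ i j (h : i ≤ j), (g j).comp (f i j h) = g i)
    (hsurj : ∀ a : A, ∃ i, ∃ x : G i, g i x = a)
    (hker : ∀ i (x : G i), g i x = 0 → ∃ j, ∃ h : i ≤ j, f i j h x = 0)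
    (B₀ : Type u) [CommRing B₀] [Algebra A₀ B₀] (C₀ : Type u) [CommRing C₀] [Algebra A₀ C₀]
    [Algebra B₀ C₀] [IsScalarTower A₀ B₀ C₀] [Algebra.FiniteType B₀ C₀]
    (h : Function.Surjective (algebraMap (B₀ ⊗[A₀] A) ((B₀ ⊗[A₀] A) ⊗[B₀] C₀))) :
    ∃ i, Function.Surjective (algebraMap (B₀ ⊗[A₀] G i) ((B₀ ⊗[A₀] G i) ⊗[B₀] C₀)) := by
  exact ColimDescent.surjective_stage (approx_of_directed f hg hsurj hker) C₀ h

end Groth.Agent.S9418
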