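import Groth.Statements.S9425
import Mathlib.RingTheory.Etale.Basic

set_option autoImplicit false
universe u
open CAlg

namespace Groth.Agent.S9425

/-- A directed colimit of formally étale R-algebras is formally étale over R. The colimit is encoded by
compatible R-algebra maps S_i → S which are jointly surjective and whose kernels die further along
the system. -/
theorem result {ι : Type u} [Preorder ι] [IsDirected ι (· ≤ ·)] [Nonempty ι]
    (R : Type u) [CommRing R] (G : ι → Type u) [∀ i, CommRing (G i)] [∀ i, Algebra R (G i)]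
    (f : ∀ i j, i ≤ j → (G i →ₐ[R] G j)) (S : Type u) [CommRing S] [Algebra R S]
    (g : ∀ i, G i →ₐ[R] S) (hg : ∀ i j (h : i ≤ j), (g j).comp (f i j h) = g i)
    (hsurj : ∀ s : S, ∃ i, ∃ x : G i, g i x = s)
    (hker : ∀ i (x : G i), g i x = 0 → ∃ j, ∃ h : i ≤ j, f i j h x = 0)
    (h : ∀ i, Algebra.FormallyEtale R (G i)) : Algebra.FormallyEtale R S := by
  haveI hG : ∀ i, Algebra.FormallyEtale R (G i) := h
  rw [Algebra.FormallyEtale.iff_comp_bijective]
  intro B _ _ I hI
  constructor
  · intro u v huv
    refine AlgHom.ext fun s => ?_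
    obtain ⟨i, x, rfl⟩ := hsurj s
    have := (Algebra.FormallyEtale.comp_bijective (R := R) (A := G i) I hI).1 (a₁ := u.comp (g i))
      (a₂ := v.comp (g i)) (by simp only [← AlgHom.comp_assoc] at huv ⊢; rw [huv])
    exact DFunLike.congr_fun this x
  · intro φ
    choose l hl using fun i => (Algebra.FormallyEtale.comp_bijective (R := R) (A := G i) I hI).2
      (φ.comp (g i))
    have hcompat : ∀ i j (hij : i ≤ j), (l j).comp (f i j hij) = l i := by
      intro i j hij
      refine (Algebra.FormallyEtale.comp_bijective (R := R) (A := G i) I hI).1 ?_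
      simp only [hl i, ← AlgHom.comp_assoc]
      rw [hl j, AlgHom.comp_assoc, hg]
    choose idx rep hrep using hsurj
    have heq : ∀ i (x : G i) j (y : G j), g i x = g j y → l i x = l j y := by
      intro i x j y hxy
      obtain ⟨k, hik, hjk⟩ := directed_of (· ≤ ·) i j
      have h0 : g k (f i k hik x - f j k hjk y) = 0 := by
        rw [map_sub, ← AlgHom.comp_apply, hg, ← AlgHom.comp_apply, hg, hxy, sub_self]
      obtain ⟨m, hkm, hm⟩ := hker k _ h0
      have := congr_arg (l m) hm
      rw [map_zero, ← AlgHom.comp_apply, hcompat k m hkm, map_sub, ← AlgHom.comp_apply,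
        hcompat i k hik, ← AlgHom.comp_apply, hcompat j k hjk] at this
      exact sub_eq_zero.mp this
    let L : S → B := fun s => l (idx s) (rep s)
    have hLg : ∀ i x, L (g i x) = l i x := fun i x => heq _ _ _ _ (hrep _)
    have pair : ∀ a b : S, ∃ k, ∃ x y : G k, g k x = a ∧ g k y = b := by
      intro a b
      obtain ⟨k, hak, hbk⟩ := directed_of (· ≤ ·) (idx a) (idx b)
      exact ⟨k, f _ k hak (rep a), f _ k hbk (rep b),
        by rw [← AlgHom.comp_apply, hg, hrep], by rw [← AlgHom.comp_apply, hg, hrep]⟩
    have hc : ∀ r : R, L (algebraMap R S r) = algebraMap R B r := by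
      intro r
      let i := Classical.arbitrary ι
      rw [← (g i).commutes, hLg, AlgHom.commutes]
    let ψ : S →ₐ[R] B :=
      { toFun := L
        map_one' := by simpa using hc 1
        map_zero' := by simpa using hc 0
        map_mul' := fun a b => by
          obtain ⟨k, x, y, rfl, rfl⟩ := pair a b
          rw [← map_mul, hLg, hLg, hLg, map_mul]
        map_add' := fun a b => by
          obtain ⟨k, x, y, rfl, rfl⟩ := pair a b
          rw [← map_add, hLg, hLg, hLg, map_add]
        commutes' := hc }
    refine ⟨ψ, AlgHom.ext fun s => ?_⟩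
    show Ideal.Quotient.mkₐ R I (L s) = φ s
    rw [← hrep s, hLg, ← AlgHom.comp_apply, hl]
    rfl

end Groth.Agent.S9425
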