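import Groth.Statements.S9428
import Mathlib.RingTheory.Etale.Basic

set_option autoImplicit false
universe u
open CAlg

namespace Groth.Agent.S9428

/-- If R → S is formally étale and J ⊆ S is an ideal with R → S/J surjective, I ⊆ R its kernel (the
preimage of J), then R/I^n → S/J^n is bijective for all n. (The published statement adds that the
associated graded rings are then isomorphic, which follows from these bijections.) -/
theorem result (R : Type u) [CommRing R] (S : Type u)
    [CommRing S] [Algebra R S] [Algebra.FormallyEtale R S] (J : Ideal S)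
    (hJ : Function.Surjective (algebraMap R (S ⧸ J))) (n : ℕ) :
    Function.Bijective (Ideal.quotientMap (J ^ n) (algebraMap R S)
      (le_of_le_of_eq (Ideal.le_comap_pow (algebraMap R S) n) rfl :
        (J.comap (algebraMap R S)) ^ n ≤ (J ^ n).comap (algebraMap R S))) := by
  rcases Nat.eq_zero_or_pos n with rfl | hn
  · haveI : Subsingleton (S ⧸ J ^ 0) :=
      Ideal.Quotient.subsingleton_iff.mpr (by rw [pow_zero, Ideal.one_eq_top])
    haveI : Subsingleton (R ⧸ (J.comap (algebraMap R S)) ^ 0) :=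
      Ideal.Quotient.subsingleton_iff.mpr (by rw [pow_zero, Ideal.one_eq_top])
    exact ⟨fun x y _ => Subsingleton.elim _ _, fun y => ⟨0, Subsingleton.elim _ _⟩⟩
  let I := J.comap (algebraMap R S)
  let g : R ⧸ I ^ n →ₐ[R] S ⧸ J := Ideal.Quotient.liftₐ (I ^ n) (Algebra.ofId R (S ⧸ J))
    (fun a ha => (Ideal.Quotient.eq_zero_iff_mem (I := J)).mpr (show a ∈ I from Ideal.pow_le_self hn.ne' ha))
  have hg : Function.Surjective g := fun c => by
    obtain ⟨a, ha⟩ := hJ c
    exact ⟨Ideal.Quotient.mk _ a, ha⟩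
  have hgker : ∀ z, g z = 0 → z ∈ I.map (Ideal.Quotient.mk (I ^ n)) := fun z hz => by
    obtain ⟨a, rfl⟩ := Ideal.Quotient.mk_surjective z
    exact Ideal.mem_map_of_mem _ ((Ideal.Quotient.eq_zero_iff_mem (I := J)).mp hz)
  have hIn : (I.map (Ideal.Quotient.mk (I ^ n))) ^ n = ⊥ := by
    rw [← Ideal.map_pow, Ideal.map_quotient_self]
  have hg' : IsNilpotent (RingHom.ker (g : R ⧸ I ^ n →+* S ⧸ J)) := by
    refine ⟨n, ?_⟩
    rw [Ideal.zero_eq_bot, eq_bot_iff, ← hIn]
    exact Ideal.pow_right_mono (fun z hz => hgker z hz) n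
  let σ : S →ₐ[R] R ⧸ I ^ n :=
    Algebra.FormallySmooth.liftOfSurjective (Ideal.Quotient.mkₐ R J) g hg hg'
  have hσ : ∀ s, g (σ s) = Ideal.Quotient.mk J s := fun s =>
    Algebra.FormallySmooth.liftOfSurjective_apply _ g hg hg' s
  have hσJ : J ^ n ≤ RingHom.ker σ.toRingHom := by
    intro x hx
    have h : (J ^ n).map σ.toRingHom ≤ ⊥ := by
      rw [Ideal.map_pow, ← hIn]
      refine Ideal.pow_right_mono (Ideal.map_le_iff_le_comap.mpr fun j hj => ?_) n
      exact hgker _ ((hσ j).trans (Ideal.Quotient.eq_zero_iff_mem.mpr hj))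
    exact Ideal.mem_bot.mp (h (Ideal.mem_map_of_mem _ hx))
  have hle : I ^ n ≤ (J ^ n).comap (algebraMap R S) := Ideal.le_comap_pow _ n
  let q : R ⧸ I ^ n →ₐ[R] S ⧸ J ^ n :=
    Ideal.quotientMapₐ (J ^ n) (Algebra.ofId R S) hle
  change Function.Bijective q
  constructor
  · rw [injective_iff_map_eq_zero]
    intro z hz
    obtain ⟨a, rfl⟩ := Ideal.Quotient.mk_surjective z
    have ha : algebraMap R S a ∈ J ^ n := Ideal.Quotient.eq_zero_iff_mem.mp hz
    have h2 := hσJ ha
    rw [RingHom.mem_ker] at h2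
    exact (σ.commutes a).symm.trans h2
  · have hker : IsNilpotent (RingHom.ker (Ideal.Quotient.factorₐ R (Ideal.pow_le_self hn.ne') :
        S ⧸ J ^ n →ₐ[R] S ⧸ J)) := by
      refine ⟨n, ?_⟩
      have h1 : RingHom.ker (Ideal.Quotient.factorₐ R (Ideal.pow_le_self hn.ne') :
          S ⧸ J ^ n →ₐ[R] S ⧸ J) ≤ J.map (Ideal.Quotient.mk (J ^ n)) := fun z hz => by
        obtain ⟨a, rfl⟩ := Ideal.Quotient.mk_surjective z
        exact Ideal.mem_map_of_mem _ (Ideal.Quotient.eq_zero_iff_mem.mp hz)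
      rw [Ideal.zero_eq_bot, eq_bot_iff]
      refine (Ideal.pow_right_mono h1 n).trans ?_
      rw [← Ideal.map_pow, Ideal.map_quotient_self]
    have hcomp : Ideal.Quotient.mkₐ R (J ^ n) = q.comp σ := by
      refine Algebra.FormallyUnramified.ext' (Ideal.Quotient.factorₐ R (Ideal.pow_le_self hn.ne') :
        S ⧸ J ^ n →ₐ[R] S ⧸ J).toRingHom hker _ _ fun s => ?_
      change Ideal.Quotient.mk J s = _
      rw [← hσ s]
      obtain ⟨a, ha⟩ := Ideal.Quotient.mk_surjective (σ s)
      change g (σ s) = Ideal.Quotient.factorₐ R (Ideal.pow_le_self hn.ne') (q (σ s))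
      rw [← ha]
      rfl
    intro y
    obtain ⟨s, rfl⟩ := Ideal.Quotient.mk_surjective y
    exact ⟨σ s, (AlgHom.congr_fun hcomp s).symm⟩

end Groth.Agent.S9428
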