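import Groth.Statements.S9431
import Groth.Agent.H02CA.GeomReducedField
import Mathlib.RingTheory.Smooth.Locus
import Mathlib.RingTheory.Nilpotent.GeometricallyReduced
import Mathlib.RingTheory.Localization.FractionRing
import Mathlib.RingTheory.Adjoin.FG
import Mathlib.RingTheory.EssentialFiniteness
import Mathlib.RingTheory.FinitePresentation

set_option autoImplicit false
universe u
open CAlg

namespace Groth.Agent.S9431

open Groth.Agent.H02CA

/-- For a separable (geometrically reduced) field extension K/k, every finite subset of K lies in a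
k-subalgebra of K which is smooth over k; in particular K is a filtered colimit of smooth
k-algebras. -/
theorem result (k : Type u) [Field k]
    (K : Type u) [Field K] [Algebra k K] [Algebra.IsGeometricallyReduced k K] (E : Finset K) :
    ∃ A : Subalgebra k K, (↑E : Set K) ⊆ (A : Set K) ∧ Algebra.Smooth k A := by
  classical
  let A₀ : Subalgebra k K := Algebra.adjoin k (E : Set K)
  have : Algebra.FiniteType k A₀ := (Subalgebra.fg_iff_finiteType A₀).mp ⟨E, rfl⟩
  have : Algebra.FinitePresentation k A₀ := Algebra.FinitePresentation.of_finiteType.mp inferInstance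
  let L := FractionRing A₀
  let φ : L →ₐ[k] K := IsFractionRing.liftAlgHom (g := A₀.val) Subtype.val_injective
  have : Algebra.IsGeometricallyReduced k L :=
    Algebra.IsGeometricallyReduced.of_injective φ φ.injective
  have : Algebra.EssFiniteType A₀ L := Algebra.EssFiniteType.of_isLocalization _ (nonZeroDivisors A₀)
  have : Algebra.EssFiniteType k L := Algebra.EssFiniteType.comp k A₀ L
  have hL := formallySmooth_of_isGeometricallyReduced k L
  have hprime : (⊥ : Ideal A₀).IsPrime := Ideal.isPrime_bot
  have hloc : IsLocalization (⊥ : Ideal A₀).primeCompl L := by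
    rw [show (⊥ : Ideal A₀).primeCompl = nonZeroDivisors A₀ from
      Submonoid.ext fun x ↦ mem_nonZeroDivisors_iff_ne_zero.symm]
    infer_instance
  have hsm : Algebra.IsSmoothAt k (⊥ : Ideal A₀) := Algebra.FormallySmooth.of_equiv
    ((IsLocalization.algEquiv (⊥ : Ideal A₀).primeCompl L
      (Localization.AtPrime (⊥ : Ideal A₀))).restrictScalars k)
  obtain ⟨f, hf, hfs⟩ := Algebra.IsSmoothAt.exists_notMem_smooth (R := k) (⊥ : Ideal A₀)
  have hu : IsUnit (A₀.val f) := by
    refine isUnit_iff_ne_zero.mpr fun h ↦ hf ?_
    exact Subtype.ext h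
  have hu' : ∀ y : Submonoid.powers f, IsUnit (A₀.val y) := by
    rintro ⟨_, n, rfl⟩
    change IsUnit (A₀.val (f ^ n))
    rw [map_pow]
    exact hu.pow n
  let ψ : Localization.Away f →ₐ[k] K := IsLocalization.liftAlgHom (M := Submonoid.powers f) hu'
  have hψ : Function.Injective ψ := by
    refine (IsLocalization.lift_injective_iff _).mpr fun x y ↦ ⟨fun h ↦ ?_, fun h ↦ ?_⟩
    · obtain ⟨c, hc⟩ := (IsLocalization.eq_iff_exists (Submonoid.powers f) _).mp h
      exact (hu' c).mul_left_cancel (by simpa using congrArg A₀.val hc)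
    · exact congrArg _ (Subtype.ext h)
  refine ⟨ψ.range, fun x hx ↦ ?_, Algebra.Smooth.of_equiv (AlgEquiv.ofInjective ψ hψ)⟩
  exact ⟨algebraMap A₀ _ ⟨x, Algebra.subset_adjoin hx⟩, IsLocalization.lift_eq _ _⟩

end Groth.Agent.S9431
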