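import Groth.Statements.S9432
import Groth.Agent.H02CA.QuasiFiniteSlice
import Groth.Agent.H13Flat.Algebra
import Groth.Agent.H19Grp.PiClosedRing
import Mathlib.RingTheory.TensorProduct.Pi
import Mathlib.RingTheory.Finiteness.FinitePresentationLocal

set_option autoImplicit false
universe u
open CAlg

namespace Groth.Agent.S9432

open TensorProduct in
lemma quasiFinite_pi {R : Type u} [CommRing R] {ι : Type} [Finite ι] (C : ι → Type u)
    [∀ i, CommRing (C i)] [∀ i, Algebra R (C i)] [∀ i, Algebra.QuasiFinite R (C i)] :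
    Algebra.QuasiFinite R (∀ i, C i) := by
  classical
  have := Fintype.ofFinite ι
  constructor
  intro P _
  exact Module.Finite.equiv (Algebra.TensorProduct.piRight R P.ResidueField P.ResidueField C).symm.toLinearEquiv

open TensorProduct in
lemma exists_noetherian (R S : Type u) [CommRing R] [IsNoetherianRing R] [CommRing S] [Algebra R S]
    [Algebra.FinitePresentation R S] [Module.FaithfullyFlat R S] :
    ∃ (S' : Type u) (_ : CommRing S') (_ : Algebra R S'),
      Algebra.QuasiFinite R S' ∧ Module.FaithfullyFlat R S' ∧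
        Algebra.FinitePresentation R S' ∧ Nonempty (S →ₐ[R] S') := by
  classical
  have h := fun p : PrimeSpectrum R => Groth.Agent.H02CA.Slice.exists_slice (S := S) p.asIdeal
  choose C iC aC hfp hqf hfl hhom q hq using h
  obtain ⟨t, ht⟩ := (isCompact_univ (X := PrimeSpectrum R)).elim_finite_subcover
    (fun p => Set.range (PrimeSpectrum.comap (algebraMap R (C p))))
    (fun p => by
      have := hfp p
      have := hfl p
      exact (PrimeSpectrum.isOpenMap_comap_of_hasGoingDown_of_finitePresentation).isOpen_range)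
    (fun p _ => Set.mem_iUnion.mpr ⟨p, q p, hq p⟩)
  let ix : Fin t.card → PrimeSpectrum R := fun i => (t.equivFin.symm i).1
  have hfl' : ∀ i, Module.Flat R (C (ix i)) := fun i => hfl _
  have hqf' : ∀ i, Algebra.QuasiFinite R (C (ix i)) := fun i => hqf _
  have hfp' : ∀ i, Algebra.FinitePresentation R (C (ix i)) := fun i => hfp _
  refine ⟨∀ i, C (ix i), inferInstance, inferInstance, quasiFinite_pi _,
    Groth.Agent.H19Grp.faithfullyFlat_pi _ fun p => ?_, inferInstance,
    ⟨Pi.algHom R (fun i => C (ix i)) fun i => (hhom (ix i)).some⟩⟩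
  obtain ⟨p₀, hp₀, x, hx⟩ := Set.mem_iUnion₂.mp (ht (Set.mem_univ p))
  refine ⟨t.equivFin ⟨p₀, hp₀⟩, ?_⟩
  have e : ix (t.equivFin ⟨p₀, hp₀⟩) = p₀ := by simp [ix]
  rw [e]
  exact ⟨x, hx⟩

/-- For a faithfully flat ring map R → S of finite presentation there is a quasi-finite (of finite type
with finite fibres), faithfully flat, finitely presented R-algebra S' together with an R-algebra map
S → S'. -/
theorem result (R : Type u) [CommRing R]
    (S : Type u) [CommRing S] [Algebra R S] [Module.FaithfullyFlat R S]
    [Algebra.FinitePresentation R S] :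
    ∃ (S' : Type u) (_ : CommRing S') (_ : Algebra R S'),
      Algebra.QuasiFinite R S' ∧ Algebra.FiniteType R S' ∧ Module.FaithfullyFlat R S' ∧
        Algebra.FinitePresentation R S' ∧ Nonempty (S →ₐ[R] S') := by
  obtain ⟨R₀, hR₀, S₀, _, _, _, _, ⟨e⟩⟩ := Groth.Agent.H13Flat.exists_faithfullyFlat_stage R S
  have := Groth.Agent.H13Flat.isNoetherianRing_stage hR₀
  obtain ⟨C, _, _, _, _, _, ⟨h⟩⟩ := exists_noetherian R₀ S₀
  refine ⟨TensorProduct R₀ R C, inferInstance, inferInstance, inferInstance, inferInstance,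
    inferInstance, inferInstance,
    ⟨(Algebra.TensorProduct.map (AlgHom.id R R) h).comp e.symm.toAlgHom⟩⟩

end Groth.Agent.S9432
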