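import Groth.Statements.S9433
import Mathlib.RingTheory.Etale.StandardEtale
import Mathlib.RingTheory.Unramified.LocalStructure
import Mathlib.RingTheory.LocalRing.RingHom.Basic
import Mathlib.RingTheory.Flat.Localization
import Mathlib.RingTheory.Flat.FaithfullyFlat.Algebra
import Mathlib.RingTheory.Smooth.Flat
import Mathlib.RingTheory.Etale.Locus
import Mathlib.Tactic.LinearCombination

set_option autoImplicit false
universe u
open CAlg

namespace Groth.Agent.S9433

open Polynomial IsLocalRing

/-- Let R → S be a local homomorphism of local rings with S the localization of an étale R-algebra at a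
prime, inducing an isomorphism of residue fields. Then for some t in the maximal ideal of R the maps
R/t^nR → S/t^nS are bijective for all n ≥ 1. -/
theorem result (R : Type u) [CommRing R] [IsLocalRing R] (T : Type u) [CommRing T] [Algebra R T]
    [Algebra.Etale R T] (q : Ideal T) [q.IsPrime] (S : Type u) [CommRing S] [IsLocalRing S]
    [Algebra T S] [IsLocalization.AtPrime S q] [Algebra R S] [IsScalarTower R T S]
    [IsLocalHom (algebraMap R S)]
    (hres : Function.Bijective (IsLocalRing.ResidueField.map (algebraMap R S))) :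
    ∃ t ∈ IsLocalRing.maximalIdeal R, ∀ n : ℕ, 1 ≤ n →
      Function.Bijective (Ideal.quotientMap ((Ideal.span {t ^ n}).map (algebraMap R S))
        (algebraMap R S) Ideal.le_comap_map) := by
  obtain ⟨f, hf, hst⟩ := Algebra.IsEtaleAt.exists_isStandardEtale (R := R) q
  let Tf := Localization.Away f
  obtain ⟨P⟩ := (inferInstance : Nonempty (StandardEtalePresentation R Tf))
  let ιf : Tf →ₐ[T] S := IsLocalization.Away.liftAlgHom f (f := Algebra.ofId T S)
    (IsLocalization.map_units (M := q.primeCompl) S ⟨f, hf⟩)
  let jf : Tf →ₐ[R] S := ιf.restrictScalars R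
  let x : S := jf P.x
  obtain ⟨a', ha'⟩ := hres.2 (residue S x)
  obtain ⟨a, rfl⟩ := residue_surjective a'
  rw [IsLocalRing.ResidueField.map_residue] at ha'
  have hxf : aeval x P.f = 0 := (P.hasMap.map jf).1
  have hev : ∀ Q : R[X], residue S (algebraMap R S (aeval a Q)) = residue S (aeval x Q) := fun Q => by
    rw [← aeval_algebraMap_apply]
    obtain ⟨c, hc⟩ := sub_dvd_eval_sub (algebraMap R S a) x (Q.map (algebraMap R S))
    rw [eval_map_algebraMap, eval_map_algebraMap] at hc
    rw [← sub_eq_zero, ← map_sub, hc, map_mul, map_sub, ha', sub_self, zero_mul]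
  let t := aeval a P.f
  have hgen : ∀ r : R, residue S (algebraMap R S r) ≠ 0 → IsUnit r := fun r hr =>
    isUnit_of_map_unit (algebraMap R S) r ((residue_ne_zero_iff_isUnit _).mp hr)
  have ht : t ∈ maximalIdeal R := fun hu => by
    have h := (hu.map (algebraMap R S)).map (residue S)
    rw [hev, hxf, map_zero] at h
    exact not_isUnit_zero h
  let Rt := R ⧸ Ideal.span {t}
  have hmapt : P.HasMap (algebraMap R Rt a) := by
    refine ⟨?_, ?_⟩
    · rw [aeval_algebraMap_apply, Ideal.Quotient.algebraMap_eq, Ideal.Quotient.eq_zero_iff_mem]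
      exact Ideal.mem_span_singleton_self t
    · rw [aeval_algebraMap_apply]
      refine (hgen _ ?_).map _
      rw [hev]
      exact (residue_ne_zero_iff_isUnit _).mpr (P.hasMap.map jf).2
  let ρf : Tf →ₐ[R] Rt := (P.P.lift _ hmapt).comp P.equivRing.toAlgHom
  have hρfx : ρf P.x = algebraMap R Rt a := by simp [ρf]
  have htne : Ideal.span {t} ≤ maximalIdeal R := (Ideal.span_singleton_le_iff_mem _).mpr ht
  let res : Rt →ₐ[R] ResidueField S := Ideal.Quotient.liftₐ _ (Algebra.ofId R (ResidueField S))
    fun r hr => by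
      change residue S (algebraMap R S r) = 0
      rw [residue_eq_zero_iff]
      exact map_nonunit (algebraMap R S) r (htne hr)
  have hcomp : res.comp ρf = (IsScalarTower.toAlgHom R S (ResidueField S)).comp jf := P.hom_ext (by
    rw [AlgHom.comp_apply, hρfx]
    exact ha')
  let ψ : T →ₐ[R] Rt := ρf.comp (IsScalarTower.toAlgHom R T Tf)
  have hunit : ∀ u : q.primeCompl, IsUnit (ψ u) := fun u => by
    obtain ⟨r, hr⟩ := Ideal.Quotient.mk_surjective (ψ u)
    rw [← hr]
    refine (hgen r ?_).map _
    have h1 : res (ψ u) = residue S (algebraMap T S u) := by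
      refine (AlgHom.congr_fun hcomp (algebraMap T Tf u)).trans ?_
      exact congrArg (residue S) (ιf.commutes u)
    rw [← hr] at h1
    intro h0
    have h2 : residue S (algebraMap R S r) = residue S (algebraMap T S u) := h1
    exact (residue_ne_zero_iff_isUnit _).mpr (IsLocalization.map_units S u) (h2.symm.trans h0)
  let ρ : S →ₐ[R] Rt := IsLocalization.liftAlgHom (M := q.primeCompl) (f := ψ) hunit
  let It := (Ideal.span {t}).map (algebraMap R S)
  have hxa : x - algebraMap R S a ∈ It := by
    have h0 := modByMonic_add_div P.f (X - C a)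
    rw [modByMonic_X_sub_C_eq_C_eval] at h0
    have h0x := congrArg (aeval x) h0
    rw [map_add, map_mul, aeval_C, map_sub, aeval_X, aeval_C, hxf, ← coe_aeval_eq_eval] at h0x
    have hder : aeval a (P.f /ₘ (X - C a)) = aeval a (derivative P.f) := by
      have := congrArg (fun p => aeval a (derivative p)) h0
      simpa [derivative_mul] using this
    have hu : IsUnit (aeval x (P.f /ₘ (X - C a))) := by
      rw [← residue_ne_zero_iff_isUnit, ← hev, hder, hev]
      exact (residue_ne_zero_iff_isUnit _).mpr (P.hasMap.map jf).isUnit_derivative_f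
    rw [← Ideal.mul_unit_mem_iff_mem _ hu]
    have : (x - algebraMap R S a) * aeval x (P.f /ₘ (X - C a)) = - algebraMap R S t := by
      linear_combination h0x
    rw [this, neg_mem_iff]
    exact Ideal.mem_map_of_mem _ (Ideal.mem_span_singleton_self t)
  let σ : Rt →ₐ[R] S ⧸ It := Ideal.Quotient.liftₐ _ (Algebra.ofId R _) fun r hr => by
    rw [Algebra.ofId_apply, IsScalarTower.algebraMap_apply R S (S ⧸ It), Ideal.Quotient.algebraMap_eq,
      Ideal.Quotient.eq_zero_iff_mem]
    exact Ideal.mem_map_of_mem _ hr
  have hσρ : ∀ s, σ (ρ s) = Ideal.Quotient.mk It s := by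
    have h1 : σ.comp ρf = (Ideal.Quotient.mkₐ R It).comp jf := P.hom_ext (by
      rw [AlgHom.comp_apply, hρfx, AlgHom.commutes, AlgHom.comp_apply, Ideal.Quotient.mkₐ_eq_mk,
        IsScalarTower.algebraMap_apply R S (S ⧸ It), Ideal.Quotient.algebraMap_eq, eq_comm,
        Ideal.Quotient.eq]
      exact hxa)
    have h2 : (σ.comp ρ).toRingHom = (Ideal.Quotient.mk It : S →+* S ⧸ It) := by
      refine IsLocalization.ringHom_ext q.primeCompl (RingHom.ext fun u => ?_)
      change σ (ρ (algebraMap T S u)) = Ideal.Quotient.mk It (algebraMap T S u)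
      rw [IsLocalization.liftAlgHom_apply, IsLocalization.lift_eq]
      refine (AlgHom.congr_fun h1 (algebraMap T Tf u)).trans ?_
      exact congrArg (Ideal.Quotient.mk It) (ιf.commutes u)
    exact fun s => RingHom.congr_fun h2 s
  have hsurj1 : ∀ s : S, ∃ r : R, s - algebraMap R S r ∈ It := fun s => by
    obtain ⟨r, hr⟩ := Ideal.Quotient.mk_surjective (ρ s)
    refine ⟨r, Ideal.Quotient.eq.mp ?_⟩
    rw [← hσρ s, ← hr]
    rfl
  have : Module.Flat T S := IsLocalization.flat S q.primeCompl
  have : Module.Flat R S := Module.Flat.trans R T S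
  have : Module.FaithfullyFlat R S := Module.FaithfullyFlat.of_flat_of_isLocalHom
  refine ⟨t, ht, fun n _ => ⟨?_, ?_⟩⟩
  · refine Ideal.quotientMap_injective' ?_
    exact (Ideal.comap_map_eq_self_of_faithfullyFlat (B := S) (Ideal.span {t ^ n})).le
  · intro z
    obtain ⟨s, rfl⟩ := Ideal.Quotient.mk_surjective z
    have : ∀ k, ∃ r : R, s - algebraMap R S r ∈ (Ideal.span {t ^ k}).map (algebraMap R S) := by
      intro k
      induction k with
      | zero => exact ⟨0, by rw [pow_zero, Ideal.span_singleton_one, Ideal.map_top]; exact Submodule.mem_top⟩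
      | succ k ih =>
        obtain ⟨r, hr⟩ := ih
        rw [Ideal.map_span, Set.image_singleton, Ideal.mem_span_singleton] at hr
        obtain ⟨s', hs'⟩ := hr
        obtain ⟨r', hr'⟩ := hsurj1 s'
        refine ⟨r + t ^ k * r', ?_⟩
        simp only [It, Ideal.map_span, Set.image_singleton, Ideal.mem_span_singleton] at hr' ⊢
        obtain ⟨c, hc⟩ := hr'
        refine ⟨c, ?_⟩
        rw [map_add, map_mul, map_pow, map_pow]
        rw [map_pow] at hs'
        linear_combination hs' + (algebraMap R S t) ^ k * hc
    obtain ⟨r, hr⟩ := this n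
    exact ⟨Ideal.Quotient.mk _ r, (Ideal.Quotient.eq.mpr hr).symm⟩

end Groth.Agent.S9433
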