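import Groth.Statements.S9434
import Groth.Agent.H02CA.EtaleCover
import Mathlib.RingTheory.LocalRing.RingHom.Basic

set_option autoImplicit false
universe u
open CAlg

namespace Groth.Agent.S9434



/-- Let R → S be a local homomorphism of local rings with S the localization of an étale R-algebra at a
prime. Then there is a finite, finitely presented, faithfully flat R-algebra S' such that for every
maximal ideal m' of S' the structure map R → S'_{m'} factors through some R-algebra map S → S'_{m'}. -/
theorem result (R : Type u) [CommRing R] [IsLocalRing R] (T : Type u) [CommRing T] [Algebra R T]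
    [Algebra.Etale R T] (q : Ideal T) [q.IsPrime] (S : Type u) [CommRing S] [IsLocalRing S]
    [Algebra T S] [IsLocalization.AtPrime S q] [Algebra R S] [IsScalarTower R T S]
    [IsLocalHom (algebraMap R S)] :
    ∃ (S' : Type u) (_ : CommRing S') (_ : Algebra R S'),
      Module.Finite R S' ∧ Algebra.FinitePresentation R S' ∧ Module.FaithfullyFlat R S' ∧
        ∀ (m' : Ideal S') [m'.IsMaximal], Nonempty (S →ₐ[R] Localization.AtPrime m') := by
  obtain ⟨f, hf, hst⟩ := Algebra.IsEtaleAt.exists_isStandardEtale (R := R) q
  obtain ⟨S', _, _, _, _, _, h4⟩ := Groth.Agent.H02CA.EtaleCover.exists_cover (R := R) (Localization.Away f)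
  refine ⟨S', inferInstance, inferInstance, inferInstance, inferInstance, inferInstance, fun m' hm' => ?_⟩
  have hdisj : Disjoint (Submonoid.powers f : Set T) (q : Set T) :=
    Set.disjoint_left.mpr fun _ ⟨n, hn⟩ hc => hf (Ideal.IsPrime.mem_of_pow_mem ‹_› n (by subst hn; exact hc))
  let Tf := Localization.Away f
  let qf : Ideal Tf := q.map (algebraMap T Tf)
  have : qf.IsPrime := IsLocalization.isPrime_of_isPrime_disjoint _ _ _ ‹_› hdisj
  have hqf : qf.comap (algebraMap T Tf) = q := IsLocalization.under_map_of_isPrime_disjoint _ _ ‹_› hdisj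
  have hqR : m'.under R = qf.under R := by
    have hm : (m'.under R).IsMaximal := Ideal.isMaximal_comap_of_isIntegral_of_isMaximal m'
    rw [IsLocalRing.eq_maximalIdeal hm]
    change _ = qf.comap (algebraMap R Tf)
    rw [IsScalarTower.algebraMap_eq R T Tf,
      ← Ideal.comap_comap, hqf, ← IsLocalization.AtPrime.comap_maximalIdeal S q, Ideal.comap_comap,
      ← IsScalarTower.algebraMap_eq]
    exact (((IsLocalRing.local_hom_TFAE (algebraMap R S)).out 0 4 :).mp ‹_›).symm
  obtain ⟨g, hg, φ, hφ⟩ := h4 qf m' hqR
  let L := Localization.AtPrime m'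
  let u : Localization.Away g →ₐ[S'] L := IsLocalization.Away.liftAlgHom g (f := Algebra.ofId S' L)
    (IsLocalization.map_units (M := m'.primeCompl) L ⟨g, hg⟩)
  let ψ : T →ₐ[R] L := ((u.restrictScalars R).comp φ).comp (IsScalarTower.toAlgHom R T Tf)
  refine ⟨IsLocalization.liftAlgHom (M := q.primeCompl) (f := ψ) fun t => ?_⟩
  change IsUnit (u (φ (algebraMap T Tf t)))
  obtain ⟨a, ⟨_, n, rfl⟩, hx⟩ := IsLocalization.exists_mk'_eq (Submonoid.powers g) (φ (algebraMap T Tf t))
  have ha : a ∉ m' := by
    intro ha
    apply t.2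
    have : φ (algebraMap T Tf t) ∈ m'.map (algebraMap S' (Localization.Away g)) := by
      rw [← hx, IsLocalization.mk'_mem_map_algebraMap_iff]
      exact ⟨1, Submonoid.one_mem _, by rwa [one_mul]⟩
    refine hqf.le (show algebraMap T Tf t ∈ qf from ?_)
    rw [← hφ]
    exact this
  have hspec := congrArg u (IsLocalization.mk'_spec (Localization.Away g) a
    (⟨g ^ n, n, rfl⟩ : Submonoid.powers g))
  rw [hx, map_mul, u.commutes, u.commutes] at hspec
  refine isUnit_of_mul_isUnit_left (y := algebraMap S' L (g ^ n)) ?_
  rw [hspec]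
  exact IsLocalization.map_units (M := m'.primeCompl) L ⟨a, ha⟩

end Groth.Agent.S9434
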