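import Groth.Statements.S9438
import Groth.Agent.H06Desc.Noetherian
import Groth.Agent.H05EGA4.Regular
import Mathlib.RingTheory.Ideal.KrullsHeightTheorem
import Mathlib.RingTheory.Ideal.GoingDown
import Mathlib.RingTheory.Flat.FaithfullyFlat.Algebra
import Mathlib.RingTheory.Flat.Localization

set_option autoImplicit false
universe u
open CAlg

namespace Groth.Agent.S9438



/-- The condition (R_k) descends along faithfully flat ring maps: if S is faithfully flat over R,
Noetherian and (R_k), then R is Noetherian and (R_k). -/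
theorem result (k : ℕ) (R : Type u) [CommRing R] (S : Type u) [CommRing S]
    [Algebra R S] [Module.FaithfullyFlat R S] [IsNoetherianRing S] (hS : LocCoh.HasRk k S) :
    IsNoetherianRing R ∧ LocCoh.HasRk k R := by
  haveI : IsNoetherianRing R := Groth.Agent.H06Desc.isNoetherianRing_of_faithfullyFlat (B := S)
  refine ⟨inferInstance, fun p _ hp => ?_⟩
  obtain ⟨q', hq'⟩ := PrimeSpectrum.comap_surjective_of_faithfullyFlat (A := R) (B := S) ⟨p, inferInstance⟩
  have hq'' : q'.asIdeal.comap (algebraMap R S) = p := congrArg PrimeSpectrum.asIdeal hq'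
  obtain ⟨q, hqmin, hle⟩ := Ideal.exists_minimalPrimes_le (I := p.map (algebraMap R S)) (J := q'.asIdeal)
    (Ideal.map_le_iff_le_comap.mpr hq''.ge)
  haveI : q.IsPrime := hqmin.1.1
  haveI hlo : q.LiesOver p := ⟨le_antisymm (Ideal.map_le_iff_le_comap.mp hqmin.1.2) ((Ideal.comap_mono hle).trans hq''.le)⟩
  haveI hprime : (q.map (Ideal.Quotient.mk (p.map (algebraMap R S)))).IsPrime :=
    Ideal.map_isPrime_of_surjective Ideal.Quotient.mk_surjective (by rw [Ideal.mk_ker]; exact hqmin.1.2)
  have h0 : (q.map (Ideal.Quotient.mk (p.map (algebraMap R S)))).height = 0 := by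
    rw [Ideal.height_eq_zero_iff]
    refine ⟨⟨hprime, bot_le⟩, fun r hr hrle => ?_⟩
    haveI := hr.1
    have h1 : r.comap (Ideal.Quotient.mk (p.map (algebraMap R S))) ≤ q := by
      refine (Ideal.comap_mono hrle).trans ?_
      rw [Ideal.comap_map_of_surjective' _ Ideal.Quotient.mk_surjective, Ideal.mk_ker, sup_eq_left.mpr hqmin.1.2]
    have h2 := hqmin.2 ⟨Ideal.IsPrime.comap _, (Ideal.mk_ker (I := p.map (algebraMap R S))).ge.trans (Ideal.comap_mono bot_le)⟩ h1
    rw [Ideal.map_le_iff_le_comap]
    exact h2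
  have hht : q.height = p.height := by
    rw [Ideal.height_eq_height_add_of_liesOver_of_hasGoingDown p q, h0, add_zero]
  haveI := hS q (hht.le.trans hp)
  letI := Localization.AtPrime.algebraOfLiesOver p q
  exact Groth.Agent.H05EGA4.isRegularLocalRing_of_flat (B := Localization.AtPrime q)

end Groth.Agent.S9438
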