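import Groth.Statements.S9439
import Mathlib.RingTheory.AdicCompletion.AsTensorProduct
import Mathlib.RingTheory.DiscreteValuationRing.TFAE
import Mathlib.RingTheory.Filtration
import Mathlib.RingTheory.Flat.Localization
import Mathlib.RingTheory.Flat.Stability
import Mathlib.RingTheory.Ideal.AssociatedPrime.Basic
import Mathlib.RingTheory.TensorProduct.Quotient
import Mathlib.RingTheory.Localization.Submodule
import Groth.Agent.H24Adic.CompletionNoetherian

set_option autoImplicit false
universe u
open CAlg

namespace Groth.Agent.S9439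

section
open IsLocalRing

lemma isDVR_of_maximal_regular (L : Type u) [CommRing L] [IsLocalRing L] [IsNoetherianRing L] (π : L)
    (hm : maximalIdeal L = Ideal.span {π}) (hπ : IsSMulRegular L π) :
    ∃ _ : IsDomain L, IsDiscreteValuationRing L := by
  have key : ∀ x : L, x ≠ 0 → ∃ (n : ℕ) (c : L), IsUnit c ∧ x = π ^ n * c := by
    intro x hx
    have : ∃ n, x ∉ (maximalIdeal L) ^ n := by
      by_contra! h
      have : x ∈ ⨅ n : ℕ, (maximalIdeal L) ^ n := Ideal.mem_iInf.mpr h
      rw [Ideal.iInf_pow_eq_bot_of_isLocalRing _ (Ideal.IsMaximal.ne_top inferInstance)] at this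
      exact hx this
    classical
    let m := Nat.find this
    obtain ⟨n, hn⟩ : ∃ n, m = n + 1 := Nat.exists_eq_succ_of_ne_zero (by
      intro h0
      have := Nat.find_spec this
      rw [show Nat.find ‹_› = 0 from h0] at this
      simp at this)
    have h1 : x ∈ (maximalIdeal L) ^ n := not_not.mp (Nat.find_min this (by omega))
    have h2 : x ∉ (maximalIdeal L) ^ (n + 1) := hn ▸ Nat.find_spec this
    rw [hm, Ideal.span_singleton_pow, Ideal.mem_span_singleton] at h1 h2
    obtain ⟨c, rfl⟩ := h1
    refine ⟨n, c, ?_, rfl⟩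
    by_contra hc
    have : c ∈ Ideal.span {π} := hm ▸ (mem_maximalIdeal c).mpr hc
    obtain ⟨d, rfl⟩ := Ideal.mem_span_singleton.mp this
    exact h2 ⟨d, by rw [pow_succ, mul_assoc]⟩
  haveI : NoZeroDivisors L := ⟨fun {a b} h => by
    by_contra! hab
    obtain ⟨n, c, hc, rfl⟩ := key a hab.1
    obtain ⟨m, d, hd, rfl⟩ := key b hab.2
    have h' : π ^ (n + m) * (c * d) = 0 := by rw [← h]; ring
    have : c * d = 0 := (hπ.pow (n + m)).right_eq_zero_of_smul (by rw [smul_eq_mul, h'])
    exact (hc.mul hd).ne_zero this⟩
  haveI : IsDomain L := NoZeroDivisors.to_isDomain L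
  have hπ0 : π ≠ 0 := fun h0 => one_ne_zero (hπ.right_eq_zero_of_smul (by rw [smul_eq_mul, h0, zero_mul]))
  have hf : ¬IsField L := by
    rw [isField_iff_maximalIdeal_eq, hm, Ideal.span_singleton_eq_bot]; exact hπ0
  have hp : (maximalIdeal L).IsPrincipal := ⟨π, hm⟩
  exact ⟨inferInstance, ((IsDiscreteValuationRing.TFAE L hf).out 0 4).mpr hp⟩

lemma isDVR_localization (R A : Type u) [CommRing R] [CommRing A] [IsNoetherianRing A]
    [Algebra R A] [Module.Flat R A] (p : Ideal R) [p.IsPrime] (Rp : Type u) [CommRing Rp] [IsDomain Rp]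
    [IsDiscreteValuationRing Rp] [Algebra R Rp] [IsLocalization.AtPrime Rp p]
    (hred : IsReduced (A ⧸ p.map (algebraMap R A))) (q : Ideal A) [q.IsPrime]
    (hq : q ∈ associatedPrimes A (A ⧸ p.map (algebraMap R A)))
    (L : Type u) [CommRing L] [Algebra A L] [IsLocalization.AtPrime L q] :
    ∃ _ : IsDomain L, IsDiscreteValuationRing L := by
  haveI : IsLocalRing L := IsLocalization.AtPrime.isLocalRing L q
  haveI : IsNoetherianRing L := IsLocalization.isNoetherianRing q.primeCompl L ‹IsNoetherianRing A›
  obtain ⟨-, x₀, hx₀⟩ := isAssociatedPrime_iff.mp hq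
  obtain ⟨x, rfl⟩ := Ideal.Quotient.mk_surjective x₀
  have hcol : ∀ y, y ∈ q ↔ y * x ∈ p.map (algebraMap R A) := by
    intro y
    rw [hx₀, Submodule.mem_colon_singleton, Submodule.mem_bot, ← Ideal.Quotient.eq_zero_iff_mem]
    rfl
  have hxq : x ∉ q := by
    intro h
    have h1 : x * x ∈ p.map (algebraMap R A) := (hcol x).mp h
    have h2 : (Ideal.Quotient.mk (p.map (algebraMap R A)) x) = 0 := by
      refine (IsNilpotent.mk _ 2 ?_).eq_zero
      rw [← map_pow, sq]
      exact Ideal.Quotient.eq_zero_iff_mem.mpr h1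
    refine (inferInstance : q.IsPrime).ne_top ((Ideal.eq_top_iff_one _).mpr ((hcol 1).mpr ?_))
    rw [one_mul]
    exact Ideal.Quotient.eq_zero_iff_mem.mp h2
  have hcomap : ∀ s : R, s ∉ p → algebraMap R A s ∉ q := by
    intro s hs hsq
    have h1 := (hcol _).mp hsq
    refine hxq ?_
    have hs' : IsSMulRegular (R ⧸ p) s := by
      rw [isSMulRegular_iff_right_eq_zero_of_smul]
      intro m hm
      obtain ⟨r, rfl⟩ := Ideal.Quotient.mk_surjective m
      rw [Algebra.smul_def, Ideal.Quotient.algebraMap_eq, ← map_mul, Ideal.Quotient.eq_zero_iff_mem] at hm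
      exact Ideal.Quotient.eq_zero_iff_mem.mpr (((inferInstance : p.IsPrime).mem_or_mem hm).resolve_left hs)
    have hreg := hs'.of_flat_of_isBaseChange (TensorProduct.isBaseChange R (R ⧸ p) A)
    have : Ideal.Quotient.mk (p.map (algebraMap R A)) x = 0 := by
      have e := Algebra.TensorProduct.quotIdealMapEquivTensorQuot A p
      apply e.injective
      rw [map_zero]
      apply hreg.right_eq_zero_of_smul
      rw [← map_smul, Algebra.smul_def, Ideal.Quotient.algebraMap_eq, ← map_mul,
        Ideal.Quotient.eq_zero_iff_mem.mpr h1, map_zero]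
    refine (hcol x).mpr ?_
    exact Ideal.mul_mem_left _ _ (Ideal.Quotient.eq_zero_iff_mem.mp this)
  letI : Algebra R L := Algebra.compHom L (algebraMap R A)
  haveI : IsScalarTower R A L := IsScalarTower.of_algebraMap_eq fun _ => rfl
  haveI : Module.Flat A L := IsLocalization.flat L q.primeCompl
  haveI : Module.Flat R L := Module.Flat.trans R A L
  have hu : ∀ s : p.primeCompl, IsUnit (algebraMap R L s) := fun s =>
    IsLocalization.map_units L (⟨algebraMap R A s.1, hcomap s.1 s.2⟩ : q.primeCompl)
  letI : Algebra Rp L := (IsLocalization.lift hu).toAlgebra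
  haveI : IsScalarTower R Rp L := IsScalarTower.of_algebraMap_eq fun r => (IsLocalization.lift_eq hu r).symm
  haveI : Module.Flat Rp L := (Module.flat_iff_of_isLocalization Rp p.primeCompl L).mpr inferInstance
  obtain ⟨π, hπ⟩ := IsDiscreteValuationRing.exists_irreducible Rp
  have hm := hπ.maximalIdeal_eq
  refine isDVR_of_maximal_regular L (algebraMap Rp L π) ?_ ?_
  · have h1 : maximalIdeal L = (p.map (algebraMap R A)).map (algebraMap A L) := by
      apply le_antisymm
      · rw [← IsLocalization.AtPrime.map_eq_maximalIdeal q L, Ideal.map_le_iff_le_comap]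
        intro y hy
        have h2 := Ideal.mem_map_of_mem (algebraMap A L) ((hcol y).mp hy)
        rw [map_mul] at h2
        rw [Ideal.mem_comap]
        exact (Ideal.mul_unit_mem_iff_mem _ (IsLocalization.map_units L (⟨x, hxq⟩ : q.primeCompl))).mp h2
      · refine le_of_le_of_eq (Ideal.map_mono ?_) (IsLocalization.AtPrime.map_eq_maximalIdeal q L)
        intro y hy
        exact (hcol y).mpr (Ideal.mul_mem_right _ _ hy)
    rw [h1, Ideal.map_map, ← IsScalarTower.algebraMap_eq, IsScalarTower.algebraMap_eq R Rp L,
      ← Ideal.map_map, IsLocalization.AtPrime.map_eq_maximalIdeal p Rp, hm, Ideal.map_span, Set.image_singleton]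
  · exact IsSMulRegular.of_flat (isSMulRegular_iff_right_eq_zero_of_smul.mpr fun m h => by
      simpa [hπ.ne_zero] using h)

end

/-- Let R be a Noetherian local ring, R^ its completion and p a prime with R_p a discrete valuation ring
and with R^/pR^ reduced (p analytically unramified: the completion of R/p, which is R^/pR^, is
reduced). Then the localization of R^ at any associated prime of R^/pR^ is a discrete valuation
ring. -/
theorem result
    (R : Type u) [CommRing R] [IsLocalRing R] [IsNoetherianRing R] (p : Ideal R) [p.IsPrime]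
    [IsDomain (Localization.AtPrime p)] [IsDiscreteValuationRing (Localization.AtPrime p)]
    (hp : IsReduced (AdicCompletion (IsLocalRing.maximalIdeal R) R ⧸
      p.map (algebraMap R (AdicCompletion (IsLocalRing.maximalIdeal R) R))))
    (q : Ideal (AdicCompletion (IsLocalRing.maximalIdeal R) R)) [q.IsPrime]
    (hq : q ∈ associatedPrimes (AdicCompletion (IsLocalRing.maximalIdeal R) R)
      (AdicCompletion (IsLocalRing.maximalIdeal R) R ⧸
        p.map (algebraMap R (AdicCompletion (IsLocalRing.maximalIdeal R) R)))) :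
    ∃ _ : IsDomain (Localization.AtPrime q), IsDiscreteValuationRing (Localization.AtPrime q) := by
  haveI : IsNoetherianRing (AdicCompletion (IsLocalRing.maximalIdeal R) R) := H24Adic.isNoetherianRing_adicCompletion _
  exact isDVR_localization R (AdicCompletion (IsLocalRing.maximalIdeal R) R) p (Localization.AtPrime p) hp q hq
    (Localization.AtPrime q)

end Groth.Agent.S9439
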