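import Groth.Statements.S9440
import Groth.Agent.H1CAlg.NagataUnramified
import Groth.Agent.H4Depth.Regular
import Groth.Agent.S2072
import Mathlib.RingTheory.IntegralClosure.IntegralRestrict
import Mathlib.RingTheory.DedekindDomain.IntegralClosure

set_option autoImplicit false
universe u
open CAlg

namespace Groth.Agent.S9440

section
variable {R : Type u} [CommRing R] [IsLocalRing R] [IsNoetherianRing R]

theorem isN2_quotient (h : ∀ (S : Type u) [CommRing S] [IsDomain S] [IsLocalRing S] [Algebra R S]
      [IsLocalHom (algebraMap R S)] [Module.Finite R S],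
      IsReduced (AdicCompletion (IsLocalRing.maximalIdeal S) S))
    (p : Ideal R) [p.IsPrime] : CAlg.IsN2 (R ⧸ p) := by
  classical
  intro L _ _ _ _ hfin
  haveI : IsLocalRing (R ⧸ p) := IsLocalRing.of_surjective' _ Ideal.Quotient.mk_surjective
  let D := R ⧸ p
  let K := FractionRing D
  haveI : FiniteDimensional K L := hfin
  by_cases hD : IsField D
  · -- the integral closure is a submodule of a finite module
    haveI : Module.Finite D K := Module.Finite.of_surjective (Algebra.linearMap D K)
      (IsField.localization_map_bijective (M := nonZeroDivisors D) (Rₘ := K) (fun h => by simpa using nonZeroDivisors.ne_zero h) hD).2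
    haveI : Module.Finite D L := Module.Finite.trans K L
    exact Module.Finite.of_injective (integralClosure D L).val.toLinearMap Subtype.val_injective
  · have hm : IsLocalRing.maximalIdeal D ≠ ⊥ := fun e => hD (IsLocalRing.isField_iff_maximalIdeal_eq.mpr e)
    obtain ⟨t, htm, ht0⟩ := Submodule.exists_mem_ne_zero_of_ne_bot hm
    have hinj : Function.Injective (algebraMap D L) := by
      rw [IsScalarTower.algebraMap_eq D K L]
      exact (algebraMap K L).injective.comp (IsFractionRing.injective D K)
    let b := Module.finBasis K L
    obtain ⟨y, hy0, hy⟩ := exists_integral_multiples D K (L := L) (Finset.univ.image b)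
    let S0 : Subalgebra D L := Algebra.adjoin D ↑((Finset.univ.image b).image fun z => y • z)
    haveI : Module.Finite D S0 := by
      refine Module.Finite.iff_fg.mpr (fg_adjoin_of_finite (Finset.finite_toSet _) fun z hz => ?_)
      obtain ⟨w, hw, rfl⟩ := Finset.mem_image.mp hz
      exact hy w hw
    let N : Submodule D L := IsLocalRing.maximalIdeal D • S0.toSubmodule
    have hNS : N ≤ S0.toSubmodule := Submodule.smul_le.mpr fun a _ z hz => S0.smul_mem hz a
    have hN : ∀ u ∈ N, ∀ v ∈ S0, u * v ∈ N := by
      intro u hu v hv
      refine Submodule.smul_induction_on (p := fun u => u * v ∈ N) hu (fun a ha z hz => ?_) fun x w hx hw => ?_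
      · rw [smul_mul_assoc]
        exact Submodule.smul_mem_smul ha (S0.mul_mem hz hv)
      · rw [add_mul]; exact add_mem hx hw
    let M : Submodule D L := LinearMap.range (Algebra.linearMap D L) ⊔ N
    let S' : Subalgebra D L := M.toSubalgebra
      (Submodule.mem_sup_left ⟨1, (algebraMap D L).map_one⟩) (by
        intro u v hu hv
        obtain ⟨_, ⟨a, rfl⟩, n, hn, rfl⟩ := Submodule.mem_sup.mp hu
        obtain ⟨_, ⟨c, rfl⟩, k, hk, rfl⟩ := Submodule.mem_sup.mp hv
        rw [add_mul, mul_add, Algebra.linearMap_apply, Algebra.linearMap_apply, add_assoc, ← map_mul]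
        refine Submodule.add_mem_sup ⟨a * c, rfl⟩ (add_mem ?_ ?_)
        · rw [← Algebra.smul_def]; exact N.smul_mem _ hk
        · exact hN n hn _ (add_mem (S0.algebraMap_mem c) (hNS hk)))
    have hS'0 : S' ≤ S0 := by
      intro u hu
      obtain ⟨_, ⟨a, rfl⟩, n, hn, rfl⟩ := Submodule.mem_sup.mp (show u ∈ M from hu)
      exact add_mem (S0.algebraMap_mem a) (hNS hn)
    haveI : Module.Finite D S' := by
      haveI : IsNoetherian D S0 := isNoetherian_of_isNoetherianRing_of_finite D S0
      exact Module.Finite.of_injective (Subalgebra.inclusion hS'0).toLinearMap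
        (Subalgebra.inclusion_injective hS'0)
    let Nideal : Ideal S' :=
      { carrier := {u | (u : L) ∈ N}
        add_mem' := fun {a b} ha hb => N.add_mem ha hb
        zero_mem' := N.zero_mem
        smul_mem' := fun a u hu => by
          show (a : L) * (u : L) ∈ N
          rw [mul_comm]
          exact hN _ hu _ (hS'0 a.2) }
    haveI : Algebra.IsIntegral D S' := Algebra.IsIntegral.of_finite D S'
    have hjac : ∀ z ∈ Nideal, IsUnit (1 + z) := by
      -- every maximal ideal contains the generators of `N`
      have hle : Nideal ≤ (⊥ : Ideal S').jacobson := by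
        intro z hz
        rw [Ideal.jacobson, Ideal.mem_sInf]
        rintro (Q : Ideal S') ⟨-, hQ⟩
        haveI : Q.IsMaximal := hQ
        have hc : Q.comap (algebraMap D S') = IsLocalRing.maximalIdeal D := by
          haveI := Ideal.isMaximal_comap_of_isIntegral_of_isMaximal (R := D) Q
          exact IsLocalRing.eq_maximalIdeal inferInstance
        have hQp : Q.IsPrime := hQ.isPrime
        refine hQp.mem_of_pow_mem 2 ?_
        -- `z * z` lies in `m S'`
        have : ∀ u ∈ N, ∀ w : S', (w : L) ∈ N → ∃ v ∈ Q, (v : L) = u * w := by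
          intro u hu w hw
          refine Submodule.smul_induction_on (p := fun u => ∃ v ∈ Q, (v : L) = u * w) hu (fun a ha z' hz' => ?_) fun x x' hx hx' => ?_
          · have hzw : z' * (w : L) ∈ M := Submodule.mem_sup_right (by rw [mul_comm]; exact hN _ hw _ hz')
            refine ⟨algebraMap D S' a * ⟨z' * w, hzw⟩, Q.mul_mem_right _ ?_, ?_⟩
            · have : a ∈ Q.comap (algebraMap D S') := hc ▸ ha
              exact this
            · show algebraMap D L a * (z' * w) = _
              rw [Algebra.smul_def, mul_assoc]
          · obtain ⟨v, hv, hv'⟩ := hx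
            obtain ⟨v', hv1, hv1'⟩ := hx'
            exact ⟨v + v', add_mem hv hv1, by push_cast; rw [hv', hv1', add_mul]⟩
        obtain ⟨v, hv, hv'⟩ := this z hz z hz
        rwa [show z ^ 2 = v by rw [sq]; exact Subtype.ext hv'.symm]
      intro z hz
      have := Ideal.mem_jacobson_bot.mp (hle hz) 1
      rwa [mul_one, add_comm] at this
    have hloc : ∀ s : S', ¬IsUnit s → s ∈ Nideal := by
      intro s hs
      obtain ⟨_, ⟨a, rfl⟩, n, hn, hsn⟩ := Submodule.mem_sup.mp (show (s : L) ∈ M from s.2)
      by_cases ha : a ∈ IsLocalRing.maximalIdeal D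
      · show (s : L) ∈ N
        rw [← hsn]
        refine add_mem ?_ hn
        show algebraMap D L a ∈ N
        rw [Algebra.algebraMap_eq_smul_one]
        exact Submodule.smul_mem_smul ha S0.one_mem
      · exfalso; apply hs
        obtain ⟨w, hw⟩ := (IsLocalRing.notMem_maximalIdeal.mp ha)
        let z : S' := algebraMap D S' ↑w⁻¹ * ⟨n, Submodule.mem_sup_right hn⟩
        have hz : z ∈ Nideal := Nideal.mul_mem_left _ hn
        have : s = algebraMap D S' a * (1 + z) := Subtype.ext (by
          show (s : L) = algebraMap D L a * (1 + algebraMap D L ↑w⁻¹ * n)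
          rw [← hsn, mul_add, mul_one, ← mul_assoc, ← map_mul, ← hw, Units.mul_inv, map_one, one_mul]
          rfl)
        rw [this]
        exact ((hw ▸ w.isUnit : IsUnit a).map _).mul (hjac z hz)
    have hne : (1 : S') ∉ Nideal := fun h1 => by
      have := hjac _ (Nideal.neg_mem h1)
      simp at this
    haveI : IsLocalRing S' := IsLocalRing.of_nonunits_add (fun a b ha hb hab => by
      have hu : ∀ u ∈ Nideal, ¬IsUnit u := fun u hu h' =>
        hne (Nideal.eq_top_of_isUnit_mem hu h' ▸ trivial)
      exact hu _ (add_mem (hloc a ha) (hloc b hb)) hab)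
    letI : Algebra R S' := Algebra.compHom S' (Ideal.Quotient.mk p)
    haveI : IsScalarTower R D S' := IsScalarTower.of_algebraMap_eq fun _ => rfl
    haveI : Module.Finite R S' := Module.Finite.trans D S'
    haveI : IsLocalHom (algebraMap R S') := ⟨fun r hr => by
      by_contra hr'
      have hrm : Ideal.Quotient.mk p r ∈ IsLocalRing.maximalIdeal D := by
        rw [IsLocalRing.mem_maximalIdeal, mem_nonunits_iff]
        intro hu
        obtain ⟨v, hv⟩ := hu.exists_right_inv
        obtain ⟨v, rfl⟩ := Ideal.Quotient.mk_surjective v
        rw [← map_mul, ← map_one (Ideal.Quotient.mk p), Ideal.Quotient.eq] at hv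
        have h1 : r * v - 1 ∈ IsLocalRing.maximalIdeal R :=
          IsLocalRing.le_maximalIdeal (inferInstance : p.IsPrime).ne_top hv
        have h2 := sub_mem (Ideal.mul_mem_right v _ ((IsLocalRing.mem_maximalIdeal r).mpr hr')) h1
        rw [sub_sub_cancel] at h2
        exact (IsLocalRing.maximalIdeal.isMaximal R).ne_top ((Ideal.eq_top_iff_one _).mpr h2)
      have hmem : algebraMap R S' r ∈ Nideal := by
        show algebraMap D L (Ideal.Quotient.mk p r) ∈ N
        rw [Algebra.algebraMap_eq_smul_one]
        exact Submodule.smul_mem_smul hrm S0.one_mem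
      exact hne (Nideal.eq_top_of_isUnit_mem hmem hr ▸ trivial)⟩
    haveI : IsNoetherianRing S' := IsNoetherianRing.of_finite D S'
    haveI := h S'
    have hN1 : Module.Finite S' (integralClosure S' (FractionRing S')) := S2072.result
    haveI : IsFractionRing S' L := by
      refine IsFractionRing.of_field S' L fun x => ?_
      obtain ⟨⟨s, hs⟩, hsc⟩ := IsLocalization.exist_integer_multiples (nonZeroDivisors D) Finset.univ (fun i => b.repr x i)
      choose a ha using fun i => hsc i (Finset.mem_univ i)
      have hmem : (t * s * y) • x ∈ N := by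
        rw [mul_smul, mul_smul]
        refine Submodule.smul_mem_smul htm ?_
        have hx : s • (y • x) = ∑ i, a i • (y • b i) := by
          conv_lhs => rw [← b.sum_repr x, Finset.smul_sum, Finset.smul_sum]
          refine Finset.sum_congr rfl fun i _ => ?_
          rw [smul_comm s y, smul_comm (a i) y]
          congr 1
          rw [← smul_assoc, ← ha i, algebraMap_smul]
        rw [hx]
        exact S0.toSubmodule.sum_mem fun i _ => S0.smul_mem (Algebra.subset_adjoin (Finset.mem_coe.mpr
          (Finset.mem_image_of_mem _ (Finset.mem_image_of_mem _ (Finset.mem_univ i))))) _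
      refine ⟨⟨(t * s * y) • x, Submodule.mem_sup_right hmem⟩, algebraMap D S' (t * s * y), ?_⟩
      have hne' : algebraMap D L (t * s * y) ≠ 0 :=
        (map_ne_zero_iff _ hinj).mpr (mul_ne_zero (mul_ne_zero ht0 (nonZeroDivisors.ne_zero hs)) hy0)
      show x = ((t * s * y) • x) / algebraMap D L (t * s * y)
      rw [Algebra.smul_def, mul_div_cancel_left₀ _ hne']
    haveI : Module.Finite S' (integralClosure S' L) :=
      Module.Finite.equiv (AlgEquiv.mapIntegralClosure (FractionRing.algEquiv S' L)).toLinearEquiv
    haveI : Module.Finite D (integralClosure S' L) := Module.Finite.trans S' _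
    let j : integralClosure D L →ₗ[D] integralClosure S' L :=
      { toFun := fun z => ⟨z.1, z.2.tower_top⟩
        map_add' := fun _ _ => rfl
        map_smul' := fun _ _ => Subtype.ext rfl }
    haveI : IsNoetherian D (integralClosure S' L) := isNoetherian_of_isNoetherianRing_of_finite D _
    exact Module.Finite.of_injective j fun a c hac => Subtype.ext (congrArg Subtype.val hac :)

end

/-- (1) ⇔ (3): a Noetherian local ring R is a Nagata ring if and only if for every finite local
homomorphism R → S of local rings with S a domain, the completion of S is reduced. -/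
theorem result (R : Type u) [CommRing R]
    [IsLocalRing R] [IsNoetherianRing R] :
    CAlg.IsNagata R ↔ ∀ (S : Type u) [CommRing S] [IsDomain S] [IsLocalRing S] [Algebra R S]
      [IsLocalHom (algebraMap R S)] [Module.Finite R S],
      IsReduced (AdicCompletion (IsLocalRing.maximalIdeal S) S) := by
  refine ⟨fun hR S _ _ _ _ _ _ => ?_, fun h => ⟨inferInstance, fun p _ => isN2_quotient h p⟩⟩
  haveI : IsNoetherianRing S := IsNoetherianRing.of_finite R S
  obtain ⟨d, hd⟩ := H4Depth.exists_nat_ringKrullDim_eq (R := S)
  exact H1CAlg.isReduced_adicCompletion_of_isNagata (d + 1) S (H1CAlg.isNagata_of_finite hR)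
    (by rw [hd]; exact_mod_cast Nat.lt_succ_self d)

end Groth.Agent.S9440
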