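import Groth.Statements.S9441
import Groth.Agent.H9CI.RelGCIProps
import Groth.Agent.H9Smooth.Standard
-- import your own Groth.Agent.* helpers here

set_option autoImplicit false
universe u
open Synt

namespace Groth.Agent.S9441

/-- For a relative global complete intersection S = R[x_1, …, x_n]/(f_1, …, f_c) and a prime q of S, the
map R → S is smooth at q if and only if some c × c minor of the Jacobian matrix (∂f_j/∂x_i), taken
on c distinct variables, has image outside q. -/
theorem result (R : Type u) [CommRing R] (n c : ℕ)
    (F : Fin c → MvPolynomial (Fin n) R) (hF : Synt.IsRelGCI R n c F)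
    (q : Ideal (Synt.RelGCIRing R n c F)) [q.IsPrime] :
    Algebra.IsSmoothAt R q ↔ ∃ I : Fin c ↪ Fin n,
      Ideal.Quotient.mk (Ideal.span (Set.range F))
        (Matrix.det (Matrix.of fun j i => MvPolynomial.pderiv (I i) (F j))) ∉ q := by
  classical
  let A := Synt.RelGCIRing R n c F
  let φ : MvPolynomial (Fin n) R →ₐ[R] A := Ideal.Quotient.mkₐ R _
  have hker : RingHom.ker φ = Ideal.span (Set.range F) := Ideal.mk_ker
  have hφ : Function.Surjective φ := Ideal.Quotient.mk_surjective
  constructor
  · intro hsm
    obtain ⟨c', rows, cols, r, hr, hdet, hrK⟩ := H9Smooth.exists_minor_of_isSmoothAt F φ hφ hker q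
    have hsurj : Function.Surjective rows := by
      intro l
      by_contra hl
      push Not at hl
      have hl' : F l ∈ RingHom.ker φ := by rw [hker]; exact Ideal.subset_span ⟨l, rfl⟩
      obtain ⟨b, hb⟩ := Ideal.mem_span_range_iff_exists_fun.mp (hrK (F l) hl')
      let v : Fin c → MvPolynomial (Fin n) R := Pi.single l r - ∑ a, Pi.single (rows a) (b a)
      have hv : ∑ i, v i * F i = 0 := by
        simp only [v, Pi.sub_apply, Finset.sum_apply, sub_mul, Finset.sum_mul, Finset.sum_sub_distrib, Pi.single_apply,
          ite_mul, zero_mul, Finset.sum_ite_eq', Finset.mem_univ, if_true]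
        rw [Finset.sum_comm]
        simp only [Finset.sum_ite_eq', Finset.mem_univ, if_true]
        rw [← hb]
        exact sub_self _
      have h0 := H9CI.mem_span_of_sum_mem_sq F hF v (hv ▸ zero_mem _) l
      have hvl : v l = r := by
        simp only [v, Pi.sub_apply, Finset.sum_apply, Pi.single_eq_same]
        rw [Finset.sum_eq_zero (fun a _ => Pi.single_eq_of_ne (hl a).symm _), sub_zero]
      rw [hvl, ← hker] at h0
      exact hr ((show φ r = 0 from h0) ▸ q.zero_mem)
    let σ : Fin c' ≃ Fin c := Equiv.ofBijective rows ⟨rows.injective, hsurj⟩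
    refine ⟨σ.symm.toEmbedding.trans cols, fun h => hdet ?_⟩
    have : (Matrix.of fun a b => MvPolynomial.pderiv (cols b) (F (rows a))) =
        (Matrix.of fun j i => MvPolynomial.pderiv ((σ.symm.toEmbedding.trans cols) i) (F j)).submatrix σ σ := by
      ext a b : 2
      simp [σ]
    rw [this, Matrix.det_submatrix_equiv_self]
    exact h
  · rintro ⟨I, hI⟩
    have hst : Smoothing.IsElementaryStandard R A (φ (Smoothing.jacobianMinor F id I)) :=
      H9Smooth.isElementaryStandard_of_minor F φ hφ hker (Function.Embedding.refl _) I _ ⟨1, (one_mul _).symm⟩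
        fun a₁ _ j hj => absurd ⟨j, rfl⟩ hj
    exact H9Smooth.basicOpen_subset_smoothLocus_of_isElementaryStandard hst (show (⟨q, inferInstance⟩ : PrimeSpectrum A) ∈ _ from hI)

end Groth.Agent.S9441
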