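import Groth.Statements.S9444
import Groth.Agent.H05EGA4.CohenStructure

set_option autoImplicit false
universe u
open CAlg

namespace Groth.Agent.S9444

open IsLocalRing in
/-- A complete local ring containing a field has a coefficient field. -/
theorem exists_section (R : Type u) [CommRing R] [IsLocalRing R] [IsAdicComplete (maximalIdeal R) R]
    (k₀ : Type u) [Field k₀] [Algebra k₀ R] :
    ∃ s : ResidueField R →+* R, (residue R).comp s = RingHom.id _ := by
  obtain h0 | ⟨p, hp, hpk⟩ := CharP.exists' (ResidueField R)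
  · exact H05EGA4.exists_coefficientField_of_charZero R
  · haveI := hpk
    haveI : CharP k₀ p :=
      RingHom.charP ((residue R).comp (algebraMap k₀ R)) ((residue R).comp (algebraMap k₀ R)).injective p
    haveI : CharP R p := charP_of_injective_ringHom (algebraMap k₀ R).injective p
    letI g : ULift.{u} (ZMod p) →+* R :=
      (ZMod.castHom dvd_rfl R).comp ULift.ringEquiv.toRingHom
    letI := g.toAlgebra
    haveI : Finite (ULift.{u} (ZMod p)) := Finite.of_equiv _ Equiv.ulift.symm
    haveI : PerfectField (ULift.{u} (ZMod p)) := PerfectField.ofFinite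
    haveI := H05EGA4.formallySmooth_of_perfectField (ULift.{u} (ZMod p)) (ResidueField R)
    obtain ⟨σ, hσ⟩ := H05EGA4.exists_coefficientField (k := ULift.{u} (ZMod p)) (A := R)
    exact ⟨σ.toRingHom, RingHom.ext hσ⟩

/-- A complete regular local ring containing a field (that is, containing the prime field F_p or ℚ) is
isomorphic to a power series ring in finitely many variables over its residue field (existence of an
isomorphism only). -/
theorem result (R : Type u)
    [CommRing R] [IsRegularLocalRing R] [IsAdicComplete (IsLocalRing.maximalIdeal R) R]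
    (k₀ : Type u) [Field k₀] [Algebra k₀ R] :
    ∃ d : ℕ, Nonempty (R ≃+* MvPowerSeries (Fin d) (IsLocalRing.ResidueField R)) := by
  open IsLocalRing in
  obtain ⟨s, hs⟩ := exists_section R k₀
  let K := IsLocalRing.ResidueField R
  letI := s.toAlgebra
  obtain ⟨b, hb⟩ : ∃ b : Fin (IsLocalRing.maximalIdeal R).spanFinrank → R,
      Ideal.span (Set.range b) = IsLocalRing.maximalIdeal R := by
    obtain ⟨t, ht1, ht2⟩ := Submodule.FG.exists_span_finset_card_eq_spanFinrank
      (IsLocalRing.maximalIdeal R).fg_of_isNoetherianRing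
    refine ⟨fun i => ((t.equivFinOfCardEq ht1).symm i : R), ?_⟩
    rw [← Ideal.submodule_span_eq]
    convert ht2
    ext x
    refine ⟨?_, fun hx => ⟨t.equivFinOfCardEq ht1 ⟨x, hx⟩, by simp⟩⟩
    rintro ⟨i, rfl⟩
    exact ((t.equivFinOfCardEq ht1).symm i).2
  have hbm : ∀ i, b i ∈ IsLocalRing.maximalIdeal R := fun i => hb ▸ Ideal.subset_span ⟨i, rfl⟩
  obtain ⟨ψ, hψ⟩ := H02CA.PS.exists_algHom (R := K)
    (σ := Fin (IsLocalRing.maximalIdeal R).spanFinrank) (IsLocalRing.maximalIdeal R) b hbm
  have hv : ∀ a, ∃ l : K, algebraMap K R l - a ∈ IsLocalRing.maximalIdeal R := fun a =>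
    ⟨IsLocalRing.residue R a, Ideal.Quotient.eq.mp (DFunLike.congr_fun hs (IsLocalRing.residue R a))⟩
  haveI : IsAdicComplete (Ideal.span (Set.range MvPowerSeries.X) :
      Ideal (MvPowerSeries (Fin (IsLocalRing.maximalIdeal R).spanFinrank) K))
      (MvPowerSeries (Fin (IsLocalRing.maximalIdeal R).spanFinrank) K) := inferInstance
  have hsurj : Function.Surjective ψ.toRingHom := by
    refine H02CA.PS.surjective_of_approx ψ.toRingHom (Ideal.span (Set.range MvPowerSeries.X))
      (IsLocalRing.maximalIdeal R) ?_ ?_ ?_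
    · intro x hx
      refine (Ideal.map_le_iff_le_comap (f := ψ.toRingHom) (K := IsLocalRing.maximalIdeal R).mp ?_) hx
      rw [Ideal.map_span, Ideal.span_le]
      rintro _ ⟨_, ⟨i, rfl⟩, rfl⟩
      show ψ (MvPowerSeries.X i) ∈ _
      rw [hψ]; exact hbm i
    · intro a
      obtain ⟨l, hl⟩ := hv a
      exact ⟨algebraMap K _ l, by show ψ (algebraMap K _ l) - a ∈ _; rwa [AlgHom.commutes]⟩
    · intro a ha
      rw [← hb, Ideal.mem_span_range_iff_exists_fun] at ha
      obtain ⟨r, hr⟩ := ha
      choose l hl using fun i => hv (r i)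
      refine ⟨∑ i, algebraMap K _ (l i) * MvPowerSeries.X i,
        Ideal.sum_mem _ fun i _ => Ideal.mul_mem_left _ _ (Ideal.subset_span ⟨i, rfl⟩), ?_⟩
      show ψ _ - a ∈ _
      rw [map_sum, ← hr, ← Finset.sum_sub_distrib, pow_two]
      refine Ideal.sum_mem _ fun i _ => ?_
      rw [map_mul, AlgHom.commutes, hψ, ← sub_mul]
      exact Ideal.mul_mem_mul (hl i) (hbm i)
  refine ⟨(IsLocalRing.maximalIdeal R).spanFinrank, ⟨(RingEquiv.ofBijective ψ.toRingHom
    ⟨?_, hsurj⟩).symm⟩⟩
  rw [injective_iff_map_eq_zero]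
  intro x hx
  by_contra h0
  have h1 := ringKrullDim_succ_le_of_surjective ψ.toRingHom hsurj
    (mem_nonZeroDivisors_of_ne_zero h0) hx
  rw [H02CA.PS.ringKrullDim_eq, ← IsRegularLocalRing.spanFinrank_maximalIdeal] at h1
  generalize (IsLocalRing.maximalIdeal R).spanFinrank = d at h1
  have h2 : ((d + 1 : ℕ) : WithBot ℕ∞) ≤ ((d : ℕ) : WithBot ℕ∞) := by exact_mod_cast h1
  have h3 : d + 1 ≤ d := by exact_mod_cast h2
  omega

end Groth.Agent.S9444
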