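import Groth.Statements.S9446
import Mathlib.RingTheory.Smooth.IntegralClosure
import Mathlib.LinearAlgebra.TensorProduct.RightExactness
import Mathlib.LinearAlgebra.TensorProduct.Finiteness
import Mathlib.RingTheory.FinitePresentation
import Mathlib.Algebra.Polynomial.Lifts
import Mathlib.Algebra.MvPolynomial.Rename

set_option autoImplicit false
universe u
open CAlg

namespace Groth.Agent.S9446

section
variable {R : Type u} [CommRing R] {S : Type u} [CommRing S] [Algebra R S]
open MvPolynomial TensorProduct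

/-- An element killed in `S ⊗ M` is killed in some smooth algebra mapping to `S`. -/
lemma exists_smooth_kill (hS : Smoothing.IndSmooth R S) {M : Type u} [AddCommGroup M] [Module R M]
    {A : Type u} [CommRing A] [Algebra R A] [Algebra.FinitePresentation R A] (f : A →ₐ[R] S)
    (z : A ⊗[R] M) (hz : f.toLinearMap.rTensor M z = 0) :
    ∃ (B : Type u) (_ : CommRing B) (_ : Algebra R B), Algebra.Smooth R B ∧
      ∃ (g : A →ₐ[R] B) (h : B →ₐ[R] S), h.comp g = f ∧ g.toLinearMap.rTensor M z = 0 := by
  classical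
  letI : Algebra A S := f.toRingHom.toAlgebra
  haveI : IsScalarTower R A S := IsScalarTower.of_algebraMap_eq fun r => (f.commutes r).symm
  let φ : MvPolynomial S A →ₐ[R] S := (MvPolynomial.aeval (id : S → S)).restrictScalars R
  let ι : A →ₐ[R] MvPolynomial S A := IsScalarTower.toAlgHom R A (MvPolynomial S A)
  have hφι : φ.comp ι = f := AlgHom.ext fun a => by
    show (MvPolynomial.aeval (id : S → S)) (algebraMap A (MvPolynomial S A) a) = f a
    rw [AlgHom.commutes]; rfl
  have hφ : Function.Surjective φ.toLinearMap := fun s => ⟨X s, by simp [φ]⟩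
  have hmem : ι.toLinearMap.rTensor M z ∈
      LinearMap.range ((LinearMap.ker φ.toLinearMap).subtype.rTensor M) := by
    rw [← (rTensor_exact M φ.toLinearMap.exact_subtype_ker_map hφ).linearMap_ker_eq, LinearMap.mem_ker,
      ← LinearMap.rTensor_comp_apply, ← AlgHom.comp_toLinearMap, hφι, hz]
  obtain ⟨w, hw⟩ := hmem
  obtain ⟨F, rfl⟩ := TensorProduct.exists_finset w
  let t : Finset S := F.biUnion fun i => (i.1 : MvPolynomial S A).vars
  let κ : MvPolynomial S A →ₐ[R] MvPolynomial ↥t A :=
    (MvPolynomial.killCompl (f := ((↑) : ↥t → S)) Subtype.val_injective).restrictScalars R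
  let ρ : MvPolynomial ↥t A →ₐ[R] MvPolynomial S A :=
    (MvPolynomial.rename ((↑) : ↥t → S)).restrictScalars R
  have hρκ : ∀ i ∈ F, ρ (κ i.1) = i.1 := by
    intro i hi
    obtain ⟨q, hq⟩ := MvPolynomial.exists_rename_eq_of_vars_subset_range (i.1 : MvPolynomial S A)
      ((↑) : ↥t → S) Subtype.val_injective (by
        intro v hv
        exact ⟨⟨v, Finset.mem_biUnion.mpr ⟨i, hi, hv⟩⟩, rfl⟩)
    show MvPolynomial.rename _ (MvPolynomial.killCompl _ (i.1 : MvPolynomial S A)) = _
    rw [← hq, MvPolynomial.killCompl_rename_app]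
  let ι' : A →ₐ[R] MvPolynomial ↥t A := IsScalarTower.toAlgHom R A (MvPolynomial ↥t A)
  have hκι : κ.comp ι = ι' := AlgHom.ext fun a => by
    show MvPolynomial.killCompl _ (algebraMap A (MvPolynomial S A) a) = _
    rw [AlgHom.commutes]; rfl
  let I : Ideal (MvPolynomial ↥t A) := Ideal.span ↑(F.image fun i => κ i.1)
  haveI : Algebra.FinitePresentation R (MvPolynomial ↥t A) :=
    Algebra.FinitePresentation.trans R A (MvPolynomial ↥t A)
  haveI : Algebra.FinitePresentation R (MvPolynomial ↥t A ⧸ I) :=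
    Algebra.FinitePresentation.quotient (R := R) ⟨_, rfl⟩
  have hI : ∀ x ∈ I, (φ.comp ρ) x = 0 := by
    intro x hx
    refine (Ideal.span_le (I := RingHom.ker (φ.comp ρ))).mpr ?_ hx
    intro y hy
    obtain ⟨i, hi, rfl⟩ := Finset.mem_image.mp hy
    show φ (ρ (κ i.1)) = 0
    rw [hρκ i hi]
    exact i.1.2
  obtain ⟨B, _, _, hB, g, h, hgh⟩ :=
    hS (MvPolynomial ↥t A ⧸ I) inferInstance (Ideal.Quotient.liftₐ I (φ.comp ρ) hI)
  refine ⟨B, _, _, hB, g.comp ((Ideal.Quotient.mkₐ R I).comp ι'), h, ?_, ?_⟩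
  · rw [← AlgHom.comp_assoc, hgh]
    refine AlgHom.ext fun a => ?_
    show φ (ρ (algebraMap A (MvPolynomial ↥t A) a)) = f a
    have : ρ (algebraMap A (MvPolynomial ↥t A) a) = ι a :=
      (MvPolynomial.rename ((↑) : ↥t → S)).commutes a
    rw [this]
    exact AlgHom.congr_fun hφι a
  · rw [← hκι, AlgHom.comp_toLinearMap, AlgHom.comp_toLinearMap, AlgHom.comp_toLinearMap,
      LinearMap.rTensor_comp_apply, LinearMap.rTensor_comp_apply, LinearMap.rTensor_comp_apply, ← hw]
    simp only [map_sum, LinearMap.rTensor_tmul]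
    refine Finset.sum_eq_zero fun i hi => ?_
    have : Ideal.Quotient.mk I (κ i.1) = 0 :=
      Ideal.Quotient.eq_zero_iff_mem.mpr (Ideal.subset_span (Finset.mem_coe.mpr (Finset.mem_image_of_mem _ hi)))
    show g (Ideal.Quotient.mk I (κ i.1)) ⊗ₜ[R] i.2 = 0
    rw [this, map_zero, zero_tmul]

/-- Finitely many elements of `S ⊗ M` lift to a polynomial algebra. -/
lemma exists_lift {M : Type u} [AddCommGroup M] [Module R M] (y : S ⊗[R] M) :
    ∃ t : Finset S, ∀ t' : Finset S, t ⊆ t' → ∃ Y : MvPolynomial ↥t' R ⊗[R] M,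
      (MvPolynomial.aeval (R := R) ((↑) : ↥t' → S)).toLinearMap.rTensor M Y = y := by
  classical
  induction y with
  | zero => exact ⟨∅, fun t' _ => ⟨0, map_zero _⟩⟩
  | tmul s m => exact ⟨{s}, fun t' h => ⟨X ⟨s, Finset.singleton_subset_iff.mp h⟩ ⊗ₜ m, by simp⟩⟩
  | add a b ha hb =>
    obtain ⟨t, ht⟩ := ha
    obtain ⟨u, hu⟩ := hb
    refine ⟨t ∪ u, fun t' h => ?_⟩
    obtain ⟨Y, hY⟩ := ht t' (Finset.union_subset_left h)
    obtain ⟨Y', hY'⟩ := hu t' (Finset.union_subset_right h)
    exact ⟨Y + Y', by rw [map_add, hY, hY']⟩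

lemma natural {B B₁ : Type u} [CommRing B] [Algebra R B] [CommRing B₁] [Algebra R B₁] (h : B₁ →ₐ[R] S)
    (w : B₁ ⊗[R] integralClosure R B) :
    ((TensorProduct.toIntegralClosure R S B (h.toLinearMap.rTensor (integralClosure R B) w) :
        integralClosure S (S ⊗[R] B)) : S ⊗[R] B) =
      h.toLinearMap.rTensor B ((TensorProduct.toIntegralClosure R B₁ B w :
        integralClosure B₁ (B₁ ⊗[R] B)) : B₁ ⊗[R] B) := by
  induction w with
  | zero => simp
  | tmul x y => rfl
  | add x y hx hy => simp only [map_add, AddMemClass.coe_add, hx, hy]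

theorem main (hS : Smoothing.IndSmooth R S) (B : Type u) [CommRing B] [Algebra R B] :
    Function.Bijective (TensorProduct.toIntegralClosure R S B) := by
  classical
  refine ⟨?_, ?_⟩
  · rw [injective_iff_map_eq_zero]
    intro y hy
    obtain ⟨t, ht⟩ := exists_lift (R := R) y
    obtain ⟨Y, rfl⟩ := ht t le_rfl
    have hy' := congrArg Subtype.val hy
    rw [natural (MvPolynomial.aeval (R := R) ((↑) : ↥t → S)) Y] at hy'
    obtain ⟨B₁, _, _, _, g, h, hgh, h0⟩ := exists_smooth_kill hS _ _ hy'
    have h1 : TensorProduct.toIntegralClosure R B₁ B (g.toLinearMap.rTensor (integralClosure R B) Y) = 0 := by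
      refine Subtype.ext ?_
      rw [natural g Y, h0]; rfl
    rw [← map_zero (TensorProduct.toIntegralClosure R B₁ B)] at h1
    rw [← hgh, AlgHom.comp_toLinearMap, LinearMap.rTensor_comp_apply,
      (TensorProduct.toIntegralClosure_bijective_of_smooth (R := R) (S := B₁) (B := B)).1 h1, map_zero]
  · rintro ⟨x, p, hp, hpx⟩
    obtain ⟨t₀, ht₀⟩ := exists_lift (R := R) x
    let t := t₀ ∪ p.coeffs
    obtain ⟨Z, hZ⟩ := ht₀ t Finset.subset_union_left
    let f : MvPolynomial ↥t R →ₐ[R] S := MvPolynomial.aeval (R := R) ((↑) : ↥t → S)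
    have hl : p ∈ Polynomial.lifts f.toRingHom := by
      refine (Polynomial.lifts_iff_coeff_lifts p).mpr fun n => ?_
      by_cases hn : p.coeff n = 0
      · exact ⟨0, by simp [hn]⟩
      · exact ⟨MvPolynomial.X ⟨p.coeff n, Finset.mem_union_right _ (Polynomial.coeff_mem_coeffs hn)⟩,
          by simp [f]⟩
    obtain ⟨q, hq, -, hqm⟩ := Polynomial.lifts_and_natDegree_eq_and_monic hl hp
    let F := Algebra.TensorProduct.map f (AlgHom.id R B)
    have hF : ∀ v, F v = f.toLinearMap.rTensor B v := fun v => rfl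
    have hcomm : F.toRingHom.comp (algebraMap (MvPolynomial ↥t R) (MvPolynomial ↥t R ⊗[R] B)) =
        (algebraMap S (S ⊗[R] B)).comp f.toRingHom := RingHom.ext fun a => by
      show F (a ⊗ₜ 1) = f a ⊗ₜ 1
      simp [F]
    have h0 : f.toLinearMap.rTensor B (Polynomial.aeval Z q) = 0 := by
      rw [← hF, Polynomial.aeval_def]
      show F.toRingHom _ = 0
      rw [Polynomial.hom_eval₂, hcomm, ← Polynomial.eval₂_map, hq]
      rw [show F.toRingHom Z = x from hZ]
      exact hpx
    obtain ⟨B₁, _, _, _, g, h, hgh, h0'⟩ := exists_smooth_kill hS f _ h0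
    let G := Algebra.TensorProduct.map g (AlgHom.id R B)
    have hG : ∀ v, G v = g.toLinearMap.rTensor B v := fun v => rfl
    have hint : IsIntegral B₁ (G Z) := by
      refine ⟨q.map g.toRingHom, hqm.map _, ?_⟩
      rw [Polynomial.eval₂_map]
      have hc : (algebraMap B₁ (B₁ ⊗[R] B)).comp g.toRingHom =
          G.toRingHom.comp (algebraMap (MvPolynomial ↥t R) (MvPolynomial ↥t R ⊗[R] B)) :=
        RingHom.ext fun a => by
          show g a ⊗ₜ 1 = G (a ⊗ₜ 1)
          simp [G]
      rw [hc]
      show Polynomial.eval₂ _ (G.toRingHom Z) q = 0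
      rw [← Polynomial.hom_eval₂]
      exact (hG _).trans h0'
    obtain ⟨w, hw⟩ := (TensorProduct.toIntegralClosure_bijective_of_smooth (R := R) (S := B₁) (B := B)).2 ⟨G Z, hint⟩
    refine ⟨h.toLinearMap.rTensor _ w, Subtype.ext ?_⟩
    rw [natural h w, hw]
    show h.toLinearMap.rTensor B (g.toLinearMap.rTensor B Z) = x
    rw [← LinearMap.rTensor_comp_apply, ← AlgHom.comp_toLinearMap, hgh]
    exact hZ

end

/-- If S is ind-smooth over R (every R-algebra map into S from a finitely presented R-algebra factors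
through a smooth R-algebra) then for every R-algebra B the canonical map S ⊗_R A → A', from the base
change of the integral closure A of R in B to the integral closure A' of S in S ⊗_R B, is bijective. -/
theorem result (R : Type u) [CommRing R] (S : Type u)
    [CommRing S] [Algebra R S] (hS : Smoothing.IndSmooth R S) (B : Type u) [CommRing B]
    [Algebra R B] : Function.Bijective (TensorProduct.toIntegralClosure R S B) := by
  exact main hS B

end Groth.Agent.S9446
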