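import Groth.Statements.S9447
import Groth.Agent.H1CAlg.ProjDescent
import Mathlib.RingTheory.Kaehler.TensorProduct
import Mathlib.RingTheory.Extension.Cotangent.BaseChange
import Mathlib.RingTheory.Smooth.Basic

set_option autoImplicit false
universe u
open CAlg

namespace Groth.Agent.S9447

open TensorProduct in
/-- Formal smoothness descends along faithfully flat base change: for R → S arbitrary and R → R'
faithfully flat, the R-algebra S is formally smooth exactly when the R'-algebra R' ⊗_R S is formally
smooth. No finiteness hypothesis on S. -/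
theorem result (R : Type u) [CommRing R]
    (S : Type u) [CommRing S] [Algebra R S] (R' : Type u) [CommRing R'] [Algebra R R']
    [Module.FaithfullyFlat R R'] :
    Algebra.FormallySmooth R S ↔ Algebra.FormallySmooth R' (R' ⊗[R] S) := by
  refine ⟨fun _ => inferInstance, fun h => ?_⟩
  letI := Algebra.TensorProduct.rightAlgebra (R := R) (A := R') (B := S)
  haveI : Module.FaithfullyFlat S (R' ⊗[R] S) :=
    Module.FaithfullyFlat.of_linearEquiv _ _
      (Algebra.TensorProduct.commRight R S R').symm.toLinearEquiv
  haveI : Module.Projective (R' ⊗[R] S) ((R' ⊗[R] S) ⊗[S] Ω[S⁄R]) :=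
    Module.Projective.of_equiv (KaehlerDifferential.tensorKaehlerEquiv R R' S (R' ⊗[R] S)).symm
  refine ⟨H1CAlg.projective_of_baseChange S (R' ⊗[R] S) Ω[S⁄R], ?_⟩
  haveI : Subsingleton (R' ⊗[R] Algebra.H1Cotangent R S) :=
    (Algebra.tensorH1CotangentOfFlat R S R').toEquiv.subsingleton
  exact Module.FaithfullyFlat.lTensor_reflects_triviality R R' _

end Groth.Agent.S9447
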