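import Groth.Statements.S9448
import Groth.Agent.H06Unram.EtalePoly
import Groth.Agent.H12AlgSp.EtDim

set_option autoImplicit false
universe u
open Unram

namespace Groth.Agent.S9448

open CategoryTheory AlgebraicGeometry Groth.Agent

/-- For a field k and a finite type algebra A over the polynomial ring k[x_1, …, x_n] (the variables
mapping to a_1, …, a_n), the structure map is étale if and only if (a) the local rings of A at all
maximal ideals have dimension n and (b) da_1, …, da_n generate the module of differentials of A over
k. -/
theorem result (k : Type u) [Field k] (n : ℕ)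
    (A : Type u) [CommRing A] [Algebra k A] [Algebra (MvPolynomial (Fin n) k) A]
    [IsScalarTower k (MvPolynomial (Fin n) k) A] [Algebra.FiniteType (MvPolynomial (Fin n) k) A] :
    Algebra.Etale (MvPolynomial (Fin n) k) A ↔
      (∀ (m : Ideal A) [m.IsMaximal], ringKrullDim (Localization.AtPrime m) = n) ∧
        Submodule.span A (Set.range fun i : Fin n =>
          KaehlerDifferential.D k A (algebraMap (MvPolynomial (Fin n) k) A (MvPolynomial.X i))) = ⊤ := by
  let T := MvPolynomial (Fin n) k
  haveI : Algebra.FiniteType k A := Algebra.FiniteType.trans (R := k) (S := MvPolynomial (Fin n) k) inferInstance inferInstance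
  have hloc : ∀ (m : Ideal A) [m.IsMaximal],
      FlatMor.localDim (PrimeSpectrum A) ⟨m, inferInstance⟩ = ringKrullDim (Localization.AtPrime m) := by
    intro m _
    letI := Ideal.Quotient.field m
    rw [H1CAlg.localDim_spec_eq_height_add (k := k), ringKrullDim_eq_zero_of_field, add_zero,
      IsLocalization.AtPrime.ringKrullDim_eq_height m (Localization.AtPrime m)]
  haveI : Algebra.FinitePresentation (MvPolynomial (Fin n) k) A :=
    Algebra.FinitePresentation.of_finiteType.mp inferInstance
  rw [H06Unram.EtalePoly.span_D_eq_top_iff (σ := Fin n) k A]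
  constructor
  · intro h
    refine ⟨fun m _ => ?_, inferInstance⟩
    let g := Spec.map (CommRingCat.ofHom (algebraMap (MvPolynomial (Fin n) k) A))
    haveI : Etale g := by
      rw [HasRingHomProperty.Spec_iff (P := @Etale)]
      exact RingHom.etale_algebraMap.mpr h
    let w : Spec (CommRingCat.of A) := (⟨m, inferInstance⟩ : PrimeSpectrum A)
    rw [← hloc m]
    exact (H12AlgSp.localDim_eq_of_etale g w).trans (H06Unram.EtalePoly.localDim_mvPolynomial k n _)
  · rintro ⟨hdim, hu⟩
    rw [← Algebra.etaleLocus_eq_univ_iff_etale]
    refine Set.eq_univ_of_forall fun p => ?_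
    obtain ⟨m, hm, hpm⟩ := Ideal.exists_le_maximal p.asIdeal p.isPrime.ne_top
    refine ((PrimeSpectrum.le_iff_specializes p ⟨m, hm.isPrime⟩).mp hpm).mem_open
      Algebra.isOpen_etaleLocus ?_
    haveI := hu
    exact H06Unram.EtalePoly.isEtaleAt_of_isUnramifiedAt k n A ⟨m, hm.isPrime⟩
      ((hloc m).trans (hdim m)) (inferInstanceAs (Algebra.FormallyUnramified _ (Localization.AtPrime m)))

end Groth.Agent.S9448
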