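import Groth.Statements.S9450
import Mathlib.RingTheory.Smooth.Kaehler

set_option autoImplicit false
universe u
open CAlg

namespace Groth.Agent.S9450

/-- A lift `B → A ⧸ I ^ 2` retracts the map of cotangent spaces. -/
theorem exists_retraction {A B : Type u} [CommRing A] [CommRing B] [Algebra A B] (I : Ideal A)
    (J : Ideal B) (σ : B →ₐ[A] A ⧸ I ^ 2) (hσ : ∀ j ∈ J, σ j ∈ I.cotangentIdeal)
    (h : I ≤ J.comap (Algebra.ofId A B)) :
    ∃ r : J.Cotangent →ₗ[A] I.Cotangent,
      r ∘ₗ Ideal.mapCotangent I J (Algebra.ofId A B) h = LinearMap.id := by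
  have h2 : ∀ b ∈ J ^ 2, σ b = 0 := fun b hb => by
    have : σ b ∈ I.cotangentIdeal ^ 2 := by
      have hle : (J ^ 2).map σ.toRingHom ≤ I.cotangentIdeal ^ 2 := by
        rw [Ideal.map_pow]
        exact Ideal.pow_right_mono (Ideal.map_le_iff_le_comap.mpr hσ) 2
      exact hle (Ideal.mem_map_of_mem _ hb)
    rwa [I.cotangentIdeal_square, Ideal.mem_bot] at this
  let σ' : B ⧸ J ^ 2 →ₐ[A] A ⧸ I ^ 2 := Ideal.Quotient.liftₐ (J ^ 2) σ h2
  let r1 : J.Cotangent →ₗ[A] A ⧸ I ^ 2 :=
    σ'.toLinearMap ∘ₗ (J.cotangentToQuotientSquare.restrictScalars A)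
  have hr1 : ∀ x, r1 x ∈ I.cotangentIdeal.restrictScalars A := fun x => by
    obtain ⟨j, rfl⟩ := J.toCotangent_surjective x
    exact hσ _ j.2
  refine ⟨I.cotangentEquivIdeal.symm.toLinearMap ∘ₗ LinearMap.codRestrict _ r1 hr1, ?_⟩
  apply LinearMap.ext
  intro x
  obtain ⟨x, rfl⟩ := I.toCotangent_surjective x
  simp only [LinearMap.comp_apply, LinearEquiv.coe_coe, LinearMap.id_apply,
    Ideal.mapCotangent_toCotangent]
  refine (LinearEquiv.symm_apply_eq _).mpr (Subtype.ext ?_)
  rw [Ideal.cotangentEquivIdeal_apply, Ideal.toCotangent_to_quotient_square]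
  exact σ.commutes (x : A)

open KaehlerDifferential TensorProduct in
/-- Exactness at `J/J²`. -/
theorem mem_range_of_eq_zero {A B C : Type u} [CommRing A] [CommRing B] [CommRing C] [Algebra A B]
    [Algebra B C] [Algebra A C] [IsScalarTower A B C] (s : C → A)
    (hs : ∀ c, algebraMap A C (s c) = c)
    (h : RingHom.ker (algebraMap A C) ≤
      (RingHom.ker (algebraMap B C)).comap (Algebra.ofId A B))
    (x : RingHom.ker (algebraMap B C)) (hx : (1 : C) ⊗ₜ[B] D A B (x : B) = 0) :
    (RingHom.ker (algebraMap B C)).toCotangent x ∈ LinearMap.range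
      (Ideal.mapCotangent (RingHom.ker (algebraMap A C)) (RingHom.ker (algebraMap B C))
        (Algebra.ofId A B) h) := by
  let J := RingHom.ker (algebraMap B C)
  let μ := Ideal.mapCotangent (RingHom.ker (algebraMap A C)) J (Algebra.ofId A B) h
  have hJ : ∀ (b : B) (a : A), algebraMap B C b = algebraMap A C a → b - algebraMap A B a ∈ J :=
    fun b a hba => by
      rw [RingHom.mem_ker, map_sub, ← IsScalarTower.algebraMap_apply, hba, sub_self]
  have hsub : ∀ b : B, b - algebraMap A B (s (algebraMap B C b)) ∈ J := fun b => hJ _ _ (hs _).symm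
  let R' : Submodule B J.Cotangent :=
    { LinearMap.range μ with
      smul_mem' := fun b y hy => by
        have : b • y = (s (algebraMap B C b)) • y := by
          rw [← algebraMap_smul B (s (algebraMap B C b)) y, ← sub_eq_zero, ← sub_smul]
          exact Ideal.Cotangent.smul_eq_zero_of_mem (hsub b) y
        change b • y ∈ LinearMap.range μ
        rw [this]
        exact Submodule.smul_mem _ _ hy }
  have hkill : ∀ j ∈ J, ∀ m : J.Cotangent ⧸ R', j • m = 0 := fun j hj m => by
    obtain ⟨m, rfl⟩ := R'.mkQ_surjective m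
    rw [← map_smul, Ideal.Cotangent.smul_eq_zero_of_mem hj, map_zero]
  let q : J →ₗ[B] J.Cotangent ⧸ R' := R'.mkQ ∘ₗ J.toCotangent
  have hqA : ∀ (j : J) (a : A), (j : B) = algebraMap A B a → q j = 0 := fun j a ha => by
    have haI : a ∈ RingHom.ker (algebraMap A C) := by
      rw [RingHom.mem_ker, IsScalarTower.algebraMap_apply A B C, ← ha]; exact j.2
    refine (Submodule.Quotient.mk_eq_zero R').mpr
      (show J.toCotangent j ∈ LinearMap.range μ from
        ⟨(RingHom.ker (algebraMap A C)).toCotangent ⟨a, haI⟩, ?_⟩)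
    exact congrArg J.toCotangent (Subtype.ext ha.symm)
  let δ : B → J.Cotangent ⧸ R' := fun b => q ⟨_, hsub b⟩
  have hδ : ∀ (b : B) (a : A) (h : b - algebraMap A B a ∈ J), δ b = q ⟨_, h⟩ := fun b a h => by
    rw [← sub_eq_zero, ← map_sub]
    exact hqA _ (a - s (algebraMap B C b)) (by simp)
  let Dv : Derivation A B (J.Cotangent ⧸ R') := Derivation.mk'
    { toFun := δ
      map_add' := fun b b' => by
        rw [hδ (b + b') (s (algebraMap B C b) + s (algebraMap B C b'))
          (hJ _ _ (by simp [hs])), ← map_add q]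
        exact congrArg q (Subtype.ext (by simp [add_sub_add_comm]))
      map_smul' := fun a b => by
        rw [hδ _ (a * s (algebraMap B C b))
          (hJ _ _ (by simp [hs, Algebra.smul_def, ← IsScalarTower.algebraMap_apply])),
          RingHom.id_apply, ← algebraMap_smul B a (δ b), ← map_smul q]
        exact congrArg q (Subtype.ext (by simp [Algebra.smul_def, map_mul, mul_sub])) }
    (fun b b' => by
      change δ (b * b') = b • δ b' + b' • δ b
      rw [hδ _ (s (algebraMap B C b) * s (algebraMap B C b')) (hJ _ _ (by simp [hs])),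
        ← map_smul q, ← map_smul q, ← map_add q, ← sub_eq_zero, ← map_sub q]
      have h2 := hkill _ (hsub b) (δ b')
      rw [← map_smul, ← neg_eq_zero, ← map_neg] at h2
      exact Eq.trans (congrArg q (Subtype.ext (by simp [map_mul]; ring))) h2)
  let f : C →+ Ω[B⁄A] →+ J.Cotangent ⧸ R' :=
    AddMonoidHom.mk' (fun c => AddMonoidHom.mk'
      (fun ω => algebraMap A B (s c) • Dv.liftKaehlerDifferential ω)
      (fun ω ω' => by rw [map_add, smul_add]))
      (fun c c' => by
        ext ω
        simp only [AddMonoidHom.mk'_apply, AddMonoidHom.add_apply, ← add_smul]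
        rw [← sub_eq_zero, ← sub_smul]
        refine hkill _ ?_ _
        simp [J, RingHom.mem_ker, ← IsScalarTower.algebraMap_apply, hs])
  have hf : ∀ (b : B) (c : C) (ω : Ω[B⁄A]), f (b • c) ω = f c (b • ω) := fun b c ω => by
    simp only [f, AddMonoidHom.mk'_apply, map_smul, smul_smul]
    rw [← sub_eq_zero, ← sub_smul]
    refine hkill _ ?_ _
    simp [J, RingHom.mem_ker, ← IsScalarTower.algebraMap_apply, hs, Algebra.smul_def, mul_comm]
  have h1 := congrArg (TensorProduct.liftAddHom f hf) hx
  rw [map_zero, TensorProduct.liftAddHom_tmul] at h1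
  simp only [f, AddMonoidHom.mk'_apply, Derivation.liftKaehlerDifferential_comp_D] at h1
  change algebraMap A B (s 1) • δ (x : B) = 0 at h1
  have h3 : δ (x : B) = q x :=
    (hδ (x : B) 0 (hJ _ _ (by simp [RingHom.mem_ker.mp x.2]))).trans
      (congrArg q (Subtype.ext (by simp)))
  have h4 : algebraMap A B (s 1) • δ (x : B) = δ (x : B) := by
    conv_rhs => rw [← one_smul B (δ (x : B))]
    rw [← sub_eq_zero, ← sub_smul]
    refine hkill _ ?_ _
    simp [J, RingHom.mem_ker, ← IsScalarTower.algebraMap_apply, hs]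
  rw [h4, h3] at h1
  exact (Submodule.Quotient.mk_eq_zero R').mp h1

/-- For ring maps A → B → C with A → C surjective and A → B formally smooth, writing I = ker(A → C) and
J = ker(B → C), the sequence 0 → I/I² → J/J² → C ⊗_B Ω_{B/A} → 0 is split exact: the first map is
injective and admits an A-linear retraction, its range is the kernel of the second map (class of x ↦
1 ⊗ dx), and the second map is surjective. -/
theorem result (A : Type u) [CommRing A]
    (B : Type u) [CommRing B] [Algebra A B] [Algebra.FormallySmooth A B] (C : Type u) [CommRing C]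
    [Algebra B C] [Algebra A C] [IsScalarTower A B C] (hC : Function.Surjective (algebraMap A C)) :
    Function.Injective (Ideal.mapCotangent (RingHom.ker (algebraMap A C))
        (RingHom.ker (algebraMap B C)) (Algebra.ofId A B)
        (le_of_eq (congrArg RingHom.ker (IsScalarTower.algebraMap_eq A B C)))) ∧
      (∃ r : (RingHom.ker (algebraMap B C)).Cotangent →ₗ[A] (RingHom.ker (algebraMap A C)).Cotangent,
        r ∘ₗ (Ideal.mapCotangent (RingHom.ker (algebraMap A C)) (RingHom.ker (algebraMap B C))
          (Algebra.ofId A B)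
          (le_of_eq (congrArg RingHom.ker (IsScalarTower.algebraMap_eq A B C)))) = LinearMap.id) ∧
      LinearMap.range (Ideal.mapCotangent (RingHom.ker (algebraMap A C))
          (RingHom.ker (algebraMap B C)) (Algebra.ofId A B)
          (le_of_eq (congrArg RingHom.ker (IsScalarTower.algebraMap_eq A B C)))) =
        LinearMap.ker ((KaehlerDifferential.kerCotangentToTensor A B C).restrictScalars A) ∧
      Function.Surjective (KaehlerDifferential.kerCotangentToTensor A B C) := by
  have hBC : Function.Surjective (algebraMap B C) := fun c => by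
    obtain ⟨a, ha⟩ := hC c
    exact ⟨algebraMap A B a, by rw [← IsScalarTower.algebraMap_apply, ha]⟩
  let I := RingHom.ker (algebraMap A C)
  let g : A ⧸ I ^ 2 →ₐ[A] C := Ideal.Quotient.liftₐ (I ^ 2) (Algebra.ofId A C)
    (fun a ha => Ideal.pow_le_self two_ne_zero ha)
  have hg : Function.Surjective g := fun c => by
    obtain ⟨a, ha⟩ := hC c
    exact ⟨Ideal.Quotient.mk _ a, ha⟩
  have hgker : ∀ z : A ⧸ I ^ 2, g z = 0 → z ∈ I.cotangentIdeal := fun z hz => by
    obtain ⟨a, rfl⟩ := Ideal.Quotient.mk_surjective z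
    exact Ideal.mk_mem_cotangentIdeal.mpr hz
  have hg' : IsNilpotent (RingHom.ker (g : A ⧸ I ^ 2 →+* C)) := by
    refine ⟨2, ?_⟩
    rw [Ideal.zero_eq_bot, eq_bot_iff, ← I.cotangentIdeal_square]
    exact Ideal.pow_right_mono (fun z hz => hgker z hz) 2
  let σ : B →ₐ[A] A ⧸ I ^ 2 :=
    Algebra.FormallySmooth.liftOfSurjective (IsScalarTower.toAlgHom A B C) g hg hg'
  have hσ : ∀ b, g (σ b) = algebraMap B C b := fun b =>
    Algebra.FormallySmooth.liftOfSurjective_apply _ g hg hg' b
  obtain ⟨r, hr⟩ := exists_retraction I (RingHom.ker (algebraMap B C)) σ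
    (fun j hj => hgker _ ((hσ j).trans hj))
    (le_of_eq (congrArg RingHom.ker (IsScalarTower.algebraMap_eq A B C)))
  refine ⟨fun x y h => ?_, ⟨r, hr⟩, le_antisymm ?_ ?_, ?_⟩
  · exact (LinearMap.congr_fun hr x).symm.trans ((congrArg r h).trans (LinearMap.congr_fun hr y))
  · rintro _ ⟨x, rfl⟩
    obtain ⟨x, rfl⟩ := Ideal.toCotangent_surjective _ x
    rw [Ideal.mapCotangent_toCotangent, LinearMap.mem_ker, LinearMap.restrictScalars_apply,
      KaehlerDifferential.kerCotangentToTensor_toCotangent]
    simp
  · intro x hx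
    obtain ⟨x, rfl⟩ := Ideal.toCotangent_surjective _ x
    rw [LinearMap.mem_ker, LinearMap.restrictScalars_apply,
      KaehlerDifferential.kerCotangentToTensor_toCotangent] at hx
    choose s hs using hC
    exact mem_range_of_eq_zero s hs _ x hx
  · haveI := KaehlerDifferential.subsingleton_of_surjective A C hC
    intro y
    have hy : y ∈ (LinearMap.ker (KaehlerDifferential.mapBaseChange A B C)).restrictScalars B :=
      Subsingleton.elim _ _
    rw [← KaehlerDifferential.range_kerCotangentToTensor A B C hBC] at hy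
    exact hy

end Groth.Agent.S9450
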