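import Groth.Statements.S9455
import Groth.Agent.H05EGA4.CohenStructure

set_option autoImplicit false
universe u
open CAlg

namespace Groth.Agent.S9455

/-- If Λ is a Cohen ring (a complete discrete valuation ring with maximal ideal generated by a prime
number p) then Λ/p^nΛ is formally smooth over ℤ/p^nℤ for every n ≥ 1; the ℤ/p^nℤ-algebra structure
on Λ/p^nΛ is the unique one and is taken as a hypothesis. -/
theorem result (Λ : Type u) [CommRing Λ] [IsDomain Λ]
    [IsDiscreteValuationRing Λ] [IsAdicComplete (IsLocalRing.maximalIdeal Λ) Λ] (p : ℕ)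
    (hp : p.Prime) (hm : IsLocalRing.maximalIdeal Λ = Ideal.span {(p : Λ)}) (n : ℕ) (hn : 1 ≤ n)
    [Algebra (ZMod (p ^ n)) (Λ ⧸ Ideal.span {((p : Λ) ^ n)})] :
    Algebra.FormallySmooth (ZMod (p ^ n)) (Λ ⧸ Ideal.span {((p : Λ) ^ n)}) := by
  have hW : CAlg.IsCohenRing Λ := ⟨inferInstance, inferInstance, inferInstance, p, hp, hm⟩
  haveI := Fact.mk hp
  have hWp : Ideal.span {(p : Λ)} ≠ ⊤ := by rw [← hm]; exact (IsLocalRing.maximalIdeal.isMaximal Λ).ne_top
  rw [Algebra.FormallySmooth.iff_comp_surjective]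
  intro B _ _ I hI f
  have hpB : ((p : B)) ^ n = 0 := by
    rw [← Nat.cast_pow, ← map_natCast (algebraMap (ZMod (p ^ n)) B), ZMod.natCast_self, map_zero]
  obtain ⟨v, hv⟩ := H05EGA4.exists_lift_of_isCohenRing hW p hWp I ⟨2, hI⟩ ⟨n, hpB⟩
    (f.toRingHom.comp (Ideal.Quotient.mk (Ideal.span {((p : Λ) ^ n)})))
  let g : Λ ⧸ Ideal.span {((p : Λ) ^ n)} →+* B := Ideal.Quotient.lift _ v fun x hx => by
    obtain ⟨c, rfl⟩ := Ideal.mem_span_singleton.mp hx
    rw [map_mul, map_pow, map_natCast, hpB, zero_mul]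
  refine ⟨AlgHom.mk g (fun c => RingHom.congr_fun (RingHom.ext_zmod (g.comp (algebraMap _ _)) (algebraMap _ B)) c), AlgHom.ext fun x => ?_⟩
  obtain ⟨x, rfl⟩ := Ideal.Quotient.mk_surjective x
  exact RingHom.congr_fun hv x

end Groth.Agent.S9455
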