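import Groth.Statements.S9456
import Groth.Agent.H02CA.FlatModel

set_option autoImplicit false
universe u
open CAlg

namespace Groth.Agent.S9456



/-- Let R → S be of finite presentation and M a finitely presented S-module which is flat over R. Then
the triple descends to a finite type ℤ-algebra: there are R₀ of finite type over ℤ with R₀ → R, a
finite type R₀-algebra S₀ with a compatible map S₀ → S making S the base change R ⊗_{R₀} S₀, and a
finite S₀-module M₀ flat over R₀ with an S₀-linear map M₀ → M making M the base change S ⊗_{S₀} M₀. -/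
theorem result (R : Type u) [CommRing R]
    (S : Type u) [CommRing S] [Algebra R S] [Algebra.FinitePresentation R S] (M : Type u)
    [AddCommGroup M] [Module S M] [Module R M] [IsScalarTower R S M]
    [Module.FinitePresentation S M] [Module.Flat R M] :
    ∃ (R₀ : Type u) (_ : CommRing R₀) (_ : Algebra R₀ R) (S₀ : Type u) (_ : CommRing S₀)
      (_ : Algebra R₀ S₀) (_ : Algebra S₀ S) (_ : Algebra R₀ S) (_ : IsScalarTower R₀ R S)
      (_ : IsScalarTower R₀ S₀ S) (M₀ : Type u) (_ : AddCommGroup M₀) (_ : Module S₀ M₀)
      (_ : Module R₀ M₀) (_ : IsScalarTower R₀ S₀ M₀) (_ : Module S₀ M) (_ : IsScalarTower S₀ S M)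
      (f : M₀ →ₗ[S₀] M),
      Algebra.FiniteType ℤ R₀ ∧ Algebra.FiniteType R₀ S₀ ∧ Module.Finite S₀ M₀ ∧ Module.Flat R₀ M₀ ∧
        Algebra.IsPushout R₀ R S₀ S ∧ IsBaseChange S f := by
  obtain ⟨n, π, hπ, hfg⟩ := Algebra.FinitePresentation.out (R := R) (A := S)
  let P := MvPolynomial (Fin n) R
  let _ : Algebra P S := π.toRingHom.toAlgebra
  let _ : Module P M := Module.compHom M π.toRingHom
  have : IsScalarTower P S M := IsScalarTower.of_algebraMap_smul fun _ _ ↦ rfl
  have : IsScalarTower R P M := IsScalarTower.of_algebraMap_smul (R := R) (A := P) (M := M) fun c x ↦ by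
    change π (algebraMap R P c) • x = c • x
    rw [AlgHom.commutes, algebraMap_smul]
  let _ : Module Pᵐᵒᵖ M :=
    Module.compHom M ((RingHom.id P).fromOpposite fun a b ↦ Commute.all a b)
  have : IsCentralScalar P M := ⟨fun _ _ ↦ rfl⟩
  have : Module.FinitePresentation P S := Module.finitePresentation_of_surjective
    (Algebra.linearMap P S) hπ hfg
  have : Module.FinitePresentation P M := Module.FinitePresentation.trans P M S
  exact Groth.Agent.H02CA.FlatModel.exists_model π hπ (fun _ _ ↦ rfl) hfg

end Groth.Agent.S9456
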