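import Groth.Statements.S9457
import Mathlib.RingTheory.Etale.QuasiFinite
import Mathlib.RingTheory.TensorProduct.Pi
import Mathlib.RingTheory.Idempotents

set_option autoImplicit false
universe u
open CAlg

namespace Groth.Agent.S9457

open TensorProduct

/-- The minimal elements of the fibre. -/
def Mins {R : Type u} [CommRing R] (p : Ideal R) (S : Type u) [CommRing S] [Algebra R S] :
    Set (Ideal S) :=
  {q | q ∈ p.primesOver S ∧ ∀ q' ∈ p.primesOver S, q' ≤ q → q' = q}

theorem mins_finite {R : Type u} [CommRing R] (p : Ideal R) [p.IsPrime] (S : Type u) [CommRing S]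
    [Algebra R S] [Algebra.FiniteType R S] : (Mins p S).Finite := by
  classical
  haveI : IsNoetherianRing (p.Fiber S) := Algebra.FiniteType.isNoetherianRing p.ResidueField _
  let α := PrimeSpectrum.primesOverOrderIsoFiber R S p
  let f : Ideal S → Ideal (p.Fiber S) := fun q =>
    if h : q ∈ p.primesOver S then (α ⟨q, h⟩).asIdeal else ⊥
  refine Set.Finite.of_finite_image (f := f)
    ((minimalPrimes.finite_of_isNoetherianRing (p.Fiber S)).subset ?_) ?_
  · rintro _ ⟨q, hq, rfl⟩
    rw [show f q = (α ⟨q, hq.1⟩).asIdeal from dif_pos hq.1, minimalPrimes_eq_minimals]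
    refine ⟨(α ⟨q, hq.1⟩).isPrime, fun Q hQ hle => ?_⟩
    have h1 : α.symm ⟨Q, hQ⟩ ≤ ⟨q, hq.1⟩ := α.symm_apply_le.2 hle
    have h2 : α.symm ⟨Q, hQ⟩ = ⟨q, hq.1⟩ := Subtype.ext (hq.2 _ (α.symm ⟨Q, hQ⟩).2 h1)
    rw [← h2, α.apply_symm_apply]
  · intro q hq q' hq' h
    rw [show f q = (α ⟨q, hq.1⟩).asIdeal from dif_pos hq.1,
      show f q' = (α ⟨q', hq'.1⟩).asIdeal from dif_pos hq'.1] at h
    exact congrArg Subtype.val (α.injective (PrimeSpectrum.ext h))

/-- The conclusion, with the residue field condition as a bijection. -/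
def Decomp (R : Type u) [CommRing R] (S : Type u) [CommRing S] [Algebra R S] (p : Ideal R)
    [p.IsPrime] : Prop :=
    ∃ (R' : Type u) (_ : CommRing R') (_ : Algebra R R') (_ : Algebra.Etale R R') (p' : Ideal R')
      (_ : p'.IsPrime) (_ : p'.LiesOver p) (n : ℕ) (A : Fin n → Type u) (_ : ∀ i, CommRing (A i))
      (_ : ∀ i, Algebra R' (A i)) (B : Type u) (_ : CommRing B) (_ : Algebra R' B),
      Function.Bijective (Ideal.ResidueField.mapₐ p p' (Algebra.ofId _ _) (p'.over_def p)) ∧
      Nonempty ((R' ⊗[R] S) ≃ₐ[R'] ((∀ i, A i) × B)) ∧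
        (∀ i, Module.Finite R' (A i) ∧
          ∃! r : Ideal (A i), r.IsPrime ∧ r.comap (algebraMap R' (A i)) = p') ∧
        ∀ (q : Ideal B) [q.IsPrime], q.comap (algebraMap R' B) = p' →
          ¬ Algebra.QuasiFiniteAt R' q

theorem existsUnique_baseChange {R₁ R₂ A : Type u} [CommRing R₁] [CommRing R₂] [CommRing A]
    [Algebra R₁ R₂] [Algebra R₁ A] (P₁ : Ideal R₁) [P₁.IsPrime] (P₂ : Ideal R₂) [P₂.IsPrime]
    [P₂.LiesOver P₁]
    (H : Function.Bijective (Ideal.ResidueField.mapₐ P₁ P₂ (Algebra.ofId _ _) (P₂.over_def P₁)))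
    (hA : ∃! r : Ideal A, r.IsPrime ∧ r.comap (algebraMap R₁ A) = P₁) :
    ∃! r : Ideal (R₂ ⊗[R₁] A), r.IsPrime ∧ r.comap (algebraMap R₂ (R₂ ⊗[R₁] A)) = P₂ := by
  obtain ⟨r₀, ⟨hr₀, hr₀'⟩, huniq⟩ := hA
  let F := Ideal.fiberIsoOfBijectiveResidueField H (S := A)
  let r₁ := F.symm ⟨r₀, hr₀, ⟨hr₀'.symm⟩⟩
  refine ⟨r₁.1, ⟨r₁.2.1, r₁.2.2.over.symm⟩, fun r hr => ?_⟩
  have h1 : F ⟨r, hr.1, ⟨hr.2.symm⟩⟩ = ⟨r₀, hr₀, ⟨hr₀'.symm⟩⟩ :=
    Subtype.ext (huniq _ ⟨(F _).2.1, (F _).2.2.over.symm⟩)
  have h2 := congrArg F.symm h1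
  rw [F.symm_apply_apply] at h2
  exact congrArg Subtype.val h2

/-- The family with one more member at the front. -/
def consFam {n : ℕ} (X : Type u) (A : Fin n → Type u) : Fin (n + 1) → Type u := Fin.cases X A

noncomputable instance consFam.commRing {n : ℕ} (X : Type u) [CommRing X] (A : Fin n → Type u)
    [∀ i, CommRing (A i)] : ∀ i, CommRing (consFam X A i) :=
  Fin.cases (motive := fun i => CommRing (consFam X A i)) ‹CommRing X› (fun i => ‹∀ i, CommRing (A i)› i)

noncomputable instance consFam.algebra {n : ℕ} (R X : Type u) [CommRing R] [CommRing X] [Algebra R X]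
    (A : Fin n → Type u) [∀ i, CommRing (A i)] [∀ i, Algebra R (A i)] :
    ∀ i, Algebra R (consFam X A i) :=
  Fin.cases (motive := fun i => Algebra R (consFam X A i)) ‹Algebra R X› (fun i => ‹∀ i, Algebra R (A i)› i)

theorem exists_cons {n : ℕ} (R X : Type u) [CommRing R] [CommRing X] [Algebra R X]
    (A : Fin n → Type u) [∀ i, CommRing (A i)] [∀ i, Algebra R (A i)] (B : Type u) [CommRing B]
    [Algebra R B] : Nonempty ((X × ((∀ i, A i) × B)) ≃ₐ[R] ((∀ i, consFam X A i) × B)) :=
  ⟨{ toFun := fun x => (fun i => Fin.cases (motive := consFam X A) x.1 x.2.1 i, x.2.2)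
     invFun := fun y => (y.1 0, (fun i => y.1 i.succ, y.2))
     left_inv := fun _ => rfl
     right_inv := fun y => Prod.ext (funext fun i => by cases i using Fin.cases <;> rfl) rfl
     map_mul' := fun x y => Prod.ext (funext fun i => by cases i using Fin.cases <;> rfl) rfl
     map_add' := fun x y => Prod.ext (funext fun i => by cases i using Fin.cases <;> rfl) rfl
     commutes' := fun c => Prod.ext (funext fun i => by cases i using Fin.cases <;> rfl) rfl }⟩

theorem decomp : ∀ (m : ℕ) (R : Type u) [CommRing R] (S : Type u) [CommRing S] [Algebra R S]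
    [Algebra.FiniteType R S] (p : Ideal R) [p.IsPrime], (Mins p S).ncard = m → Decomp R S p := by
  intro m
  induction m using Nat.strong_induction_on with
  | _ m IH =>
  intro R _ S _ _ _ p _ hm
  classical
  by_cases hqf : ∃ (q : Ideal S) (_ : q.IsPrime), q.comap (algebraMap R S) = p ∧ Algebra.QuasiFiniteAt R q
  swap
  · refine ⟨R, inferInstance, inferInstance, inferInstance, p, inferInstance, ⟨rfl⟩, 0,
      fun _ => PUnit, fun _ => inferInstance, fun _ => inferInstance, S, inferInstance, inferInstance,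
      ?_, ⟨(Algebra.TensorProduct.lid R S).trans
        (AlgEquiv.ofAlgHom (AlgHom.prod ((Pi.algHom R (fun _ : Fin 0 => PUnit) Fin.elim0)) (AlgHom.id R S))
          (AlgHom.snd R _ S) (AlgHom.ext fun x => Prod.ext (funext fun i => i.elim0) rfl)
          (AlgHom.ext fun _ => rfl))⟩,
      fun i => i.elim0, fun q hq hqp h => hqf ⟨q, hq, hqp, h⟩⟩
    rw! [Algebra.ofId_self, Ideal.ResidueField.mapₐ_id]
    exact Function.bijective_id
  obtain ⟨q, hq, hqp, hqf⟩ := hqf
  haveI := hqf
  haveI : q.LiesOver p := ⟨hqp.symm⟩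
  obtain ⟨R₁, _, _, _, P₁, _, _, e, he, P', _, _, hP'q, heP', hP₁, hfin, huniq⟩ :=
    Algebra.exists_etale_isIdempotentElem_forall_liesOver_eq p q
  let T := R₁ ⊗[R] S
  let A₀ := T ⧸ Ideal.span {1 - e}
  let S₂ := T ⧸ Ideal.span {e}
  haveI : IsLocalization.Away e A₀ :=
    IsLocalization.away_of_isIdempotentElem he Ideal.mk_ker
      Ideal.Quotient.mk_surjective
  haveI := hfin
  haveI hA₀fin : Module.Finite R₁ A₀ :=
    Module.Finite.equiv ((IsLocalization.algEquiv (Submonoid.powers e) (Localization.Away e) A₀).restrictScalars R₁).toLinearEquiv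
  have hA₀uniq : ∃! r : Ideal A₀, r.IsPrime ∧ r.comap (algebraMap R₁ A₀) = P₁ := by
    have hle : Ideal.span {1 - e} ≤ P' := by
      rw [Ideal.span_singleton_le_iff_mem]
      exact (Ideal.IsPrime.mem_or_mem_of_mul_eq_zero ‹P'.IsPrime› (he.mul_one_sub_self)).resolve_left heP'
    have hcm : (P'.map (Ideal.Quotient.mk (Ideal.span {1 - e}))).comap (Ideal.Quotient.mk (Ideal.span {1 - e})) = P' := by
      rw [Ideal.comap_map_of_surjective _ Ideal.Quotient.mk_surjective, ← RingHom.ker_eq_comap_bot,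
        Ideal.mk_ker]
      exact sup_eq_left.2 hle
    refine ⟨P'.map (Ideal.Quotient.mk _), ⟨Ideal.map_isPrime_of_surjective Ideal.Quotient.mk_surjective
      (by rwa [Ideal.mk_ker]), ?_⟩, fun r hr => ?_⟩
    · rw [IsScalarTower.algebraMap_eq R₁ T A₀, ← Ideal.comap_comap, Ideal.Quotient.algebraMap_eq, hcm]
      exact (P'.over_def P₁).symm
    · haveI := hr.1
      haveI : (r.comap (Ideal.Quotient.mk (Ideal.span {1 - e}))).LiesOver P₁ := ⟨by
        rw [Ideal.under, Ideal.comap_comap, ← Ideal.Quotient.algebraMap_eq, ← IsScalarTower.algebraMap_eq]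
        exact hr.2.symm⟩
      have hn : e ∉ r.comap (Ideal.Quotient.mk (Ideal.span {1 - e})) := by
        intro h
        refine hr.1.ne_top ((Ideal.eq_top_iff_one _).2 ?_)
        have h1 : Ideal.Quotient.mk (Ideal.span {1 - e}) e = 1 := by
          rw [← map_one (Ideal.Quotient.mk (Ideal.span {1 - e})), Ideal.Quotient.eq,
            Ideal.mem_span_singleton']
          exact ⟨-1, by ring⟩
        exact h1 ▸ h
      rw [← huniq _ inferInstance inferInstance hn]
      exact (Ideal.map_comap_of_surjective _ Ideal.Quotient.mk_surjective r).symm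
  -- the remaining part has fewer minimal elements in the fibre
  have hqm : q ∈ Mins p S := by
    refine ⟨⟨hq, ⟨hqp.symm⟩⟩, fun q' hq' hle => ?_⟩
    haveI := hq'.1
    exact Algebra.QuasiFiniteAt.eq_of_le_of_under_eq hle (hq'.2.over.symm.trans hqp.symm)
  let g : Ideal S₂ → Ideal S := fun r =>
    (r.comap (Ideal.Quotient.mk (Ideal.span {e}))).comap (Algebra.TensorProduct.includeRight.toRingHom : S →+* T)
  let F := Ideal.fiberIsoOfBijectiveResidueField hP₁ (S := S)
  have hlift : ∀ r ∈ Mins P₁ S₂, r.comap (Ideal.Quotient.mk (Ideal.span {e})) ∈ P₁.primesOver T := by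
    intro r hr
    haveI := hr.1.1
    exact ⟨inferInstance, ⟨by
      rw [Ideal.under, Ideal.comap_comap, ← Ideal.Quotient.algebraMap_eq, ← IsScalarTower.algebraMap_eq]
      exact hr.1.2.over⟩⟩
  have hg : ∀ (r) (hr : r ∈ Mins P₁ S₂), g r = (F ⟨_, hlift r hr⟩).1 := fun r hr =>
    (Ideal.comap_fiberIsoOfBijectiveResidueField_apply hP₁ ⟨_, hlift r hr⟩).symm
  have hmaps : ∀ r ∈ Mins P₁ S₂, g r ∈ Mins p S \ {q} := by
    intro r hr
    haveI := hr.1.1
    refine ⟨⟨hg r hr ▸ (F ⟨_, hlift r hr⟩).2, fun q' hq' hle => ?_⟩, ?_⟩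
    · have h1 : F.symm ⟨q', hq'⟩ ≤ ⟨_, hlift r hr⟩ := F.symm_apply_le.2 (hg r hr ▸ hle :)
      have h2 : (F.symm ⟨q', hq'⟩).1 ≤ r.comap (Ideal.Quotient.mk (Ideal.span {e})) := h1
      haveI hprime := (F.symm ⟨q', hq'⟩).2.1
      have he' : e ∈ r.comap (Ideal.Quotient.mk (Ideal.span {e})) := by
        rw [Ideal.mem_comap, Ideal.Quotient.eq_zero_iff_mem.2 (Ideal.mem_span_singleton_self e)]
        exact r.zero_mem
      have he'' : Ideal.span {e} ≤ (F.symm ⟨q', hq'⟩).1 := by
        rw [Ideal.span_singleton_le_iff_mem]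
        refine (hprime.mem_or_mem_of_mul_eq_zero he.mul_one_sub_self).resolve_right fun h => ?_
        refine (inferInstance : (r.comap (Ideal.Quotient.mk (Ideal.span {e}))).IsPrime).ne_top
          ((Ideal.eq_top_iff_one _).2 ?_)
        rw [show (1 : T) = e + (1 - e) by ring]
        exact Ideal.add_mem _ he' (h2 h)
      have hcm : ((F.symm ⟨q', hq'⟩).1.map (Ideal.Quotient.mk (Ideal.span {e}))).comap
          (Ideal.Quotient.mk (Ideal.span {e})) = (F.symm ⟨q', hq'⟩).1 := by
        rw [Ideal.comap_map_of_surjective _ Ideal.Quotient.mk_surjective, ← RingHom.ker_eq_comap_bot,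
          Ideal.mk_ker]
        exact sup_eq_left.2 he''
      have h3 : (F.symm ⟨q', hq'⟩).1.map (Ideal.Quotient.mk (Ideal.span {e})) = r := by
        refine hr.2 _ ⟨Ideal.map_isPrime_of_surjective Ideal.Quotient.mk_surjective
          (by rwa [Ideal.mk_ker]), ⟨?_⟩⟩ ?_
        · rw [Ideal.under, IsScalarTower.algebraMap_eq R₁ T S₂, ← Ideal.comap_comap, Ideal.Quotient.algebraMap_eq, hcm]
          exact (F.symm ⟨q', hq'⟩).2.2.over
        · exact (Ideal.map_mono h2).trans Ideal.map_comap_le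
      have h4 : F.symm ⟨q', hq'⟩ = ⟨_, hlift r hr⟩ := Subtype.ext (by
        show (F.symm ⟨q', hq'⟩).1 = _
        rw [← hcm, h3])
      have h5 := congrArg (fun x => (F x).1) h4
      simp only [F.apply_symm_apply] at h5
      exact h5.trans (hg r hr).symm
    · intro h
      haveI := hlift r hr |>.2
      have h1 : r.comap (Ideal.Quotient.mk (Ideal.span {e})) = P' :=
        Ideal.eq_of_comap_eq_comap_of_bijective_residueFieldMap hP₁ _ _ ((h : g r = q).trans hP'q.symm)
      apply heP'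
      rw [← h1, Ideal.mem_comap, Ideal.Quotient.eq_zero_iff_mem.2 (Ideal.mem_span_singleton_self e)]
      exact r.zero_mem
  have hlt : (Mins P₁ S₂).ncard < m := by
    rw [← hm]
    refine lt_of_le_of_lt (Set.ncard_le_ncard_of_injOn g hmaps ?_ ((mins_finite p S).sdiff))
      (Set.ncard_sdiff_singleton_lt_of_mem hqm (mins_finite p S))
    intro r hr r' hr' h
    rw [hg r hr, hg r' hr'] at h
    have h1 := congrArg Subtype.val (F.injective (Subtype.ext h))
    exact Ideal.comap_injective_of_surjective _ Ideal.Quotient.mk_surjective h1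
  obtain ⟨R₂, _, _, _, P₂, _, _, n, A, _, _, B, _, _, hP₂, ⟨E⟩, hA, hB⟩ := IH _ hlt R₁ S₂ P₁ rfl
  letI : Algebra R R₂ := Algebra.compHom R₂ (algebraMap R R₁)
  haveI : IsScalarTower R R₁ R₂ := IsScalarTower.of_algebraMap_eq' rfl
  haveI : Algebra.Etale R R₂ := Algebra.Etale.comp R R₁ R₂
  haveI : P₂.LiesOver p := Ideal.LiesOver.trans P₂ P₁ p
  let eT : T ≃ₐ[R₁] A₀ × S₂ :=
    (AlgEquiv.prodQuotientOfIsIdempotentElem (R := R₁) he.one_sub he (by ring) (by
      rw [mul_comm]; exact he.mul_one_sub_self))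
  obtain ⟨eCons⟩ := exists_cons R₂ (R₂ ⊗[R₁] A₀) A B
  refine ⟨R₂, inferInstance, inferInstance, inferInstance, P₂, inferInstance, inferInstance, n + 1,
    consFam (R₂ ⊗[R₁] A₀) A, inferInstance, inferInstance, B, inferInstance, inferInstance, ?_,
    ⟨((Algebra.TensorProduct.cancelBaseChange R R₁ R₂ R₂ S).symm.trans
      (Algebra.TensorProduct.congr AlgEquiv.refl eT)).trans
      (((Algebra.TensorProduct.prodRight R₁ R₂ R₂ A₀ S₂).trans
        (AlgEquiv.prodCongr AlgEquiv.refl E)).trans eCons)⟩, ?_, hB⟩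
  · convert hP₂.comp hP₁
    rw [← @AlgHom.coe_restrictScalars' R R₁, ← AlgHom.coe_comp]; congr 1; ext
  · refine Fin.cases ⟨inferInstanceAs (Module.Finite R₂ (R₂ ⊗[R₁] A₀)), ?_⟩ hA
    exact existsUnique_baseChange P₁ P₂ hP₂ hA₀uniq


open TensorProduct in
/-- For a finite type ring map R → S and a prime p of R there are an étale R-algebra R', a prime p' of
R' over p with trivial residue field extension κ(p) = κ(p') (the image of R generates κ(p') as a
field), and a decomposition R' ⊗_R S ≅ A_1 × ⋯ × A_n × B of R'-algebras in which every A_i is finite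
over R' with exactly one prime lying over p' and R' → B is quasi-finite at no prime of B lying over
p'. -/
theorem result (R : Type u) [CommRing R]
    (S : Type u) [CommRing S] [Algebra R S] [Algebra.FiniteType R S] (p : Ideal R) [p.IsPrime] :
    ∃ (R' : Type u) (_ : CommRing R') (_ : Algebra R R') (_ : Algebra.Etale R R') (p' : Ideal R')
      (_ : p'.IsPrime) (_ : p'.LiesOver p) (n : ℕ) (A : Fin n → Type u) (_ : ∀ i, CommRing (A i))
      (_ : ∀ i, Algebra R' (A i)) (B : Type u) (_ : CommRing B) (_ : Algebra R' B),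
      Subfield.closure (Set.range (algebraMap R p'.ResidueField)) = ⊤ ∧
      Nonempty ((R' ⊗[R] S) ≃ₐ[R'] ((∀ i, A i) × B)) ∧
        (∀ i, Module.Finite R' (A i) ∧
          ∃! r : Ideal (A i), r.IsPrime ∧ r.comap (algebraMap R' (A i)) = p') ∧
        ∀ (q : Ideal B) [q.IsPrime], q.comap (algebraMap R' B) = p' →
          ¬ Algebra.QuasiFiniteAt R' q := by
  obtain ⟨R', _, _, _, P, _, _, n, A, _, _, B, _, _, hP, hE, hA, hB⟩ := decomp _ R S p rfl
  refine ⟨R', _, _, inferInstance, P, inferInstance, inferInstance, n, A, _, _, B, _, _, ?_, hE, hA, hB⟩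
  let φ := Ideal.ResidueField.mapₐ p P (Algebra.ofId _ _) (P.over_def p)
  have h1 : Subfield.closure (Set.range (algebraMap R p.ResidueField)) = ⊤ := by
    refine top_unique fun x _ => ?_
    obtain ⟨a, b, -, rfl⟩ := IsFractionRing.div_surjective (R ⧸ p) x
    obtain ⟨a, rfl⟩ := Ideal.Quotient.mk_surjective a
    obtain ⟨b, rfl⟩ := Ideal.Quotient.mk_surjective b
    exact div_mem (Subfield.subset_closure ⟨a, IsScalarTower.algebraMap_apply R (R ⧸ p) p.ResidueField a⟩)
      (Subfield.subset_closure ⟨b, IsScalarTower.algebraMap_apply R (R ⧸ p) p.ResidueField b⟩)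
  have h2 : Subfield.map φ.toRingHom ⊤ = ⊤ := top_unique fun y _ => by
    obtain ⟨x, rfl⟩ := hP.2 y
    exact ⟨x, trivial, rfl⟩
  rw [← h2, ← h1, RingHom.map_field_closure, ← Set.range_comp]
  exact congrArg _ (congrArg Set.range (funext fun r => (φ.commutes r).symm))

end Groth.Agent.S9457
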