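import Groth.Statements.S9461
import Groth.Agent.H9Hens.TensorHensFinite
-- import your own Groth.Agent.* helpers here

set_option autoImplicit false
universe u
open Hensel

namespace Groth.Agent.S9461

/-- Let R → S be of finite type and quasi-finite at a prime q over p, and R^{sh}, S^{sh} strict
henselizations of R_p and S_q with a compatible local map R^{sh} → S^{sh} (over R). Then R^{sh} →
S^{sh} is finite and its residue field extension is finite and purely inseparable. (The published
statement also identifies S^{sh} with a localization of R^{sh} ⊗_{R_p} S_q; this row states only the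
finiteness and the residue-field assertions.) -/
theorem result (R : Type u) [CommRing R] (S : Type u)
    [CommRing S] [Algebra R S] [Algebra.FiniteType R S] (p : Ideal R) [p.IsPrime] (q : Ideal S)
    [q.IsPrime] [q.LiesOver p] [Algebra.QuasiFiniteAt R q]
    (Rh : Type u) [CommRing Rh] [IsLocalRing Rh] [Algebra (Localization.AtPrime p) Rh]
    [IsLocalHom (algebraMap (Localization.AtPrime p) Rh)]
    [Hensel.IsStrictHenselization (Localization.AtPrime p) Rh] [Algebra R Rh]
    [IsScalarTower R (Localization.AtPrime p) Rh]
    (Sh : Type u) [CommRing Sh] [IsLocalRing Sh] [Algebra (Localization.AtPrime q) Sh]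
    [IsLocalHom (algebraMap (Localization.AtPrime q) Sh)]
    [Hensel.IsStrictHenselization (Localization.AtPrime q) Sh] [Algebra S Sh]
    [IsScalarTower S (Localization.AtPrime q) Sh] [Algebra R Sh] [IsScalarTower R S Sh]
    [Algebra Rh Sh] [IsScalarTower R Rh Sh] [IsLocalHom (algebraMap Rh Sh)] :
    Module.Finite Rh Sh ∧
      Module.Finite (IsLocalRing.ResidueField Rh) (IsLocalRing.ResidueField Sh) ∧
      IsPurelyInseparable (IsLocalRing.ResidueField Rh) (IsLocalRing.ResidueField Sh) := by
  haveI : HenselianLocalRing Rh := Hensel.IsStrictHenselization.henselian (R := Localization.AtPrime p)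
  haveI : IsSepClosed (IsLocalRing.ResidueField Rh) :=
    (Hensel.IsStrictHenselization.isSepClosure (R := Localization.AtPrime p) (S := Rh)).sep_closed
  exact Groth.Agent.H9Hens.finite_strictHenselization (p := p) (q := q)

end Groth.Agent.S9461
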