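import Groth.Statements.S9464
import Groth.Agent.H29Omega.UnivThick

set_option autoImplicit false
universe u
open OmegaSh

namespace Groth.Agent.S9464

/-- Let A → B be formally unramified, π : B' → B a universal first order thickening of B relative to A,
S ⊆ B a multiplicative subset and S' = π⁻¹(S) ⊆ B'. With B_S the localization of B at S, B'_{S'} the
localization of B' at S' (both as A-algebras) and π' : B'_{S'} → B_S the A-algebra map induced by π,
the map π' is a universal first order thickening of B_S relative to A. (The published statement adds
the consequence that the conormal module localizes accordingly.) -/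
theorem result (A B B' : Type u) [CommRing A] [CommRing B]
    [CommRing B'] [Algebra A B] [Algebra.FormallyUnramified A B] [Algebra A B'] (π : B' →ₐ[A] B)
    (hπ : OmegaSh.IsUnivThickeningRing A B B' π) (S : Submonoid B)
    (BS B'S : Type u) [CommRing BS] [CommRing B'S]
    [Algebra B BS] [IsLocalization S BS]
    [Algebra B' B'S] [IsLocalization (S.comap π.toRingHom.toMonoidHom) B'S]
    [Algebra A BS] [IsScalarTower A B BS] [Algebra A B'S] [IsScalarTower A B' B'S]
    (πS : B'S →ₐ[A] BS) (hπS : ∀ x : B', πS (algebraMap B' B'S x) = algebraMap B BS (π x)) :
    OmegaSh.IsUnivThickeningRing A BS B'S πS := by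
  have hmap : (S.comap π.toRingHom.toMonoidHom).map π.toRingHom = S :=
    Submonoid.map_comap_eq_of_surjective hπ.1 S
  haveI : IsLocalization ((S.comap π.toRingHom.toMonoidHom).map π.toRingHom) BS := by
    rw [hmap]; infer_instance
  exact H29Omega.isUnivThickeningRing_of_localization (A' := A) hπ (S.comap π.toRingHom.toMonoidHom)
    (fun C _ _ f g h => AlgHom.coe_ringHom_injective (IsLocalization.ringHom_ext (S.comap π.toRingHom.toMonoidHom) h))
    (fun C _ _ f h r => h r) πS hπS

end Groth.Agent.S9464
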