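import Groth.Statements.S9469
import Groth.Agent.H9Hens.PointNbhd
-- import your own Groth.Agent.* helpers here

set_option autoImplicit false
universe u
open Hensel

namespace Groth.Agent.S9469

open scoped TensorProduct

/-- Let R be a ring and p a prime of R. Consider pairs (S, q) with S an étale R-algebra and q a prime of
S lying over p such that κ(p) → κ(q) is bijective; a morphism of pairs is an R-algebra map pulling
the second prime back to the first. Then any two parallel morphisms of pairs φ, ψ : (S₁, q₁) → (S₂,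
q₂) are coequalized by a morphism of pairs (S₂, q₂) → (S₃, q₃). -/
theorem result (R : Type u) [CommRing R]
    (p : Ideal R) [p.IsPrime] (S₁ : Type u) [CommRing S₁] [Algebra R S₁] [Algebra.Etale R S₁] (q₁ : Ideal S₁) [q₁.IsPrime] (hq₁ : p = q₁.comap (algebraMap R S₁))
    (hq₁κ : Function.Bijective (Ideal.ResidueField.map p q₁ (algebraMap R S₁) hq₁))
    (S₂ : Type u) [CommRing S₂] [Algebra R S₂] [Algebra.Etale R S₂] (q₂ : Ideal S₂) [q₂.IsPrime] (hq₂ : p = q₂.comap (algebraMap R S₂))
    (hq₂κ : Function.Bijective (Ideal.ResidueField.map p q₂ (algebraMap R S₂) hq₂))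
    (φ ψ : S₁ →ₐ[R] S₂) (hφ : q₂.comap φ.toRingHom = q₁) (hψ : q₂.comap ψ.toRingHom = q₁) :
    ∃ (S₃ : Type u) (_ : CommRing S₃) (_ : Algebra R S₃) (_ : Algebra.Etale R S₃) (q₃ : Ideal S₃)
      (_ : q₃.IsPrime) (hq₃ : p = q₃.comap (algebraMap R S₃)),
      Function.Bijective (Ideal.ResidueField.map p q₃ (algebraMap R S₃) hq₃) ∧
        ∃ χ : S₂ →ₐ[R] S₃, q₃.comap χ.toRingHom = q₂ ∧ χ.comp φ = χ.comp ψ := by
  obtain ⟨σ, hσ⟩ := H9Hens.exists_point p q₂ hq₂ hq₂κ
  obtain ⟨t, ht, ht1⟩ := Algebra.FormallyUnramified.iff_exists_tensorProduct.mp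
    (inferInstance : Algebra.FormallyUnramified R S₁)
  let L : S₁ ⊗[R] S₁ →ₐ[R] S₂ := Algebra.TensorProduct.lift φ ψ fun _ _ => Commute.all _ _
  have he : σ.comp ψ = σ.comp φ := H9Hens.point_ext p (by
    show RingHom.ker (σ.toRingHom.comp ψ.toRingHom) = RingHom.ker (σ.toRingHom.comp φ.toRingHom)
    rw [← RingHom.comap_ker, ← RingHom.comap_ker]
    show (RingHom.ker σ).comap _ = (RingHom.ker σ).comap _
    rw [hσ, hφ, hψ])
  have hL : σ.comp L = (σ.comp φ).comp (Algebra.TensorProduct.lmul' R) := by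
    refine Algebra.TensorProduct.ext' fun a b => ?_
    have hb : σ (ψ b) = σ (φ b) := DFunLike.congr_fun he b
    simp [L, hb]
  have hu : IsUnit (σ (L t)) := by
    have := DFunLike.congr_fun hL t
    simp only [AlgHom.comp_apply, ht1, map_one] at this
    rw [this]; exact isUnit_one
  let T := Localization.Away (L t)
  have : Algebra.Etale S₂ T := Algebra.Etale.of_isLocalizationAway (L t)
  have : Algebra.Etale R T := Algebra.Etale.comp R S₂ T
  let χ : S₂ →ₐ[R] T := IsScalarTower.toAlgHom R S₂ T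
  let σT : T →ₐ[R] p.ResidueField := IsLocalization.Away.liftAlgHom (L t) (f := σ) hu
  have hσT : σT.comp χ = σ := AlgHom.ext fun x => by
    show IsLocalization.Away.liftAlgHom (L t) (f := σ) hu (algebraMap S₂ T x) = σ x
    simp
  obtain ⟨hq, hp, hκ⟩ := H9Hens.point_ker p σT
  refine ⟨T, inferInstance, inferInstance, inferInstance, _, hp, hq, hκ, χ, ?_, AlgHom.ext fun s => ?_⟩
  · rw [RingHom.comap_ker, ← hσ, ← hσT]; rfl
  · have h := congrArg (χ.comp L) (ht s)
    simp only [map_mul, map_sub, map_zero, L, AlgHom.comp_apply, Algebra.TensorProduct.lift_tmul,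
      map_one, one_mul, mul_one] at h
    exact (sub_eq_zero.mp ((IsLocalization.Away.algebraMap_isUnit (S := T) (L t)).mul_left_eq_zero.mp h)).symm

end Groth.Agent.S9469
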