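import Groth.Statements.S9472
import Groth.Agent.H06PP.DiffOpExtend

set_option autoImplicit false
universe u
open Diff16

namespace Groth.Agent.S9472

open TensorProduct in
/-- Let R → S → S' be ring maps with S → S' formally étale, M an S-module and (P, D_u) a module of
principal parts of order k of M relative to R → S, i.e. D_u : M → P is a differential operator of
order at most k through which every differential operator of order at most k from M to an S-module
factors by a unique S-linear map. If D_u' : S' ⊗_S M → S' ⊗_S P is a differential operator of order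
at most k relative to R → S' with D_u'(1 ⊗ m) = 1 ⊗ D_u(m), then (S' ⊗_S P, D_u') is a module of
principal parts of order k of S' ⊗_S M relative to R → S'. (The published statement writes this as
an identification of S' ⊗_S P^k_{S/R}(M) with P^k_{S'/R}(M') and forms M' by base change over R
rather than over S; with base change over R the identification fails already for k = 0, R the
rationals, S = S' a polynomial ring in one variable and M = S, and the published proof computes with
the base change over S, used here. Target modules are taken in one universe.) -/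
theorem result (R S S' : Type u) [CommRing R]
    [CommRing S] [CommRing S'] [Algebra R S] [Algebra R S'] [Algebra S S'] [IsScalarTower R S S']
    [Algebra.FormallyEtale S S'] (M : Type u) [AddCommGroup M] [Module S M] [Module R M]
    [IsScalarTower R S M] (k : ℕ) (P : Type u) [AddCommGroup P] [Module S P] [Module R P]
    [IsScalarTower R S P] (Du : M →ₗ[R] P) (hDu : Diff16.IsDiffOpLE R S M P k Du)
    (huniv : ∀ (N : Type u) [AddCommGroup N] [Module S N] [Module R N] [IsScalarTower R S N]
      (D : M →ₗ[R] N), Diff16.IsDiffOpLE R S M N k D → ∃! α : P →ₗ[S] N, α.restrictScalars R ∘ₗ Du = D)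
    (Du' : S' ⊗[S] M →ₗ[R] S' ⊗[S] P) (hDu' : Diff16.IsDiffOpLE R S' (S' ⊗[S] M) (S' ⊗[S] P) k Du')
    (hext : Du' ∘ₗ (TensorProduct.mk S S' M 1).restrictScalars R =
      (TensorProduct.mk S S' P 1).restrictScalars R ∘ₗ Du) :
    ∀ (N' : Type u) [AddCommGroup N'] [Module S' N'] [Module R N'] [IsScalarTower R S' N']
      (D' : S' ⊗[S] M →ₗ[R] N'), Diff16.IsDiffOpLE R S' (S' ⊗[S] M) N' k D' →
        ∃! α : S' ⊗[S] P →ₗ[S'] N', α.restrictScalars R ∘ₗ Du' = D' := by
  intro N' _ _ _ _ D' hD'
  letI : Module S N' := Module.compHom N' (algebraMap S S')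
  haveI hSS : IsScalarTower S S' N' := IsScalarTower.of_algebraMap_smul fun _ _ => rfl
  haveI : IsScalarTower R S N' := IsScalarTower.of_algebraMap_smul fun r x => by
    show algebraMap S S' (algebraMap R S r) • x = r • x
    rw [← IsScalarTower.algebraMap_apply R S S', algebraMap_smul]
  have hres : ∀ (j : ℕ) (E : S' ⊗[S] M →ₗ[R] N') (E₀ : M →ₗ[R] N'), (∀ m, E₀ m = E (1 ⊗ₜ m)) →
      Diff16.IsDiffOpLE R S' (S' ⊗[S] M) N' j E → Diff16.IsDiffOpLE R S M N' j E₀ := by
    intro j
    induction j with
    | zero =>
      intro E E₀ hE₀ hE s m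
      rw [hE₀, hE₀, ← algebraMap_smul S' s (E _), ← hE, TensorProduct.tmul_smul, algebraMap_smul]
    | succ j ih =>
      intro E E₀ hE₀ hE s
      refine ih _ _ (fun m => ?_) (hE (algebraMap S S' s))
      rw [H06DiffOp.comm_apply, H06DiffOp.comm_apply, hE₀, hE₀, TensorProduct.tmul_smul,
        algebraMap_smul, algebraMap_smul]
  let D₀ : M →ₗ[R] N' := D' ∘ₗ (TensorProduct.mk S S' M 1).restrictScalars R
  obtain ⟨α₀, hα₀, hαu⟩ := huniv N' D₀ (hres k D' D₀ (fun m => rfl) hD')
  refine ⟨α₀.liftBaseChange S', ?_, fun β hβ => ?_⟩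
  · refine H06PP.diffOp_ext (R := R) (S := S) (S' := S') (fun m => (1 : S') ⊗ₜ[S] m)
      (fun s m => by rw [TensorProduct.tmul_smul, algebraMap_smul]) H06PP.span_range_one_tmul k _ D'
      (H06DiffOp.diffOp_linear_comp (A := R) (α₀.liftBaseChange S') hDu') hD' fun m => ?_
    show α₀.liftBaseChange S' (Du' (1 ⊗ₜ m)) = D' (1 ⊗ₜ m)
    rw [show Du' (1 ⊗ₜ m) = 1 ⊗ₜ Du m from LinearMap.congr_fun hext m, LinearMap.liftBaseChange_tmul, one_smul]
    exact LinearMap.congr_fun hα₀ m
  · refine TensorProduct.AlgebraTensorModule.ext fun c p => ?_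
    rw [LinearMap.liftBaseChange_tmul, show c ⊗ₜ[S] p = c • ((1 : S') ⊗ₜ[S] p) by
      rw [TensorProduct.smul_tmul', smul_eq_mul, mul_one], map_smul]
    refine congrArg (c • ·) ?_
    have := hαu (β.restrictScalars S ∘ₗ TensorProduct.mk S S' P 1) (LinearMap.ext fun m => by
      show β (1 ⊗ₜ Du m) = D' (1 ⊗ₜ m)
      rw [← show Du' (1 ⊗ₜ m) = 1 ⊗ₜ Du m from LinearMap.congr_fun hext m]
      exact LinearMap.congr_fun hβ (1 ⊗ₜ m))
    exact LinearMap.congr_fun this p

end Groth.Agent.S9472
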