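import Groth.Statements.S9473
import Groth.Agent.H9Hens.StrictTensor
-- import your own Groth.Agent.* helpers here

set_option autoImplicit false
universe u
open Hensel

namespace Groth.Agent.S9473

open TensorProduct in
/-- An element of a tensor product involves finitely many elements. -/
theorem exists_finset (A B M : Type u) [CommRing A] [CommRing B] [Algebra A B] [CommRing M] [Algebra A M]
    (d : M ⊗[A] B) : ∃ s : Finset B, ∀ B₀ : Subalgebra A B, (s : Set B) ⊆ B₀ →
      ∃ d₀ : M ⊗[A] B₀, Algebra.TensorProduct.map (AlgHom.id M M) B₀.val d₀ = d := by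
  classical
  induction d using TensorProduct.induction_on with
  | zero => exact ⟨∅, fun B₀ _ => ⟨0, map_zero _⟩⟩
  | tmul m b =>
    exact ⟨{b}, fun B₀ hB => ⟨m ⊗ₜ ⟨b, hB (Finset.mem_singleton_self b)⟩, by simp⟩⟩
  | add x y hx hy =>
    obtain ⟨s, hs⟩ := hx
    obtain ⟨t, ht⟩ := hy
    refine ⟨s ∪ t, fun B₀ hB => ?_⟩
    rw [Finset.coe_union, Set.union_subset_iff] at hB
    obtain ⟨x₀, rfl⟩ := hs B₀ hB.1
    obtain ⟨y₀, rfl⟩ := ht B₀ hB.2
    exact ⟨x₀ + y₀, map_add _ _ _⟩


open TensorProduct in
/-- Let A → B and A → C be ring maps, D = B ⊗_A C, and p_D a prime of D with images p_B, p_C, p_A in B,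
C, A. Let A^{sh}, B^{sh}, C^{sh}, D^{sh} be strict henselizations of the local rings A_{p_A},
B_{p_B}, C_{p_C}, D_{p_D}, equipped with local homomorphisms A^{sh} → B^{sh} → D^{sh} and A^{sh} →
C^{sh} → D^{sh} forming a commutative square compatible with A → B → D and A → C → D (such maps are
the ones attached to a compatible choice of residue-field embeddings into one separably closed
field, and are unique given that choice). If B_{p_B}, an A_{p_A}-algebra through the induced map, is
a filtered colimit of quasi-finite A_{p_A}-algebras — every finite subset of B_{p_B} lies in an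
A_{p_A}-subalgebra of finite type which is quasi-finite — then the induced A^{sh}-algebra map B^{sh}
⊗_{A^{sh}} C^{sh} → D^{sh} is bijective. -/
theorem result (A B C : Type u) [CommRing A] [CommRing B]
    [CommRing C] [Algebra A B] [Algebra A C]
    (pA : Ideal A) [pA.IsPrime] (pB : Ideal B) [pB.IsPrime] [pB.LiesOver pA]
    (pC : Ideal C) [pC.IsPrime] [pC.LiesOver pA]
    (pD : Ideal (B ⊗[A] C)) [pD.IsPrime] [pD.LiesOver pB]
    (hDC : pD.comap (Algebra.TensorProduct.includeRight : C →ₐ[A] B ⊗[A] C).toRingHom = pC)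
    (Ash : Type u) [CommRing Ash] [IsLocalRing Ash] [Algebra (Localization.AtPrime pA) Ash]
    [IsLocalHom (algebraMap (Localization.AtPrime pA) Ash)]
    [Hensel.IsStrictHenselization (Localization.AtPrime pA) Ash] [Algebra A Ash]
    [IsScalarTower A (Localization.AtPrime pA) Ash]
    (Bsh : Type u) [CommRing Bsh] [IsLocalRing Bsh] [Algebra (Localization.AtPrime pB) Bsh]
    [IsLocalHom (algebraMap (Localization.AtPrime pB) Bsh)]
    [Hensel.IsStrictHenselization (Localization.AtPrime pB) Bsh] [Algebra B Bsh]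
    [IsScalarTower B (Localization.AtPrime pB) Bsh] [Algebra A Bsh] [IsScalarTower A B Bsh]
    [Algebra Ash Bsh] [IsScalarTower A Ash Bsh] [IsLocalHom (algebraMap Ash Bsh)]
    (Csh : Type u) [CommRing Csh] [IsLocalRing Csh] [Algebra (Localization.AtPrime pC) Csh]
    [IsLocalHom (algebraMap (Localization.AtPrime pC) Csh)]
    [Hensel.IsStrictHenselization (Localization.AtPrime pC) Csh] [Algebra C Csh]
    [IsScalarTower C (Localization.AtPrime pC) Csh] [Algebra A Csh] [IsScalarTower A C Csh]
    [Algebra Ash Csh] [IsScalarTower A Ash Csh] [IsLocalHom (algebraMap Ash Csh)]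
    (Dsh : Type u) [CommRing Dsh] [IsLocalRing Dsh] [Algebra (Localization.AtPrime pD) Dsh]
    [IsLocalHom (algebraMap (Localization.AtPrime pD) Dsh)]
    [Hensel.IsStrictHenselization (Localization.AtPrime pD) Dsh] [Algebra (B ⊗[A] C) Dsh]
    [IsScalarTower (B ⊗[A] C) (Localization.AtPrime pD) Dsh]
    [Algebra Bsh Dsh] [IsLocalHom (algebraMap Bsh Dsh)] [Algebra B Dsh] [IsScalarTower B Bsh Dsh]
    [IsScalarTower B (B ⊗[A] C) Dsh]
    [Algebra Csh Dsh] [IsLocalHom (algebraMap Csh Dsh)]
    (hC : ∀ c : C, algebraMap Csh Dsh (algebraMap C Csh c) = algebraMap (B ⊗[A] C) Dsh (1 ⊗ₜ[A] c))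
    [Algebra Ash Dsh] [IsScalarTower Ash Bsh Dsh] [IsScalarTower Ash Csh Dsh]
    [Algebra (Localization.AtPrime pA) (Localization.AtPrime pB)]
    [IsScalarTower A (Localization.AtPrime pA) (Localization.AtPrime pB)]
    (hB : ∀ s : Finset (Localization.AtPrime pB),
      ∃ B₀ : Subalgebra (Localization.AtPrime pA) (Localization.AtPrime pB),
        (↑s : Set (Localization.AtPrime pB)) ⊆ ↑B₀ ∧
          Algebra.FiniteType (Localization.AtPrime pA) ↥B₀ ∧
            Algebra.QuasiFinite (Localization.AtPrime pA) ↥B₀) :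
    Function.Bijective (Algebra.TensorProduct.lift (IsScalarTower.toAlgHom Ash Bsh Dsh)
      (IsScalarTower.toAlgHom Ash Csh Dsh) (fun _ _ => Commute.all _ _)) := by
  haveI : HenselianLocalRing Ash := Hensel.IsStrictHenselization.henselian (R := Localization.AtPrime pA)
  haveI : IsSepClosed (IsLocalRing.ResidueField Ash) :=
    (Hensel.IsStrictHenselization.isSepClosure (R := Localization.AtPrime pA) (S := Ash)).sep_closed
  suffices hint : ∀ (T : Type u) [CommRing T] [IsLocalRing T] [Algebra Ash T] [IsLocalHom (algebraMap Ash T)]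
      (g : Ash ⊗[A] B →ₐ[Ash] T), (∀ s, g (1 ⊗ₜ s) ∈ IsLocalRing.maximalIdeal T ↔ s ∈ pB) → ∀ d,
      IsIntegral Ash (g d) ∧ (IsUnit (g d) → ∃ e, IsIntegral Ash e ∧ g d * e = 1) by
    obtain ⟨hi, hp⟩ := Groth.Agent.H9Hens.integral_strictHenselization (p := pA) (q := pB) (Rh := Ash) (Sh := Bsh) hint
    exact Groth.Agent.H9Hens.bijective_strictHenselization_tensor (pB := pB) (pC := pC) (pD := pD) hC
  intro T _ _ _ _ g hg d
  · classical
    let A' := Localization.AtPrime pA
    letI : Algebra A T := ((algebraMap Ash T).comp (algebraMap A Ash)).toAlgebra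
    letI : Algebra A' T := ((algebraMap Ash T).comp (algebraMap A' Ash)).toAlgebra
    haveI : IsScalarTower A Ash T := IsScalarTower.of_algebraMap_eq' rfl
    haveI : IsScalarTower A' Ash T := IsScalarTower.of_algebraMap_eq' rfl
    haveI : IsScalarTower A A' T := IsScalarTower.of_algebraMap_eq fun r => by
      show algebraMap Ash T (algebraMap A Ash r) = algebraMap Ash T (algebraMap A' Ash (algebraMap A A' r))
      rw [← IsScalarTower.algebraMap_apply A A' Ash]
    let j : B →+* T := g.toRingHom.comp Algebra.TensorProduct.includeRight.toRingHom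
    have hj : ∀ y : pB.primeCompl, IsUnit (j y) := fun y => by
      rw [← IsLocalRing.notMem_maximalIdeal]
      exact fun h => y.2 ((hg _).mp h)
    let ψ : Localization.AtPrime pB →+* T := IsLocalization.lift hj
    have hψA : ψ.comp (algebraMap A' (Localization.AtPrime pB)) = algebraMap A' T :=
      IsLocalization.ringHom_ext pA.primeCompl (RingHom.ext fun r => by
        rw [RingHom.comp_apply, RingHom.comp_apply, RingHom.comp_apply,
          ← IsScalarTower.algebraMap_apply A A' (Localization.AtPrime pB),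
          IsScalarTower.algebraMap_apply A B (Localization.AtPrime pB), IsLocalization.lift_eq,
          ← IsScalarTower.algebraMap_apply A A' T]
        show g (1 ⊗ₜ algebraMap A B r) = algebraMap Ash T (algebraMap A Ash r)
        rw [show (1 : Ash) ⊗ₜ[A] algebraMap A B r = algebraMap A Ash r ⊗ₜ[A] (1 : B) from
          Algebra.TensorProduct.includeRight.commutes r]
        exact g.commutes _)
    let ψ' : Localization.AtPrime pB →ₐ[A'] T := ⟨ψ, fun r => DFunLike.congr_fun hψA r⟩
    have hψloc : IsLocalHom ψ := Groth.Agent.H9Hens.isLocalHom_of_atPrime pB ψ fun b hb => by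
      rw [IsLocalization.lift_eq]; exact (hg b).mpr hb
    obtain ⟨s, hs⟩ := exists_finset A B Ash d
    obtain ⟨B₀, hsB, hft, hqf⟩ := hB (s.image (algebraMap B (Localization.AtPrime pB)))
    let g₀ : Ash ⊗[A'] B₀ →ₐ[Ash] T := Algebra.TensorProduct.lift (Algebra.ofId Ash T) (ψ'.comp B₀.val)
      fun _ _ => Commute.all _ _
    obtain ⟨d₀, hd₀⟩ : ∃ d₀, g₀ d₀ = g d := by
      let B₁ : Subalgebra A B :=
        (B₀.restrictScalars A).comap (IsScalarTower.toAlgHom A B (Localization.AtPrime pB))
      obtain ⟨d₁, rfl⟩ := hs B₁ (fun b hb => hsB (Finset.mem_coe.mpr (Finset.mem_image_of_mem _ hb)))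
      clear hs
      induction d₁ using TensorProduct.induction_on with
      | zero => exact ⟨0, by simp⟩
      | tmul m b =>
        refine ⟨m ⊗ₜ ⟨algebraMap B _ (b : B), b.2⟩, ?_⟩
        have h2 : g (m ⊗ₜ (b : B)) = algebraMap Ash T m * j (b : B) := by
          rw [show (m ⊗ₜ[A] (b : B)) = m ⊗ₜ 1 * 1 ⊗ₜ (b : B) by simp, map_mul]
          exact congrArg (· * j (b : B)) (g.commutes m)
        simp only [Algebra.TensorProduct.map_tmul, AlgHom.id_apply, Subalgebra.coe_val, h2, g₀,
          Algebra.TensorProduct.lift_tmul, AlgHom.comp_apply, Algebra.ofId_apply]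
        congr 1
        exact IsLocalization.lift_eq hj _
      | add x y hx hy =>
        obtain ⟨x₀, hx₀⟩ := hx
        obtain ⟨y₀, hy₀⟩ := hy
        exact ⟨x₀ + y₀, by simp only [map_add, hx₀, hy₀]⟩
    rw [← hd₀]
    refine Groth.Agent.H9Hens.isIntegral_of_factor g₀
      ((IsLocalRing.maximalIdeal (Localization.AtPrime pB)).comap B₀.val.toRingHom) (fun x => ?_) d₀
    rw [Ideal.mem_comap, IsLocalRing.mem_maximalIdeal, IsLocalRing.mem_maximalIdeal, mem_nonunits_iff,
      mem_nonunits_iff, show g₀ (1 ⊗ₜ x) = ψ (x : Localization.AtPrime pB) by simp [g₀, ψ'], isUnit_map_iff ψ]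
    rfl

end Groth.Agent.S9473
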