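import Groth.Statements.S9474
import Mathlib

set_option autoImplicit false
universe u
open CAlg

namespace Groth.Agent.S9474

section
open MvPolynomial

/-- A quotient of a polynomial ring in which each `dX_i` is a differential of a relation is unramified. -/
theorem formallyUnramified_quotient {A : Type u} [CommRing A] {n : ℕ}
    (J : Ideal (MvPolynomial (Fin n) A)) (F : Fin n → MvPolynomial (Fin n) A) (hF : ∀ i, F i ∈ J)
    (hG : ∀ i l, pderiv l (F i) - (if i = l then 1 else 0) ∈ J) :
    Algebra.FormallyUnramified A (MvPolynomial (Fin n) A ⧸ J) := by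
  classical
  let P := MvPolynomial (Fin n) A
  let Q := P ⧸ J
  let D := KaehlerDifferential.D A Q
  have hchain : ∀ p : P, D (Ideal.Quotient.mk J p) =
      ∑ l, Ideal.Quotient.mk J (pderiv l p) • D (Ideal.Quotient.mk J (X l)) := by
    intro p
    have h := (KaehlerDifferential.mvPolynomialBasis A (Fin n)).sum_repr (KaehlerDifferential.D A P p)
    have h' := congrArg (KaehlerDifferential.map A A P Q) h
    rw [KaehlerDifferential.map_D, map_sum] at h'
    refine Eq.trans h'.symm (Finset.sum_congr rfl fun l _ => ?_)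
    rw [LinearMap.map_smul_of_tower, KaehlerDifferential.mvPolynomialBasis_repr_apply,
      KaehlerDifferential.mvPolynomialBasis_apply, KaehlerDifferential.map_D]
    exact (algebraMap_smul Q (pderiv l p) (D (Ideal.Quotient.mk J (X l)))).symm
  have hX : ∀ i, D (Ideal.Quotient.mk J (X i)) = 0 := by
    intro i
    have h := hchain (F i)
    rw [Ideal.Quotient.eq_zero_iff_mem.mpr (hF i), map_zero] at h
    rw [h, Finset.sum_eq_single i]
    · have : Ideal.Quotient.mk J (pderiv i (F i)) = 1 := by
        have := Ideal.Quotient.eq_zero_iff_mem.mpr (hG i i)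
        rw [if_pos rfl, map_sub, map_one, sub_eq_zero] at this
        exact this
      rw [this]; exact (one_smul Q (D (Ideal.Quotient.mk J (X i)))).symm
    · intro l _ hl
      have := hG i l
      rw [if_neg (Ne.symm hl), sub_zero] at this
      rw [Ideal.Quotient.eq_zero_iff_mem.mpr this]
      exact zero_smul Q (D (Ideal.Quotient.mk J (X l)))
    · simp
  refine ⟨?_⟩
  refine ⟨fun a b => ?_⟩
  suffices ∀ w : KaehlerDifferential A Q, w = 0 by rw [this a, this b]
  intro w
  have hw : w ∈ Submodule.span Q (Set.range D) := by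
    rw [KaehlerDifferential.span_range_derivation]; trivial
  induction hw using Submodule.span_induction with
  | mem y hy =>
    obtain ⟨q, rfl⟩ := hy
    obtain ⟨p, rfl⟩ := Ideal.Quotient.mk_surjective q
    rw [hchain]
    exact Finset.sum_eq_zero fun l _ => by rw [hX, smul_zero]
  | zero => rfl
  | add y z _ _ hy hz => rw [hy, hz, add_zero]
  | smul c y _ hy => rw [hy, smul_zero]

end

open TensorProduct in
/-- If R → S is unramified (of finite type with vanishing module of differentials), then there are a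
finite type ℤ-algebra R₀, an unramified R₀-algebra S₀, a ring map R₀ → R, and a surjective R-algebra
map from R ⊗_{R₀} S₀ onto S. -/
theorem result (R : Type u) [CommRing R] (S : Type u)
    [CommRing S] [Algebra R S] [Algebra.Unramified R S] :
    ∃ (R₀ : Type u) (_ : CommRing R₀) (_ : Algebra.FiniteType ℤ R₀) (S₀ : Type u) (_ : CommRing S₀)
      (_ : Algebra R₀ S₀) (_ : Algebra.Unramified R₀ S₀) (_ : Algebra R₀ R)
      (ψ : R ⊗[R₀] S₀ →ₐ[R] S), Function.Surjective ψ := by
  classical
  obtain ⟨n, π, hπ⟩ := Algebra.FiniteType.iff_quotient_mvPolynomial''.mp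
    (inferInstance : Algebra.FiniteType R S)
  let v : Fin n → S := fun i => π (MvPolynomial.X i)
  have hv : π = MvPolynomial.aeval v := MvPolynomial.algHom_ext fun i => by simp [v]
  let P : Algebra.Generators R S (Fin n) := Algebra.Generators.ofSurjective v (hv ▸ hπ)
  have hF : ∀ i, ∃ f : MvPolynomial (Fin n) R, π f = 0 ∧
      ∀ l, π (MvPolynomial.pderiv l f) = if i = l then 1 else 0 := by
    intro i
    haveI : Subsingleton (KaehlerDifferential R S) :=
      Algebra.FormallyUnramified.subsingleton_kaehlerDifferential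
    obtain ⟨c, hc⟩ := (P.toExtension.exact_cotangentComplex_toKaehler
      (P.cotangentSpaceBasis i)).mp (Subsingleton.elim _ _)
    obtain ⟨⟨f, hf⟩, rfl⟩ := Algebra.Extension.Cotangent.mk_surjective c
    refine ⟨f, hv ▸ hf, fun l => ?_⟩
    have h := congrArg (fun z => P.cotangentSpaceBasis.repr z l) hc
    simp only [Algebra.Extension.cotangentComplex_mk, Module.Basis.repr_self,
      Finsupp.single_apply] at h
    rw [hv]
    refine Eq.trans ?_ h
    exact (P.cotangentSpaceBasis_repr_one_tmul f l).symm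
  choose F hF0 hF1 using hF
  let G : Finset R := (Finset.univ : Finset (Fin n)).biUnion fun i =>
    (F i).coeffs
  let R₀ := Algebra.adjoin ℤ (G : Set R)
  haveI hft : Algebra.FiniteType ℤ R₀ :=
    (Subalgebra.fg_iff_finiteType R₀).mp (Subalgebra.fg_adjoin_finset G)
  have hlift : ∀ i, F i ∈ Set.range (MvPolynomial.map (algebraMap R₀ R)) := fun i => by
    refine MvPolynomial.mem_range_map_iff_coeffs_subset.mpr fun a ha => ?_
    exact ⟨⟨a, Algebra.subset_adjoin (Finset.mem_biUnion.mpr ⟨i, Finset.mem_univ i, ha⟩)⟩, rfl⟩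
  choose F₀ hF₀ using hlift
  let rel : Fin n ⊕ (Fin n × Fin n) → MvPolynomial (Fin n) R₀ :=
    Sum.elim F₀ fun il => MvPolynomial.pderiv il.2 (F₀ il.1) - if il.1 = il.2 then 1 else 0
  let J := Ideal.span (Set.range rel)
  let S₀ := MvPolynomial (Fin n) R₀ ⧸ J
  haveI : Algebra.FormallyUnramified R₀ S₀ := formallyUnramified_quotient J F₀
    (fun i => Ideal.subset_span ⟨Sum.inl i, rfl⟩) fun i l => Ideal.subset_span ⟨Sum.inr (i, l), rfl⟩
  haveI hS₀ : Algebra.Unramified R₀ S₀ := ⟨inferInstance, inferInstance⟩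
  let χ : MvPolynomial (Fin n) R₀ →ₐ[R₀] S := MvPolynomial.aeval v
  have hχ : ∀ p, χ p = π (MvPolynomial.map (algebraMap R₀ R) p) := fun p => by
    rw [hv]; exact (MvPolynomial.aeval_map_algebraMap R v p).symm
  have hJ : ∀ p ∈ J, χ p = 0 := fun p hp => by
    refine (Ideal.span_le.mpr ?_ : J ≤ RingHom.ker χ) hp
    rintro _ ⟨(i | ⟨i, l⟩), rfl⟩
    · show χ (F₀ i) = 0
      rw [hχ, hF₀, hF0]
    · show χ (MvPolynomial.pderiv l (F₀ i) - if i = l then 1 else 0) = 0
      rw [map_sub, hχ, ← MvPolynomial.pderiv_map, hF₀, hF1]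
      split_ifs <;> simp
  let χ' : S₀ →ₐ[R₀] S := Ideal.Quotient.liftₐ J χ hJ
  let ψ : R ⊗[R₀] S₀ →ₐ[R] S :=
    Algebra.TensorProduct.lift (Algebra.ofId R S) χ' fun _ _ => Commute.all _ _
  refine ⟨R₀, inferInstance, hft, S₀, inferInstance, inferInstance, hS₀, inferInstance, ψ, fun s => ?_⟩
  obtain ⟨p, rfl⟩ := hπ s
  induction p using MvPolynomial.induction_on with
  | C r => exact ⟨r ⊗ₜ 1, by simp [ψ]⟩
  | add p q hp hq =>
    obtain ⟨a, ha⟩ := hp
    obtain ⟨b, hb⟩ := hq
    exact ⟨a + b, by rw [map_add, map_add, ha, hb]⟩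
  | mul_X p i hp =>
    obtain ⟨a, ha⟩ := hp
    refine ⟨a * (1 ⊗ₜ Ideal.Quotient.mk J (MvPolynomial.X i)), ?_⟩
    rw [map_mul, map_mul, ha]
    simp [ψ, χ', χ, v]
    exact congrArg (π p * ·) (MvPolynomial.aeval_X (fun i => π (MvPolynomial.X i)) i)

end Groth.Agent.S9474
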