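import Groth.Statements.S9482
import Groth.Agent.H11Alg.General

set_option autoImplicit false
universe u
attribute [local instance] HasDerivedCategory.standard
open Pi1

namespace Groth.Agent.S9482

open AlgebraicGeometry CategoryTheory CategoryTheory.Limits in
/-- Essential surjectivity of restriction from the open neighbourhoods: Let A be a Noetherian local ring
with maximal ideal m and a dualizing complex, f ∈ m with A complete for the (f)-adic topology, U the
punctured spectrum of A and U₀ that of A/fA (realised as U ×_{Spec A} Spec(A/fA)). Assume either (a)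
A_f is (S_2) and dim(A/p) ≥ 4 for every minimal prime p of A with f ∉ p, or (b) depth(A_p) +
dim(A/p) > 3 for every prime p with f ∉ p such that V(p) meets V(f) outside the closed point. Then
for every finite etale cover V₀ of U₀ there are an open U' ⊆ U through which U₀ ⟶ Spec A factors (as
u') and a finite etale cover V' of U' whose restriction along u' is isomorphic to V₀. (The published
statement asserts that restriction from the system of all such U' to U₀ is an equivalence of
categories; this row states its essential-surjectivity half.) -/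
theorem result (A : Type u) [CommRing A] [IsNoetherianRing A] [IsLocalRing A] (f : A) (hf : f ∈ IsLocalRing.maximalIdeal A)
    (hd : ∃ ω : Dual.D A, Dual.IsDualizing A ω) [IsAdicComplete (Ideal.span {f}) A]
    (hc : ((LocCoh.HasSk 2 (Localization.Away f) (Localization.Away f) ∧
        ∀ p : Ideal A, p ∈ minimalPrimes A → f ∉ p → (4 : WithBot ℕ∞) ≤ ringKrullDim (A ⧸ p)) ∨
      (∀ p : Ideal A, ∀ _ : p.IsPrime, f ∉ p → (p ⊔ Ideal.span {f}).radical ≠ IsLocalRing.maximalIdeal A →
        (3 : WithBot ℕ∞) < (LocCoh.depth (Localization.AtPrime p) (Localization.AtPrime p) : WithBot ℕ∞) + ringKrullDim (A ⧸ p)))) :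
    ∀ V₀ : FEt.Cat (pullback (FEt.puncturedSpec A).ι (Spec.map (CommRingCat.ofHom (Ideal.Quotient.mk (Ideal.span {f}))))),
      ∃ (U' : (Spec (CommRingCat.of A)).Opens) (_ : U' ≤ (FEt.puncturedSpec A)) (u' : pullback (FEt.puncturedSpec A).ι (Spec.map (CommRingCat.ofHom (Ideal.Quotient.mk (Ideal.span {f})))) ⟶ (U' : Scheme.{u}))
        (_ : u' ≫ U'.ι = (pullback.fst (FEt.puncturedSpec A).ι (Spec.map (CommRingCat.ofHom (Ideal.Quotient.mk (Ideal.span {f})))) ≫ (FEt.puncturedSpec A).ι)) (V' : FEt.Cat (U' : Scheme.{u})),
        Nonempty ((FEt.restrict u').obj V' ≅ V₀) := by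
  exact Groth.Agent.H11Alg.exists_nhd_of_hasNhdExt A f (Groth.Agent.H11Alg.hasNhdExt f hf hd (hc.elim (fun h => Groth.Agent.H11Alg.depthCond_of_hasSk f hf hd h.1 h.2) id))

end Groth.Agent.S9482
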