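import Groth.Statements.S9485
import Groth.Agent.H18Et.FEtRestrict
import Mathlib.RingTheory.Ideal.KrullsHeightTheorem

set_option autoImplicit false
universe u
open Pi1

namespace Groth.Agent.S9485

open AlgebraicGeometry CategoryTheory CategoryTheory.Limits in
/-- Let A be a Noetherian local ring with maximal ideal m and f ∈ m, U the punctured spectrum of A and
U₀ that of A/fA (realised as U ×_{Spec A} Spec(A/fA)). Let U' ⊆ U be an open through which U₀ ⟶ Spec
A factors (as u'). If dim(A/p) ≥ 2 for every minimal prime p of A which lies in U' and does not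
contain f, then restriction of finite etale covers along u' is faithful. (Such U' exist, e.g. the
complement in U of the one-dimensional irreducible components not meeting U₀, and the condition
passes to smaller such opens, so restriction from the system of these opens is faithful.) -/
theorem result (A : Type u) [CommRing A] [IsNoetherianRing A] [IsLocalRing A] (f : A) (hf : f ∈ IsLocalRing.maximalIdeal A)
    (U' : (Spec (CommRingCat.of A)).Opens) (hU' : U' ≤ FEt.puncturedSpec A)
    (u' : pullback (FEt.puncturedSpec A).ι (Spec.map (CommRingCat.ofHom (Ideal.Quotient.mk (Ideal.span {f})))) ⟶ (U' : Scheme.{u})) (hu' : u' ≫ U'.ι = (pullback.fst (FEt.puncturedSpec A).ι (Spec.map (CommRingCat.ofHom (Ideal.Quotient.mk (Ideal.span {f})))) ≫ (FEt.puncturedSpec A).ι))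
    (hdim : ∀ p : PrimeSpectrum A, p.asIdeal ∈ minimalPrimes A → p ∈ U' → f ∉ p.asIdeal →
      (2 : WithBot ℕ∞) ≤ ringKrullDim (A ⧸ p.asIdeal)) :
    (FEt.restrict u').Faithful := by
  refine Groth.Agent.H18Et.FEtRestrict.faithful u' fun V hV ⟨x, hx⟩ => ?_
  -- the image of `u'`
  have hrange : ∀ q : PrimeSpectrum A, q ≠ IsLocalRing.closedPoint A → f ∈ q.asIdeal →
      ∃ hq : q ∈ U', (⟨q, hq⟩ : (U' : Scheme.{u})) ∈ Set.range u' := by
    intro q hqm hqf
    have h0 : q ∈ Set.range (PrimeSpectrum.comap (Ideal.Quotient.mk (Ideal.span {f}))) := by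
      rw [range_comap_of_surjective _ _ Ideal.Quotient.mk_surjective, Ideal.mk_ker,
        PrimeSpectrum.mem_zeroLocus]
      exact SetLike.coe_subset_coe.2 ((Ideal.span_singleton_le_iff_mem _).2 hqf)
    obtain ⟨y, hy⟩ := h0
    obtain ⟨z, hz, -⟩ := Scheme.Pullback.exists_preimage_pullback (f := (FEt.puncturedSpec A).ι)
      (g := Spec.map (CommRingCat.ofHom (Ideal.Quotient.mk (Ideal.span {f})))) ⟨q, hqm⟩ y hy.symm
    have h1 : q ∈ Set.range (pullback.fst (FEt.puncturedSpec A).ι
        (Spec.map (CommRingCat.ofHom (Ideal.Quotient.mk (Ideal.span {f})))) ≫ (FEt.puncturedSpec A).ι) :=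
      ⟨z, (Scheme.Hom.comp_apply _ _ _).trans (congrArg (FEt.puncturedSpec A).ι hz)⟩
    rw [← hu'] at h1
    obtain ⟨z, hz⟩ := h1
    exact ⟨hz ▸ (u' z).2, z, Subtype.ext hz⟩
  -- a minimal prime below `x`
  obtain ⟨P, hP, hPx⟩ := Ideal.exists_minimalPrimes_le (I := (⊥ : Ideal A)) (J := x.1.asIdeal) bot_le
  let p : PrimeSpectrum A := ⟨P, hP.1.1⟩
  have hpU : p ∈ U' := ((PrimeSpectrum.le_iff_specializes p x.1).1 hPx).mem_open U'.2 x.2
  have hpV : (⟨p, hpU⟩ : (U' : Scheme.{u})) ∈ V :=
    Specializes.mem_open (x := (⟨p, hpU⟩ : (U' : Scheme.{u})))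
      ((Scheme.Opens.ι U').isOpenEmbedding.isInducing.specializes_iff.1
        ((PrimeSpectrum.le_iff_specializes p x.1).1 hPx)) hV.2 hx
  by_cases hfp : f ∈ p.asIdeal
  · obtain ⟨hpU₂, hr⟩ := hrange p (hU' hpU) hfp
    exact ⟨_, hpV, hr⟩
  -- a prime in the closure of `p` containing `f`
  haveI : P.IsPrime := hP.1.1
  let B := A ⧸ P
  have hdim' : (2 : WithBot ℕ∞) ≤ ringKrullDim B := hdim p hP hpU hfp
  haveI : IsLocalRing B := IsLocalRing.of_surjective' _ Ideal.Quotient.mk_surjective
  haveI : IsLocalHom (Ideal.Quotient.mk P) := IsLocalHom.of_surjective _ Ideal.Quotient.mk_surjective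
  have hfm : Ideal.Quotient.mk P f ∈ IsLocalRing.maximalIdeal B :=
    map_nonunit (Ideal.Quotient.mk P) f hf
  obtain ⟨Q, hQ, -⟩ := Ideal.exists_minimalPrimes_le (I := Ideal.span {Ideal.Quotient.mk P f})
    (J := IsLocalRing.maximalIdeal B) ((Ideal.span_singleton_le_iff_mem _).2 hfm)
  haveI : Q.IsPrime := hQ.1.1
  have hQ1 : Q.height ≤ 1 :=
    Ideal.height_le_one_of_isPrincipal_of_mem_minimalPrimes (Ideal.span {Ideal.Quotient.mk P f}) Q hQ
  have hQm : Q ≠ IsLocalRing.maximalIdeal B := by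
    intro e
    subst e
    rw [← IsLocalRing.maximalIdeal_height_eq_ringKrullDim] at hdim'
    exact absurd (le_trans (WithBot.coe_le_coe.1 hdim' : (2 : ℕ∞) ≤ _) hQ1) (by decide)
  let q : PrimeSpectrum A := ⟨Q.comap (Ideal.Quotient.mk P), inferInstance⟩
  have hqm : q ≠ IsLocalRing.closedPoint A := by
    intro e
    refine hQm (IsLocalRing.eq_maximalIdeal ?_)
    have h1 : (Q.comap (Ideal.Quotient.mk P)).IsMaximal := by
      rw [show Q.comap (Ideal.Quotient.mk P) = IsLocalRing.maximalIdeal A from congrArg PrimeSpectrum.asIdeal e]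
      infer_instance
    rw [← Ideal.map_comap_of_surjective _ Ideal.Quotient.mk_surjective Q]
    exact (Ideal.map_eq_top_or_isMaximal_of_surjective _ Ideal.Quotient.mk_surjective h1).resolve_left (by
      rw [Ideal.map_comap_of_surjective _ Ideal.Quotient.mk_surjective Q]
      exact Ideal.IsPrime.ne_top')
  have hqf : f ∈ q.asIdeal := hQ.1.2 (Ideal.subset_span rfl)
  obtain ⟨hqU, hr⟩ := hrange q hqm hqf
  refine ⟨_, ?_, hr⟩
  refine Specializes.mem_closed (x := (⟨p, hpU⟩ : (U' : Scheme.{u}))) ?_ hV.1 hpV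
  refine (Scheme.Opens.ι U').isOpenEmbedding.isInducing.specializes_iff.1 ((PrimeSpectrum.le_iff_specializes p q).1 ?_)
  intro a ha
  show Ideal.Quotient.mk P a ∈ Q
  rw [Ideal.Quotient.eq_zero_iff_mem.2 ha]
  exact Q.zero_mem

end Groth.Agent.S9485
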