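import Groth.Statements.S9488
import Groth.Agent.H18PBC.NormEtale.CardCriterion

set_option autoImplicit false
universe u
open Pi1

namespace Groth.Agent.S9488

open AlgebraicGeometry CategoryTheory CategoryTheory.Limits in
/-- The criterion by the cardinality of a geometric fibre, in the local form its proof establishes: X is
an integral scheme with integrally closed local rings and function field K; L is a finite field
extension of K and ν : Y ⟶ X the normalization of X in Spec L. Let ξ : Spec Ω ⟶ X be a geometric
point (Ω algebraically closed) such that the fibre of ν over ξ is etale and ν has at least [L : K]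
distinct Ω-points lying over ξ. Then ν is finite etale over some open neighbourhood of the image of
ξ. Consequently ν is finite etale as soon as every scheme-theoretic fibre of ν is etale of degree at
least [L : K]. -/
theorem result {X : Scheme.{u}} [IsIntegral X] (hX : Pi1.IsNormalScheme X)
    (L : Type u) [Field L] [Algebra X.functionField L] [FiniteDimensional X.functionField L]
    [QuasiCompact (Spec.map (CommRingCat.ofHom (algebraMap X.functionField L)) ≫ X.fromSpecStalk (genericPoint X))] [QuasiSeparated (Spec.map (CommRingCat.ofHom (algebraMap X.functionField L)) ≫ X.fromSpecStalk (genericPoint X))]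
    (Ω : Type u) [Field Ω] [IsAlgClosed Ω] (ξ : Spec (CommRingCat.of Ω) ⟶ X)
    (het : Etale (pullback.snd (Spec.map (CommRingCat.ofHom (algebraMap X.functionField L)) ≫ X.fromSpecStalk (genericPoint X)).fromNormalization ξ))
    (hcard : Nonempty (Fin (Module.finrank X.functionField L) ↪
      {η : Spec (CommRingCat.of Ω) ⟶ (Spec.map (CommRingCat.ofHom (algebraMap X.functionField L)) ≫ X.fromSpecStalk (genericPoint X)).normalization // η ≫ (Spec.map (CommRingCat.ofHom (algebraMap X.functionField L)) ≫ X.fromSpecStalk (genericPoint X)).fromNormalization = ξ})) :
    ∃ U : X.Opens, Set.range ξ.base ⊆ (U : Set X) ∧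
      Etale (pullback.snd (Spec.map (CommRingCat.ofHom (algebraMap X.functionField L)) ≫ X.fromSpecStalk (genericPoint X)).fromNormalization U.ι) ∧
      IsFinite (pullback.snd (Spec.map (CommRingCat.ofHom (algebraMap X.functionField L)) ≫ X.fromSpecStalk (genericPoint X)).fromNormalization U.ι) := by
  obtain ⟨e⟩ := hcard
  exact Groth.Agent.H18PBC.NormEtale.exists_finite_etale_nhd L hX Ω ξ e

end Groth.Agent.S9488
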