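import Groth.Statements.S9491
import Groth.Agent.H18PBC.NormEtale.Basic

set_option autoImplicit false
universe u
open Pi1

namespace Groth.Agent.S9491

open AlgebraicGeometry CategoryTheory CategoryTheory.Limits in
/-- The essential image of restriction of finite etale covers from a normal integral scheme X to its
generic point Spec K consists of the finite etale K-schemes whose points are spectra of finite
extensions L of K in which X is unramified. Precisely: let L be a finite field extension of K and Y₀
the object Spec L → Spec K of the category of finite etale covers of Spec K; then Y₀ is isomorphic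
to the restriction of a finite etale cover of X if and only if the normalization of X in Spec L is
finite etale over X. (With full faithfulness of this restriction functor for normal X, this says
that the fundamental group of X is the Galois group of the union M of all finite subextensions of a
separable closure in which X is unramified.) -/
theorem result {X : Scheme.{u}} [IsIntegral X] (hX : Pi1.IsNormalScheme X)
    (L : Type u) [Field L] [Algebra X.functionField L] [FiniteDimensional X.functionField L]
    [QuasiCompact (Spec.map (CommRingCat.ofHom (algebraMap X.functionField L)) ≫ X.fromSpecStalk (genericPoint X))] [QuasiSeparated (Spec.map (CommRingCat.ofHom (algebraMap X.functionField L)) ≫ X.fromSpecStalk (genericPoint X))]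
    (Y₀ : FEt.Cat (Spec X.functionField)) (e : Y₀.left ≅ Spec (CommRingCat.of L))
    (he : e.hom ≫ Spec.map (CommRingCat.ofHom (algebraMap X.functionField L)) = Y₀.hom) :
    (FEt.restrict (X.fromSpecStalk (genericPoint X))).essImage Y₀ ↔
      (Etale (Spec.map (CommRingCat.ofHom (algebraMap X.functionField L)) ≫ X.fromSpecStalk (genericPoint X)).fromNormalization ∧ IsFinite (Spec.map (CommRingCat.ofHom (algebraMap X.functionField L)) ≫ X.fromSpecStalk (genericPoint X)).fromNormalization) := by
  let gen := X.fromSpecStalk (genericPoint X)
  constructor
  · rintro ⟨Z, ⟨i⟩⟩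
    let j : Y₀.left ≅ pullback Z.hom gen :=
      ((MorphismProperty.Over.forget FEt.prop ⊤ _).mapIso i.symm |> (CategoryTheory.Over.forget _).mapIso)
    have hj : j.hom ≫ pullback.snd Z.hom gen = Y₀.hom := Over.w i.symm.hom.hom
    refine Groth.Agent.H18PBC.NormEtale.etale_isFinite_of_cover L hX Z (e.inv ≫ j.hom) ?_
    rw [Category.assoc, hj, ← he, Iso.inv_hom_id_assoc]
  · rintro ⟨h₁, h₂⟩
    haveI := h₂
    obtain ⟨w, hw, hw'⟩ := Groth.Agent.H18PBC.NormEtale.exists_generic_fibre_iso (X := X) L
    refine ⟨MorphismProperty.Over.mk ⊤
      (Spec.map (CommRingCat.ofHom (algebraMap X.functionField L)) ≫ X.fromSpecStalk (genericPoint X)).fromNormalization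
      ⟨h₂, h₁⟩, ⟨(MorphismProperty.Over.isoMk (e ≪≫ @asIso _ _ _ _ w hw) ?_).symm⟩⟩
    show (e.hom ≫ w) ≫ pullback.snd _ _ = Y₀.hom
    rw [Category.assoc, hw', he]

end Groth.Agent.S9491
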