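import Groth.Statements.S9494
import Groth.Agent.H9InertiaEt.Main
-- import your own Groth.Agent.* helpers here

set_option autoImplicit false
universe u
open Pi1

namespace Groth.Agent.S9494

/-- Let A be an integrally closed domain with fraction field K, L/K a (possibly infinite) Galois
extension with group G = Gal(L/K), B the integral closure of A in L and q a prime of B. Let I ⊆ G be
the inertia group of q: the automorphisms σ with σ(b) - b ∈ q for every b ∈ B. Then the localization
of the ring of invariants B^I = B ∩ L^I at the prime q ∩ B^I is an ind-etale A-algebra, i.e. a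
filtered colimit of etale A-algebras. -/
theorem result (A K L : Type u) [CommRing A] [IsDomain A] [IsIntegrallyClosed A]
    [Field K] [Field L] [Algebra A K] [IsFractionRing A K] [Algebra K L] [Algebra A L] [IsScalarTower A K L]
    [IsGalois K L] (q : Ideal (integralClosure A L)) [q.IsPrime]
    (I : Subgroup (L ≃ₐ[K] L))
    (hI : ∀ σ : L ≃ₐ[K] L, σ ∈ I ↔ ∀ b : integralClosure A L, ∃ c ∈ q, (c : L) = σ b - b) :
    EtPBC.IsIndEtale A (Localization.AtPrime
      (q.comap (Subalgebra.inclusion
        (inf_le_left : integralClosure A L ⊓ (IntermediateField.fixedField I).toSubalgebra.restrictScalars A ≤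
          integralClosure A L)))) := by
  exact Groth.Agent.H9InertiaEt.isIndEtale q I hI

end Groth.Agent.S9494
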