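import Groth.Statements.S9500
import Groth.Agent.H17.Imports
import Mathlib.AlgebraicGeometry.ProjectiveSpectrum.Basic
import Mathlib.AlgebraicGeometry.Morphisms.Etale
import Mathlib.RingTheory.Smooth.StandardSmoothOfFree
import Mathlib.RingTheory.Unramified.LocalStructure

set_option autoImplicit false
universe u
open SchMor

namespace Groth.Agent.S9500

open CategoryTheory Limits AlgebraicGeometry TopologicalSpace

open AlgebraicGeometry in
open CategoryTheory Limits in
/-- Let (k_i)_{i ∈ ι} be a family of fields, X = ∐_i Spec(k_i) the disjoint union, and f : Y → X a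
monomorphism of schemes. Then there are a subset J of ι and an isomorphism Y ≅ ∐_{j ∈ J} Spec(k_j)
over X, where ∐_{j ∈ J} Spec(k_j) maps to X by the coproduct inclusions. -/
theorem result
    {ι : Type u} (k : ι → Type u) [∀ i, Field (k i)]
    {Y : Scheme.{u}} (f : Y ⟶ ∐ fun i => Spec (CommRingCat.of (k i))) [Mono f] :
    ∃ (J : Set ι) (e : Y ≅ ∐ fun j : J => Spec (CommRingCat.of (k j.1))),
      e.hom ≫ Sigma.desc (fun j : J => Sigma.ι (fun i => Spec (CommRingCat.of (k i))) j.1) = f := by
  let S := fun i => Spec (CommRingCat.of (k i))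
  let J : Set ι := {i | ∃ y : Y, f y ∈ (Sigma.ι S i).opensRange}
  have hsec : ∀ j : J, ∃ s : S j.1 ⟶ Y, s ≫ f = Sigma.ι S j.1 := by
    rintro ⟨j, y, hy⟩
    have hr : Set.range (Y.fromSpecResidueField y ≫ f) ⊆ Set.range (Sigma.ι S j) := by
      rintro _ ⟨t, rfl⟩
      rw [Scheme.Hom.comp_apply, Scheme.fromSpecResidueField_apply]
      exact hy
    let a := IsOpenImmersion.lift (Sigma.ι S j) _ hr
    have ha : a ≫ Sigma.ι S j = Y.fromSpecResidueField y ≫ f := IsOpenImmersion.lift_fac _ _ _
    have : Mono (a ≫ Sigma.ι S j) := ha ▸ inferInstance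
    have : Mono a := mono_of_mono a (Sigma.ι S j)
    obtain ⟨φ, hφ⟩ := Spec.map_surjective a
    have hepi : Epi φ := ⟨fun u v h => Spec.map_injective ((cancel_mono a).mp (by
      rw [← hφ, ← Spec.map_comp, ← Spec.map_comp, h]))⟩
    have hsurj : Function.Surjective φ.hom := by
      let := φ.hom.toAlgebra
      have hE : Algebra.IsEpi (k j) (Y.residueField y) := CommRingCat.epi_iff_epi.mp (show Epi (CommRingCat.ofHom (algebraMap (k j) (Y.residueField y))) from hepi)
      intro a
      by_contra! hne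
      have hnm : a ∉ LinearMap.range (Algebra.linearMap (k j) (Y.residueField y)) := fun ⟨c, hc⟩ => hne c hc
      obtain ⟨ψ, hψ1, hψ2⟩ := Submodule.exists_dual_map_eq_bot_of_notMem hnm inferInstance
      have h1 : ψ 1 = 0 := by
        have hm : ψ 1 ∈ Submodule.map ψ (LinearMap.range (Algebra.linearMap (k j) (Y.residueField y))) :=
          Submodule.mem_map_of_mem ⟨1, by simp⟩
        rwa [hψ2, Submodule.mem_bot] at hm
      have h2 := congrArg (fun t => TensorProduct.lid (k j) (Y.residueField y) (LinearMap.rTensor _ ψ t)) ((Algebra.isEpi_iff_forall_one_tmul_eq (k j) (Y.residueField y)).mp hE a)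
      simp only [LinearMap.rTensor_tmul, TensorProduct.lid_tmul, h1, zero_smul] at h2
      exact (smul_ne_zero hψ1 one_ne_zero) h2.symm
    have : IsIso φ := (ConcreteCategory.isIso_iff_bijective φ).mpr ⟨φ.hom.injective, hsurj⟩
    have : IsIso a := hφ ▸ inferInstance
    exact ⟨inv a ≫ Y.fromSpecResidueField y, by rw [Category.assoc, ← ha, IsIso.inv_hom_id_assoc]⟩
  choose s hs using hsec
  let d := Sigma.desc (fun j : J => Sigma.ι S j.1)
  have : IsOpenImmersion d := by
    apply isOpenImmersion_sigmaDesc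
    intro a b h
    have := disjoint_opensRange_sigmaι S a.1 b.1 (fun e => h (Subtype.ext e))
    rw [← Opens.coe_disjoint] at this
    exact this
  have hg : Sigma.desc s ≫ f = d := Sigma.hom_ext _ _ fun j => by
    rw [Sigma.ι_desc_assoc, hs, Sigma.ι_desc]
  have hr : Set.range f ⊆ Set.range d := by
    rintro _ ⟨y, rfl⟩
    obtain ⟨⟨i, x⟩, hx⟩ := (sigmaMk S).surjective (f y)
    rw [sigmaMk_mk] at hx
    let j : J := ⟨i, y, x, hx⟩
    refine ⟨Sigma.ι (fun j : J => S j.1) j x, ?_⟩
    rw [← Scheme.Hom.comp_apply, Sigma.ι_desc]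
    exact hx
  let l := IsOpenImmersion.lift d f hr
  have hl : l ≫ d = f := IsOpenImmersion.lift_fac _ _ _
  refine ⟨J, ⟨l, Sigma.desc s, ?_, ?_⟩, hl⟩
  · rw [← cancel_mono f, Category.assoc, hg, hl, Category.id_comp]
  · rw [← cancel_mono d, Category.assoc, hl, hg, Category.id_comp]

end Groth.Agent.S9500
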