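import Groth.Statements.S9502
import Groth.Agent.H17.Imports
import Mathlib.AlgebraicGeometry.Morphisms.ClosedImmersion

set_option autoImplicit false
universe u
open SchMor

namespace Groth.Agent.S9502

open CategoryTheory AlgebraicGeometry TopologicalSpace Opposite

open AlgebraicGeometry in
open CategoryTheory in
/-- Let f : X → Y be a morphism of schemes such that (1) the underlying continuous map of f is a
homeomorphism onto a closed subset of Y and (2) the map of sheaves of rings O_Y → f_*O_X is
surjective (locally surjective on sections). Then f is a closed immersion in the sense of locally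
ringed spaces: (1) and (2) hold and (3) the kernel of O_Y → f_*O_X is locally generated by sections,
i.e. around every point of Y there are sections of O_Y killed in f_*O_X whose germs generate the
kernel of the stalk map O_{Y,y} → (f_*O_X)_y at every nearby point y. (For a morphism of schemes (1)
and (2) alone already give surjective stalk maps; the content of this row is condition (3).) -/
theorem result
    {X Y : Scheme.{u}} (f : X ⟶ Y) (h1 : Topology.IsClosedEmbedding f)
    (h2 : TopCat.Presheaf.IsLocallySurjective f.c) :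
    LRSImm.IsClosedImmersion f.toLRSHom := by
  refine ⟨h1, h2, ?_⟩
  have hs : ∀ x : X, Function.Surjective (f.stalkMap x) := by
    intro x
    have hx := (TopCat.Presheaf.locally_surjective_iff_surjective_on_stalks f.c).1 h2 (f x)
    haveI : IsIso (X.presheaf.stalkPushforward CommRingCat f.base x) :=
      TopCat.Presheaf.stalkPushforward.stalkPushforward_iso_of_isInducing
        CommRingCat h1.isInducing X.presheaf x
    intro b
    obtain ⟨c, hc⟩ := (ConcreteCategory.bijective_of_isIso
      (X.presheaf.stalkPushforward CommRingCat f.base x)).2 b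
    obtain ⟨a, ha⟩ := hx c
    refine ⟨a, ?_⟩
    show X.presheaf.stalkPushforward CommRingCat f.base x
      ((TopCat.Presheaf.stalkFunctor CommRingCat (f x)).map f.c a) = b
    rw [ha]; exact hc
  haveI : SurjectiveOnStalks f := ⟨hs⟩
  haveI : AlgebraicGeometry.IsClosedImmersion f := { isClosedEmbedding := h1 }
  intro x
  obtain ⟨U, hU, hxU, -⟩ := exists_isAffineOpen_mem_and_subset (U := (⊤ : Y.Opens)) (x := x) trivial
  refine ⟨U, hxU, {a : Γ(Y, U) // f.app U a = 0}, fun a => a.1, fun a => a.2, fun x' hx' => ?_⟩
  refine le_antisymm (Ideal.span_le.2 ?_) (fun b hb => ?_)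
  · rintro _ ⟨⟨a, ha⟩, rfl⟩
    show (TopCat.Presheaf.stalkFunctor CommRingCat x').map f.c (Y.presheaf.germ U x' hx' a) = 0
    refine (TopCat.Presheaf.stalkFunctor_map_germ_apply U x' hx' f.c a).trans ?_
    refine Eq.trans ?_ (map_zero ((f.base _* X.presheaf).germ U x' hx').hom)
    exact congrArg _ ha
  · have hb : ((TopCat.Presheaf.stalkFunctor CommRingCat x').map f.c).hom b = 0 := hb
    letI := TopCat.Presheaf.algebra_section_stalk Y.presheaf (⟨x', hx'⟩ : U)
    haveI := hU.isLocalization_stalk ⟨x', hx'⟩
    obtain ⟨⟨a, v⟩, hav⟩ := IsLocalization.surj (hU.primeIdealOf ⟨x', hx'⟩).asIdeal.primeCompl b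
    have hv : IsUnit (Y.presheaf.germ U x' hx' v.1) := IsLocalization.map_units (Y.presheaf.stalk x') v
    have hav' : b * Y.presheaf.germ U x' hx' v.1 = Y.presheaf.germ U x' hx' a := hav
    have h0 : (f.base _* X.presheaf).germ U x' hx' (f.app U a) = 0 := by
      refine (TopCat.Presheaf.stalkFunctor_map_germ_apply U x' hx' f.c a).symm.trans ?_
      rw [← hav']
      show ((TopCat.Presheaf.stalkFunctor CommRingCat x').map f.c).hom _ = 0
      exact (RingHom.map_mul _ _ _).trans ((congrArg (· * _) hb).trans (zero_mul _))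
    obtain ⟨W, hxW, i, j, hW⟩ := (f.base _* X.presheaf).germ_eq x' hx' hx' _ _
      (h0.trans (map_zero ((f.base _* X.presheaf).germ U x' hx').hom).symm)
    obtain ⟨t, htW, hxt⟩ := hU.exists_basicOpen_le (V := W) ⟨x', hxW⟩ hx'
    have hW' : X.presheaf.map (homOfLE (fun z hz => htW hz : f ⁻¹ᵁ Y.basicOpen t ≤ f ⁻¹ᵁ W)).op
        (X.presheaf.map (homOfLE (fun z hz => i.le hz : f ⁻¹ᵁ W ≤ f ⁻¹ᵁ U)).op (f.app U a)) = 0 := by
      refine Eq.trans (congrArg _ (hW.trans (map_zero _))) ?_
      exact map_zero _
    rw [← ConcreteCategory.comp_apply, ← Functor.map_comp] at hW'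
    have hfU : IsAffineOpen (f ⁻¹ᵁ U) := hU.preimage f
    have hloc := hfU.isLocalization_basicOpen (f.app U t)
    have hle2 : X.basicOpen (f.app U t) ≤ f ⁻¹ᵁ Y.basicOpen t := (Scheme.preimage_basicOpen f t).ge
    have h3 : X.presheaf.map (homOfLE (X.basicOpen_le (f.app U t))).op (f.app U a) = 0 := by
      have := congrArg (X.presheaf.map (homOfLE hle2).op) hW'
      rw [map_zero, ← ConcreteCategory.comp_apply, ← Functor.map_comp] at this
      exact this
    obtain ⟨⟨_, n, rfl⟩, hn⟩ := (IsLocalization.map_eq_zero_iff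
      (Submonoid.powers (f.app U t)) Γ(X, X.basicOpen (f.app U t)) _).1 h3
    have hker : f.app U (t ^ n * a) = 0 := by rw [map_mul, map_pow]; exact hn
    have ht : IsUnit (Y.presheaf.germ U x' hx' t) := (Y.mem_basicOpen t x' hx').1 hxt
    have hmem : Y.presheaf.germ U x' hx' (t ^ n * a) ∈
        Ideal.span (Set.range fun a : {a : Γ(Y, U) // f.app U a = 0} => Y.presheaf.germ U x' hx' a.1) :=
      Ideal.subset_span ⟨⟨_, hker⟩, rfl⟩
    rw [map_mul, map_pow, Ideal.unit_mul_mem_iff_mem _ (ht.pow n), ← hav',
      Ideal.mul_unit_mem_iff_mem _ hv] at hmem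
    exact hmem

end Groth.Agent.S9502
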