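import Groth.Statements.S9503
import Groth.Agent.H29Ref.HomSections
import Groth.Agent.H10Coh.SheafHom.Adj
import Groth.Agent.H06EGA9.FlatModel
-- import your own Groth.Agent.* helpers here

set_option autoImplicit false
universe u
open AffSch

namespace Groth.Agent.S9503

open AlgebraicGeometry in
open CategoryTheory in
/-- Let A be a commutative ring, M a finitely presented A-module and N an A-module, with associated
O_X-modules M~ and N~ on X = Spec A, and let Hom_{O_X}(M~, -) denote the sheaf-Hom functor (the
right adjoint of M~ ⊗ -, assumed to exist). Then Hom_{O_X}(M~, N~) is isomorphic to the O_X-module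
associated to the A-module Hom_A(M, N) (existence of an isomorphism only; the prelude's sheaf Hom is
a chosen right adjoint, so no particular map is singled out). -/
theorem result
    (A : Type u) [CommRing A] (M N : Type u) [AddCommGroup M] [Module A M]
    [Module.FinitePresentation A M] [AddCommGroup N] [Module A N]
    [DCoh.HasSheafHom (tilde (R := CommRingCat.of A) (ModuleCat.of A M))] :
    Nonempty ((DCoh.sheafHom (tilde (R := CommRingCat.of A) (ModuleCat.of A M))).obj
        (tilde (R := CommRingCat.of A) (ModuleCat.of A N)) ≅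
      tilde (R := CommRingCat.of A) (ModuleCat.of A (M →ₗ[A] N))) := by
  let R : CommRingCat := CommRingCat.of A
  let M' : ModuleCat R := ModuleCat.of A M
  let N' : ModuleCat R := ModuleCat.of A N
  haveI : Module.FinitePresentation R M' := ‹Module.FinitePresentation A M›
  have hM : CohB1.IsFP (tilde M') := Groth.Agent.H06EGA9.isFP_tilde M'
  let H := RefHull.homSh (tilde M') (tilde N')
  have hFq : Coh.IsQCoh (tilde M') := (inferInstance : (tilde M').IsQuasicoherent)
  have hG : Coh.IsQCoh (tilde N') := (inferInstance : (tilde N').IsQuasicoherent)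
  have hH : Coh.IsQCoh H := Groth.Agent.H29Ref.isQCoh_homSh _ _ hM hG
  haveI : H.IsQuasicoherent := hH
  let eM : M →+ Γ(tilde M', ⊤) := (tilde.isoTop M').hom.hom.toAddMonoidHom
  let eM' : Γ(tilde M', ⊤) →+ M := (tilde.isoTop M').inv.hom.toAddMonoidHom
  let eN : N →+ Γ(tilde N', ⊤) := (tilde.isoTop N').hom.hom.toAddMonoidHom
  let eN' : Γ(tilde N', ⊤) →+ N := (tilde.isoTop N').inv.hom.toAddMonoidHom
  let eR : A →+* Γ(Spec R, ⊤) := (Scheme.ΓSpecIso R).inv.hom
  have hM₁ : ∀ x, eM' (eM x) = x := fun x =>
    ConcreteCategory.congr_hom (tilde.isoTop M').hom_inv_id x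
  have hM₂ : ∀ x, eM (eM' x) = x := fun x =>
    ConcreteCategory.congr_hom (tilde.isoTop M').inv_hom_id x
  have hN₁ : ∀ x, eN' (eN x) = x := fun x =>
    ConcreteCategory.congr_hom (tilde.isoTop N').hom_inv_id x
  have hN₂ : ∀ x, eN (eN' x) = x := fun x =>
    ConcreteCategory.congr_hom (tilde.isoTop N').inv_hom_id x
  have hsM : ∀ (a : A) x, eM (a • x) = eR a • eM x := fun a x =>
    ((tilde.isoTop M').hom.hom.map_smul a x).trans rfl
  have hsN : ∀ (a : A) x, eN' (eR a • x) = a • eN' x := fun a x =>
    Eq.trans rfl ((tilde.isoTop N').inv.hom.map_smul a x)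
  let S : ModuleCat R := (modulesSpecToSheaf.obj H).presheaf.obj (Opposite.op ⊤)
  let T := Groth.Agent.H29Ref.toLinₗ (tilde M') (tilde N') ⊤
  let φ : S →ₗ[A] (M →ₗ[A] N) :=
    { toFun := fun f =>
        { toFun := fun x => eN' (T f (eM x))
          map_add' := fun x y => by simp only [map_add]
          map_smul' := fun a x => by rw [RingHom.id_apply, hsM, map_smul, hsN] }
      map_add' := fun f g => LinearMap.ext fun x => by
        show eN' (T (f + g) (eM x)) = eN' (T f (eM x)) + eN' (T g (eM x))
        rw [← map_add]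
        exact congrArg eN' (LinearMap.congr_fun (T.map_add f g) (eM x))
      map_smul' := fun a f => LinearMap.ext fun x => by
        show eN' (T (a • f) (eM x)) = a • eN' (T f (eM x))
        rw [← hsN]
        exact congrArg eN' (LinearMap.congr_fun (T.map_smul (eR a) f) (eM x)) }
  have hbij := Groth.Agent.H29Ref.bijective_toLinₗ (tilde M') (tilde N') hFq (isAffineOpen_top (Spec R))
  have hφ : Function.Bijective φ := by
    refine ⟨fun f g h => hbij.1 (LinearMap.ext fun m => ?_), fun ψ => ?_⟩
    · have h1 := LinearMap.congr_fun h (eM' m)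
      change eN' (T f (eM (eM' m))) = eN' (T g (eM (eM' m))) at h1
      rw [hM₂] at h1
      exact Function.LeftInverse.injective hN₂ h1
    · have hsM' : ∀ (a : A) y, eM' (eR a • y) = a • eM' y := fun a y =>
        Eq.trans rfl ((tilde.isoTop M').inv.hom.map_smul a y)
      have hsN₀ : ∀ (a : A) x, eN (a • x) = eR a • eN x := fun a x =>
        ((tilde.isoTop N').hom.hom.map_smul a x).trans rfl
      obtain ⟨f, hf⟩ := hbij.2
        { toFun := fun m => eN (ψ (eM' m))
          map_add' := fun x y => by simp only [map_add]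
          map_smul' := fun r y => by
            obtain ⟨a, rfl⟩ : ∃ a, eR a = r :=
              ⟨_, ConcreteCategory.congr_hom (Scheme.ΓSpecIso R).hom_inv_id r⟩
            rw [RingHom.id_apply, hsM', map_smul, hsN₀] }
      refine ⟨f, LinearMap.ext fun x => ?_⟩
      show eN' (T f (eM x)) = ψ x
      rw [LinearMap.congr_fun hf (eM x)]
      show eN' (eN (ψ (eM' (eM x)))) = ψ x
      rw [hN₁, hM₁]
  have e : S ≅ (ModuleCat.of A (M →ₗ[A] N) : ModuleCat R) :=
    (LinearEquiv.ofBijective φ hφ).toModuleIso
  haveI : IsIso (Scheme.Modules.fromTildeΓ (R := R) H) :=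
    Scheme.Modules.isIso_fromTildeΓ_of_isQuasicoherent H
  exact ⟨Groth.Agent.H10Coh.SheafHom.homShIso _ _ ≪≫
    (asIso (Scheme.Modules.fromTildeΓ (R := R) H)).symm ≪≫ (tilde.functor R).mapIso e⟩

end Groth.Agent.S9503
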