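import Groth.Statements.S9506
import Groth.Agent.H17.LrsScheme
import Mathlib.AlgebraicGeometry.Morphisms.ClosedImmersion

set_option autoImplicit false
universe u
open LRSImm

namespace Groth.Agent.S9506

open CategoryTheory AlgebraicGeometry TopologicalSpace Opposite

open AlgebraicGeometry in
open CategoryTheory Opposite in
/-- Let R be a commutative ring and i : Z → Spec R a closed immersion of locally ringed spaces (a
homeomorphism onto a closed subset such that O → i_*O_Z is surjective as a map of sheaves with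
kernel locally generated by sections). Let I ⊆ R be the kernel of the composite R = Γ(Spec R, O) →
Γ(Z, O_Z). Then Z is identified with Spec(R/I) over Spec R: there is an isomorphism of locally
ringed spaces Z ≅ Spec(R/I) whose composite with the morphism Spec(R/I) → Spec R induced by R → R/I
is i (in particular the ideal I with this property is unique). -/
theorem result
    (R : Type u) [CommRing R] (Z : LocallyRingedSpace.{u})
    (i : Z ⟶ (Spec (CommRingCat.of R)).toLocallyRingedSpace) (hi : LRSImm.IsClosedImmersion i)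
    (I : Ideal R)
    (hI : I = RingHom.ker ((Scheme.ΓSpecIso (CommRingCat.of R)).inv ≫ i.c.app (op ⊤)).hom) :
    ∃ e : Z ≅ (Spec (CommRingCat.of (R ⧸ I))).toLocallyRingedSpace,
      e.hom ≫ (Spec.map (CommRingCat.ofHom (Ideal.Quotient.mk I))).toLRSHom = i := by
  obtain ⟨Z', e, he⟩ := Groth.Agent.H17.Lrs.exists_scheme_iso i hi
  set f : Z' ⟶ Spec (CommRingCat.of R) := Scheme.Hom.mk (e.hom ≫ i) with hf
  haveI := he
  obtain ⟨h₁, h₂⟩ := IsClosedImmersion.isAffine_surjective_of_isAffine f
  let φ := (Scheme.ΓSpecIso (CommRingCat.of R)).inv ≫ f.appTop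
  have hker : RingHom.ker φ.hom = I := by
    rw [hI]
    ext r
    simp only [RingHom.mem_ker]
    set b := i.c.app (op ⊤) ((Scheme.ΓSpecIso (CommRingCat.of R)).inv r)
    show e.hom.c.app (op (Groth.Agent.H17.Lrs.pre i ⊤)) b = 0 ↔ b = 0
    constructor
    · intro h
      have hhom : IsIso e.hom := inferInstance
      have h3 : (e.inv ≫ e.hom).c.app (op (Groth.Agent.H17.Lrs.pre i ⊤)) b = 0 := by
        show e.inv.c.app _ (e.hom.c.app _ b) = 0
        exact (congrArg _ h).trans (map_zero _)
      have hid : ∀ (m : Z ⟶ Z), m = 𝟙 Z →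
          m.c.app (op (Groth.Agent.H17.Lrs.pre i ⊤)) b = 0 → b = 0 := by
        rintro _ rfl h; exact h
      exact hid _ e.inv_hom_id h3
    · intro h
      rw [h, map_zero]
  obtain ⟨J, e', he'⟩ := IsClosedImmersion.Spec_iff.1 he
  have hJ : J = I := by
    rw [← hker]
    have hφ : φ = CommRingCat.ofHom (Ideal.Quotient.mk J) ≫
        ((Scheme.ΓSpecIso (CommRingCat.of (R ⧸ J))).inv ≫ e'.hom.appTop) := by
      show (Scheme.ΓSpecIso (CommRingCat.of R)).inv ≫ f.appTop = _
      rw [show f = _ from he', Scheme.Hom.comp_appTop, Scheme.ΓSpecIso_inv_naturality_assoc]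
    haveI : IsIso e'.hom.appTop := inferInstanceAs (IsIso (e'.hom.app ⊤))
    haveI : IsIso ((Scheme.ΓSpecIso (CommRingCat.of (R ⧸ J))).inv ≫ e'.hom.appTop) := inferInstance
    rw [hφ, CommRingCat.hom_comp, RingHom.ker_comp_of_injective _ (ConcreteCategory.bijective_of_isIso
      ((Scheme.ΓSpecIso (CommRingCat.of (R ⧸ J))).inv ≫ e'.hom.appTop)).1]
    exact Ideal.mk_ker.symm
  subst hJ
  refine ⟨e.symm ≪≫ Scheme.forgetToLocallyRingedSpace.mapIso e', ?_⟩
  have h := congrArg Scheme.Hom.toLRSHom he'
  change e.hom ≫ i = e'.hom.toLRSHom ≫ _ at h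
  rw [Iso.trans_hom, Category.assoc]
  show e.inv ≫ e'.hom.toLRSHom ≫ _ = i
  rw [← h, Iso.inv_hom_id_assoc]

end Groth.Agent.S9506
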