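import Groth.Statements.S9509
import Groth.Agent.H17.Imports

set_option autoImplicit false
universe u
open SchMor

namespace Groth.Agent.S9509

open CategoryTheory Limits AlgebraicGeometry TopologicalSpace

open AlgebraicGeometry in
open CategoryTheory in
/-- (3) ⇒ (1): Let f : X → S be a morphism of schemes. Suppose S is covered by affine opens W_i, each
preimage f⁻¹(W_i) is covered by affine opens V_{i,j}, and any two V_{i,j}, V_{i,j'} with the same
index i meet in a quasi-compact open (one covered by finitely many affine opens). Then f is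
quasi-separated. -/
theorem result
    {X S : Scheme.{u}} (f : X ⟶ S) {ι : Type u} (W : ι → S.affineOpens)
    (hW : ⨆ i, (W i : S.Opens) = ⊤) {κ : ι → Type u} (V : ∀ i, κ i → X.affineOpens)
    (hV : ∀ i, ⨆ j, (V i j : X.Opens) = f ⁻¹ᵁ (W i : S.Opens))
    (hVV : ∀ i (j j' : κ i), IsCompact ((V i j : Set X) ∩ (V i j' : Set X))) :
    QuasiSeparated f := by
  rw [IsZariskiLocalAtTarget.iff_of_iSup_eq_top (P := @QuasiSeparated) _ hW]
  intro i
  have : IsAffine (W i : S.Opens).toScheme := (W i).2
  rw [HasAffineProperty.iff_of_isAffine (P := @QuasiSeparated)]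
  set j := (f ⁻¹ᵁ (W i : S.Opens)).ι with hj
  have hle : ∀ k, ((V i k : X.Opens) : Set X) ⊆ Set.range j := fun k => by
    rw [Scheme.Opens.range_ι]
    exact SetLike.coe_subset_coe.mpr ((le_iSup (fun l => (V i l : X.Opens)) k).trans (hV i).le)
  refine Scheme.quasiSeparatedSpace_of_isOpenCover (fun k => j ⁻¹ᵁ (V i k : X.Opens)) ?_
    (fun k => (V i k).2.preimage_of_isOpenImmersion j (by simpa using SetLike.coe_subset_coe.mp (by simpa [Scheme.Hom.opensRange] using hle k))) fun k l => ?_
  · refine eq_top_iff.mpr fun x _ => ?_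
    have : j x ∈ ⨆ l, (V i l : X.Opens) := by rw [hV i]; exact x.2
    obtain ⟨l, hl⟩ := Opens.mem_iSup.mp this
    exact Opens.mem_iSup.mpr ⟨l, hl⟩
  · rw [j.isEmbedding.isCompact_iff]
    have : j '' ((j ⁻¹ᵁ (V i k : X.Opens) : Set _) ∩ (j ⁻¹ᵁ (V i l : X.Opens) : Set _)) =
        (V i k : Set X) ∩ (V i l : Set X) := by
      show j '' (j ⁻¹' _ ∩ j ⁻¹' _) = _
      rw [← Set.preimage_inter]
      exact Set.image_preimage_eq_of_subset (subset_trans Set.inter_subset_left (hle k))
    rw [this]; exact hVV i k l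

end Groth.Agent.S9509
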