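import Groth.Statements.S9511
import Groth.Agent.H17.Imports

set_option autoImplicit false
universe u
open LRSImm

namespace Groth.Agent.S9511

open CategoryTheory Limits AlgebraicGeometry TopologicalSpace Opposite

open AlgebraicGeometry in
open CategoryTheory TopologicalSpace in
/-- Let X be a locally ringed space and U, V ⊆ X open with X = U ⊔ V (they cover X and are disjoint),
such that the open subspaces X|_U and X|_V are affine schemes. Then X is an affine scheme: the
canonical morphism X → Spec Γ(X, O_X) is an isomorphism of locally ringed spaces. -/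
theorem result
    (X : LocallyRingedSpace.{u}) (U V : Opens X.toTopCat) (hUV : IsCompl U V)
    (A B : CommRingCat.{u})
    (eU : X.restrict U.isOpenEmbedding ≅ (Spec A).toLocallyRingedSpace)
    (eV : X.restrict V.isOpenEmbedding ≅ (Spec B).toLocallyRingedSpace) :
    IsIso X.toΓSpec := by
  let Y : Scheme.{u} := ⟨X, fun x => by
    have hx : x ∈ U ⊔ V := by rw [hUV.sup_eq_top]; trivial
    rcases hx with hx | hx
    · exact ⟨⟨U, hx⟩, A, ⟨eU⟩⟩
    · exact ⟨⟨V, hx⟩, B, ⟨eV⟩⟩⟩
  have h : ∀ (W : Opens X.toTopCat) (R : CommRingCat.{u})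
      (e : X.restrict W.isOpenEmbedding ≅ (Spec R).toLocallyRingedSpace), IsAffineOpen (X := Y) W := by
    intro W R e
    let W' : Y.Opens := W
    exact IsAffine.of_isIso (Scheme.fullyFaithfulForgetToLocallyRingedSpace.preimageIso
      (X := W'.toScheme) (Y := Spec R) e).hom
  have hYa : IsAffineOpen (⊤ : Y.Opens) := by
    have := IsAffineOpen.sup_of_disjoint (X := Y) (h U A eU) (h V B eV) hUV.disjoint
    rwa [show (U ⊔ V : Y.Opens) = ⊤ from hUV.sup_eq_top] at this
  have : IsAffine (⊤ : Y.Opens).toScheme := hYa
  have : IsAffine Y := IsAffine.of_isIso Y.topIso.inv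
  exact inferInstanceAs (IsIso (Scheme.forgetToLocallyRingedSpace.map Y.toSpecΓ))

end Groth.Agent.S9511
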