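import Groth.Statements.S9513
import Groth.Agent.H17.AffBasis.Main
-- import your own Groth.Agent.* helpers here

set_option autoImplicit false
universe u
open SchMor

namespace Groth.Agent.S9513

open AlgebraicGeometry in
open CategoryTheory TopologicalSpace Opposite in
/-- (1) ⇔ (3): Let X be a scheme and B the set of affine opens of X, ordered by inclusion; let F be a
presheaf of sets on B (a functor on Bᵒᵖ) and E ∈ B the empty open. Then F is isomorphic to the
restriction to B of a sheaf of sets on X if and only if (a) F(∅) is a singleton and (b) for all U ∈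
B and sections f, g of O_X over U with U = D(f) ∪ D(g), writing V = D(f), W = D(g) and V ∩ W = D(fg)
(all in B), the map F(U) → F(V) × F(W) is injective with image exactly the pairs (s, t) whose
restrictions to D(fg) agree. (The order relations V, W ≤ U and D(fg) ≤ V, W are supplied as
hypotheses; they follow from the equations.) -/
theorem result (X : Scheme.{u})
    (F : (X.affineOpens)ᵒᵖ ⥤ Type u) (E : X.affineOpens) (hE : (E : X.Opens) = ⊥) :
    (∃ G : TopCat.Sheaf (Type u) X.carrier,
        Nonempty ((Monotone.functor (f := fun U : X.affineOpens => (U : X.Opens)) (fun _ _ h => h)).op ⋙ G.1 ≅ F)) ↔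
    ((Nonempty (F.obj (op E)) ∧ Subsingleton (F.obj (op E))) ∧
      ∀ (U V W VW : X.affineOpens) (f g : Γ(X, (U : X.Opens))),
        (V : X.Opens) = X.basicOpen f → (W : X.Opens) = X.basicOpen g →
        (VW : X.Opens) = X.basicOpen (f * g) → (U : X.Opens) = (V : X.Opens) ⊔ (W : X.Opens) →
        ∀ (hV : V ≤ U) (hW : W ≤ U) (h1 : VW ≤ V) (h2 : VW ≤ W),
        Function.Injective (fun s : F.obj (op U) => (F.map (homOfLE hV).op s, F.map (homOfLE hW).op s)) ∧
        Set.range (fun s : F.obj (op U) => (F.map (homOfLE hV).op s, F.map (homOfLE hW).op s)) =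
          {p | F.map (homOfLE h1).op p.1 = F.map (homOfLE h2).op p.2}) := by
  constructor
  · rintro ⟨G, ⟨α⟩⟩
    let e : ∀ U : X.affineOpens, G.1.obj (op (U : X.Opens)) ≅ F.obj (op U) :=
      fun U => α.app (op U)
    have nat : ∀ {U V : X.affineOpens} (h : V ≤ U) (s : G.1.obj (op (U : X.Opens))),
        (e V).hom (G.1.map (homOfLE (show (V : X.Opens) ≤ (U : X.Opens) from h)).op s) =
          F.map (homOfLE h).op ((e U).hom s) :=
      fun {U V} h s => ConcreteCategory.congr_hom (α.hom.naturality (homOfLE h).op) s
    have hinv : ∀ (U : X.affineOpens) (s : F.obj (op U)), (e U).hom ((e U).inv s) = s :=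
      fun U s => ConcreteCategory.congr_hom (e U).inv_hom_id s
    have hinj : ∀ (U : X.affineOpens), Function.Injective ((e U).hom) := fun U =>
      Function.LeftInverse.injective (g := (e U).inv)
        (fun s => ConcreteCategory.congr_hom (e U).hom_inv_id s)
    refine ⟨?_, ?_⟩
    · have hG : ∃! s : G.1.obj (op (E : X.Opens)), ∀ i : PEmpty.{u + 1},
          G.1.map (homOfLE (show (⊥ : X.Opens) ≤ (E : X.Opens) from bot_le)).op s =
            (i.elim : G.1.obj (op ⊥)) :=
        G.existsUnique_gluing' (fun _ : PEmpty.{u + 1} => (⊥ : X.Opens)) (E : X.Opens)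
          (fun _ => homOfLE bot_le) (by rw [hE]; exact bot_le) (fun i => i.elim) (fun i => i.elim)
      obtain ⟨s, -, hs⟩ := hG
      refine ⟨⟨(e E).hom s⟩, ⟨fun a b => ?_⟩⟩
      rw [← hinv E a, ← hinv E b, hs ((e E).inv a) (fun i => i.elim),
        hs ((e E).inv b) (fun i => i.elim)]
    · intro U V W VW f g eV eW eVW eU hV hW h1 h2
      let O : ULift.{u} Bool → X.Opens := fun b => match b.down with
        | true => (V : X.Opens)
        | false => (W : X.Opens)
      have hO : ∀ b, O b ≤ (U : X.Opens) := fun b => match b with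
        | ⟨true⟩ => hV
        | ⟨false⟩ => hW
      have hc : (U : X.Opens) ≤ iSup O := by
        rw [eU]
        exact sup_le (le_iSup O ⟨true⟩) (le_iSup O ⟨false⟩)
      refine ⟨fun s t hst => ?_, Set.ext fun p => ⟨?_, fun hp => ?_⟩⟩
      · obtain ⟨hst₁, hst₂⟩ := Prod.ext_iff.1 hst
        rw [← hinv U s, ← hinv U t]
        refine congrArg (e U).hom (TopCat.Sheaf.eq_of_locally_eq' G O (U : X.Opens)
          (fun b => homOfLE (hO b)) hc _ _ fun b => ?_)
        rcases b with ⟨_ | _⟩
        · exact hinj W (by rw [nat hW, nat hW, hinv, hinv]; exact hst₂)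
        · exact hinj V (by rw [nat hV, nat hV, hinv, hinv]; exact hst₁)
      · rintro ⟨s, rfl⟩
        simp only [Set.mem_setOf_eq]
        rw [← hinv U s, ← nat hV, ← nat hW, ← nat h1, ← nat h2]
        refine congrArg (e VW).hom ?_
        simp only [← FunctorToTypes.map_comp_apply]
        rfl
      · let a := (e V).inv p.1
        let b := (e W).inv p.2
        have hab : G.1.map (homOfLE (show (VW : X.Opens) ≤ (V : X.Opens) from h1)).op a =
            G.1.map (homOfLE (show (VW : X.Opens) ≤ (W : X.Opens) from h2)).op b := by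
          refine hinj VW ?_
          rw [nat h1, nat h2, hinv, hinv]
          exact hp
        have hle : (V : X.Opens) ⊓ (W : X.Opens) ≤ (VW : X.Opens) := by
          rw [eV, eW, eVW, X.basicOpen_mul]
        let sf : ∀ i, G.1.obj (op (O i)) := fun i => match i with
          | ⟨true⟩ => a
          | ⟨false⟩ => b
        have key : ∀ (K : X.Opens) (k₁ : K ≤ (V : X.Opens)) (k₂ : K ≤ (W : X.Opens)),
            G.1.map (homOfLE k₁).op a = G.1.map (homOfLE k₂).op b := fun K k₁ k₂ => by
          have hK : K ≤ (VW : X.Opens) := (le_inf k₁ k₂).trans hle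
          have := congrArg (G.1.map (homOfLE hK).op) hab
          simp only [← FunctorToTypes.map_comp_apply] at this
          exact this
        obtain ⟨t, ht, -⟩ := G.existsUnique_gluing' O (U : X.Opens) (fun b => homOfLE (hO b)) hc sf
          (fun i j => by
            rcases i with ⟨_ | _⟩ <;> rcases j with ⟨_ | _⟩
            · rfl
            · exact (key _ inf_le_right inf_le_left).symm
            · exact key _ inf_le_left inf_le_right
            · rfl)
        have ht₁ : G.1.map (homOfLE (show (V : X.Opens) ≤ (U : X.Opens) from hV)).op t = a :=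
          ht ⟨true⟩
        have ht₂ : G.1.map (homOfLE (show (W : X.Opens) ≤ (U : X.Opens) from hW)).op t = b :=
          ht ⟨false⟩
        refine ⟨(e U).hom t, Prod.ext ?_ ?_⟩
        · show F.map (homOfLE hV).op ((e U).hom t) = p.1
          rw [← nat hV, ht₁, hinv]
        · show F.map (homOfLE hW).op ((e U).hom t) = p.2
          rw [← nat hW, ht₂, hinv]
  · rintro ⟨⟨hne, hsub⟩, hp⟩
    let P : ShB.Pre (X := X) X.affineOpens :=
      { obj := fun U => F.obj (op U)
        res := fun {U V} h s => F.map (homOfLE (show V ≤ U from h)).op s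
        res_id := fun U s => FunctorToTypes.map_id_apply F s
        res_comp := fun h₁ h₂ s => by
          rw [← FunctorToTypes.map_comp_apply]
          rfl }
    have hsheaf : ShB.IsSheaf P := by
      refine Groth.Agent.H17.AffBasis.isSheaf_of_pairGlue (F := P) (fun U hU => ?_) ?_
      · have : U = E := Subtype.ext (hU.trans hE.symm)
        subst this
        exact ⟨hne, hsub⟩
      · intro U V W VW f g eV eW eVW eU hV hW h1 h2
        obtain ⟨hinj, hrange⟩ := hp U V W VW f g eV eW eVW eU hV hW h1 h2
        refine ⟨fun t t' h h' => hinj (Prod.ext h h'), fun a b hab => ?_⟩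
        obtain ⟨t, ht⟩ := (Set.ext_iff.1 hrange (a, b)).2 hab
        exact ⟨t, congrArg Prod.fst ht, congrArg Prod.snd ht⟩
    refine ⟨⟨Groth.Agent.H15Site.BasisSheaf.ext P,
      Groth.Agent.H15Site.BasisSheaf.ext_isSheaf X.isBasis_affineOpens hsheaf⟩, ⟨?_⟩⟩
    let i := Groth.Agent.H15Site.BasisSheaf.extIso (F := P)
    exact NatIso.ofComponents
      (fun U => Equiv.toIso ⟨i.hom.app U.unop, i.inv.app U.unop, i.hom_inv U.unop, i.inv_hom U.unop⟩)
      (fun {U V} h => by
        ext s
        exact (i.hom.natural (leOfHom h.unop) s).symm)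

end Groth.Agent.S9513
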