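import Groth.Statements.S9516
import Groth.Agent.H10Inj.IdealPow
-- import your own Groth.Agent.* helpers here

set_option autoImplicit false
set_option linter.style.haveILetI false
universe u
open CategoryTheory CategoryTheory.Limits AlgebraicGeometry
attribute [local instance] HasDerivedCategory.standard
open Coherent

namespace Groth.Agent.S9516

/-- Let X be a Noetherian scheme, F a quasi-coherent O_X-module, G a coherent O_X-module and I a
quasi-coherent sheaf of ideals, with U the open complement of the closed subset cut out by I. If a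
morphism ψ : I^n G → F restricts to zero on U, then ψ vanishes on I^N G for some N: there is a
morphism ι : I^N G → I^n G commuting with the inclusions into G and with ι ≫ ψ = 0. (Together with
the surjectivity statement this says that colim_n Hom(I^n G, F) → Hom(G|_U, F|_U) is bijective.) -/
theorem result (X : Scheme.{u}) [IsNoetherian X] (F G : X.Modules)
    (hF : Coh.IsQCoh F) (hG : Coh.IsCoh G) (I : X.IdealSheafData)
    (U : X.Opens) (hU : (U : Set X) = (I.support : Set X)ᶜ) (n : ℕ)
    (ψ : (Dual3.idealMul (I ^ n)).obj G ⟶ F)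
    (hψ : (Scheme.Modules.restrictFunctor U.ι).map ψ = 0) :
    ∃ (N : ℕ) (ι : (Dual3.idealMul (I ^ N)).obj G ⟶ (Dual3.idealMul (I ^ n)).obj G),
      ι ≫ Dual3.idealMulι (I ^ n) G = Dual3.idealMulι (I ^ N) G ∧ ι ≫ ψ = 0 := by
  let R := Scheme.Modules.restrictFunctor U.ι
  haveI : PreservesFiniteLimits R := inferInstance
  have hA : Coh.IsCoh ((Dual3.idealMul (I ^ n)).obj G) := LeadDev.isCoh_idealMul _ G hG
  have hQ : Coh.IsCoh (Abelian.coimage ψ) := by
    refine H10Coh.isCoh_cokernel (kernel.ι ψ) ?_ hA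
    exact (H10Coh.isCoh_kernel ψ hA hF).1
  have hz : IsZero (R.obj (Abelian.coimage ψ)) := by
    have h0 : R.map (Abelian.coimage.π ψ) = 0 := by
      rw [← cancel_mono (R.map (Abelian.factorThruCoimage ψ)), ← R.map_comp, zero_comp]
      exact (congrArg R.map (Abelian.coimage.fac ψ)).trans hψ
    rw [IsZero.iff_id_eq_zero, ← cancel_epi (R.map (Abelian.coimage.π ψ)), h0, zero_comp, zero_comp]
  obtain ⟨k, hk⟩ := H10Inj.IdealPow.exists_kills I _ hQ
    (H10Inj.IdealPow.support_subset_of_isZero_restrict I U hU hz)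
  obtain ⟨ι, hι⟩ := H10Inj.IdealPow.exists_pow_incl I G hG (show n ≤ k + n by omega)
  refine ⟨k + n, ι, hι, ?_⟩
  have h0 : ι ≫ Abelian.coimage.π ψ = 0 := by
    refine LeadAff.hom_ext_affine _ _ fun V hV s => ?_
    have hmem := LeadDev.idealMulι_app_mem (I ^ (k + n)) G hG ⟨V, hV⟩ s
    rw [Scheme.IdealSheafData.ideal_pow, Pi.pow_apply, pow_add, Submodule.mul_smul] at hmem
    obtain ⟨w, hw, hw0⟩ : ∃ w, (Dual3.idealMulι (I ^ n) G).app V w =
        (Dual3.idealMulι (I ^ (k + n)) G).app V s ∧ (Abelian.coimage.π ψ).app V w = 0 := by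
      refine Submodule.smul_induction_on hmem (p := fun y => ∃ w, (Dual3.idealMulι (I ^ n) G).app V w = y ∧
        (Abelian.coimage.π ψ).app V w = 0) (fun c hc y hy => ?_) (fun x y => ?_)
      · obtain ⟨t, rfl⟩ : ∃ t, (Dual3.idealMulι (I ^ n) G).app V t = y := by
          refine Submodule.smul_induction_on hy (p := fun y => ∃ t, (Dual3.idealMulι (I ^ n) G).app V t = y)
            (fun d hd z _ => LeadDev.exists_idealMulι_app_eq (I ^ n) G hG ⟨V, hV⟩ d ?_ z) (fun x y => ?_)
          · rwa [Scheme.IdealSheafData.ideal_pow, Pi.pow_apply]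
          · rintro ⟨t, rfl⟩ ⟨t', rfl⟩; exact ⟨t + t', map_add _ _ _⟩
        refine ⟨c • t, Scheme.Modules.Hom.app_smul _ _ _, ?_⟩
        rw [Scheme.Modules.Hom.app_smul]
        refine hk ⟨V, hV⟩ c ?_ _
        rwa [Scheme.IdealSheafData.ideal_pow, Pi.pow_apply]
      · rintro ⟨t, rfl, ht⟩ ⟨t', rfl, ht'⟩
        exact ⟨t + t', map_add _ _ _, by rw [map_add, ht, ht', add_zero]⟩
    have he : ι.app V s = w := H10Inj.IdealPow.idealMulι_app_injective (I ^ n) G V
      ((congr($(congr(Scheme.Modules.Hom.app $hι V)) s)).trans hw.symm)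
    show (Abelian.coimage.π ψ).app V (ι.app V s) = 0
    rw [he, hw0]
  rw [← Abelian.coimage.fac ψ, ← Category.assoc, h0, zero_comp]


end Groth.Agent.S9516
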