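import Groth.Statements.S9517
import Groth.Agent.H10Inj.IdealPow
import Groth.Agent.H29Omega.ConormalStalk
-- import your own Groth.Agent.* helpers here

set_option autoImplicit false
universe u
open CategoryTheory CategoryTheory.Limits AlgebraicGeometry
attribute [local instance] HasDerivedCategory.standard
open Coherent

namespace Groth.Agent.S9517

open CategoryTheory CategoryTheory.Limits AlgebraicGeometry Opposite Groth.Agent.H06Mod

variable {X : Scheme.{u}}

/-- Morphisms out of a quasi-coherent module vanishing on an affine cover vanish. -/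
theorem eq_zero_of_cover {M N : X.Modules} (hM : Coh.IsQCoh M) (φ : M ⟶ N) {ι : Type*}
    (U : ι → X.affineOpens) (hU : ∀ x : X, ∃ i, x ∈ (U i).1)
    (h : ∀ i (s : Γ(M, (U i).1)), φ.app (U i).1 s = 0) : φ = 0 := by
  refine H29Omega.eq_zero_of_stalkLin φ fun x m => ?_
  obtain ⟨i, hi⟩ := hU x
  have hm : m ∈ Submodule.span (X.presheaf.stalk x)
      (Set.range fun s : Γ(M, (U i).1) => M.presheaf.germ (U i).1 x hi s) :=
    (H29Ref.span_germ_all M hM (U i).2 le_rfl x hi).symm ▸ Submodule.mem_top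
  induction hm using Submodule.span_induction with
  | mem z hz =>
    obtain ⟨s, rfl⟩ := hz
    rw [stalkLin_germ, h i s, map_zero]
  | zero => rw [map_zero]
  | add a b _ _ ha hb => rw [map_add, ha, hb, add_zero]
  | smul r a _ ha => rw [map_smul, ha, smul_zero]

/-- Sections of a subobject inside the sections of the ambient module. -/
noncomputable def secs {F : X.Modules} {A : X.Modules} (a : A ⟶ F) (U : X.Opens) : Submodule Γ(X, U) Γ(F, U) where
  carrier := Set.range (a.app U)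
  zero_mem' := ⟨0, map_zero _⟩
  add_mem' := by rintro _ _ ⟨x, rfl⟩ ⟨y, rfl⟩; exact ⟨x + y, map_add _ _ _⟩
  smul_mem' := by rintro r _ ⟨x, rfl⟩; exact ⟨r • x, Scheme.Modules.Hom.app_smul _ _ _⟩

theorem secs_le_of_comm {F A B : X.Modules} {a : A ⟶ F} {b : B ⟶ F} (c : A ⟶ B) (h : c ≫ b = a)
    (U : X.Opens) : secs a U ≤ secs b U := by
  rintro _ ⟨x, rfl⟩
  exact ⟨c.app U x, by rw [← h]; rfl⟩

theorem mk_le_mk_of_secs {F A B : X.Modules} (hA : Coh.IsQCoh A) (a : A ⟶ F) (b : B ⟶ F) [Mono a] [Mono b]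
    {ι : Type*} (U : ι → X.affineOpens) (hU : ∀ x : X, ∃ i, x ∈ (U i).1)
    (h : ∀ i, secs a (U i).1 ≤ secs b (U i).1) : Subobject.mk a ≤ Subobject.mk b := by
  have h0 : a ≫ cokernel.π b = 0 := by
    refine eq_zero_of_cover hA _ U hU fun i s => ?_
    obtain ⟨t, ht⟩ := h i ⟨s, rfl⟩
    show (cokernel.π b).app _ (a.app _ s) = 0
    rw [← ht]
    exact congr($(congr(Scheme.Modules.Hom.app $(cokernel.condition b) (U i).1)) t)
  exact Subobject.mk_le_mk_of_comm (Abelian.monoLift b a h0) (Abelian.monoLift_comp b a h0)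

theorem secs_inf {F A B : X.Modules} (a : A ⟶ F) (b : B ⟶ F) [Mono a] [Mono b] (U : X.Opens) :
    secs (Subobject.mk a ⊓ Subobject.mk b).arrow U = secs a U ⊓ secs b U := by
  refine le_antisymm (le_inf ?_ ?_) ?_
  · exact secs_le_of_comm (Subobject.ofLEMk _ a inf_le_left) (Subobject.ofLEMk_comp inf_le_left) U
  · exact secs_le_of_comm (Subobject.ofLEMk _ b inf_le_right) (Subobject.ofLEMk_comp inf_le_right) U
  · rintro _ ⟨⟨x, rfl⟩, y, hy⟩
    have h0 : (a ≫ cokernel.π b).app U x = 0 := by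
      show (cokernel.π b).app U (a.app U x) = 0
      rw [← hy]
      exact congr($(congr(Scheme.Modules.Hom.app $(cokernel.condition b) U)) y)
    obtain ⟨k, hk⟩ := LeadDev.exists_kernel_section (a ≫ cokernel.π b) U x h0
    have h1 : Subobject.mk (kernel.ι (a ≫ cokernel.π b) ≫ a) ≤ Subobject.mk a ⊓ Subobject.mk b :=
      le_inf (Subobject.mk_le_mk_of_comm (kernel.ι _) rfl)
        (Subobject.mk_le_mk_of_comm
          (Abelian.monoLift b (kernel.ι (a ≫ cokernel.π b) ≫ a) (by rw [Category.assoc, kernel.condition]))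
          (Abelian.monoLift_comp _ _ _))
    refine secs_le_of_comm (Subobject.ofMkLE _ _ h1) (Subobject.ofMkLE_arrow h1) U ⟨k, ?_⟩
    show a.app U ((kernel.ι (a ≫ cokernel.π b)).app U k) = _
    rw [hk]

theorem isCoh_inf [IsNoetherian X] {F A B : X.Modules} (hA : Coh.IsCoh A) (hB : Coh.IsQCoh B)
    (hF : Coh.IsQCoh F) (a : A ⟶ F) (b : B ⟶ F) [Mono a] [Mono b] :
    ∃ (K : X.Modules) (_ : Coh.IsCoh K) (κ : K ⟶ F) (_ : Mono κ),
      Subobject.mk a ⊓ Subobject.mk b = Subobject.mk κ := by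
  haveI : B.IsQuasicoherent := hB
  haveI : F.IsQuasicoherent := hF
  haveI : (cokernel b).IsQuasicoherent := H10Coh.isQuasicoherent_cokernel b
  refine ⟨kernel (a ≫ cokernel.π b), H10Coh.isCoh_kernel _ hA inferInstance,
    kernel.ι (a ≫ cokernel.π b) ≫ a, inferInstance, le_antisymm ?_ ?_⟩
  · have h0 : Subobject.ofLEMk (Subobject.mk a ⊓ Subobject.mk b) a inf_le_left ≫ a ≫ cokernel.π b = 0 := by
      rw [← Category.assoc, Subobject.ofLEMk_comp, ← Subobject.ofLEMk_comp (X := Subobject.mk a ⊓ Subobject.mk b)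
        (f := b) inf_le_right, Category.assoc, cokernel.condition, comp_zero]
    exact Subobject.le_mk_of_comm (kernel.lift _ _ h0)
      (by rw [kernel.lift_ι_assoc, Subobject.ofLEMk_comp])
  · exact le_inf (Subobject.mk_le_mk_of_comm (kernel.ι _) rfl)
      (Subobject.mk_le_mk_of_comm
        (Abelian.monoLift b (kernel.ι (a ≫ cokernel.π b) ≫ a) (by rw [Category.assoc, kernel.condition]))
        (Abelian.monoLift_comp _ _ _))

theorem secs_idealMul [IsNoetherian X] (J : X.IdealSheafData) {F W : X.Modules} (hW : Coh.IsCoh W)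
    (w : W ⟶ F) (U : X.affineOpens) :
    secs (Dual3.idealMulι J W ≫ w) U.1 = J.ideal U • secs w U.1 := by
  refine le_antisymm ?_ (Submodule.smul_le.mpr ?_)
  · rintro _ ⟨s, rfl⟩
    show w.app U.1 ((Dual3.idealMulι J W).app U.1 s) ∈ _
    refine Submodule.smul_induction_on (LeadDev.idealMulι_app_mem J W hW U s)
      (p := fun y => w.app U.1 y ∈ J.ideal U • secs w U.1) (fun r hr y _ => ?_)
      (fun x y hx hy => by rw [map_add]; exact add_mem hx hy)
    rw [Scheme.Modules.Hom.app_smul]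
    exact Submodule.smul_mem_smul hr ⟨y, rfl⟩
  · rintro r hr _ ⟨y, rfl⟩
    obtain ⟨s, hs⟩ := LeadDev.exists_idealMulι_app_eq J W hW U r hr y
    exact ⟨s, by
      show w.app U.1 ((Dual3.idealMulι J W).app U.1 s) = _
      rw [hs, Scheme.Modules.Hom.app_smul]⟩

theorem secs_idealMulι [IsNoetherian X] (J : X.IdealSheafData) {F : X.Modules} (hF : Coh.IsCoh F)
    (U : X.affineOpens) : secs (Dual3.idealMulι J F) U.1 = J.ideal U • (⊤ : Submodule Γ(X, U.1) Γ(F, U.1)) := by
  have h := secs_idealMul J hF (𝟙 F) U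
  rw [Category.comp_id] at h
  rw [h]
  congr 1
  exact eq_top_iff.mpr fun x _ => ⟨x, rfl⟩

end Groth.Agent.S9517

namespace Groth.Agent.S9517

/-- Let X be a Noetherian scheme, F a coherent O_X-module, G ⊆ F a quasi-coherent submodule (given by a
monomorphism ι : G → F) and I a quasi-coherent sheaf of ideals. Then there is c ≥ 0 such that for
every n ≥ c the two subobjects I^(n-c)·(I^c F ∩ G) and I^n F ∩ G of F are equal. (Products J·M are
the submodule sheaves Dual3.idealMul J M; intersections are taken in the lattice of subobjects of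
F.) -/
theorem result (X : Scheme.{u}) [IsNoetherian X] (F G : X.Modules) (hF : Coh.IsCoh F)
    (hG : Coh.IsQCoh G) (ι : G ⟶ F) [Mono ι] (I : X.IdealSheafData) :
    ∃ c : ℕ, ∀ n : ℕ, c ≤ n →
      Subobject.mk (Dual3.idealMulι (I ^ (n - c))
          (Subobject.underlying.obj (Subobject.mk (Dual3.idealMulι (I ^ c) F) ⊓ Subobject.mk ι)) ≫
        (Subobject.mk (Dual3.idealMulι (I ^ c) F) ⊓ Subobject.mk ι).arrow) =
      Subobject.mk (Dual3.idealMulι (I ^ n) F) ⊓ Subobject.mk ι := by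
  obtain ⟨k, U, hU, -, hcov⟩ :=
    H10Coh.exists_finite_affine_cover (W := (⊤ : X.Opens)) isCompact_univ
  let V : Fin k → X.affineOpens := fun a => ⟨U a, hU a⟩
  have hV : ∀ x : X, ∃ a, x ∈ (V a).1 := fun x =>
    TopologicalSpace.Opens.mem_iSup.1 (hcov (TopologicalSpace.Opens.mem_top x))
  have key : ∀ a : Fin k, ∃ c : ℕ, ∀ n ≥ c,
      (I.ideal (V a)) ^ n • (⊤ : Submodule Γ(X, (V a).1) Γ(F, (V a).1)) ⊓ secs ι (V a).1 =
        (I.ideal (V a)) ^ (n - c) • ((I.ideal (V a)) ^ c • ⊤ ⊓ secs ι (V a).1) := by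
    intro a
    haveI : IsNoetherianRing Γ(X, (V a).1) := IsLocallyNoetherian.component_noetherian (V a)
    haveI := ((H10Coh.isCoh_iff_finite_sections F).1 hF).2 _ (V a).2
    exact Ideal.exists_pow_inf_eq_pow_smul (I.ideal (V a)) (secs ι (V a).1)
  choose c hc using key
  refine ⟨Finset.univ.sup c, fun n hn => ?_⟩
  set C := Finset.univ.sup c
  have hIF : ∀ m, Coh.IsCoh ((Dual3.idealMul (I ^ m)).obj F) := fun m => LeadDev.isCoh_idealMul _ F hF
  obtain ⟨K, hK, κ, _, hκ⟩ := isCoh_inf (hIF n) hG hF.1 (Dual3.idealMulι (I ^ n) F) ι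
  obtain ⟨K', hK', κ', _, hκ'⟩ := isCoh_inf (hIF C) hG hF.1 (Dual3.idealMulι (I ^ C) F) ι
  let S := Subobject.mk (Dual3.idealMulι (I ^ C) F) ⊓ Subobject.mk ι
  have hS : Coh.IsCoh (Subobject.underlying.obj S) :=
    H10Coh.isCoh_of_iso ((Subobject.isoOfEqMk S κ' hκ')).symm hK'
  let L := Dual3.idealMulι (I ^ (n - C)) (Subobject.underlying.obj S) ≫ S.arrow
  have hL : Coh.IsCoh ((Dual3.idealMul (I ^ (n - C))).obj (Subobject.underlying.obj S)) :=
    LeadDev.isCoh_idealMul _ _ hS
  have hpow : ∀ (m : ℕ) (a : Fin k), (I ^ m).ideal (V a) = (I.ideal (V a)) ^ m := fun m a => by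
    rw [Scheme.IdealSheafData.ideal_pow, Pi.pow_apply]
  have hs : ∀ a, secs L (V a).1 = secs κ (V a).1 := fun a => by
    have e1 : secs κ (V a).1 = secs (Subobject.mk (Dual3.idealMulι (I ^ n) F) ⊓ Subobject.mk ι).arrow (V a).1 := by
      rw [hκ]
      exact le_antisymm (secs_le_of_comm (Subobject.underlyingIso κ).inv (Subobject.underlyingIso_arrow κ) _)
        (secs_le_of_comm (Subobject.underlyingIso κ).hom (Subobject.underlyingIso_hom_comp_eq_mk κ) _)
    rw [e1, secs_inf, secs_idealMulι _ hF, secs_idealMul _ hS, secs_inf, secs_idealMulι _ hF,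
      hpow, hpow, hpow]
    have hca : c a ≤ C := Finset.le_sup (Finset.mem_univ a)
    rw [hc a n (hca.trans hn), hc a C hca, ← Submodule.smul_assoc, smul_eq_mul, ← pow_add]
    congr 2
    omega
  rw [hκ]
  exact le_antisymm (mk_le_mk_of_secs hL.1 L κ V hV fun a => (hs a).le)
    (mk_le_mk_of_secs hK.1 κ L V hV fun a => (hs a).ge)

end Groth.Agent.S9517
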