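import Groth.Statements.S9519
import Groth.Agent.H17.CechShRes.BaseChange
import Groth.Agent.H29Fitt.PullbackQCoh
-- import your own Groth.Agent.* helpers here

set_option autoImplicit false
universe u
open CategoryTheory CategoryTheory.Limits AlgebraicGeometry
attribute [local instance] HasDerivedCategory.standard
open CechOX

namespace Groth.Agent.S9519

/-- Let f : X → S be a morphism of schemes with X quasi-compact and X and S with affine diagonal, F a
quasi-coherent O_X-module, 𝒰 a finite covering of X by affine opens and g : S' → S a morphism; write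
X' = X ×_S S' with projections g' : X' → X and f' : X' → S', F' = g'^* F and 𝒰' for the covering of
X' by the preimages (g')⁻¹(𝒰 i). Then g^* Č(𝒰, f, F) (termwise pullback) is isomorphic as a complex
of O_S'-modules to the relative Čech complex Č(𝒰', f', F'), and its image in the derived category of
O_S'-modules is isomorphic to Rf'_* F'. (The published statement calls the first identification an
equality and states it for g affine, in which case the opens of 𝒰' are affine; this row asserts the
existence of the isomorphisms for any g, with Rf'_* the unbounded derived functor under its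
existence binder.) -/
theorem result {X S S' : Scheme.{u}} (f : X ⟶ S) [CompactSpace X]
    [IsAffineHom (pullback.diagonal (terminal.from X))] [IsAffineHom (pullback.diagonal (terminal.from S))]
    (F : X.Modules) (hF : Coh.IsQCoh F) {ι : Type u} [Finite ι] (𝒰 : ι → X.Opens)
    (h𝒰 : ∀ i, IsAffineOpen (𝒰 i)) (hcov : ⨆ i, 𝒰 i = ⊤) (g : S' ⟶ S)
    [(Scheme.Modules.pullback g).Additive] [DCoh.HasRpush (pullback.snd f g)] :
    Nonempty (((Scheme.Modules.pullback g).mapHomologicalComplex (ComplexShape.up ℕ)).obj
        ((CechOX.relCech 𝒰 f).obj F) ≅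
      (CechOX.relCech (fun i => (pullback.fst f g) ⁻¹ᵁ (𝒰 i)) (pullback.snd f g)).obj
        ((Scheme.Modules.pullback (pullback.fst f g)).obj F)) ∧
    Nonempty (DCoh.toD S' ((((Scheme.Modules.pullback g).mapHomologicalComplex (ComplexShape.up ℕ)).obj
        ((CechOX.relCech 𝒰 f).obj F)).extend ComplexShape.embeddingUpNat) ≅
      (DCoh.Rpush (pullback.snd f g)).obj
        (DCoh.inD _ ((Scheme.Modules.pullback (pullback.fst f g)).obj F))) := by
  have h := IsPullback.of_hasPullback f g
  have hW : ∀ (n : ℕ) (a : Fin (n + 1) → ι), IsAffine ((∏ᶜ (𝒰 ∘ a) : X.Opens) : Scheme.{u}) := fun n a =>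
    H17.CechShRes.isAffineOpen_prod 𝒰 h𝒰 a
  have hjf : ∀ (n : ℕ) (a : Fin (n + 1) → ι), IsAffineHom ((∏ᶜ (𝒰 ∘ a) : X.Opens).ι ≫ f) := fun n a =>
    haveI := hW n a; H17.CechShRes.isAffineHom_of_isAffine _
  let e := H17.CechShRes.baseChangeIso h 𝒰 F hF hjf
  refine ⟨⟨e⟩, ?_⟩
  obtain ⟨e'⟩ := H17.CechShRes.nonempty_relCechZ_iso (fun i => (pullback.fst f g) ⁻¹ᵁ 𝒰 i)
    ((Scheme.Modules.pullback (pullback.fst f g)).obj F) (pullback.snd f g)
    (H29Fitt.isQCoh_pullback _ F hF)
    (by rw [← Scheme.Hom.preimage_iSup, hcov]; rfl)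
    (fun n a => by
      haveI := hW n a
      haveI : IsAffineHom (∏ᶜ (𝒰 ∘ a) : X.Opens).ι := H17.CechShRes.isAffineHom_of_isAffine _
      rw [H17.CechShRes.prod_preimage]
      exact MorphismProperty.of_isPullback (isPullback_morphismRestrict _ _) ‹_›)
    (fun n a => by
      haveI := hjf n a
      exact H17.CechShRes.isAffineHom_preimage h (H17.CechShRes.prod_preimage 𝒰 a))
  exact ⟨DerivedCategory.Q.mapIso (((ComplexShape.embeddingUpNat).extendFunctor _).mapIso e) ≪≫ e'⟩

end Groth.Agent.S9519
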