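import Groth.Statements.S9523
import Groth.Agent.LeadDev.Stalks
import Groth.Agent.LeadAff.Chevalley
import Groth.Agent.H29Blow.Basic
-- import your own Groth.Agent.* helpers here

set_option autoImplicit false
set_option linter.style.haveILetI false
set_option backward.isDefEq.respectTransparency false
universe u
open CategoryTheory CategoryTheory.Limits AlgebraicGeometry
attribute [local instance] HasDerivedCategory.standard
open Coherent

namespace Groth.Agent.S9523

open CategoryTheory CategoryTheory.Limits AlgebraicGeometry TopologicalSpace Opposite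

section

variable {X : Scheme.{u}} (J : X.IdealSheafData) (G : X.Modules) (hG : Coh.IsQCoh G)

include hG

theorem app_mem (U : X.affineOpens) (s : Γ((Dual3.idealMul J).obj G, U.1)) :
    (Dual3.idealMulι J G).app U.1 s ∈ J.ideal U • (⊤ : Submodule Γ(X, U.1) Γ(G, U.1)) := by
  rw [← J.ker_subschemeι_app U]
  exact (H17.PullSect.isQuotOn_of_isAffineOpen J.subschemeι G hG U.2).2 _
    congr($(congr(Scheme.Modules.Hom.app
      $(kernel.condition ((Scheme.Modules.pullbackPushforwardAdjunction J.subschemeι).unit.app G)) U.1)) s)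

omit hG in
theorem exists_app_eq (U : X.affineOpens) (a : Γ(X, U.1)) (ha : a ∈ J.ideal U) (y : Γ(G, U.1)) :
    ∃ s, (Dual3.idealMulι J G).app U.1 s = a • y := by
  refine LeadDev.exists_kernel_section
    ((Scheme.Modules.pullbackPushforwardAdjunction J.subschemeι).unit.app G) U.1 (a • y) ?_
  refine (OmegaSh.pullSect_smul J.subschemeι G U.1 a y).trans ?_
  rw [show J.subschemeι.app U.1 a = 0 from (J.ker_subschemeι_app U).symm.le ha]
  exact zero_smul _ _

end



/-- Let f : Y → X be an affine morphism of schemes, F a quasi-coherent O_Y-module and I a quasi-coherent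
sheaf of ideals on X. Then I·f_*F = f_*((f⁻¹I O_Y)·F) as submodules of f_*F: there is an isomorphism
I·f_*F ≅ f_*((f⁻¹I O_Y)·F) whose composite with f_* of the inclusion (f⁻¹I O_Y)·F → F is the
inclusion I·f_*F → f_*F. (J·M denotes the submodule sheaf Dual3.idealMul J M; f⁻¹I O_Y is the
pulled-back ideal sheaf I.comap f.) -/
theorem result {Y X : Scheme.{u}} (f : Y ⟶ X) [IsAffineHom f]
    (F : Y.Modules) (hF : Coh.IsQCoh F) (I : X.IdealSheafData) :
    ∃ e : (Dual3.idealMul I).obj ((Scheme.Modules.pushforward f).obj F) ≅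
        (Scheme.Modules.pushforward f).obj ((Dual3.idealMul (I.comap f)).obj F),
      e.hom ≫ (Scheme.Modules.pushforward f).map (Dual3.idealMulι (I.comap f) F) =
        Dual3.idealMulι I ((Scheme.Modules.pushforward f).obj F) := by
  let η₁ := (Scheme.Modules.pullbackPushforwardAdjunction I.subschemeι).unit.app
    ((Scheme.Modules.pushforward f).obj F)
  let η₂ := (Scheme.Modules.pullbackPushforwardAdjunction (I.comap f).subschemeι).unit.app F
  haveI : F.IsQuasicoherent := hF
  have hP : Coh.IsQCoh ((Scheme.Modules.pushforward f).obj F) :=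
    H10Coh.isQuasicoherent_pushforward f F
  have hideal : ∀ (U : X.Opens) (hU : IsAffineOpen U),
      (I.comap f).ideal ⟨f ⁻¹ᵁ U, hU.preimage f⟩ = (I.ideal ⟨U, hU⟩).map (f.app U).hom := fun U hU => by
    rw [H29Blow.ideal_comap I f ⟨U, hU⟩ ⟨f ⁻¹ᵁ U, hU.preimage f⟩ le_rfl, Scheme.Hom.appLE_eq_app]
  let P := Scheme.Modules.pushforward f
  let k₂ : kernel (P.map η₂) ≅ P.obj (kernel η₂) := (PreservesKernel.iso P η₂).symm
  have h12 : Dual3.idealMulι I (P.obj F) ≫ P.map η₂ = 0 := by
    refine LeadAff.hom_ext_affine _ _ fun U hU s => ?_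
    refine Submodule.smul_induction_on (app_mem I (P.obj F) hP ⟨U, hU⟩ s)
      (p := fun y => (P.map η₂).app U y = 0) (fun r hr y _ => ?_) (fun x y hx hy => by rw [map_add, hx, hy, add_zero])
    have hr' : f.app U r ∈ (I.comap f).ideal ⟨f ⁻¹ᵁ U, hU.preimage f⟩ :=
      hideal U hU ▸ Ideal.mem_map_of_mem _ hr
    obtain ⟨t, ht⟩ := exists_app_eq (I.comap f) F ⟨f ⁻¹ᵁ U, hU.preimage f⟩ _ hr' (show Γ(F, f ⁻¹ᵁ U) from y)
    refine Eq.trans ?_ (congr($(congr(Scheme.Modules.Hom.app $(kernel.condition η₂) (f ⁻¹ᵁ U))) t))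
    exact congrArg (η₂.app (f ⁻¹ᵁ U)) ht.symm
  have h21 : P.map (Dual3.idealMulι (I.comap f) F) ≫ η₁ = 0 := by
    refine LeadAff.hom_ext_affine _ _ fun U hU s => ?_
    have hmem := app_mem (I.comap f) F hF ⟨f ⁻¹ᵁ U, hU.preimage f⟩ (show Γ((Dual3.idealMul (I.comap f)).obj F, f ⁻¹ᵁ U) from s)
    rw [hideal U hU] at hmem
    refine Submodule.smul_induction_on hmem
      (p := fun (y : Γ(F, f ⁻¹ᵁ U)) => η₁.app U (show Γ(P.obj F, U) from y) = 0) (fun r hr => ?_)
      (fun x y hx hy => (map_add (η₁.app U).hom _ _).trans (by erw [hx, hy, add_zero]))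
    refine Submodule.span_induction (p := fun r _ => ∀ y : Γ(F, f ⁻¹ᵁ U), y ∈ (⊤ : Submodule Γ(Y, f ⁻¹ᵁ U) _) →
      η₁.app U (show Γ(P.obj F, U) from (r • y : Γ(F, f ⁻¹ᵁ U))) = 0) ?_ ?_ ?_ ?_ hr
    · rintro _ ⟨a, ha, rfl⟩ y _
      obtain ⟨t, ht⟩ := exists_app_eq I (P.obj F) ⟨U, hU⟩ a ha (show Γ(P.obj F, U) from y)
      refine Eq.trans ?_ (congr($(congr(Scheme.Modules.Hom.app $(kernel.condition η₁) U)) t))
      exact congrArg (η₁.app U) ht.symm
    · intro y _
      rw [zero_smul]
      exact map_zero _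
    · intro a b _ _ ha hb y hy
      rw [add_smul]
      exact (map_add (η₁.app U).hom _ _).trans (by erw [ha y hy, hb y hy, add_zero])
    · intro c a _ ha y _
      rw [smul_eq_mul, mul_comm, mul_smul]
      exact ha _ trivial
  have hinv : kernel.lift η₁ _ h21 ≫ Dual3.idealMulι I (P.obj F) = P.map (Dual3.idealMulι (I.comap f) F) :=
    kernel.lift_ι _ _ _
  let hom : (Dual3.idealMul I).obj (P.obj F) ⟶ P.obj ((Dual3.idealMul (I.comap f)).obj F) :=
    kernel.lift (P.map η₂) _ h12 ≫ k₂.hom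
  have hhom : hom ≫ P.map (Dual3.idealMulι (I.comap f) F) = Dual3.idealMulι I (P.obj F) := by
    show (kernel.lift (P.map η₂) _ h12 ≫ k₂.hom) ≫ P.map (kernel.ι η₂) = _
    rw [Category.assoc]
    simp only [k₂, Iso.symm_hom, PreservesKernel.iso_inv_ι, kernel.lift_ι]
  haveI : Mono (P.map (Dual3.idealMulι (I.comap f) F)) := inferInstance
  refine ⟨⟨hom, kernel.lift η₁ _ h21, ?_, ?_⟩, hhom⟩
  · rw [← cancel_mono (Dual3.idealMulι I (P.obj F)), Category.assoc, hinv, hhom, Category.id_comp]
  · rw [← cancel_mono (P.map (Dual3.idealMulι (I.comap f) F)), Category.assoc, hhom]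
    exact hinv.trans (Category.id_comp _).symm


end Groth.Agent.S9523
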