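import Groth.Statements.S9521
import Groth.Agent.S9523
import Groth.Agent.S13987
import Groth.Agent.H10Inj.IdealPow
import Groth.Agent.LeadDev.Rules
-- import your own Groth.Agent.* helpers here

set_option autoImplicit false
set_option linter.style.haveILetI false
set_option linter.unusedSectionVars false
set_option backward.isDefEq.respectTransparency false
universe u
open Coherent

namespace Groth.Agent.S9521

open CategoryTheory CategoryTheory.Limits AlgebraicGeometry TopologicalSpace Opposite

section aux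

variable {X : Scheme.{u}} [AlgebraicGeometry.IsNoetherian X]

theorem isIso_restrict (U : X.Opens) {M N : X.Modules} (f : M ⟶ N)
    (hk : CohB1.support (kernel f) ⊆ (↑U : Set X)ᶜ) (hc : CohB1.support (cokernel f) ⊆ (↑U : Set X)ᶜ) :
    IsIso ((Scheme.Modules.restrictFunctor U.ι).map f) := by
  let R := Scheme.Modules.restrictFunctor U.ι
  haveI : PreservesFiniteLimits R := inferInstance
  haveI : Mono (R.map f) := Preadditive.mono_of_kernel_zero
    ((((S13987.isZero_restrict_iff U _).2 hk).of_iso (PreservesKernel.iso R f).symm).eq_of_src _ _)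
  haveI : Epi (R.map f) := Preadditive.epi_of_cokernel_zero
    ((((S13987.isZero_restrict_iff U _).2 hc).of_iso (PreservesCokernel.iso R f).symm).eq_of_tgt _ _)
  exact isIso_of_mono_of_epi _

theorem support_of_isZero {M : X.Modules} (h : IsZero M) (C : Set X) : CohB1.support M ⊆ C := by
  rw [LeadDev.support_eq_empty_of_isZero h]; exact Set.empty_subset _

theorem support_cokernel_ι_subset (J : X.IdealSheafData) {G : X.Modules} (hG : Coh.IsCoh G) :
    CohB1.support (cokernel (Dual3.idealMulι J G)) ⊆ (J.support : Set X) := fun x hx => by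
  by_contra hJ
  obtain ⟨V, hV, hxV, -⟩ := exists_isAffineOpen_mem_and_subset (U := (⊤ : X.Opens)) (x := x) trivial
  exact LeadDev.notMem_support_cokernel _ (LeadDev.isCoh_idealMul J G hG).1 hG.1 hV hxV
    (LeadDev.surjAt_idealMulι J G hG hJ ⟨V, hV⟩ hxV) hx

variable {Z : Scheme.{u}} (i : Z ⟶ X) [IsClosedImmersion i] [IsIntegral Z]

/-- The coproduct of copies of an ideal multiple, pushed forward, as an ideal multiple of a power. -/
theorem exists_iso_idealMul (K : X.IdealSheafData) (r : ℕ) :
    Nonempty ((Coh.push i).obj (∐ fun _ : Fin r => (Dual3.idealMul (K.comap i)).obj (Coh.structureModule Z)) ≅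
      (Dual3.idealMul K).obj (⨁ fun _ : Fin r => (Coh.push i).obj (Coh.structureModule Z))) := by
  have hO : Coh.IsQCoh (Coh.structureModule Z) := H10Coh.isQuasicoherent_unit
  obtain ⟨e, -⟩ := S9523.result i (Coh.structureModule Z) hO K
  exact ⟨(Coh.push i).mapIso (biproduct.isoCoproduct _).symm ≪≫ (Coh.push i).mapBiproduct _ ≪≫
    biproduct.mapIso (fun _ => e.symm) ≪≫ ((Dual3.idealMul K).mapBiproduct _).symm⟩

end aux



open CategoryTheory CategoryTheory.Limits AlgebraicGeometry in
/-- Let X be a Noetherian scheme, i : Z → X a closed immersion with Z an integral scheme, ξ ∈ X the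
image of the generic point of Z, and F a coherent O_X-module whose stalk F_ξ is annihilated by the
maximal ideal of O_{X,ξ}. Then one can find r ≥ 0 together with a coherent ideal sheaf I ⊆ O_Z and a
monomorphism of O_X-modules i_*(I^⊕r) → F that becomes an isomorphism when restricted to some open
neighbourhood of ξ. -/
theorem result (X Z : Scheme.{u}) [IsNoetherian X]
    (i : Z ⟶ X) [IsClosedImmersion i] [IsIntegral Z] (F : X.Modules) (hF : Coh.IsCoh F)
    (hann : ∀ a ∈ IsLocalRing.maximalIdeal (X.presheaf.stalk (i (genericPoint Z))),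
      ∀ m : ↑(F.presheaf.stalk (i (genericPoint Z))), a • m = 0) :
    ∃ (r : ℕ) (I : Z.Modules) (ι : I ⟶ Coh.structureModule Z) (φ : (Coh.push i).obj (∐ fun _ : Fin r => I) ⟶ F),
      Mono ι ∧ Coh.IsCoh I ∧ Mono φ ∧
      ∃ U : X.Opens, i (genericPoint Z) ∈ U ∧ IsIso ((Scheme.Modules.restrictFunctor U.ι).map φ) := by
  let ξ := i (genericPoint Z)
  haveI : IsLocallyNoetherian Z := LocallyOfFiniteType.isLocallyNoetherian i
  haveI : CompactSpace Z := i.isClosedEmbedding.compactSpace
  haveI : AlgebraicGeometry.IsNoetherian Z := ⟨⟩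
  have hO := LeadAff.isCoh_structureModule Z
  by_cases hsupp : ξ ∈ CohB1.support F
  swap
  · have hz : IsZero ((Coh.push i).obj (∐ fun _ : Fin 0 => Coh.structureModule Z)) :=
      (Coh.push i).map_isZero ((IsZero.iff_id_eq_zero _).2 (Sigma.hom_ext _ _ fun k => k.elim0))
    refine ⟨0, Coh.structureModule Z, 𝟙 _, 0, inferInstance, hO, ⟨fun g h _ => hz.eq_of_tgt g h⟩, ?_⟩
    let C := CohB1.support F
    have hC : IsClosed C := H10Coh.isClosed_support F hF.2
    refine ⟨⟨Cᶜ, hC.isOpen_compl⟩, hsupp, isIso_restrict _ _ ?_ ?_⟩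
    · exact support_of_isZero (hz.of_mono (kernel.ι _)) _
    · refine (LeadDev.support_subset_of_epi (cokernel.π _)).trans ?_
      simp [C]
  obtain ⟨W, hW, hξW, -⟩ := exists_isAffineOpen_mem_and_subset (U := (⊤ : X.Opens)) (x := ξ) trivial
  have hkill := LeadDev.killedAt_of_stalk hW hξW hF.1 hann
  obtain ⟨r, e, -, hspan, hind, hkilled, -⟩ :=
    LeadDev.exists_basis_at i (ξ := ξ) rfl hW hξW F hF hsupp hkill
  obtain ⟨hAr, ψ, hψinj, hψsurj⟩ := LeadDev.exists_psi i (ξ := ξ) rfl hW F e hspan hind hkilled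
  obtain ⟨H, a, b, hH, hbm, haW, -, hsb⟩ := LeadDev.exists_model i (ξ := ξ) rfl hW hξW F hF r hAr ψ hψinj hψsurj
  haveI := hbm
  let C : TopologicalSpace.Closeds X := ⟨(↑W : Set X)ᶜ, W.2.isClosed_compl⟩
  let K := Scheme.IdealSheafData.vanishingIdeal C
  have hWK : (↑W : Set X) = (K.support : Set X)ᶜ := by
    rw [Scheme.IdealSheafData.coe_support_vanishingIdeal]; exact (compl_compl _).symm
  have ha : IsIso ((Scheme.Modules.restrictFunctor W.ι).map a) := by
    refine isIso_restrict W a (fun x hx hxW => ?_) (fun x hx hxW => ?_)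
    · refine LeadDev.notMem_support_of_smul hW hxW _ (H10Coh.isCoh_kernel a hH hAr.1).1
        (fun s => ⟨1, LeadDev.unitAt_one hxW, ?_⟩) hx
      rw [one_smul]
      refine H10Coh.injective_app_of_mono' (kernel.ι a) W (haW.1 ?_)
      exact (congr($(congr(Scheme.Modules.Hom.app $(kernel.condition a) W)) s)).trans
        ((congrArg (a.app W) (map_zero _)).trans (map_zero _)).symm
    · exact LeadDev.notMem_support_cokernel a hH.1 hAr.1 hW hxW
        (fun y => ⟨1, (haW.2 y).choose, LeadDev.unitAt_one hxW, by rw [(haW.2 y).choose_spec, one_smul]⟩) hx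
  obtain ⟨n, N, q, hq⟩ := H10Inj.IdealPow.exists_lift K hH hAr a W hWK ha
  let μ := q ≫ Dual3.idealMulι (K ^ n) H ≫ b
  haveI : Mono q := by
    haveI : Mono (q ≫ Dual3.idealMulι (K ^ n) H ≫ a) := by rw [hq]; infer_instance
    exact mono_of_mono q (Dual3.idealMulι (K ^ n) H ≫ a)
  haveI : Mono μ := inferInstanceAs (Mono (q ≫ Dual3.idealMulι (K ^ n) H ≫ b))
  obtain ⟨iso⟩ := exists_iso_idealMul i (K ^ N) r
  refine ⟨r, (Dual3.idealMul ((K ^ N).comap i)).obj (Coh.structureModule Z),
    Dual3.idealMulι _ _, iso.hom ≫ μ, inferInstance, LeadDev.isCoh_idealMul _ _ hO, inferInstance, ?_⟩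
  let D := CohB1.support (cokernel b)
  have hD : IsClosed D := H10Coh.isClosed_support _ (H10Coh.isCoh_cokernel b hH.1 hF).2
  let U : X.Opens := W ⊓ ⟨Dᶜ, hD.isOpen_compl⟩
  have hξU : ξ ∈ U := ⟨hξW, LeadDev.notMem_support_cokernel b hH.1 hF.1 hW hξW hsb⟩
  refine ⟨U, hξU, ?_⟩
  let R := Scheme.Modules.restrictFunctor U.ι
  have hsub : (↑W : Set X)ᶜ ⊆ (↑U : Set X)ᶜ := Set.compl_subset_compl.2 fun x hx => hx.1
  have hb : IsIso (R.map b) := isIso_restrict U b (support_of_isZero (isZero_kernel_of_mono b) _)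
    fun x hx hxU => hxU.2 hx
  have haU : IsIso (R.map a) := isIso_restrict U a
    (((S13987.isZero_restrict_iff W _).1 ((isZero_kernel_of_mono ((Scheme.Modules.restrictFunctor W.ι).map a)).of_iso
      (PreservesKernel.iso _ a))).trans hsub)
    (((S13987.isZero_restrict_iff W _).1 ((isZero_cokernel_of_epi ((Scheme.Modules.restrictFunctor W.ι).map a)).of_iso
      (PreservesCokernel.iso _ a))).trans hsub)
  have hpow : ∀ m : ℕ, ∀ {G : X.Modules}, Coh.IsCoh G → IsIso (R.map (Dual3.idealMulι (K ^ m) G)) := by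
    intro m G hG
    refine isIso_restrict U _ (support_of_isZero (isZero_kernel_of_mono _) _)
      ((support_cokernel_ι_subset (K ^ m) hG).trans ?_)
    rcases Nat.eq_zero_or_pos m with rfl | hm
    · simp [Scheme.IdealSheafData.support_top]
    · rw [Scheme.IdealSheafData.support_pow _ _ hm.ne', ← compl_compl (K.support : Set X), ← hWK]
      exact hsub
  haveI := hb
  haveI := haU
  haveI := hpow n hH
  haveI := hpow N hAr
  haveI : IsIso (R.map q) := by
    have h := congrArg R.map hq
    simp only [Functor.map_comp] at h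
    haveI : IsIso (R.map q ≫ R.map (Dual3.idealMulι (K ^ n) H) ≫ R.map a) := h ▸ inferInstance
    exact IsIso.of_isIso_comp_right (R.map q) (R.map (Dual3.idealMulι (K ^ n) H) ≫ R.map a)
  change IsIso (R.map (iso.hom ≫ q ≫ Dual3.idealMulι (K ^ n) H ≫ b))
  simp only [Functor.map_comp]
  infer_instance


end Groth.Agent.S9521
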