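import Groth.Statements.S9522
import Groth.Agent.LeadDev.Rules
-- import your own Groth.Agent.* helpers here

set_option autoImplicit false
universe u
open CategoryTheory CategoryTheory.Limits AlgebraicGeometry
attribute [local instance] HasDerivedCategory.standard
open Coherent

namespace Groth.Agent.S9522

/-- Let X be a Noetherian scheme, Z₀ ⊆ X an irreducible closed subset with generic point ξ, and P an
isomorphism-invariant property of O_X-modules that holds for every zero module and such that (1) for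
every short exact sequence 0 → F₁ → F → F₂ → 0 of coherent modules, P(F₁) and P(F₂) imply P(F); (2)
for coherent F, P(F^⊕r) for some r ≥ 1 implies P(F); (3) P holds for i_*I for every closed immersion
i : Z → X with Z integral, i(Z) a proper subset of Z₀, and every quasi-coherent ideal sheaf I ⊆ O_Z;
(4) there is a coherent module G with support equal to Z₀, whose stalk at ξ is annihilated by the
maximal ideal of O_{X,ξ}, and such that for every quasi-coherent sheaf of ideals J on X with ξ ∉
V(J) there is a quasi-coherent submodule G' ⊆ J·G whose inclusion into G induces an isomorphism on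
stalks at ξ and for which P holds. Then P holds for every coherent O_X-module whose support is
contained in Z₀. (The published statement does not ask that P hold for the zero module, although its
proof uses this for a filtration with no steps; without it the conclusion fails for the zero module
when Z₀ is a closed point: on the spectrum of a field, with P(F) meaning that F is nonzero, every
other hypothesis holds. This row assumes that P holds for every zero module.) -/
theorem result (X : Scheme.{u}) [IsNoetherian X]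
    (Z₀ : Set X) (hZ₀ : IsClosed Z₀) (hirr : IsIrreducible Z₀) (ξ : X) (hξ : ξ ∈ Z₀ ∧ closure {ξ} = Z₀)
    (P : X.Modules → Prop) (hP : ∀ M N : X.Modules, Nonempty (M ≅ N) → P M → P N)
    (h₀ : ∀ M : X.Modules, IsZero M → P M)
    (h₁ : ∀ S : ShortComplex X.Modules, S.ShortExact → Coh.IsCoh S.X₁ → Coh.IsCoh S.X₂ → Coh.IsCoh S.X₃ →
      P S.X₁ → P S.X₃ → P S.X₂)
    (h₂ : ∀ (F : X.Modules) (r : ℕ), Coh.IsCoh F → 1 ≤ r → P (∐ fun _ : Fin r => F) → P F)
    (h₃ : ∀ (Z : Scheme.{u}) (i : Z ⟶ X), IsClosedImmersion i → IsIntegral Z →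
      Set.range ⇑i ⊆ Z₀ → Set.range ⇑i ≠ Z₀ →
      ∀ (I : Z.Modules) (ι : I ⟶ Coh.structureModule Z), Mono ι → Coh.IsQCoh I → P ((Coh.push i).obj I))
    (h₄ : ∃ G : X.Modules, Coh.IsCoh G ∧ CohB1.support G = Z₀ ∧
      (∀ a ∈ IsLocalRing.maximalIdeal (X.presheaf.stalk ξ), ∀ m : ↑(G.presheaf.stalk ξ), a • m = 0) ∧
      ∀ J : X.IdealSheafData, ξ ∉ (J.support : Set X) →
        ∃ (G' : X.Modules) (ι' : G' ⟶ (Dual3.idealMul J).obj G), Mono ι' ∧ Coh.IsQCoh G' ∧
          IsIso ((TopCat.Presheaf.stalkFunctor _ ξ).map (ι' ≫ Dual3.idealMulι J G).mapPresheaf) ∧ P G')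
    (F : X.Modules) (hF : Coh.IsCoh F) (hsupp : CohB1.support F ⊆ Z₀) : P F := by
  obtain ⟨G, hG, hGs, hmax, hJ⟩ := h₄
  refine LeadDev.devissage_irreducible Z₀ ξ hξ P hP h₀ (fun S hS a b c _ => h₁ S hS a b c) h₃ ?_ F hF hsupp
  intro hsmall Z i _ _ hiξ hr I ι _ hI
  obtain ⟨W, hW, hξW, -⟩ := exists_isAffineOpen_mem_and_subset (U := (⊤ : X.Opens)) (x := ξ) trivial
  obtain ⟨r, hr1, -, hIc, hPr⟩ := LeadDev.key_step i hiξ I ι hI P h₀
    (fun N hN hs => hsmall N hN (hs.trans hr.le))
    (fun S hS a b c _ => h₁ S hS a b c) hW hξW G hG (hGs ▸ hξ.1)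
    (LeadDev.killedAt_of_stalk hW hξW hG.1 hmax) (fun J hξJ => by
      obtain ⟨G', ι', hι', hq, hiso, hPG'⟩ := hJ J hξJ
      haveI := hι'
      haveI : Mono (Dual3.idealMulι J G) := inferInstance
      exact ⟨G', ι', hι', H10Coh.isCoh_of_mono (ι' ≫ Dual3.idealMulι J G) hq hG,
        LeadDev.surjAt_of_isIso_stalk hW hξW hq hG.1 _ hiso, hPG'⟩)
  exact h₂ _ r hIc hr1 (hP _ _ ⟨biproduct.isoCoproduct _⟩ hPr)

end Groth.Agent.S9522
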