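import Groth.Statements.S9525
import Groth.Agent.H10Coh.Support
-- import your own Groth.Agent.* helpers here

set_option autoImplicit false
universe u
open Coherent

namespace Groth.Agent.S9525

open CategoryTheory CategoryTheory.Limits AlgebraicGeometry in
/-- Let X be a locally Noetherian scheme, F and G coherent O_X-modules, φ : G → F a morphism and x ∈ X.
(1) If F_x = 0 there is an open neighbourhood U of x with F|_U = 0. (2) If the stalk map φ_x : G_x →
F_x is injective there is an open neighbourhood U of x with φ|_U injective. (4) If φ_x is bijective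
there is an open neighbourhood U of x with φ|_U an isomorphism. (Part (3), surjectivity, is the
finite-type statement valid on any ringed space and is not restated.) -/
theorem result (X : Scheme.{u}) [IsLocallyNoetherian X]
    (F G : X.Modules) (hF : Coh.IsCoh F) (hG : Coh.IsCoh G) (φ : G ⟶ F) (x : X) :
    (Subsingleton ↑(F.presheaf.stalk x) →
      ∃ U : X.Opens, x ∈ U ∧ IsZero ((Scheme.Modules.restrictFunctor U.ι).obj F)) ∧
    (Function.Injective ((TopCat.Presheaf.stalkFunctor _ x).map φ.mapPresheaf).hom →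
      ∃ U : X.Opens, x ∈ U ∧ Mono ((Scheme.Modules.restrictFunctor U.ι).map φ)) ∧
    (Function.Bijective ((TopCat.Presheaf.stalkFunctor _ x).map φ.mapPresheaf).hom →
      ∃ U : X.Opens, x ∈ U ∧ IsIso ((Scheme.Modules.restrictFunctor U.ι).map φ)) := by
  refine ⟨fun h => H10Coh.exists_nhd_isZero F hF.2 x h, fun h => ?_, fun h => ?_⟩
  · obtain ⟨U, hx, hU⟩ := H10Coh.exists_nhd_isZero _ (H10Coh.isCoh_kernel φ hG hF.1).2 x
      (H10Coh.subsingleton_stalk_kernel φ x h)
    exact ⟨U, hx, H10Coh.mono_restrict_of_isZero_kernel φ U hU⟩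
  · obtain ⟨U, hx, hU⟩ := H10Coh.exists_nhd_germ_eq_zero _ (H10Coh.isCoh_kernel φ hG hF.1).2 x
      (H10Coh.subsingleton_stalk_kernel φ x h.1)
    obtain ⟨V, hx', hV⟩ := H10Coh.exists_nhd_germ_eq_zero _ (H10Coh.isCoh_cokernel φ hG.1 hF).2 x
      (H10Coh.subsingleton_stalk_cokernel φ x h.2)
    refine ⟨U ⊓ V, ⟨hx, hx'⟩, ?_⟩
    haveI := H10Coh.mono_restrict_of_isZero_kernel φ (U ⊓ V)
      (H10Coh.restrict_subsingleton _ fun y hy => hU y hy.1)
    haveI := H10Coh.epi_restrict_of_isZero_cokernel φ (U ⊓ V)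
      (H10Coh.restrict_subsingleton _ fun y hy => hV y hy.2)
    exact isIso_of_mono_of_epi _

end Groth.Agent.S9525
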