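import Groth.Statements.S9526
import Groth.Agent.H10Inj.SheafExt.RestrictHom
import Groth.Agent.H10Coh.FinType2
-- import your own Groth.Agent.* helpers here

set_option autoImplicit false
set_option linter.style.haveILetI false
set_option backward.isDefEq.respectTransparency false
universe u
open Coherent

namespace Groth.Agent.S9526

section
open CategoryTheory CategoryTheory.Limits AlgebraicGeometry Opposite TopologicalSpace
open Groth.Agent.H29Ref Groth.Agent.H10Inj.SheafExt

variable {X : Scheme.{u}} (U : X.Opens) (G F : X.Modules)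
  (f : Γ((RefHull.homSh G F).restrict U.ι, (⊤ : U.toScheme.Opens)))

/-- A global section of the restricted sheaf Hom as a morphism of the restrictions. -/
noncomputable def secToHom :
    (Scheme.Modules.restrictFunctor U.ι).obj G ⟶ (Scheme.Modules.restrictFunctor U.ι).obj F :=
  ⟨PresheafOfModules.homMk
    { app := fun W => AddCommGrpCat.ofHom (AddMonoidHom.mk'
        (fun m => ev U G F W.unop m
          (((RefHull.homSh G F).restrict U.ι).presheaf.map (homOfLE (le_top : W.unop ≤ ⊤)).op f))
        fun m m' => ev_add_left U G F _ m m' _)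
      naturality := fun W W' i => by
        ext m
        exact Eq.trans (congrArg
          (fun n => ev U G F W'.unop ((G.restrict U.ι).presheaf.map i.unop.op m) n)
          (congr($(((RefHull.homSh G F).restrict U.ι).presheaf.map_comp
            (homOfLE (le_top : W.unop ≤ ⊤)).op i.unop.op) f)))
          (ev_res U G F W.unop W'.unop i.unop m _) }
    fun W r m => ev_smul_left U G F W.unop r m _⟩

theorem secToHom_app (W : U.toScheme.Opens) (m : Γ(G.restrict U.ι, W)) :
    (secToHom U G F f).app W m = ev U G F W m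
      (((RefHull.homSh G F).restrict U.ι).presheaf.map (homOfLE (le_top : W ≤ ⊤)).op f) := rfl

/-- The stalk of `secToHom`. -/
theorem stalk_secToHom (x : U) (hx : x.1 ∈ U.ι ''ᵁ (⊤ : U.toScheme.Opens)) (v : G.presheaf.stalk x.1) :
    stalkOut U F x ((TopCat.Presheaf.stalkFunctor _ x).map (secToHom U G F f).mapPresheaf
      (stalkIn U G x v)) = (H11Ample.toImg U (RefHull.homSh G F) f).1 ⟨x.1, hx⟩ v := by
  obtain ⟨W, hxW, m, rfl⟩ := TopCat.Presheaf.exists_germ_eq G.presheaf v
  have hle : U.ι ''ᵁ (U.ι ⁻¹ᵁ W) ≤ W := Scheme.Hom.image_preimage_le U.ι W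
  have hy : x.1 ∈ U.ι ''ᵁ (U.ι ⁻¹ᵁ W) := ⟨x, hxW, rfl⟩
  rw [← G.presheaf.germ_res_apply (homOfLE hle) x.1 hy m]
  generalize hm' : H11Ample.ofImg U G (G.presheaf.map (homOfLE hle).op m) = m'
  have hm : G.presheaf.map (homOfLE hle).op m = H11Ample.toImg U G m' := by
    rw [← hm']
  rw [hm, stalkIn_germ U G x _ hxW hy m']
  erw [TopCat.Presheaf.stalkFunctor_map_germ_apply]
  refine (stalkOut_germ U F x _ hxW hy _).trans ?_
  change F.presheaf.germ _ x.1 hy (toLin (H11Ample.toImg U (RefHull.homSh G F) (((RefHull.homSh G F).restrict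
    U.ι).presheaf.map (homOfLE (le_top : U.ι ⁻¹ᵁ W ≤ ⊤)).op f)) (H11Ample.toImg U G m')) = _
  exact germ_toLin _ (H11Ample.toImg U G m') ⟨x.1, hy⟩

end


open CategoryTheory CategoryTheory.Limits AlgebraicGeometry in
/-- Let X be a locally Noetherian scheme, F and G coherent O_X-modules, x ∈ X and ψ : G_x → F_x an
O_{X,x}-linear map. Then there are an open neighbourhood U of x and a morphism φ : G|_U → F|_U with
φ_x = ψ (the stalk map of φ at x, composed with the canonical identifications of the stalks of G|_U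
and F|_U at x with G_x and F_x, is ψ). -/
theorem result (X : Scheme.{u}) [IsLocallyNoetherian X]
    (F G : X.Modules) (hF : Coh.IsCoh F) (hG : Coh.IsCoh G) (x : X)
    (ψ : ↑(G.presheaf.stalk x) →ₗ[X.presheaf.stalk x] ↑(F.presheaf.stalk x)) :
    ∃ (U : X.Opens) (hx : x ∈ U)
      (φ : (Scheme.Modules.restrictFunctor U.ι).obj G ⟶ (Scheme.Modules.restrictFunctor U.ι).obj F),
      (Scheme.Modules.restrictStalkNatIso U.ι (⟨x, hx⟩ : U)).inv.app G ≫
          (TopCat.Presheaf.stalkFunctor _ (⟨x, hx⟩ : U)).map φ.mapPresheaf ≫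
            (Scheme.Modules.restrictStalkNatIso U.ι (⟨x, hx⟩ : U)).hom.app F =
        AddCommGrpCat.ofHom ψ.toAddMonoidHom := by
  have hb := Groth.Agent.H29Ref.evalStalk_bijective G F (Groth.Agent.H10Coh.isFP_of_isCoh G hG) x
  obtain ⟨e, he⟩ := hb.2 ψ
  obtain ⟨U, hxU, f, rfl⟩ : ∃ (U : X.Opens) (h : x ∈ U) (f : Γ(RefHull.homSh G F, U)),
      (RefHull.homSh G F).presheaf.germ U x h f = e :=
    TopCat.Presheaf.exists_germ_eq (RefHull.homSh G F).presheaf e
  rw [RefHull.evalStalk_germ] at he
  have hle : U.ι ''ᵁ ⊤ ≤ U := by rw [Scheme.Hom.image_top_eq_opensRange, Scheme.Opens.opensRange_ι]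
  let f' := Groth.Agent.H11Ample.ofImg U (RefHull.homSh G F)
    ((RefHull.homSh G F).presheaf.map (homOfLE hle).op f)
  refine ⟨U, hxU, secToHom U G F f', ?_⟩
  ext v
  refine (stalk_secToHom U G F f' ⟨x, hxU⟩ ⟨⟨x, hxU⟩, trivial, rfl⟩ v).trans ?_
  rw [← he]
  rfl

end Groth.Agent.S9526
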