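import Groth.Statements.S9527
import Groth.Agent.H10Coh.SheafHom.Adj
import Groth.Agent.H29Ref.Generic
import Groth.Agent.H4Depth.DepthHom
-- import your own Groth.Agent.* helpers here

set_option autoImplicit false
universe u
open CategoryTheory CategoryTheory.Limits AlgebraicGeometry
attribute [local instance] HasDerivedCategory.standard
open Coherent

namespace Groth.Agent.S9527

theorem idealDepth_le_pi {R N : Type u} [CommRing R] [IsNoetherianRing R] [AddCommGroup N] [Module R N]
    [Module.Finite R N] (I : Ideal R) : ∀ n : ℕ, LocCoh.idealDepth I N ≤ LocCoh.idealDepth I (Fin n → N)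
  | 0 => by
    refine le_of_le_of_eq le_top (H4Depth.idealDepth_eq_top ?_).symm
    exact Subsingleton.elim _ _
  | n + 1 => by
    let f : N →ₗ[R] (Fin (n + 1) → N) := LinearMap.single R (fun _ => N) 0
    let g : (Fin (n + 1) → N) →ₗ[R] (Fin n → N) := LinearMap.funLeft R N Fin.succ
    have hfg : Function.Exact f g := by
      intro x
      refine ⟨fun h => ⟨x 0, funext fun i => ?_⟩, ?_⟩
      · refine Fin.cases ?_ (fun j => ?_) i
        · simp [f]
        · simpa [f, g, eq_comm, Fin.succ_ne_zero] using congrFun h j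
      · rintro ⟨a, rfl⟩
        funext j
        simp [f, g, Fin.succ_ne_zero]
    refine le_trans (le_min le_rfl (idealDepth_le_pi I n))
      (H4Depth.min_le_idealDepth_mid I (f := f) (g := g) ?_ ?_ hfg)
    · exact Pi.single_injective (M := fun _ : Fin (n + 1) => N) 0
    · exact LinearMap.funLeft_surjective_of_injective R N Fin.succ (Fin.succ_injective n)

theorem depth_hom {R M N : Type u} [CommRing R] [IsLocalRing R] [IsNoetherianRing R]
    [AddCommGroup M] [Module R M] [Module.Finite R M] [AddCommGroup N] [Module R N] [Module.Finite R N] :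
    ((1 : ℕ∞) ≤ LocCoh.depth R N → (1 : ℕ∞) ≤ LocCoh.depth R (M →ₗ[R] N)) ∧
    ((2 : ℕ∞) ≤ LocCoh.depth R N → (2 : ℕ∞) ≤ LocCoh.depth R (M →ₗ[R] N)) := by
  classical
  obtain ⟨n, π, hπ⟩ := Module.Finite.exists_fin' R M
  obtain ⟨m, v, hv⟩ := Submodule.fg_iff_exists_fin_generating_family.mp
    (IsNoetherian.noetherian (LinearMap.ker π))
  let f : (M →ₗ[R] N) →ₗ[R] (Fin n → N) :=
    { toFun := fun φ i => φ (π (Pi.single i 1))
      map_add' := fun _ _ => rfl
      map_smul' := fun _ _ => rfl }
  let g : (Fin n → N) →ₗ[R] (Fin m → N) :=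
    LinearMap.pi fun j => ∑ i, v j i • LinearMap.proj i
  have hlin : ∀ (φ : M →ₗ[R] N) (w : Fin n → R), φ (π w) = ∑ i, w i • f φ i := fun φ w => by
    conv_lhs => rw [← Finset.univ_sum_single w]
    rw [map_sum, map_sum]
    refine Finset.sum_congr rfl fun i _ => ?_
    show _ = w i • φ (π (Pi.single i 1))
    rw [← map_smul, ← map_smul, ← Pi.single_smul, smul_eq_mul, mul_one]
  have hg : ∀ (a : Fin n → N) (j : Fin m), g a j = ∑ i, v j i • a i := fun a j => by
    simp [g, LinearMap.sum_apply]
  have hf : Function.Injective f := fun φ φ' h => LinearMap.ext fun x => by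
    obtain ⟨w, rfl⟩ := hπ x
    rw [hlin, hlin, h]
  have hfg : Function.Exact f g := fun a => by
    refine ⟨fun h => ?_, ?_⟩
    · let θ := Fintype.linearCombination R a
      have hθ : LinearMap.ker π ≤ LinearMap.ker θ := by
        rw [← hv, Submodule.span_le]
        rintro _ ⟨j, rfl⟩
        exact LinearMap.mem_ker.2 ((hg a j).symm.trans (congrFun h j))
      refine ⟨(Submodule.liftQ _ θ hθ).comp (LinearMap.quotKerEquivOfSurjective π hπ).symm.toLinearMap,
        funext fun i => ?_⟩
      show Submodule.liftQ _ θ hθ ((LinearMap.quotKerEquivOfSurjective π hπ).symm (π (Pi.single i 1))) = a i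
      rw [show (LinearMap.quotKerEquivOfSurjective π hπ).symm (π (Pi.single i 1)) =
        Submodule.Quotient.mk (Pi.single i 1) from (LinearEquiv.symm_apply_eq _).2 rfl, Submodule.liftQ_apply]
      simp [θ, Fintype.linearCombination_apply, Pi.single_apply]
    · rintro ⟨φ, rfl⟩
      funext j
      rw [hg, ← hlin, show π (v j) = 0 from LinearMap.mem_ker.1 (hv.le (Submodule.subset_span ⟨j, rfl⟩)), map_zero]
      rfl
  let I := IsLocalRing.maximalIdeal R
  exact ⟨fun h => H4Depth.one_le_idealDepth_of_injective I hf (le_trans h (idealDepth_le_pi I n)),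
    fun h => H4Depth.two_le_idealDepth_of_exact I hf hfg (le_trans h (idealDepth_le_pi I n))
      (le_trans one_le_two (le_trans h (idealDepth_le_pi I m)))⟩


/-- Let X be a locally Noetherian scheme, F and G coherent O_X-modules, x ∈ X, and H = Hom_{O_X}(F, G)
the sheaf Hom. (1) If depth G_x ≥ 1 then depth H_x ≥ 1. (2) If depth G_x ≥ 2 then depth H_x ≥ 2.
(Depths over the local ring O_{X,x}; the sheaf Hom is the right adjoint of F ⊗ − under its existence
binder; the zero module has depth ∞ in this convention.) -/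
theorem result (X : Scheme.{u}) [IsLocallyNoetherian X] (F G : X.Modules)
    (hF : Coh.IsCoh F) (hG : Coh.IsCoh G) [DCoh.HasSheafHom F] (x : X) :
    ((1 : ℕ∞) ≤ LocCoh.depth (X.presheaf.stalk x) ↑(G.presheaf.stalk x) →
      (1 : ℕ∞) ≤ LocCoh.depth (X.presheaf.stalk x) ↑(((DCoh.sheafHom F).obj G).presheaf.stalk x)) ∧
    ((2 : ℕ∞) ≤ LocCoh.depth (X.presheaf.stalk x) ↑(G.presheaf.stalk x) →
      (2 : ℕ∞) ≤ LocCoh.depth (X.presheaf.stalk x) ↑(((DCoh.sheafHom F).obj G).presheaf.stalk x)) := by
  have hFP := H10Coh.isFP_of_isCoh F hF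
  haveI := H29Ref.finite_stalk F hF.2 x
  haveI := H29Ref.finite_stalk G hG.2 x
  let φ := (H10Coh.SheafHom.homShIso F G).hom
  haveI : IsIso φ.mapPresheaf := inferInstanceAs (IsIso ((Scheme.Modules.toPresheaf X).map φ))
  have hb : Function.Bijective (RefHull.stalkMapₗ φ x) :=
    ConcreteCategory.bijective_of_isIso ((TopCat.Presheaf.stalkFunctor Ab x).map φ.mapPresheaf)
  let E : (((DCoh.sheafHom F).obj G).presheaf.stalk x) ≃ₗ[X.presheaf.stalk x]
      (F.presheaf.stalk x →ₗ[X.presheaf.stalk x] G.presheaf.stalk x) :=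
    (LinearEquiv.ofBijective _ hb).trans (LinearEquiv.ofBijective _ (H29Ref.evalStalk_bijective F G hFP x))
  rw [H4Depth.depth_congr E]
  exact depth_hom

end Groth.Agent.S9527
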