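import Groth.Statements.S9529
import Groth.Agent.S9527
-- import your own Groth.Agent.* helpers here

set_option autoImplicit false
universe u
open CategoryTheory CategoryTheory.Limits AlgebraicGeometry
attribute [local instance] HasDerivedCategory.standard
open Coherent

namespace Groth.Agent.S9529

theorem support_hom_subset {R M N : Type u} [CommRing R] [AddCommGroup M] [Module R M] [Module.Finite R M]
    [AddCommGroup N] [Module R N] : Module.support R (M →ₗ[R] N) ⊆ Module.support R N := by
  classical
  intro p hp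
  by_contra hc
  obtain ⟨n, π, hπ⟩ := Module.Finite.exists_fin' R M
  rw [Module.notMem_support_iff'] at hc
  refine absurd hp (Module.notMem_support_iff'.2 fun φ => ?_)
  choose r hr using fun i : Fin n => hc (φ (π (Pi.single i 1)))
  refine ⟨∏ i, r i, fun h => ?_, ?_⟩
  · obtain ⟨i, -, hi⟩ := (p.isPrime.prod_mem_iff).1 h
    exact (hr i).1 hi
  · have h0 : ((∏ i, r i) • φ) ∘ₗ π = 0 := by
      refine LinearMap.pi_ext' fun i => LinearMap.ext_ring ?_
      show (∏ j, r j) • φ (π (Pi.single i 1)) = 0
      rw [← Finset.prod_erase_mul _ _ (Finset.mem_univ i), mul_smul, (hr i).2, smul_zero]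
    exact LinearMap.ext fun y => by
      obtain ⟨w, rfl⟩ := hπ y
      exact LinearMap.congr_fun h0 w

/-- The stalk of the sheaf Hom has support dimension at most that of the target. -/
theorem supportDim_le (X : Scheme.{u}) [IsLocallyNoetherian X] (F G : X.Modules)
    (hF : Coh.IsCoh F) [DCoh.HasSheafHom F] (x : X) :
    Module.supportDim (X.presheaf.stalk x) ↑(((DCoh.sheafHom F).obj G).presheaf.stalk x) ≤
      Module.supportDim (X.presheaf.stalk x) ↑(G.presheaf.stalk x) := by
  have hFP := Groth.Agent.H10Coh.isFP_of_isCoh F hF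
  haveI := Groth.Agent.H29Ref.finite_stalk F hF.2 x
  let φ := (Groth.Agent.H10Coh.SheafHom.homShIso F G).hom
  haveI : IsIso φ.mapPresheaf := inferInstanceAs (IsIso ((Scheme.Modules.toPresheaf X).map φ))
  have hb : Function.Bijective (RefHull.stalkMapₗ φ x) :=
    ConcreteCategory.bijective_of_isIso ((TopCat.Presheaf.stalkFunctor Ab x).map φ.mapPresheaf)
  let E : (((DCoh.sheafHom F).obj G).presheaf.stalk x) ≃ₗ[X.presheaf.stalk x]
      (F.presheaf.stalk x →ₗ[X.presheaf.stalk x] G.presheaf.stalk x) :=
    (LinearEquiv.ofBijective _ hb).trans (LinearEquiv.ofBijective _ (Groth.Agent.H29Ref.evalStalk_bijective F G hFP x))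
  rw [Module.supportDim_eq_of_equiv E]
  exact Order.krullDim_le_of_strictMono (fun a => ⟨a.1, support_hom_subset a.2⟩) (fun {_ _} lt => lt)

/-- Let X be a locally Noetherian scheme, F and G coherent O_X-modules and H = Hom_{O_X}(F, G). If G has
property (S_1), so has H; if G has property (S_2), so has H. Here a coherent module M has (S_k) when
depth M_x ≥ min(k, dim Supp M_x) for every x ∈ X, with M_x regarded as a module over O_{X,x} (the
zero module has depth ∞ and support dimension −∞); the sheaf Hom is the right adjoint of F ⊗ − under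
its existence binder. -/
theorem result (X : Scheme.{u}) [IsLocallyNoetherian X] (F G : X.Modules)
    (hF : Coh.IsCoh F) (hG : Coh.IsCoh G) [DCoh.HasSheafHom F] (k : ℕ) (hk : k = 1 ∨ k = 2)
    (hS : ∀ x : X, min (k : WithBot ℕ∞) (Module.supportDim (X.presheaf.stalk x) ↑(G.presheaf.stalk x)) ≤
      ((LocCoh.depth (X.presheaf.stalk x) ↑(G.presheaf.stalk x) : ℕ∞) : WithBot ℕ∞)) (x : X) :
    min (k : WithBot ℕ∞)
        (Module.supportDim (X.presheaf.stalk x) ↑(((DCoh.sheafHom F).obj G).presheaf.stalk x)) ≤
      ((LocCoh.depth (X.presheaf.stalk x) ↑(((DCoh.sheafHom F).obj G).presheaf.stalk x) : ℕ∞) :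
        WithBot ℕ∞) := by
  have hd := supportDim_le X F G hF x
  have h := hS x
  have hH := Groth.Agent.S9527.result X F G hF hG x
  generalize Module.supportDim (X.presheaf.stalk x) ↑(G.presheaf.stalk x) = a at hd h
  generalize Module.supportDim (X.presheaf.stalk x) ↑(((DCoh.sheafHom F).obj G).presheaf.stalk x) = b at hd ⊢
  generalize LocCoh.depth (X.presheaf.stalk x) ↑(G.presheaf.stalk x) = e at h hH
  generalize LocCoh.depth (X.presheaf.stalk x) ↑(((DCoh.sheafHom F).obj G).presheaf.stalk x) = e' at hH ⊢
  by_cases hek : (k : ℕ∞) ≤ e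
  · refine le_trans (min_le_left _ _) ?_
    rcases hk with rfl | rfl
    · exact (WithBot.coe_le_coe (α := ℕ∞)).2 (by simpa using hH.1 (by simpa using hek))
    · exact (WithBot.coe_le_coe (α := ℕ∞)).2 (by simpa using hH.2 (by simpa using hek))
  · have hlt : (e : WithBot ℕ∞) < (k : WithBot ℕ∞) := (WithBot.coe_lt_coe (α := ℕ∞)).2 (lt_of_not_ge hek)
    have ha : a ≤ (e : WithBot ℕ∞) := (min_le_iff.1 h).resolve_left (not_le_of_gt hlt)
    refine le_trans (min_le_right _ _) (le_trans (hd.trans ha) ((WithBot.coe_le_coe (α := ℕ∞)).2 ?_))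
    by_cases h1 : (1 : ℕ∞) ≤ e
    · have he : e ≤ 1 := by
        rcases hk with rfl | rfl
        · exact absurd (by simpa using h1) hek
        · exact Order.le_of_lt_add_one (show e < 1 + 1 from by rw [one_add_one_eq_two]; exact lt_of_not_ge (fun h2 => hek (by simpa using h2)))
      exact he.trans (hH.1 h1)
    · rw [ENat.lt_one_iff_eq_zero.1 (lt_of_not_ge h1)]
      exact zero_le

end Groth.Agent.S9529
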