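import Groth.Statements.S9530
import Groth.Agent.H24Formal.CohFormal

set_option autoImplicit false
universe u
open CategoryTheory CategoryTheory.Limits AlgebraicGeometry Opposite
open Algz

namespace Groth.Agent.S9530

/-- The functor from Coh(X, I O_X) to pro-objects of quasi-coherent modules is fully faithful: for the
ideal sheaf I O_X of an ideal I of a base ring A and with positions shifted by one. Let X be a
Noetherian scheme over Spec A and F, G objects of Coh(X, I O_X). Let m be a monotone self-map of ℕ
with n ≤ m n, let π be the levelwise map from the re-indexed system n ↦ F_(m n) to F whose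
components are the transition maps of F, and let α be any levelwise map from the re-indexed system
to G. Then α factors as π followed by a unique morphism of systems β from F to G. (Existence is
fullness on this representative of a pro-morphism, uniqueness is faithfulness.) -/
theorem result (A : Type u) [CommRing A] (I : Ideal A) (X : Scheme.{u})
    [X.Over (Spec (CommRingCat.of A))] [IsNoetherian X] (F G : ℕᵒᵖ ⥤ X.Modules)
    (hF : Formal.IsCohFormal I F) (hG : Formal.IsCohFormal I G) (m : ℕ → ℕ) (hm : Monotone m)
    (hle : ∀ n : ℕ, n ≤ m n) (π : DerCA.reindex F hm ⟶ F)
    (hπ : ∀ n : ℕ, π.app (op n) = F.map (homOfLE (hle n)).op) (α : DerCA.reindex F hm ⟶ G) :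
    ∃! β : F ⟶ G, π ≫ β = α := by
  exact Groth.Agent.H24Formal.existsUnique_descend F G hF hG m hm hle π hπ α

end Groth.Agent.S9530
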