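import Groth.Statements.S9531
import Groth.Agent.H24Formal.ProIso
import Groth.Agent.H24Formal.OfIso
import Groth.Agent.H24Formal.Pullback
import Groth.Agent.H10Coh.OpenSpec

set_option autoImplicit false
set_option linter.style.haveILetI false
universe u
open CategoryTheory CategoryTheory.Limits AlgebraicGeometry Opposite
open Algz
open Groth.Agent

namespace Groth.Agent.S9531

/-- Let A be a Noetherian ring, I ⊆ 𝔞 ideals, U = Spec A ∖ V(𝔞), and take (F_n) in Coh(U, I O_U).
Suppose (F_n) extends canonically to Spec A; then (F_n) extends to Spec A: there is an object of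
Coh(Spec A, I O) whose restriction to U is isomorphic to (F_n). (Spec A is regarded over itself
through the identity.) -/
theorem result (A : Type u) [CommRing A] [IsNoetherianRing A] (I 𝔞 : Ideal A) (hI𝔞 : I ≤ 𝔞)
    (G : ℕᵒᵖ ⥤ (↑(LocCoh.puncturedOpen A 𝔞) : Scheme.{u}).Modules) (hG : Formal.IsCohFormal I G)
    (h : Algz.CanonicallyExtends A I (LocCoh.puncturedOpen A 𝔞) G) :
    @Algz.Extends A _ (Spec (CommRingCat.of A)) ⟨𝟙 (Spec (CommRingCat.of A))⟩ I (LocCoh.puncturedOpen A 𝔞) G := by
  letI : (Spec (CommRingCat.of A)).Over (Spec (CommRingCat.of A)) := ⟨𝟙 _⟩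
  obtain ⟨G', hG', hpro⟩ := h
  let U := LocCoh.puncturedOpen A 𝔞
  let R := CommRingCat.of A
  refine ⟨G', hG', ?_⟩
  haveI : ∀ n : ℕᵒᵖ, ((G ⋙ Scheme.Modules.pushforward U.ι).obj n).IsQuasicoherent := fun n => by
    haveI : CompactSpace U.toScheme := isCompact_iff_compactSpace.1 (TopologicalSpace.NoetherianSpace.isCompact _)
    haveI : QuasiCompact U.ι := quasiCompact_of_compactSpace U.ι
    haveI : (G.obj n).IsQuasicoherent := (hG.1 n.unop).1
    exact H10Coh.isQuasicoherent_pushforward U.ι (G.obj n)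
  let e₁ : Algz.sectSys A U G ≅ G ⋙ Scheme.Modules.pushforward U.ι :=
    NatIso.ofComponents (fun n => H10Coh.tildeIso (R := R) ((G ⋙ Scheme.Modules.pushforward U.ι).obj n)) fun {n n'} f =>
      (tilde.adjunction (R := R)).counit.naturality ((G ⋙ Scheme.Modules.pushforward U.ι).map f)
  let e₂ : Algz.sectSys A U G ⋙ Scheme.Modules.restrictFunctor U.ι ≅ G :=
    Functor.isoWhiskerRight e₁ _ ≪≫ NatIso.ofComponents (fun n => H10Coh.pushRestrictSelf U.ι (G.obj n)) fun {n n'} f => by
      exact (Scheme.Modules.restrictAdjunction U.ι).counit.naturality (G.map f)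
  have h1 := H24Formal.isProIsomorphic_of_iso_left e₂
    (H24Formal.isProIsomorphic_map (Scheme.Modules.restrictFunctor U.ι) hpro)
  have hG'' : Formal.IsCohFormal (A := A) I (G' ⋙ Scheme.Modules.restrictFunctor U.ι) :=
    H24Formal.isCohFormal_of_iso (Functor.isoWhiskerLeft G' (Scheme.Modules.restrictFunctorIsoPullback U.ι)).symm
      (H24Formal.isCohFormal_pullback (A := A) U.ι (by rfl) I hG')
  exact (H24Formal.nonempty_iso_of_isProIsomorphic G _ hG hG'' h1).map Iso.symm

end Groth.Agent.S9531
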