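import Groth.Statements.S9532
import Groth.Agent.H24Formal.ProIso
import Groth.Agent.H24Formal.CohFormal
import Groth.Agent.H10Coh.QCohOps

set_option autoImplicit false
set_option linter.style.haveILetI false
universe u
open CategoryTheory CategoryTheory.Limits AlgebraicGeometry Opposite
open Algz
open Groth.Agent

namespace Groth.Agent.S9532

/-- Let A be a Noetherian ring, I ⊆ 𝔞 ideals, U = Spec A ∖ V(𝔞), and let (F_n) belong to Coh(U, I O_U).
Suppose (F_n) admits a canonical extension to Spec A; then the inverse system of A-modules n ↦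
H^0(U, F_n) satisfies the Mittag-Leffler condition. -/
theorem result (A : Type u) [CommRing A] [IsNoetherianRing A] (I 𝔞 : Ideal A) (hI𝔞 : I ≤ 𝔞)
    (G : ℕᵒᵖ ⥤ (↑(LocCoh.puncturedOpen A 𝔞) : Scheme.{u}).Modules) (hG : Formal.IsCohFormal I G)
    (h : Algz.CanonicallyExtends A I (LocCoh.puncturedOpen A 𝔞) G) :
    ARSys.IsML (Algz.sectMod A (LocCoh.puncturedOpen A 𝔞) G) := by
  letI : (Spec (CommRingCat.of A)).Over (Spec (CommRingCat.of A)) := ⟨𝟙 _⟩
  obtain ⟨G', hG', hpro⟩ := h
  let U := LocCoh.puncturedOpen A 𝔞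
  have h1 := H24Formal.isProIsomorphic_map (moduleSpecΓFunctor (R := CommRingCat.of A)) hpro
  let e : Algz.sectSys A U G ⋙ moduleSpecΓFunctor (R := CommRingCat.of A) ≅ Algz.sectMod A U G :=
    Functor.isoWhiskerLeft (Algz.sectMod A U G) (tilde.toTildeΓNatIso (R := CommRingCat.of A)).symm ≪≫
      Functor.rightUnitor _
  refine H24Formal.isML_of_isProIsomorphic (H24Formal.isProIsomorphic_of_iso_left e h1) fun {n m} hnm => ?_
  haveI := (H24Formal.epi_and_factor hG' hnm).1
  haveI : (G'.obj (op m)).IsQuasicoherent := (hG'.1 m).1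
  haveI : (G'.obj (op n)).IsQuasicoherent := (hG'.1 n).1
  rw [ModuleCat.epi_iff_surjective]
  exact H10Coh.surjective_app_of_epi (G'.map (homOfLE hnm).op) (isAffineOpen_top _)

end Groth.Agent.S9532
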