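import Groth.Statements.S9533
import Groth.Agent.H24Formal.ProLimit
import Groth.Agent.H10Coh.OpenSpec

set_option autoImplicit false
set_option linter.style.haveILetI false
universe u
open CategoryTheory CategoryTheory.Limits AlgebraicGeometry Opposite
open Algz
open Groth.Agent

namespace Groth.Agent.S9533

/-- Let A be a Noetherian ring, I ⊆ 𝔞 ideals, U = Spec A ∖ V(𝔞), (F_n) an object of Coh(U, I O_U), and M
= lim_n H^0(U, F_n). If (F_n) canonically extends to Spec A, then the limit topology of M agrees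
with the I-adic one: for every k some kernel of M → H^0(U, F_n) lies inside I^k M. (Each such kernel
contains I^(n+1) M automatically. The other part of (4), that M is finitely generated over the
completion of A with respect to I, is not stated here.) -/
theorem result (A : Type u) [CommRing A] [IsNoetherianRing A] (I 𝔞 : Ideal A) (hI𝔞 : I ≤ 𝔞)
    (G : ℕᵒᵖ ⥤ (↑(LocCoh.puncturedOpen A 𝔞) : Scheme.{u}).Modules) (hG : Formal.IsCohFormal I G)
    (h : Algz.CanonicallyExtends A I (LocCoh.puncturedOpen A 𝔞) G) (k : ℕ) :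
    ∃ n : ℕ, LinearMap.ker (limit.π (Algz.sectMod A (LocCoh.puncturedOpen A 𝔞) G) (op n)).hom ≤
      I ^ k • (⊤ : Submodule A ↑(limit (Algz.sectMod A (LocCoh.puncturedOpen A 𝔞) G))) := by
  letI : (Spec (CommRingCat.of A)).Over (Spec (CommRingCat.of A)) := ⟨𝟙 _⟩
  obtain ⟨G', hG', hpro⟩ := h
  let U := LocCoh.puncturedOpen A 𝔞
  have hq : Formal2.IsQCohFormal I G' := ⟨fun n => (hG'.1 n).1, hG'.2.1, hG'.2.2⟩
  let S := H24Formal.sectionSystem (IsNoetherian.noetherian I) hq (isAffineOpen_top (Spec (CommRingCat.of A)))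
  let ε := fun n : ℕ => H24Formal.secEquiv A rfl (G'.obj (op n))
  have h1 := H24Formal.isProIsomorphic_map (moduleSpecΓFunctor (R := CommRingCat.of A)) hpro
  let e : Algz.sectSys A U G ⋙ moduleSpecΓFunctor (R := CommRingCat.of A) ≅ Algz.sectMod A U G :=
    Functor.isoWhiskerLeft (Algz.sectMod A U G) (tilde.toTildeΓNatIso (R := CommRingCat.of A)).symm ≪≫
      Functor.rightUnitor _
  refine H24Formal.exists_ker_π_le_of_isProIsomorphic (IsNoetherian.noetherian I)
    (H24Formal.isProIsomorphic_of_iso_left e h1) (fun n => S.hf n) (fun n => ?_) k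
  ext z
  have key : z ∈ LinearMap.ker ((G' ⋙ moduleSpecΓFunctor (R := CommRingCat.of A)).map (homOfLE (Nat.le_succ n)).op).hom ↔
      (ε (n + 1)).symm z ∈ I ^ (n + 1) • (⊤ : Submodule A (H24Formal.SecMod A (G'.obj (op (n + 1))) ⊤)) := by
    rw [← S.hker n]
    exact Iff.rfl
  refine key.trans ⟨fun hz => ?_, fun hz => ?_⟩
  · have h2 := Submodule.mem_map_of_mem (f := (ε (n + 1)).toLinearMap) hz
    rw [Submodule.map_smul'', show (ε (n + 1)).toLinearMap ((ε (n + 1)).symm z) = z from rfl] at h2
    exact Submodule.smul_mono le_rfl le_top h2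
  · have h2 := Submodule.mem_map_of_mem (f := (ε (n + 1)).symm.toLinearMap) hz
    rw [Submodule.map_smul''] at h2
    exact Submodule.smul_mono le_rfl le_top h2

end Groth.Agent.S9533
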