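import Groth.Statements.S9535
import Groth.Agent.H24Formal.SpecComplete
import Groth.Agent.H10Coh.OpenSpec

set_option autoImplicit false
set_option linter.style.haveILetI false
universe u
open CategoryTheory CategoryTheory.Limits AlgebraicGeometry Opposite
open Algz
open Groth.Agent

namespace Groth.Agent.S9535

/-- (6) ⇒ (2): Let A be a Noetherian ring complete for the I-adic topology, I ⊆ 𝔞 ideals, U = Spec A ∖
V(𝔞) and (F_n) an object of Coh(U, I O_U). If (F_n) extends to Spec A, then (F_n) is isomorphic to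
the completion of a coherent O_U-module. -/
theorem result (A : Type u) [CommRing A] [IsNoetherianRing A] (I 𝔞 : Ideal A) (hI𝔞 : I ≤ 𝔞)
    (G : ℕᵒᵖ ⥤ (↑(LocCoh.puncturedOpen A 𝔞) : Scheme.{u}).Modules) (hG : Formal.IsCohFormal I G) [IsAdicComplete I A]
    (h : @Algz.Extends A _ (Spec (CommRingCat.of A)) ⟨𝟙 (Spec (CommRingCat.of A))⟩ I (LocCoh.puncturedOpen A 𝔞) G) :
    ∃ F : (↑(LocCoh.puncturedOpen A 𝔞) : Scheme.{u}).Modules, Coh.IsCoh F ∧ Nonempty (Formal.completion I F ≅ G) := by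
  letI : (Spec (CommRingCat.of A)).Over (Spec (CommRingCat.of A)) := ⟨𝟙 _⟩
  obtain ⟨G', hG', ⟨e'⟩⟩ := h
  obtain ⟨M, hM, ⟨eM⟩⟩ := H24Formal.exists_completion_iso_of_isCohFormal_spec A I rfl G' hG'
  let U := LocCoh.puncturedOpen A 𝔞
  refine ⟨(tilde (R := CommRingCat.of A) M).restrict U.ι,
    H10Coh.isCoh_restrict U.ι _ (@H10Coh.isCoh_tilde (CommRingCat.of A) M hM), ?_⟩
  obtain ⟨e₁⟩ := H24Formal.nonempty_completion_pullback_iso (A := A) U.ι (by rfl) I (tilde (R := CommRingCat.of A) M)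
  obtain ⟨e₂⟩ := H24Formal.nonempty_completion_congr (A := A) I
    ((Scheme.Modules.restrictFunctorIsoPullback U.ι).app (tilde (R := CommRingCat.of A) M))
  exact ⟨e₂ ≪≫ e₁ ≪≫ (Functor.isoWhiskerLeft _ (Scheme.Modules.restrictFunctorIsoPullback U.ι)).symm ≪≫
    Functor.isoWhiskerRight eM _ ≪≫ e'⟩

end Groth.Agent.S9535
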