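import Groth.Statements.S9536
import Groth.Agent.H24Formal.Completion
import Groth.Agent.H10Coh.OpenSpec

set_option autoImplicit false
set_option linter.style.haveILetI false
universe u
open CategoryTheory CategoryTheory.Limits AlgebraicGeometry Opposite
open Algz
open Groth.Agent

namespace Groth.Agent.S9536

/-- (2) ⇒ (6): Let A be a Noetherian ring, I ⊆ 𝔞 ideals, U = Spec A ∖ V(𝔞) and (F_n) an object of Coh(U,
I O_U). If (F_n) is isomorphic to the completion of a coherent O_U-module, then (F_n) extends to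
Spec A. -/
theorem result (A : Type u) [CommRing A] [IsNoetherianRing A] (I 𝔞 : Ideal A) (hI𝔞 : I ≤ 𝔞)
    (G : ℕᵒᵖ ⥤ (↑(LocCoh.puncturedOpen A 𝔞) : Scheme.{u}).Modules) (hG : Formal.IsCohFormal I G)
    (F : (↑(LocCoh.puncturedOpen A 𝔞) : Scheme.{u}).Modules) (hF : Coh.IsCoh F) (e : Formal.completion I F ≅ G) :
    @Algz.Extends A _ (Spec (CommRingCat.of A)) ⟨𝟙 (Spec (CommRingCat.of A))⟩ I (LocCoh.puncturedOpen A 𝔞) G := by
  obtain ⟨N, hN, ⟨eN⟩⟩ := H10Coh.exists_finite_tilde_restrict (R := CommRingCat.of A) (LocCoh.puncturedOpen A 𝔞) F hF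
  letI : (Spec (CommRingCat.of A)).Over (Spec (CommRingCat.of A)) := ⟨𝟙 _⟩
  let U := LocCoh.puncturedOpen A 𝔞
  refine ⟨Formal.completion I (tilde N), H24Formal.isCohFormal_completion I (@H10Coh.isCoh_tilde (CommRingCat.of A) N hN), ?_⟩
  obtain ⟨e₁⟩ := H24Formal.nonempty_completion_pullback_iso (A := A) U.ι (by rfl) I (tilde N)
  obtain ⟨e₂⟩ := H24Formal.nonempty_completion_congr (A := A) I
    ((Scheme.Modules.restrictFunctorIsoPullback U.ι).symm.app (tilde N) ≪≫ eN.symm)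
  exact ⟨Functor.isoWhiskerLeft _ (Scheme.Modules.restrictFunctorIsoPullback U.ι) ≪≫ e₁.symm ≪≫ e₂ ≪≫ e⟩

end Groth.Agent.S9536
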