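import Groth.Statements.S9542
-- import your own Groth.Agent.* helpers here
import Groth.Agent.S0805
import Groth.Agent.H24Formal2.PunctBridge
import Groth.Agent.H24Formal2.QAffSections
import Groth.Agent.H4Depth.SkFree

set_option autoImplicit false
universe u
open CategoryTheory
attribute [local instance] HasDerivedCategory.standard
open Formal2

attribute [-instance] CategoryTheory.catToReflQuiver
namespace Groth.Agent.S9542

open AlgebraicGeometry Opposite in
/-- Let I ⊆ 𝔞 be ideals of a Noetherian ring A which is I-adically complete and has a dualizing complex,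
let d bound the cohomological dimension of I, and let U = Spec A ∖ V(𝔞). Assume that for every
associated prime 𝔭 of A with I ⊄ 𝔭 and V(𝔭) ∩ V(I) ⊄ V(𝔞) and every prime 𝔮 ⊇ 𝔭 + 𝔞 the dimension of
(A/𝔭)_𝔮 exceeds d + 1, and that depth A_𝔭 ≥ 2 for every prime 𝔭 with I ⊄ 𝔭 and V(𝔭) ∩ V(I) ⊆ V(𝔞).
Then the completion functor for I is fully faithful on finite locally free O_U-modules: every
morphism of systems (E/I^nE) → (E'/I^nE') comes from exactly one morphism E → E'. -/
theorem result (A : Type u) [CommRing A] [IsNoetherianRing A]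
    (I 𝔞 : Ideal A) (hI : I ≤ 𝔞) [IsAdicComplete I A] (hω : ∃ ω : Dual.D A, Dual.IsDualizing A ω)
    (d : ℕ) (hd : LocCoh.CdLE A I d)
    (h₂ : ∀ p ∈ associatedPrimes A A, ¬ I ≤ p →
      (∃ r : Ideal A, r.IsPrime ∧ p ≤ r ∧ I ≤ r ∧ ¬ 𝔞 ≤ r) →
        ∀ (q : Ideal A) [q.IsPrime], p ≤ q → 𝔞 ≤ q → ((d + 1 : ℕ) : WithBot ℕ∞) < Formal2.dimBetween A p q)
    (h₃ : ∀ (p : Ideal A) [p.IsPrime], ¬ I ≤ p →
      (∀ (r : Ideal A), r.IsPrime → p ≤ r → I ≤ r → 𝔞 ≤ r) →
        (2 : ℕ∞) ≤ LocCoh.depth (Localization.AtPrime p) (Localization.AtPrime p)) :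
    ∀ (E E' : (↑(LocCoh.puncturedOpen A 𝔞) : Scheme.{u}).Modules), FlatMod.IsFinLocFree E → FlatMod.IsFinLocFree E' →
      ∀ ψ : Formal.completion I E ⟶ Formal.completion I E',
        ∃! φ : E ⟶ E', ∀ n : ℕ, Formal.modPowπ I (n + 1) E ≫ ψ.app (op n) = φ ≫ Formal.modPowπ I (n + 1) E' := by
  intro E E' hE hE' ψ
  let U := LocCoh.puncturedOpen A 𝔞
  haveI : IsNoetherianRing ↑(CommRingCat.of A) := ‹IsNoetherianRing A›
  haveI : IsLocallyNoetherian (U : Scheme.{u}) := isLocallyNoetherian_of_isOpenImmersion U.ι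
  haveI : CompactSpace (U : Scheme.{u}) := isCompact_iff_compactSpace.1 (TopologicalSpace.NoetherianSpace.isCompact _)
  haveI : AlgebraicGeometry.IsNoetherian (U : Scheme.{u}) := ⟨⟩
  haveI : (U : Scheme.{u}).IsQuasiAffine := Scheme.IsQuasiAffine.of_isImmersion U.ι
  have hA : Formal2.FormalCohBijective A I A 0 U :=
    S0805.result A I 𝔞 hI hω d hd A (fun p hp _ hpI hr q _ hpq hq => h₂ p hp hpI hr q hpq hq)
      fun p _ hpa hr => by
        obtain ⟨e⟩ := H4Depth.exists_localizedModule_self_equiv (R := A) p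
        rw [H4Depth.depth_congr e]
        exact h₃ p (fun hIp => hpa (hr p ‹p.IsPrime› le_rfl hIp)) hr
  exact H24Formal.HomC.existsUnique_hom_of_bijective I (H10Coh.Tw.isCoh_of_vb hE) (H10Coh.Tw.isCoh_of_vb hE')
    (H24Formal2.QAff.bijective_toHHlim (H10Coh.SheafHom.isFinLocFree_homSh hE hE') _
      (H24Formal2.Bridge.bijective_toHHlim_structure A I U hA)) ψ

end Groth.Agent.S9542
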