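import Groth.Statements.S9543
import Groth.Agent.H24Formal2.PunctBridge
import Groth.Agent.H24Formal2.PunctFormal
import Groth.Agent.H24Formal2.QAffSections

set_option autoImplicit false
set_option linter.style.haveILetI false
universe u
open CategoryTheory
open Formal2

attribute [-instance] CategoryTheory.catToReflQuiver
open AlgebraicGeometry Groth.Agent
namespace Groth.Agent.S9543

open AlgebraicGeometry Opposite in
/-- Let A be a Noetherian ring, f an element of an ideal 𝔞 with A complete for the f-adic topology, U =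
Spec A ∖ V(𝔞), and assume that H^1_𝔞(A) and H^2_𝔞(A) are each annihilated by a power of f. Then the
completion functor for the ideal (f) is fully faithful on finite locally free O_U-modules. (The
published statement writes the target category with an unnamed ideal I; the proof is for the ideal
(f), which is what is stated.) -/
theorem result (A : Type u) [CommRing A]
    [IsNoetherianRing A] (𝔞 : Ideal A) (f : A) (hf : f ∈ 𝔞) [IsAdicComplete (Ideal.span {f}) A]
    (h₁ : ∃ n : ℕ, ∀ x : LocCoh.H 𝔞 1 A, f ^ n • x = 0) (h₂ : ∃ n : ℕ, ∀ x : LocCoh.H 𝔞 2 A, f ^ n • x = 0) :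
    ∀ (E E' : (↑(LocCoh.puncturedOpen A 𝔞) : Scheme.{u}).Modules), FlatMod.IsFinLocFree E → FlatMod.IsFinLocFree E' →
      ∀ ψ : Formal.completion (Ideal.span {f}) E ⟶ Formal.completion (Ideal.span {f}) E',
        ∃! φ : E ⟶ E', ∀ n : ℕ, Formal.modPowπ (Ideal.span {f}) (n + 1) E ≫ ψ.app (op n) = φ ≫ Formal.modPowπ (Ideal.span {f}) (n + 1) E' := by
    intro E E' hE hE' ψ
    let U := LocCoh.puncturedOpen A 𝔞
    haveI : IsNoetherianRing ↑(CommRingCat.of A) := ‹IsNoetherianRing A›
    haveI : IsLocallyNoetherian (U : Scheme.{u}) := isLocallyNoetherian_of_isOpenImmersion U.ι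
    haveI : CompactSpace (U : Scheme.{u}) := isCompact_iff_compactSpace.1 (TopologicalSpace.NoetherianSpace.isCompact _)
    haveI : AlgebraicGeometry.IsNoetherian (U : Scheme.{u}) := ⟨⟩
    haveI : (U : Scheme.{u}).IsQuasiAffine := Scheme.IsQuasiAffine.of_isImmersion U.ι
    have h0 := H24Formal2.Bridge.bijective_toHHlim_structure A (Ideal.span {f}) U
      (H24Formal2.formalCohBijective_zero A 𝔞 f A h₁ h₂)
    exact H24Formal.HomC.existsUnique_hom_of_bijective (Ideal.span {f}) (H10Coh.Tw.isCoh_of_vb hE) (H10Coh.Tw.isCoh_of_vb hE')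
      (H24Formal2.QAff.bijective_toHHlim (H10Coh.SheafHom.isFinLocFree_homSh hE hE') _ h0) ψ

end Groth.Agent.S9543
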