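import Groth.Statements.S9544
import Groth.Agent.H24Formal2.DimBetween
import Groth.Agent.S9543
import Groth.Agent.H4DR.HT.FaltingsModule

set_option autoImplicit false
set_option linter.style.haveILetI false
universe u
open CategoryTheory
attribute [local instance] HasDerivedCategory.standard
open Formal2

attribute [-instance] CategoryTheory.catToReflQuiver
open AlgebraicGeometry Groth.Agent
namespace Groth.Agent.S9544

open AlgebraicGeometry Opposite in
/-- Let A be a Noetherian ring with a dualizing complex, f an element of an ideal 𝔞 with A complete for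
the f-adic topology, U = Spec A ∖ V(𝔞), and assume depth A_𝔭 + dim (A/𝔭)_𝔮 > 2 for every prime 𝔭 not
containing f and every prime 𝔮 ⊇ 𝔭 + 𝔞. Then the completion functor for the ideal (f) is fully
faithful on finite locally free O_U-modules. -/
theorem result (A : Type u) [CommRing A]
    [IsNoetherianRing A] (𝔞 : Ideal A) (f : A) (hf : f ∈ 𝔞) [IsAdicComplete (Ideal.span {f}) A]
    (hω : ∃ ω : Dual.D A, Dual.IsDualizing A ω)
    (h₂ : ∀ (p : Ideal A) [p.IsPrime], f ∉ p → ∀ (q : Ideal A) [q.IsPrime], p ≤ q → 𝔞 ≤ q →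
      ((2 : ℕ) : WithBot ℕ∞) < ((LocCoh.depth (Localization.AtPrime p) (Localization.AtPrime p) : ℕ∞) : WithBot ℕ∞) +
        Formal2.dimBetween A p q) :
    ∀ (E E' : (↑(LocCoh.puncturedOpen A 𝔞) : Scheme.{u}).Modules), FlatMod.IsFinLocFree E → FlatMod.IsFinLocFree E' →
      ∀ ψ : Formal.completion (Ideal.span {f}) E ⟶ Formal.completion (Ideal.span {f}) E',
        ∃! φ : E ⟶ E', ∀ n : ℕ, Formal.modPowπ (Ideal.span {f}) (n + 1) E ≫ ψ.app (op n) = φ ≫ Formal.modPowπ (Ideal.span {f}) (n + 1) E' := by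
    have hf' : PrimeSpectrum.zeroLocus (𝔞 : Set A) ⊆ PrimeSpectrum.zeroLocus ({f} : Set A) :=
      PrimeSpectrum.zeroLocus_anti_mono (Set.singleton_subset_iff.2 hf)
    have hst : ∀ S : Set A, StableUnderSpecialization (PrimeSpectrum.zeroLocus S) := fun S =>
      (PrimeSpectrum.isClosed_zeroLocus S).stableUnderSpecialization
    obtain ⟨ω, hω'⟩ := hω
    obtain ⟨J, hJ, hk⟩ := (H4DR.HT.exists_kill_module_iff A hω' (hst (𝔞 : Set A)) (hst {f}) 2).2
      fun p q hp hq hpq => by
        rw [← H24Formal2.dimBetween_eq hpq]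
        exact h₂ p.asIdeal (fun h => hp (Set.singleton_subset_iff.2 h)) q.asIdeal hpq hq
    obtain ⟨n, hn⟩ : f ∈ J.radical := by
      rw [← PrimeSpectrum.vanishingIdeal_zeroLocus_eq_radical, PrimeSpectrum.mem_vanishingIdeal]
      exact fun q hq => Set.singleton_subset_iff.1 (hJ hq)
    have kill : ∀ i, i ≤ 2 → ∃ m : ℕ, ∀ x : LocCoh.H 𝔞 i A, f ^ m • x = 0 := fun i hi =>
      ⟨n, fun x => (H4DR.HT.lcEquivT 𝔞 A i).injective (by rw [map_smul, map_zero]; exact (H4DR.HT.kill_module_iff A (PrimeSpectrum.zeroLocus (𝔞 : Set A)) (f ^ n) 2).1 (fun j hj => hk j hj _ hn) i (by exact_mod_cast hi) _)⟩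
    exact S9543.result A 𝔞 f hf (kill 1 (by norm_num)) (kill 2 le_rfl)

end Groth.Agent.S9544
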