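import Groth.Statements.S9551
import Groth.Agent.H24Algz4.CanonExt
import Groth.Agent.H24Algz4.EpiRange
import Groth.Agent.H10Coh.QCohOps
import Groth.Agent.H10Coh.OpenSpec
import Groth.Agent.H24Formal.OfIso

set_option autoImplicit false
set_option linter.style.haveILetI false
universe u
open CategoryTheory CategoryTheory.Limits AlgebraicGeometry Opposite
open Algz

attribute [-instance] CategoryTheory.catToReflQuiver
open Groth.Agent

namespace Groth.Agent.S9551

/-- Let A be a Noetherian ring, I ⊆ 𝔞 ideals, U = Spec A ∖ V(𝔞) with inclusion j, (F_n) an object of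
Coh(U, I O_U) and M = lim_n H^0(U, F_n). If the system H^0(U, F_n) is Mittag-Leffler, then for every
n the canonical map from M~|_U to F_n, adjoint (under the tilde and restriction adjunctions) to the
projection M → H^0(U, F_n) = Γ(Spec A, j_*F_n), is an epimorphism. (The source states surjectivity
of (M/I^nM)~|_U → F_n; the map from M~|_U factors through it after the epimorphism M~ → (M/I^nM)~,
so the two surjectivity statements are equivalent.) -/
theorem result (A : Type u) [CommRing A] [IsNoetherianRing A] (I 𝔞 : Ideal A) (hI𝔞 : I ≤ 𝔞)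
    (G : ℕᵒᵖ ⥤ (↑(LocCoh.puncturedOpen A 𝔞) : Scheme.{u}).Modules) (hG : Formal.IsCohFormal I G)
    (ha : ARSys.IsML (Algz.sectMod A (LocCoh.puncturedOpen A 𝔞) G)) (n : ℕ) :
    Epi (((Scheme.Modules.restrictAdjunction (LocCoh.puncturedOpen A 𝔞).ι).homEquiv _ (G.obj (op n))).symm
      (((tilde.adjunction (R := CommRingCat.of A)).homEquiv (limit (Algz.sectMod A (LocCoh.puncturedOpen A 𝔞) G))
        ((Scheme.Modules.pushforward (LocCoh.puncturedOpen A 𝔞).ι).obj (G.obj (op n)))).symm
          (limit.π (Algz.sectMod A (LocCoh.puncturedOpen A 𝔞) G) (op n)))) := by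
  letI : (Spec (CommRingCat.of A)).Over (Spec (CommRingCat.of A)) := ⟨𝟙 _⟩
  let U := LocCoh.puncturedOpen A 𝔞
  let R := CommRingCat.of A
  let Y := Algz.sectMod A U G
  let P : Scheme.Modules (Spec R) ⥤ (U : Scheme.{u}).Modules := Scheme.Modules.restrictFunctor U.ι
  let F : ModuleCat.{u} A ⥤ (U : Scheme.{u}).Modules := tilde.functor R ⋙ P
  haveI hqc : ∀ k : ℕᵒᵖ, ((G ⋙ Scheme.Modules.pushforward U.ι).obj k).IsQuasicoherent := fun k => by
    haveI : CompactSpace U.toScheme := isCompact_iff_compactSpace.1 (TopologicalSpace.NoetherianSpace.isCompact _)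
    haveI : QuasiCompact U.ι := quasiCompact_of_compactSpace U.ι
    haveI : (G.obj k).IsQuasicoherent := (hG.1 k.unop).1
    exact H10Coh.isQuasicoherent_pushforward U.ι (G.obj k)
  let e₁ : Algz.sectSys A U G ≅ G ⋙ Scheme.Modules.pushforward U.ι :=
    NatIso.ofComponents (fun k => H10Coh.tildeIso (R := R) ((G ⋙ Scheme.Modules.pushforward U.ι).obj k)) fun {k k'} f =>
      (tilde.adjunction (R := R)).counit.naturality ((G ⋙ Scheme.Modules.pushforward U.ι).map f)
  let e₂ : Y ⋙ F ≅ G :=
    (Functor.associator Y (tilde.functor R) P).symm ≪≫ Functor.isoWhiskerRight e₁ P ≪≫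
      NatIso.ofComponents (fun k => H10Coh.pushRestrictSelf U.ι (G.obj k)) fun {k k'} f => by
        exact (Scheme.Modules.restrictAdjunction U.ι).counit.naturality (G.map f)
  obtain ⟨N, hN, hN'⟩ := H24Algz4.exists_stable Y ha n
  let τ := Y.map (homOfLE hN).op
  haveI hτ : Epi (F.map τ) := by
    haveI := (H24Formal.epi_and_factor hG hN).1
    exact ((MorphismProperty.epimorphisms _).arrow_mk_iso_iff
      (Arrow.isoMk (e₂.app (op N)) (e₂.app (op n)) (e₂.hom.naturality (homOfLE hN).op).symm)).2 this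
  let p : limit Y ⟶ Y.obj (op n) := limit.π Y (op n)
  haveI : (tilde.functor R).IsLeftAdjoint := (tilde.adjunction (R := R)).isLeftAdjoint
  haveI : P.IsLeftAdjoint := (Scheme.Modules.restrictAdjunction U.ι).isLeftAdjoint
  haveI : F.PreservesEpimorphisms := ⟨fun f _ => P.map_epi ((tilde.functor R).map f)⟩
  haveI hp : Epi (F.map p) := H24Algz4.epi_map_of_range F p τ hN' hτ
  let N₀ := (Scheme.Modules.pushforward U.ι).obj (G.obj (op n))
  let c₁ : tilde (R := R) ((moduleSpecΓFunctor (R := R)).obj N₀) ⟶ N₀ := (tilde.adjunction (R := R)).counit.app N₀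
  let c₂ : P.obj N₀ ⟶ G.obj (op n) := (Scheme.Modules.restrictAdjunction U.ι).counit.app (G.obj (op n))
  haveI hc₁ : IsIso c₁ := (H10Coh.tildeIso (R := R) ((G ⋙ Scheme.Modules.pushforward U.ι).obj (op n))).isIso_hom
  haveI hc₂ : IsIso c₂ := (H10Coh.pushRestrictSelf U.ι (G.obj (op n))).isIso_hom
  rw [Adjunction.homEquiv_counit, Adjunction.homEquiv_counit]
  exact H24Algz4.epi_map_comp_comp P ((tilde.functor R).map p) c₁ c₂ hp hc₁ hc₂

end Groth.Agent.S9551
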