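import Groth.Statements.S9553
import Groth.Agent.H24Algz4.QuotCoh
import Groth.Agent.H24Algz4.ProQuot
import Groth.Agent.H10Coh.QCohOps
import Groth.Agent.H10Coh.OpenSpec

set_option autoImplicit false
set_option linter.style.haveILetI false
universe u
open CategoryTheory CategoryTheory.Limits AlgebraicGeometry Opposite
open Algz

attribute [-instance] CategoryTheory.catToReflQuiver
open Groth.Agent

namespace Groth.Agent.S9553

/-- Let A be a Noetherian ring, I ⊆ 𝔞 ideals, U = Spec A ∖ V(𝔞) with inclusion j, (F_n) an object of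
Coh(U, I O_U), M = lim_n H^0(U, F_n) and G_n = (M/I^(n+1)M)~ (positions shifted by one). Assume the
limit topology of M agrees with the I-adic one: for every k some kernel of M → H^0(U, F_n) lies in
I^k M. Let ℓ_n : M/I^(n+1)M → H^0(U, F_n) = Γ(Spec A, j_*F_n) be the factorisations of the
projections (they exist since F_n is killed by I^(n+1); they are pinned here by that property) and
G_n → j_*F_n the adjoint maps. Then (i) each G_n|_U is coherent, and (ii) the resulting morphism
(G_n|_U) → (F_n) of inverse systems is a monomorphism in Coh(U, I O_U) (an abelian category), in the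
form the printed proof establishes: for every f ∈ 𝔞, a family of sections of the G_n over D(f),
compatible under the transition maps, whose images in the Γ(D(f), j_*F_n) = Γ(D(f) ∩ U, F_n) all
vanish, is zero. -/
theorem result (A : Type u) [CommRing A] [IsNoetherianRing A] (I 𝔞 : Ideal A) (hI𝔞 : I ≤ 𝔞)
    (G : ℕᵒᵖ ⥤ (↑(LocCoh.puncturedOpen A 𝔞) : Scheme.{u}).Modules) (hG : Formal.IsCohFormal I G)
    (hb : ∀ k : ℕ, ∃ n : ℕ, LinearMap.ker (limit.π (Algz.sectMod A (LocCoh.puncturedOpen A 𝔞) G) (op n)).hom ≤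
      I ^ k • (⊤ : Submodule A ↑(limit (Algz.sectMod A (LocCoh.puncturedOpen A 𝔞) G))))
    (ℓ : ∀ n : ℕ, ModuleCat.of A (Formal2.quotPow A I ↑(limit (Algz.sectMod A (LocCoh.puncturedOpen A 𝔞) G)) n) ⟶ (Algz.sectMod A (LocCoh.puncturedOpen A 𝔞) G).obj (op n))
    (hℓ : ∀ n : ℕ, ModuleCat.ofHom (Formal2.quotPowπ A I ↑(limit (Algz.sectMod A (LocCoh.puncturedOpen A 𝔞) G)) n) ≫ ℓ n = limit.π (Algz.sectMod A (LocCoh.puncturedOpen A 𝔞) G) (op n)) :
    (∀ n : ℕ, Coh.IsCoh ((Scheme.Modules.restrictFunctor (LocCoh.puncturedOpen A 𝔞).ι).obj (Formal2.tmod A (Formal2.quotPow A I ↑(limit (Algz.sectMod A (LocCoh.puncturedOpen A 𝔞) G)) n)))) ∧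
    ∀ (f : A), f ∈ 𝔞 →
      ∀ x : (∀ n : ℕ, (Scheme.Modules.presheaf (Formal2.tmod A (Formal2.quotPow A I ↑(limit (Algz.sectMod A (LocCoh.puncturedOpen A 𝔞) G)) n))).obj (op (PrimeSpectrum.basicOpen f : (Spec (CommRingCat.of A)).Opens))),
        (∀ n : ℕ, Scheme.Modules.Hom.app (Formal2.tmodMap A (Formal2.quotPowTrans A I ↑(limit (Algz.sectMod A (LocCoh.puncturedOpen A 𝔞) G)) n)) (PrimeSpectrum.basicOpen f : (Spec (CommRingCat.of A)).Opens) (x (n + 1)) = x n) →
        (∀ n : ℕ, Scheme.Modules.Hom.app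
            (((tilde.adjunction (R := CommRingCat.of A)).homEquiv (ModuleCat.of A (Formal2.quotPow A I ↑(limit (Algz.sectMod A (LocCoh.puncturedOpen A 𝔞) G)) n))
              ((Scheme.Modules.pushforward (LocCoh.puncturedOpen A 𝔞).ι).obj (G.obj (op n)))).symm (ℓ n))
            (PrimeSpectrum.basicOpen f : (Spec (CommRingCat.of A)).Opens) (x n) = 0) →
        ∀ n : ℕ, x n = 0 := by
  letI : (Spec (CommRingCat.of A)).Over (Spec (CommRingCat.of A)) := ⟨𝟙 _⟩
  let U := LocCoh.puncturedOpen A 𝔞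
  let R := CommRingCat.of A
  let Y := Algz.sectMod A U G
  let M : ModuleCat.{u} A := limit Y
  let P : Scheme.Modules (Spec R) ⥤ (U : Scheme.{u}).Modules := Scheme.Modules.restrictFunctor U.ι
  let F : ModuleCat.{u} A ⥤ (U : Scheme.{u}).Modules := tilde.functor R ⋙ P
  haveI hqc : ∀ k : ℕᵒᵖ, ((G ⋙ Scheme.Modules.pushforward U.ι).obj k).IsQuasicoherent := fun k => by
    haveI : CompactSpace U.toScheme := isCompact_iff_compactSpace.1 (TopologicalSpace.NoetherianSpace.isCompact _)
    haveI : QuasiCompact U.ι := quasiCompact_of_compactSpace U.ι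
    haveI : (G.obj k).IsQuasicoherent := (hG.1 k.unop).1
    exact H10Coh.isQuasicoherent_pushforward U.ι (G.obj k)
  refine ⟨fun n => ?_, fun f hf x hx hx0 n => ?_⟩
  · obtain ⟨k, hk⟩ := hb (n + 1)
    haveI : IsNoetherianRing R := ‹IsNoetherianRing A›
    haveI : IsLocallyNoetherian (Spec R) := inferInstance
    haveI : IsLocallyNoetherian (U : Scheme.{u}) := isLocallyNoetherian_of_isOpenImmersion U.ι
    let p : M ⟶ Y.obj (op k) := limit.π Y (op k)
    obtain ⟨rg, i, q, hi, hq⟩ := H24Algz4.exists_mono_epi_of_ker_le R (X := M) (Y := Y.obj (op k)) p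
      (I ^ (n + 1) • (⊤ : Submodule A M)) hk
    haveI : (tilde.functor R).IsLeftAdjoint := (tilde.adjunction (R := R)).isLeftAdjoint
    haveI : P.IsLeftAdjoint := (Scheme.Modules.restrictAdjunction U.ι).isLeftAdjoint
    haveI : PreservesFiniteLimits (tilde.functor R) := @H10Coh.tilde_preservesFiniteLimits R
    haveI : Mono ((tilde.functor R).map i) := inferInstance
    haveI : Mono (P.map ((tilde.functor R).map i)) := inferInstance
    haveI : Epi ((tilde.functor R).map q) := (tilde.functor R).map_epi q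
    haveI hPq : Epi (P.map ((tilde.functor R).map q)) := P.map_epi _
    let N₀ := (Scheme.Modules.pushforward U.ι).obj (G.obj (op k))
    have hk0 : Coh.IsCoh (P.obj (tilde (R := R) (Y.obj (op k)))) :=
      H10Coh.isCoh_of_iso (P.mapIso (H10Coh.tildeIso (R := R) ((G ⋙ Scheme.Modules.pushforward U.ι).obj (op k))) ≪≫
        H10Coh.pushRestrictSelf U.ι (G.obj (op k))).symm (hG.1 k)
    have hqr : ∀ L : ModuleCat.{u} A, Coh.IsQCoh (P.obj (tilde (R := R) L)) := fun L =>
      inferInstanceAs ((Scheme.Modules.restrictFunctor U.ι).obj (tilde (R := R) L)).IsQuasicoherent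
    exact @H24Algz4.isCoh_of_epi _ _ _ (P.map ((tilde.functor R).map q)) hPq
      (H10Coh.isCoh_of_mono (P.map ((tilde.functor R).map i)) (hqr rg) hk0) (hqr _)
  · obtain ⟨k₀, hk₀⟩ := hb (n + 1)
    let k := max n k₀
    have hker : ∀ z : M, (limit.π Y (op k)).hom z = 0 → z ∈ I ^ (n + 1) • (⊤ : Submodule A M) := fun z hz => hk₀ (by
      rw [LinearMap.mem_ker, ← H24Formal.limit_π_map Y (le_max_right n k₀) z, hz, map_zero])
    let Q : ℕ → ModuleCat.{u} R := fun m => ModuleCat.of A (Formal2.quotPow A I M m)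
    let N₀ := (Scheme.Modules.pushforward U.ι).obj (G.obj (op k))
    let c₁ : tilde (R := R) ((moduleSpecΓFunctor (R := R)).obj N₀) ⟶ N₀ := (tilde.adjunction (R := R)).counit.app N₀
    have hc₁ : IsIso c₁ := (H10Coh.tildeIso (R := R) ((G ⋙ Scheme.Modules.pushforward U.ι).obj (op k))).isIso_hom
    have h1 := hx0 k
    rw [Adjunction.homEquiv_counit] at h1
    refine H24Algz4.eq_zero_of_ker R (M := M) Q (fun m => ModuleCat.ofHom (Formal2.quotPowπ A I M m))
      (fun m => Submodule.Quotient.mk_surjective _) (fun m => ModuleCat.ofHom (Formal2.quotPowTrans A I M m))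
      (fun m => rfl) f x hx (le_max_left n k₀) (Y := Y.obj (op k)) (ℓ k) (fun z hz => ?_)
      (H24Algz4.app_eq_zero_of_comp_iso (tilde.map (R := R) (ℓ k)) c₁ hc₁ _ (x k) h1)
    exact (Submodule.Quotient.mk_eq_zero _).2 (hker z ((congr($(hℓ k) z)).symm.trans hz))

end Groth.Agent.S9553
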