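import Groth.Statements.S9557
import Mathlib
import Groth.Agent.H9Hens.EtaleSplitDecomp
-- import your own Groth.Agent.* helpers here

set_option autoImplicit false
universe u
open EtLocal

namespace Groth.Agent.S9557

open AlgebraicGeometry CategoryTheory Limits in
/-- Let f : X ⟶ S be any morphism of schemes, s a point of S and x_1, …, x_n pairwise distinct points of
X over s such that f is étale at each x_i (the restriction of f to some open neighbourhood of x_i is
étale). Then there are an étale morphism g : U ⟶ S, a point u of U over s and finitely many opens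
V_k of X_U = X ×_S U, each labelled by one of the x_i, such that (1) each V_k ⟶ U is an isomorphism,
(2) no point of X_U over u lies in two different V_k, and (3) every point of X_U over u mapping to
x_i lies in some V_k labelled by x_i. -/
theorem result {X S : Scheme.{u}} (f : X ⟶ S) (s : S)
    {ι : Type} [Finite ι] (x : ι → ↑X) (hinj : Function.Injective x) (hs : ∀ i, f (x i) = s)
    (hx : ∀ i, ∃ W : X.Opens, x i ∈ W ∧ Etale (W.ι ≫ f)) :
    ∃ (U : Scheme.{u}) (g : U ⟶ S) (u : U), Etale g ∧ g u = s ∧
      ∃ (K : Type) (_ : Finite K) (lab : K → ι) (V : K → (pullback f g).Opens),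
        (∀ k, IsIso ((V k).ι ≫ pullback.snd f g)) ∧
        (∀ (k k' : K) (w : ↑(pullback f g)), w ∈ V k → w ∈ V k' → pullback.snd f g w = u → k = k') ∧
        (∀ (w : ↑(pullback f g)) (i : ι), pullback.snd f g w = u → pullback.fst f g w = x i →
          ∃ k, lab k = i ∧ w ∈ V k) := by
  obtain ⟨U, g, u, hg, hu, hfin, hV⟩ := H9Hens.exists_iso_charts f s x hs hx
  classical
  have := hfin.to_subtype
  obtain ⟨n, ⟨e⟩⟩ := Finite.exists_equiv_fin
    {v : ↑(pullback f g) | pullback.snd f g v = u ∧ ∃ i, pullback.fst f g v = x i}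
  choose lab hlab using fun k => (e.symm k).2.2
  choose V hvV hVP using fun k => hV (e.symm k).1 (e.symm k).2.1 (e.symm k).2.2
  refine ⟨U, g, u, hg, hu, Fin n, inferInstance, lab, V, hVP, fun k k' w hk hk' hw => ?_,
    fun w i hw hi => ?_⟩
  · have := hVP k
    have := hVP k'
    have h1 : w = (e.symm k).1 := congrArg Subtype.val (((V k).ι ≫ pullback.snd f g).isClosedEmbedding.injective
      (a₁ := ⟨w, hk⟩) (a₂ := ⟨_, hvV k⟩) (hw.trans (e.symm k).2.1.symm))
    have h2 : w = (e.symm k').1 := congrArg Subtype.val (((V k').ι ≫ pullback.snd f g).isClosedEmbedding.injective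
      (a₁ := ⟨w, hk'⟩) (a₂ := ⟨_, hvV k'⟩) (hw.trans (e.symm k').2.1.symm))
    exact e.symm.injective (Subtype.ext (h1.symm.trans h2))
  · have hk : (e.symm (e ⟨w, hw, i, hi⟩)).1 = w := by rw [Equiv.symm_apply_apply]
    refine ⟨e ⟨w, hw, i, hi⟩, hinj ?_, by simpa only [hk] using hvV (e ⟨w, hw, i, hi⟩)⟩
    rw [← hlab, hk]
    exact hi

end Groth.Agent.S9557
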