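import Groth.Statements.S9562
import Mathlib
import Groth.Agent.H9Hens.CompletionEtale
-- import your own Groth.Agent.* helpers here

set_option autoImplicit false
universe u
open EtLocal

namespace Groth.Agent.S9562

/-- Let A → B be a local homomorphism of Noetherian local rings with B essentially of finite type over
A, and let ψ be the induced map between the completions of A and B at their maximal ideals (a ring
map of the completions whose composite with A → A^ is A → B → B^; such a map is unique). Then A → B
is an étale homomorphism of local rings, i.e. B is flat over A, m_A B = m_B and the residue field of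
B is a finite separable extension of that of A, if and only if ψ is an étale ring map; moreover in
that case the completion of B is, through ψ, a free module of finite positive rank over the
completion of A. (The published statement lists a third equivalent condition, that ψ is itself an
étale homomorphism of local rings; this row keeps the two outer ones.) -/
theorem result (A B : Type u) [CommRing A] [CommRing B]
    [IsLocalRing A] [IsLocalRing B] [IsNoetherianRing A] [IsNoetherianRing B] [Algebra A B]
    [IsLocalHom (algebraMap A B)] [Algebra.EssFiniteType A B]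
    (ψ : AdicCompletion (IsLocalRing.maximalIdeal A) A →+* AdicCompletion (IsLocalRing.maximalIdeal B) B)
    (hψ : ψ.comp (algebraMap A (AdicCompletion (IsLocalRing.maximalIdeal A) A)) =
      (algebraMap B (AdicCompletion (IsLocalRing.maximalIdeal B) B)).comp (algebraMap A B)) :
    ((Module.Flat A B ∧ (IsLocalRing.maximalIdeal A).map (algebraMap A B) = IsLocalRing.maximalIdeal B ∧
        Module.Finite (IsLocalRing.ResidueField A) (IsLocalRing.ResidueField B) ∧
        Algebra.IsSeparable (IsLocalRing.ResidueField A) (IsLocalRing.ResidueField B)) ↔ ψ.Etale) ∧
      (ψ.Etale →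
        letI := ψ.toAlgebra
        ∃ n : ℕ, 0 < n ∧
          Nonempty ((Fin n → AdicCompletion (IsLocalRing.maximalIdeal A) A) ≃ₗ[AdicCompletion (IsLocalRing.maximalIdeal A) A]
            AdicCompletion (IsLocalRing.maximalIdeal B) B)) := by
  have hA := H05EGA4.isNoetherianRing_adicCompletion A (IsLocalRing.maximalIdeal A)
  have hfl := H02CA.flat_completion_iff (algebraMap A B) ψ hψ
  have key : ψ.Etale → Module.Flat A B ∧
      (IsLocalRing.maximalIdeal A).map (algebraMap A B) = IsLocalRing.maximalIdeal B ∧
        Module.Finite (IsLocalRing.ResidueField A) (IsLocalRing.ResidueField B) ∧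
        Algebra.IsSeparable (IsLocalRing.ResidueField A) (IsLocalRing.ResidueField B) := by
    intro h
    algebraize [ψ]
    have hft : ψ.FiniteType :=
      (inferInstance : Algebra.FiniteType (AdicCompletion (IsLocalRing.maximalIdeal A) A)
        (AdicCompletion (IsLocalRing.maximalIdeal B) B))
    have hfu : ψ.FormallyUnramified :=
      (inferInstance : Algebra.FormallyUnramified (AdicCompletion (IsLocalRing.maximalIdeal A) A)
        (AdicCompletion (IsLocalRing.maximalIdeal B) B))
    have hflat : ψ.Flat :=
      (inferInstance : Module.Flat (AdicCompletion (IsLocalRing.maximalIdeal A) A)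
        (AdicCompletion (IsLocalRing.maximalIdeal B) B))
    exact ⟨RingHom.flat_algebraMap_iff.mp (hfl.mp hflat),
      (H9Hens.unramified_completion_iff ψ hψ).mpr ⟨hft, hfu⟩⟩
  refine ⟨⟨?_, key⟩, fun h => ?_⟩
  · rintro ⟨hflat, hm, hfin, hsep⟩
    obtain ⟨hft, hfu⟩ := (H9Hens.unramified_completion_iff ψ hψ).mp ⟨hm, hfin, hsep⟩
    have hψflat := hfl.mpr (RingHom.flat_algebraMap_iff.mpr hflat)
    algebraize [ψ]
    have : Algebra.FinitePresentation (AdicCompletion (IsLocalRing.maximalIdeal A) A)
        (AdicCompletion (IsLocalRing.maximalIdeal B) B) :=
      Algebra.FinitePresentation.of_finiteType.mp hft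
    exact Algebra.Etale.of_formallyUnramified_of_flat
  · obtain ⟨hflat, hm, hfin, hsep⟩ := key h
    have hψflat := hfl.mpr (RingHom.flat_algebraMap_iff.mpr hflat)
    have hψfin := H9Hens.finite_completion ψ hψ hm
    let := ψ.toAlgebra
    have : Module.Finite (AdicCompletion (IsLocalRing.maximalIdeal A) A)
        (AdicCompletion (IsLocalRing.maximalIdeal B) B) := hψfin
    have : Module.Flat (AdicCompletion (IsLocalRing.maximalIdeal A) A)
        (AdicCompletion (IsLocalRing.maximalIdeal B) B) := hψflat
    have : Module.Free (AdicCompletion (IsLocalRing.maximalIdeal A) A)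
        (AdicCompletion (IsLocalRing.maximalIdeal B) B) := Module.free_of_flat_of_isLocalRing
    let b := Module.Free.chooseBasis (AdicCompletion (IsLocalRing.maximalIdeal A) A)
        (AdicCompletion (IsLocalRing.maximalIdeal B) B)
    exact ⟨_, Fintype.card_pos_iff.mpr b.index_nonempty,
      ⟨(b.reindex (Fintype.equivFin _)).equivFun.symm⟩⟩

end Groth.Agent.S9562
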