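import Groth.Statements.S9567
import Mathlib
import Groth.Agent.S9722
-- import your own Groth.Agent.* helpers here

set_option autoImplicit false
universe u
open EtLocal

namespace Groth.Agent.S9567

open AlgebraicGeometry CategoryTheory in
/-- Let φ : X ⟶ Y be any morphism of schemes, x a point of X and V an affine open neighbourhood of φ(x),
with ring R = Γ(Y, V). If φ is étale on some open neighbourhood of x, then there are an affine open
neighbourhood U of x with φ(U) ⊆ V, a monic polynomial p over R and an open immersion j of U into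
Spec of (R[t]/(p))[1/p′] (the localization of R[t]/(p) away from the image of the derivative of p)
such that j followed by the projection to Spec R is the morphism U → Spec R induced by φ. -/
theorem result {X Y : Scheme.{u}} (φ : X ⟶ Y) (x : X)
    (V : Y.Opens) (hV : IsAffineOpen V) (hxV : φ.base x ∈ V)
    (hφ : ∃ W : X.Opens, x ∈ W ∧ Etale (W.ι ≫ φ)) :
    ∃ (U : X.Opens) (hU : IsAffineOpen U) (_ : x ∈ U) (e : U ≤ φ ⁻¹ᵁ V)
      (p : Polynomial Γ(Y, V)) (_ : p.Monic)
      (j : U.toScheme ⟶ Spec (CommRingCat.of (Localization.Away (AdjoinRoot.mk p (Polynomial.derivative p))))),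
      IsOpenImmersion j ∧
        j ≫ Spec.map (CommRingCat.ofHom
            (algebraMap Γ(Y, V) (Localization.Away (AdjoinRoot.mk p (Polynomial.derivative p))))) =
          hU.isoSpec.hom ≫ Spec.map (φ.appLE V U e) := by
  obtain ⟨U, hU, hxU, e, hst⟩ := (Groth.Agent.S9722.result φ x V hV hxV).mp hφ
  algebraize [(φ.appLE V U e).hom]
  obtain ⟨Q⟩ := (inferInstance : Algebra.IsStandardEtale Γ(Y, V) Γ(X, U)).nonempty_standardEtalePresentation
  let P := Q.P
  let B := AdjoinRoot P.f
  let d : B := AdjoinRoot.mk P.f (Polynomial.derivative P.f)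
  let g : B := AdjoinRoot.mk P.f P.g
  let L' := Localization.Away d
  let L := Localization.Away g
  have hd : IsUnit (algebraMap B L d) := by
    obtain ⟨a, b, k, hab⟩ := P.cond
    have h1 : d * AdjoinRoot.mk P.f a = g ^ k := by
      have := congrArg (AdjoinRoot.mk P.f) hab
      rw [map_add, map_mul, map_mul, AdjoinRoot.mk_self, zero_mul, add_zero, map_pow] at this
      exact this
    refine isUnit_of_mul_isUnit_left (y := algebraMap B L (AdjoinRoot.mk P.f a)) ?_
    rw [← map_mul, h1, map_pow]
    exact (IsLocalization.Away.algebraMap_isUnit g).pow k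
  let j₀ : L' →+* L := IsLocalization.Away.lift d (g := algebraMap B L) hd
  have hj₀ : ∀ b, j₀ (algebraMap B L' b) = algebraMap B L b := fun b => IsLocalization.lift_eq _ b
  let : Algebra L' L := j₀.toAlgebra
  have : IsLocalization.Away (algebraMap B L' g) L := by
    refine ⟨fun y => ?_, fun z => ?_, fun {x y} h => ?_⟩
    · obtain ⟨_, k, rfl⟩ := y
      change IsUnit (j₀ (algebraMap B L' g ^ k))
      rw [map_pow, hj₀]
      exact (IsLocalization.Away.algebraMap_isUnit g).pow k
    · obtain ⟨k, b, hb⟩ := IsLocalization.Away.surj g z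
      refine ⟨⟨algebraMap B L' b, ⟨algebraMap B L' g ^ k, k, rfl⟩⟩, ?_⟩
      change z * j₀ (algebraMap B L' g ^ k) = j₀ (algebraMap B L' b)
      rw [map_pow, hj₀, hj₀, hb]
    · obtain ⟨i, a, ha⟩ := IsLocalization.Away.surj d (x - y)
      have h0 : algebraMap B L a = 0 := by
        have h' : j₀ x = j₀ y := h
        rw [← hj₀, ← ha, map_mul, map_sub, h', sub_self, zero_mul]
      obtain ⟨⟨_, k, rfl⟩, hc⟩ := (IsLocalization.map_eq_zero_iff (Submonoid.powers g) L a).mp h0
      refine ⟨⟨algebraMap B L' g ^ k, k, rfl⟩, ?_⟩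
      change algebraMap B L' g ^ k * x = algebraMap B L' g ^ k * y
      refine ((IsLocalization.Away.algebraMap_isUnit d).pow i).mul_right_cancel ?_
      rw [← sub_eq_zero, ← sub_mul, ← mul_sub, mul_assoc, ha, ← map_pow, ← map_mul]
      simp only at hc
      rw [hc, map_zero]
  have : IsOpenImmersion (Spec.map (CommRingCat.ofHom j₀)) :=
    IsOpenImmersion.of_isLocalization (R := L') (S := L) (algebraMap B L' g)
  let ε : Γ(X, U) ≃ₐ[Γ(Y, V)] L := Q.equivRing.trans P.equivAwayAdjoinRoot
  have : IsIso (CommRingCat.ofHom ε.symm.toAlgHom.toRingHom) :=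
    (inferInstance : IsIso ε.symm.toRingEquiv.toCommRingCatIso.hom)
  refine ⟨U, hU, hxU, e, P.f, P.monic_f,
    hU.isoSpec.hom ≫ Spec.map (CommRingCat.ofHom ε.symm.toAlgHom.toRingHom) ≫
      Spec.map (CommRingCat.ofHom j₀), inferInstance, ?_⟩
  simp only [Category.assoc, ← Spec.map_comp]
  congr 2
  ext r
  change ε.symm (j₀ (algebraMap Γ(Y, V) L' r)) = (φ.appLE V U e).hom r
  rw [IsScalarTower.algebraMap_apply Γ(Y, V) B L', hj₀, ← IsScalarTower.algebraMap_apply, ε.symm.commutes]
  rfl

end Groth.Agent.S9567
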