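import Groth.Statements.S9568
import Mathlib
-- import your own Groth.Agent.* helpers here

set_option autoImplicit false
universe u
open EtLocal

namespace Groth.Agent.S9568

theorem span_localized_eq_top_iff {P M : Type u} [CommRing P] [AddCommGroup M] [Module P M]
    [Module.Finite P M] (𝔮 : Ideal P) [𝔮.IsPrime] (I : Ideal P) (hI : I ≤ 𝔮) (s : Set M) :
    Submodule.span (Localization.AtPrime 𝔮) (LocalizedModule.mkLinearMap 𝔮.primeCompl M '' s) = ⊤ ↔
      ∀ m : M, ∃ t ∈ 𝔮.primeCompl, t • m ∈ Submodule.span P s ⊔ I • ⊤ := by
  let f := LocalizedModule.mkLinearMap 𝔮.primeCompl M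
  rw [← Submodule.localized'_span (Localization.AtPrime 𝔮) 𝔮.primeCompl f]
  constructor
  · intro h m
    obtain ⟨n, hn, t, ht⟩ := (h.ge (Submodule.mem_top (x := f m)) :
      f m ∈ (Submodule.span P s).localized' _ 𝔮.primeCompl f)
    rw [IsLocalizedModule.mk'_eq_iff, Submonoid.smul_def, ← map_smul] at ht
    obtain ⟨c, hc⟩ := IsLocalizedModule.exists_of_eq (S := 𝔮.primeCompl) ht
    refine ⟨c * t, mul_mem c.2 t.2, Submodule.mem_sup_left ?_⟩
    rw [mul_smul]
    simp only [Submonoid.smul_def] at hc
    exact hc ▸ Submodule.smul_mem _ _ hn
  · intro h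
    have : Module.Finite (Localization.AtPrime 𝔮) (LocalizedModule 𝔮.primeCompl M) :=
      Module.Finite.of_isLocalizedModule 𝔮.primeCompl f
    refine top_le_iff.mp (Submodule.le_of_le_smul_of_le_jacobson_bot Module.Finite.fg_top
      (IsLocalRing.maximalIdeal_le_jacobson ⊥) ?_)
    intro x _
    obtain ⟨⟨m, t₀⟩, rfl⟩ := IsLocalizedModule.mk'_surjective 𝔮.primeCompl f x
    obtain ⟨t, ht, htm⟩ := h m
    obtain ⟨a, ha, b, hb, hab⟩ := Submodule.mem_sup.mp htm
    have key : IsLocalizedModule.mk' f m t₀ =
        IsLocalizedModule.mk' f a (⟨t, ht⟩ * t₀) + IsLocalizedModule.mk' f b (⟨t, ht⟩ * t₀) := by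
      rw [← IsLocalizedModule.mk'_add, hab]
      exact (IsLocalizedModule.mk'_cancel_left f m ⟨t, ht⟩ t₀).symm
    rw [Function.uncurry_apply_pair, key]
    refine add_mem (Submodule.mem_sup_left ⟨a, ha, _, rfl⟩) (Submodule.mem_sup_right ?_)
    generalize (⟨t, ht⟩ * t₀ : 𝔮.primeCompl) = u
    clear key hab
    refine Submodule.smul_induction_on hb (fun r hr n _ => ?_) fun y z hy hz => ?_
    · rw [IsLocalizedModule.mk'_smul, ← algebraMap_smul (Localization.AtPrime 𝔮) r]
      exact Submodule.smul_mem_smul
        ((IsLocalization.AtPrime.to_map_mem_maximal_iff _ 𝔮 r).mpr (hI hr)) Submodule.mem_top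
    · rw [IsLocalizedModule.mk'_add]
      exact add_mem hy hz

/-- Let A be a ring, φ a surjection from the polynomial ring P = A[x_1, …, x_n] onto an A-algebra B with
kernel I, q a prime of B and 𝔮 its preimage in P. Then the localization at q of the module of
differentials Ω_{B/A} vanishes if and only if the images of the differentials dg, g ∈ I, span the
localization of Ω_{P/A} at 𝔮 over P_𝔮. (Geometrically: for f locally of finite type, the stalk of
Ω_{X/Y} at x vanishes iff near x the scheme X is a closed subscheme of an affine space over the base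
cut out by an ideal whose germs at the point have differentials generating the stalk of Ω of the
affine space; the published statement also lists the equivalence with f being unramified at x and
with the diagonal being a local isomorphism at x, which this row does not restate. The published
statement asks for one such presentation near the point; this row states the equivalence for every
presentation, which is what the published proof shows and which implies the existential form.) -/
theorem result {A B : Type u} [CommRing A] [CommRing B]
    [Algebra A B] (n : ℕ) (φ : MvPolynomial (Fin n) A →ₐ[A] B) (hφ : Function.Surjective φ)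
    (q : Ideal B) [q.IsPrime] :
    Subsingleton (LocalizedModule q.primeCompl (KaehlerDifferential A B)) ↔
      Submodule.span (Localization.AtPrime (q.comap φ.toRingHom))
        ((LocalizedModule.mkLinearMap (q.comap φ.toRingHom).primeCompl
            (KaehlerDifferential A (MvPolynomial (Fin n) A))) ''
          ((KaehlerDifferential.D A (MvPolynomial (Fin n) A)) '' (RingHom.ker φ.toRingHom : Set (MvPolynomial (Fin n) A)))) = ⊤ := by
  let P := MvPolynomial (Fin n) A
  let : Algebra P B := φ.toRingHom.toAlgebra
  have : IsScalarTower A P B := IsScalarTower.of_algebraMap_eq fun a => (φ.commutes a).symm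
  let I : Ideal P := RingHom.ker φ.toRingHom
  let D := KaehlerDifferential.D A P
  let π := KaehlerDifferential.map A A P B
  have hπ : Function.Surjective π := KaehlerDifferential.map_surjective_of_surjective A A P B hφ
  let N : Submodule P (KaehlerDifferential A P) := Submodule.span P (D '' (I : Set P)) ⊔ I • ⊤
  have hN : LinearMap.ker π = N := by
    refine le_antisymm ?_ (sup_le (Submodule.span_le.mpr ?_) (Submodule.smul_le.mpr ?_))
    · rw [KaehlerDifferential.ker_map_of_surjective A P B hφ, Submodule.map_le_iff_le_comap]
      intro x hx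
      rw [Submodule.mem_comap, ← Submodule.Quotient.mk_eq_zero]
      change N.mkQ _ = 0
      obtain ⟨s, hs⟩ := hφ.hasRightInverse
      let Φ : (B →₀ P) →ₗ[P] (KaehlerDifferential A P ⧸ N) :=
        Finsupp.linearCombination P fun b => N.mkQ (D (s b))
      have h1 : N.mkQ (Finsupp.linearCombination P D x) = Φ (Finsupp.mapDomain φ x) := by
        rw [Finsupp.apply_linearCombination, Finsupp.linearCombination_mapDomain]
        congr 2
        ext p
        simp only [Function.comp_apply, Submodule.mkQ_apply, Submodule.Quotient.eq, ← map_sub]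
        refine Submodule.mem_sup_left (Submodule.subset_span ⟨_, ?_, rfl⟩)
        rw [SetLike.mem_coe, RingHom.mem_ker, map_sub, sub_eq_zero]
        exact (hs (φ p)).symm
      refine h1.trans ?_
      rw [Finsupp.linearCombination_apply]
      refine Finset.sum_eq_zero fun b _ => ?_
      have hmem : Finsupp.mapDomain φ x b ∈ I := by
        have := congrArg (fun z => z b) (LinearMap.mem_ker.mp hx)
        simpa [Finsupp.lmapDomain_apply, RingHom.algebraMap_toAlgebra, I,
          Finsupp.mapDomain_mapRange] using this
      change Finsupp.mapDomain φ x b • N.mkQ (D (s b)) = 0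
      rw [← map_smul, Submodule.mkQ_apply, Submodule.Quotient.mk_eq_zero]
      exact Submodule.mem_sup_right (Submodule.smul_mem_smul hmem Submodule.mem_top)
    · rintro _ ⟨g, hg, rfl⟩
      rw [SetLike.mem_coe, LinearMap.mem_ker, KaehlerDifferential.map_D,
        show algebraMap P B g = 0 from hg, map_zero]
    · intro r hr m _
      rw [LinearMap.mem_ker, map_smul, ← algebraMap_smul B r,
        show algebraMap P B r = 0 from hr, zero_smul]
  rw [span_localized_eq_top_iff (q.comap φ.toRingHom) I (fun g hg => by
      rw [Ideal.mem_comap, show φ.toRingHom g = 0 from hg]; exact zero_mem q),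
    LocalizedModule.subsingleton_iff]
  constructor
  · intro h m
    obtain ⟨r, hr, hrm⟩ := h (π m)
    obtain ⟨t, rfl⟩ := hφ r
    refine ⟨t, hr, hN.le ?_⟩
    rw [LinearMap.mem_ker, map_smul, ← algebraMap_smul B t]
    exact hrm
  · intro h m
    obtain ⟨m, rfl⟩ := hπ m
    obtain ⟨t, ht, htm⟩ := h m
    refine ⟨φ t, ht, ?_⟩
    have := LinearMap.mem_ker.mp (hN.ge htm)
    rwa [map_smul, ← algebraMap_smul B t] at this

end Groth.Agent.S9568
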