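import Groth.Statements.S9569
import Groth.Agent.H11KerGG.Basic

set_option autoImplicit false
universe u
open CategoryTheory CategoryTheory.Limits AlgebraicGeometry TopologicalSpace Opposite
open Constr

namespace Groth.Agent.S9569

/-- Let X be a scheme, L an invertible O_X-module and s_0, …, s_n global sections of L, given as module
maps O_X → L, which generate L: the map O_X^{n+1} → L they induce is an epimorphism. Let F be the
kernel of that map. Then F ⊗ L is globally generated, i.e. it is a quotient of a free O_X-module. -/
theorem result (X : Scheme.{u}) (L : X.Modules) (hL : PicF.IsInvertible L)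
    (n : ℕ) (s : Fin (n + 1) → (Coh.structureModule X ⟶ L))
    (hs : Epi (Sigma.desc s : FlatMod.freeMod X (n + 1) ⟶ L)) :
    Curv2.IsGloballyGenerated (CohB1.tensorMod (kernel (Sigma.desc s : FlatMod.freeMod X (n + 1) ⟶ L)) L) := by
  exact Groth.Agent.H11KerGG.result s hL (hs := hs)

end Groth.Agent.S9569
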