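import Groth.Statements.S9570
import Groth.Agent.H11Proj.ClosedSubSat

set_option autoImplicit false
universe u
open CategoryTheory CategoryTheory.Limits AlgebraicGeometry TopologicalSpace Opposite
open Constr

namespace Groth.Agent.S9570

/-- Let R be a ring and i : Z → P^n_R a closed immersion. For d ≥ 0 let I_d be the kernel of the map
from the degree-d forms of R[T_0, …, T_n] to the global sections of i^*O(d), sending a form F to the
inverse image of the global section F of O(d). Then I = ⊕ I_d is a graded ideal and Z is the closed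
subscheme Proj(R[T_0, …, T_n]/I) of P^n_R: for every surjective homomorphism of graded rings φ from
R[T_0, …, T_n] onto a graded ring B whose kernel in each degree d is exactly I_d, there is an
isomorphism Z ≅ Proj B whose composite with the morphism Proj B → P^n_R induced by φ is i. -/
theorem result {R : Type u} [CommRing R] (n : ℕ)
    {Z : Scheme.{u}} (i : Z ⟶ CohB1.ProjSpace n R) [IsClosedImmersion i]
    {B : Type u} [CommRing B] [Algebra R B] (ℬ : ℕ → Submodule R B) [GradedAlgebra ℬ]
    (φ : CohB1.polyGrading n R →+*ᵍ ℬ) (hφs : Function.Surjective φ)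
    (hker : ∀ (d : ℕ) (F : MvPolynomial (Fin (n + 1)) R) (hF : F ∈ CohB1.polyGrading n R d),
      φ F = 0 ↔ ProjUP.pullSec i (Twist.twistProjSpace n R d) (Twist.globalOf (CohB1.polyGrading n R) ⟨F, hF⟩) = 0)
    (hφ : HomogeneousIdeal.irrelevant ℬ ≤ (HomogeneousIdeal.irrelevant (CohB1.polyGrading n R)).map φ) :
    ∃ e : Z ≅ Proj ℬ, e.hom ≫ Proj.map φ hφ = i := by
  let f : ULift.{u} (Fin (n + 1)) → MvPolynomial (Fin (n + 1)) R := fun j => MvPolynomial.X j.down
  have hf : ∀ j, f j ∈ CohB1.polyGrading n R 1 := fun j => MvPolynomial.isHomogeneous_X R _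
  have hcov : ∀ x : Proj (CohB1.polyGrading n R), ∃ j, f j ∉ x.asHomogeneousIdeal := fun x => by
    have hadj : Algebra.adjoin (CohB1.polyGrading n R 0) (Set.range f) = ⊤ := by
      refine eq_top_iff.2 fun s _ => ?_
      induction s using MvPolynomial.induction_on with
      | C c =>
        exact Subalgebra.algebraMap_mem _
          (⟨MvPolynomial.C c, MvPolynomial.isHomogeneous_C _ c⟩ : CohB1.polyGrading n R 0)
      | add p q hp hq => exact add_mem (hp trivial) (hq trivial)
      | mul_X p i hp => exact mul_mem (hp trivial) (Algebra.subset_adjoin ⟨⟨i⟩, rfl⟩)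
    obtain ⟨j, hj⟩ := Opens.mem_iSup.1
      ((Proj.iSup_basicOpen_eq_top' (CohB1.polyGrading n R) f (fun j => ⟨1, hf j⟩) hadj).ge
        (Set.mem_univ x))
    exact ⟨j, hj⟩
  have : IsClosedImmersion (show Z ⟶ Proj (CohB1.polyGrading n R) from i) := ‹IsClosedImmersion i›
  refine H11Proj.exists_iso_proj_of_ker (CohB1.polyGrading n R) f hf (show Z ⟶ Proj (CohB1.polyGrading n R) from i) hcov ℬ φ hφs (fun d a ha => ?_) hφ
  exact (hker d a ha).trans (H11Proj.pullSec_eq_zero_iff (CohB1.polyGrading n R) f hf i hcov ha)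

end Groth.Agent.S9570
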