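import Groth.Statements.S9571
import Mathlib

set_option autoImplicit false
universe u
open CategoryTheory CategoryTheory.Limits AlgebraicGeometry TopologicalSpace Opposite
open Constr

namespace Groth.Agent.S9571

/-- Let S be a graded ring, X = Proj S and d ≥ 1; let W_d be the union of the opens D_+(ab) over pairs
of homogeneous a, b with deg a = deg b + d (the open over which the twisting sheaves O_X(nd) are
invertible with compatible multiplications). For n ≥ 1 and f homogeneous of degree nd, with s the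
section of O_X(nd) over W_d defined by f, the non-vanishing locus (W_d)_s equals D_+(f) ∩ W_d.
Pointwise: for p in some D_+(ab) as above, p ∈ D_+(f) if and only if the value f/1 of s at p
generates the module of degree-nd fractions at p (the span of the fractions c/t with t ∉ p and deg c
= deg t + nd, over the degree-zero local ring at p). -/
theorem result {R A : Type u} [CommRing R] [CommRing A] [Algebra R A] (𝒜 : ℕ → Submodule R A) [GradedAlgebra 𝒜]
    {d : ℕ} (hd : 0 < d) {i j : ℕ} {a b : A} (ha : a ∈ 𝒜 i) (hb : b ∈ 𝒜 j) (hij : i = j + d)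
    (p : ProjectiveSpectrum 𝒜) (hp : p ∈ ProjectiveSpectrum.basicOpen 𝒜 (a * b))
    {n : ℕ} (hn : 0 < n) (f : 𝒜 (n * d)) :
    p ∈ ProjectiveSpectrum.basicOpen 𝒜 (f : A) ↔
      Submodule.span (Twist.A0 𝒜 p) {(Twist.globalOf 𝒜 f).1 ⟨p, trivial⟩} = ⊤ := by
  have hab : a ∉ p.asHomogeneousIdeal ∧ b ∉ p.asHomogeneousIdeal :=
    ⟨fun h => hp (Ideal.mul_mem_right _ _ h), fun h => hp (Ideal.mul_mem_left _ _ h)⟩
  let g : Twist.twistAt 𝒜 ((n * d : ℕ) : ℤ) p := (Twist.globalOf 𝒜 f).1 ⟨p, trivial⟩
  have hg : (g : Twist.Loc 𝒜 p) = Localization.mk (f : A) 1 := rfl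
  constructor
  · intro hfp
    have hfp' : (f : A) ∉ p.asHomogeneousIdeal := hfp
    rw [eq_top_iff]
    rintro ⟨q, hq⟩ -
    suffices h : ∃ r : Twist.A0 𝒜 p, r.val * (g : Twist.Loc 𝒜 p) = q by
      obtain ⟨r, hr⟩ := h
      exact Submodule.mem_span_singleton.2 ⟨r, Subtype.ext ((Twist.coe_smul_val _ p r g).trans hr)⟩
    induction hq using Submodule.span_induction with
    | mem q h =>
      obtain ⟨k, l, c, t, ht, hkl, rfl⟩ := h
      have hden : (f : A) * t ∈ 𝒜 k := by
        have := SetLike.mul_mem_graded f.2 t.2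
        rwa [show n * d + l = k by push_cast at hkl; omega] at this
      refine ⟨HomogeneousLocalization.mk ⟨k, c, ⟨(f : A) * t, hden⟩,
        fun h => (p.isPrime.mem_or_mem h).elim hfp' ht⟩, ?_⟩
      rw [hg, HomogeneousLocalization.val_mk, Localization.mk_mul, Localization.mk_eq_mk_iff, Localization.r_iff_exists]
      refine ⟨1, ?_⟩
      simp only [Submonoid.coe_mul, OneMemClass.coe_one, mul_one, one_mul]
      ring
    | zero => exact ⟨0, by rw [HomogeneousLocalization.val_zero, zero_mul]⟩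
    | add q q' _ _ h h' =>
      obtain ⟨r, rfl⟩ := h
      obtain ⟨r', rfl⟩ := h'
      exact ⟨r + r', by rw [HomogeneousLocalization.val_add, add_mul]⟩
    | smul c q _ h =>
      obtain ⟨r, rfl⟩ := h
      refine ⟨c * r, ?_⟩
      rw [HomogeneousLocalization.val_mul, Algebra.smul_def, HomogeneousLocalization.algebraMap_apply, mul_assoc]
  · intro htop hfp
    have hmem : (Localization.mk (a ^ n) ⟨b ^ n, fun h => hab.2 (p.isPrime.mem_of_pow_mem n h)⟩ :
        Twist.Loc 𝒜 p) ∈ Twist.twistAt 𝒜 ((n * d : ℕ) : ℤ) p :=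
      Submodule.subset_span ⟨n * i, n * j, ⟨a ^ n, SetLike.pow_mem_graded n ha⟩,
        ⟨b ^ n, SetLike.pow_mem_graded n hb⟩, _, by rw [hij]; push_cast; ring, rfl⟩
    obtain ⟨r, hr⟩ := Submodule.mem_span_singleton.1 (htop.ge (Submodule.mem_top (x := ⟨_, hmem⟩)))
    have h := (Twist.coe_smul_val _ p r g).symm.trans (congrArg Subtype.val hr)
    obtain ⟨q, rfl⟩ := HomogeneousLocalization.mk_surjective r
    rw [hg, HomogeneousLocalization.val_mk, Localization.mk_mul, Localization.mk_eq_mk_iff, Localization.r_iff_exists] at h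
    obtain ⟨⟨w, hw⟩, hwe⟩ := h
    simp only [Submonoid.coe_mul, OneMemClass.coe_one, mul_one] at hwe
    have h1 : w * (b ^ n * ((q.num : A) * f)) ∈ p.asHomogeneousIdeal :=
      Ideal.mul_mem_left _ _ (Ideal.mul_mem_left _ _ (Ideal.mul_mem_left _ _ hfp))
    rw [hwe] at h1
    rcases p.isPrime.mem_or_mem h1 with h2 | h2
    · exact hw h2
    · exact (p.isPrime.mem_or_mem h2).elim q.den_mem fun h3 => hab.1 (p.isPrime.mem_of_pow_mem n h3)

end Groth.Agent.S9571
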