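import Groth.Statements.S9572
import Groth.Agent.H11Proj.PCone

set_option autoImplicit false
universe u
open CategoryTheory CategoryTheory.Limits AlgebraicGeometry TopologicalSpace Opposite
open Constr

open Groth.Agent.H11Proj Groth.Agent.H11Proj.PConeLib

namespace Groth.Agent.S9572

/-- Let ψ : A → B be a homomorphism of graded rings such that A_d → B_d is bijective for all d ≥ d₀. Let
U(ψ) ⊆ Proj B be the union of the opens D_+(ψ f) over homogeneous f of positive degree, and r_ψ :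
U(ψ) → Proj A the morphism whose restriction to each chart Spec B_(ψ f) is Spec of the induced map
A_(f) → B_(ψ f) followed by the chart of Proj A. Then U(ψ) = Proj B and r_ψ is an isomorphism. (Here
r_ψ is any morphism with that chart description; it is unique.) -/
theorem result {R A : Type u} [CommRing R] [CommRing A] [Algebra R A] (𝒜 : ℕ → Submodule R A) [GradedAlgebra 𝒜]
    {B : Type u} [CommRing B] [Algebra R B] (ℬ : ℕ → Submodule R B) [GradedAlgebra ℬ] (ψ : 𝒜 →+*ᵍ ℬ)
    (d₀ : ℕ) (hbij : ∀ d : ℕ, d₀ ≤ d → Set.BijOn ψ (𝒜 d) (ℬ d))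
    (r : (PCone.dom ψ : Scheme.{u}) ⟶ Proj 𝒜)
    (hr : ∀ (d : ℕ) (f : A) (hd : 0 < d) (hf : f ∈ 𝒜 d),
      PCone.chart ψ hf hd ≫ r =
        Spec.map (CommRingCat.ofHom (HomogeneousLocalization.Away.map ψ f)) ≫ Proj.awayι 𝒜 f hf hd) :
    PCone.dom ψ = ⊤ ∧ IsIso r := by
  refine ⟨dom_eq_top_of_exists_pow ψ fun k hk b hb => ?_, ?_⟩
  · have hdeg : b ^ (d₀ + 1) ∈ ℬ ((d₀ + 1) * k) := SetLike.pow_mem_graded (d₀ + 1) hb
    have hle : d₀ ≤ (d₀ + 1) * k := le_trans (Nat.le_succ d₀) (Nat.le_mul_of_pos_right _ hk)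
    obtain ⟨a, ha, he⟩ := (hbij _ hle).surjOn hdeg
    exact ⟨d₀, _, Nat.mul_pos (Nat.succ_pos d₀) hk, a, ha, he⟩
  · refine retraction_of_away (P := MorphismProperty.isomorphisms Scheme) ψ r hr fun i s hi hs => ?_
    have : IsIso (CommRingCat.ofHom (HomogeneousLocalization.Away.map ψ s)) :=
      (ConcreteCategory.isIso_iff_bijective _).2 (away_map_bijective_of_bijOn ψ hbij hi hs)
    exact (inferInstance : IsIso (Spec.map (CommRingCat.ofHom (HomogeneousLocalization.Away.map ψ s))))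

end Groth.Agent.S9572
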