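import Groth.Statements.S9574
import Groth.Agent.H11Tilde.TwistBijOn

set_option autoImplicit false
universe u
open CategoryTheory CategoryTheory.Limits AlgebraicGeometry TopologicalSpace Opposite
open scoped HomogeneousIdeal
open Constr

namespace Groth.Agent.S9574

/-- Let ψ : A → B be a homomorphism of graded rings such that A_d → B_d is bijective for all d ≥ d₀, so
that the induced morphism r_ψ : Proj B → Proj A is everywhere defined and an isomorphism. Then for
every integer n the canonical map θ : r_ψ^* O_{Proj A}(n) → O_{Proj B}(n), adjoint to the map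
O_{Proj A}(n) → (r_ψ)_* O_{Proj B}(n) sending a/f to ψ(a)/ψ(f), is an isomorphism. (This row assumes
in addition that B_+ lies in the ideal generated by ψ(A_+), under which the induced morphism is
defined by the graded homomorphism on all of Proj B; the published statement assumes only the
eventual bijectivity, so it also covers maps such as the inclusion of k ⊕ x²k[x] in k[x], which this
row excludes.) -/
theorem result {R A : Type u} [CommRing R] [CommRing A] [Algebra R A] (𝒜 : ℕ → Submodule R A) [GradedAlgebra 𝒜]
    {B : Type u} [CommRing B] [Algebra R B] (ℬ : ℕ → Submodule R B) [GradedAlgebra ℬ] (ψ : 𝒜 →+*ᵍ ℬ)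
    (d₀ : ℕ) (hbij : ∀ d : ℕ, d₀ ≤ d → Set.BijOn ψ (𝒜 d) (ℬ d))
    (hψ : HomogeneousIdeal.irrelevant ℬ ≤ (HomogeneousIdeal.irrelevant 𝒜).map ψ) (n : ℤ) :
    IsIso (((Scheme.Modules.pullbackPushforwardAdjunction (Proj.map ψ hψ)).homEquiv _ _).symm
      (GrTwist.comap ψ hψ n)) := by
  exact Groth.Agent.H11Tilde.BijOn.isIso_transpose ψ hψ hbij n

end Groth.Agent.S9574
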