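import Groth.Statements.S9578
import Groth.Agent.H11Tilde.TwistPow
import Groth.Agent.H16Derived.KFlat.SheafAssoc

set_option autoImplicit false
universe u
open CategoryTheory CategoryTheory.Limits AlgebraicGeometry TopologicalSpace Opposite
open Constr

namespace Groth.Agent.S9578

variable {X : Scheme.{u}}

/-- Restriction of bilinear data to an open. -/
noncomputable def restrictOpen {M N P : X.Modules} (β : H11Tilde.Pairing M N P) (U : X.Opens) :
    H11Tilde.Pairing (M.restrict U.ι) (N.restrict U.ι) (P.restrict U.ι) where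
  toFun W m n := β.toFun (U.ι ''ᵁ W) m n
  add_left W m m' n := β.add_left _ m m' n
  smul_left W r m n := β.smul_left _ ((U.ι.appIso W).inv r) m n
  add_right W m n n' := β.add_right _ m n n'
  smul_right W r m n := β.smul_right _ ((U.ι.appIso W).inv r) m n
  res W W' h m n := β.res _ _ (Scheme.Hom.image_mono U.ι h) m n

/-- Tensor products over an open from bilinear data with local generators there. -/
theorem nonempty_tensor_restrict_iso {M N P : X.Modules} (β : H11Tilde.Pairing M N P) (U : X.Opens)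
    (h : ∀ x ∈ U, ∃ O : X.Opens, x ∈ O ∧ ∃ g : Γ(N, O), ∀ (V : X.Opens) (hV : V ≤ O),
      (Function.Bijective fun r : Γ(X, V) => r • N.presheaf.map (homOfLE hV).op g) ∧
        Function.Bijective fun m : Γ(M, V) => β.toFun V m (N.presheaf.map (homOfLE hV).op g)) :
    Nonempty (CohB1.tensorMod (M.restrict U.ι) (N.restrict U.ι) ≅ P.restrict U.ι) := by
  refine H11Tilde.nonempty_tensorMod_iso (restrictOpen β U) fun x => ?_
  obtain ⟨O, hxO, g, hg⟩ := h x.1 x.2
  have hle : U.ι ''ᵁ (U.ι ⁻¹ᵁ O) ≤ O := by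
    rw [Scheme.Hom.image_preimage_eq_opensRange_inf]
    exact inf_le_right
  refine ⟨U.ι ⁻¹ᵁ O, hxO, N.presheaf.map (homOfLE hle).op g, fun V hV => ?_⟩
  have hV' : U.ι ''ᵁ V ≤ O := (Scheme.Hom.image_mono U.ι hV).trans hle
  obtain ⟨h1, h2⟩ := hg _ hV'
  have e : N.presheaf.map (homOfLE (Scheme.Hom.image_mono U.ι hV)).op (N.presheaf.map (homOfLE hle).op g) =
      N.presheaf.map (homOfLE hV').op g := by
    rw [← ConcreteCategory.comp_apply, ← Functor.map_comp]
    rfl
  refine ⟨?_, ?_⟩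
  · refine Eq.mpr (congrArg Function.Bijective (funext fun r => ?_))
      (h1.comp (ConcreteCategory.bijective_of_isIso (U.ι.appIso V).inv))
    exact congrArg (fun z : Γ(N, U.ι ''ᵁ V) => (U.ι.appIso V).inv r • z) e
  · refine Eq.mpr (congrArg Function.Bijective (funext fun m => ?_)) h2
    exact congrArg (fun z : Γ(N, U.ι ''ᵁ V) => β.toFun (U.ι ''ᵁ V) m z) e


/-- Let S be a graded ring, M a graded S-module (graded in non-negative degrees here), X = Proj S and d
≥ 1; let W_d ⊆ X be the union of the standard opens D_+(ab) over the pairs of homogeneous elements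
a, b with deg a = deg b + d (the open over which the twisting sheaves O_X(nd) are invertible with
compatible multiplications). Then for every integer n the restrictions to W_d of M~(nd) = M~ ⊗
O_X(nd) and of M(nd)~, the module attached to the shifted module, are isomorphic. (Existence of an
isomorphism only; in the published statement it is the canonical multiplication map M~ ⊗ O_X(nd) →
M(nd)~ that restricts to an isomorphism over W_d. That W_d is the largest open over which the
O_X(nd) are invertible with compatible multiplications is not stated here.) -/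
theorem result {R A : Type u} [CommRing R] [CommRing A] [Algebra R A] (𝒜 : ℕ → Submodule R A) [GradedAlgebra 𝒜]
    {M : Type u} [AddCommGroup M] [Module R M] [Module A M] [IsScalarTower R A M] (ℳ : ℕ → Submodule R M)
    [DirectSum.Decomposition ℳ] [SetLike.GradedSMul 𝒜 ℳ]
    {d : ℕ} (hd : 0 < d) (n : ℤ) :
    Nonempty ((Twist.twistBy 𝒜 (GrTilde.tilde 𝒜 ℳ 0) (n * d)).restrict
        (⨆ (j : ℕ) (a : 𝒜 (j + d)) (b : 𝒜 j), Proj.basicOpen 𝒜 ((a : A) * b)).ι ≅
      (GrTilde.tilde 𝒜 ℳ (n * d)).restrict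
        (⨆ (j : ℕ) (a : 𝒜 (j + d)) (b : 𝒜 j), Proj.basicOpen 𝒜 ((a : A) * b)).ι) := by
  let W : (Proj 𝒜).Opens := ⨆ (j : ℕ) (a : 𝒜 (j + d)) (b : 𝒜 j), Proj.basicOpen 𝒜 ((a : A) * b)
  have hnon : ∀ x ∈ W, ∃ (i j : ℕ) (a b : A), a ∈ 𝒜 i ∧ b ∈ 𝒜 j ∧ (i : ℤ) = j + n * d ∧
      a ∉ x.asHomogeneousIdeal ∧ b ∉ x.asHomogeneousIdeal := by
    intro x hx
    simp only [W, Opens.mem_iSup] at hx
    obtain ⟨j, ⟨a, ha⟩, ⟨b, hb⟩, hx⟩ := hx
    have hax : a ∉ x.asHomogeneousIdeal := fun h => hx (x.asHomogeneousIdeal.toIdeal.mul_mem_right _ h)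
    have hbx : b ∉ x.asHomogeneousIdeal := fun h => hx (x.asHomogeneousIdeal.toIdeal.mul_mem_left _ h)
    refine ⟨n.toNat * (j + d) + (-n).toNat * j, n.toNat * j + (-n).toNat * (j + d),
      a ^ n.toNat * b ^ (-n).toNat, b ^ n.toNat * a ^ (-n).toNat,
      SetLike.mul_mem_graded (SetLike.pow_mem_graded _ ha) (SetLike.pow_mem_graded _ hb),
      SetLike.mul_mem_graded (SetLike.pow_mem_graded _ hb) (SetLike.pow_mem_graded _ ha), ?_,
      H11Tilde.mul_notMem 𝒜 (H11Tilde.pow_notMem 𝒜 hax _) (H11Tilde.pow_notMem 𝒜 hbx _),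
      H11Tilde.mul_notMem 𝒜 (H11Tilde.pow_notMem 𝒜 hbx _) (H11Tilde.pow_notMem 𝒜 hax _)⟩
    have hn : n = (n.toNat : ℤ) - ((-n).toNat : ℤ) := by omega
    generalize n.toNat = p at hn ⊢
    generalize (-n).toNat = q at hn ⊢
    subst hn
    push_cast
    ring
  obtain ⟨e⟩ := nonempty_tensor_restrict_iso (H11Tilde.mulPairing 𝒜 ℳ (zero_add (n * d)).symm) W
    fun x hx => by
      obtain ⟨i, j, a, b, ha, hb, hij, hax, hbx⟩ := hnon x hx
      let U : (Proj 𝒜).Opens := Proj.basicOpen 𝒜 (a * b)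
      have hU : ∀ y ∈ U, a ∉ y.asHomogeneousIdeal ∧ b ∉ y.asHomogeneousIdeal := fun y hy =>
        ⟨fun hc => hy (y.asHomogeneousIdeal.toIdeal.mul_mem_right _ hc),
          fun hc => hy (y.asHomogeneousIdeal.toIdeal.mul_mem_left _ hc)⟩
      refine ⟨U, H11Tilde.mul_notMem 𝒜 hax hbx, H11Tilde.secOf 𝒜 𝒜 ha hb (fun y hy => (hU y hy).2) hij,
        fun V hV => ⟨?_, ?_⟩⟩
      · exact H11Tilde.bijective_smul_gen 𝒜 ha hb (fun y hy => (hU y (hV hy)).1) (fun y hy => (hU y (hV hy)).2) hij _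
          fun y => rfl
      · exact H11Tilde.bijective_mulSec_gen 𝒜 ℳ (zero_add (n * d)).symm ha hb (fun y hy => (hU y (hV hy)).1)
          (fun y hy => (hU y (hV hy)).2) hij _ fun y => rfl
  let r := Scheme.Modules.restrictFunctorIsoPullback W.ι
  exact ⟨r.app _ ≪≫ (H16Derived.KFlat.Stalk.pullTensorLIso W.ι (Twist.twist 𝒜 (n * d))).app (GrTilde.tilde 𝒜 ℳ 0) ≪≫
    PicGrp.tensorModIso (r.app _).symm (r.app _).symm ≪≫ e⟩

end Groth.Agent.S9578
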