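import Groth.Statements.S9580
import Groth.Agent.H11Tilde.TwistInv

set_option autoImplicit false
universe u
open CategoryTheory CategoryTheory.Limits AlgebraicGeometry TopologicalSpace Opposite
open Constr

namespace Groth.Agent.S9580

/-- Let S be a graded ring, X = Proj S and Y ⊆ X a quasi-compact open subscheme. Then there is an
integer d ≥ 1 such that Y is contained in the open W_d, the union of the standard opens D_+(ab) over
homogeneous a, b with deg a = deg b + d, and such that the restriction O_Y(nd) of O_X(nd) to Y is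
invertible for every integer n. (The remaining assertions — the multiplication maps among the
O_Y(nd) and M~(nd) are isomorphisms, D_+(f) ∩ Y = Y_s, and the loci Y_s form a basis — are not
stated here.) -/
theorem result {R A : Type u} [CommRing R] [CommRing A] [Algebra R A] (𝒜 : ℕ → Submodule R A) [GradedAlgebra 𝒜]
    (Y : (Proj 𝒜).Opens) (hY : IsCompact (Y : Set (Proj 𝒜))) :
    ∃ d : ℕ, 0 < d ∧
      (∀ y : Proj 𝒜, y ∈ Y → ∃ (i j : ℕ) (a b : A), a ∈ 𝒜 i ∧ b ∈ 𝒜 j ∧ i = j + d ∧ y ∈ Proj.basicOpen 𝒜 (a * b)) ∧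
      ∀ n : ℤ, PicF.IsInvertible ((Twist.twist 𝒜 (n * d)).restrict Y.ι) := by
  classical
  have hloc : ∀ y : Proj 𝒜, ∃ (d : ℕ) (f : A), 0 < d ∧ f ∈ 𝒜 d ∧ y ∈ Proj.basicOpen 𝒜 f := by
    intro y
    obtain ⟨a, ha, hay⟩ := SetLike.not_le_iff_exists.1 y.not_irrelevant_le
    by_contra hne
    push Not at hne
    refine hay (show a ∈ y.asHomogeneousIdeal.toIdeal from ?_)
    rw [← DirectSum.sum_support_decompose 𝒜 a]
    refine Ideal.sum_mem _ fun d _ => ?_
    rcases Nat.eq_zero_or_pos d with rfl | hd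
    · rw [show (DirectSum.decompose 𝒜 a 0 : A) = 0 from (HomogeneousIdeal.mem_irrelevant_iff 𝒜 a).1 ha]
      exact zero_mem _
    · by_contra h
      exact hne d _ hd (DirectSum.decompose 𝒜 a d).2 h
  choose d f hd hf hy using hloc
  obtain ⟨T, hT⟩ := hY.elim_finite_subcover (fun y => (Proj.basicOpen 𝒜 (f y) : Set (Proj 𝒜)))
    (fun y => (Proj.basicOpen 𝒜 (f y)).isOpen) (fun y _ => Set.mem_iUnion.2 ⟨y, hy y⟩)
  let D := ∏ y ∈ T, d y
  have hD : ∀ y : Proj 𝒜, y ∈ Y → ∃ a ∈ 𝒜 D, y ∈ Proj.basicOpen 𝒜 a := by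
    intro y hyY
    obtain ⟨t, htT, hyt⟩ : ∃ t ∈ T, y ∈ Proj.basicOpen 𝒜 (f t) := by
      simpa using hT hyY
    obtain ⟨e, he⟩ : d t ∣ D := Finset.dvd_prod_of_mem d htT
    exact ⟨f t ^ e, by rw [he, mul_comm]; exact SetLike.pow_mem_graded e (hf t),
      Groth.Agent.H11Tilde.pow_notMem 𝒜 hyt e⟩
  refine ⟨D, Finset.prod_pos fun y _ => hd y, fun y hyY => ?_,
    fun n => Groth.Agent.H11Tilde.isInvertible_twist_restrict 𝒜 n Y fun y hyY => ?_⟩
  · obtain ⟨a, ha, hya⟩ := hD y hyY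
    exact ⟨D, 0, a, 1, ha, SetLike.GradedOne.one_mem, (Nat.zero_add D).symm, by rwa [mul_one]⟩
  · exact hD y hyY

end Groth.Agent.S9580
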