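import Groth.Statements.S9581
import Groth.Agent.H02CA.WeakAss

set_option autoImplicit false
universe u
open CAlg

namespace Groth.Agent.S9581

/-- (1) ⇔ (3): for a ring R, an R-module M and a prime p of R, the prime p is weakly associated to M
(minimal among the primes containing the annihilator of some element of M) if and only if the
localization M_p contains an element whose annihilator in R_p has radical equal to the maximal ideal
p R_p. -/
theorem result {R : Type u} [CommRing R] (M : Type u) [AddCommGroup M] [Module R M] (p : Ideal R) [p.IsPrime] :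
    p ∈ FlatCA.weakAss R M ↔ IsAssociatedPrime (IsLocalRing.maximalIdeal (Localization.AtPrime p)) (LocalizedModule p.primeCompl M) := by
  rw [← Groth.Agent.H02CA.mem_weakAss_localizedModule_iff p.primeCompl
    (Set.disjoint_left.mpr fun _ h h' => h h'), Groth.Agent.H02CA.weakAss_localizedModule]
  change p ∈ Ideal.comap (algebraMap R (Localization.AtPrime p)) '' _ ↔ _
  constructor
  · rintro ⟨P, hP, hPp⟩
    have hP' := (Groth.Agent.H02CA.mem_weakAss.mp hP).1
    have hPmax : P = IsLocalRing.maximalIdeal (Localization.AtPrime p) := by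
      refine (IsLocalization.map_comap p.primeCompl (Localization.AtPrime p) P).symm.trans ?_
      exact (congr_arg (Ideal.map _) hPp).trans Localization.AtPrime.map_eq_maximalIdeal
    obtain ⟨m, hm⟩ := hP
    refine ⟨(IsLocalRing.maximalIdeal.isMaximal _).isPrime, m, ?_⟩
    rw [Submodule.bot_colon', ← hPmax, Ideal.radical_eq_sInf]
    refine le_antisymm (le_sInf fun J ⟨hJ, hJp⟩ => ?_) (sInf_le ⟨hm.1.2, hP'⟩)
    exact hm.2 ⟨hJp, hJ⟩ (hPmax ▸ IsLocalRing.le_maximalIdeal hJp.ne_top)
  · rintro ⟨hmax, m, hm⟩
    refine ⟨IsLocalRing.maximalIdeal _, ⟨m, ?_⟩, Localization.AtPrime.comap_maximalIdeal⟩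
    rw [Submodule.bot_colon'] at hm
    refine ⟨⟨hmax, hm ▸ Ideal.le_radical⟩, fun q hq hqle => ?_⟩
    rw [hm]
    exact hq.1.radical_le_iff.mpr hq.2

end Groth.Agent.S9581
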