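import Groth.Statements.S9583
import Groth.Agent.H02CA.WeakAss

set_option autoImplicit false
universe u
open CAlg

namespace Groth.Agent.S9583

/-- For a ring R and a short exact sequence 0 → M' → M → M'' → 0 of R-modules, every prime weakly
associated to M' is weakly associated to M, and every prime weakly associated to M is weakly
associated to M' or to M''. -/
theorem result {R : Type u} [CommRing R] {M' M M'' : Type u} [AddCommGroup M'] [Module R M'] [AddCommGroup M] [Module R M] [AddCommGroup M''] [Module R M''] (f : M' →ₗ[R] M) (g : M →ₗ[R] M'') (hf : Function.Injective f) (hg : Function.Surjective g) (hfg : Function.Exact f g) :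
    FlatCA.weakAss R M' ⊆ FlatCA.weakAss R M ∧ FlatCA.weakAss R M ⊆ FlatCA.weakAss R M' ∪ FlatCA.weakAss R M'' := by
  refine ⟨Groth.Agent.H02CA.weakAss_mono f hf, fun p hp => ?_⟩
  obtain ⟨hpp, m, hm, h⟩ := Groth.Agent.H02CA.mem_weakAss.mp hp
  by_cases hle : Groth.Agent.H02CA.annEl R (g m) ≤ p
  · refine Or.inr (Groth.Agent.H02CA.mem_weakAss.mpr ⟨hpp, g m, hle, fun x hx => ?_⟩)
    obtain ⟨n, y, hy, hyx⟩ := h x hx
    exact ⟨n, y, hy, by rw [← map_smul, hyx, map_zero]⟩
  · obtain ⟨s, hs, hsp⟩ := SetLike.not_le_iff_exists.mp hle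
    rw [Groth.Agent.H02CA.mem_annEl, ← map_smul] at hs
    obtain ⟨m', hm'⟩ := (hfg (s • m)).mp hs
    refine Or.inl (Groth.Agent.H02CA.mem_weakAss.mpr ⟨hpp, m', fun r hr => ?_, fun x hx => ?_⟩)
    · rw [← Groth.Agent.H02CA.annEl_map_of_injective f hf, hm', Groth.Agent.H02CA.mem_annEl,
        smul_smul] at hr
      exact (hpp.mem_or_mem (hm (Groth.Agent.H02CA.mem_annEl.mpr hr))).resolve_right hsp
    · obtain ⟨n, y, hy, hyx⟩ := h x hx
      refine ⟨n, y, hy, hf ?_⟩
      rw [map_smul, hm', smul_comm, hyx, smul_zero, map_zero]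

end Groth.Agent.S9583
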