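import Groth.Statements.S9584
import Groth.Agent.H02CA.WeakAss

set_option autoImplicit false
universe u
open CAlg

namespace Groth.Agent.S9584

/-- For a ring R and an R-module M, M has no weakly associated prime (no prime minimal over the
annihilator of an element) if and only if M = 0. -/
theorem result {R : Type u} [CommRing R] (M : Type u) [AddCommGroup M] [Module R M] :
    FlatCA.weakAss R M = ∅ ↔ Subsingleton M := by
  constructor
  · intro h
    refine ⟨fun a b => sub_eq_zero.mp ?_⟩
    by_contra hne
    obtain ⟨p, hp, -⟩ := Groth.Agent.H02CA.exists_weakAss_ge (R := R) hne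
    rw [h] at hp
    exact hp
  · intro h
    rw [Set.eq_empty_iff_forall_notMem]
    intro p hp
    obtain ⟨hpp, m, hm, -⟩ := Groth.Agent.H02CA.mem_weakAss.mp hp
    exact hpp.ne_top (top_le_iff.mp (le_trans
      (fun r _ => Groth.Agent.H02CA.mem_annEl.mpr (Subsingleton.elim _ _)) hm))

end Groth.Agent.S9584
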