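import Groth.Statements.S9585
import Groth.Agent.H02CA.WeakAss

set_option autoImplicit false
universe u
open CAlg

namespace Groth.Agent.S9585

/-- For a ring R and an R-module M, an element of R lies in some weakly associated prime of M exactly
when multiplication by it on M is not injective; in other words the union of the weakly associated
primes of M equals the set of zerodivisors on M. -/
theorem result {R : Type u} [CommRing R] (M : Type u) [AddCommGroup M] [Module R M] :
    ⋃ q ∈ FlatCA.weakAss R M, (q : Set R) = {f : R | ¬ IsSMulRegular M f} := by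
  ext f
  simp only [Set.mem_iUnion, SetLike.mem_coe, exists_prop, Set.mem_setOf_eq]
  constructor
  · rintro ⟨p, hp, hfp⟩ hreg
    obtain ⟨hpp, m, hm, h⟩ := Groth.Agent.H02CA.mem_weakAss.mp hp
    obtain ⟨n, y, hy, hyx⟩ := h f hfp
    rw [mul_comm, mul_smul] at hyx
    exact hy (hm (Groth.Agent.H02CA.mem_annEl.mpr ((hreg.pow n).right_eq_zero_of_smul hyx)))
  · intro h
    rw [IsSMulRegular, Function.Injective] at h
    push Not at h
    obtain ⟨a, b, hab, hne⟩ := h
    obtain ⟨p, hp, hle⟩ := Groth.Agent.H02CA.exists_weakAss_ge (R := R) (sub_ne_zero.mpr hne)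
    refine ⟨p, hp, hle (Groth.Agent.H02CA.mem_annEl.mpr ?_)⟩
    rw [smul_sub]; exact sub_eq_zero.mpr hab

end Groth.Agent.S9585
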