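import Groth.Statements.S9587
import Groth.Agent.H02CA.WeakAss

set_option autoImplicit false
universe u
open CAlg

namespace Groth.Agent.S9587

/-- For a ring R, an ideal I of R and an R/I-module M, regarded as an R-module through R → R/I, the
primes of R weakly associated to M are exactly the inverse images of the primes of R/I weakly
associated to M. -/
theorem result {R : Type u} [CommRing R] (I : Ideal R) (M : Type u) [AddCommGroup M] [Module (R ⧸ I) M] [Module R M] [IsScalarTower R (R ⧸ I) M] :
    FlatCA.weakAss R M = Ideal.comap (Ideal.Quotient.mk I) '' FlatCA.weakAss (R ⧸ I) M := by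
  have hann : ∀ m : M, Groth.Agent.H02CA.annEl R m =
      (Groth.Agent.H02CA.annEl (R ⧸ I) m).comap (Ideal.Quotient.mk I) :=
    fun m => Groth.Agent.H02CA.annEl_restrictScalars m
  ext p
  simp only [Set.mem_image]
  constructor
  · rintro ⟨m, hm⟩
    change p ∈ (Groth.Agent.H02CA.annEl R m).minimalPrimes at hm
    rw [hann, Ideal.comap_minimalPrimes_eq_of_surjective Ideal.Quotient.mk_surjective] at hm
    obtain ⟨P, hP, rfl⟩ := hm
    exact ⟨P, ⟨m, hP⟩, rfl⟩
  · rintro ⟨P, ⟨m, hP⟩, rfl⟩
    refine ⟨m, ?_⟩
    change _ ∈ (Groth.Agent.H02CA.annEl R m).minimalPrimes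
    rw [hann, Ideal.comap_minimalPrimes_eq_of_surjective Ideal.Quotient.mk_surjective]
    exact ⟨P, hP, rfl⟩

end Groth.Agent.S9587
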