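import Groth.Statements.S9594
import Groth.Agent.H02CA.WeakAss

set_option autoImplicit false
universe u
open CAlg

namespace Groth.Agent.S9594

/-- For a ring R, an R-module M and a multiplicative subset S of R, (1) the primes of R associated to
the R-module S⁻¹M are the inverse images of the primes of S⁻¹R associated to S⁻¹M, and (2) a prime
of R associated to M which does not meet S is associated to the R-module S⁻¹M. Here a prime is
associated to a module when it equals the annihilator of some element. -/
theorem result {R : Type u} [CommRing R] (S : Submonoid R) (M : Type u) [AddCommGroup M] [Module R M] :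
    FlatCA.ass R (LocalizedModule S M) = Ideal.comap (algebraMap R (Localization S)) '' FlatCA.ass (Localization S) (LocalizedModule S M) ∧
      ∀ p ∈ FlatCA.ass R M, Disjoint (S : Set R) (p : Set R) → p ∈ FlatCA.ass R (LocalizedModule S M) := by
  refine ⟨Groth.Agent.H02CA.ass_localization S (Localization S), ?_⟩
  rintro p ⟨hp, m, hm⟩ hd
  refine ⟨hp, LocalizedModule.mk m 1, le_antisymm (hm ▸ Groth.Agent.H02CA.annEl_mk_le 1) ?_⟩
  intro r hr
  rw [Submodule.mem_annihilator_span_singleton, LocalizedModule.smul'_mk] at hr
  obtain ⟨u, hu⟩ := LocalizedModule.mk_eq.mp (hr.trans (LocalizedModule.zero_mk 1).symm)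
  simp only [one_smul, smul_zero] at hu
  refine (hp.mem_or_mem (show (u : R) * r ∈ p from ?_)).resolve_left (Set.disjoint_left.mp hd u.2)
  rw [hm, Submodule.mem_annihilator_span_singleton, mul_smul]
  exact hu

end Groth.Agent.S9594
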