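import Groth.Statements.S9595
import Groth.Agent.H02CA.WeakAss

set_option autoImplicit false
universe u
open CAlg

namespace Groth.Agent.S9595

/-- For a ring R, an R-module M and a multiplicative subset S of R whose elements are all
nonzerodivisors on M, a prime of R is the annihilator of an element of M if and only if it is the
annihilator in R of an element of S⁻¹M. -/
theorem result {R : Type u} [CommRing R] (S : Submonoid R) (M : Type u) [AddCommGroup M] [Module R M] (hS : ∀ s ∈ S, IsSMulRegular M s) :
    FlatCA.ass R M = FlatCA.ass R (LocalizedModule S M) := by
  exact Groth.Agent.H02CA.ass_localizedModule_of_regular S hS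

end Groth.Agent.S9595
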