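import Groth.Statements.S9596
import Mathlib.RingTheory.Ideal.AssociatedPrime.Localization
import Mathlib.RingTheory.Noetherian.Basic
import Mathlib.RingTheory.Finiteness.Basic

set_option autoImplicit false
universe u
open CAlg

namespace Groth.Agent.S9596

/-- For a Noetherian ring R and any R-module M, a prime which is minimal among the primes in the support
of M is an associated prime of M. -/
theorem result {R : Type u} [CommRing R] [IsNoetherianRing R] (M : Type u) [AddCommGroup M] [Module R M] (p : PrimeSpectrum R) (hp : Minimal (fun q : PrimeSpectrum R => q ∈ Module.support R M) p) :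
    p.asIdeal ∈ associatedPrimes R M := by
  obtain ⟨hp1, hp2⟩ := hp
  obtain ⟨x, hx⟩ := (Module.mem_support_iff_exists_annihilator).mp hp1
  let N := Submodule.span R ({x} : Set M)
  have : Module.Finite R N := Module.Finite.span_of_finite R (Set.finite_singleton x)
  have hN : p.asIdeal ∈ (Module.annihilator R N).minimalPrimes := by
    refine ⟨⟨p.isPrime, ?_⟩, ?_⟩
    · rwa [← Submodule.annihilator] 
    · intro q ⟨hq, hq'⟩ hle
      refine hp2 (y := ⟨q, hq⟩) ?_ hle
      exact Module.mem_support_iff_exists_annihilator.mpr ⟨x, hq'⟩
  exact associatedPrimes.subset_of_injective N.injective_subtype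
    (Module.associatedPrimes.minimalPrimes_annihilator_subset_associatedPrimes R N hN)

end Groth.Agent.S9596
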