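import Groth.Statements.S9597
import Mathlib.RingTheory.Finiteness.Basic
import Mathlib.RingTheory.Ideal.Maps

set_option autoImplicit false
universe u
open CAlg

namespace Groth.Agent.S9597

/-- Let R be a Noetherian ring, M a finite R-module whose associated primes are pairwise incomparable
under inclusion (M has no embedded associated primes), and I the annihilator of M. Then the
associated primes of R/I, viewed as a module over itself, are again pairwise incomparable: R/I has
no embedded primes either. -/
theorem result {R : Type u} [CommRing R] [IsNoetherianRing R] (M : Type u) [AddCommGroup M] [Module R M] [Module.Finite R M] (hM : ∀ p ∈ associatedPrimes R M, ∀ q ∈ associatedPrimes R M, p ≤ q → p = q) :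
    ∀ p ∈ associatedPrimes (R ⧸ Module.annihilator R M) (R ⧸ Module.annihilator R M), ∀ q ∈ associatedPrimes (R ⧸ Module.annihilator R M) (R ⧸ Module.annihilator R M), p ≤ q → p = q := by
  set J := Module.annihilator R M with hJ
  classical
  obtain ⟨G, hG⟩ := (Module.Finite.fg_top : (⊤ : Submodule R M).FG)
  haveI : IsNoetherianRing (R ⧸ J) :=
    isNoetherianRing_of_surjective R _ (Ideal.Quotient.mk J) Ideal.Quotient.mk_surjective
  have key : ∀ p ∈ associatedPrimes (R ⧸ J) (R ⧸ J),
      p.comap (Ideal.Quotient.mk J) ∈ associatedPrimes R M := by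
    intro p hp
    obtain ⟨hpp, a, ha⟩ := isAssociatedPrime_iff.mp hp
    obtain ⟨a, rfl⟩ := Ideal.Quotient.mk_surjective a
    haveI := hpp.comap (Ideal.Quotient.mk J)
    have hmem : ∀ r : R, r ∈ p.comap (Ideal.Quotient.mk J) ↔ r * a ∈ J := by
      intro r
      rw [Ideal.mem_comap, ha, Submodule.mem_colon_singleton, Submodule.mem_bot, smul_eq_mul,
        ← map_mul, Ideal.Quotient.eq_zero_iff_mem]
    have hle : ⨅ g ∈ G, (Submodule.span R {a • g}).annihilator ≤ p.comap (Ideal.Quotient.mk J) := by
      intro r hr
      rw [hmem, hJ, Module.mem_annihilator]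
      intro m
      have hmG : m ∈ Submodule.span R (G : Set M) := hG ▸ Submodule.mem_top
      induction hmG using Submodule.span_induction with
      | zero => simp
      | add y z _ _ h1 h2 => rw [smul_add, h1, h2, add_zero]
      | smul c y _ h1 => rw [smul_comm, h1, smul_zero]
      | mem g hg =>
        simp only [Submodule.mem_iInf] at hr
        rw [mul_smul]
        exact (Submodule.mem_annihilator_span_singleton _ _).mp (hr g hg)
    obtain ⟨g, -, hgle⟩ := (Ideal.IsPrime.inf_le' (s := G)
      (f := fun g => (Submodule.span R {a • g}).annihilator)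
      (inferInstance : (p.comap (Ideal.Quotient.mk J)).IsPrime)).mp
      (by rw [Finset.inf_eq_iInf]; exact hle)
    refine isAssociatedPrime_iff.mpr ⟨inferInstance, a • g, le_antisymm ?_ ?_⟩
    · intro r hr
      rw [hmem, hJ, Module.mem_annihilator] at hr
      rw [Submodule.mem_colon_singleton, Submodule.mem_bot, smul_smul]
      exact hr g
    · intro r hr
      rw [Submodule.mem_colon_singleton, Submodule.mem_bot] at hr
      exact hgle ((Submodule.mem_annihilator_span_singleton _ _).mpr hr)
  intro p hp q hq hpq
  exact Ideal.comap_injective_of_surjective _ Ideal.Quotient.mk_surjective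
    (hM _ (key p hp) _ (key q hq) (Ideal.comap_mono hpq))

end Groth.Agent.S9597
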