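import Groth.Statements.S9598
import Mathlib.RingTheory.Ideal.AssociatedPrime.Finiteness
import Mathlib.RingTheory.Jacobson.Ring
import Mathlib.RingTheory.KrullDimension.Zero

set_option autoImplicit false
universe u
open CAlg

namespace Groth.Agent.S9598

/-- For a field k and a finite type k-algebra S with dim S > 0, some element of S is a nonzerodivisor
and a nonunit. -/
theorem result {k S : Type u} [Field k] [CommRing S] [Algebra k S] [Algebra.FiniteType k S] (hdim : 0 < ringKrullDim S) :
    ∃ f : S, f ∈ nonZeroDivisors S ∧ ¬ IsUnit f := by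
  haveI : IsNoetherianRing S := Algebra.FiniteType.isNoetherianRing k S
  haveI : IsJacobsonRing S := isJacobsonRing_of_finiteType (A := k)
  by_contra hne
  push Not at hne
  classical
  have hfin := associatedPrimes.finite S S
  have hmax : ∀ m : Ideal S, m.IsMaximal → m ∈ hfin.toFinset := by
    intro m hm
    have : (m : Set S) ⊆ ⋃ q ∈ (hfin.toFinset : Set (Ideal S)), ((id q : Ideal S) : Set S) := by
      simp only [Set.Finite.coe_toFinset, id]
      rw [biUnion_associatedPrimes_eq_compl_nonZeroDivisors]
      exact fun x hx hx' => hm.ne_top (Ideal.eq_top_of_isUnit_mem _ hx (hne x hx'))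
    obtain ⟨q, hq, hle⟩ := (Ideal.subset_union_prime ⊥ ⊥
      (fun q hq _ _ => (hfin.mem_toFinset.mp hq).isPrime)).mp this
    rwa [hm.eq_of_le (hfin.mem_toFinset.mp hq).isPrime.ne_top hle]
  haveI : Ring.KrullDimLE 0 S := by
    refine Ring.KrullDimLE.mk₀ fun p hp => ?_
    have hj : p.jacobson = p := (isJacobsonRing_iff_prime_eq.mp ‹_›) p hp
    have : ∏ q ∈ hfin.toFinset, (if p ≤ q ∧ q.IsMaximal then q else ⊤) ≤ p := by
      conv_rhs => rw [← hj]
      refine le_sInf fun m hm => le_trans Ideal.prod_le_inf ?_
      refine le_trans (Finset.inf_le (hmax m hm.2)) ?_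
      simp [hm.1, hm.2]
    obtain ⟨q, hq, hle⟩ := hp.prod_le.mp this
    split_ifs at hle with h
    · exact le_antisymm hle h.1 ▸ h.2
    · exact absurd (top_le_iff.mp hle) hp.ne_top
  have := Ring.krullDimLE_iff.mp ‹Ring.KrullDimLE 0 S›
  exact absurd (hdim.trans_le this) (by simp)

end Groth.Agent.S9598
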