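import Groth.Statements.S9600
import Groth.Agent.H02CA.Completion

set_option autoImplicit false
universe u
open CAlg

namespace Groth.Agent.S9600

/-- Let R be a ring, I an ideal of R and 0 → M → N → Q → 0 a short exact sequence of R-modules in which
Q is killed by some power I^c of I. Then on I-adic completions the map M^ → N^ is injective, N^ → Q^
is surjective with kernel equal to the image of M^, and the canonical map Q → Q^ is bijective; so 0
→ M^ → N^ → Q → 0 is again short exact. -/
theorem result {R : Type u} [CommRing R] (I : Ideal R) {M N Q : Type u} [AddCommGroup M] [Module R M] [AddCommGroup N] [Module R N] [AddCommGroup Q] [Module R Q] (i : M →ₗ[R] N) (g : N →ₗ[R] Q) (hi : Function.Injective i) (hg : Function.Surjective g) (hig : Function.Exact i g) (c : ℕ) (hc : ∀ x ∈ I ^ c, ∀ q : Q, x • q = 0) :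
    Function.Injective (AdicCompletion.map I i) ∧ Function.Exact (AdicCompletion.map I i) (AdicCompletion.map I g) ∧ Function.Surjective (AdicCompletion.map I g) ∧ Function.Bijective (AdicCompletion.of I Q) := by
  have hc' : ∀ n, (I ^ (n + c) • ⊤ : Submodule R N).comap i ≤ I ^ n • ⊤ := by
    intro n m hm
    have hle : (I ^ (n + c) • ⊤ : Submodule R N) ≤ Submodule.map i (I ^ n • ⊤) := by
      rw [Submodule.map_smul'', Submodule.map_top, pow_add, ← smul_eq_mul, Submodule.smul_assoc]
      refine Submodule.smul_mono le_rfl (Submodule.smul_le.mpr fun x hx y _ => ?_)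
      exact (hig _).mp (by rw [map_smul, hc x hx])
    obtain ⟨m', hm', he⟩ := hle hm
    rwa [← hi he]
  refine ⟨Groth.Agent.H02CA.adicCompletion_map_injective I i c hc',
    Groth.Agent.H02CA.adicCompletion_map_exact I i g c hg hig hc', AdicCompletion.map_surjective I hg, ?_⟩
  have h0 : ∀ n, c ≤ n → (I ^ n • ⊤ : Submodule R Q) = ⊥ := fun n hn => le_bot_iff.mp <|
    (Submodule.smul_mono_left (Ideal.pow_le_pow_right hn)).trans
      (Submodule.smul_le.mpr fun x hx q _ => by simp [hc x hx q])
  rw [AdicCompletion.of_bijective_iff]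
  refine { toIsHausdorff := ⟨fun x hx => ?_⟩, toIsPrecomplete := ⟨fun f hf => ⟨f c, fun n => ?_⟩⟩ }
  · have h1 := SModEq.zero.mp (hx c)
    rwa [h0 c le_rfl, Submodule.mem_bot] at h1
  · rcases le_total n c with h | h
    · exact hf h
    · have h1 : f c ≡ f n [SMOD (I ^ c • ⊤ : Submodule R Q)] := hf h
      rw [SModEq.sub_mem, h0 c le_rfl, Submodule.mem_bot, sub_eq_zero] at h1
      rw [h1]

end Groth.Agent.S9600
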