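import Groth.Statements.S9601

set_option autoImplicit false
universe u
open CAlg

namespace Groth.Agent.S9601

/-- For a ring R, an ideal I of R and an R-module M, let M^ be the I-adic completion and K_n the kernel
of the projection M^ → M/IⁿM. The completion M^ is I-adically complete exactly when K_n = Iⁿ M^
holds for every n ≥ 1. -/
theorem result {R : Type u} [CommRing R] (I : Ideal R) (M : Type u) [AddCommGroup M] [Module R M] :
    IsAdicComplete I (AdicCompletion I M) ↔ ∀ n : ℕ, 1 ≤ n → LinearMap.ker (AdicCompletion.eval I M n) = I ^ n • (⊤ : Submodule R (AdicCompletion I M)) := by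
  have hle : ∀ n, (I ^ n • ⊤ : Submodule R (AdicCompletion I M)) ≤ LinearMap.ker (AdicCompletion.eval I M n) :=
    fun n => AdicCompletion.pow_smul_top_le_ker_eval (I := I) (M := M) n
  constructor
  · intro h n _
    refine le_antisymm (fun x hx => ?_) (hle n)
    have hsurj : ∀ m, ∃ y : M, Submodule.Quotient.mk y = AdicCompletion.eval I M m x :=
      fun m => Submodule.mkQ_surjective _ _
    choose y hy using hsurj
    have hcauchy : ∀ {a b}, a ≤ b → AdicCompletion.of I M (y a) ≡ AdicCompletion.of I M (y b)
        [SMOD (I ^ a • ⊤ : Submodule R (AdicCompletion I M))] := by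
      intro a b hab
      rw [SModEq.sub_mem, ← map_sub]
      have : y a - y b ∈ (I ^ a • ⊤ : Submodule R M) := by
        rw [← Submodule.Quotient.eq, hy]
        have h3 := AdicCompletion.transitionMap_comp_eval_apply (I := I) (M := M) hab x
        change (AdicCompletion.transitionMap I M hab) (AdicCompletion.eval I M b x) = AdicCompletion.eval I M a x at h3
        rw [← hy b] at h3
        exact h3.symm
      have := Submodule.mem_map_of_mem (f := AdicCompletion.of I M) this
      rw [Submodule.map_smul''] at this
      exact Submodule.smul_mono le_rfl le_top this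
    obtain ⟨z, hz⟩ := IsPrecomplete.prec h.toIsPrecomplete hcauchy
    have hzx : z = x := AdicCompletion.ext fun m => by
      have := hle m (SModEq.sub_mem.mp (hz m))
      rw [LinearMap.mem_ker, map_sub, AdicCompletion.eval_of, sub_eq_zero] at this
      exact this.symm.trans (hy m)
    have h0 : y n ∈ (I ^ n • ⊤ : Submodule R M) := by
      rw [← Submodule.Quotient.mk_eq_zero, hy]; exact hx
    have h1 : AdicCompletion.of I M (y n) ∈ (I ^ n • ⊤ : Submodule R (AdicCompletion I M)) := by
      have := Submodule.mem_map_of_mem (f := AdicCompletion.of I M) h0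
      rw [Submodule.map_smul''] at this
      exact Submodule.smul_mono le_rfl le_top this
    have h2 := SModEq.sub_mem.mp (hz n)
    rw [hzx] at h2
    have := Submodule.sub_mem _ h1 h2
    rwa [sub_sub_cancel] at this
  · intro h
    have hge : ∀ n, LinearMap.ker (AdicCompletion.eval I M n) ≤ I ^ n • ⊤ := by
      intro n
      rcases Nat.eq_zero_or_pos n with rfl | hn
      · simp
      · exact (h n hn).le
    refine { toIsHausdorff := ⟨fun x hx => AdicCompletion.ext fun n => ?_⟩,
             toIsPrecomplete := ⟨fun f hf => ?_⟩ }
    · exact hle n (SModEq.zero.mp (hx n))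
    · refine ⟨⟨fun n => AdicCompletion.eval I M n (f n), ?_⟩, fun n => ?_⟩
      · intro a b hab
        have := hle a (SModEq.sub_mem.mp (hf hab))
        rw [LinearMap.mem_ker, map_sub, sub_eq_zero] at this
        show _ = AdicCompletion.eval I M a (f a)
        rw [this]
        simp only [AdicCompletion.eval_apply]
        exact AdicCompletion.transitionMap_comp_eval_apply (I := I) (M := M) hab (f b)
      · refine SModEq.sub_mem.mpr (hge n ?_)
        rw [LinearMap.mem_ker]
        refine (LinearMap.map_sub _ _ _).trans (sub_eq_zero.mpr ?_)
        rfl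

end Groth.Agent.S9601
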