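import Groth.Statements.S9602
import Mathlib.RingTheory.Nilpotent.Basic

set_option autoImplicit false
universe u
open CAlg

namespace Groth.Agent.S9602

/-- Let R be a ring, I an ideal of R and R^ = lim R/Iⁿ the I-adic completion. An element of R^ whose
image in R/I is invertible is itself invertible in R^; and the kernel of R^ → R/I as well as the
extended ideal I R^ both lie inside the Jacobson radical of R^. -/
theorem result {R : Type u} [CommRing R] (I : Ideal R) :
    (∀ x : AdicCompletion I R, IsUnit (AdicCompletion.evalOneₐ I x) → IsUnit x) ∧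
      RingHom.ker (AdicCompletion.evalOneₐ I).toRingHom ≤ (⊥ : Ideal (AdicCompletion I R)).jacobson ∧
      I.map (algebraMap R (AdicCompletion I R)) ≤ (⊥ : Ideal (AdicCompletion I R)).jacobson := by
  have h1 : ∀ x : AdicCompletion I R, IsUnit (AdicCompletion.evalOneₐ I x) → IsUnit x := by
    intro x hx
    have hn : ∀ n, IsUnit (AdicCompletion.evalₐ I n x) := by
      intro n
      rcases Nat.eq_zero_or_pos n with rfl | hpos
      · haveI : Subsingleton (R ⧸ I ^ 0) := Ideal.Quotient.subsingleton_iff.mpr (by simp)
        exact isUnit_of_subsingleton _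
      obtain ⟨a, ha⟩ := Ideal.Quotient.mk_surjective (AdicCompletion.evalₐ I n x)
      have h1a : AdicCompletion.evalOneₐ I x = Ideal.Quotient.mk I a := by
        obtain ⟨c, rfl⟩ := AdicCompletion.mk_surjective I R x
        rw [AdicCompletion.evalₐ_mk] at ha
        have := AdicCompletion.factorₐ_evalₐ_one I (AdicCompletion.mk I R c)
        rw [AdicCompletion.evalₐ_mk] at this
        rw [← this, Ideal.Quotient.factor_mk]
        rw [Ideal.Quotient.eq] at ha ⊢
        have hc := (SModEq.sub_mem.mp (c.property hpos.nat_succ_le))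
        have e : c.val 1 - a = (c.val 1 - c.val n) + (c.val n - a) := by ring
        rw [e]
        refine I.add_mem ?_ ?_
        · have := hc; simpa using this
        · have h2 := Ideal.pow_le_self hpos.ne' ha
          simpa using I.neg_mem h2
      rw [h1a] at hx
      obtain ⟨b, hb⟩ := isUnit_iff_exists_inv.mp hx
      obtain ⟨b, rfl⟩ := Ideal.Quotient.mk_surjective b
      rw [← map_mul, ← map_one (Ideal.Quotient.mk I), Ideal.Quotient.eq] at hb
      have hnil : IsNilpotent (Ideal.Quotient.mk (I ^ n) (a * b - 1)) :=
        ⟨n, by rw [← map_pow, Ideal.Quotient.eq_zero_iff_mem]; exact Ideal.pow_mem_pow hb n⟩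
      have hu : IsUnit (1 + Ideal.Quotient.mk (I ^ n) (a * b - 1)) := IsNilpotent.isUnit_one_add hnil
      rw [← map_one (Ideal.Quotient.mk (I ^ n)), ← map_add, add_sub_cancel, map_mul] at hu
      rw [← ha]
      exact isUnit_of_mul_isUnit_left hu
    refine isUnit_iff_exists_inv.mpr ?_
    choose y hy using fun n => isUnit_iff_exists_inv.mp (hn n)
    have hle : ∀ n, I ^ n ≤ I ^ n • (⊤ : Ideal R) := fun n => by simp
    refine ⟨⟨fun n => Ideal.Quotient.factor (hle n) (y n), ?_⟩, ?_⟩
    · intro m n hmn
      have hu : IsUnit (x.val m) := by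
        rw [← AdicCompletion.eval_apply, ← AdicCompletion.factor_evalₐ_eq_eval I x (hle m)]
        exact (hn m).map _
      refine hu.mul_left_cancel ?_
      have e1 : ∀ k, x.val k * Ideal.Quotient.factor (hle k) (y k) = 1 := fun k => by
        rw [← AdicCompletion.eval_apply, ← AdicCompletion.factor_evalₐ_eq_eval I x (hle k), ← map_mul,
          hy, map_one]
      conv_lhs => rw [← x.property hmn]
      rw [← AdicCompletion.transitionMap_map_mul, e1, AdicCompletion.transitionMap_map_one, e1]
    · refine AdicCompletion.ext fun n => ?_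
      show x.val n * Ideal.Quotient.factor (hle n) (y n) = 1
      rw [← AdicCompletion.eval_apply, ← AdicCompletion.factor_evalₐ_eq_eval I x (hle n)]
      rw [← map_mul, hy, map_one]
  have h2 : RingHom.ker (AdicCompletion.evalOneₐ I).toRingHom ≤
      (⊥ : Ideal (AdicCompletion I R)).jacobson := by
    intro x hx
    rw [Ideal.mem_jacobson_bot]
    intro y
    refine h1 _ ?_
    rw [map_add, map_mul, map_one, show AdicCompletion.evalOneₐ I x = 0 from hx, zero_mul, zero_add]
    exact isUnit_one
  refine ⟨h1, h2, le_trans (Ideal.map_le_iff_le_comap.mpr fun a ha => ?_) h2⟩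
  show AdicCompletion.evalOneₐ I (algebraMap R _ a) = 0
  rw [AlgHom.commutes]
  exact Ideal.Quotient.eq_zero_iff_mem.mpr ha

end Groth.Agent.S9602
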