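import Groth.Statements.S9603
import Mathlib.RingTheory.Ideal.Operations

set_option autoImplicit false
universe u
open CAlg

namespace Groth.Agent.S9603

/-- For a ring A, elements f_1, …, f_r generating an ideal I and an A-module M, if the canonical map
from M to its (f_i)-adic completion is surjective for every i, then the canonical map from M to its
I-adic completion is surjective. -/
theorem result {A : Type u} [CommRing A] {r : ℕ} (f : Fin r → A) (M : Type u) [AddCommGroup M] [Module A M] (h : ∀ i, Function.Surjective (AdicCompletion.of (Ideal.span {f i}) M)) :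
    Function.Surjective (AdicCompletion.of (Ideal.span (Set.range f)) M) := by
  classical
  -- subsequence form: series with terms in `(span of a set)^n`
  have single : ∀ i (d : ℕ → M), ∃ L : M, ∀ n,
      L - ∑ m ∈ Finset.range n, f i ^ m • d m ∈ (Ideal.span {f i} ^ n • ⊤ : Submodule A M) := by
    intro i d
    obtain ⟨L, hL⟩ := (AdicCompletion.of_surjective_iff.mp (h i)).prec'
      (fun n => ∑ m ∈ Finset.range n, f i ^ m • d m) (fun {a b} hab => by
      refine SModEq.sub_mem.mpr ?_
      rw [← neg_mem_iff, neg_sub, ← Finset.sum_Ico_eq_sub _ hab]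
      exact Submodule.sum_mem _ fun m hm => Submodule.smul_mem_smul
        (Ideal.pow_le_pow_right (Finset.mem_Ico.mp hm).1
          (Ideal.pow_mem_pow (Ideal.mem_span_singleton_self _) m)) trivial)
    exact ⟨L, fun n => by
      rw [← neg_mem_iff, neg_sub]; exact SModEq.sub_mem.mp (hL n)⟩
  set J := Ideal.span (Set.range f) with hJ
  have hpow : ∀ n, J ^ (r * n + 1) ≤ Ideal.span (Set.range fun i => f i ^ n) := by
    intro n
    have key : ∀ s : Finset (Fin r), Ideal.span (f '' (s : Set (Fin r))) ^ (s.card * n + 1) ≤
        Ideal.span ((fun i => f i ^ n) '' (s : Set (Fin r))) := by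
      intro s
      induction s using Finset.induction with
      | empty => simp
      | insert a t hat ih =>
        rw [Finset.coe_insert, Set.image_insert_eq, Set.image_insert_eq, Ideal.span_insert,
          Ideal.span_insert, Finset.card_insert_of_notMem hat,
          show (t.card + 1) * n + 1 = n + (t.card * n + 1) by ring]
        refine Ideal.sup_pow_add_le_pow_sup_pow.trans (sup_le_sup ?_ ih)
        rw [Ideal.span_singleton_pow]
    simpa using key Finset.univ
  rw [AdicCompletion.of_surjective_iff]
  refine ⟨fun g hg => ?_⟩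
  let N : ℕ → ℕ := fun n => r * n + 1
  have hd : ∀ n, ∃ d : Fin r → M, g (N (n + 1)) - g (N n) = ∑ i, f i ^ n • d i := by
    intro n
    have hle : N n ≤ N (n + 1) := by simp only [N]; rw [Nat.mul_succ]; omega
    have h1 : g (N (n + 1)) - g (N n) ∈
        (Ideal.span (Set.range fun i => f i ^ n) • ⊤ : Submodule A M) := by
      rw [← neg_mem_iff, neg_sub]
      exact Submodule.smul_mono_left (hpow n) (SModEq.sub_mem.mp (hg hle))
    refine Submodule.smul_induction_on h1 (fun a ha x _ => ?_) ?_
    · obtain ⟨b, hb⟩ := Ideal.mem_span_range_iff_exists_fun.mp ha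
      exact ⟨fun i => b i • x, by simp only [← hb, Finset.sum_smul, smul_smul, mul_comm]⟩
    · rintro x y ⟨d, rfl⟩ ⟨d', rfl⟩
      exact ⟨d + d', by simp [smul_add, Finset.sum_add_distrib]⟩
  choose d hd using hd
  choose L hL using fun i => single i (fun n => d n i)
  refine ⟨g (N 0) + ∑ i, L i, fun n => ?_⟩
  rcases Nat.eq_zero_or_pos r with hr | hr
  · subst hr
    have h1 : ∀ m, g (N m) = g (N 0) := fun m => by
      induction m with
      | zero => rfl
      | succ m ih => rw [← ih, ← sub_eq_zero, hd]; simp
    have h2 : J = ⊥ := by simp [hJ]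
    rw [SModEq.sub_mem]
    rcases Nat.eq_zero_or_pos n with rfl | hn
    · simp
    · have h3 := SModEq.sub_mem.mp (hg (show 1 ≤ n from hn))
      rw [show N 0 = 1 from rfl]
      have h4 : (J ^ 1 • ⊤ : Submodule A M) = ⊥ := by rw [h2]; simp
      rw [h4, Submodule.mem_bot, sub_eq_zero] at h3
      simp [h3]
  · have h1 : g (N n) = g (N 0) + ∑ i, ∑ m ∈ Finset.range n, f i ^ m • d m i := by
      rw [Finset.sum_comm, ← Finset.sum_congr rfl (fun m _ => hd m), Finset.sum_range_sub
        (fun m => g (N m)), add_sub_cancel]
    have hnN : n ≤ N n := by simp only [N]; nlinarith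
    refine (hg hnN).trans (SModEq.sub_mem.mpr ?_)
    rw [h1, add_sub_add_left_eq_sub, ← Finset.sum_sub_distrib]
    refine Submodule.sum_mem _ fun i _ => ?_
    rw [← neg_mem_iff, neg_sub]
    refine Submodule.smul_mono_left (Ideal.pow_right_mono ?_ n) (hL i n)
    exact Ideal.span_mono (Set.singleton_subset_iff.mpr ⟨i, rfl⟩)

end Groth.Agent.S9603
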