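import Groth.Statements.S9605
import Mathlib.RingTheory.Ideal.Operations

set_option autoImplicit false
universe u
open CAlg

namespace Groth.Agent.S9605

/-- For a ring R, an ideal I of R, an I-adically complete R-module M and a submodule K of M, the
quotient M/K is I-adically complete if and only if K = ⋂ₙ (K + IⁿM). -/
theorem result {R : Type u} [CommRing R] (I : Ideal R) (M : Type u) [AddCommGroup M] [Module R M] [IsAdicComplete I M] (K : Submodule R M) :
    IsAdicComplete I (M ⧸ K) ↔ K = ⨅ n : ℕ, K ⊔ I ^ n • (⊤ : Submodule R M) := by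
  classical
  have hmap : ∀ n, (I ^ n • ⊤ : Submodule R (M ⧸ K)) = Submodule.map K.mkQ (I ^ n • ⊤) := fun n => by
    rw [Submodule.map_smul'', Submodule.map_top, Submodule.range_mkQ]
  have hmem : ∀ n (x : M), K.mkQ x ∈ (I ^ n • ⊤ : Submodule R (M ⧸ K)) ↔ x ∈ K ⊔ I ^ n • ⊤ := by
    intro n x
    rw [hmap, ← Submodule.mem_comap, Submodule.comap_map_mkQ]
  constructor
  · intro h
    refine le_antisymm (le_iInf fun n => le_sup_left) fun x hx => ?_
    rw [← Submodule.Quotient.mk_eq_zero K]
    refine h.haus' (K.mkQ x) fun n => ?_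
    rw [SModEq.zero, hmem]
    exact (Submodule.mem_iInf _).mp hx n
  · intro h
    refine { toIsHausdorff := ⟨fun y hy => ?_⟩, toIsPrecomplete := ⟨fun f hf => ?_⟩ }
    · obtain ⟨x, rfl⟩ := Submodule.mkQ_surjective K y
      rw [Submodule.mkQ_apply, Submodule.Quotient.mk_eq_zero, h, Submodule.mem_iInf]
      intro n
      rw [← hmem, ← SModEq.zero]
      exact hy n
    · have hd : ∀ n, ∃ d ∈ (I ^ n • ⊤ : Submodule R M), K.mkQ d = f (n + 1) - f n := fun n => by
        have := SModEq.sub_mem.mp (hf (Nat.le_succ n))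
        rw [← neg_mem_iff, neg_sub, hmap] at this
        exact this
      choose d hdm hd using hd
      obtain ⟨g0, hg0⟩ := Submodule.mkQ_surjective K (f 0)
      let g : ℕ → M := fun n => g0 + ∑ i ∈ Finset.range n, d i
      have hg : ∀ n, K.mkQ (g n) = f n := by
        intro n
        induction n with
        | zero => simp [g, hg0]
        | succ n ih =>
          simp only [g, Finset.sum_range_succ, ← add_assoc, map_add] at ih ⊢
          rw [ih, hd, add_sub_cancel]
      obtain ⟨L, hL⟩ := IsPrecomplete.prec ‹IsAdicComplete I M›.toIsPrecomplete (f := g) (by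
        intro a b hab
        rw [SModEq.sub_mem, ← neg_mem_iff, neg_sub]
        simp only [g, add_sub_add_left_eq_sub, ← Finset.sum_Ico_eq_sub _ hab]
        refine Submodule.sum_mem _ fun i hi => ?_
        exact Submodule.smul_mono_left (Ideal.pow_le_pow_right (Finset.mem_Ico.mp hi).1) (hdm i))
      refine ⟨K.mkQ L, fun n => ?_⟩
      rw [SModEq.sub_mem, ← hg, ← map_sub, hmem]
      exact Submodule.mem_sup_right (SModEq.sub_mem.mp (hL n))

end Groth.Agent.S9605
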