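import Groth.Statements.S9606
import Mathlib.RingTheory.Spectrum.Prime.Homeomorph
import Mathlib.RingTheory.LocalRing.ResidueField.Ideal

set_option autoImplicit false
universe u
open CAlg

namespace Groth.Agent.S9606

/-- Let R → S be a ring map with locally nilpotent kernel such that S is generated over R by elements x
with x² and x³ in the image of R. Then the induced map on spectra is a homeomorphism and every
residue field map κ(p) → κ(q), for q a prime of S with inverse image p, is bijective. -/
theorem result {R S : Type u} [CommRing R] [CommRing S] [Algebra R S]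
    (hgen : Algebra.adjoin R {x : S | x ^ 2 ∈ Set.range (algebraMap R S) ∧ x ^ 3 ∈ Set.range (algebraMap R S)} = ⊤)
    (hker : ∀ r : R, algebraMap R S r = 0 → IsNilpotent r) :
    IsHomeomorph (PrimeSpectrum.comap (algebraMap R S)) ∧
      ∀ (q : Ideal S) [q.IsPrime], Function.Bijective (Ideal.ResidueField.map (q.comap (algebraMap R S)) q (algebraMap R S) rfl) := by
  have hunique : ∀ (K : Type u) [Field K] [Algebra R K] (φ ψ : S →ₐ[R] K), φ = ψ := by
    intro K _ _ φ ψ
    refine AlgHom.ext_of_adjoin_eq_top hgen ?_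
    rintro x ⟨⟨a, ha⟩, ⟨b, hb⟩⟩
    have h : ∀ χ : S →ₐ[R] K, χ x ^ 2 = algebraMap R K a ∧ χ x ^ 3 = algebraMap R K b := fun χ =>
      ⟨by rw [← map_pow, ← ha, AlgHom.commutes], by rw [← map_pow, ← hb, AlgHom.commutes]⟩
    obtain ⟨h2, h3⟩ := h φ
    obtain ⟨k2, k3⟩ := h ψ
    by_cases h0 : algebraMap R K a = 0
    · rw [h0, sq_eq_zero_iff] at h2 k2
      rw [h2, k2]
    · refine mul_left_cancel₀ h0 ?_
      calc algebraMap R K a * φ x = φ x ^ 3 := by rw [← h2]; ring
        _ = ψ x ^ 3 := by rw [h3, k3]
        _ = algebraMap R K a * ψ x := by rw [← k2]; ring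
  haveI hint : Algebra.IsIntegral R S := by
    refine ⟨fun y => ?_⟩
    have h : Algebra.adjoin R {x : S | x ^ 2 ∈ Set.range (algebraMap R S) ∧
        x ^ 3 ∈ Set.range (algebraMap R S)} ≤ integralClosure R S := by
      rw [Algebra.adjoin_le_iff]
      rintro x ⟨⟨a, ha⟩, -⟩
      exact IsIntegral.of_pow two_pos (ha ▸ isIntegral_algebraMap)
    rw [hgen] at h
    exact h (x := y) trivial
  have hres : ∀ (q : Ideal S) [q.IsPrime], Function.Bijective
      (Ideal.ResidueField.map (q.comap (algebraMap R S)) q (algebraMap R S) rfl) := by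
    intro q _
    set m := Ideal.ResidueField.map (q.comap (algebraMap R S)) q (algebraMap R S) rfl with hm
    have hmr : ∀ r, m (algebraMap R (q.comap (algebraMap R S)).ResidueField r) =
        algebraMap S q.ResidueField (algebraMap R S r) := fun r => by
      simp [hm]
    refine ⟨m.injective, fun z => ?_⟩
    have hall : ∀ s : S, algebraMap S q.ResidueField s ∈ m.range := by
      intro s
      have hs : s ∈ Algebra.adjoin R {x : S | x ^ 2 ∈ Set.range (algebraMap R S) ∧
        x ^ 3 ∈ Set.range (algebraMap R S)} := hgen ▸ trivial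
      induction hs using Algebra.adjoin_induction with
      | mem x hx =>
        obtain ⟨⟨a, ha⟩, ⟨b, hb⟩⟩ := hx
        rcases eq_or_ne (algebraMap S q.ResidueField x) 0 with h0 | h0
        · rw [h0]; exact zero_mem _
        · refine ⟨algebraMap R _ b / algebraMap R _ a, ?_⟩
          rw [map_div₀, hmr, hmr, ha, hb, map_pow, map_pow,
            div_eq_iff (pow_ne_zero 2 h0)]
          ring
      | algebraMap r => exact ⟨_, hmr r⟩
      | add x y _ _ hx hy => rw [map_add]; exact add_mem hx hy
      | mul x y _ _ hx hy => rw [map_mul]; exact mul_mem hx hy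
    obtain ⟨x, y, -, rfl⟩ := IsFractionRing.div_surjective (S ⧸ q) z
    obtain ⟨x, rfl⟩ := Ideal.Quotient.mk_surjective x
    obtain ⟨y, rfl⟩ := Ideal.Quotient.mk_surjective y
    obtain ⟨u, hu⟩ := hall x
    obtain ⟨v, hv⟩ := hall y
    exact ⟨u / v, by rw [map_div₀, hu, hv]; rfl⟩
  refine ⟨?_, hres⟩
  have hinj : Function.Injective (PrimeSpectrum.comap (algebraMap R S)) := by
    intro q q' h
    have key : ∀ (p : Ideal R) [p.IsPrime] (q : PrimeSpectrum S),
        q.asIdeal.comap (algebraMap R S) = p →
          ∃ φ : S →ₐ[R] p.ResidueField, RingHom.ker φ.toRingHom = q.asIdeal := by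
      rintro p hp q rfl
      let e := RingEquiv.ofBijective _ (hres q.asIdeal)
      let φ : S →+* (q.asIdeal.comap (algebraMap R S)).ResidueField :=
        e.symm.toRingHom.comp (algebraMap S q.asIdeal.ResidueField)
      refine ⟨⟨φ, fun r => ?_⟩, ?_⟩
      · apply e.injective
        change e (e.symm _) = _
        rw [RingEquiv.apply_symm_apply]
        simp [e]
      · ext s
        change e.symm (algebraMap S q.asIdeal.ResidueField s) = 0 ↔ _
        rw [map_eq_zero_iff _ e.symm.injective, Ideal.algebraMap_residueField_eq_zero]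
    obtain ⟨φ, hφ⟩ := key (q'.asIdeal.comap (algebraMap R S)) q (congrArg PrimeSpectrum.asIdeal h)
    obtain ⟨ψ, hψ⟩ := key (q'.asIdeal.comap (algebraMap R S)) q' rfl
    exact PrimeSpectrum.ext (hφ.symm.trans ((congrArg (fun χ : S →ₐ[R] _ => RingHom.ker χ.toRingHom) (hunique _ φ ψ)).trans hψ))
  have hk : (algebraMap R S).kerLift.IsIntegral := fun x => by
    obtain ⟨P, hP, hPx⟩ := Algebra.IsIntegral.isIntegral (R := R) x
    exact ⟨P.map (Ideal.Quotient.mk _), hP.map _, by rw [Polynomial.eval₂_map]; exact hPx⟩
  have hker' : RingHom.ker (algebraMap R S) ≤ nilradical R := fun r hr =>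
    mem_nilradical.mpr (hker r hr)
  have hsurj : Function.Surjective (PrimeSpectrum.comap (algebraMap R S)) :=
    (PrimeSpectrum.comap_quotientMk_bijective_of_le_nilradical hker').2.comp
      (hk.comap_surjective (algebraMap R S).kerLift_injective)
  have hint' : (algebraMap R S).IsIntegral := fun x => Algebra.IsIntegral.isIntegral x
  exact isHomeomorph_iff_continuous_isClosedMap_bijective.mpr ⟨PrimeSpectrum.continuous_comap _,
    PrimeSpectrum.isClosedMap_comap_of_isIntegral _ hint', hinj, hsurj⟩

end Groth.Agent.S9606
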