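import Groth.Statements.S9607
import Mathlib.RingTheory.MvPolynomial.Basic
import Mathlib.RingTheory.Adjoin.Basic
import Mathlib.Data.Nat.Choose.Factorization
import Mathlib.Data.Nat.Choose.Sum
import Mathlib.Tactic.Ring

set_option autoImplicit false
universe u
open CAlg

namespace Groth.Agent.S9607

/-- For a prime number p and integers n, m > 0 there exists an integer a such that (x + y)^(p^a) and p^a
(x + y) both belong to the subring ℤ[x^(p^n), p^n x, y^(p^m), p^m y] of the polynomial ring ℤ[x, y]. -/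
theorem result (p : ℕ) (hp : p.Prime) (n m : ℕ) (hn : 0 < n) (hm : 0 < m) :
    ∃ a : ℕ, ((MvPolynomial.X 0 + MvPolynomial.X 1 : MvPolynomial (Fin 2) ℤ) ^ (p ^ a) ∈ Algebra.adjoin ℤ ({MvPolynomial.X 0 ^ (p ^ n), (p : MvPolynomial (Fin 2) ℤ) ^ n * MvPolynomial.X 0, MvPolynomial.X 1 ^ (p ^ m), (p : MvPolynomial (Fin 2) ℤ) ^ m * MvPolynomial.X 1} : Set (MvPolynomial (Fin 2) ℤ)) ∧
      (p : MvPolynomial (Fin 2) ℤ) ^ a * (MvPolynomial.X 0 + MvPolynomial.X 1) ∈ Algebra.adjoin ℤ ({MvPolynomial.X 0 ^ (p ^ n), (p : MvPolynomial (Fin 2) ℤ) ^ n * MvPolynomial.X 0, MvPolynomial.X 1 ^ (p ^ m), (p : MvPolynomial (Fin 2) ℤ) ^ m * MvPolynomial.X 1} : Set (MvPolynomial (Fin 2) ℤ))) := by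
  set S := Algebra.adjoin ℤ ({MvPolynomial.X 0 ^ (p ^ n), (p : MvPolynomial (Fin 2) ℤ) ^ n * MvPolynomial.X 0, MvPolynomial.X 1 ^ (p ^ m), (p : MvPolynomial (Fin 2) ℤ) ^ m * MvPolynomial.X 1} : Set (MvPolynomial (Fin 2) ℤ)) with hS
  have g1 : (MvPolynomial.X 0 : MvPolynomial (Fin 2) ℤ) ^ (p ^ n) ∈ S := Algebra.subset_adjoin (by simp)
  have g2 : (p : MvPolynomial (Fin 2) ℤ) ^ n * MvPolynomial.X 0 ∈ S := Algebra.subset_adjoin (by simp)
  have g3 : (MvPolynomial.X 1 : MvPolynomial (Fin 2) ℤ) ^ (p ^ m) ∈ S := Algebra.subset_adjoin (by simp)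
  have g4 : (p : MvPolynomial (Fin 2) ℤ) ^ m * MvPolynomial.X 1 ∈ S := Algebra.subset_adjoin (by simp)
  have key : ∀ i j c : ℕ, p ^ (n * (i % p ^ n) + m * (j % p ^ m)) ∣ c →
      (MvPolynomial.X 0 : MvPolynomial (Fin 2) ℤ) ^ i * MvPolynomial.X 1 ^ j * (c : MvPolynomial (Fin 2) ℤ) ∈ S := by
    intro i j c ⟨d, hd⟩
    have : (MvPolynomial.X 0 : MvPolynomial (Fin 2) ℤ) ^ i * MvPolynomial.X 1 ^ j * (c : MvPolynomial (Fin 2) ℤ) =
        (MvPolynomial.X 0 ^ (p ^ n)) ^ (i / p ^ n) * ((p : MvPolynomial (Fin 2) ℤ) ^ n * MvPolynomial.X 0) ^ (i % p ^ n) *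
          ((MvPolynomial.X 1 ^ (p ^ m)) ^ (j / p ^ m) * ((p : MvPolynomial (Fin 2) ℤ) ^ m * MvPolynomial.X 1) ^ (j % p ^ m)) *
          (d : MvPolynomial (Fin 2) ℤ) := by
      have hi := congr_arg (fun e => (MvPolynomial.X 0 : MvPolynomial (Fin 2) ℤ) ^ e) (Nat.div_add_mod i (p ^ n))
      have hj := congr_arg (fun e => (MvPolynomial.X 1 : MvPolynomial (Fin 2) ℤ) ^ e) (Nat.div_add_mod j (p ^ m))
      rw [hd, Nat.cast_mul, Nat.cast_pow, ← hi, ← hj]
      simp only [mul_pow, ← pow_mul, pow_add]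
      ring
    rw [this]
    exact mul_mem (mul_mem (mul_mem (pow_mem g1 _) (pow_mem g2 _)) (mul_mem (pow_mem g3 _) (pow_mem g4 _))) (natCast_mem S d)
  refine ⟨n * p ^ n + m * p ^ m + n + m, ?_, ?_⟩
  · rw [add_pow]
    refine sum_mem fun i hi => key _ _ _ ?_
    set a := n * p ^ n + m * p ^ m + n + m
    have hi' : i ≤ p ^ a := Nat.lt_succ_iff.mp (Finset.mem_range.mp hi)
    have hna : p ^ n ∣ p ^ a := pow_dvd_pow p (by omega)
    have hma : p ^ m ∣ p ^ a := pow_dvd_pow p (by omega)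
    by_cases hcase : p ^ n ∣ i ∧ p ^ m ∣ i
    · rw [Nat.mod_eq_zero_of_dvd hcase.1, Nat.mod_eq_zero_of_dvd (Nat.dvd_sub hma hcase.2)]
      simp
    · have hi0 : i ≠ 0 := fun h => hcase (by simp [h])
      have hv : i.factorization p < n + m := by
        by_contra hc
        exact hcase ⟨(hp.pow_dvd_iff_le_factorization hi0).mpr (by omega), (hp.pow_dvd_iff_le_factorization hi0).mpr (by omega)⟩
      rw [hp.pow_dvd_iff_le_factorization (Nat.choose_pos hi').ne', Nat.factorization_choose_prime_pow hp hi' hi0]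
      have h1 : n * (i % p ^ n) ≤ n * p ^ n := Nat.mul_le_mul le_rfl (Nat.mod_lt _ (pow_pos hp.pos _)).le
      have h2 : m * ((p ^ a - i) % p ^ m) ≤ m * p ^ m := Nat.mul_le_mul le_rfl (Nat.mod_lt _ (pow_pos hp.pos _)).le
      omega
  · rw [mul_add]
    refine add_mem ?_ ?_
    · rw [show n * p ^ n + m * p ^ m + n + m = (n * p ^ n + m * p ^ m + m) + n by ring, pow_add, mul_assoc]
      exact mul_mem (pow_mem (natCast_mem S p) _) g2
    · rw [pow_add, mul_assoc]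
      exact mul_mem (pow_mem (natCast_mem S p) _) g4

end Groth.Agent.S9607
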