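import Groth.Statements.S9608
import Mathlib.FieldTheory.PurelyInseparable.PerfectClosure

set_option autoImplicit false
universe u
open CAlg

namespace Groth.Agent.S9608

/-- Let k'/k be a field extension and p a prime number. Then k' is generated over k by elements x for
which some n > 0 has x^(p^n) ∈ k and p^n x ∈ k, if and only if either k' = k, or k has
characteristic p and k'/k is purely inseparable. -/
theorem result {k k' : Type u} [Field k] [Field k'] [Algebra k k'] (p : ℕ) (hp : p.Prime) :
    IntermediateField.adjoin k {x : k' | ∃ n : ℕ, 0 < n ∧ x ^ (p ^ n) ∈ Set.range (algebraMap k k') ∧ (p : k') ^ n * x ∈ Set.range (algebraMap k k')} = ⊤ ↔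
      (Function.Surjective (algebraMap k k') ∨ (CharP k p ∧ IsPurelyInseparable k k')) := by
  classical
  constructor
  · intro h
    by_cases hp0 : (p : k) = 0
    · haveI : CharP k p := (CharP.charP_iff_prime_eq_zero hp).mpr hp0
      right
      haveI : ExpChar k p := ExpChar.prime hp
      refine ⟨inferInstance, ?_⟩
      have h2 : IsPurelyInseparable k (⊤ : IntermediateField k k') := by
        rw [← h, IntermediateField.isPurelyInseparable_adjoin_iff_pow_mem k k' p]
        rintro x ⟨j, -, hx, -⟩
        exact ⟨j, hx⟩
      exact IntermediateField.topEquiv.isPurelyInseparable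
    · left
      intro y
      have hy : y ∈ (⊤ : IntermediateField k k') := trivial
      rw [← h] at hy
      refine IntermediateField.adjoin_le_iff.mpr ?_ hy |> fun hb => IntermediateField.mem_bot.mp hb
      rintro x ⟨j, _, _, hx⟩
      obtain ⟨c, hc⟩ := hx
      refine IntermediateField.mem_bot.mpr ⟨c / (p : k) ^ j, ?_⟩
      have : (p : k') ^ j ≠ 0 := pow_ne_zero _ (by rw [← map_natCast (algebraMap k k')]; exact (map_ne_zero _).mpr hp0)
      rw [map_div₀, map_pow, map_natCast, hc, mul_div_cancel_left₀ _ this]
  · rintro (h | ⟨hc, hpi⟩)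
    · rw [eq_top_iff]
      intro y _
      obtain ⟨c, rfl⟩ := h y
      exact IntermediateField.algebraMap_mem _ c
    · rw [eq_top_iff]
      intro y _
      haveI : ExpChar k p := ExpChar.prime hp
      haveI : CharP k' p := charP_of_injective_algebraMap (algebraMap k k').injective p
      obtain ⟨j, c, hc'⟩ := IsPurelyInseparable.pow_mem k p y
      refine IntermediateField.subset_adjoin k _ ⟨j + 1, Nat.succ_pos _, ⟨c ^ p, ?_⟩, ⟨0, ?_⟩⟩
      · rw [map_pow, hc', ← pow_mul, ← pow_succ]
      · rw [map_zero, CharP.cast_eq_zero k' p, zero_pow (Nat.succ_ne_zero _), zero_mul]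

end Groth.Agent.S9608
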