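import Groth.Statements.S9609
import Mathlib.RingTheory.LocalRing.ResidueField.Ideal
import Mathlib.RingTheory.TensorProduct.Basic
import Mathlib.Algebra.CharP.Algebra
import Mathlib.Algebra.CharP.Lemmas
import Mathlib.RingTheory.Spectrum.Prime.Topology

set_option autoImplicit false
universe u
open CAlg

namespace Groth.Agent.S9609

open TensorProduct

section

variable {R S R' : Type u} [CommRing R] [CommRing S] [CommRing R'] [Algebra R S] [Algebra R R']

/-- `x` has, up to an `e`-power, a common value in `κ(p')` at all primes over `p'`. -/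
def G (p' : Ideal R') [p'.IsPrime] (x : R' ⊗[R] S) : Prop :=
  ∃ (n : ℕ) (c : p'.ResidueField), ∀ (q : Ideal (R' ⊗[R] S)) [q.IsPrime] (h : p' = q.comap (algebraMap R' (R' ⊗[R] S))),
    algebraMap (R' ⊗[R] S) q.ResidueField x ^ (ringExpChar p'.ResidueField) ^ n =
      Ideal.ResidueField.map p' q (algebraMap R' (R' ⊗[R] S)) h c

theorem G_all
    (hinj : Function.Injective (PrimeSpectrum.comap (algebraMap R S)))
    (hpi : ∀ (q : Ideal S) [q.IsPrime] (x : q.ResidueField), ∃ n : ℕ, x ^ (ringExpChar (q.comap (algebraMap R S)).ResidueField) ^ n ∈ Set.range (Ideal.ResidueField.map (q.comap (algebraMap R S)) q (algebraMap R S) rfl))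
    (p' : Ideal R') [p'.IsPrime] (x : R' ⊗[R] S) : G p' x := by
  set e := ringExpChar p'.ResidueField with he
  haveI hexp : ExpChar p'.ResidueField e := ringExpChar.expChar p'.ResidueField
  induction x using TensorProduct.induction_on with
  | zero =>
    refine ⟨0, 0, fun q _ h => ?_⟩
    rw [pow_zero, pow_one, map_zero, map_zero]
  | tmul r s =>
    by_cases hex : ∃ q : Ideal (R' ⊗[R] S), q.IsPrime ∧ p' = q.comap (algebraMap R' (R' ⊗[R] S))
    swap
    · exact ⟨0, 0, fun q hq h => absurd ⟨q, hq, h⟩ hex⟩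
    obtain ⟨q₁, hq₁, h₁⟩ := hex
    let ι : S →+* R' ⊗[R] S := (Algebra.TensorProduct.includeRight : S →ₐ[R] R' ⊗[R] S).toRingHom
    let q₀ : Ideal S := q₁.comap ι
    have hbase : ∀ (q : Ideal (R' ⊗[R] S)), p' = q.comap (algebraMap R' (R' ⊗[R] S)) →
        (q.comap ι).comap (algebraMap R S) = p'.comap (algebraMap R R') := by
      intro q h
      rw [h, Ideal.comap_comap, Ideal.comap_comap]
      congr 1
      ext a
      simp [ι]
    have huniq : ∀ (q : Ideal (R' ⊗[R] S)), q.IsPrime → p' = q.comap (algebraMap R' (R' ⊗[R] S)) → q₀ = q.comap ι := by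
      intro q hq h
      have := @hinj ⟨q₀, inferInstance⟩ ⟨q.comap ι, inferInstance⟩ (PrimeSpectrum.ext ((hbase q₁ h₁).trans (hbase q h).symm))
      exact congrArg PrimeSpectrum.asIdeal this
    obtain ⟨n, c0, hc0⟩ := hpi q₀ (algebraMap S q₀.ResidueField s)
    let j : (q₀.comap (algebraMap R S)).ResidueField →+* p'.ResidueField :=
      Ideal.ResidueField.map _ p' (algebraMap R R') (hbase q₁ h₁)
    have hE : ringExpChar (q₀.comap (algebraMap R S)).ResidueField = e := by
      haveI : ExpChar p'.ResidueField (ringExpChar (q₀.comap (algebraMap R S)).ResidueField) :=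
        expChar_of_injective_ringHom j.injective _
      exact (ringExpChar.eq p'.ResidueField _).symm
    refine ⟨n, algebraMap R' p'.ResidueField r ^ e ^ n * j c0, fun q _ h => ?_⟩
    have h0 := huniq q inferInstance h
    let jq : q₀.ResidueField →+* q.ResidueField := Ideal.ResidueField.map q₀ q ι h0
    have hcomm : jq.comp (Ideal.ResidueField.map _ q₀ (algebraMap R S) rfl) =
        (Ideal.ResidueField.map p' q (algebraMap R' (R' ⊗[R] S)) h).comp j := by
      apply Ideal.ResidueField.ringHom_ext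
      ext a
      simp only [jq, j, RingHom.comp_apply, Ideal.ResidueField.map_algebraMap]
      congr 1
      simp [ι]
    rw [map_mul, map_pow, show Ideal.ResidueField.map p' q (algebraMap R' (R' ⊗[R] S)) h (j c0) = jq (Ideal.ResidueField.map _ q₀ (algebraMap R S) rfl c0) from (RingHom.congr_fun hcomm c0).symm, hc0, map_pow,
      Ideal.ResidueField.map_algebraMap, Ideal.ResidueField.map_algebraMap, hE, ← mul_pow, ← map_mul]
    congr 2
    simp [ι]
  | add a b ha hb =>
    obtain ⟨n, c, hc⟩ := ha
    obtain ⟨m, d, hd⟩ := hb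
    refine ⟨n + m, c ^ e ^ m + d ^ e ^ n, fun q _ h => ?_⟩
    haveI : ExpChar q.ResidueField e :=
      expChar_of_injective_ringHom (Ideal.ResidueField.map p' q (algebraMap R' (R' ⊗[R] S)) h).injective e
    rw [map_add, add_pow_expChar_pow, map_add, map_pow, map_pow, ← hc q h, ← hd q h, ← pow_mul, ← pow_mul,
      ← pow_add, ← pow_add, add_comm m n]

end

open TensorProduct in
/-- Let R → S be a ring map which is injective on spectra and whose residue field extensions κ(p) → κ(q)
(q a prime of S with inverse image p) are purely inseparable: every element of κ(q) has a power with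
exponent a power of the characteristic exponent lying in the image of κ(p). Then, given an arbitrary
R-algebra R', the induced map R' → R' ⊗_R S is likewise injective on spectra and has purely
inseparable residue field extensions. -/
theorem result {R S R' : Type u} [CommRing R] [CommRing S] [CommRing R'] [Algebra R S] [Algebra R R']
    (hinj : Function.Injective (PrimeSpectrum.comap (algebraMap R S)))
    (hpi : ∀ (q : Ideal S) [q.IsPrime] (x : q.ResidueField), ∃ n : ℕ, x ^ (ringExpChar (q.comap (algebraMap R S)).ResidueField) ^ n ∈ Set.range (Ideal.ResidueField.map (q.comap (algebraMap R S)) q (algebraMap R S) rfl)) :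
    Function.Injective (PrimeSpectrum.comap (algebraMap R' (R' ⊗[R] S))) ∧
      ∀ (q' : Ideal (R' ⊗[R] S)) [q'.IsPrime] (x : q'.ResidueField), ∃ n : ℕ, x ^ (ringExpChar (q'.comap (algebraMap R' (R' ⊗[R] S))).ResidueField) ^ n ∈ Set.range (Ideal.ResidueField.map (q'.comap (algebraMap R' (R' ⊗[R] S))) q' (algebraMap R' (R' ⊗[R] S)) rfl) := by
  refine ⟨fun P Q hPQ => ?_, fun q' _ x => ?_⟩
  · have hPQ' := congrArg PrimeSpectrum.asIdeal hPQ
    simp only [PrimeSpectrum.comap_asIdeal] at hPQ'
    refine PrimeSpectrum.ext ?_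
    suffices ∀ A B : PrimeSpectrum (R' ⊗[R] S), A.asIdeal.comap (algebraMap R' (R' ⊗[R] S)) = B.asIdeal.comap (algebraMap R' (R' ⊗[R] S)) → A.asIdeal ≤ B.asIdeal from
      le_antisymm (this P Q hPQ') (this Q P hPQ'.symm)
    intro A B hAB x hx
    obtain ⟨n, c, hc⟩ := G_all hinj hpi (A.asIdeal.comap (algebraMap R' (R' ⊗[R] S))) x
    haveI := ringExpChar.expChar (A.asIdeal.comap (algebraMap R' (R' ⊗[R] S))).ResidueField
    have hpos : 0 < (ringExpChar (A.asIdeal.comap (algebraMap R' (R' ⊗[R] S))).ResidueField) ^ n :=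
      pow_pos (expChar_pos (A.asIdeal.comap (algebraMap R' (R' ⊗[R] S))).ResidueField _) n
    have h1 := hc A.asIdeal rfl
    rw [Ideal.algebraMap_residueField_eq_zero.mpr hx, zero_pow hpos.ne'] at h1
    have h2 : c = 0 := (Ideal.ResidueField.map _ A.asIdeal (algebraMap R' (R' ⊗[R] S)) rfl).injective (by rw [← h1, map_zero])
    have h3 := hc B.asIdeal hAB
    rw [h2, map_zero] at h3
    exact Ideal.algebraMap_residueField_eq_zero.mp (pow_eq_zero_iff hpos.ne' |>.mp h3)
  · obtain ⟨a, b, -, rfl⟩ := IsFractionRing.div_surjective (A := (R' ⊗[R] S) ⧸ q') x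
    obtain ⟨a, rfl⟩ := Ideal.Quotient.mk_surjective a
    obtain ⟨b, rfl⟩ := Ideal.Quotient.mk_surjective b
    obtain ⟨n, c, hc⟩ := G_all hinj hpi (q'.comap (algebraMap R' (R' ⊗[R] S))) a
    obtain ⟨m, d, hd⟩ := G_all hinj hpi (q'.comap (algebraMap R' (R' ⊗[R] S))) b
    set e := ringExpChar (q'.comap (algebraMap R' (R' ⊗[R] S))).ResidueField
    refine ⟨n + m, c ^ e ^ m / d ^ e ^ n, ?_⟩
    show Ideal.ResidueField.map _ q' (algebraMap R' (R' ⊗[R] S)) rfl (c ^ e ^ m / d ^ e ^ n) =
      (algebraMap ((R' ⊗[R] S) ⧸ q') q'.ResidueField (Ideal.Quotient.mk q' a) / algebraMap ((R' ⊗[R] S) ⧸ q') q'.ResidueField (Ideal.Quotient.mk q' b)) ^ e ^ (n + m)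
    rw [map_div₀, map_pow, map_pow, ← hc q' rfl, ← hd q' rfl, ← pow_mul, ← pow_mul, ← pow_add, ← pow_add,
      add_comm m n, ← div_pow]
    rfl

end Groth.Agent.S9609
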