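import Groth.Statements.S9610
import Mathlib.LinearAlgebra.Dimension.Finite
import Mathlib.Algebra.Polynomial.AlgebraMap
import Mathlib.Algebra.BigOperators.Associated

set_option autoImplicit false
universe u
open CAlg

namespace Groth.Agent.S9610

/-- Let k be a field and V a nonzero k-vector space with dim_k V < #k as cardinals. Then every k-linear
endomorphism T of V admits a monic polynomial P over k for which P(T) is not invertible. -/
theorem result {k V : Type u} [Field k] [AddCommGroup V] [Module k V] [Nontrivial V] (hV : Module.rank k V < Cardinal.mk k) (T : Module.End k V) :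
    ∃ P : Polynomial k, P.Monic ∧ ¬ IsUnit (Polynomial.aeval T P) := by
  classical
  by_contra hne
  push Not at hne
  obtain ⟨v, hv⟩ := exists_ne (0 : V)
  have hu : ∀ a : k, IsUnit (Polynomial.aeval T (Polynomial.X - Polynomial.C a)) :=
    fun a => hne _ (Polynomial.monic_X_sub_C a)
  let w : k → V := fun a => ((hu a).unit⁻¹ : (Module.End k V)ˣ).1 v
  have hw : ∀ a, Polynomial.aeval T (Polynomial.X - Polynomial.C a) (w a) = v := by
    intro a
    show ((Polynomial.aeval T (Polynomial.X - Polynomial.C a)) * ((hu a).unit⁻¹ : (Module.End k V)ˣ).1) v = v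
    rw [(hu a).mul_val_inv]
    rfl
  have hli : LinearIndependent k w := by
    rw [linearIndependent_iff']
    intro s g hg a ha
    let Q : Polynomial k := ∑ b ∈ s, Polynomial.C (g b) * ∏ c ∈ s.erase b, (Polynomial.X - Polynomial.C c)
    have hQ : Polynomial.aeval T Q v = 0 := by
      have : Polynomial.aeval T (∏ c ∈ s, (Polynomial.X - Polynomial.C c)) (∑ b ∈ s, g b • w b) =
          Polynomial.aeval T Q v := by
        rw [map_sum, map_sum, LinearMap.sum_apply]
        refine Finset.sum_congr rfl fun b hb => ?_
        rw [← Finset.prod_erase_mul s _ hb, map_mul, Module.End.mul_apply, map_smul, map_smul, hw,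
          map_mul, Polynomial.aeval_C, Module.End.mul_apply, Module.algebraMap_end_apply]
      rw [← this, hg, map_zero]
    have hQ0 : Q = 0 := by
      by_contra hQn
      have hm := hne _ (Polynomial.monic_mul_leadingCoeff_inv hQn)
      apply hv
      have h2 : Polynomial.aeval T (Q * Polynomial.C Q.leadingCoeff⁻¹) v = 0 := by
        rw [mul_comm, map_mul, Module.End.mul_apply, hQ, map_zero]
      exact (Module.End.isUnit_iff _).mp hm |>.1 (h2.trans (map_zero _).symm)
    have := congr_arg (Polynomial.eval a) hQ0
    simp only [Q, Polynomial.eval_finset_sum, Polynomial.eval_mul, Polynomial.eval_C,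
      Polynomial.eval_prod, Polynomial.eval_sub, Polynomial.eval_X, Polynomial.eval_zero] at this
    rw [Finset.sum_eq_single a ?_ (fun h => absurd ha h)] at this
    · refine (mul_eq_zero.mp this).resolve_right ?_
      refine Finset.prod_ne_zero_iff.mpr fun c hc => sub_ne_zero.mpr ?_
      exact fun h => (Finset.ne_of_mem_erase hc) h.symm
    · intro b _ hb
      rw [Finset.prod_eq_zero (Finset.mem_erase.mpr ⟨hb.symm, ha⟩) (sub_self a), mul_zero]
  exact absurd hli.cardinal_le_rank (not_le.mpr hV)

end Groth.Agent.S9610
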