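import Groth.Statements.S9611

set_option autoImplicit false
universe u
open CAlg

namespace Groth.Agent.S9611

/-- Let R be a Jacobson ring, p a prime ideal of R which is not maximal, and f an element of R not in p.
Then the set of primes of R containing p and not containing f is infinite. -/
theorem result {R : Type u} [CommRing R] [IsJacobsonRing R] (p : Ideal R) [p.IsPrime] (hp : ¬ p.IsMaximal) (f : R) (hf : f ∉ p) :
    {q : PrimeSpectrum R | p ≤ q.asIdeal ∧ f ∉ q.asIdeal}.Infinite := by
  intro hfin
  classical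
  have key : ∀ m : Ideal R, m.IsMaximal → p ≤ m → f ∈ m ∨ ∏ q ∈ hfin.toFinset,
      (if q.asIdeal.IsMaximal then q.asIdeal else ⊤) ≤ m := by
    intro m hm hpm
    by_cases hfm : f ∈ m
    · exact Or.inl hfm
    refine Or.inr (le_trans Ideal.prod_le_inf ?_)
    have : (⟨m, hm.isPrime⟩ : PrimeSpectrum R) ∈ hfin.toFinset := by
      simp [hpm, hfm]
    refine le_trans (Finset.inf_le this) ?_
    simp [hm]
  have : Ideal.span {f} * ∏ q ∈ hfin.toFinset,
      (if q.asIdeal.IsMaximal then q.asIdeal else ⊤) ≤ p := by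
    have hj : p.jacobson = p := (isJacobsonRing_iff_prime_eq.mp ‹_›) p ‹_›
    conv_rhs => rw [← hj]
    refine le_sInf ?_
    intro m hm
    rcases key m hm.2 hm.1 with h | h
    · exact le_trans Ideal.mul_le_left ((Ideal.span_singleton_le_iff_mem _).mpr h)
    · exact le_trans Ideal.mul_le_right h
  rcases (Ideal.IsPrime.mul_le ‹p.IsPrime›).mp this with h | h
  · exact hf ((Ideal.span_singleton_le_iff_mem _).mp h)
  · obtain ⟨q, hq, hle⟩ := (Ideal.IsPrime.prod_le ‹p.IsPrime›).mp h
    have hq' := hfin.mem_toFinset.mp hq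
    split_ifs at hle with hm
    · exact hp (by rwa [le_antisymm hle hq'.1] at hm)
    · exact ‹p.IsPrime›.ne_top (top_le_iff.mp hle)

end Groth.Agent.S9611
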