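import Groth.Statements.S9613
import Mathlib.RingTheory.Jacobson.Ring
import Mathlib.RingTheory.Algebraic.Integral
import Mathlib.RingTheory.IntegralClosure.Algebra.Basic
import Mathlib.RingTheory.Localization.FractionRing
import Mathlib.RingTheory.Localization.Away.Basic

set_option autoImplicit false
universe u
open CAlg

namespace Groth.Agent.S9613

/-- Let R → K be an injective ring map into a field K which makes K an R-algebra of finite type. Then
for some nonzero f ∈ R the localization R_f is a field over which K is finite; here R_f is realised
as the R-subalgebra of K that is a localization of R away from f. -/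
theorem result {R K : Type u} [CommRing R] [Field K] [Algebra R K] (hinj : Function.Injective (algebraMap R K)) [Algebra.FiniteType R K] :
    ∃ f : R, f ≠ 0 ∧ ∃ Rf : Subalgebra R K, IsLocalization.Away f Rf ∧ IsField Rf ∧ Module.Finite Rf K := by
  classical
  haveI : IsDomain R := hinj.isDomain _
  haveI : FaithfulSMul R K := (faithfulSMul_iff_algebraMap_injective R K).mpr hinj
  letI := FractionRing.liftAlgebra R K
  haveI : Algebra.FiniteType (FractionRing R) K := Algebra.FiniteType.of_restrictScalars_finiteType R _ _
  haveI : Module.Finite (FractionRing R) K := finite_of_finite_type_of_isJacobsonRing _ _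
  obtain ⟨s, hs⟩ := (‹Algebra.FiniteType R K›).out
  have halg : ∀ x : K, IsAlgebraic R x := fun x =>
    (IsFractionRing.isAlgebraic_iff R (FractionRing R) K).mpr (Algebra.IsAlgebraic.isAlgebraic x)
  choose a ha0 hint using fun x => (halg x).exists_integral_multiple
  let f : R := ∏ x ∈ s, a x
  have hf : f ≠ 0 := Finset.prod_ne_zero_iff.mpr fun x _ => ha0 x
  have hu : ∀ y : Submonoid.powers f, IsUnit ((Algebra.ofId R K) y) := by
    rintro ⟨_, n, rfl⟩
    refine Ne.isUnit ?_
    show algebraMap R K (f ^ n) ≠ 0
    exact (map_ne_zero_iff _ hinj).mpr (pow_ne_zero n hf)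
  let L := Localization.Away f
  let φ : L →ₐ[R] K := IsLocalization.liftAlgHom (M := Submonoid.powers f) (f := Algebra.ofId R K) hu
  have hφinj : Function.Injective φ := by
    rw [injective_iff_map_eq_zero]
    intro z hz
    obtain ⟨⟨r, y⟩, hy⟩ := IsLocalization.surj (Submonoid.powers f) z
    have := congr_arg φ hy
    rw [map_mul, hz, zero_mul, AlgHom.commutes] at this
    rw [← map_zero (algebraMap R K)] at this
    rw [hinj this.symm, map_zero] at hy
    exact (IsLocalization.map_units L y).mul_left_eq_zero.mp hy
  refine ⟨f, hf, φ.range, IsLocalization.isLocalization_of_algEquiv _ (AlgEquiv.ofInjective φ hφinj), ?_⟩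
  haveI hint' : Algebra.IsIntegral φ.range K := by
    refine ⟨fun z => ?_⟩
    have hz : z ∈ Algebra.adjoin R (s : Set K) := hs ▸ trivial
    induction hz using Algebra.adjoin_induction with
    | algebraMap r =>
      exact isIntegral_algebraMap (R := φ.range) (x := algebraMap R φ.range r)
    | add x y _ _ h1 h2 => exact h1.add h2
    | mul x y _ _ h1 h2 => exact h1.mul h2
    | mem x hx =>
      have h1 : IsIntegral φ.range (a x • x) := (hint x).tower_top
      obtain ⟨b, hb⟩ : a x ∣ f := Finset.dvd_prod_of_mem a hx
      let i : φ.range := φ.rangeRestrict (algebraMap R L b * IsLocalization.Away.invSelf f)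
      have hxi : x = i • (a x • x) := by
        rw [Algebra.smul_def i, Algebra.smul_def (a x)]
        show x = φ (algebraMap R L b * IsLocalization.Away.invSelf f) * (algebraMap R K (a x) * x)
        rw [← AlgHom.commutes φ (a x), ← mul_assoc, ← map_mul]
        have : algebraMap R L b * IsLocalization.Away.invSelf f * algebraMap R L (a x) = 1 := by
          rw [mul_right_comm, ← map_mul, mul_comm b, ← hb]
          exact IsLocalization.Away.mul_invSelf f
        rw [this, map_one, one_mul]
      rw [hxi]
      exact h1.smul i
  haveI : Algebra.FiniteType φ.range K := Algebra.FiniteType.of_restrictScalars_finiteType R _ _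
  exact ⟨isField_of_isIntegral_of_isField (R := φ.range) (S := K) Subtype.val_injective (Field.toIsField K),
    Algebra.IsIntegral.finite⟩

end Groth.Agent.S9613
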