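import Groth.Statements.S9614
import Groth.Agent.H02CA.GradedModule

set_option autoImplicit false
universe u
open CAlg

namespace Groth.Agent.S9614

/-- Let S be an ℕ-graded ring and M a finitely generated graded S-module, graded in nonnegative degrees
(the source allows all integer degrees). If x_1, …, x_n are homogeneous elements of M which generate
M modulo S₊ M (S₊ the irrelevant ideal), then x_1, …, x_n generate M. -/
theorem result {R S : Type u} [CommRing R] [CommRing S] [Algebra R S] (𝒜 : ℕ → Submodule R S) [GradedAlgebra 𝒜]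
    (M : Type u) [AddCommGroup M] [Module R M] [Module S M] [IsScalarTower R S M] [Module.Finite S M] (ℳ : ℕ → Submodule R M) [DirectSum.Decomposition ℳ] [SetLike.GradedSMul 𝒜 ℳ]
    {n : ℕ} (x : Fin n → M) (hx : ∀ i, SetLike.IsHomogeneousElem ℳ (x i))
    (h : Submodule.span S (Set.range x) ⊔ (HomogeneousIdeal.irrelevant 𝒜).toIdeal • (⊤ : Submodule S M) = ⊤) :
    Submodule.span S (Set.range x) = ⊤ := by
  refine Groth.Agent.H02CA.span_eq_top_of_irrelevant 𝒜 ℳ ?_ h
  rintro _ ⟨i, rfl⟩
  exact hx i

end Groth.Agent.S9614
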