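import Groth.Statements.S9615
import Mathlib.RingTheory.Polynomial.IsIntegral
import Mathlib.RingTheory.GradedAlgebra.Basic

set_option autoImplicit false
universe u
open CAlg

namespace Groth.Agent.S9615

open Polynomial

attribute [local instance] Polynomial.algebra

noncomputable def homogenize {R : Type u} [CommRing R] (ℛ : ℕ → AddSubgroup R) [GradedRing ℛ] : R →+* R[X] :=
  (DirectSum.toSemiring (fun i => (Polynomial.monomial i).toAddMonoidHom.comp (ℛ i).subtype)
    (Polynomial.monomial_zero_one) (fun ai aj => (Polynomial.monomial_mul_monomial _ _ _ _).symm)).comp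
    (DirectSum.decomposeRingEquiv ℛ).toRingHom

theorem homogenize_of_mem {R : Type u} [CommRing R] (ℛ : ℕ → AddSubgroup R) [GradedRing ℛ] {i : ℕ} {r : R}
    (hr : r ∈ ℛ i) : homogenize ℛ r = Polynomial.monomial i r := by
  have : (DirectSum.decomposeRingEquiv ℛ) r = DirectSum.of (fun i => ℛ i) i ⟨r, hr⟩ := DirectSum.decompose_of_mem ℛ hr
  simp only [homogenize, RingHom.comp_apply, RingEquiv.coe_toRingHom, RingEquiv.toRingHom_eq_coe, RingHom.coe_coe, this]
  exact DirectSum.toSemiring_of (A := fun i => ℛ i) _ _ _ i ⟨r, hr⟩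

theorem homogenize_coeff {R : Type u} [CommRing R] (ℛ : ℕ → AddSubgroup R) [GradedRing ℛ] (r : R) (i : ℕ) :
    (homogenize ℛ r).coeff i = (DirectSum.decompose ℛ r i : R) := by
  induction r using DirectSum.Decomposition.inductionOn ℛ with
  | zero => simp
  | @homogeneous j m =>
    rw [homogenize_of_mem ℛ m.2, Polynomial.coeff_monomial]
    split_ifs with h
    · subst h; rw [DirectSum.decompose_of_mem_same ℛ m.2]
    · rw [DirectSum.decompose_of_mem_ne ℛ m.2 h]
  | add a b ha hb => simp [ha, hb, DirectSum.decompose_add]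

/-- Let R → S be a homomorphism of ℕ-graded rings, i.e. the structure map carries each graded piece R_i
into S_i. If an element s of S is integral over R, then each homogeneous component of s is integral
over R; so the integral closure of R in S is a graded subring of S. -/
theorem result {R S : Type u} [CommRing R] [CommRing S] [Algebra R S] (ℛ : ℕ → AddSubgroup R) [GradedRing ℛ] (𝒮 : ℕ → AddSubgroup S) [GradedRing 𝒮]
    (hmap : ∀ i : ℕ, ∀ r ∈ ℛ i, algebraMap R S r ∈ 𝒮 i) (s : S) (hs : IsIntegral R s) (i : ℕ) :
    IsIntegral R ((DirectSum.decompose 𝒮 s i : 𝒮 i) : S) := by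
  have hcomm : ∀ r : R, homogenize 𝒮 (algebraMap R S r) = (homogenize ℛ r).map (algebraMap R S) := by
    intro r
    induction r using DirectSum.Decomposition.inductionOn ℛ with
    | zero => simp
    | @homogeneous j m =>
      rw [homogenize_of_mem ℛ m.2, Polynomial.map_monomial, homogenize_of_mem 𝒮 (hmap j _ m.2)]
    | add a b ha hb => simp [ha, hb]
  obtain ⟨p, hp, hp0⟩ := hs
  have h1 : IsIntegral R[X] (homogenize 𝒮 s) := by
    refine ⟨p.map (homogenize ℛ), hp.map _, ?_⟩
    rw [Polynomial.eval₂_map]
    have h2 : (algebraMap R[X] S[X]).comp (homogenize ℛ) = (homogenize 𝒮).comp (algebraMap R S) :=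
      RingHom.ext fun r => (hcomm r).symm
    rw [h2, ← Polynomial.hom_eval₂, hp0, map_zero]
  have := h1.coeff i
  rwa [homogenize_coeff] at this

end Groth.Agent.S9615
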