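import Groth.Statements.S9616
import Mathlib.Data.Finset.Max
import Mathlib.Algebra.BigOperators.Ring.Finset
import Mathlib.RingTheory.Ideal.Operations
import Mathlib.Data.Fintype.Order

set_option autoImplicit false
universe u
open CAlg

namespace Groth.Agent.S9616

/-- Let S be an ℕ-graded ring, p_1, …, p_r homogeneous prime ideals of S and I ⊆ S₊ a homogeneous ideal
not contained in any p_i. Then there is a homogeneous element x ∈ I of positive degree with x ∉ p_i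
for all i. -/
theorem result {R S : Type u} [CommRing R] [CommRing S] [Algebra R S] (𝒜 : ℕ → Submodule R S) [GradedAlgebra 𝒜]
    {r : ℕ} (p : Fin r → HomogeneousIdeal 𝒜) (hp : ∀ i, (p i).toIdeal.IsPrime) (I : HomogeneousIdeal 𝒜) (hI : I ≤ HomogeneousIdeal.irrelevant 𝒜) (h : ∀ i, ¬ I ≤ p i) :
    ∃ x : S, ∃ d : ℕ, 0 < d ∧ x ∈ 𝒜 d ∧ x ∈ I ∧ ∀ i, x ∉ p i := by
  classical
  -- homogeneous positive degree element of `I` outside `p i`
  have hy : ∀ i, ∃ y d, 0 < d ∧ y ∈ 𝒜 d ∧ y ∈ I ∧ y ∉ p i := by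
    intro i
    obtain ⟨z, hz, hzp⟩ := SetLike.not_le_iff_exists.mp (h i)
    obtain ⟨d, hd⟩ : ∃ d, (DirectSum.decompose 𝒜 z d : S) ∉ p i := by
      by_contra hne
      push Not at hne
      exact hzp ((Ideal.IsHomogeneous.mem_iff 𝒜 (p i).isHomogeneous).mpr hne)
    refine ⟨_, d, ?_, SetLike.coe_mem _, I.isHomogeneous d hz, hd⟩
    rcases Nat.eq_zero_or_pos d with rfl | h'
    · exact absurd (by
        have h0 : GradedRing.proj 𝒜 0 z = 0 := (HomogeneousIdeal.mem_irrelevant_iff 𝒜 z).mp (hI hz)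
        rw [GradedRing.proj_apply] at h0
        rw [h0]; exact zero_mem _) hd
    · exact h'
  choose y d hd hyd hyI hyp using hy
  rcases Nat.eq_zero_or_pos r with rfl | hr
  · exact ⟨0, 1, one_pos, zero_mem _, zero_mem _, fun i => i.elim0⟩
  -- reduce to maximal members
  let P : Finset (HomogeneousIdeal 𝒜) := Finset.univ.image p
  let Q : Finset (HomogeneousIdeal 𝒜) := P.filter fun a => ∀ b ∈ P, a ≤ b → b ≤ a
  have hQ : ∀ i, ∃ a ∈ Q, p i ≤ a := by
    intro i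
    obtain ⟨a, hia, ha⟩ := P.exists_le_maximal (Finset.mem_image_of_mem p (Finset.mem_univ i))
    exact ⟨a, Finset.mem_filter.mpr ⟨ha.1, fun b hb => ha.2 hb⟩, hia⟩
  have hQp : ∀ a ∈ Q, ∃ i, p i = a := fun a ha => by
    obtain ⟨i, -, hi⟩ := Finset.mem_image.mp (Finset.mem_filter.mp ha).1
    exact ⟨i, hi⟩
  choose idx hidx using hQp
  have hprime : ∀ a ∈ Q, a.toIdeal.IsPrime := fun a ha => hidx a ha ▸ hp _
  have hsep : ∀ a ∈ Q, ∀ b ∈ Q, b ≠ a → ∃ z e, z ∈ 𝒜 e ∧ z ∈ b ∧ z ∉ a := by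
    intro a ha b hb hne
    have hnle : ¬ b ≤ a := fun hle => hne (le_antisymm hle
      ((Finset.mem_filter.mp hb).2 a (Finset.mem_filter.mp ha).1 hle))
    obtain ⟨z, hz, hza⟩ := SetLike.not_le_iff_exists.mp hnle
    obtain ⟨e, he⟩ : ∃ e, (DirectSum.decompose 𝒜 z e : S) ∉ a := by
      by_contra hne'
      push Not at hne'
      exact hza ((Ideal.IsHomogeneous.mem_iff 𝒜 a.isHomogeneous).mpr hne')
    exact ⟨_, e, SetLike.coe_mem _, b.isHomogeneous e hz, he⟩
  choose! z e hze hzb hza using hsep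
  let x : {a // a ∈ Q} → S := fun a => y (idx a.1 a.2) * ∏ b ∈ Q.erase a.1, z a.1 b
  let D : {a // a ∈ Q} → ℕ := fun a => d (idx a.1 a.2) + ∑ b ∈ Q.erase a.1, e a.1 b
  have hxD : ∀ a, x a ∈ 𝒜 (D a) := fun a => SetLike.mul_mem_graded (hyd _)
    (SetLike.prod_mem_graded 𝒜 _ _ fun b hb => hze a.1 a.2 b (Finset.mem_of_mem_erase hb) (Finset.ne_of_mem_erase hb))
  have hDpos : ∀ a, 0 < D a := fun a => Nat.add_pos_left (hd _) _
  let N := ∏ a, D a
  have hN : 0 < N := Finset.prod_pos fun a _ => hDpos a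
  refine ⟨∑ a, x a ^ (N / D a), N, hN, Submodule.sum_mem _ fun a _ => ?_,
    Submodule.sum_mem I.toIdeal fun a _ => ?_, fun i => ?_⟩
  · have := SetLike.pow_mem_graded (N / D a) (hxD a)
    rwa [smul_eq_mul, Nat.div_mul_cancel (Finset.dvd_prod_of_mem D (Finset.mem_univ a))] at this
  · have hne : N / D a ≠ 0 := (Nat.div_pos (Nat.le_of_dvd hN
      (Finset.dvd_prod_of_mem D (Finset.mem_univ a))) (hDpos a)).ne'
    exact Ideal.pow_mem_of_mem _ (I.toIdeal.mul_mem_right _ (hyI _)) _ (Nat.pos_of_ne_zero hne)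
  · obtain ⟨a, ha, hia⟩ := hQ i
    intro hmem
    have hmem' : (∑ c, x c ^ (N / D c)) ∈ a.toIdeal := hia hmem
    rw [← Finset.add_sum_erase _ _ (Finset.mem_univ (⟨a, ha⟩ : {a // a ∈ Q}))] at hmem'
    have hrest : ∑ c ∈ Finset.univ.erase ⟨a, ha⟩, x c ^ (N / D c) ∈ a.toIdeal := by
      refine Submodule.sum_mem _ fun c hc => ?_
      have hac : a ≠ c.1 := fun h' => Finset.ne_of_mem_erase hc (Subtype.ext h'.symm)
      have hne : N / D c ≠ 0 := (Nat.div_pos (Nat.le_of_dvd hN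
        (Finset.dvd_prod_of_mem D (Finset.mem_univ c))) (hDpos c)).ne'
      refine Ideal.pow_mem_of_mem _ (a.toIdeal.mul_mem_left _ ?_) _ (Nat.pos_of_ne_zero hne)
      exact a.toIdeal.mem_of_dvd (Finset.dvd_prod_of_mem _ (Finset.mem_erase.mpr ⟨hac, ha⟩))
        (hzb c.1 c.2 a ha hac)
    have hxa := (hprime a ha).mem_of_pow_mem _ ((Submodule.add_mem_iff_left _ hrest).mp hmem')
    rcases (hprime a ha).mem_or_mem hxa with h' | h'
    · refine hyp _ (?_ : y (idx a ha) ∈ p (idx a ha))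
      rw [hidx a ha]; exact h'
    · obtain ⟨b, hb, hb'⟩ := (hprime a ha).prod_mem_iff.mp h'
      exact hza a ha b (Finset.mem_of_mem_erase hb) (Finset.ne_of_mem_erase hb) hb'

end Groth.Agent.S9616
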