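import Groth.Statements.S9617
import Groth.Agent.H02CA.GradedModule
import Mathlib.RingTheory.Finiteness.Basic
import Mathlib.RingTheory.FiniteType

set_option autoImplicit false
universe u
open CAlg

namespace Groth.Agent.S9617

/-- Let S be an ℕ-graded ring, presented as a graded algebra over a ring A mapping onto S₀, such that S
is of finite type over A, i.e. over S₀. If M is a finitely generated graded S-module, graded in
nonnegative degrees (the source allows all integer degrees), then each graded piece M_n is a finite
module over A, i.e. over S₀. -/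
theorem result {A S : Type u} [CommRing A] [CommRing S] [Algebra A S] (𝒜 : ℕ → Submodule A S) [GradedAlgebra 𝒜]
    (h0 : ∀ s ∈ 𝒜 0, s ∈ Set.range (algebraMap A S)) [Algebra.FiniteType A S]
    (M : Type u) [AddCommGroup M] [Module A M] [Module S M] [IsScalarTower A S M] [Module.Finite S M] (ℳ : ℕ → Submodule A M) [DirectSum.Decomposition ℳ] [SetLike.GradedSMul 𝒜 ℳ] (n : ℕ) :
    Module.Finite A (ℳ n) := by
  classical
  obtain ⟨G₀, hG₀⟩ := (‹Algebra.FiniteType A S›).out
  let G : Finset (ℕ × S) := G₀.biUnion fun g =>
    ((DirectSum.decompose 𝒜 g).support.filter fun i => 0 < i).image fun i =>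
      (i, (DirectSum.decompose 𝒜 g i : S))
  obtain ⟨T₀, hT₀⟩ := (Module.Finite.fg_top : (⊤ : Submodule S M).FG)
  let T : Finset (ℕ × M) := T₀.biUnion fun y =>
    (DirectSum.decompose ℳ y).support.image fun i => (i, (DirectSum.decompose ℳ y i : M))
  have hGmem : ∀ p ∈ G, 0 < p.1 ∧ p.2 ∈ 𝒜 p.1 := by
    intro p hp
    simp only [G, Finset.mem_biUnion, Finset.mem_image, Finset.mem_filter] at hp
    obtain ⟨g, -, i, ⟨-, hi⟩, rfl⟩ := hp
    exact ⟨hi, SetLike.coe_mem _⟩
  let base : ℕ → Submodule A M := fun n =>
    Submodule.span A (((T.filter fun p => p.1 = n).image Prod.snd : Finset M) : Set M)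
  let step : ℕ × S → ℕ → Submodule A M := fun p n =>
    if p.1 ≤ n then (ℳ (n - p.1)).map (Algebra.lsmul A A M p.2) else ⊥
  let rhs : ℕ → Submodule A M := fun n => base n ⊔ G.sup fun p => step p n
  have hrhs : ∀ y : M, ∀ n, (DirectSum.decompose ℳ y n : M) ∈ rhs n := by
    intro y
    have hy : y ∈ Submodule.span S (T₀ : Set M) := hT₀ ▸ Submodule.mem_top
    induction hy using Submodule.span_induction with
    | zero => intro n; simp
    | add a b _ _ h1 h2 =>
      intro n; simp only [DirectSum.decompose_add, DirectSum.add_apply, Submodule.coe_add]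
      exact add_mem (h1 n) (h2 n)
    | mem t ht =>
      intro n
      by_cases hn : n ∈ (DirectSum.decompose ℳ t).support
      · refine le_sup_left (a := base n) (Submodule.subset_span ?_)
        simp only [Finset.coe_image, Set.mem_image, Finset.mem_coe, Finset.mem_filter]
        exact ⟨(n, _), ⟨Finset.mem_biUnion.mpr ⟨t, ht, Finset.mem_image_of_mem _ hn⟩, rfl⟩, rfl⟩
      · rw [DFinsupp.notMem_support_iff.mp hn]; exact zero_mem _
    | smul s z _ hz =>
      have hs : s ∈ Algebra.adjoin A (G₀ : Set S) := hG₀ ▸ Algebra.mem_top
      induction hs using Algebra.adjoin_induction generalizing z with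
      | algebraMap a =>
        intro n
        rw [algebraMap_smul, DirectSum.decompose_smul, DirectSum.smul_apply, Submodule.coe_smul]
        exact Submodule.smul_mem _ a (hz n)
      | add a b _ _ h1 h2 =>
        intro n
        rw [add_smul, DirectSum.decompose_add, DirectSum.add_apply, Submodule.coe_add]
        exact add_mem (h1 z ‹_› hz n) (h2 z ‹_› hz n)
      | mul a b _ _ h1 h2 =>
        rw [mul_smul]
        exact h1 _ (Submodule.smul_mem _ _ ‹_›) (h2 z ‹_› hz)
      | mem g hg =>
        intro n
        rw [← DirectSum.sum_support_decompose 𝒜 g, Finset.sum_smul, DirectSum.decompose_sum,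
          DFinsupp.finsetSum_apply, Submodule.coe_sum]
        refine Submodule.sum_mem _ fun i hi => ?_
        rw [Groth.Agent.H02CA.coe_decompose_smul_of_mem 𝒜 ℳ (SetLike.coe_mem _)]
        split_ifs with hin
        · rcases Nat.eq_zero_or_pos i with rfl | hpos
          · obtain ⟨a, ha⟩ := h0 _ (SetLike.coe_mem (DirectSum.decompose 𝒜 g 0))
            rw [← ha, algebraMap_smul, Nat.sub_zero]
            exact Submodule.smul_mem _ a (hz n)
          · have hpG : (i, (DirectSum.decompose 𝒜 g i : S)) ∈ G :=
              Finset.mem_biUnion.mpr ⟨g, hg, Finset.mem_image_of_mem _ (Finset.mem_filter.mpr ⟨hi, hpos⟩)⟩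
            refine le_sup_right (a := base n) (Finset.le_sup (f := fun p => step p n) hpG ?_)
            show _ ∈ step _ n
            simp only [step, hin, ↓reduceIte]
            exact ⟨_, SetLike.coe_mem _, rfl⟩
        · exact zero_mem _
  induction n using Nat.strong_induction_on with
  | _ n ih =>
    refine Module.Finite.iff_fg.mpr ?_
    have heq : ℳ n = rhs n := by
      refine le_antisymm (fun y hy => ?_) (sup_le (Submodule.span_le.mpr ?_) (Finset.sup_le ?_))
      · have := hrhs y n
        rwa [DirectSum.decompose_of_mem_same ℳ hy] at this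
      · intro y hy
        simp only [Finset.coe_image, Set.mem_image, Finset.mem_coe, Finset.mem_filter] at hy
        obtain ⟨p, ⟨hp, hpn⟩, rfl⟩ := hy
        simp only [T, Finset.mem_biUnion, Finset.mem_image] at hp
        obtain ⟨t, -, i, -, rfl⟩ := hp
        subst hpn
        exact SetLike.coe_mem _
      · intro p hp
        simp only [step]
        split_ifs with h
        · rintro _ ⟨y, hy, rfl⟩
          have h1 : p.2 • y ∈ ℳ (p.1 + (n - p.1)) := SetLike.GradedSMul.smul_mem (hGmem p hp).2 hy
          rwa [Nat.add_sub_cancel' h] at h1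
        · exact bot_le
    rw [heq]
    refine (Submodule.fg_span (Finset.finite_toSet _)).sup (Submodule.fg_finset_sup _ _ fun p hp => ?_)
    simp only [step]
    split_ifs with h
    · exact (Module.Finite.iff_fg.mp (ih _ (by have := (hGmem p hp).1; omega))).map _
    · exact Submodule.fg_bot

end Groth.Agent.S9617
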