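import Groth.Statements.S9618
import Groth.Agent.H02CA.Idem

set_option autoImplicit false
universe u
open CAlg

namespace Groth.Agent.S9618

/-- For a ring R and a subset T of Spec R the following are equivalent: (1) T is closed and contains the
connected component of each of its points; (2) T can be written as an intersection of subsets of
Spec R that are both open and closed; (3) T is the common zero locus of some set of idempotent
elements of R (equivalently, of the ideal they generate). -/
theorem result {R : Type u} [CommRing R] (T : Set (PrimeSpectrum R)) :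
    [IsClosed T ∧ ∀ x ∈ T, connectedComponent x ⊆ T,
      ∃ U : Set (Set (PrimeSpectrum R)), (∀ u ∈ U, IsClopen u) ∧ T = ⋂₀ U,
      ∃ E : Set R, (∀ e ∈ E, IsIdempotentElem e) ∧ T = PrimeSpectrum.zeroLocus E].TFAE := by
  tfae_have 3 → 2 := by
    rintro ⟨E, hE, rfl⟩
    refine ⟨(fun e => PrimeSpectrum.zeroLocus ({e} : Set R)) '' E, ?_, ?_⟩
    · rintro _ ⟨e, he, rfl⟩
      exact Groth.Agent.H02CA.isClopen_zeroLocus_idem (hE e he)
    · ext x
      simp only [Set.mem_sInter, Set.forall_mem_image, PrimeSpectrum.mem_zeroLocus,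
        Set.singleton_subset_iff, SetLike.mem_coe]
      exact ⟨fun h e he => h he, fun h e he => h he⟩
  tfae_have 2 → 1 := by
    rintro ⟨U, hU, rfl⟩
    refine ⟨isClosed_sInter fun u hu => (hU u hu).1, fun x hx => ?_⟩
    exact Set.subset_sInter fun u hu => (hU u hu).connectedComponent_subset (hx u hu)
  tfae_have 1 → 3 := by
    rintro ⟨hT, hcomp⟩
    obtain ⟨I, rfl⟩ := (PrimeSpectrum.isClosed_iff_zeroLocus_ideal _).mp hT
    refine ⟨{e : R | IsIdempotentElem e ∧
      PrimeSpectrum.zeroLocus (I : Set R) ⊆ PrimeSpectrum.zeroLocus ({e} : Set R)},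
      fun e he => he.1, Set.Subset.antisymm ?_ ?_⟩
    · intro x hx e he
      exact Set.singleton_subset_iff.mp (he.2 hx)
    · intro x hx
      set J := Ideal.span {e : R | IsIdempotentElem e ∧ e ∈ x.asIdeal} with hJ
      by_cases htop : J ⊔ I = ⊤
      · exfalso
        obtain ⟨a, ha, b, hb, hab⟩ := Submodule.mem_sup.mp ((Ideal.eq_top_iff_one _).mp htop)
        obtain ⟨f, hf, hfx, hfa⟩ := Groth.Agent.H02CA.exists_idem_dvd x ha
        have hmem : 1 - f ∈ {e : R | IsIdempotentElem e ∧
            PrimeSpectrum.zeroLocus (I : Set R) ⊆ PrimeSpectrum.zeroLocus ({e} : Set R)} := by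
          refine ⟨hf.one_sub, fun y hy => ?_⟩
          rw [PrimeSpectrum.mem_zeroLocus, Set.singleton_subset_iff, SetLike.mem_coe]
          rw [show 1 - f = (1 - f) * b by linear_combination -hfa - (1 - f) * hab]
          exact y.asIdeal.mul_mem_left _ (hy hb)
        have h1 : (1 - f) + f ∈ x.asIdeal := x.asIdeal.add_mem (hx hmem) hfx
        rw [sub_add_cancel] at h1
        exact x.isPrime.ne_top ((Ideal.eq_top_iff_one _).mpr h1)
      · obtain ⟨m, hm, hle⟩ := Ideal.exists_le_maximal _ htop
        let y : PrimeSpectrum R := ⟨m, hm.isPrime⟩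
        have hy : y ∈ PrimeSpectrum.zeroLocus (I : Set R) := le_sup_right.trans hle
        have hyx : y ∈ connectedComponent x := by
          rw [Groth.Agent.H02CA.connectedComponent_eq_zeroLocus]
          exact Ideal.span_le.mp (le_sup_left.trans hle)
        exact hcomp y hy (connectedComponent_eq hyx ▸ mem_connectedComponent)
  tfae_finish

end Groth.Agent.S9618
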