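import Groth.Statements.S9619

set_option autoImplicit false
universe u
open CAlg

namespace Groth.Agent.S9619

/-- For a ring R and two sets E, E' of idempotent elements of R with the same zero locus in Spec R, the
ideals generated by E and by E' are equal. -/
theorem result {R : Type u} [CommRing R] (E E' : Set R) (hE : ∀ e ∈ E, IsIdempotentElem e) (hE' : ∀ e ∈ E', IsIdempotentElem e) (h : PrimeSpectrum.zeroLocus E = PrimeSpectrum.zeroLocus E') :
    Ideal.span E = Ideal.span E' := by
  suffices H : ∀ A B : Set R, (∀ e ∈ A, IsIdempotentElem e) →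
      PrimeSpectrum.zeroLocus B ⊆ PrimeSpectrum.zeroLocus A → Ideal.span A ≤ Ideal.span B from
    le_antisymm (H E E' hE h.ge) (H E' E hE' h.le)
  intro A B hA hsub
  rw [Ideal.span_le]
  intro e he
  have : e ∈ (Ideal.span B).radical := by
    rw [← PrimeSpectrum.vanishingIdeal_zeroLocus_eq_radical, PrimeSpectrum.zeroLocus_span,
      PrimeSpectrum.mem_vanishingIdeal]
    intro x hx
    exact (PrimeSpectrum.mem_zeroLocus x A).mp (hsub hx) he
  obtain ⟨n, hn⟩ := this
  cases n with
  | zero => simpa using (Ideal.span B).mul_mem_left e hn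
  | succ n => rwa [(hA e he).pow_succ_eq] at hn

end Groth.Agent.S9619
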