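import Groth.Statements.S9621
import Mathlib.Tactic.Ring
import Mathlib.RingTheory.Ideal.Maximal
import Mathlib.RingTheory.Ideal.MinimalPrime.Localization

set_option autoImplicit false
universe u
open CAlg

namespace Groth.Agent.S9621

/-- Let R be a ring, p a minimal prime of R and W a quasi-compact open subset of Spec R not containing
p. Then there is an f ∈ R, f ∉ p, whose basic open D(f) is disjoint from W. -/
theorem result {R : Type u} [CommRing R] (p : PrimeSpectrum R) (hp : p.asIdeal ∈ minimalPrimes R) (W : Set (PrimeSpectrum R)) (hWo : IsOpen W) (hWc : IsCompact W) (hpW : p ∉ W) :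
    ∃ f : R, f ∉ p.asIdeal ∧ Disjoint (PrimeSpectrum.basicOpen f : Set (PrimeSpectrum R)) W := by
  obtain ⟨s, hs⟩ := (PrimeSpectrum.isCompact_isOpen_iff.mp ⟨hWc, hWo⟩)
  have hg : ∀ g ∈ s, g ∈ p.asIdeal := by
    intro g hg
    by_contra h
    apply hpW
    rw [← hs, Set.mem_compl_iff, PrimeSpectrum.mem_zeroLocus]
    exact fun H => h (H hg)
  have hy : ∀ g ∈ s, ∃ y, y ∉ p.asIdeal ∧ IsNilpotent (g * y) := by
    intro g hgs
    by_cases h0 : ((⊥ : Ideal R) : Set R) ∩ ↑(Submonoid.powers g ⊔ p.asIdeal.primeCompl) = ∅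
    · exfalso
      obtain ⟨q, hq, -, hdisj⟩ := Ideal.exists_le_prime_disjoint _ _
        (Set.disjoint_iff_inter_eq_empty.mpr h0)
      have hqp : q ≤ p.asIdeal := fun x hx => by
        by_contra h
        exact Set.disjoint_left.mp hdisj hx (SetLike.le_def.mp le_sup_right h)
      have := hp.2 ⟨hq, bot_le⟩ hqp (hg g hgs)
      exact Set.disjoint_left.mp hdisj this
        (SetLike.le_def.mp le_sup_left (Submonoid.mem_powers g))
    · obtain ⟨z, hz0, hz⟩ := Set.nonempty_iff_ne_empty.mpr h0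
      obtain ⟨_, ⟨n, rfl⟩, y, hy, rfl⟩ := Submonoid.mem_sup.mp hz
      refine ⟨y, hy, n + 1, ?_⟩
      have hz0' : g ^ n * y = 0 := hz0
      calc (g * y) ^ (n + 1) = (g ^ n * y) * (g * y ^ n) := by ring
        _ = 0 := by rw [hz0', zero_mul]
  choose y hyp hyn using hy
  refine ⟨∏ g ∈ s.attach, y g.1 g.2, ?_, ?_⟩
  · intro h
    obtain ⟨g, -, hg'⟩ := (p.isPrime.prod_mem_iff).mp h
    exact hyp g.1 g.2 hg'
  · rw [Set.disjoint_left]
    intro q hq hqW
    rw [SetLike.mem_coe, PrimeSpectrum.mem_basicOpen] at hq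
    rw [← hs, Set.mem_compl_iff, PrimeSpectrum.mem_zeroLocus, Set.not_subset] at hqW
    obtain ⟨g, hgs, hgq⟩ := hqW
    obtain ⟨n, hn⟩ := hyn g hgs
    rcases q.isPrime.mem_or_mem (q.isPrime.mem_of_pow_mem n (hn ▸ q.asIdeal.zero_mem)) with h | h
    · exact hgq h
    · exact hq (q.asIdeal.mem_of_dvd (Finset.dvd_prod_of_mem _ (Finset.mem_attach _ ⟨g, hgs⟩)) h)

end Groth.Agent.S9621
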