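import Groth.Statements.S9622
import Mathlib.RingTheory.Noetherian.Basic
import Mathlib.RingTheory.Jacobson.Artinian
import Mathlib.RingTheory.HopkinsLevitzki
import Mathlib.RingTheory.Finiteness.Quotient

set_option autoImplicit false
universe u
open CAlg

namespace Groth.Agent.S9622

theorem finite_of_residue {R S : Type u} [CommRing R] [CommRing S] [Algebra R S]
    [IsNoetherianRing S] (m : Ideal S) (hm : IsNilpotent m) [Module.Finite R (S ⧸ m)] :
    Module.Finite R S := by
  obtain ⟨T, hT⟩ := (Module.Finite.fg_top : (⊤ : Submodule R (S ⧸ m)).FG)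
  choose l hl using fun t : S ⧸ m => Ideal.Quotient.mk_surjective t
  classical
  let L : Submodule R S := Submodule.span R ((T.image l : Finset S) : Set S)
  have hL : ∀ s : S, ∃ a ∈ L, s - a ∈ m := by
    intro s
    have h0 : (Ideal.Quotient.mkₐ R m).toLinearMap s ∈ Submodule.map (Ideal.Quotient.mkₐ R m).toLinearMap L := by
      have h1 : (⊤ : Submodule R (S ⧸ m)) ≤ Submodule.map (Ideal.Quotient.mkₐ R m).toLinearMap L := by
        rw [← hT, Submodule.span_le]
        intro t ht
        exact ⟨l t, Submodule.subset_span (Finset.mem_image_of_mem l ht), hl t⟩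
      exact h1 trivial
    obtain ⟨a, ha, hae⟩ := h0
    exact ⟨a, ha, Ideal.Quotient.eq.mp hae.symm⟩
  obtain ⟨N, hN⟩ := hm
  suffices H : ∀ j n, N ≤ n + j → (Submodule.restrictScalars R (m ^ n)).FG by
    have := H N 0 (by omega)
    rw [pow_zero, Ideal.one_eq_top, Submodule.restrictScalars_top] at this
    exact ⟨this⟩
  intro j
  induction j with
  | zero =>
    intro n hn
    rw [show m ^ n = ⊥ from le_bot_iff.mp ((Ideal.pow_le_pow_right (I := m) (by omega)).trans hN.le)]
    rw [Submodule.restrictScalars_bot]
    exact Submodule.fg_bot
  | succ j ih =>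
    intro n hn
    obtain ⟨G, hG⟩ := IsNoetherian.noetherian (m ^ n)
    let P : Submodule R S :=
      Submodule.span R ((Finset.image₂ (fun a g => a * g) (T.image l) G : Finset S) : Set S)
    have heq : Submodule.restrictScalars R (m ^ n) = P ⊔ Submodule.restrictScalars R (m ^ (n + 1)) := by
      apply le_antisymm
      · have : ∀ x ∈ m ^ n, ∀ s : S, s * x ∈ P ⊔ Submodule.restrictScalars R (m ^ (n + 1)) := by
          intro x hx
          rw [← hG] at hx
          induction hx using Submodule.span_induction with
          | zero => simp
          | add y z _ _ h1 h2 =>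
            intro s; rw [mul_add]; exact Submodule.add_mem _ (h1 s) (h2 s)
          | smul c y _ h1 =>
            intro s; rw [smul_eq_mul, ← mul_assoc]; exact h1 _
          | mem g hg =>
            intro s
            obtain ⟨a, ha, hsa⟩ := hL s
            rw [show s * g = a * g + (s - a) * g by ring]
            refine Submodule.add_mem_sup ?_ ?_
            · clear hsa
              induction ha using Submodule.span_induction with
              | mem y hy => exact Submodule.subset_span (Finset.mem_image₂_of_mem hy hg)
              | zero => simp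
              | add y z _ _ h1 h2 => rw [add_mul]; exact Submodule.add_mem _ h1 h2
              | smul c y _ h1 => rw [smul_mul_assoc]; exact Submodule.smul_mem _ c h1
            · show (s - a) * g ∈ m ^ (n + 1)
              rw [pow_succ']
              exact Ideal.mul_mem_mul hsa (hG ▸ Submodule.subset_span hg)
        intro x hx
        simpa using this x hx 1
      · refine sup_le (Submodule.span_le.mpr ?_) (fun x hx => Ideal.pow_le_pow_right (by omega) hx)
        intro y hy
        obtain ⟨a, -, g, hg, rfl⟩ := Finset.mem_image₂.mp hy
        exact (m ^ n).mul_mem_left a (hG ▸ Submodule.subset_span hg)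
    rw [heq]
    exact (Submodule.fg_span (Finset.finite_toSet _)).sup (ih (n + 1) (by omega))

/-- Let R → S be a ring map whose target S is a local Artinian ring, and write m for the maximal ideal
of S. Then S is a finite R-module exactly when S/m is, and S is an R-algebra of finite type exactly
when S/m is. -/
theorem result {R S : Type u} [CommRing R] [CommRing S] [Algebra R S] [IsArtinianRing S] [IsLocalRing S] :
    (Module.Finite R S ↔ Module.Finite R (S ⧸ IsLocalRing.maximalIdeal S)) ∧
      (Algebra.FiniteType R S ↔ Algebra.FiniteType R (S ⧸ IsLocalRing.maximalIdeal S)) := by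
  set m := IsLocalRing.maximalIdeal S
  haveI : IsNoetherianRing S := inferInstance
  have hm : IsNilpotent m := by
    have := IsArtinianRing.isNilpotent_jacobson_bot (R := S)
    rwa [IsLocalRing.jacobson_eq_maximalIdeal _ bot_ne_top] at this
  refine ⟨⟨fun h => Module.Finite.of_surjective (Ideal.Quotient.mkₐ R m).toLinearMap
    Ideal.Quotient.mk_surjective, fun h => finite_of_residue m hm⟩,
    ⟨fun h => Algebra.FiniteType.of_surjective (Ideal.Quotient.mkₐ R m) Ideal.Quotient.mk_surjective,
    fun h => ?_⟩⟩
  obtain ⟨T, hT⟩ := h.out
  choose l hl using fun t : S ⧸ m => Ideal.Quotient.mk_surjective t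
  classical
  let A := Algebra.adjoin R ((T.image l : Finset S) : Set S)
  haveI : Algebra.FiniteType R A := (Subalgebra.fg_iff_finiteType _).mp ⟨_, rfl⟩
  haveI : Module.Finite A (S ⧸ m) := by
    refine Module.Finite.of_surjective (M := A)
      ((Ideal.Quotient.mkₐ A m).toLinearMap ∘ₗ Algebra.linearMap A S) ?_
    intro z
    have : z ∈ A.map (Ideal.Quotient.mkₐ R m) := by
      have h1 : (⊤ : Subalgebra R (S ⧸ m)) ≤ A.map (Ideal.Quotient.mkₐ R m) := by
        rw [← hT]
        refine Algebra.adjoin_le fun t ht => ⟨l t, Algebra.subset_adjoin ?_, hl t⟩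
        exact Finset.mem_image_of_mem l ht
      exact h1 trivial
    obtain ⟨a, ha, haz⟩ := this
    exact ⟨⟨a, ha⟩, haz⟩
  haveI : Module.Finite A S := finite_of_residue m hm
  exact Algebra.FiniteType.trans (S := A) inferInstance inferInstance

end Groth.Agent.S9622
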