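import Groth.Statements.S9624
import Groth.Agent.H02CA.GeomIrred

set_option autoImplicit false
universe u
open CAlg

namespace Groth.Agent.S9624

open TensorProduct in
/-- Let k be a field, S a geometrically connected k-algebra (the spectrum of k' ⊗_k S is connected for
every field extension k'/k) and R any k-algebra. Then the map R → R ⊗_k S induces a bijection on
idempotents: each idempotent of R ⊗_k S comes from exactly one idempotent of R. Here the test fields
range over field extensions in the universe of k; this is equivalent to the unrestricted notion,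
since an algebraic closure of k suffices as a test. -/
theorem result {k R S : Type u} [Field k] [CommRing R] [CommRing S] [Algebra k R] [Algebra k S]
    (hS : ∀ (k' : Type u) [Field k'] [Algebra k k'], ConnectedSpace (PrimeSpectrum (k' ⊗[k] S)))
    (x : R ⊗[k] S) (hx : IsIdempotentElem x) :
    ∃! e : R, IsIdempotentElem e ∧ algebraMap R (R ⊗[k] S) e = x := by
  classical
  set π := PrimeSpectrum.comap (algebraMap R (R ⊗[k] S)) with hπ
  have hfib : ∀ p : PrimeSpectrum R, IsConnected (π ⁻¹' {p}) := fun p =>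
    H02CA.GeomIrred.isConnected_fiber R S (hS _)
  have hsurj : Function.Surjective π := fun p => by
    obtain ⟨z, hz⟩ := (hfib p).nonempty
    exact ⟨z, hz⟩
  have hopen : IsOpenMap π := PrimeSpectrum.isOpenMap_comap_algebraMap_tensorProduct_of_field
  set U : Set (PrimeSpectrum (R ⊗[k] S)) := ↑(PrimeSpectrum.basicOpen x) with hUdef
  have hU : IsClopen U := PrimeSpectrum.isClopen_iff.mpr ⟨x, hx, rfl⟩
  have hsat : π ⁻¹' (π '' U) = U := by
    refine Set.Subset.antisymm ?_ (Set.subset_preimage_image π U)
    rintro q ⟨q', hq', hqq⟩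
    exact (hfib (π q)).isPreconnected.subset_isClopen hU ⟨q', hqq, hq'⟩ rfl
  have hc : (π '' U)ᶜ = π '' Uᶜ := by
    conv_rhs => rw [← hsat, ← Set.preimage_compl, Set.image_preimage_eq _ hsurj]
  have hclopen : IsClopen (π '' U) :=
    ⟨isOpen_compl_iff.mp (hc ▸ hopen _ hU.compl.isOpen), hopen _ hU.isOpen⟩
  obtain ⟨e, he, hVe⟩ := PrimeSpectrum.isClopen_iff.mp hclopen
  have key : ∀ f : R, π ⁻¹' ((PrimeSpectrum.basicOpen f : TopologicalSpace.Opens (PrimeSpectrum R)) : Set (PrimeSpectrum R)) =
      ((PrimeSpectrum.basicOpen (algebraMap R (R ⊗[k] S) f) : TopologicalSpace.Opens (PrimeSpectrum (R ⊗[k] S))) : Set (PrimeSpectrum (R ⊗[k] S))) := fun f => rfl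
  refine ⟨e, ⟨he, ?_⟩, ?_⟩
  · refine PrimeSpectrum.basicOpen_injOn_isIdempotentElem (he.map _) hx (SetLike.ext' ?_)
    rw [← key, ← hVe, hsat]
  · rintro f ⟨hf, hfx⟩
    refine PrimeSpectrum.basicOpen_injOn_isIdempotentElem hf he (SetLike.ext' ?_)
    rw [← hVe, ← Set.image_preimage_eq ((PrimeSpectrum.basicOpen f : TopologicalSpace.Opens (PrimeSpectrum R)) : Set (PrimeSpectrum R)) hsurj, key, hfx]

end Groth.Agent.S9624
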