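import Groth.Statements.S9625
import Mathlib.RingTheory.Flat.Basic

set_option autoImplicit false
universe u
open CAlg

namespace Groth.Agent.S9625

open TensorProduct in
/-- Let k be a field and S a k-algebra such that Spec(k' ⊗_k S) is irreducible for every field extension
k'/k. Then every k-subalgebra of S has the same property. Here the test fields range over field
extensions in the universe of k; this is equivalent to the unrestricted notion, since an algebraic
closure of k suffices as a test. -/
theorem result {k S : Type u} [Field k] [CommRing S] [Algebra k S]
    (hS : ∀ (k' : Type u) [Field k'] [Algebra k k'], IrreducibleSpace (PrimeSpectrum (k' ⊗[k] S))) (S' : Subalgebra k S) :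
    ∀ (k' : Type u) [Field k'] [Algebra k k'], IrreducibleSpace (PrimeSpectrum (k' ⊗[k] S')) := by
  intro k' _ _
  haveI := hS k'
  let φ := (Algebra.TensorProduct.map (AlgHom.id k' k') S'.val).toRingHom
  have hinj : Function.Injective φ :=
    Module.Flat.lTensor_preserves_injective_linearMap (M := k') S'.val.toLinearMap Subtype.val_injective
  have hd : DenseRange (PrimeSpectrum.comap φ) := by
    rw [DenseRange, dense_iff_closure_eq, PrimeSpectrum.closure_range_comap,
      (RingHom.injective_iff_ker_eq_bot φ).mp hinj]
    simp
  refine (irreducibleSpace_def _).mpr ?_
  rw [Set.top_eq_univ, ← dense_iff_closure_eq.mp hd, ← Set.image_univ]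
  exact ((IrreducibleSpace.isIrreducible_univ _).image _
    (PrimeSpectrum.continuous_comap φ).continuousOn).closure

end Groth.Agent.S9625
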