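import Groth.Statements.S9626
import Groth.Agent.H02CA.GeomIrred

set_option autoImplicit false
universe u
open CAlg

namespace Groth.Agent.S9626

open TensorProduct in
/-- Let k be a field, S a k-algebra with Spec(k' ⊗_k S) irreducible for every field extension k'/k, and
R any k-algebra. Then Spec(R ⊗_k S) → Spec(R) induces a bijection on irreducible components: taking
inverse images along R → R ⊗_k S maps the set of minimal primes of R ⊗_k S bijectively onto the set
of minimal primes of R. Here the test fields range over field extensions in the universe of k; this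
is equivalent to the unrestricted notion, since an algebraic closure of k suffices as a test. -/
theorem result {k R S : Type u} [Field k] [CommRing R] [CommRing S] [Algebra k R] [Algebra k S]
    (hS : ∀ (k' : Type u) [Field k'] [Algebra k k'], IrreducibleSpace (PrimeSpectrum (k' ⊗[k] S))) :
    Set.BijOn (Ideal.comap (algebraMap R (R ⊗[k] S))) (minimalPrimes (R ⊗[k] S)) (minimalPrimes R) := by
  classical
  have gd : ∀ (Q : Ideal (R ⊗[k] S)) [Q.IsPrime] (q : Ideal R) [q.IsPrime],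
      q ≤ Q.comap (algebraMap R (R ⊗[k] S)) →
      ∃ P ≤ Q, P.IsPrime ∧ P.comap (algebraMap R (R ⊗[k] S)) = q := by
    intro Q _ q _ hq
    obtain ⟨P, hPQ, hP, hPq⟩ := Ideal.exists_ideal_le_liesOver_of_le (p := q)
      (q := Q.comap (algebraMap R (R ⊗[k] S))) Q hq
    exact ⟨P, hPQ, hP, hPq.over.symm⟩
  refine ⟨?_, ?_, ?_⟩
  · rintro Q ⟨⟨hQ, -⟩, hmin⟩
    haveI := hQ
    refine ⟨⟨Ideal.comap_isPrime _ _, bot_le⟩, fun q hq hle => ?_⟩
    haveI := hq.1
    obtain ⟨P, hPQ, hP, rfl⟩ := gd Q q hle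
    exact Ideal.comap_mono (hmin ⟨hP, bot_le⟩ hPQ)
  · rintro Q1 ⟨⟨hQ1, -⟩, hmin1⟩ Q2 ⟨⟨hQ2, -⟩, hmin2⟩ h
    haveI := hQ1
    let p : Ideal R := Q1.comap (algebraMap R (R ⊗[k] S))
    let q1 : PrimeSpectrum.comap (algebraMap R (R ⊗[k] S)) ⁻¹' {⟨p, inferInstance⟩} :=
      ⟨⟨Q1, hQ1⟩, rfl⟩
    let q2 : PrimeSpectrum.comap (algebraMap R (R ⊗[k] S)) ⁻¹' {⟨p, inferInstance⟩} :=
      ⟨⟨Q2, hQ2⟩, PrimeSpectrum.ext h.symm⟩
    let e := PrimeSpectrum.preimageOrderIsoFiber R (R ⊗[k] S) ⟨p, inferInstance⟩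
    have hirr : IrreducibleSpace (PrimeSpectrum (p.Fiber (R ⊗[k] S))) :=
      (PrimeSpectrum.preimageHomeomorphFiber R (R ⊗[k] S) ⟨p, inferInstance⟩).irreducibleSpace_iff.mp
        (isIrreducible_iff_irreducibleSpace.mp (H02CA.GeomIrred.isIrreducible_fiber R S (hS _)))
    let η : PrimeSpectrum (p.Fiber (R ⊗[k] S)) :=
      ⟨nilradical _, PrimeSpectrum.irreducibleSpace_iff_isPrime_nilradical.mp hirr⟩
    have hη : ∀ z, e.symm η ≤ z := fun z => by
      rw [OrderIso.symm_apply_le]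
      exact nilradical_le_prime _
    have h1 : Q1 ≤ (e.symm η).1.asIdeal := hmin1 ⟨(e.symm η).1.2, bot_le⟩ (hη q1)
    have h2 : Q2 ≤ (e.symm η).1.asIdeal := hmin2 ⟨(e.symm η).1.2, bot_le⟩ (hη q2)
    exact le_antisymm (h1.trans (hη q2)) (h2.trans (hη q1))
  · rintro p ⟨⟨hp, -⟩, hmin⟩
    haveI := hp
    obtain ⟨z, hz⟩ := (H02CA.GeomIrred.isIrreducible_fiber R S (p := ⟨p, hp⟩) (hS _)).nonempty
    obtain ⟨Q, hQ, hQle⟩ := Ideal.exists_minimalPrimes_le (bot_le (a := z.asIdeal))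
    haveI := hQ.1.1
    refine ⟨Q, hQ, le_antisymm ?_ ?_⟩
    · exact (Ideal.comap_mono hQle).trans (PrimeSpectrum.ext_iff.mp hz).le
    · exact hmin ⟨Ideal.comap_isPrime _ _, bot_le⟩
        ((Ideal.comap_mono hQle).trans (PrimeSpectrum.ext_iff.mp hz).le)

end Groth.Agent.S9626
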