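import Groth.Statements.S9627
import Groth.Agent.H02CA.GeomIrred

set_option autoImplicit false
universe u
open CAlg

namespace Groth.Agent.S9627

open TensorProduct in
/-- Let K/k be a field extension such that Spec(k' ⊗_k K) is irreducible for every field extension k'/k,
and let S be a K-algebra such that Spec(K' ⊗_K S) is irreducible for every field extension K'/K.
Then Spec(k' ⊗_k S) is irreducible for every field extension k'/k: S is geometrically irreducible
over k. Here the test fields k'/k and K'/K range over field extensions in the common universe of k
and K; this is equivalent to the unrestricted notions, since an algebraic closure of the base field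
suffices as a test. -/
theorem result {k K S : Type u} [Field k] [Field K] [Algebra k K] [CommRing S] [Algebra K S] [Algebra k S] [IsScalarTower k K S]
    (hK : ∀ (k' : Type u) [Field k'] [Algebra k k'], IrreducibleSpace (PrimeSpectrum (k' ⊗[k] K)))
    (hS : ∀ (K' : Type u) [Field K'] [Algebra K K'], IrreducibleSpace (PrimeSpectrum (K' ⊗[K] S))) :
    ∀ (k' : Type u) [Field k'] [Algebra k k'], IrreducibleSpace (PrimeSpectrum (k' ⊗[k] S)) := by
  intro k' _ _
  haveI : IrreducibleSpace (PrimeSpectrum (K ⊗[k] k')) :=
    H02CA.GeomIrred.irreducibleSpace_of_ringEquiv (Algebra.TensorProduct.comm k K k').toRingEquiv (hK k')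
  refine H02CA.GeomIrred.irreducibleSpace_of_ringEquiv ?_
    (H02CA.GeomIrred.irreducibleSpace_tensor (k := K) (K ⊗[k] k') S hS)
  exact ((Algebra.TensorProduct.comm k k' S).toRingEquiv.trans
    ((Algebra.TensorProduct.cancelBaseChange k K K S k').symm.toRingEquiv.trans
      (Algebra.TensorProduct.comm K S (K ⊗[k] k')).toRingEquiv))

end Groth.Agent.S9627
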