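import Groth.Statements.S9629
import Groth.Agent.H02CA.GeomIrred

set_option autoImplicit false
universe u
open CAlg

namespace Groth.Agent.S9629

open TensorProduct in
/-- For a field k and a k-algebra S the following are equivalent: (1) S is geometrically integral, i.e.
k' ⊗_k S is an integral domain for every field extension k'/k; (2) k' ⊗_k S is an integral domain
for every finite field extension k'/k; (3) k̄ ⊗_k S is an integral domain for the algebraic closure
k̄ of k. Here the test fields range over field extensions in the universe of k; this is equivalent
to the unrestricted notion, since an algebraic closure of k suffices as a test. -/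
theorem result {k S : Type u} [Field k] [CommRing S] [Algebra k S] :
    [∀ (k' : Type u) [Field k'] [Algebra k k'], IsDomain (k' ⊗[k] S),
      ∀ (k' : Type u) [Field k'] [Algebra k k'] [Module.Finite k k'], IsDomain (k' ⊗[k] S),
      IsDomain (AlgebraicClosure k ⊗[k] S)].TFAE := by
  open Groth.Agent.H02CA.GeomIrred in
  tfae_have 1 → 2 := fun h k' _ _ _ => h k'
  open Groth.Agent.H02CA.GeomIrred in
  tfae_have 2 → 3 := fun h => isDomain_of_finite_subextensions fun L _ => h L
  open Groth.Agent.H02CA.GeomIrred in
  tfae_have 3 → 1 := fun h k' _ _ => isDomain_of_algClosure h k'
  tfae_finish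

end Groth.Agent.S9629
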