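import Groth.Statements.S9633
import Mathlib.RingTheory.Ideal.Maximal
import Mathlib.Tactic.Ring
import Mathlib.Topology.Connected.Separation

set_option autoImplicit false
universe u
open CAlg

namespace Groth.Agent.S9633

/-- For a ring R with spectrum X the following are equivalent: (1) X is profinite, i.e. compact,
Hausdorff and totally disconnected; (2) X is Hausdorff; (3) X is totally disconnected; (4) every
quasi-compact open subset of X is closed; (5) there are no nontrivial inclusions among prime ideals
of R; (6) every prime ideal of R is maximal; (7) every prime ideal of R is a minimal prime; (8)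
every standard open D(f) is closed. -/
theorem result {R : Type u} [CommRing R] :
    [CompactSpace (PrimeSpectrum R) ∧ T2Space (PrimeSpectrum R) ∧ TotallyDisconnectedSpace (PrimeSpectrum R),
      T2Space (PrimeSpectrum R),
      TotallyDisconnectedSpace (PrimeSpectrum R),
      ∀ W : Set (PrimeSpectrum R), IsOpen W → IsCompact W → IsClosed W,
      ∀ p q : PrimeSpectrum R, p ≤ q → p = q,
      ∀ p : Ideal R, p.IsPrime → p.IsMaximal,
      ∀ p : Ideal R, p.IsPrime → p ∈ minimalPrimes R,
      ∀ f : R, IsClosed (PrimeSpectrum.basicOpen f : Set (PrimeSpectrum R))].TFAE := by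
  tfae_have 1 → 2 := fun h => h.2.1
  tfae_have 1 → 3 := fun h => h.2.2
  tfae_have 2 → 4 := fun h W _ hW => hW.isClosed
  tfae_have 4 → 8 := fun h f => h _ PrimeSpectrum.isOpen_basicOpen (PrimeSpectrum.isCompact_basicOpen f)
  tfae_have 8 → 5 := by
    intro h p q hpq
    refine le_antisymm hpq ?_
    intro f hf
    by_contra hne
    have hp : p ∈ (PrimeSpectrum.basicOpen f : Set (PrimeSpectrum R)) := hne
    have := (h f).closure_subset_iff.mpr (Set.singleton_subset_iff.mpr hp)
      (((PrimeSpectrum.le_iff_specializes p q).mp hpq).mem_closure)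
    exact this hf
  tfae_have 3 → 5 := by
    intro h p q hpq
    exact h.isTotallyDisconnected_univ (closure {p}) (Set.subset_univ _)
      isPreconnected_singleton.closure (subset_closure rfl)
      ((PrimeSpectrum.le_iff_specializes p q).mp hpq).mem_closure
  tfae_have 5 → 6 := by
    intro h p hp
    obtain ⟨m, hm, hpm⟩ := p.exists_le_maximal hp.ne_top
    have := congr_arg PrimeSpectrum.asIdeal (h ⟨p, hp⟩ ⟨m, hm.isPrime⟩ hpm)
    rwa [show p = m from this]
  tfae_have 6 → 7 := by
    intro h p hp
    refine ⟨⟨hp, bot_le⟩, fun q hq hqp => ?_⟩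
    exact ((h q hq.1).eq_of_le hp.ne_top hqp).ge
  tfae_have 7 → 5 := by
    intro h p q hpq
    exact le_antisymm hpq ((h q.asIdeal q.isPrime).2 ⟨p.isPrime, bot_le⟩ hpq)
  tfae_have 5 → 1 := by
    intro h
    have hclopen : ∀ f : R, IsClopen (PrimeSpectrum.basicOpen f : Set (PrimeSpectrum R)) := by
      intro f
      refine ⟨⟨?_⟩, PrimeSpectrum.isOpen_basicOpen⟩
      rw [isOpen_iff_forall_mem_open]
      intro p hp
      have hfp : f ∈ p.asIdeal := not_not.mp hp
      have h0 : ¬ ((⊥ : Ideal R) : Set R) ∩ ↑(Submonoid.powers f ⊔ p.asIdeal.primeCompl) = ∅ := by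
        intro h0
        obtain ⟨q, hq, -, hdisj⟩ := Ideal.exists_le_prime_disjoint _ _
          (Set.disjoint_iff_inter_eq_empty.mpr h0)
        have hqp : q ≤ p.asIdeal := fun x hx => by
          by_contra hx'
          exact Set.disjoint_left.mp hdisj hx (SetLike.le_def.mp le_sup_right hx')
        have hqe : q = p.asIdeal := congr_arg PrimeSpectrum.asIdeal (h ⟨q, hq⟩ p hqp)
        exact Set.disjoint_left.mp hdisj (hqe ▸ hfp)
          (SetLike.le_def.mp le_sup_left (Submonoid.mem_powers f))
      obtain ⟨z, hz0, hz⟩ := Set.nonempty_iff_ne_empty.mpr h0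
      obtain ⟨_, ⟨n, rfl⟩, y, hy, rfl⟩ := Submonoid.mem_sup.mp hz
      refine ⟨PrimeSpectrum.basicOpen y, ?_, PrimeSpectrum.isOpen_basicOpen, hy⟩
      intro q hq hq'
      have : f ^ n * y ∈ q.asIdeal := by
        rw [show f ^ n * y = 0 from hz0]; exact q.asIdeal.zero_mem
      rcases q.isPrime.mem_or_mem this with h' | h'
      · exact hq' (q.isPrime.mem_of_pow_mem n h')
      · exact hq h'
    haveI : TotallySeparatedSpace (PrimeSpectrum R) := by
      refine totallySeparatedSpace_iff_exists_isClopen.mpr ?_
      intro p q hpq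
      obtain ⟨f, hfq, hfp⟩ : ∃ f, f ∈ q.asIdeal ∧ f ∉ p.asIdeal := by
        by_contra hne
        push Not at hne
        exact hpq (h q p hne).symm
      exact ⟨_, hclopen f, hfp, fun hc => hc hfq⟩
    exact ⟨inferInstance, inferInstance, inferInstance⟩
  tfae_finish

end Groth.Agent.S9633
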