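import Groth.Statements.S9636
import Mathlib

set_option autoImplicit false
universe u
open CAlg

namespace Groth.Agent.S9636

open TensorProduct in
/-- Let k'/k be a separable algebraic field extension. Then for some multiplicative subset S of k' ⊗_k
k' the multiplication map k' ⊗_k k' → k' is a localization at S: there is a ring isomorphism S⁻¹(k'
⊗_k k') ≅ k' carrying the localization map to the multiplication map. -/
theorem result {k k' : Type u} [Field k] [Field k'] [Algebra k k'] [Algebra.IsSeparable k k'] :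
    ∃ (S : Submonoid (k' ⊗[k] k')) (e : Localization S ≃+* k'), ∀ x : k' ⊗[k] k', e (algebraMap (k' ⊗[k] k') (Localization S) x) = Algebra.TensorProduct.lmul' (S := k') k x := by
  classical
  let m : k' ⊗[k] k' →ₐ[k] k' := Algebra.TensorProduct.lmul' (S := k') k
  have : (RingHom.ker m.toRingHom).IsPrime := RingHom.ker_isPrime _
  let S : Submonoid (k' ⊗[k] k') := (RingHom.ker m.toRingHom).primeCompl
  have hgen : ∀ a : k', ∃ s ∈ S, s * ((1 : k') ⊗ₜ[k] a - a ⊗ₜ[k] (1 : k')) = 0 := by
    intro a
    let δ : k' ⊗[k] k' := (1 : k') ⊗ₜ[k] a - a ⊗ₜ[k] (1 : k')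
    let x : k' ⊗[k] k' := a ⊗ₜ[k] (1 : k')
    let f := minpoly k a
    let F := f.map (algebraMap k (k' ⊗[k] k'))
    obtain ⟨c, hc⟩ := Polynomial.binomExpansion F x δ
    have hev : ∀ φ : k' →ₐ[k] k' ⊗[k] k', F.eval (φ a) = 0 := fun φ => by
      rw [Polynomial.eval_map, ← Polynomial.aeval_def, Polynomial.aeval_algHom_apply, minpoly.aeval,
        map_zero]
    have h1 : F.eval (x + δ) = 0 := by
      have : x + δ = (Algebra.TensorProduct.includeRight : k' →ₐ[k] k' ⊗[k] k') a := by
        simp [x, δ]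
      rw [this]; exact hev _
    have h2 : F.eval x = 0 := hev (Algebra.TensorProduct.includeLeft : k' →ₐ[k] k' ⊗[k] k')
    refine ⟨F.derivative.eval x + c * δ, ?_, ?_⟩
    · change ¬ m (F.derivative.eval x + c * δ) = 0
      have hd : m δ = 0 := by simp [m, δ]
      rw [map_add, map_mul, hd, mul_zero, add_zero, Polynomial.derivative_map, Polynomial.eval_map,
        ← Polynomial.aeval_def, ← Polynomial.aeval_algHom_apply, show m x = a by simp [m, x]]
      exact Polynomial.Separable.aeval_derivative_ne_zero (Algebra.IsSeparable.isSeparable k a)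
        (minpoly.aeval k a)
    · change (F.derivative.eval x + c * δ) * δ = 0
      rw [h1, h2, zero_add] at hc
      rw [hc]; ring
  have hker : ∀ z, m z = 0 → ∃ s ∈ S, s * z = 0 := by
    intro z hz
    have hz' : z ∈ KaehlerDifferential.ideal k k' := hz
    rw [← KaehlerDifferential.span_range_eq_ideal k k'] at hz'
    clear hz
    induction hz' using Submodule.span_induction with
    | mem y hy => obtain ⟨a, rfl⟩ := hy; exact hgen a
    | zero => exact ⟨1, one_mem S, mul_zero _⟩
    | add y w _ _ hy hw =>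
      obtain ⟨s, hs, hs0⟩ := hy
      obtain ⟨u, hu, hu0⟩ := hw
      refine ⟨s * u, mul_mem hs hu, ?_⟩
      rw [mul_add, mul_assoc s u w, hu0, mul_zero, add_zero, mul_comm s u, mul_assoc, hs0, mul_zero]
    | smul r y _ hy =>
      obtain ⟨s, hs, hs0⟩ := hy
      exact ⟨s, hs, by rw [smul_eq_mul, mul_left_comm, hs0, mul_zero]⟩
  have hS : ∀ s : S, IsUnit (m.toRingHom s) := fun s => isUnit_iff_ne_zero.mpr s.2
  let L : Localization S →+* k' := IsLocalization.lift hS
  have hL : ∀ z, L (algebraMap _ _ z) = m z := fun z => IsLocalization.lift_eq hS z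
  refine ⟨S, RingEquiv.ofBijective L ⟨?_, ?_⟩, hL⟩
  · rw [injective_iff_map_eq_zero]
    intro y hy
    obtain ⟨z, s, rfl⟩ := IsLocalization.exists_mk'_eq S y
    rw [IsLocalization.lift_mk', Units.mul_left_eq_zero] at hy
    obtain ⟨t', ht, ht0⟩ := hker z hy
    exact (IsLocalization.mk'_eq_zero_iff z s).mpr ⟨⟨t', ht⟩, ht0⟩
  · exact fun a => ⟨algebraMap _ _ (a ⊗ₜ[k] (1 : k')), (hL _).trans (by simp [m])⟩

end Groth.Agent.S9636
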