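import Groth.Statements.S9640
import Groth.Agent.H02CA.WeakAss

set_option autoImplicit false
universe u
open CAlg

namespace Groth.Agent.S9640

/-- Let R → S be a ring map with R a domain with fraction field K and N an S-module flat over R. Writing
T for the image in S of the nonzero elements of R, so that T⁻¹S = S ⊗_R K and T⁻¹N = N ⊗_R K, the
primes of S weakly associated to N are exactly the inverse images in S of the primes of T⁻¹S weakly
associated to T⁻¹N. -/
theorem result {R S : Type u} [CommRing R] [IsDomain R] [CommRing S] [Algebra R S] (N : Type u) [AddCommGroup N] [Module S N] [Module R N] [IsScalarTower R S N] [Module.Flat R N] :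
    FlatCA.weakAss S N = Ideal.comap (algebraMap S (Localization (Algebra.algebraMapSubmonoid S (nonZeroDivisors R)))) '' FlatCA.weakAss (Localization (Algebra.algebraMapSubmonoid S (nonZeroDivisors R))) (LocalizedModule (Algebra.algebraMapSubmonoid S (nonZeroDivisors R)) N) := by
  rw [Groth.Agent.H02CA.weakAss_localizedModule_of_regular _
    (Groth.Agent.H02CA.isSMulRegular_of_flat_domain (R := R) N),
    Groth.Agent.H02CA.weakAss_localizedModule]

end Groth.Agent.S9640
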