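import Groth.Statements.S9641
import Mathlib.RingTheory.Flat.Basic
import Mathlib.LinearAlgebra.TensorProduct.Finiteness
import Mathlib.LinearAlgebra.Basis.VectorSpace

set_option autoImplicit false
universe u
open CAlg

namespace Groth.Agent.S9641

open TensorProduct in
/-- Let k be a field and R, S two k-algebras. If R ⊗_k S is not reduced then there are finitely
generated k-subalgebras R' ⊆ R and S' ⊆ S such that R' ⊗_k S' is not reduced. -/
theorem result {k R S : Type u} [Field k] [CommRing R] [CommRing S] [Algebra k R] [Algebra k S] (h : ¬ IsReduced (R ⊗[k] S)) :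
    ∃ (R' : Subalgebra k R) (S' : Subalgebra k S), R'.FG ∧ S'.FG ∧ ¬ IsReduced (R' ⊗[k] S') := by
  classical
  simp only [isReduced_iff, not_forall] at h
  obtain ⟨z, ⟨n, hn⟩, hz⟩ := h
  obtain ⟨T, hT⟩ := TensorProduct.exists_finset z
  let R' := Algebra.adjoin k ((T.image Prod.fst : Finset R) : Set R)
  let S' := Algebra.adjoin k ((T.image Prod.snd : Finset S) : Set S)
  refine ⟨R', S', ⟨_, rfl⟩, ⟨_, rfl⟩, fun hred => hz ?_⟩
  let z' : R' ⊗[k] S' := ∑ p ∈ T.attach,
    (⟨p.1.1, Algebra.subset_adjoin (Finset.mem_image_of_mem _ p.2)⟩ : R') ⊗ₜ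
      (⟨p.1.2, Algebra.subset_adjoin (Finset.mem_image_of_mem _ p.2)⟩ : S')
  let φ := Algebra.TensorProduct.map R'.val S'.val
  have hz' : φ z' = z := by
    rw [map_sum, hT, ← Finset.sum_attach T]
    rfl
  have hinj : Function.Injective φ :=
    TensorProduct.map_injective_of_flat_flat R'.val.toLinearMap S'.val.toLinearMap
      Subtype.val_injective Subtype.val_injective
  have : z' = 0 := hred.eq_zero _ ⟨n, hinj (by rw [map_pow, hz', hn, map_zero])⟩
  rw [← hz', this, map_zero]

end Groth.Agent.S9641
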