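import Groth.Statements.S9642
import Groth.Agent.H02CA.GeomIrred

set_option autoImplicit false
universe u
open CAlg

namespace Groth.Agent.S9642

/-- In the general form stated there: let R → S be a ring map inducing an open map Spec(S) → Spec(R),
with Spec(R) irreducible, such that for a dense set of primes p of R the fibre ring κ(p) ⊗_R S has
irreducible spectrum. Then Spec(S) is irreducible. The flat and finitely presented case is the
special case in which the map on spectra is open by fppf-openness. -/
theorem result {R S : Type u} [CommRing R] [CommRing S] [Algebra R S]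
    (hopen : IsOpenMap (PrimeSpectrum.comap (algebraMap R S))) [IrreducibleSpace (PrimeSpectrum R)]
    (D : Set (PrimeSpectrum R)) (hD : Dense D) (hfib : ∀ p ∈ D, IrreducibleSpace (PrimeSpectrum (p.asIdeal.Fiber S))) :
    IrreducibleSpace (PrimeSpectrum S) := by
  have hirr : ∀ p ∈ D, IsIrreducible (PrimeSpectrum.comap (algebraMap R S) ⁻¹' {p}) := fun p hp =>
    isIrreducible_iff_irreducibleSpace.mpr
      ((PrimeSpectrum.preimageHomeomorphFiber R S p).irreducibleSpace_iff.mpr (hfib p hp))
  obtain ⟨p, hp⟩ := hD.nonempty
  obtain ⟨z, -⟩ := (hirr p hp).nonempty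
  rw [irreducibleSpace_def]
  refine ⟨⟨z, trivial⟩, ?_⟩
  rw [Set.top_eq_univ, ← Set.preimage_univ (f := PrimeSpectrum.comap (algebraMap R S))]
  refine (IrreducibleSpace.isIrreducible_univ _).isPreirreducible.preimage_of_dense_isPreirreducible_fiber
    _ hopen fun q _ => ?_
  refine closure_mono ?_ (hD q)
  exact fun x hx => ⟨trivial, (hirr x hx).isPreirreducible⟩

end Groth.Agent.S9642
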