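import Groth.Statements.S9643
import Mathlib.RingTheory.Spectrum.Prime.Topology
import Mathlib.RingTheory.Finiteness.Basic

set_option autoImplicit false
universe u
open CAlg

namespace Groth.Agent.S9643

/-- Let R be a Noetherian ring, M a finite R-module and 0 = M_0 ⊆ M_1 ⊆ ⋯ ⊆ M_n = M a chain of
submodules whose successive quotients M_i/M_{i-1} are isomorphic to R/p_i for prime ideals p_i. Then
the primes minimal among p_1, …, p_n are exactly the primes minimal in the support of M. -/
theorem result {R : Type u} [CommRing R] [IsNoetherianRing R] (M : Type u) [AddCommGroup M] [Module R M] [Module.Finite R M]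
    {n : ℕ} (N : Fin (n + 1) → Submodule R M) (hN : Monotone N) (h0 : N 0 = ⊥) (hlast : N (Fin.last n) = ⊤)
    (p : Fin n → PrimeSpectrum R)
    (hquot : ∀ i : Fin n, Nonempty ((↥(N i.succ) ⧸ Submodule.comap (N i.succ).subtype (N i.castSucc)) ≃ₗ[R] (R ⧸ (p i).asIdeal))) :
    {q : PrimeSpectrum R | Minimal (fun x => x ∈ Set.range p) q} = {q : PrimeSpectrum R | Minimal (fun x => x ∈ Module.support R M) q} := by
  have hsupp : ∀ j : Fin (n + 1), ∀ x : PrimeSpectrum R,
      x ∈ Module.support R (N j) ↔ ∃ i : Fin n, i.castSucc < j ∧ p i ≤ x := by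
    intro j
    induction j using Fin.induction with
    | zero =>
      intro x
      haveI : Subsingleton (N 0) := by rw [h0]; infer_instance
      simp [Module.support_eq_empty]
    | succ i ih =>
      intro x
      let f := (Submodule.comap (N i.succ).subtype (N i.castSucc)).subtype
      rw [Module.support_of_exact (LinearMap.exact_subtype_mkQ (Submodule.comap (N i.succ).subtype (N i.castSucc)))
        Subtype.val_injective (Submodule.mkQ_surjective _),
        (Submodule.comapSubtypeEquivOfLe (hN (Fin.castSucc_le_succ i))).support_eq,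
        (hquot i).some.support_eq, Module.support_eq_zeroLocus (M := R ⧸ (p i).asIdeal),
        Ideal.annihilator_quotient, Set.mem_union, ih]
      constructor
      · rintro (⟨l, hl, hlx⟩ | h)
        · exact ⟨l, hl.trans Fin.castSucc_lt_succ, hlx⟩
        · exact ⟨i, Fin.castSucc_lt_succ, (PrimeSpectrum.mem_zeroLocus _ _).mp h⟩
      · rintro ⟨l, hl, hlx⟩
        rcases eq_or_lt_of_le (Fin.castSucc_lt_succ_iff.mp hl) with rfl | h
        · exact Or.inr ((PrimeSpectrum.mem_zeroLocus _ _).mpr hlx)
        · exact Or.inl ⟨l, Fin.castSucc_lt_castSucc_iff.mpr h, hlx⟩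
  have hM : ∀ x, x ∈ Module.support R M ↔ ∃ i, p i ≤ x := by
    intro x
    rw [← Submodule.topEquiv.support_eq, ← hlast, hsupp]
    simp [Fin.castSucc_lt_last]
  ext q
  simp only [Set.mem_setOf_eq]
  constructor
  · rintro ⟨⟨i, rfl⟩, hmin⟩
    refine ⟨(hM _).mpr ⟨i, le_rfl⟩, fun x hx hle => ?_⟩
    obtain ⟨l, hl⟩ := (hM x).mp hx
    exact (hmin ⟨l, rfl⟩ (hl.trans hle)).trans hl
  · rintro ⟨hq, hmin⟩
    obtain ⟨l, hl⟩ := (hM q).mp hq
    have : q = p l := le_antisymm (hmin ((hM _).mpr ⟨l, le_rfl⟩) hl) hl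
    refine ⟨⟨l, this.symm⟩, fun x hx hle => ?_⟩
    obtain ⟨i, rfl⟩ := hx
    exact hmin ((hM _).mpr ⟨i, le_rfl⟩) hle

end Groth.Agent.S9643
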