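import Groth.Statements.S9645
import Mathlib.RingTheory.Localization.Integral

set_option autoImplicit false
universe u
open CAlg

namespace Groth.Agent.S9645

/-- Integral closure commutes with localization. Let A → B be a ring map, S a multiplicative subset of
A, and A_S, B_S the localizations of A at S and of B at the image of S. Then an element x of B_S is
integral over A_S if and only if x·s = b for some s ∈ S and some b ∈ B integral over A (images taken
in B_S); that is, the integral closure of A_S in B_S is S⁻¹B' for B' the integral closure of A in B. -/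
theorem result {A B As Bs : Type u} [CommRing A] [CommRing B] [CommRing As] [CommRing Bs] [Algebra A B] [Algebra A As] [Algebra B Bs] [Algebra As Bs] [Algebra A Bs] [IsScalarTower A B Bs] [IsScalarTower A As Bs]
    (S : Submonoid A) [IsLocalization S As] [IsLocalization (Algebra.algebraMapSubmonoid B S) Bs] (x : Bs) :
    IsIntegral As x ↔ ∃ b : B, IsIntegral A b ∧ ∃ s ∈ S, x * algebraMap A Bs s = algebraMap B Bs b := by
  constructor
  · intro hx
    letI : Algebra A Bs := ‹Algebra A Bs›
    obtain ⟨m, hm⟩ := IsIntegral.exists_multiple_integral_of_isLocalization (Rₘ := As) S x hx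
    obtain ⟨⟨b, ⟨_, s, hs, rfl⟩⟩, hb⟩ := IsLocalization.surj (Algebra.algebraMapSubmonoid B S) x
    have hb' : x * algebraMap A Bs s = algebraMap B Bs b := by
      rw [IsScalarTower.algebraMap_apply A B Bs]; exact hb
    have hint : IsIntegral A (algebraMap B Bs ((m : A) • b)) := by
      have h1 : algebraMap B Bs ((m : A) • b) = algebraMap A Bs s * ((m : A) • x) := by
        rw [Algebra.smul_def, Algebra.smul_def, map_mul, ← hb', ← IsScalarTower.algebraMap_apply]
        ring
      rw [h1]
      exact isIntegral_algebraMap.mul hm
    obtain ⟨t, ht, htint⟩ := IsLocalization.exists_isIntegral_smul_of_isIntegral_map (Sₘ := Bs) S hint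
    refine ⟨t • (m : A) • b, htint, t * (m : A) * s, S.mul_mem (S.mul_mem ht m.2) hs, ?_⟩
    rw [Algebra.smul_def, Algebra.smul_def, map_mul, map_mul, map_mul, map_mul, ← hb',
      ← IsScalarTower.algebraMap_apply, ← IsScalarTower.algebraMap_apply]
    ring
  · rintro ⟨b, hb, s, hs, heq⟩
    have h1 : IsIntegral As (algebraMap B Bs b) := (hb.map (IsScalarTower.toAlgHom A B Bs)).tower_top
    obtain ⟨u, hu⟩ := isUnit_iff_exists_inv.mp (IsLocalization.map_units As (⟨s, hs⟩ : S))
    have hu' : algebraMap A Bs s * algebraMap As Bs u = 1 := by
      rw [IsScalarTower.algebraMap_apply A As Bs, ← map_mul, hu, map_one]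
    have : x = algebraMap As Bs u * algebraMap B Bs b := by
      rw [← heq]
      calc x = x * (algebraMap A Bs s * algebraMap As Bs u) := by rw [hu', mul_one]
        _ = algebraMap As Bs u * (x * algebraMap A Bs s) := by ring
    rw [this]
    exact isIntegral_algebraMap.mul h1

end Groth.Agent.S9645
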