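import Groth.Statements.S9646
import Mathlib.RingTheory.Localization.Integral

set_option autoImplicit false
universe u
open CAlg

namespace Groth.Agent.S9646

/-- (2) ⇒ (1): let R → S be a ring map and x ∈ S. If for every prime ideal p of R the image of x in S_p
(the localization of S at the image of R ∖ p) is integral over R_p, then x is integral over R. Here
R_p and S_p are any rings satisfying the localization universal properties. -/
theorem result {R S : Type u} [CommRing R] [CommRing S] [Algebra R S] (x : S)
    (h : ∀ (p : Ideal R) [p.IsPrime] (Rp Sp : Type u) [CommRing Rp] [CommRing Sp] [Algebra R Rp] [Algebra S Sp] [Algebra Rp Sp] [Algebra R Sp] [IsScalarTower R S Sp] [IsScalarTower R Rp Sp] [IsLocalization.AtPrime Rp p] [IsLocalization (Algebra.algebraMapSubmonoid S p.primeCompl) Sp], IsIntegral Rp (algebraMap S Sp x)) :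
    IsIntegral R x := by
  let I : Ideal R :=
    { carrier := {r | IsIntegral R (r • x)}
      add_mem' := fun {a b} ha hb => by
        show IsIntegral R ((a + b) • x); rw [add_smul]; exact ha.add hb
      zero_mem' := by show IsIntegral R ((0 : R) • x); rw [zero_smul]; exact isIntegral_zero
      smul_mem' := fun c a ha => by
        show IsIntegral R ((c • a) • x); rw [smul_eq_mul, mul_smul]; exact ha.smul c }
  suffices hI : I = ⊤ by
    have h1 : (1 : R) ∈ I := hI ▸ Submodule.mem_top
    simpa [I] using h1
  by_contra hne
  obtain ⟨p, hp, hle⟩ := I.exists_le_maximal hne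
  haveI := hp.isPrime
  let Rp := Localization.AtPrime p
  let Sp := Localization (Algebra.algebraMapSubmonoid S p.primeCompl)
  letI : Algebra Rp Sp := (IsLocalization.map (T := Algebra.algebraMapSubmonoid S p.primeCompl) Sp
    (algebraMap R S) (fun y hy => ⟨y, hy, rfl⟩) : Rp →+* Sp).toAlgebra
  haveI : IsScalarTower R Rp Sp := IsScalarTower.of_algebraMap_eq fun r => by
    rw [IsScalarTower.algebraMap_apply R S Sp]
    exact (IsLocalization.map_eq _ _).symm
  obtain ⟨m, hm⟩ := IsIntegral.exists_multiple_integral_of_isLocalization (Rₘ := Rp) p.primeCompl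
    (algebraMap S Sp x) (h p Rp Sp)
  rw [Submonoid.smul_def, ← IsScalarTower.toAlgHom_apply R S Sp x,
    ← map_smul (IsScalarTower.toAlgHom R S Sp), IsScalarTower.toAlgHom_apply] at hm
  obtain ⟨t, ht, htint⟩ := IsLocalization.exists_isIntegral_smul_of_isIntegral_map (Sₘ := Sp) p.primeCompl hm
  rw [smul_smul] at htint
  exact (‹p.IsPrime›.mem_or_mem (hle htint)).elim ht m.2

end Groth.Agent.S9646
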