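import Groth.Statements.S9647
import Mathlib.RingTheory.Invariant.Profinite
import Mathlib.FieldTheory.Galois.Infinite
import Mathlib.FieldTheory.Galois.Profinite
import Mathlib.FieldTheory.IsSepClosed
import Mathlib.RingTheory.TensorProduct.Free
import Mathlib.RingTheory.TensorProduct.Maps
import Mathlib.Topology.Algebra.MulAction

set_option autoImplicit false
universe u
open CAlg

namespace Groth.Agent.S9647

open scoped TensorProduct in
theorem general {k Ω K : Type u} [Field k] [Field Ω] [Field K] [Algebra k Ω] [IsGalois k Ω]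
    [Algebra k K] (P Q : Ideal (Ω ⊗[k] K)) [P.IsPrime] [Q.IsPrime] :
    ∃ σ : Ω ≃ₐ[k] Ω, Q = P.comap (Algebra.TensorProduct.map (σ : Ω →ₐ[k] Ω) (AlgHom.id k K)) := by
  classical
  have hsmul : ∀ (g : Gal(Ω/k)) (x : Ω ⊗[k] K),
      g • x = Algebra.TensorProduct.map (g : Ω →ₐ[k] Ω) (AlgHom.id k K) x := fun g x => by
    induction x using TensorProduct.induction_on with
    | zero => simp
    | tmul a c => simp [TensorProduct.smul_tmul']
    | add x y hx hy => rw [smul_add, map_add, hx, hy]
  letI : MulSemiringAction Gal(Ω/k) (Ω ⊗[k] K) :=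
    { (inferInstance : DistribMulAction Gal(Ω/k) (Ω ⊗[k] K)) with
      smul_one := fun g => by rw [hsmul, map_one]
      smul_mul := fun g x y => by rw [hsmul, hsmul, hsmul, map_mul] }
  letI : Algebra K (Ω ⊗[k] K) := Algebra.TensorProduct.rightAlgebra
  haveI : SMulCommClass Gal(Ω/k) K (Ω ⊗[k] K) := ⟨fun g c x => by
    rw [Algebra.smul_def, Algebra.smul_def, hsmul, hsmul, map_mul]
    congr 1
    simp [RingHom.algebraMap_toAlgebra]⟩
  letI : TopologicalSpace (Ω ⊗[k] K) := ⊥
  haveI : DiscreteTopology (Ω ⊗[k] K) := ⟨rfl⟩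
  have hfix : ∀ x : Ω ⊗[k] K, ∃ s : Finset Ω, ∀ g : Gal(Ω/k),
      (∀ a ∈ s, g a = a) → g • x = x := by
    intro x
    induction x using TensorProduct.induction_on with
    | zero => exact ⟨∅, fun g _ => smul_zero g⟩
    | tmul a b => exact ⟨{a}, fun g hg => by simp [hsmul, hg a (Finset.mem_singleton_self a)]⟩
    | add x y hx hy =>
      obtain ⟨s, hs⟩ := hx
      obtain ⟨t, ht⟩ := hy
      exact ⟨s ∪ t, fun g hg => by
        rw [smul_add, hs g fun a ha => hg a (Finset.mem_union_left _ ha),
          ht g fun a ha => hg a (Finset.mem_union_right _ ha)]⟩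
  haveI : ContinuousSMul Gal(Ω/k) (Ω ⊗[k] K) := continuousSMul_iff_stabilizer_isOpen.mpr fun x => by
    obtain ⟨s, hs⟩ := hfix x
    haveI : FiniteDimensional k (IntermediateField.adjoin k (s : Set Ω)) :=
      IntermediateField.finiteDimensional_adjoin fun a _ => Algebra.IsIntegral.isIntegral a
    refine Subgroup.isOpen_mono (fun g hg => ?_)
      (IntermediateField.fixingSubgroup_isOpen (IntermediateField.adjoin k (s : Set Ω)))
    rw [MulAction.mem_stabilizer_iff]
    exact hs g fun a ha => hg ⟨a, IntermediateField.subset_adjoin k _ ha⟩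
  haveI : Algebra.IsInvariant K (Ω ⊗[k] K) Gal(Ω/k) := ⟨fun x hx => by
    let b := Module.Basis.ofVectorSpace k K
    let B := Algebra.TensorProduct.basis Ω b
    have hg : ∀ (g : Gal(Ω/k)) (y : Ω ⊗[k] K) i, B.repr (g • y) i = g (B.repr y i) := by
      intro g y i
      induction y using TensorProduct.induction_on with
      | zero => simp
      | tmul a c => simp [B, hsmul, Algebra.TensorProduct.basis_repr_tmul]
      | add y z hy hz => simp [hy, hz]
    have hc : ∀ i, ∃ c : k, algebraMap k Ω c = B.repr x i := fun i =>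
      (InfiniteGalois.mem_range_algebraMap_iff_fixed (B.repr x i)).mpr fun g => by
        rw [← hg, hx g]
    choose c hc using hc
    refine ⟨∑ i ∈ (B.repr x).support, c i • b i, ?_⟩
    conv_rhs => rw [← B.linearCombination_repr x, Finsupp.linearCombination_apply]
    rw [Finsupp.sum, map_sum]
    refine Finset.sum_congr rfl fun i _ => ?_
    rw [RingHom.algebraMap_toAlgebra, Algebra.TensorProduct.basis_apply, ← hc i]
    change (1 : Ω) ⊗ₜ[k] (c i • b i) = algebraMap k Ω (c i) • ((1 : Ω) ⊗ₜ[k] b i)
    rw [algebraMap_smul, TensorProduct.tmul_smul]⟩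
  obtain ⟨g, hg⟩ := Algebra.IsInvariant.exists_smul_of_under_eq_of_profinite (A := K)
    (G := Gal(Ω/k)) P Q (by
      rw [(Ideal.eq_bot_or_top (P.under K)).resolve_right (Ideal.IsPrime.ne_top inferInstance),
        (Ideal.eq_bot_or_top (Q.under K)).resolve_right (Ideal.IsPrime.ne_top inferInstance)])
  refine ⟨g⁻¹, Ideal.ext fun x => ?_⟩
  rw [hg, Ideal.mem_pointwise_smul_iff_inv_smul_mem, Ideal.mem_comap, hsmul]

open TensorProduct in
/-- Let K/k be a field extension and k^sep a separable algebraic closure of k. Then the automorphism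
group of k^sep over k acts transitively on the primes of k^sep ⊗_k K: for any two primes P, Q there
is a k-automorphism σ of k^sep with Q the inverse image of P under σ ⊗ id_K. -/
theorem result {k K : Type u} [Field k] [Field K] [Algebra k K]
    (P Q : Ideal (SeparableClosure k ⊗[k] K)) [P.IsPrime] [Q.IsPrime] :
    ∃ σ : SeparableClosure k ≃ₐ[k] SeparableClosure k, Q = P.comap (Algebra.TensorProduct.map (σ : SeparableClosure k →ₐ[k] SeparableClosure k) (AlgHom.id k K)) := by
  exact general P Q

end Groth.Agent.S9647
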