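import Groth.Statements.S9648
import Groth.Agent.H02CA.FibreAss

set_option autoImplicit false
universe u
open CAlg

namespace Groth.Agent.S9648

open TensorProduct in
/-- The inclusion, valid for any ring R: let R → S be a ring map, M an R-module and N an S-module which
is flat over R. For an associated prime p of M (a prime equal to the annihilator of an element) and
an associated prime Q of the fibre module N ⊗_R κ(p) over the fibre ring S ⊗_R κ(p), the inverse
image of Q in S is an associated prime of N ⊗_R M. -/
theorem result {R S : Type u} [CommRing R] [CommRing S] [Algebra R S] (M : Type u) [AddCommGroup M] [Module R M] (N : Type u) [AddCommGroup N] [Module S N] [Module R N] [IsScalarTower R S N] [Module.Flat R N]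
    (p : Ideal R) [p.IsPrime] (hp : p ∈ FlatCA.ass R M) (Q : Ideal (p.Fiber S)) (hQ : Q ∈ FlatCA.ass (p.Fiber S) (FlatCA.fiberMod p S N)) :
    Q.comap (Algebra.TensorProduct.includeRight (R := R) (A := p.ResidueField) (B := S)).toRingHom ∈ FlatCA.ass S (N ⊗[R] M) := by
  have hQp : Q.IsPrime := hQ.1
  let q := Q.comap (Algebra.TensorProduct.includeRight (R := R) (A := p.ResidueField) (B := S)).toRingHom
  have hq : q ∈ FlatCA.ass S (FlatCA.fiberMod p S N) :=
    (Groth.Agent.H02CA.FibreAss.ass_fiber_iff p q).mpr ⟨Q, hQ, rfl⟩
  rw [← Groth.Agent.H02CA.FibreAss.ass_quot_eq_ass_fiber p] at hq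
  exact Groth.Agent.H02CA.FibreAss.ass_quot_subset_ass_tensor p hp hq

end Groth.Agent.S9648
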