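import Groth.Statements.S9649
import Groth.Agent.H02CA.SepGenerated

set_option autoImplicit false
universe u
open CAlg

namespace Groth.Agent.S9649

/-- A separably generated field extension is separable. Precisely: let K/k be a field extension
admitting a transcendence basis x over whose generated subfield k(x) the field K is separable
algebraic; then every finitely generated subextension K' of K/k also admits such a transcendence
basis. -/
theorem result {k K : Type u} [Field k] [Field K] [Algebra k K]
    (h : ∃ (ι : Type u) (x : ι → K), IsTranscendenceBasis k x ∧ Algebra.IsSeparable (IntermediateField.adjoin k (Set.range x)) K)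
    (K' : IntermediateField k K) (hK' : ∃ s : Finset K, IntermediateField.adjoin k (s : Set K) = K') :
    ∃ (ι : Type u) (x : ι → K'), IsTranscendenceBasis k x ∧ Algebra.IsSeparable (IntermediateField.adjoin k (Set.range x)) K' := by
  obtain ⟨s, hs⟩ := hK'
  exact H02CA.SepGenerated.exists_separating h K' ⟨s, hs⟩

end Groth.Agent.S9649
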