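import Groth.Statements.S9650
import Mathlib

set_option autoImplicit false
universe u
open CAlg

namespace Groth.Agent.S9650

/-- Let K/k be a finitely generated field extension that is separably generated, i.e. admits a
transcendence basis over whose generated subfield K is separable algebraic. Then K is generated over
k by finitely many elements x_1, …, x_r, y such that the x_i form a transcendence basis of K/k and y
is separable over the subfield k(x_1, …, x_r). -/
theorem result {k K : Type u} [Field k] [Field K] [Algebra k K]
    (hfg : ∃ s : Finset K, IntermediateField.adjoin k (s : Set K) = ⊤)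
    (hsep : ∃ (ι : Type u) (x : ι → K), IsTranscendenceBasis k x ∧ Algebra.IsSeparable (IntermediateField.adjoin k (Set.range x)) K) :
    ∃ (r : ℕ) (x : Fin r → K) (y : K), IsTranscendenceBasis k x ∧ IntermediateField.adjoin k (insert y (Set.range x)) = ⊤ ∧ IsSeparable (IntermediateField.adjoin k (Set.range x)) y := by
  classical
  obtain ⟨s, hs⟩ := hfg
  obtain ⟨ι, x, hx, hsepK⟩ := hsep
  haveI : Algebra.EssFiniteType k K := IntermediateField.fg_top_iff.mp ⟨s, hs⟩
  haveI : Finite ι := finite_of_isTranscendenceBasis hx
  obtain ⟨r, ⟨e⟩⟩ := Finite.exists_equiv_fin ι
  let x' : Fin r → K := x ∘ e.symm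
  have hr : Set.range x' = Set.range x := by rw [Set.range_comp, e.symm.range_eq_univ, Set.image_univ]
  let F := IntermediateField.adjoin k (Set.range x)
  haveI : Algebra.IsSeparable F K := hsepK
  have hFs : IntermediateField.adjoin F (s : Set K) = ⊤ := by
    apply IntermediateField.restrictScalars_injective k
    rw [IntermediateField.adjoin_adjoin_left, IntermediateField.restrictScalars_top, eq_top_iff, ← hs]
    exact IntermediateField.adjoin.mono k _ _ Set.subset_union_right
  haveI : FiniteDimensional F K := by
    have := IntermediateField.finiteDimensional_adjoin (K := F) (S := (s : Set K))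
      fun z _ => Algebra.IsIntegral.isIntegral z
    rw [hFs] at this
    exact Module.Finite.equiv IntermediateField.topEquiv.toLinearEquiv
  obtain ⟨y, hy⟩ := Field.exists_primitive_element F K
  refine ⟨r, x', y, hx.comp_equiv e.symm, ?_, ?_⟩
  · have h := congrArg (IntermediateField.restrictScalars k) hy
    rw [IntermediateField.adjoin_adjoin_left, IntermediateField.restrictScalars_top,
      Set.union_singleton] at h
    rwa [hr]
  · rw [hr]
    exact Algebra.IsSeparable.isSeparable F y

end Groth.Agent.S9650
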