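import Groth.Statements.S9654
import Mathlib

set_option autoImplicit false
universe u
open CAlg

namespace Groth.Agent.S9654

section
open Polynomial

variable {R L : Type u} [CommRing R] [CommRing L] [Algebra R L] {a b : L} (hab : a * b = 1)
include hab

/-- A common element of `R[a]` and `R[a⁻¹]` is integral. -/
theorem isIntegral_of_mem_both {z : L} (ha : z ∈ Algebra.adjoin R {a}) (hb : z ∈ Algebra.adjoin R {b}) :
    IsIntegral R z := by
  classical
  obtain ⟨P, hP⟩ := (AlgHom.mem_range _).mp (Algebra.adjoin_singleton_eq_range_aeval R a ▸ ha)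
  obtain ⟨Q, hQ⟩ := (AlgHom.mem_range _).mp (Algebra.adjoin_singleton_eq_range_aeval R b ▸ hb)
  let n := P.natDegree
  let m := Q.natDegree
  let s : Set L := ((fun i => a ^ i) '' Set.Iic n) ∪ ((fun i => b ^ i) '' Set.Iic m)
  let W : Submodule R L := Submodule.span R s
  have hfg : W.FG := Submodule.fg_span (((Set.finite_Iic n).image _).union ((Set.finite_Iic m).image _))
  have h1 : (1 : L) ∈ W := Submodule.subset_span (Or.inl ⟨0, Nat.zero_le n, pow_zero a⟩)
  have hpow : ∀ i j : ℕ, i ≤ n → j ≤ m → a ^ i * b ^ j ∈ W := by
    intro i j hi hj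
    rcases le_total j i with h | h
    · refine Submodule.subset_span (Or.inl ⟨i - j, (Nat.sub_le i j).trans hi, ?_⟩)
      show a ^ (i - j) = a ^ i * b ^ j
      conv_rhs => rw [← Nat.sub_add_cancel h, pow_add, mul_assoc, ← mul_pow, hab, one_pow, mul_one]
    · refine Submodule.subset_span (Or.inr ⟨j - i, (Nat.sub_le j i).trans hj, ?_⟩)
      show b ^ (j - i) = a ^ i * b ^ j
      conv_rhs => rw [← Nat.sub_add_cancel h, pow_add, mul_comm (b ^ (j - i)), ← mul_assoc, ← mul_pow,
        hab, one_pow, one_mul]
  suffices hstab : ∀ w ∈ W, z • w ∈ W by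
    haveI : Module.Finite R W := Module.Finite.iff_fg.mpr hfg
    let g : Module.End R W := (LinearMap.mulLeft R z).restrict fun w hw => by
      simpa using hstab w hw
    obtain ⟨f, hf, hf0⟩ := LinearMap.exists_monic_and_aeval_eq_zero R g
    refine ⟨f, hf, ?_⟩
    have hk : ∀ (q : R[X]) (w : W), ((aeval g q w : W) : L) = aeval z q * (w : L) := by
      intro q
      induction q using Polynomial.induction_on with
      | C r => intro w; simp [Module.algebraMap_end_apply, Algebra.smul_def]
      | add p q hp hq => intro w; simp [hp, hq, add_mul]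
      | monomial k r ih =>
        intro w
        rw [pow_succ, ← mul_assoc, map_mul, aeval_X, Module.End.mul_apply, ih, map_mul (aeval z) (C r * X ^ k) X, aeval_X]
        show _ * (z * (w : L)) = _
        ring
    have := hk f ⟨1, h1⟩
    rw [hf0] at this
    rw [← aeval_def]
    simpa using this.symm
  · intro w hw
    induction hw using Submodule.span_induction with
    | zero => rw [smul_zero]; exact W.zero_mem
    | add x y _ _ hx hy => rw [smul_add]; exact add_mem hx hy
    | smul r x _ hx => rw [smul_comm]; exact W.smul_mem r hx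
    | mem x hx =>
      rw [smul_eq_mul]
      rcases hx with ⟨i, hi, rfl⟩ | ⟨i, hi, rfl⟩
      · rw [← hQ, aeval_eq_sum_range, Finset.sum_mul]
        refine Submodule.sum_mem _ fun j hj => ?_
        rw [smul_mul_assoc, mul_comm (b ^ j)]
        exact W.smul_mem _ (hpow i j hi (Nat.lt_succ_iff.mp (Finset.mem_range.mp hj)))
      · rw [← hP, aeval_eq_sum_range, Finset.sum_mul]
        refine Submodule.sum_mem _ fun j hj => ?_
        rw [smul_mul_assoc]
        exact W.smul_mem _ (hpow j i (Nat.lt_succ_iff.mp (Finset.mem_range.mp hj)) hi)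

theorem pow_mul_pow_mem (i j : ℕ) : a ^ i * b ^ j ∈
    (Algebra.adjoin R {a}).toSubmodule ⊔ (Algebra.adjoin R {b}).toSubmodule := by
  rcases le_total j i with h | h
  · refine Submodule.mem_sup_left ?_
    rw [show a ^ i * b ^ j = a ^ (i - j) by
      conv_lhs => rw [← Nat.sub_add_cancel h, pow_add, mul_assoc, ← mul_pow, hab, one_pow, mul_one]]
    exact pow_mem (Algebra.self_mem_adjoin_singleton R a) _
  · refine Submodule.mem_sup_right ?_
    rw [show a ^ i * b ^ j = b ^ (j - i) by
      conv_lhs => rw [← Nat.sub_add_cancel h, pow_add, mul_comm (b ^ (j - i)), ← mul_assoc, ← mul_pow,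
        hab, one_pow, one_mul]]
    exact pow_mem (Algebra.self_mem_adjoin_singleton R b) _

theorem sup_eq : (Algebra.adjoin R {a}).toSubmodule ⊔ (Algebra.adjoin R {b}).toSubmodule =
    (Algebra.adjoin R {a, b}).toSubmodule := by
  refine le_antisymm (sup_le ?_ ?_) ?_
  · exact Algebra.adjoin_mono (by simp)
  · exact Algebra.adjoin_mono (by simp)
  · intro z hz
    have key : ∀ F : MvPolynomial (Fin 2) R, MvPolynomial.aeval ![a, b] F ∈
        (Algebra.adjoin R {a}).toSubmodule ⊔ (Algebra.adjoin R {b}).toSubmodule := by
      intro F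
      induction F using MvPolynomial.induction_on' with
      | monomial d r =>
        rw [MvPolynomial.aeval_monomial, Finsupp.prod_fintype _ _ (fun i => pow_zero _),
          Fin.prod_univ_two, ← Algebra.smul_def]
        exact Submodule.smul_mem _ r (pow_mul_pow_mem hab (d 0) (d 1))
      | add p q hp hq => rw [map_add]; exact add_mem hp hq
    have hr : Set.range ![a, b] = {a, b} := by simp [Matrix.range_cons, Set.pair_comm]
    have h' : z ∈ Algebra.adjoin R (Set.range ![a, b]) := hr.symm ▸ hz
    rw [Algebra.adjoin_range_eq_range_aeval] at h'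
    obtain ⟨F, rfl⟩ := (AlgHom.mem_range _).mp h'
    exact key F

end

/-- Let R be a ring and x, y ∈ R nonzerodivisors. In the localization R_{xy} let a = x/y and b = y/x,
and let R[a], R[b], R[a, b] be the R-subalgebras they generate. If R is integrally closed in R_x or
in R_y, then the sequence 0 → R → R[a] ⊕ R[b] → R[a, b] → 0 (difference map, then sum map) is short
exact; equivalently R[a] ∩ R[b] is the image of R and R[a] + R[b] = R[a, b] inside R_{xy}. -/
theorem result {R : Type u} [CommRing R] (x y : R) (hx : x ∈ nonZeroDivisors R) (hy : y ∈ nonZeroDivisors R)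
    (hint : IsIntegrallyClosedIn R (Localization.Away x) ∨ IsIntegrallyClosedIn R (Localization.Away y)) :
    (Algebra.adjoin R {algebraMap R (Localization.Away (x * y)) (x * x) * IsLocalization.Away.invSelf (x * y)}).toSubmodule ⊓
        (Algebra.adjoin R {algebraMap R (Localization.Away (x * y)) (y * y) * IsLocalization.Away.invSelf (x * y)}).toSubmodule =
        (⊥ : Subalgebra R (Localization.Away (x * y))).toSubmodule ∧
      (Algebra.adjoin R {algebraMap R (Localization.Away (x * y)) (x * x) * IsLocalization.Away.invSelf (x * y)}).toSubmodule ⊔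
        (Algebra.adjoin R {algebraMap R (Localization.Away (x * y)) (y * y) * IsLocalization.Away.invSelf (x * y)}).toSubmodule =
        (Algebra.adjoin R {algebraMap R (Localization.Away (x * y)) (x * x) * IsLocalization.Away.invSelf (x * y), algebraMap R (Localization.Away (x * y)) (y * y) * IsLocalization.Away.invSelf (x * y)}).toSubmodule := by
  let L := Localization.Away (x * y)
  let a : L := algebraMap R L (x * x) * IsLocalization.Away.invSelf (x * y)
  let b : L := algebraMap R L (y * y) * IsLocalization.Away.invSelf (x * y)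
  have hinv : algebraMap R L (x * y) * IsLocalization.Away.invSelf (x * y) = 1 :=
    IsLocalization.Away.mul_invSelf _
  have hab : a * b = 1 := by
    calc a * b = (algebraMap R L (x * y) * IsLocalization.Away.invSelf (x * y)) ^ 2 := by
          simp only [a, b, map_mul]; ring
      _ = 1 := by rw [hinv, one_pow]
  refine ⟨le_antisymm ?_ (le_inf (fun z hz => ?_) (fun z hz => ?_)), sup_eq hab⟩
  rotate_left
  · exact (bot_le : (⊥ : Subalgebra R L) ≤ Algebra.adjoin R {a}) hz
  · exact (bot_le : (⊥ : Subalgebra R L) ≤ Algebra.adjoin R {b}) hz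
  rintro z ⟨hza, hzb⟩
  have hz : IsIntegral R z := isIntegral_of_mem_both hab hza hzb
  show z ∈ (⊥ : Subalgebra R L)
  -- the general argument: `u` is one of `x, y` and `c` the corresponding fraction with power of `u` below
  have main : ∀ u v : R, v ∈ nonZeroDivisors R → u * v = x * y →
      IsIntegrallyClosedIn R (Localization.Away u) →
      z ∈ Algebra.adjoin R {algebraMap R L (v * v) * IsLocalization.Away.invSelf (x * y)} →
      z ∈ (⊥ : Subalgebra R L) := by
    intro u v hv huv hic hzv
    let Lu := Localization.Away u
    have hu : IsUnit (algebraMap R L u) := isUnit_of_dvd_unit (map_dvd _ (Dvd.intro v huv))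
      (IsLocalization.Away.algebraMap_isUnit (x * y))
    let φ : Lu →ₐ[R] L := IsLocalization.liftAlgHom (M := Submonoid.powers u) (f := Algebra.ofId R L)
      fun w => by obtain ⟨n, hn⟩ := w.2; rw [← hn, map_pow]; exact hu.pow n
    have hφ : Function.Injective φ := by
      rw [injective_iff_map_eq_zero]
      intro w hw
      obtain ⟨r, s, rfl⟩ := IsLocalization.exists_mk'_eq (Submonoid.powers u) w
      have h1 : algebraMap R L r = 0 := by
        rw [← φ.commutes r, ← IsLocalization.mk'_spec Lu r s, map_mul, hw, zero_mul]
      obtain ⟨⟨_, n, rfl⟩, hn⟩ := (IsLocalization.map_eq_zero_iff (Submonoid.powers (x * y)) L r).mp h1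
      refine (IsLocalization.mk'_eq_zero_iff r s).mpr ⟨⟨u ^ n, n, rfl⟩, ?_⟩
      change u ^ n * r = 0
      have h2 : v ^ n * (u ^ n * r) = 0 := by rw [← mul_assoc, ← mul_pow, mul_comm v u, huv]; exact hn
      exact (mul_left_mem_nonZeroDivisors_eq_zero_iff (pow_mem hv n)).mp h2
    have hvu : algebraMap R L (v * v) * IsLocalization.Away.invSelf (x * y) =
        φ (algebraMap R Lu v * IsLocalization.Away.invSelf u) := by
      have e1 : algebraMap R L u * φ (IsLocalization.Away.invSelf u) = 1 := by
        rw [← φ.commutes u, ← map_mul, IsLocalization.Away.mul_invSelf, map_one]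
      rw [map_mul φ, φ.commutes]
      refine hu.mul_left_cancel ?_
      calc algebraMap R L u * (algebraMap R L (v * v) * IsLocalization.Away.invSelf (x * y))
          = algebraMap R L v * (algebraMap R L (x * y) * IsLocalization.Away.invSelf (x * y)) := by
            have hxy : algebraMap R L (x * y) = algebraMap R L u * algebraMap R L v := by
              rw [← map_mul, huv]
            rw [hxy, map_mul]; ring
        _ = algebraMap R L v * (algebraMap R L u * φ (IsLocalization.Away.invSelf u)) := by
            rw [hinv, e1]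
        _ = _ := by ring
    rw [hvu, ← Set.image_singleton (f := φ), ← AlgHom.map_adjoin] at hzv
    obtain ⟨w, -, rfl⟩ := hzv
    obtain ⟨r, rfl⟩ := (isIntegrallyClosedIn_iff.mp hic).2 ((isIntegral_algHom_iff φ hφ).mp hz)
    exact ⟨r, (φ.commutes r).symm⟩
  rcases hint with h | h
  · exact main x y hy rfl h hzb
  · exact main y x hx (mul_comm y x) h hza

end Groth.Agent.S9654
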