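import Groth.Statements.S9655
import Mathlib.RingTheory.EssentialFiniteness
import Mathlib.RingTheory.Valuation.LocalSubring
import Mathlib.RingTheory.LocalRing.ResidueField.Basic
import Mathlib.Algebra.MvPolynomial.Equiv
import Mathlib.RingTheory.MvPolynomial.Tower

set_option autoImplicit false
universe u
open CAlg

namespace Groth.Agent.S9655

/-- Let R and S be local rings and R → S a ring map, not necessarily local, that is essentially of
finite type. Then for some n there is a maximal ideal m of the polynomial ring R[x_1, …, x_n] lying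
over the maximal ideal of R, together with an R-algebra map φ : R[x_1, …, x_n]_m → S making S a
localization of the image of φ; thus S arises from R[x_1, …, x_n]_m by passing to a quotient and
then localizing. -/
theorem result {R S : Type u} [CommRing R] [CommRing S] [Algebra R S] [IsLocalRing R] [IsLocalRing S] [Algebra.EssFiniteType R S] :
    ∃ (n : ℕ) (m : Ideal (MvPolynomial (Fin n) R)) (_ : m.IsMaximal), m.under R = IsLocalRing.maximalIdeal R ∧
      ∃ (φ : Localization.AtPrime m →ₐ[R] S) (T : Submonoid φ.range), IsLocalization T S := by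
  classical
  let T₀ := Algebra.EssFiniteType.finset R S
  let N := T₀.card
  let x : Fin N → S := fun i => (T₀.equivFin.symm i : S)
  let res : S →+* IsLocalRing.ResidueField S := IsLocalRing.residue S
  let κR : R →+* IsLocalRing.ResidueField S := res.comp (algebraMap R S)
  obtain ⟨V, hV⟩ := (LocalSubring.range κR).exists_le_valuationSubring
  have hVR : ∀ r : R, κR r ∈ V := fun r => hV.1 ⟨r, rfl⟩
  have hVm : ∀ r ∈ IsLocalRing.maximalIdeal R, (⟨κR r, hVR r⟩ : V) ∈ IsLocalRing.maximalIdeal V := by
    intro r hr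
    rw [IsLocalRing.mem_maximalIdeal, mem_nonunits_iff]
    intro hu
    haveI := hV.2
    have h1 := isUnit_of_map_unit (Subring.inclusion hV.1) (⟨κR r, ⟨r, rfl⟩⟩) hu
    haveI : IsLocalHom κR.rangeRestrict := IsLocalHom.of_surjective _ κR.rangeRestrict_surjective
    have h2 : IsUnit r := isUnit_of_map_unit κR.rangeRestrict r h1
    exact (IsLocalRing.mem_maximalIdeal r).mp hr h2
  let x' : Fin N → S := fun i => if res (x i) ∈ V then x i else Ring.inverse (x i)
  have hunit : ∀ i, res (x i) ∉ V → IsUnit (x i) := fun i hi => by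
    by_contra h
    have h0 : res (x i) = 0 := (IsLocalRing.residue_eq_zero_iff _).mpr h
    exact hi (h0 ▸ V.zero_mem)
  have hx'V : ∀ i, res (x' i) ∈ V := fun i => by
    by_cases hi : res (x i) ∈ V
    · simp [x', hi]
    · simp only [x', hi, ↓reduceIte]
      obtain ⟨u, hu⟩ := hunit i hi
      rw [← hu, Ring.inverse_unit, map_units_inv res u, hu]
      exact (V.mem_or_inv_mem _).resolve_left hi
  let π : MvPolynomial (Fin N) R →ₐ[R] S := MvPolynomial.aeval x'
  let τ : MvPolynomial (Fin N) R →+* V :=
    MvPolynomial.eval₂Hom (κR.codRestrict V hVR) (fun i => ⟨res (x' i), hx'V i⟩)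
  have hτ : ∀ P, ((τ P : V) : IsLocalRing.ResidueField S) = res (π P) := by
    intro P
    have : V.subtype.comp τ = res.comp π.toRingHom := by
      refine MvPolynomial.ringHom_ext (fun r => ?_) (fun i => ?_)
      · simp [τ, π, κR]
      · simp [τ, π]
    exact DFunLike.congr_fun this P
  let q : Ideal (MvPolynomial (Fin N) R) := (IsLocalRing.maximalIdeal V).comap τ
  obtain ⟨m, hm, hqm⟩ := Ideal.exists_le_maximal q (Ideal.comap_ne_top _ (IsLocalRing.maximalIdeal.isMaximal V).ne_top)
  have hunder : m.under R = IsLocalRing.maximalIdeal R := by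
    refine ((IsLocalRing.maximalIdeal.isMaximal R).eq_of_le (Ideal.comap_ne_top _ hm.ne_top) ?_).symm
    intro r hr
    refine hqm ?_
    show τ (MvPolynomial.C r) ∈ IsLocalRing.maximalIdeal V
    rw [MvPolynomial.eval₂Hom_C]
    exact hVm r hr
  have hπu : ∀ P, P ∉ m → IsUnit (π P) := by
    intro P hP
    have h1 : IsUnit (τ P) := by
      by_contra h
      exact hP (hqm ((IsLocalRing.mem_maximalIdeal _).mpr h))
    by_contra h
    have h2 : res (π P) = 0 := (IsLocalRing.residue_eq_zero_iff _).mpr h
    exact (h1.map V.subtype).ne_zero ((hτ P).trans h2)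
  let φ : Localization.AtPrime m →ₐ[R] S :=
    IsLocalization.liftAlgHom (M := m.primeCompl) (f := π) (fun P => hπu P P.2)
  have hπφ : ∀ P, π P ∈ φ.range := fun P =>
    ⟨algebraMap _ (Localization.AtPrime m) P, IsLocalization.lift_eq _ _⟩
  refine ⟨N, m, hm, hunder, φ, (IsUnit.submonoid S).comap (algebraMap φ.range S), ?_⟩
  let E : Subalgebra R S :=
    { carrier := {s | ∃ t ∈ φ.range, IsUnit t ∧ s * t ∈ φ.range}
      mul_mem' := by
        rintro a b ⟨t, ht, htu, hat⟩ ⟨t', ht', htu', hbt⟩
        refine ⟨t * t', φ.range.mul_mem ht ht', htu.mul htu', ?_⟩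
        rw [mul_mul_mul_comm]
        exact φ.range.mul_mem hat hbt
      add_mem' := by
        rintro a b ⟨t, ht, htu, hat⟩ ⟨t', ht', htu', hbt⟩
        refine ⟨t * t', φ.range.mul_mem ht ht', htu.mul htu', ?_⟩
        rw [show (a + b) * (t * t') = a * t * t' + b * t' * t by ring]
        exact φ.range.add_mem (φ.range.mul_mem hat ht') (φ.range.mul_mem hbt ht)
      algebraMap_mem' := fun r => ⟨1, φ.range.one_mem, isUnit_one, by
        rw [mul_one]; exact φ.range.algebraMap_mem r⟩ }
  have hE : ∀ s ∈ T₀, s ∈ E := by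
    intro s hs
    obtain ⟨i, rfl⟩ : ∃ i, x i = s := ⟨T₀.equivFin ⟨s, hs⟩, by simp [x]⟩
    by_cases hi : res (x i) ∈ V
    · refine ⟨1, φ.range.one_mem, isUnit_one, ?_⟩
      rw [mul_one, show x i = π (MvPolynomial.X i) by simp [π, x', hi]]
      exact hπφ _
    · refine ⟨π (MvPolynomial.X i), hπφ _, ?_, ?_⟩
      · simp only [π, MvPolynomial.aeval_X, x', hi, ↓reduceIte]
        exact (hunit i hi).ringInverse
      · rw [show x i * π (MvPolynomial.X i) = 1 by
          simp only [π, MvPolynomial.aeval_X, x', hi, ↓reduceIte]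
          exact Ring.mul_inverse_cancel _ (hunit i hi)]
        exact φ.range.one_mem
  rw [isLocalization_iff]
  refine ⟨fun t => t.2, fun s => ?_, fun {a b} h => ⟨1, by rw [Subtype.ext h]⟩⟩
  have hcond := (Algebra.EssFiniteType.isLocalization R S)
  obtain ⟨⟨a, b⟩, hab⟩ := IsLocalization.surj (Algebra.EssFiniteType.submonoid R S) s
  have ha : (a : S) ∈ E := (Algebra.adjoin_le hE) a.2
  have hb : ((b : Algebra.EssFiniteType.subalgebra R S) : S) ∈ E := (Algebra.adjoin_le hE) b.1.2
  obtain ⟨t, ht, htu, hta⟩ := ha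
  obtain ⟨t', ht', htu', htb⟩ := hb
  refine ⟨⟨⟨(a : S) * t * t', φ.range.mul_mem hta ht'⟩,
    ⟨⟨((b : Algebra.EssFiniteType.subalgebra R S) : S) * t' * t, φ.range.mul_mem htb ht⟩,
      (b.2.mul htu').mul htu⟩⟩, ?_⟩
  show s * (((b : Algebra.EssFiniteType.subalgebra R S) : S) * t' * t) = (a : S) * t * t'
  have hab' : s * ((b : Algebra.EssFiniteType.subalgebra R S) : S) = (a : S) := hab
  linear_combination (t * t') * hab'

end Groth.Agent.S9655
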