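import Groth.Statements.S9656
import Mathlib.Algebra.Polynomial.Lifts
import Mathlib.RingTheory.IntegralClosure.Algebra.Basic
import Mathlib.Algebra.BigOperators.Pi

set_option autoImplicit false
universe u
open CAlg

namespace Groth.Agent.S9656

/-- Let R_i → S_i be ring maps indexed by a finite type ι, with product map R = Π R_i → S = Π S_i. Then
an element (s_i) of S is integral over R exactly when s_i is integral over R_i for every i; so
integral closure in a finite product is computed factor by factor. -/
theorem result {ι : Type u} [Fintype ι] {R S : ι → Type u} [∀ i, CommRing (R i)] [∀ i, CommRing (S i)] (f : ∀ i, R i →+* S i) (s : ∀ i, S i) :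
    (RingHom.pi fun i => (f i).comp (Pi.evalRingHom R i)).IsIntegralElem s ↔ ∀ i, (f i).IsIntegralElem (s i) := by
  constructor
  · rintro ⟨P, hP, hs⟩ i
    refine ⟨P.map (Pi.evalRingHom R i), hP.map _, ?_⟩
    have := congr_arg (Pi.evalRingHom S i) hs
    rw [Polynomial.hom_eval₂, map_zero] at this
    rw [Polynomial.eval₂_map]
    exact this
  · intro h
    classical
    rw [show s = ∑ i, Pi.single i (s i) from (Finset.univ_sum_single s).symm]
    refine Finset.sum_induction _ _ (fun a b => RingHom.IsIntegralElem.add _)
      (RingHom.isIntegralElem_zero _) ?_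
    intro i _
    obtain ⟨p, hp, hps⟩ := h i
    obtain ⟨q, hq, -, hqm⟩ := Polynomial.lifts_and_natDegree_eq_and_monic
      (f := Pi.evalRingHom R i) (p := p) (by
        rw [Polynomial.lifts_iff_coeff_lifts]
        exact fun n => ⟨Pi.single i (p.coeff n), by simp⟩) hp
    refine ⟨q * Polynomial.X, hqm.mul Polynomial.monic_X, ?_⟩
    funext j
    have := Polynomial.hom_eval₂ (q * Polynomial.X)
      (RingHom.pi fun i => (f i).comp (Pi.evalRingHom R i)) (Pi.evalRingHom S j) (Pi.single i (s i))
    refine this.trans ?_
    rw [Polynomial.eval₂_mul, Polynomial.eval₂_X]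
    by_cases hij : j = i
    · subst hij
      have e : (Pi.evalRingHom S j).comp (RingHom.pi fun i => (f i).comp (Pi.evalRingHom R i))
          = (f j).comp (Pi.evalRingHom R j) := rfl
      rw [e, ← Polynomial.eval₂_map, hq]
      simp [hps]
    · simp [hij]

end Groth.Agent.S9656
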