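import Groth.Statements.S9657
import Groth.Agent.H02CA.GeomIrred

set_option autoImplicit false
universe u
open CAlg

namespace Groth.Agent.S9657

open TensorProduct in
/-- The comparison map is injective, and becomes surjective after inverting units. -/
theorem aux {k K : Type u} [Field k] [Field K] [Algebra k K]
    {kt Kt : Type u} [Field kt] [Field Kt] [Algebra (Polynomial k) kt]
    [IsFractionRing (Polynomial k) kt] [Algebra (Polynomial K) Kt]
    [IsFractionRing (Polynomial K) Kt] [Algebra kt Kt] [Algebra k kt]
    (hk : ∀ a : k, algebraMap k kt a = algebraMap (Polynomial k) kt (Polynomial.C a))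
    (hcompat : ∀ p : Polynomial k, algebraMap kt Kt (algebraMap (Polynomial k) kt p) =
      algebraMap (Polynomial K) Kt (Polynomial.map (algebraMap k K) p))
    (L : Type u) [Field L] [Algebra kt L] [Algebra k L] [IsScalarTower k kt L] :
    ∃ φ : L ⊗[k] K →+* L ⊗[kt] Kt, Function.Injective φ ∧
      ∀ b, ∃ u, IsUnit u ∧ b * u ∈ φ.range := by
  classical
  letI : Algebra k Kt := ((algebraMap kt Kt).comp (algebraMap k kt)).toAlgebra
  haveI : IsScalarTower k kt Kt := IsScalarTower.of_algebraMap_eq fun _ => rfl
  let ι : K →ₐ[k] Kt :=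
    { (algebraMap (Polynomial K) Kt).comp (Polynomial.C : K →+* Polynomial K) with
      commutes' := fun a => by
        change algebraMap (Polynomial K) Kt (Polynomial.C (algebraMap k K a)) =
          algebraMap kt Kt (algebraMap k kt a)
        rw [hk, hcompat, Polynomial.map_C] }
  have hι : ∀ a, ι a = algebraMap (Polynomial K) Kt (Polynomial.C a) := fun _ => rfl
  let ψ : kt ⊗[k] K →ₐ[kt] Kt :=
    Algebra.TensorProduct.lift (Algebra.ofId kt Kt) ι (fun _ _ => Commute.all _ _)
  let b := Module.Basis.ofVectorSpace k K
  have hinj0 : Function.Injective (algebraMap (Polynomial K) Kt) := IsFractionRing.injective _ _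
  have hli : LinearIndependent kt (fun i => ι (b i)) := by
    rw [linearIndependent_iff']
    intro s g hg
    obtain ⟨d, hd⟩ := IsLocalization.exist_integer_multiples (nonZeroDivisors (Polynomial k)) s g
    choose p hp using hd
    have hd0 : algebraMap (Polynomial k) kt d.1 ≠ 0 :=
      IsFractionRing.to_map_ne_zero_of_mem_nonZeroDivisors d.2
    have hsum : ∑ i ∈ s.attach, Polynomial.map (algebraMap k K) (p i.1 i.2) * Polynomial.C (b i.1) = 0 := by
      apply hinj0
      rw [map_zero, map_sum]
      calc ∑ i ∈ s.attach, algebraMap (Polynomial K) Kt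
            (Polynomial.map (algebraMap k K) (p i.1 i.2) * Polynomial.C (b i.1))
          = ∑ i ∈ s.attach, algebraMap kt Kt (algebraMap (Polynomial k) kt d.1) * (g i.1 • ι (b i.1)) := by
            refine Finset.sum_congr rfl fun i _ => ?_
            rw [map_mul, ← hcompat, hp i.1 i.2, Algebra.smul_def, map_mul, hι, Algebra.smul_def,
              mul_assoc]
        _ = 0 := by
            rw [← Finset.mul_sum, Finset.sum_attach s (fun i => g i • ι (b i)), hg, mul_zero]
    intro i hi
    have hp0 : p i hi = 0 := by
      ext n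
      have hn : ∑ j ∈ s.attach, (p j.1 j.2).coeff n • b j.1 = 0 := by
        simpa [Algebra.smul_def, Polynomial.finsetSum_coeff] using
          congrArg (fun q => Polynomial.coeff q n) hsum
      have := b.linearIndependent.comp (fun j : s => j.1) Subtype.val_injective
      rw [linearIndependent_iff'] at this
      simpa using this s.attach (fun j => (p j.1 j.2).coeff n) hn ⟨i, hi⟩ (Finset.mem_attach _ _)
    have := hp i hi
    rw [hp0, map_zero, Algebra.smul_def] at this
    exact (mul_eq_zero.mp this.symm).resolve_left hd0
  have hψ : Function.Injective ψ := by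
    have h2 : ψ.toLinearMap = (Finsupp.linearCombination kt (fun i => ι (b i))) ∘ₗ
        (Algebra.TensorProduct.basis kt b).repr.toLinearMap := by
      apply (Algebra.TensorProduct.basis kt b).ext
      intro i
      simp [ψ, Algebra.TensorProduct.basis_apply]
    change Function.Injective ψ.toLinearMap
    rw [h2, LinearMap.coe_comp]
    exact hli.finsuppLinearCombination_injective.comp (LinearEquiv.injective _)
  have hpoly : ∀ q : Polynomial K, algebraMap (Polynomial K) Kt q ∈ ψ.range := by
    intro q
    induction q using Polynomial.induction_on' with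
    | add a c ha hc => rw [map_add]; exact ψ.range.add_mem ha hc
    | monomial n a =>
      rw [← Polynomial.C_mul_X_pow_eq_monomial, map_mul, map_pow]
      have hX : algebraMap (Polynomial K) Kt Polynomial.X ∈ ψ.range :=
        ⟨algebraMap (Polynomial k) kt Polynomial.X ⊗ₜ 1, by simp [ψ, hcompat]⟩
      exact ψ.range.mul_mem ⟨1 ⊗ₜ a, by simp [ψ, hι]⟩ (pow_mem hX _)
  have hKt : ∀ y : Kt, ∃ d : Kt, d ≠ 0 ∧ d ∈ ψ.range ∧ y * d ∈ ψ.range := fun y => by
    obtain ⟨⟨a, c⟩, hac⟩ := IsLocalization.surj (nonZeroDivisors (Polynomial K)) y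
    exact ⟨algebraMap (Polynomial K) Kt c.1,
      IsFractionRing.to_map_ne_zero_of_mem_nonZeroDivisors c.2, hpoly _, hac ▸ hpoly a⟩
  let M := Algebra.TensorProduct.map (AlgHom.id kt L) ψ
  have hM : Function.Injective M :=
    Module.Flat.lTensor_preserves_injective_linearMap (M := L) ψ.toLinearMap hψ
  let e := Algebra.TensorProduct.cancelBaseChange k kt kt L K
  refine ⟨M.toRingHom.comp e.symm.toRingEquiv.toRingHom, hM.comp e.symm.injective, fun x => ?_⟩
  suffices H : ∃ u, IsUnit u ∧ u ∈ M.range ∧ x * u ∈ M.range by
    obtain ⟨u, hu, -, z, hz⟩ := H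
    refine ⟨u, hu, e z, ?_⟩
    simpa using hz
  induction x using TensorProduct.induction_on with
  | zero => exact ⟨1, isUnit_one, ⟨1, map_one M⟩, by simp [M.range.zero_mem]⟩
  | tmul l y =>
    obtain ⟨d, hd, ⟨z, hz⟩, ⟨z', hz'⟩⟩ := hKt y
    refine ⟨1 ⊗ₜ d, ?_, ⟨1 ⊗ₜ z, ?_⟩, ⟨l ⊗ₜ z', ?_⟩⟩
    · exact (isUnit_iff_ne_zero.mpr hd).map
        (Algebra.TensorProduct.includeRight : Kt →ₐ[kt] L ⊗[kt] Kt)
    · simp only [AlgHom.toRingHom_eq_coe, RingHom.coe_coe] at hz ⊢
      simp [M, hz]
    · simp only [AlgHom.toRingHom_eq_coe, RingHom.coe_coe] at hz' ⊢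
      simp [M, hz']
  | add x y hx hy =>
    obtain ⟨u, hu, hu', hxu⟩ := hx
    obtain ⟨v, hv, hv', hyv⟩ := hy
    refine ⟨u * v, hu.mul hv, M.range.mul_mem hu' hv', ?_⟩
    rw [show (x + y) * (u * v) = (x * u) * v + (y * v) * u by ring]
    exact M.range.add_mem (M.range.mul_mem hxu hv') (M.range.mul_mem hyv hu')

open TensorProduct in
/-- Let K/k be a field extension and let k(t) ⊆ K(t) be the purely transcendental extensions in one
variable, realised as fraction fields of k[t] and K[t] compatibly with k[t] → K[t]. Then K is
geometrically irreducible over k (Spec(k' ⊗_k K) irreducible for every field extension k'/k) if and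
only if K(t) is geometrically irreducible over k(t). Here the test fields range over field
extensions of k, respectively of k(t), in the universe of k; this is equivalent to the unrestricted
notions, since an algebraic closure of the base field suffices as a test. -/
theorem result {k K : Type u} [Field k] [Field K] [Algebra k K]
    (kt Kt : Type u) [Field kt] [Field Kt] [Algebra (Polynomial k) kt] [IsFractionRing (Polynomial k) kt] [Algebra (Polynomial K) Kt] [IsFractionRing (Polynomial K) Kt]
    [Algebra kt Kt] (hcompat : ∀ p : Polynomial k, algebraMap kt Kt (algebraMap (Polynomial k) kt p) = algebraMap (Polynomial K) Kt (Polynomial.map (algebraMap k K) p)) :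
    (∀ (k' : Type u) [Field k'] [Algebra k k'], IrreducibleSpace (PrimeSpectrum (k' ⊗[k] K))) ↔
      ∀ (L : Type u) [Field L] [Algebra kt L], IrreducibleSpace (PrimeSpectrum (L ⊗[kt] Kt)) := by
  letI : Algebra k kt := ((algebraMap (Polynomial k) kt).comp Polynomial.C).toAlgebra
  have hk : ∀ a : k, algebraMap k kt a = algebraMap (Polynomial k) kt (Polynomial.C a) :=
    fun _ => rfl
  constructor
  · intro h L _ _
    letI : Algebra k L := ((algebraMap kt L).comp (algebraMap k kt)).toAlgebra
    haveI : IsScalarTower k kt L := IsScalarTower.of_algebraMap_eq fun _ => rfl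
    obtain ⟨φ, hφ, hu⟩ := aux hk hcompat L
    exact H02CA.GeomIrred.irreducibleSpace_of_injective_of_units φ hφ hu (h L)
  · intro h k' _ _
    let L := FractionRing (Polynomial k')
    let f : Polynomial k →+* L :=
      (algebraMap (Polynomial k') L).comp (Polynomial.mapRingHom (algebraMap k k'))
    have hf : Function.Injective f :=
      (IsFractionRing.injective (Polynomial k') L).comp
        (Polynomial.map_injective _ (algebraMap k k').injective)
    letI : Algebra kt L := (IsFractionRing.lift hf : kt →+* L).toAlgebra
    haveI : IsScalarTower k kt L := IsScalarTower.of_algebraMap_eq fun a => by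
      rw [hk, RingHom.algebraMap_toAlgebra, IsFractionRing.lift_algebraMap]
      simp [f, IsScalarTower.algebraMap_apply k (Polynomial k') L, Polynomial.algebraMap_eq,
        Polynomial.algebraMap_def]
    obtain ⟨φ, hφ, -⟩ := aux hk hcompat L
    exact H02CA.GeomIrred.irreducibleSpace_of_injective
      (φ.comp (Algebra.TensorProduct.map (IsScalarTower.toAlgHom k k' L) (AlgHom.id k K)).toRingHom)
      (hφ.comp (Module.Flat.rTensor_preserves_injective_linearMap _ (algebraMap k' L).injective))
      (h L)

end Groth.Agent.S9657
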