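import Groth.Statements.S9658
import Mathlib.RingTheory.Ideal.Maximal
import Mathlib.Tactic.Module
import Mathlib.Algebra.BigOperators.Finsupp.Basic
import Mathlib.RingTheory.Ideal.Operations

set_option autoImplicit false
universe u
open CAlg

namespace Groth.Agent.S9658

/-- Let R be a ring, f_1, …, f_n ∈ R generating the unit ideal and M an R-module. With M_i = M_{f_i},
M_ij = M_{f_i f_j} (any localizations, with the canonical compatible maps M → M_i → M_ij), the
sequence 0 → M → ⊕ M_i → ⊕ M_ij is exact: an element of M whose image vanishes in every M_i is zero,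
and every family (m_i ∈ M_i) such that m_i and m_j have the same image in M_ij for all i, j is the
image of an element of M. -/
theorem result {R : Type u} [CommRing R] {ι : Type u} [Fintype ι] (f : ι → R) (hf : Ideal.span (Set.range f) = ⊤)
    (M : Type u) [AddCommGroup M] [Module R M]
    (Mi : ι → Type u) [∀ i, AddCommGroup (Mi i)] [∀ i, Module R (Mi i)] (g : ∀ i, M →ₗ[R] Mi i) [∀ i, IsLocalizedModule (Submonoid.powers (f i)) (g i)]
    (Mij : ι → ι → Type u) [∀ i j, AddCommGroup (Mij i j)] [∀ i j, Module R (Mij i j)] (gij : ∀ i j, M →ₗ[R] Mij i j) [∀ i j, IsLocalizedModule (Submonoid.powers (f i * f j)) (gij i j)]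
    (ρ₁ : ∀ i j, Mi i →ₗ[R] Mij i j) (hρ₁ : ∀ i j, ρ₁ i j ∘ₗ g i = gij i j) (ρ₂ : ∀ i j, Mi j →ₗ[R] Mij i j) (hρ₂ : ∀ i j, ρ₂ i j ∘ₗ g j = gij i j) :
    (∀ m : M, (∀ i, g i m = 0) → m = 0) ∧
      ∀ s : ∀ i, Mi i, (∀ i j, ρ₁ i j (s i) = ρ₂ i j (s j)) → ∃ m : M, ∀ i, g i m = s i := by
  classical
  have hpow : ∀ K : ℕ, ∃ a : ι → R, ∑ i, a i * f i ^ K = 1 := fun K => by
    have h := Ideal.span_pow_eq_top (Set.range f) hf K
    rw [← Set.range_comp] at h
    exact Ideal.mem_span_range_iff_exists_fun.mp ((Ideal.eq_top_iff_one _).mp h)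
  have part1 : ∀ m : M, (∀ i, g i m = 0) → m = 0 := by
    intro m hm
    have h1 : ∀ i, ∃ n : ℕ, f i ^ n • m = 0 := fun i => by
      obtain ⟨⟨_, n, rfl⟩, hn⟩ := (IsLocalizedModule.eq_zero_iff (Submonoid.powers (f i)) (g i)).mp (hm i)
      exact ⟨n, hn⟩
    choose n hn using h1
    let K := Finset.univ.sup n
    have hn' : ∀ i, f i ^ K • m = 0 := fun i => by
      rw [← Nat.sub_add_cancel (show n i ≤ K from Finset.le_sup (Finset.mem_univ i)), pow_add,
        mul_smul, hn, smul_zero]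
    obtain ⟨a, ha⟩ := hpow K
    calc m = (∑ i, a i * f i ^ K) • m := by rw [ha, one_smul]
      _ = 0 := by rw [Finset.sum_smul]; simp [mul_smul, hn']
  refine ⟨part1, fun s hs => ?_⟩
  have h1 : ∀ i, ∃ (n : ℕ) (m : M), f i ^ n • s i = g i m := fun i => by
    obtain ⟨⟨m, ⟨_, n, rfl⟩⟩, hm⟩ := IsLocalizedModule.surj (Submonoid.powers (f i)) (g i) (s i)
    exact ⟨n, m, hm⟩
  choose n₀ m₀ hm₀ using h1
  let n : ℕ := Finset.univ.sup n₀
  let m : ι → M := fun i => f i ^ (n - n₀ i) • m₀ i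
  have hm : ∀ i, f i ^ n • s i = g i (m i) := fun i => by
    simp only [m, map_smul, ← hm₀, smul_smul, ← pow_add]
    rw [Nat.sub_add_cancel (Finset.le_sup (Finset.mem_univ i))]
  have h2 : ∀ i j, ∃ N : ℕ, (f i * f j) ^ N • (f j ^ n • m i - f i ^ n • m j) = 0 := fun i j => by
    have : gij i j (f j ^ n • m i - f i ^ n • m j) = 0 := by
      have e1 : gij i j (m i) = f i ^ n • ρ₁ i j (s i) := by
        rw [← map_smul, hm, ← hρ₁ i j]; rfl
      have e2 : gij i j (m j) = f j ^ n • ρ₂ i j (s j) := by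
        rw [← map_smul, hm, ← hρ₂ i j]; rfl
      clear_value m
      rw [map_sub, LinearMap.map_smul, LinearMap.map_smul, e1, e2, hs i j, smul_smul, smul_smul, mul_comm, sub_self]
    obtain ⟨⟨_, N, rfl⟩, hN⟩ := (IsLocalizedModule.eq_zero_iff (Submonoid.powers (f i * f j)) (gij i j)).mp this
    exact ⟨N, hN⟩
  choose N₀ hN₀ using h2
  let N : ℕ := Finset.univ.sup (fun p : ι × ι => N₀ p.1 p.2)
  have hN : ∀ i j, (f i * f j) ^ N • (f j ^ n • m i - f i ^ n • m j) = 0 := fun i j => by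
    rw [← Nat.sub_add_cancel (show N₀ i j ≤ N from
      Finset.le_sup (f := fun p : ι × ι => N₀ p.1 p.2) (Finset.mem_univ (i, j))), pow_add, mul_smul,
      hN₀, smul_zero]
  have key : ∀ i j, f j ^ (n + N) • (f i ^ N • m i) = f i ^ (n + N) • (f j ^ N • m j) := fun i j => by
    rw [← sub_eq_zero, ← hN i j, smul_sub, smul_smul, smul_smul, smul_smul, smul_smul, mul_pow,
      pow_add, pow_add]
    match_scalars <;> ring
  obtain ⟨a, ha⟩ := hpow (n + N)
  refine ⟨∑ i, a i • (f i ^ N • m i), fun j => ?_⟩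
  have e : f j ^ (n + N) • ∑ i, a i • (f i ^ N • m i) = f j ^ N • m j := by
    calc f j ^ (n + N) • ∑ i, a i • (f i ^ N • m i)
        = ∑ i, a i • (f j ^ (n + N) • (f i ^ N • m i)) := by
          rw [Finset.smul_sum]; exact Finset.sum_congr rfl fun i _ => smul_comm _ _ _
      _ = ∑ i, (a i * f i ^ (n + N)) • (f j ^ N • m j) := by
          exact Finset.sum_congr rfl fun i _ => by rw [key i j, smul_smul]
      _ = f j ^ N • m j := by rw [← Finset.sum_smul, ha, one_smul]
  have := congr_arg (g j) e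
  rw [map_smul, map_smul, ← hm, smul_smul, ← pow_add, add_comm N n] at this
  exact ((Module.End.isUnit_iff _).mp
    (IsLocalizedModule.map_units (g j) (⟨_, n + N, rfl⟩ : Submonoid.powers (f j)))).1 this

end Groth.Agent.S9658
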