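import Groth.Statements.S9659
import Mathlib.RingTheory.GradedAlgebra.Radical
import Mathlib.RingTheory.Spectrum.Prime.Topology

set_option autoImplicit false
universe u
open CAlg

namespace Groth.Agent.S9659

/-- Let S be a ℤ-graded ring which contains an invertible homogeneous element of positive degree. Then
the set of homogeneous prime ideals of S, with the topology induced from Spec(S), maps
homeomorphically onto Spec(S₀) by p ↦ p ∩ S₀. -/
theorem result {R S : Type u} [CommRing R] [CommRing S] [Algebra R S] (𝒜 : ℤ → Submodule R S) [GradedAlgebra 𝒜]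
    (f : S) (d : ℤ) (hd : 0 < d) (hf : f ∈ 𝒜 d) (hu : IsUnit f) :
    IsHomeomorph (fun p : {p : PrimeSpectrum S // p.asIdeal.IsHomogeneous 𝒜} => PrimeSpectrum.comap (SetLike.GradeZero.subring 𝒜).subtype p.1) := by
  classical
  obtain ⟨g, hfg⟩ := hu.exists_right_inv
  have hg : g ∈ 𝒜 (-d) := by
    have h1 : ((DirectSum.decompose 𝒜 (f * g)) (d + -d) : S) = f * (DirectSum.decompose 𝒜 g (-d) : S) :=
      DirectSum.coe_decompose_mul_add_of_left_mem 𝒜 hf
    rw [hfg, add_neg_cancel, DirectSum.decompose_of_mem_same 𝒜 SetLike.GradedOne.one_mem] at h1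
    have e : g = (DirectSum.decompose 𝒜 g (-d) : S) := hu.mul_left_cancel (hfg.trans h1)
    rw [e]; exact SetLike.coe_mem _
  let u : Sˣ := ⟨f, g, hfg, by rw [mul_comm]; exact hfg⟩
  have hz : ∀ i : ℤ, ((u ^ i : Sˣ) : S) ∈ 𝒜 (d * i) := fun i => by
    induction i using Int.induction_on with
    | zero => rw [zpow_zero, mul_zero]; exact SetLike.GradedOne.one_mem
    | succ i ih => rw [zpow_add_one, mul_add, mul_one]; exact SetLike.GradedMul.mul_mem ih hf
    | pred i ih => rw [zpow_sub_one, mul_sub, mul_one, sub_eq_add_neg]; exact SetLike.GradedMul.mul_mem ih hg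
  obtain ⟨m, rfl⟩ : ∃ m : ℕ, d = m := ⟨d.toNat, (Int.toNat_of_nonneg hd.le).symm⟩
  have hm : m ≠ 0 := by omega
  let S₀ := SetLike.GradeZero.subring 𝒜
  have he : ∀ i : ℤ, ∀ a ∈ 𝒜 i, a ^ m * ((u ^ (-i) : Sˣ) : S) ∈ 𝒜 0 := fun i a ha => by
    have := SetLike.GradedMul.mul_mem (SetLike.pow_mem_graded (A := 𝒜) m ha) (hz (-i))
    rwa [nsmul_eq_mul, mul_neg, add_neg_cancel] at this
  have hiff : ∀ (p : Ideal S), p.IsPrime → ∀ (i : ℤ) (a : S) (ha : a ∈ 𝒜 i),
      a ∈ p ↔ (⟨_, he i a ha⟩ : S₀) ∈ p.comap S₀.subtype := fun p hp i a ha => by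
    show a ∈ p ↔ a ^ m * ((u ^ (-i) : Sˣ) : S) ∈ p
    rw [Ideal.mul_unit_mem_iff_mem _ (Units.isUnit _)]
    exact ⟨fun h => Ideal.pow_mem_of_mem _ h m (Nat.pos_of_ne_zero hm), fun h => hp.mem_of_pow_mem m h⟩
  have hmem : ∀ (p : {p : PrimeSpectrum S // p.asIdeal.IsHomogeneous 𝒜}) (x : S),
      x ∈ p.1.asIdeal ↔ ∀ i, (⟨_, he i _ (SetLike.coe_mem (DirectSum.decompose 𝒜 x i))⟩ : S₀) ∈ p.1.asIdeal.comap S₀.subtype := fun p x => by
    refine ⟨fun h i => (hiff _ p.1.2 i _ (SetLike.coe_mem (DirectSum.decompose 𝒜 x i))).mp (p.2 i h), fun h => ?_⟩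
    rw [← DirectSum.sum_support_decompose 𝒜 x]
    exact Submodule.sum_mem _ fun i _ => (hiff _ p.1.2 i _ (SetLike.coe_mem (DirectSum.decompose 𝒜 x i))).mpr (h i)
  have hsurj : ∀ P : PrimeSpectrum S₀, ∃ p : {p : PrimeSpectrum S // p.asIdeal.IsHomogeneous 𝒜}, PrimeSpectrum.comap S₀.subtype p.1 = P := by
    intro P
    let I : Ideal S := P.asIdeal.map S₀.subtype
    have hJh : I.radical.IsHomogeneous 𝒜 := by
      refine Ideal.IsHomogeneous.radical (Ideal.homogeneous_span 𝒜 _ ?_)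
      rintro _ ⟨y, -, rfl⟩
      exact ⟨0, y.2⟩
    have hproj : ∀ z ∈ I, ∀ c : S, (⟨DirectSum.decompose 𝒜 (c * z) 0, SetLike.coe_mem _⟩ : S₀) ∈ P.asIdeal := by
      intro z hz
      induction hz using Submodule.span_induction with
      | mem y hy =>
        obtain ⟨y, hyP, rfl⟩ := hy
        intro c
        convert P.asIdeal.mul_mem_left ⟨DirectSum.decompose 𝒜 c 0, SetLike.coe_mem _⟩ hyP using 1
        exact Subtype.ext (DirectSum.coe_decompose_mul_of_right_mem_zero 𝒜 y.2)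
      | zero =>
        intro c
        have e : (⟨DirectSum.decompose 𝒜 (c * 0) 0, SetLike.coe_mem _⟩ : S₀) = 0 := Subtype.ext (by simp)
        rw [e]; exact P.asIdeal.zero_mem
      | add y y' _ _ h1 h2 =>
        intro c
        have e : (⟨DirectSum.decompose 𝒜 (c * (y + y')) 0, SetLike.coe_mem _⟩ : S₀) =
            ⟨DirectSum.decompose 𝒜 (c * y) 0, SetLike.coe_mem _⟩ + ⟨DirectSum.decompose 𝒜 (c * y') 0, SetLike.coe_mem _⟩ :=
          Subtype.ext (by show _ = (_ : S) + _; rw [mul_add, DirectSum.decompose_add]; rfl)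
        rw [e]; exact P.asIdeal.add_mem (h1 c) (h2 c)
      | smul a y _ h1 => intro c; simp only [smul_eq_mul, ← mul_assoc]; exact h1 (c * a)
    have hcomap : ∀ y : S₀, (y : S) ∈ I.radical ↔ y ∈ P.asIdeal := fun y => by
      refine ⟨fun ⟨n, hn⟩ => P.2.mem_of_pow_mem n ?_, fun h => Ideal.le_radical (Ideal.mem_map_of_mem _ h)⟩
      have := hproj _ hn 1
      convert this using 1
      refine Subtype.ext ?_
      simp only [one_mul, SubmonoidClass.coe_pow]
      exact (DirectSum.decompose_of_mem_same 𝒜 (y ^ n).2).symm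
    have hkey : ∀ (i : ℤ) (a : S) (ha : a ∈ 𝒜 i), a ∈ I.radical ↔ (⟨_, he i a ha⟩ : S₀) ∈ P.asIdeal := fun i a ha => by
      rw [← hcomap]
      show a ∈ I.radical ↔ a ^ m * ((u ^ (-i) : Sˣ) : S) ∈ I.radical
      rw [Ideal.mul_unit_mem_iff_mem _ (Units.isUnit _)]
      refine ⟨fun h => Ideal.pow_mem_of_mem _ h m (Nat.pos_of_ne_zero hm), fun h => ?_⟩
      obtain ⟨n, hn⟩ := h
      exact ⟨m * n, by rw [pow_mul]; exact hn⟩
    have hprime : I.radical.IsPrime := by
      refine hJh.isPrime_of_homogeneous_mem_or_mem (fun htop => ?_) ?_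
      · exact P.2.ne_top ((Ideal.eq_top_iff_one _).mpr ((hcomap 1).mp (htop ▸ Submodule.mem_top)))
      · rintro x y ⟨i, hi⟩ ⟨j, hj⟩ hxy
        rw [hkey _ _ hi, hkey _ _ hj]
        rw [hkey _ _ (SetLike.GradedMul.mul_mem hi hj)] at hxy
        refine P.2.mem_or_mem ?_
        convert hxy using 1
        refine Subtype.ext ?_
        show _ * _ * (_ * _) = (x * y) ^ m * ((u ^ (-(i + j)) : Sˣ) : S)
        rw [mul_pow, neg_add, zpow_add, Units.val_mul]; ring
    exact ⟨⟨⟨I.radical, hprime⟩, hJh⟩, PrimeSpectrum.ext (Ideal.ext hcomap)⟩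
  refine ⟨(PrimeSpectrum.continuous_comap _).comp continuous_subtype_val, ?_, ?_, hsurj⟩
  · rintro V ⟨W, hW, rfl⟩
    obtain ⟨s, rfl⟩ : ∃ s : Set S, (PrimeSpectrum.zeroLocus s)ᶜ = W := by
      obtain ⟨s, hs⟩ := (PrimeSpectrum.isOpen_iff W).mp hW
      exact ⟨s, by rw [← hs, compl_compl]⟩
    have e : (fun p : {p : PrimeSpectrum S // p.asIdeal.IsHomogeneous 𝒜} => PrimeSpectrum.comap S₀.subtype p.1) ''
        (Subtype.val ⁻¹' (PrimeSpectrum.zeroLocus s)ᶜ) =
        Set.range (fun p : {p : PrimeSpectrum S // p.asIdeal.IsHomogeneous 𝒜} => PrimeSpectrum.comap S₀.subtype p.1) ∩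
          (PrimeSpectrum.zeroLocus (Set.range fun xi : s × ℤ =>
            (⟨_, he xi.2 _ (SetLike.coe_mem (DirectSum.decompose 𝒜 (xi.1 : S) xi.2))⟩ : S₀)))ᶜ := by
      ext P
      constructor
      · rintro ⟨p, hp, rfl⟩
        refine ⟨⟨p, rfl⟩, fun h => hp fun x hx => (hmem p x).mpr fun i => h ⟨⟨⟨x, hx⟩, i⟩, rfl⟩⟩
      · rintro ⟨⟨p, rfl⟩, hP⟩
        refine ⟨p, fun h => hP ?_, rfl⟩
        rintro _ ⟨⟨⟨x, hx⟩, i⟩, rfl⟩
        exact (hmem p x).mp (h hx) i
    rw [e]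
    refine IsOpen.inter ?_ (PrimeSpectrum.isClosed_zeroLocus _).isOpen_compl
    convert isOpen_univ
    exact Set.eq_univ_of_forall fun P => hsurj P
  · intro p q h
    have h' : p.1.asIdeal.comap S₀.subtype = q.1.asIdeal.comap S₀.subtype := congrArg PrimeSpectrum.asIdeal h
    refine Subtype.ext (PrimeSpectrum.ext (Ideal.ext fun x => ?_))
    rw [hmem p x, hmem q x, h']

end Groth.Agent.S9659
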