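import Groth.Statements.S9661
import Groth.Agent.H02CA.HilbertK0
import Groth.Agent.H3CAlg.FormsDim
import Mathlib

set_option autoImplicit false
universe u
attribute [local instance] MvPolynomial.gradedAlgebra
open CAlg

namespace Groth.Agent.S9661

section
open CategoryTheory

variable (k : Type u) [Field k]

theorem exists_rankHom : ∃ φ : KZero.K0sub (fun X : ModuleCat.{u} k => Module.Finite k X) →+ ℤ,
    ∀ (X : Type u) [AddCommGroup X] [Module k X] [Module.Finite k X],
      φ (Groth.Agent.H02CA.HilbertK0.cls X) = (Module.finrank k X : ℤ) := by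
  let P : ObjectProperty (ModuleCat.{u} k) := fun X => Module.Finite k X
  let l : FreeAbelianGroup (Subtype P) →+ ℤ :=
    FreeAbelianGroup.lift fun X => (Module.finrank k X.1 : ℤ)
  have hl : KZero.relSub P ≤ l.ker := (AddSubgroup.closure_le _).mpr (by
    rintro _ ⟨S, h₁, h₂, h₃, hS, rfl⟩
    haveI : Module.Finite k S.X₂ := h₂
    have hf : Function.Injective S.f.hom := (ModuleCat.mono_iff_injective _).mp hS.mono_f
    have hg : Function.Surjective S.g.hom := (ModuleCat.epi_iff_surjective _).mp hS.epi_g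
    have hex := (ShortComplex.moduleCat_exact_iff_range_eq_ker S).mp hS.exact
    have e := S.g.hom.finrank_range_add_finrank_ker
    rw [LinearMap.range_eq_top.mpr hg, finrank_top, ← hex, LinearMap.finrank_range_of_inj hf] at e
    simp only [SetLike.mem_coe, AddMonoidHom.mem_ker, map_sub, l, FreeAbelianGroup.lift_apply_of]
    omega)
  refine ⟨QuotientAddGroup.lift _ l hl, fun X _ _ hX => ?_⟩
  have h : P (ModuleCat.of k X) := hX
  rw [Groth.Agent.H02CA.HilbertK0.cls, KZero.clSub, dif_pos h]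
  exact FreeAbelianGroup.lift_apply_of _ _

theorem choose_le_choose_sub_add (c : ℕ) : ∀ (e m : ℕ),
    (m + e).choose (c + 1) ≤ m.choose (c + 1) + e * (m + e).choose c
  | 0, m => by simp
  | e + 1, m => by
    have h := choose_le_choose_sub_add c e m
    have hmono : (m + e).choose c ≤ (m + (e + 1)).choose c := Nat.choose_le_choose c (by omega)
    have h2 : e * (m + e).choose c ≤ e * (m + (e + 1)).choose c := Nat.mul_le_mul_left e hmono
    rw [show (m + (e + 1)).choose (c + 1) = (m + e).choose c + (m + e).choose (c + 1) from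
      Nat.choose_succ_succ' (m + e) c, Nat.add_mul, one_mul]
    omega

end

/-- Let k be a field, d ≥ 1, and I a nonzero homogeneous ideal of the standard-graded polynomial ring
k[X_1, …, X_d]; put M = k[X_1, …, X_d]/I. Then the function n ↦ dim_k M_n (equal to dim_k of the
degree-n part of the polynomial ring minus dim_k of the degree-n part of I) coincides for all large
n with a polynomial of degree < d - 1, the zero polynomial if d = 1. -/
theorem result {k : Type u} [Field k] (d : ℕ) (hd : 0 < d)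
    (I : HomogeneousIdeal (MvPolynomial.homogeneousSubmodule (Fin d) k)) (hI : I ≠ ⊥) :
    ∃ P : Polynomial ℚ, P.degree < ((d - 1 : ℕ) : WithBot ℕ) ∧ ∃ N : ℕ, ∀ n : ℕ, N ≤ n →
      ((Module.finrank k ↥(MvPolynomial.homogeneousSubmodule (Fin d) k n) : ℚ) -
        (Module.finrank k ↥(I.toIdeal.restrictScalars k ⊓ MvPolynomial.homogeneousSubmodule (Fin d) k n) : ℚ)) = P.eval (n : ℚ) := by
  classical
  let S := MvPolynomial (Fin d) k
  let 𝒜 := MvPolynomial.homogeneousSubmodule (Fin d) k
  let x : Fin d → S := MvPolynomial.X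
  have hx1 : ∀ i, x i ∈ 𝒜 1 := fun i => MvPolynomial.isHomogeneous_X k i
  have hadj : ∀ s, s ∈ Algebra.adjoin k (Set.range x) := fun s => by
    rw [show Algebra.adjoin k (Set.range x) = ⊤ from MvPolynomial.adjoin_range_X]; trivial
  have hIhom : Groth.Agent.H02CA.HilbertK0.IsHom 𝒜 (I.toIdeal : Submodule S S) :=
    fun m hm n => I.isHomogeneous n hm
  obtain ⟨r, a, N, ha⟩ := Groth.Agent.H02CA.HilbertK0.isNumPoly_subquotient 𝒜 𝒜 x hx1 hadj d ⊤
    I.toIdeal (fun _ _ _ => Submodule.mem_top) hIhom le_top (fun i hi => absurd hi (not_le.mpr i.2))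
  obtain ⟨φ, hφ⟩ := exists_rankHom k
  obtain ⟨d, rfl⟩ := Nat.exists_eq_succ_of_ne_zero hd.ne'
  have hfd : ∀ n, Module.Finite k (𝒜 n) := fun n =>
    (Groth.Agent.H3CAlg.finrank_homogeneous (k := k) d n).1
  let F : ℕ → ℤ := fun n => (Module.finrank k (𝒜 n) : ℤ) -
    (Module.finrank k ↥(I.toIdeal.restrictScalars k ⊓ 𝒜 n) : ℤ)
  have hF : ∀ n, N ≤ n → F n = ∑ i : Fin r, ((n.choose (i : ℕ) : ℕ) : ℤ) * φ (a i) := by
    intro n hn
    haveI := hfd n
    let pn := Groth.Agent.H02CA.HilbertK0.pc 𝒜 (⊤ : Submodule S S) n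
    have hpn : pn = 𝒜 n := le_antisymm inf_le_left (le_inf le_rfl fun _ _ => Submodule.mem_top)
    haveI : Module.Finite k pn := Module.Finite.equiv (LinearEquiv.ofEq _ _ hpn.symm)
    have h := congrArg φ (ha n hn)
    simp only [map_sum, map_zsmul, smul_eq_mul] at h
    rw [hφ] at h
    rw [← h]
    let C := (I.toIdeal.restrictScalars k).comap pn.subtype
    have h1 := C.finrank_quotient_add_finrank
    have h2 : Module.finrank k C = Module.finrank k ↥(I.toIdeal.restrictScalars k ⊓ 𝒜 n) := by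
      refine (LinearEquiv.finrank_eq
        (Submodule.equivMapOfInjective pn.subtype pn.injective_subtype C)).trans ?_
      rw [Submodule.map_comap_subtype, hpn, inf_comm]
    have h3 : Module.finrank k pn = Module.finrank k (𝒜 n) := by rw [hpn]
    show F n = (Module.finrank k (pn ⧸ C) : ℤ)
    simp only [F]
    omega
  -- a nonzero homogeneous element of the ideal
  obtain ⟨f, e, hfI, hf, hf0⟩ : ∃ (f : S) (e : ℕ), f ∈ I.toIdeal ∧ f ∈ 𝒜 e ∧ f ≠ 0 := by
    obtain ⟨g, hg, hg0⟩ := (Submodule.ne_bot_iff _).mp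
      (show I.toIdeal ≠ ⊥ from fun h => hI (HomogeneousIdeal.toIdeal_injective h))
    by_contra hno
    push Not at hno
    apply hg0
    rw [← DirectSum.sum_support_decompose 𝒜 g]
    exact Finset.sum_eq_zero fun i _ => hno _ i (I.isHomogeneous i hg) (SetLike.coe_mem _)
  have hnonneg : ∀ n, 0 ≤ F n := fun n => by
    haveI := hfd n
    have := Submodule.finrank_mono (inf_le_right : I.toIdeal.restrictScalars k ⊓ 𝒜 n ≤ 𝒜 n)
    simp only [F]; omega
  have hbound : ∀ m, F (m + e) ≤ (((m + e + d).choose d : ℕ) : ℤ) - ((m + d).choose d : ℕ) := by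
    intro m
    haveI := hfd (m + e)
    haveI := hfd m
    haveI : Module.Finite k ↥(I.toIdeal.restrictScalars k ⊓ 𝒜 (m + e)) :=
      Submodule.finiteDimensional_of_le inf_le_right
    let μ : 𝒜 m →ₗ[k] ↥(I.toIdeal.restrictScalars k ⊓ 𝒜 (m + e)) :=
      LinearMap.codRestrict _ ((LinearMap.mulRight k f).comp (𝒜 m).subtype) fun g =>
        ⟨I.toIdeal.mul_mem_left _ hfI, (MvPolynomial.IsHomogeneous.mul g.2 hf)⟩
    have hμ : Function.Injective μ := fun g g' h =>
      Subtype.ext (mul_right_cancel₀ hf0 (congrArg Subtype.val h))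
    have h1 := LinearMap.finrank_le_finrank_of_injective hμ
    have h2 : Module.finrank k (𝒜 (m + e)) = (m + e + d).choose d :=
      (Groth.Agent.H3CAlg.finrank_homogeneous (k := k) d (m + e)).2
    have h3 : Module.finrank k (𝒜 m) = (m + d).choose d :=
      (Groth.Agent.H3CAlg.finrank_homogeneous (k := k) d m).2
    simp only [F]
    omega
  rcases d with _ | c
  · refine ⟨0, by simp, e, fun n hn => ?_⟩
    obtain ⟨m, rfl⟩ := Nat.exists_eq_add_of_le' hn
    have hb := hbound m
    simp only [Nat.choose_zero_right] at hb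
    have hz : F (m + e) = 0 := le_antisymm (by simpa using hb) (hnonneg _)
    rw [Polynomial.eval_zero]
    have hz' : ((F (m + e) : ℤ) : ℚ) = 0 := by rw [hz]; simp
    simp only [F, Int.cast_sub, Int.cast_natCast] at hz'
    exact hz'
  let P : Polynomial ℚ := ∑ i : Fin r,
    Polynomial.C ((φ (a i) : ℚ) / ((i : ℕ).factorial : ℚ)) * descPochhammer ℚ (i : ℕ)
  have hP : ∀ n : ℕ, N ≤ n → (F n : ℚ) = P.eval (n : ℚ) := by
    intro n hn
    rw [hF n hn, Int.cast_sum, Polynomial.eval_finsetSum]
    refine Finset.sum_congr rfl fun i _ => ?_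
    rw [Int.cast_mul, Int.cast_natCast, Nat.cast_choose_eq_descPochhammer_div, Polynomial.eval_mul,
      Polynomial.eval_C]
    ring
  refine ⟨P, ?_, N, fun n hn => ?_⟩
  swap
  · have := hP n hn
    simp only [F, Int.cast_sub, Int.cast_natCast] at this
    exact this
  by_contra hdeg
  rw [not_lt] at hdeg
  simp only [Nat.succ_sub_one] at hdeg
  have hc : (c : WithBot ℕ) < P.degree := lt_of_lt_of_le (by exact_mod_cast c.lt_succ_self) hdeg
  have hPdeg : (0 : WithBot ℕ) < P.degree := lt_of_le_of_lt (by exact_mod_cast Nat.zero_le c) hc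
  let B : ℚ := (e : ℚ) * (2 : ℚ) ^ c
  have hb : ∀ n : ℕ, N ≤ n → e ≤ n → c + 1 ≤ n → P.eval (n : ℚ) ≤ B * (n : ℚ) ^ c ∧ 0 ≤ P.eval (n : ℚ) := by
    intro n hn hne hnc
    obtain ⟨m, rfl⟩ := Nat.exists_eq_add_of_le' hne
    rw [← hP _ hn]
    refine ⟨?_, by exact_mod_cast hnonneg _⟩
    have h1 := hbound m
    have h2 := choose_le_choose_sub_add c e (m + (c + 1))
    rw [show m + (c + 1) + e = m + e + (c + 1) by ring] at h2
    have h3 : (m + e + (c + 1)).choose c ≤ (2 * (m + e)) ^ c :=
      (Nat.choose_le_pow _ _).trans (Nat.pow_le_pow_left (by omega) c)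
    have h4 := Nat.mul_le_mul_left e h3
    have h5 : F (m + e) ≤ ((e * (2 * (m + e)) ^ c : ℕ) : ℤ) := by omega
    calc (F (m + e) : ℚ) ≤ (((e * (2 * (m + e)) ^ c : ℕ) : ℤ) : ℚ) := by exact_mod_cast h5
      _ = B * ((m + e : ℕ) : ℚ) ^ c := by simp only [B]; push_cast; rw [mul_pow]; ring
  obtain ⟨M, hM⟩ : ∃ M : ℕ, N ≤ M ∧ e ≤ M ∧ c + 1 ≤ M := ⟨N + e + c + 1, by omega, by omega, by omega⟩
  rcases le_or_gt P.leadingCoeff 0 with hl | hl
  · have ht := (Polynomial.tendsto_atBot_of_leadingCoeff_nonpos P hPdeg hl).comp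
      tendsto_natCast_atTop_atTop
    obtain ⟨n, hn1, hn2⟩ := ((ht.eventually (Filter.eventually_lt_atBot 0)).and
      (Filter.eventually_ge_atTop M)).exists
    exact absurd (hb n (hM.1.trans hn2) (hM.2.1.trans hn2) (hM.2.2.trans hn2)).2 (not_le.mpr hn1)
  · let Q : Polynomial ℚ := Polynomial.C B * Polynomial.X ^ c - P
    have hlt : (Polynomial.C B * Polynomial.X ^ c).degree < P.degree :=
      lt_of_le_of_lt (Polynomial.degree_C_mul_X_pow_le c B) hc
    have hQd : Q.degree = P.degree := by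
      simp only [Q]; rw [Polynomial.degree_sub_eq_right_of_degree_lt hlt]
    have hQl : Q.leadingCoeff = -P.leadingCoeff := by
      simp only [Q]
      rw [sub_eq_add_neg, Polynomial.leadingCoeff_add_of_degree_lt (by rwa [Polynomial.degree_neg]),
        Polynomial.leadingCoeff_neg]
    have ht := (Polynomial.tendsto_atBot_of_leadingCoeff_nonpos Q (hQd ▸ hPdeg)
      (by rw [hQl]; linarith)).comp tendsto_natCast_atTop_atTop
    obtain ⟨n, hn1, hn2⟩ := ((ht.eventually (Filter.eventually_lt_atBot 0)).and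
      (Filter.eventually_ge_atTop M)).exists
    have := (hb n (hM.1.trans hn2) (hM.2.1.trans hn2) (hM.2.2.trans hn2)).1
    simp only [Function.comp_apply, Q, Polynomial.eval_sub, Polynomial.eval_mul, Polynomial.eval_C,
      Polynomial.eval_pow, Polynomial.eval_X] at hn1
    linarith

end Groth.Agent.S9661
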