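import Groth.Statements.S9662
import Groth.Agent.H02CA.HilbertK0

set_option autoImplicit false
universe u
open CategoryTheory
open CAlg

namespace Groth.Agent.S9662

/-- Let S be a Noetherian ℕ-graded ring, presented as a graded algebra over a ring A mapping onto S₀,
whose irrelevant ideal S₊ is generated as an ideal by the degree-1 part S₁, and let M be a finitely
generated graded S-module, graded in nonnegative degrees. (The published statement allows modules
graded in all integer degrees; this row takes modules graded in degrees ≥ 0, which loses nothing for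
large n.) Write K'₀(A) for the Grothendieck group of finite A-modules (the free abelian group on the
finite A-modules modulo the relations given by short exact sequences) and [M_n] for the class of the
finite A-module M_n. Then n ↦ [M_n] is a numerical polynomial: there are a_0, …, a_{r-1} in K'₀(A)
with [M_n] = Σ_i C(n, i) · a_i for all large n. (When A → S₀ is bijective K'₀(A) is K'₀(S₀), the
group of the published statement; in general the classes are taken after restricting scalars along A
→ S₀.) -/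
theorem result {A S : Type u} [CommRing A] [CommRing S] [Algebra A S] [IsNoetherianRing S] (𝒜 : ℕ → Submodule A S) [GradedAlgebra 𝒜]
    (h0 : ∀ s ∈ 𝒜 0, s ∈ Set.range (algebraMap A S))
    (h1 : (HomogeneousIdeal.irrelevant 𝒜).toIdeal = Ideal.span (𝒜 1 : Set S))
    (M : Type u) [AddCommGroup M] [Module A M] [Module S M] [IsScalarTower A S M] [Module.Finite S M] (ℳ : ℕ → Submodule A M) [DirectSum.Decomposition ℳ] [SetLike.GradedSMul 𝒜 ℳ] :
    ∃ (r : ℕ) (a : Fin r → KZero.K0sub (fun X : ModuleCat.{u} A => Module.Finite A X)) (N : ℕ), ∀ n : ℕ, N ≤ n →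
      KZero.clSub (fun X : ModuleCat.{u} A => Module.Finite A X) (ModuleCat.of A ↥(ℳ n)) = ∑ i : Fin r, ((n.choose (i : ℕ) : ℕ) : ℤ) • a i := by
  classical
  obtain ⟨t, htS, ht⟩ : ∃ t : Finset S, (t : Set S) ⊆ (𝒜 1 : Set S) ∧
      Ideal.span (𝒜 1 : Set S) = Ideal.span (t : Set S) := by
    obtain ⟨t, ht, ht'⟩ := (Submodule.fg_span_iff_fg_span_finset_subset (R := S) (𝒜 1 : Set S)).mp (IsNoetherian.noetherian (Ideal.span (𝒜 1 : Set S)))
    exact ⟨t, ht, ht'⟩
  let x : Fin t.card → S := fun i => (t.equivFin.symm i : S)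
  have hrange : Set.range x = (t : Set S) := by
    ext y
    exact ⟨fun ⟨i, hi⟩ => hi ▸ (t.equivFin.symm i).2, fun hy => ⟨t.equivFin ⟨y, hy⟩, by simp [x]⟩⟩
  have hx1 : ∀ i, x i ∈ 𝒜 1 := fun i => htS (t.equivFin.symm i).2
  have hadj := Groth.Agent.H02CA.HilbertK0.mem_adjoin 𝒜 x hx1 h0 (by rw [h1, ht, hrange])
  haveI : IsNoetherian S M := isNoetherian_of_isNoetherianRing_of_finite S M
  obtain ⟨r, a, N, ha⟩ := Groth.Agent.H02CA.HilbertK0.isNumPoly_subquotient 𝒜 ℳ x hx1 hadj t.card ⊤ ⊥
    (fun _ _ _ => Submodule.mem_top) (fun m hm n => by rw [(Submodule.mem_bot S).mp hm]; simp) bot_le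
    (fun i hi => absurd hi (not_le.mpr i.2))
  refine ⟨r, a, N, fun n hn => ?_⟩
  rw [← ha n hn]
  haveI : Module.Finite A (Groth.Agent.H02CA.HilbertK0.pc ℳ (⊤ : Submodule S M) n) :=
    Module.Finite.iff_fg.mpr (Groth.Agent.H02CA.HilbertK0.pc_fg 𝒜 ℳ x hx1 hadj (fun _ _ _ => Submodule.mem_top) n)
  let e : Groth.Agent.H02CA.HilbertK0.Q ℳ (⊤ : Submodule S M) ⊥ n ≃ₗ[A] ℳ n :=
    (Submodule.quotEquivOfEqBot _ ((Submodule.eq_bot_iff _).mpr fun m hm => Subtype.ext ((Submodule.mem_bot S).mp (show (m : M) ∈ (⊥ : Submodule S M) from hm)))).trans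
      (LinearEquiv.ofEq _ _ (le_antisymm inf_le_left (le_inf le_rfl fun _ _ => Submodule.mem_top)))
  haveI : Module.Finite A (ℳ n) := Module.Finite.equiv e
  have hcls := Groth.Agent.H02CA.HilbertK0.cls_add (A := A) (0 : PUnit.{u+1} →ₗ[A] _) e.toLinearMap
    (Function.injective_of_subsingleton _) e.surjective
    fun y => ⟨fun h => ⟨PUnit.unit, (e.map_eq_zero_iff.mp h).symm⟩, fun ⟨_, h⟩ => h ▸ map_zero _⟩
  rw [Groth.Agent.H02CA.HilbertK0.cls_eq_zero PUnit.{u+1}, zero_add] at hcls
  exact hcls.symm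

end Groth.Agent.S9662
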