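import Groth.Statements.S9663
import Mathlib.Algebra.Module.LocalizedModule.Away
import Mathlib.Algebra.Module.LocalizedModule.Basic

set_option autoImplicit false
universe u
open CAlg

namespace Groth.Agent.S9663

open IsLocalizedModule

section

variable {R : Type u} [CommRing R]

theorem cancel_unit {N : Type u} [AddCommGroup N] [Module R N] {r : R} (h : IsUnit (algebraMap R (Module.End R N) r))
    (n : ℕ) {z : N} (hz : r ^ n • z = 0) : z = 0 := by
  have hinj := ((Module.End.isUnit_iff _).mp (h.pow n)).1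
  apply hinj
  rw [← map_pow, Module.algebraMap_end_apply, Module.algebraMap_end_apply, hz, smul_zero]

theorem killed_of_map_eq_zero {A B C : Type u} [AddCommGroup A] [Module R A] [AddCommGroup B] [Module R B]
    [AddCommGroup C] [Module R C] {p q : R} (g : A →ₗ[R] B) [IsLocalizedModule (Submonoid.powers q) g]
    (t : A →ₗ[R] C) [IsLocalizedModule (Submonoid.powers (p * q)) t] (v : B →ₗ[R] C) (hv : v ∘ₗ g = t)
    {z : B} (hz : v z = 0) : ∃ n : ℕ, p ^ n • z = 0 := by
  obtain ⟨s, c, hc⟩ := Away.surj g q z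
  have htc : t c = 0 := by rw [← hv, LinearMap.comp_apply, ← hc, map_smul, hz, smul_zero]
  obtain ⟨n, hn⟩ := Away.exists_of_eq (f := t) (p * q) (htc.trans (map_zero t).symm)
  rw [smul_zero] at hn
  refine ⟨n, cancel_unit (r := q) (Away.isUnit_algebraMap g q) (n + s) ?_⟩
  rw [smul_comm, pow_add, mul_smul (q ^ n), hc, ← map_smul, ← map_smul, smul_smul (p ^ n), ← mul_pow, hn, map_zero]

end

/-- Let R be a ring and f_i, i in a finite index set, elements of R (no condition on the ideal they
generate). Suppose given for each i an R-module M_i on which f_i acts invertibly, for each pair (i,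
j) an R-linear isomorphism ψ_ij : (M_i)_{f_j} → (M_j)_{f_i}, and suppose the cocycle condition ψ_jk
∘ ψ_ij = ψ_ik holds as maps (M_i)_{f_j f_k} → (M_k)_{f_i f_j} for all triples (i, j, k). All
localizations are given through their universal properties: (M_i)_{f_j} with its map g from M_i;
(M_i)_{f_j f_k} with its map t from M_i and the compatible maps u from (M_i)_{f_j} and v from
(M_i)_{f_k}; and the three localized isomorphisms Ψ₁ (ψ_ij on (M_i)_{f_j f_k}), Ψ₂ (ψ_jk on
(M_j)_{f_i f_k}) and Ψ₃ (ψ_ik on (M_i)_{f_j f_k}) are given as maps compatible with the ψ's. Let M ⊆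
Π_i M_i be the submodule of families (m_i) with m_i/1 = ψ_ji(m_j/1) in (M_i)_{f_j} for all i, j.
Then for each i the projection M → M_i exhibits M_i as the localization of M at f_i. -/
theorem result {R : Type u} [CommRing R] {ι : Type u} [Finite ι] (f : ι → R)
    (Mi : ι → Type u) [∀ i, AddCommGroup (Mi i)] [∀ i, Module R (Mi i)]
    (hMi : ∀ i, IsUnit (algebraMap R (Module.End R (Mi i)) (f i)))
    (Mij : ι → ι → Type u) [∀ i j, AddCommGroup (Mij i j)] [∀ i j, Module R (Mij i j)]
    (g : ∀ i j, Mi i →ₗ[R] Mij i j) [∀ i j, IsLocalizedModule (Submonoid.powers (f j)) (g i j)]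
    (ψ : ∀ i j, Mij i j ≃ₗ[R] Mij j i)
    (T : ι → ι → ι → Type u) [∀ i j k, AddCommGroup (T i j k)] [∀ i j k, Module R (T i j k)]
    (t : ∀ i j k, Mi i →ₗ[R] T i j k) [∀ i j k, IsLocalizedModule (Submonoid.powers (f j * f k)) (t i j k)]
    (u : ∀ i j k, Mij i j →ₗ[R] T i j k) (hu : ∀ i j k, u i j k ∘ₗ g i j = t i j k)
    (v : ∀ i j k, Mij i k →ₗ[R] T i j k) (hv : ∀ i j k, v i j k ∘ₗ g i k = t i j k)
    (Ψ₁ : ∀ i j k, T i j k →ₗ[R] T j i k) (hΨ₁ : ∀ i j k, Ψ₁ i j k ∘ₗ u i j k = u j i k ∘ₗ (ψ i j).toLinearMap)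
    (Ψ₂ : ∀ i j k, T j i k →ₗ[R] T k i j) (hΨ₂ : ∀ i j k, Ψ₂ i j k ∘ₗ v j i k = v k i j ∘ₗ (ψ j k).toLinearMap)
    (Ψ₃ : ∀ i j k, T i j k →ₗ[R] T k i j) (hΨ₃ : ∀ i j k, Ψ₃ i j k ∘ₗ v i j k = u k i j ∘ₗ (ψ i k).toLinearMap)
    (hcoc : ∀ i j k, Ψ₂ i j k ∘ₗ Ψ₁ i j k = Ψ₃ i j k)
    (M : Submodule R (∀ i, Mi i)) (hM : ∀ m : ∀ i, Mi i, m ∈ M ↔ ∀ i j, g i j (m i) = ψ j i (g j i (m j))) (i : ι) :
    IsLocalizedModule (Submonoid.powers (f i)) ((LinearMap.proj i).comp M.subtype : ↥M →ₗ[R] Mi i) := by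
  classical
  have ev : ∀ i j k, ∀ x, u i j k (g i j x) = t i j k x := fun i j k x => LinearMap.congr_fun (hu i j k) x
  have evv : ∀ i j k, ∀ x, v i j k (g i k x) = t i j k x := fun i j k x => LinearMap.congr_fun (hv i j k) x
  have e1 : ∀ i j k, ∀ z, Ψ₁ i j k (u i j k z) = u j i k (ψ i j z) := fun i j k z => LinearMap.congr_fun (hΨ₁ i j k) z
  have e2 : ∀ i j k, ∀ z, Ψ₂ i j k (v j i k z) = v k i j (ψ j k z) := fun i j k z => LinearMap.congr_fun (hΨ₂ i j k) z
  have e3 : ∀ i j k, ∀ z, Ψ₃ i j k (v i j k z) = u k i j (ψ i k z) := fun i j k z => LinearMap.congr_fun (hΨ₃ i j k) z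
  have ec : ∀ i j k, ∀ z, Ψ₂ i j k (Ψ₁ i j k z) = Ψ₃ i j k z := fun i j k z => LinearMap.congr_fun (hcoc i j k) z
  have hMij : ∀ i j, IsUnit (algebraMap R (Module.End R (Mij i j)) (f j)) := fun i j => Away.isUnit_algebraMap (g i j) (f j)
  -- `g i i` is bijective
  have gbij : ∀ i, Function.Bijective (g i i) := by
    intro i
    constructor
    · rw [injective_iff_map_eq_zero]
      intro x hx
      obtain ⟨n, hn⟩ := Away.exists_of_eq (f := g i i) (f i) (hx.trans (map_zero _).symm)
      rw [smul_zero] at hn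
      exact cancel_unit (hMi i) n hn
    · intro y
      obtain ⟨n, x, hx⟩ := Away.surj (g i i) (f i) y
      obtain ⟨x', hx'⟩ := ((Module.End.isUnit_iff _).mp ((hMi i).pow n)).2 x
      rw [← map_pow, Module.algebraMap_end_apply] at hx'
      refine ⟨x', ?_⟩
      have := cancel_unit (hMij i i) n (z := g i i x' - y) (by rw [smul_sub, ← map_smul, hx', hx, sub_self])
      exact sub_eq_zero.mp this
  have huv : ∀ i j z, v i j j z = u i j j z := by
    intro i j z
    obtain ⟨n, x, hx⟩ := Away.surj (g i j) (f j) z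
    have hT : IsUnit (algebraMap R (Module.End R (T i j j)) (f j)) := by
      have h := Away.isUnit_algebraMap (t i j j) (f j * f j)
      rw [map_mul] at h
      exact (Commute.isUnit_mul_iff ((Algebra.commutes (f j) _))).mp h |>.1
    exact sub_eq_zero.mp (cancel_unit hT n (by rw [smul_sub, ← map_smul, ← map_smul, hx, ev, evv, sub_self]))
  -- `ψ i i = id`
  have hdiag : ∀ i z, ψ i i z = z := by
    intro i z
    have hinj : ∀ w, u i i i w = 0 → w = 0 := fun w hw => by
      obtain ⟨n, hn⟩ := killed_of_map_eq_zero (p := f i) (q := f i) (g i i) (t i i i) (u i i i) (hu i i i) hw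
      exact cancel_unit (hMij i i) n hn
    have h : ψ i i (ψ i i z) = ψ i i z := by
      have hval : v i i i (ψ i i (ψ i i z)) = u i i i (ψ i i z) := by
        conv_lhs => rw [← e2, huv i i (ψ i i z), ← e1, ec, ← huv i i z, e3]
      refine sub_eq_zero.mp (hinj _ ?_)
      rw [map_sub, ← huv i i (ψ i i (ψ i i z)), hval, sub_self]
    exact (ψ i i).injective h
  -- `ψ j i ∘ ψ i j = id`
  have hinv : ∀ i j z, ψ j i (ψ i j z) = z := by
    intro i j z
    obtain ⟨n, x, hx⟩ := Away.surj (g i j) (f j) z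
    have key : ψ j i (ψ i j (g i j x)) = g i j x := by
      have h1 : v j i i (ψ i j (g i j x)) = u j i i (ψ i j (g i j x)) := huv j i _
      have h2 : Ψ₃ i j i (u i j i (g i j x)) = v i i j (g i j x) := by
        rw [ev, ← evv, e3, hdiag, ev, evv]
      have h3 : v i i j (ψ j i (ψ i j (g i j x))) = v i i j (g i j x) := by
        rw [← e2, h1, ← e1, ec, h2]
      obtain ⟨n, hn⟩ := killed_of_map_eq_zero (p := f i) (q := f j) (g i j) (t i i j) (v i i j) (hv i i j)
        (z := ψ j i (ψ i j (g i j x)) - g i j x) (by rw [map_sub, h3, sub_self])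
      refine sub_eq_zero.mp (cancel_unit ?_ n hn)
      refine (Module.End.isUnit_iff _).mpr ⟨?_, ?_⟩
      · intro a b hab
        rw [Module.algebraMap_end_apply, Module.algebraMap_end_apply] at hab
        obtain ⟨s, c, hc⟩ := Away.surj (g i j) (f j) (a - b)
        have h0 : g i j (f i • c) = 0 := by rw [map_smul, ← hc, smul_comm, smul_sub, hab, sub_self, smul_zero]
        obtain ⟨r, hr⟩ := Away.exists_of_eq (f := g i j) (f j) (h0.trans (map_zero _).symm)
        rw [smul_zero, smul_comm] at hr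
        have hr' : f j ^ r • c = 0 := cancel_unit (hMi i) 1 (by rwa [pow_one])
        have : f j ^ (r + s) • (a - b) = 0 := by rw [pow_add, mul_smul, hc, ← map_smul, hr', map_zero]
        exact sub_eq_zero.mp (cancel_unit (hMij i j) (r + s) this)
      · intro b
        obtain ⟨s, c, hc⟩ := Away.surj (g i j) (f j) b
        obtain ⟨c', hc'⟩ := ((Module.End.isUnit_iff _).mp (hMi i)).2 c
        obtain ⟨w, hw⟩ := ((Module.End.isUnit_iff _).mp ((hMij i j).pow s)).2 (g i j c')
        rw [← map_pow, Module.algebraMap_end_apply] at hw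
        rw [Module.algebraMap_end_apply] at hc'
        refine ⟨w, ?_⟩
        rw [Module.algebraMap_end_apply]
        exact sub_eq_zero.mp (cancel_unit (hMij i j) s (by rw [smul_sub, smul_comm, hw, ← map_smul, hc', hc, sub_self]))
    have h := cancel_unit (hMij i j) n (z := ψ j i (ψ i j z) - z) (by
      rw [smul_sub, ← map_smul, ← map_smul, hx, key, sub_self])
    exact sub_eq_zero.mp h
  haveI : Fintype ι := Fintype.ofFinite ι
  refine Away.mk_of_addCommGroup (hMi i) ?_ ?_
  · intro m
    choose n a ha using fun j => Away.surj (g j i) (f i) (ψ i j (g i j m))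
    let N := ∑ j, n j
    have hN : ∀ j, n j ≤ N := fun j => Finset.single_le_sum (fun _ _ => Nat.zero_le _) (Finset.mem_univ j)
    let b : ∀ j, Mi j := fun j => f i ^ (N - n j) • a j
    have hb : ∀ j, g j i (b j) = f i ^ N • ψ i j (g i j m) := fun j => by
      show g j i (f i ^ (N - n j) • a j) = _
      rw [map_smul, ← ha j, smul_smul, ← pow_add, Nat.sub_add_cancel (hN j)]
    have hd : ∀ j k, ∃ L : ℕ, f i ^ L • (g j k (b j) - ψ k j (g k j (b k))) = 0 := by
      intro j k
      have h1 : v j i k (g j k (b j)) = f i ^ N • Ψ₁ i j k (t i j k m) := by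
        rw [evv, ← ev j i k, hb, map_smul, ← e1, ev]
      have h2 : v k i j (ψ j k (g j k (b j) - ψ k j (g k j (b k)))) = 0 := by
        rw [← e2, map_sub, map_sub, e2 i j k (ψ k j (g k j (b k))), hinv k j, h1, map_smul, ec, ← evv i j k,
          e3, ← map_smul, ← hb, ev, evv, sub_self]
      obtain ⟨L, hL⟩ := killed_of_map_eq_zero (p := f i) (q := f j) (g k j) (t k i j) (v k i j) (hv k i j) h2
      exact ⟨L, (ψ j k).injective (by rw [map_smul, hL, map_zero])⟩
    choose L hL using hd
    let L' := ∑ j, ∑ k, L j k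
    let r : ∀ j, Mi j := fun j => f i ^ L' • b j
    have hr : r ∈ M := by
      rw [hM]
      intro j k
      have hle : L j k ≤ L' := (Finset.single_le_sum (f := fun k => L j k) (fun _ _ => Nat.zero_le _) (Finset.mem_univ k)).trans
        (Finset.single_le_sum (f := fun j => ∑ k, L j k) (fun _ _ => Nat.zero_le _) (Finset.mem_univ j))
      rw [← sub_eq_zero]
      show g j k (f i ^ L' • b j) - ψ k j (g k j (f i ^ L' • b k)) = 0
      rw [(g j k).map_smul (f i ^ L') (b j), (g k j).map_smul (f i ^ L') (b k), LinearEquiv.map_smul, ← smul_sub,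
        ← Nat.sub_add_cancel hle, pow_add, mul_smul, hL, smul_zero]
    refine ⟨N + L', ⟨r, hr⟩, ?_⟩
    show f i ^ (N + L') • m = f i ^ L' • b i
    have : b i = f i ^ N • m := (gbij i).1 (by rw [hb, hdiag, map_smul])
    rw [this, smul_smul, ← pow_add, add_comm]
  · rintro ⟨r, hr⟩ h0
    replace h0 : r i = 0 := h0
    have hk : ∀ j, ∃ n, f i ^ n • r j = 0 := fun j => by
      have h := (hM r).mp hr j i
      rw [h0, map_zero, map_zero] at h
      obtain ⟨n, hn⟩ := Away.exists_of_eq (f := g j i) (f i) (h.trans (map_zero _).symm)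
      exact ⟨n, by simpa using hn⟩
    choose n hn using hk
    refine ⟨∑ j, n j, Subtype.ext (funext fun j => ?_)⟩
    show f i ^ (∑ j, n j) • r j = 0
    rw [← Nat.sub_add_cancel (Finset.single_le_sum (f := n) (fun _ _ => Nat.zero_le _) (Finset.mem_univ j)), pow_add, mul_smul, hn, smul_zero]

end Groth.Agent.S9663
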