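import Groth.Statements.S9666
import Groth.Agent.H02CA.FibreAss

set_option autoImplicit false
universe u
open CAlg

namespace Groth.Agent.S9666

/-- Part (3): (A ⊆ A_fin): let R → S be a ring map with S Noetherian, N an S-module, q a prime of S and
p the prime of R below q; an associated prime of a module is a prime ideal equal to the annihilator
of some element. If q is an associated prime of the S-module N ⊗_R κ(p) (the fibre module over p, an
S-module by restriction of scalars), then q is an associated prime of the S-module N/pN. -/
theorem result {R S : Type u} [CommRing R] [CommRing S] [Algebra R S] (N : Type u) [AddCommGroup N] [Module S N] [Module R N] [IsScalarTower R S N] [IsNoetherianRing S]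
    (p : Ideal R) [p.IsPrime] (q : Ideal S) [q.IsPrime] (hq : q.comap (algebraMap R S) = p)
    (h : q ∈ FlatCA.ass S (FlatCA.fiberMod p S N)) :
    q ∈ FlatCA.ass S (N ⧸ (p.map (algebraMap R S)) • (⊤ : Submodule S N)) := by
  exact Groth.Agent.H02CA.FibreAss.ass_quot_of_ass_fiber p q h

end Groth.Agent.S9666
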