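import Groth.Statements.S9667
import Groth.Agent.H02CA.FibreAss

set_option autoImplicit false
universe u
open CAlg

namespace Groth.Agent.S9667

open TensorProduct in
/-- Part (3): (B = B_fin): let R → S be a ring map with S Noetherian, N an S-module, M an R-module and q
a prime of S; an associated prime of a module is a prime ideal equal to the annihilator of some
element. If q is an associated prime of the S-module N ⊗_R M, then there is a finitely generated
R-submodule M' ⊆ M such that q is an associated prime of the S-module N ⊗_R M'. -/
theorem result {R S : Type u} [CommRing R] [CommRing S] [Algebra R S] (N : Type u) [AddCommGroup N] [Module S N] [Module R N] [IsScalarTower R S N] [IsNoetherianRing S]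
    (M : Type u) [AddCommGroup M] [Module R M] (q : Ideal S) [q.IsPrime] (h : q ∈ FlatCA.ass S (N ⊗[R] M)) :
    ∃ M' : Submodule R M, M'.FG ∧ q ∈ FlatCA.ass S (N ⊗[R] ↥M') := by
  exact Groth.Agent.H02CA.FibreAss.exists_fg_of_noetherian q h

end Groth.Agent.S9667
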