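import Groth.Statements.S9670
import Groth.Agent.H02CA.FibreAss

set_option autoImplicit false
universe u
open CAlg

namespace Groth.Agent.S9670

open TensorProduct in
/-- Part (5): (B_fin ⊆ A_fin): let R → S be a ring map with R Noetherian, N an S-module flat over R, M a
finite R-module, q a prime of S and p the prime of R below q; an associated prime of a module is a
prime ideal equal to the annihilator of some element. If q is an associated prime of the S-module N
⊗_R M, then q is an associated prime of the S-module N/pN. -/
theorem result {R S : Type u} [CommRing R] [CommRing S] [Algebra R S] (N : Type u) [AddCommGroup N] [Module S N] [Module R N] [IsScalarTower R S N] [IsNoetherianRing R] [Module.Flat R N]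
    (M : Type u) [AddCommGroup M] [Module R M] [Module.Finite R M] (p : Ideal R) [p.IsPrime] (q : Ideal S) [q.IsPrime] (hq : q.comap (algebraMap R S) = p)
    (h : q ∈ FlatCA.ass S (N ⊗[R] M)) :
    q ∈ FlatCA.ass S (N ⧸ (p.map (algebraMap R S)) • (⊤ : Submodule S N)) := by
  subst hq
  exact Groth.Agent.H02CA.FibreAss.ass_tensor_finite q h

end Groth.Agent.S9670
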