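import Groth.Statements.S9671
import Mathlib.RingTheory.GradedAlgebra.HomogeneousLocalization
import Mathlib.RingTheory.FiniteType
import Mathlib.Algebra.Polynomial.AlgebraMap
import Mathlib.Algebra.Algebra.Prod
import Mathlib.Algebra.DirectSum.Module

set_option autoImplicit false
universe u
open CAlg

namespace Groth.Agent.S9671

open Polynomial

set_option maxHeartbeats 1000000
set_option synthInstance.maxHeartbeats 200000

noncomputable section

variable (R R' : Type u) [CommRing R] [CommRing R'] [Algebra R R']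

def gen (x : R') : (R × R')[X] := monomial 1 ((0 : R), x)

variable {R R'} (x : Finset R')

def cone : Subalgebra R (R × R')[X] :=
  Algebra.adjoin R ((fun y => gen R R' y) '' (↑x ∪ {1}))

theorem tt_mem_cone : gen R R' 1 ∈ cone (R := R) x := Algebra.subset_adjoin ⟨1, Or.inr rfl, rfl⟩

variable {S : Type u} [CommRing S] [Algebra R S] {ι : S →ₐ[R] (R × R')[X]}
  (hι : Function.Injective ι) (hrange : ι.range = cone (R := R) x)

variable (ι) in
def piece (n : ℕ) : Submodule R S :=
  Submodule.comap ι.toLinearMap (LinearMap.range ((monomial (R := R × R') n).restrictScalars R))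

theorem mem_piece {n : ℕ} {p : S} : p ∈ piece ι n ↔ ∃ c, monomial n c = ι p := Iff.rfl

theorem monomial_coeff_mem (p : (R × R')[X]) (hp : p ∈ cone (R := R) x) :
    ∀ n, monomial n (p.coeff n) ∈ cone (R := R) x := by
  induction hp using Algebra.adjoin_induction with
  | mem p hp =>
    obtain ⟨y, hy, rfl⟩ := hp
    intro n
    simp only [gen, coeff_monomial]
    split_ifs with h
    · subst h; exact Algebra.subset_adjoin ⟨y, hy, rfl⟩
    · simp
  | algebraMap r =>
    intro n
    rw [Polynomial.algebraMap_apply, coeff_C]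
    split_ifs with h
    · subst h; rw [monomial_zero_left, ← Polynomial.algebraMap_apply]; exact Subalgebra.algebraMap_mem _ r
    · simp
  | add p q _ _ hp hq => intro n; rw [coeff_add, map_add]; exact add_mem (hp n) (hq n)
  | mul p q _ _ hp hq =>
    intro n
    rw [coeff_mul, map_sum]
    refine sum_mem fun ij hij => ?_
    rw [← Finset.HasAntidiagonal.mem_antidiagonal.mp hij, ← monomial_mul_monomial]
    exact mul_mem (hp _) (hq _)

instance graded : SetLike.GradedMonoid (piece ι) where
  one_mem := mem_piece.mpr ⟨1, by simp⟩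
  mul_mem := by
    intro i j p q hp hq
    obtain ⟨a, ha⟩ := mem_piece.mp hp
    obtain ⟨b, hb⟩ := mem_piece.mp hq
    exact mem_piece.mpr ⟨a * b, by rw [← monomial_mul_monomial, ha, hb, map_mul]⟩

include hι hrange in
theorem isInternal : DirectSum.IsInternal (piece ι) := by
  refine DirectSum.isInternal_submodule_of_iSupIndep_of_iSup_eq_top ?_ ?_
  · intro i
    rw [Submodule.disjoint_def]
    intro p hp hp'
    obtain ⟨c, hc⟩ := mem_piece.mp hp
    have hle : (⨆ (j) (_ : j ≠ i), piece ι j) ≤ LinearMap.ker (((lcoeff (R × R') i).restrictScalars R).comp ι.toLinearMap) :=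
      iSup₂_le fun j hj q hq => by
        obtain ⟨d, hd⟩ := mem_piece.mp hq
        show (ι q).coeff i = 0
        rw [← hd, coeff_monomial, if_neg hj]
    have h0 : (ι p).coeff i = 0 := hle hp'
    rw [← hc, coeff_monomial, if_pos rfl] at h0
    apply hι
    rw [← hc, h0, map_zero, map_zero]
  · refine eq_top_iff.mpr fun p _ => ?_
    have hc : ι p ∈ cone (R := R) x := hrange ▸ ⟨p, rfl⟩
    have key : ∀ n, ∃ q : S, ι q = monomial n ((ι p).coeff n) := fun n => by
      have := monomial_coeff_mem x (ι p) hc n
      rw [← hrange] at this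
      exact this
    choose q hq using key
    have hp : p = ∑ n ∈ (ι p).support, q n := by
      apply hι
      rw [map_sum, Finset.sum_congr rfl fun n _ => hq n]
      exact as_sum_support _
    rw [hp]
    exact sum_mem fun n _ => Submodule.mem_iSup_of_mem n ⟨_, (hq n).symm⟩

variable (ι) in
def ev : S →+* R' := ((RingHom.snd R R').comp (evalRingHom (1 : R × R'))).comp ι.toRingHom

theorem ev_monomial (p : S) (n : ℕ) (c : R × R') (h : monomial n c = ι p) : ev ι p = c.2 := by
  simp [ev, ← h]

variable (ι) in
def toR' (t : S) (ht : ι t = gen R R' 1) : Localization.Away t →+* R' :=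
  IsLocalization.Away.lift t (g := ev ι) (by rw [ev_monomial t _ _ ht.symm]; exact isUnit_one)

theorem toR'_mk (t : S) (ht : ι t = gen R R' 1) (a : S) (m : ℕ) :
    toR' ι t ht (Localization.mk a ⟨t ^ m, ⟨m, rfl⟩⟩) = ev ι a := by
  have h := congrArg (toR' ι t ht) (IsLocalization.mk'_spec (Localization.Away t) a
    (⟨t ^ m, ⟨m, rfl⟩⟩ : Submonoid.powers t))
  rw [← Localization.mk_eq_mk', map_mul, toR', IsLocalization.Away.lift_eq, IsLocalization.Away.lift_eq, map_pow,
    ev_monomial t _ _ ht.symm, one_pow, mul_one] at h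
  exact h

include hι in
theorem toR'_val_injective [GradedAlgebra (piece ι)] (t : S) (ht : ι t = gen R R' 1) :
    Function.Injective ((toR' ι t ht).comp (algebraMap (HomogeneousLocalization.Away (piece ι) t) (Localization.Away t))) := by
  have tmem : t ∈ piece ι 1 := mem_piece.mpr ⟨_, ht.symm⟩
  rw [injective_iff_map_eq_zero]
  intro z hz
  obtain ⟨n, a, ha, rfl⟩ := HomogeneousLocalization.Away.mk_surjective (piece ι) tmem z
  rw [RingHom.comp_apply, HomogeneousLocalization.algebraMap_apply, HomogeneousLocalization.Away.val_mk, toR'_mk] at hz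
  obtain ⟨c, hc⟩ := mem_piece.mp ha
  rw [ev_monomial a _ c hc] at hz
  have h0 : a * t = 0 := by
    apply hι
    rw [map_mul, map_zero, ht, ← hc, gen, monomial_mul_monomial]
    rw [show c * ((0 : R), (1 : R')) = 0 from Prod.ext (mul_zero _) (by simp [hz]), map_zero]
  apply HomogeneousLocalization.val_injective
  rw [HomogeneousLocalization.Away.val_mk, HomogeneousLocalization.val_zero, Localization.mk_eq_mk',
    IsLocalization.mk'_eq_zero_iff]
  exact ⟨⟨t, Submonoid.mem_powers _⟩, by rw [mul_comm]; exact h0⟩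

theorem monomial_mem_cone (hx : Algebra.adjoin R (x : Set R') = ⊤) (r : R') : ∃ n, monomial n ((0 : R), r) ∈ cone (R := R) x := by
  have hr : r ∈ Algebra.adjoin R (x : Set R') := hx ▸ Algebra.mem_top
  have hlift : ∀ (n k : ℕ) (r : R'), monomial n ((0 : R), r) ∈ cone (R := R) x → monomial (n + k) ((0 : R), r) ∈ cone (R := R) x := by
    intro n k r h
    induction k with
    | zero => exact h
    | succ k ih =>
      have h2 := mul_mem ih (tt_mem_cone (R := R) x)
      simp only [gen, monomial_mul_monomial, Prod.mk_mul_mk, mul_zero, mul_one] at h2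
      exact h2
  induction hr using Algebra.adjoin_induction with
  | mem y hy => exact ⟨1, Algebra.subset_adjoin ⟨y, Or.inl hy, rfl⟩⟩
  | algebraMap a =>
    refine ⟨1, ?_⟩
    have h2 := mul_mem (Subalgebra.algebraMap_mem (cone (R := R) x) a) (tt_mem_cone (R := R) x)
    simp only [gen, Polynomial.algebraMap_apply, C_mul_monomial, Prod.algebraMap_apply, Prod.mk_mul_mk, mul_zero, mul_one] at h2
    exact h2
  | add a b _ _ ha hb =>
    obtain ⟨n, hn⟩ := ha
    obtain ⟨m, hm⟩ := hb
    have h2 := hlift m n b hm
    rw [add_comm m n] at h2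
    refine ⟨n + m, ?_⟩
    rw [show ((0 : R), a + b) = ((0 : R), a) + ((0 : R), b) by simp, map_add]
    exact add_mem (hlift n m a hn) h2
  | mul a b _ _ ha hb =>
    obtain ⟨n, hn⟩ := ha
    obtain ⟨m, hm⟩ := hb
    have h2 := mul_mem hn hm
    simp only [monomial_mul_monomial, Prod.mk_mul_mk, mul_zero] at h2
    exact ⟨n + m, h2⟩

include hrange in
theorem toR'_val_surjective [GradedAlgebra (piece ι)] (hx : Algebra.adjoin R (x : Set R') = ⊤) (t : S) (ht : ι t = gen R R' 1) :
    Function.Surjective ((toR' ι t ht).comp (algebraMap (HomogeneousLocalization.Away (piece ι) t) (Localization.Away t))) := by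
  intro r
  obtain ⟨n, hn⟩ := monomial_mem_cone x hx r
  rw [← hrange] at hn
  obtain ⟨q, hq⟩ := hn
  have hq' : q ∈ piece ι (n • 1) := mem_piece.mpr ⟨((0 : R), r), by rw [smul_eq_mul, mul_one]; exact hq.symm⟩
  refine ⟨HomogeneousLocalization.Away.mk (piece ι) (mem_piece.mpr ⟨_, ht.symm⟩) n q hq', ?_⟩
  rw [RingHom.comp_apply, HomogeneousLocalization.algebraMap_apply, HomogeneousLocalization.Away.val_mk, toR'_mk,
    ev_monomial q n ((0 : R), r) hq.symm]

include hι hrange in
theorem main (hx : Algebra.adjoin R (x : Set R') = ⊤) :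
    ∃ (S : Type u) (_ : CommRing S) (_ : Algebra R S) (𝒜 : ℕ → Submodule R S) (_ : GradedAlgebra 𝒜) (f : S) (_ : f ∈ 𝒜 1) (s : Finset S)
      (e : HomogeneousLocalization.Away 𝒜 f ≃+* R'),
      Function.Injective (algebraMap R S) ∧ (∀ x ∈ 𝒜 0, x ∈ Set.range (algebraMap R S)) ∧
      (↑s ⊆ (𝒜 1 : Set S)) ∧ Algebra.adjoin R (s : Set S) = ⊤ ∧
      ∀ r : R, (e.symm (algebraMap R R' r)).val = algebraMap S (Localization.Away f) (algebraMap R S r) := by
  classical
  letI G : GradedAlgebra (piece ι) :=
    { (inferInstance : SetLike.GradedMonoid (piece ι)), (isInternal x hι hrange).chooseDecomposition with }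
  have hgen : ∀ y : ↥(x ∪ {1}), ∃ q : S, ι q = gen R R' y.1 := fun y => by
    have : gen R R' y.1 ∈ ι.range := hrange ▸ Algebra.subset_adjoin ⟨y.1, by simpa using y.2, rfl⟩
    exact this
  choose g hg using hgen
  obtain ⟨t, ht⟩ : ∃ t, ι t = gen R R' 1 := ⟨g ⟨1, by simp⟩, hg _⟩
  have tmem : t ∈ piece ι 1 := mem_piece.mpr ⟨_, ht.symm⟩
  let e : HomogeneousLocalization.Away (piece ι) t ≃+* R' :=
    RingEquiv.ofBijective ((toR' ι t ht).comp (algebraMap (HomogeneousLocalization.Away (piece ι) t) (Localization.Away t)))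
      ⟨toR'_val_injective hι t ht, toR'_val_surjective x hrange hx t ht⟩
  refine ⟨S, inferInstance, inferInstance, piece ι, G, t, tmem, Finset.univ.image g, e, ?_, ?_, ?_, ?_, ?_⟩
  · intro a b hab
    have := congrArg (fun p : S => ((ι p).coeff 0).1) hab
    simpa [AlgHom.commutes, Polynomial.algebraMap_apply] using this
  · intro p hp
    obtain ⟨c, hc⟩ := mem_piece.mp hp
    have key : ∀ q, q ∈ cone (R := R) x → ∃ r, q.coeff 0 = algebraMap R (R × R') r := by
      intro q hq
      induction hq using Algebra.adjoin_induction with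
      | mem q hq => obtain ⟨y, -, rfl⟩ := hq; exact ⟨0, by simp [gen, coeff_monomial, Prod.ext_iff]⟩
      | algebraMap r => exact ⟨r, by rw [Polynomial.algebraMap_apply, coeff_C_zero]⟩
      | add q q' _ _ h h' => obtain ⟨r, hr⟩ := h; obtain ⟨r', hr'⟩ := h'; exact ⟨r + r', by rw [coeff_add, hr, hr', map_add]⟩
      | mul q q' _ _ h h' => obtain ⟨r, hr⟩ := h; obtain ⟨r', hr'⟩ := h'; exact ⟨r * r', by rw [mul_coeff_zero, hr, hr', map_mul]⟩
    obtain ⟨r, hr⟩ := key (ι p) (hrange ▸ ⟨p, rfl⟩)
    refine ⟨r, hι ?_⟩
    rw [AlgHom.commutes, Polynomial.algebraMap_apply, ← hr, ← hc, coeff_monomial, if_pos rfl, monomial_zero_left]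
  · intro q hq
    simp only [Finset.coe_image, Set.mem_image] at hq
    obtain ⟨y, -, rfl⟩ := hq
    exact mem_piece.mpr ⟨_, (hg y).symm⟩
  · refine Subalgebra.map_injective (f := ι) hι ?_
    rw [Algebra.map_top, hrange, ← Algebra.adjoin_image]
    refine congrArg (Algebra.adjoin R) (Set.ext fun q => ?_)
    simp only [Finset.coe_image, Finset.coe_univ, Set.image_univ, Set.mem_range, Set.mem_image]
    constructor
    · rintro ⟨_, ⟨y, rfl⟩, rfl⟩; exact ⟨y.1, by simpa using y.2, (hg y).symm⟩
    · rintro ⟨y, hy, rfl⟩; exact ⟨_, ⟨⟨y, by simpa using hy⟩, rfl⟩, hg _⟩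
  · intro r
    have hr0 : monomial 0 (algebraMap R (R × R') r) = ι (algebraMap R S r) := by
      rw [AlgHom.commutes, Polynomial.algebraMap_apply, monomial_zero_left]
    have hmem : algebraMap R S r ∈ piece ι (0 • 1) := mem_piece.mpr ⟨_, by rw [zero_smul]; exact hr0⟩
    have h : e (HomogeneousLocalization.Away.mk (piece ι) tmem 0 _ hmem) = algebraMap R R' r := by
      show toR' ι t ht _ = _
      rw [HomogeneousLocalization.algebraMap_apply, HomogeneousLocalization.Away.val_mk, toR'_mk,
        ev_monomial _ 0 _ hr0, Prod.algebraMap_apply]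
    rw [← h, RingEquiv.symm_apply_apply, HomogeneousLocalization.Away.val_mk, ← Localization.mk_one_eq_algebraMap]
    congr 1
    exact Subtype.ext (pow_zero t)

end

/-- Let R be a ring and R' an R-algebra of finite type. Then there are an ℕ-graded R-algebra S such that
R → S₀ is bijective and S is generated as an R-algebra by a finite set of degree-1 elements, an
element f ∈ S₁, and a ring isomorphism e between the degree-zero part S_(f) of the localization S_f
and R' which matches r/1 with the image of r in R' for every r ∈ R (so R' is identified with S_(f)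
as an R-algebra). The published statement also produces, from a finite R'-module, a finite graded
S-module whose degree-zero localization at f recovers it; that half is not part of this row. -/
theorem result (R R' : Type u) [CommRing R] [CommRing R'] [Algebra R R'] [Algebra.FiniteType R R'] :
    ∃ (S : Type u) (_ : CommRing S) (_ : Algebra R S) (𝒜 : ℕ → Submodule R S) (_ : GradedAlgebra 𝒜) (f : S) (_ : f ∈ 𝒜 1) (s : Finset S)
      (e : HomogeneousLocalization.Away 𝒜 f ≃+* R'),
      Function.Injective (algebraMap R S) ∧ (∀ x ∈ 𝒜 0, x ∈ Set.range (algebraMap R S)) ∧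
      (↑s ⊆ (𝒜 1 : Set S)) ∧ Algebra.adjoin R (s : Set S) = ⊤ ∧
      ∀ r : R, (e.symm (algebraMap R R' r)).val = algebraMap S (Localization.Away f) (algebraMap R S r) := by
  obtain ⟨x, hx⟩ := ‹Algebra.FiniteType R R'›.out
  exact main x (S := ↥(cone (R := R) x)) (ι := (cone (R := R) x).val) Subtype.val_injective (Subalgebra.range_val (cone (R := R) x)) hx

end Groth.Agent.S9671
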