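import Groth.Statements.S9677
import Groth.Agent.H17.Birat
import Groth.Agent.S4366
import Mathlib.AlgebraicGeometry.Stalk
import Mathlib.AlgebraicGeometry.Birational.Birational

set_option autoImplicit false
universe u
open CategoryTheory CategoryTheory.Limits AlgebraicGeometry
open Mor

namespace Groth.Agent.S9677

open CategoryTheory CategoryTheory.Limits AlgebraicGeometry TopologicalSpace
open Groth.Agent.H17.Birat Groth.Agent.H17.GenFinite Groth.Agent.H17.AssPts

/-- Suppose X and Y have finitely many irreducible components and f : X ⟶ Y is birational, i.e. f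
restricts to a bijection between the generic points of the irreducible components of X and those of
Y and induces an isomorphism of local rings at every generic point of an irreducible component of X.
Then for any generic point y of a component of Y, pulling f back along the canonical map Spec
O_{Y,y} ⟶ Y gives an isomorphism onto Spec O_{Y,y}. -/
theorem result {X Y : Scheme.{u}} (f : X ⟶ Y)
    (hXfin : (irreducibleComponents ↥X).Finite) (hYfin : (irreducibleComponents ↥Y).Finite)
    (hbij : Set.BijOn (fun x : X => f.base x) {x : X | closure {x} ∈ irreducibleComponents ↥X}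
      {y : Y | closure {y} ∈ irreducibleComponents ↥Y})
    (hiso : ∀ x : X, closure {x} ∈ irreducibleComponents ↥X → IsIso (f.stalkMap x))
    (y : Y) (hy : closure {y} ∈ irreducibleComponents ↥Y) :
    IsIso (pullback.snd f (Y.fromSpecStalk y)) := by
  obtain ⟨x, hx, hxy⟩ := hbij.surjOn hy
  haveI := hiso x hx
  subst hxy
  set g := Y.fromSpecStalk (f x)
  have hy' : f x ∈ genericPoints Y := hy
  have hfib : ∀ z, f z = f x → z = x := fun z hz =>
    fibre_eq f x hy' (fun γ hγ h => hbij.injOn hγ hx h) hz
  have hg : ∀ s, g s = f x := fun s =>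
    Groth.Agent.H17.mem_genericPoints_iff.1 hy' _ (show g s ∈ {z | z ⤳ f x} from
      Scheme.range_fromSpecStalk (x := f x) ▸ Set.mem_range_self s)
  have hgsub : Subsingleton (Spec (Y.presheaf.stalk (f x))) :=
    ⟨fun a b => g.isEmbedding.injective ((hg a).trans (hg b).symm)⟩
  have hPsub : Subsingleton (pullback f g : Scheme.{u}) := by
    refine ⟨fun a b => (pullback.fst f g).isEmbedding.injective ?_⟩
    have : ∀ c, pullback.fst f g c = x := fun c => by
      refine hfib _ ?_
      rw [← Scheme.Hom.comp_apply, pullback.condition, Scheme.Hom.comp_apply, hg]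
    rw [this, this]
  haveI : Surjective (pullback.snd f g) := ⟨fun s => by
    obtain ⟨t, -, ht⟩ := Scheme.Pullback.exists_preimage_pullback (f := f) (g := g) x s (hg s).symm
    exact ⟨t, ht⟩⟩
  have hgiso : ∀ s, IsIso (g.stalkMap s) := fun s => by
    have hp : IsIso ((pullback.fst (𝟙 Y) g).stalkMap (inv (pullback.snd (𝟙 Y) g) s)) :=
      Groth.Agent.S4366.result (𝟙 Y) (f x) _
    have h : IsIso ((inv (pullback.snd (𝟙 Y) g) ≫ pullback.fst (𝟙 Y) g).stalkMap s) := by
      rw [Scheme.Hom.stalkMap_comp]
      exact @IsIso.comp_isIso _ _ _ _ _ _ _ hp inferInstance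
    refine isIso_stalkMap_congr ?_ s h
    rw [IsIso.inv_comp_eq, ← pullback.condition, Category.comp_id]
  haveI : ∀ t, IsIso ((pullback.snd f g).stalkMap t) := fun t => by
    have hp := Groth.Agent.S4366.result f (f x) t
    have hx' : pullback.fst f g t = x := hfib _ (by
      rw [← Scheme.Hom.comp_apply, pullback.condition, Scheme.Hom.comp_apply, hg])
    have hf' : IsIso (f.stalkMap (pullback.fst f g t)) := by rw [hx']; exact hiso x hx
    have h : IsIso ((pullback.fst f g ≫ f).stalkMap t) := by
      rw [Scheme.Hom.stalkMap_comp]
      exact @IsIso.comp_isIso _ _ _ _ _ _ _ hf' hp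
    have h' := isIso_stalkMap_congr pullback.condition t h
    have h'' : IsIso (g.stalkMap (pullback.snd f g t) ≫ (pullback.snd f g).stalkMap t) := by
      rw [← Scheme.Hom.stalkMap_comp]; exact h'
    exact @IsIso.of_isIso_comp_left _ _ _ _ _ _ _ (hgiso _) h''
  haveI : IsOpenImmersion (pullback.snd f g) := IsOpenImmersion.of_isIso_stalkMap _
    (.of_continuous_injective_isOpenMap (pullback.snd f g).continuous
      (Function.injective_of_subsingleton _) fun O _ => by
        rcases Set.eq_empty_or_nonempty ((pullback.snd f g) '' O) with h | ⟨w, hw⟩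
        · rw [h]; exact isOpen_empty
        · rw [show (pullback.snd f g) '' O = Set.univ from
            Set.eq_univ_of_forall fun s => Subsingleton.elim w s ▸ hw]
          exact isOpen_univ)
  exact (isIso_iff_isOpenImmersion_and_surjective _).2 ⟨inferInstance, inferInstance⟩

end Groth.Agent.S9677
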