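import Groth.Statements.S9679
import Groth.Agent.H17.Birat
import Mathlib.AlgebraicGeometry.Stalk
import Mathlib.AlgebraicGeometry.Birational.Birational

set_option autoImplicit false
universe u
open CategoryTheory CategoryTheory.Limits AlgebraicGeometry
open Mor

namespace Groth.Agent.S9679

open CategoryTheory CategoryTheory.Limits AlgebraicGeometry TopologicalSpace
open Groth.Agent.H17.Birat Groth.Agent.H17.GenFinite Groth.Agent.H17.AssPts

/-- Suppose X and Y have finitely many irreducible components and f : X ⟶ Y is birational, i.e. f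
restricts to a bijection between the generic points of the irreducible components of X and those of
Y and induces an isomorphism of local rings at every generic point of an irreducible component of X.
Assume that f is quasi-compact or separated, and moreover that f is locally of finite presentation,
or else Y is reduced and f is locally of finite type. Under these hypotheses, some dense open V ⊆ Y
has the property that the restriction f⁻¹(V) ⟶ V of f is an isomorphism. -/
theorem result {X Y : Scheme.{u}} (f : X ⟶ Y)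
    (hXfin : (irreducibleComponents ↥X).Finite) (hYfin : (irreducibleComponents ↥Y).Finite)
    (hbij : Set.BijOn (fun x : X => f.base x) {x : X | closure {x} ∈ irreducibleComponents ↥X}
      {y : Y | closure {y} ∈ irreducibleComponents ↥Y})
    (hiso : ∀ x : X, closure {x} ∈ irreducibleComponents ↥X → IsIso (f.stalkMap x))
    (hf₁ : QuasiCompact f ∨ IsSeparated f)
    (hf₂ : (LocallyOfFiniteType f ∧ IsReduced Y) ∨ LocallyOfFinitePresentation f) :
    ∃ V : Y.Opens, Dense (V : Set ↥Y) ∧ IsIso (f ∣_ V) := by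
  haveI : LocallyOfFiniteType f := by
    rcases hf₂ with ⟨h, _⟩ | h
    · exact h
    · infer_instance
  obtain ⟨O, hO, hOd⟩ := exists_disjoint_nhds hYfin
  -- separatedness near the maximal points
  have hsep : ∀ x : genericPoints X, ∃ W : Y.Opens, IsAffineOpen W ∧ f x.1 ∈ W ∧ W ≤ O (f x.1) ∧
      IsSeparated (f ∣_ W) := by
    intro ⟨x, hx⟩
    obtain ⟨V₀, hV₀, hxV, hle⟩ := exists_isAffineOpen_mem_and_subset (hO _ (hbij.mapsTo hx))
    rcases hf₁ with hqc | hs
    · have hfib : f.base ⁻¹' {f x} = {x} := by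
        ext z
        haveI := hiso x hx
        exact ⟨fun hz => fibre_eq f x (hbij.mapsTo hx) (fun γ hγ h => hbij.injOn hγ hx h) hz,
          fun hz => by rw [hz]; rfl⟩
      obtain ⟨U₀, hU₀, hxU, hU₀le⟩ := exists_isAffineOpen_mem_and_subset (U := f ⁻¹ᵁ V₀) (x := x) hxV
      obtain ⟨s, hs, hfin⟩ := exists_isFinite_nhd f (hbij.mapsTo hx) hV₀ hxV
        (f.isCompact_preimage hV₀.isCompact) (hfib ▸ Set.finite_singleton x) (fun _ => U₀)
        (by rw [hfib]; rintro z rfl; exact ⟨hU₀, hxU, fun w hw => hU₀le hw⟩)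
        (hfib ▸ Set.pairwiseDisjoint_singleton _ _)
      exact ⟨_, hV₀.basicOpen s, hs, (Y.basicOpen_le s).trans fun z hz => hle hz, inferInstance⟩
    · exact ⟨V₀, hV₀, hxV, fun z hz => hle hz, inferInstance⟩
  have key : ∀ x : genericPoints X, ∃ V : Y.Opens, f x.1 ∈ V ∧ V ≤ O (f x.1) ∧
      IsIso (f ∣_ V) := by
    intro i
    obtain ⟨W, hW, hxW, hWO, hWsep⟩ := hsep i
    obtain ⟨x, hx⟩ := i
    have huniq : ∀ γ ∈ genericPoints Y, γ ∈ W → γ = f x := fun γ hγ hγV =>
      hOd.elim hγ (hbij.mapsTo hx) fun hd => (hd.le_bot ⟨hO γ hγ, hWO hγV⟩ : γ ∈ (⊥ : Y.Opens))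
    obtain ⟨U, V, e, hxU, hxV, hVW, h⟩ :=
      exists_birational_chart f hbij hiso (hf₂.imp_left And.right) hx hW hxW huniq
    haveI := h
    haveI : IsSeparated (f ∣_ V) := by
      haveI := hWsep
      have h' : IsSeparated (f.resLE V (f ⁻¹ᵁ V) le_rfl ≫ Y.homOfLE hVW) := by
        have h2 : X.homOfLE (f.preimage_mono hVW) ≫ (f ∣_ W) =
            f.resLE W (f ⁻¹ᵁ V) (f.preimage_mono hVW) := by
          rw [← Scheme.Hom.resLE_eq_morphismRestrict, Scheme.Hom.map_resLE]
        rw [Scheme.Hom.resLE_map, ← h2]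
        infer_instance
      rw [← Scheme.Hom.resLE_eq_morphismRestrict]
      exact IsSeparated.of_comp _ (Y.homOfLE hVW)
    have hUe : U = f ⁻¹ᵁ V := eq_preimage_of_isIso_resLE f e fun γ hγ hγV => by
      rw [hbij.injOn hγ hx (huniq _ (hbij.mapsTo hγ) (hVW hγV))]; exact hxU
    subst hUe
    exact ⟨V, hxV, hVW.trans hWO, by rw [← Scheme.Hom.resLE_eq_morphismRestrict]; exact h⟩
  choose V hyV hVO h using key
  refine ⟨⨆ i, V i, ?_, ?_⟩
  · refine dense_of_genericPoints_subset fun η hη => ?_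
    obtain ⟨x, hx, rfl⟩ := hbij.surjOn hη
    exact Opens.mem_iSup.2 ⟨⟨x, hx⟩, hyV _⟩
  · have hpre : f ⁻¹ᵁ (⨆ i, V i) = ⨆ i, f ⁻¹ᵁ V i := Scheme.Hom.preimage_iSup _ _
    have hiso' : IsIso (f.resLE (⨆ i, V i) (⨆ i, f ⁻¹ᵁ V i) hpre.ge) := by
      refine isIso_resLE_iSup f (fun i => f ⁻¹ᵁ V i) V (fun i => le_rfl) (fun i j hij => ?_)
        (fun i => by rw [Scheme.Hom.resLE_eq_morphismRestrict]; exact h i) _
      refine (hOd (hbij.mapsTo i.2) (hbij.mapsTo j.2) fun h' => hij ?_).mono (hVO i) (hVO j)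
      exact Subtype.ext (hbij.injOn i.2 j.2 h')
    exact isIso_morphismRestrict_of_eq f hpre.ge hpre.symm hiso'

end Groth.Agent.S9679
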