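import Groth.Statements.S9681
import Groth.Agent.H17.BiratOver
import Mathlib.AlgebraicGeometry.Birational.Birational
import Mathlib.AlgebraicGeometry.SpreadingOut

set_option autoImplicit false
universe u
open CategoryTheory CategoryTheory.Limits AlgebraicGeometry
open Mor

namespace Groth.Agent.S9681

open CategoryTheory CategoryTheory.Limits AlgebraicGeometry TopologicalSpace
open Groth.Agent.H17 Groth.Agent.H17.BiratOver

/-- Suppose X and Y are integral S-schemes, each locally of finite type over S, with generic points x
and y. Then X and Y are S-birational (they admit S-isomorphic nonempty opens) if and only if x and y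
map to the same point s of S and the residue fields of x and y are isomorphic as extensions of the
residue field of s. -/
theorem result {S X Y : Scheme.{u}}
    [IsIntegral X] [IsIntegral Y] (sX : X ⟶ S) (sY : Y ⟶ S)
    [LocallyOfFiniteType sX] [LocallyOfFiniteType sY] :
    Scheme.BirationalOver sX sY ↔
      ∃ (hs : sX.base (genericPoint ↥X) = sY.base (genericPoint ↥Y))
        (e : X.residueField (genericPoint ↥X) ≅ Y.residueField (genericPoint ↥Y)),
        sX.residueFieldMap (genericPoint ↥X) ≫ e.hom =
          eqToHom (congrArg S.residueField hs) ≫ sY.residueFieldMap (genericPoint ↥Y) := by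
  have hiso : ∀ (Z : Scheme.{u}) [IsIntegral Z], IsIso (Z.residue (genericPoint Z)) := fun Z _ => by
    refine (ConcreteCategory.isIso_iff_bijective _).2 ⟨?_, Scheme.residue_surjective Z _⟩
    letI : Field (Z.presheaf.stalk (genericPoint Z)) := inferInstanceAs (Field Z.functionField)
    exact RingHom.injective _
  haveI := hiso X
  haveI := hiso Y
  have hres : ∀ {a b : S} (h : a = b), S.residue a ≫ eqToHom (congrArg S.residueField h) =
      eqToHom (congrArg S.presheaf.stalk h) ≫ S.residue b := by
    intro a b h; subst h; simp
  constructor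
  · intro h
    obtain ⟨hs, e, he⟩ := exists_stalk_iso_of_birationalOver sX sY h
    refine ⟨hs, (asIso (X.residue _)).symm ≪≫ e ≪≫ asIso (Y.residue _), ?_⟩
    rw [← cancel_epi (S.residue _)]
    rw [reassoc_of% (Scheme.residue_residueFieldMap sX (genericPoint X))]
    rw [reassoc_of% (hres hs), Scheme.residue_residueFieldMap sY (genericPoint Y)]
    simp only [Iso.trans_hom, Iso.symm_hom, asIso_inv, asIso_hom, IsIso.hom_inv_id_assoc]
    rw [reassoc_of% he]
  · rintro ⟨hs, e, he⟩
    let e' := asIso (X.residue (genericPoint X)) ≪≫ e ≪≫ (asIso (Y.residue (genericPoint Y))).symm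
    have he₁ : sX.stalkMap (genericPoint X) ≫ e'.hom =
        eqToHom (congrArg S.presheaf.stalk hs) ≫ sY.stalkMap (genericPoint Y) := by
      simp only [e', Iso.trans_hom, Iso.symm_hom, asIso_inv, asIso_hom]
      rw [← reassoc_of% (Scheme.residue_residueFieldMap sX (genericPoint X)), reassoc_of% he,
        reassoc_of% (hres hs), reassoc_of% (Scheme.residue_residueFieldMap sY (genericPoint Y)),
        IsIso.hom_inv_id, Category.comp_id]
    have he' : sY.stalkMap (genericPoint Y) ≫ e'.inv =
        eqToHom (congrArg S.presheaf.stalk hs.symm) ≫ sX.stalkMap (genericPoint X) := by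
      rw [Iso.comp_inv_eq, Category.assoc, he₁, ← Category.assoc, eqToHom_trans, eqToHom_refl,
        Category.id_comp]
    obtain ⟨U, hxU, f, hf, hfs⟩ := spread_out_of_isGermInjective sX sY hs e'.inv (by
      rw [stalkSpecializes_eq_eqToHom hs]; exact he')
    obtain ⟨V, hyV, g, hg, hgs⟩ := spread_out_of_isGermInjective sY sX hs.symm e'.hom (by
      rw [stalkSpecializes_eq_eqToHom hs.symm]; exact he₁)
    exact birationalOver_of_spread sX sY hxU f hfs hyV g hgs e' hf hg

end Groth.Agent.S9681
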