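import Groth.Statements.S9682
import Groth.Agent.H17.Fibre
import Mathlib.AlgebraicGeometry.Normalization

set_option autoImplicit false
universe u
open CategoryTheory CategoryTheory.Limits AlgebraicGeometry
open Mor

namespace Groth.Agent.S9682

open CategoryTheory Limits AlgebraicGeometry TopologicalSpace

/-- Take f : X ⟶ Y locally of finite type and η the generic point of some irreducible component of Y.
Three conditions turn out to coincide: (1) each point of X mapping to η is the generic point of some
irreducible component of X; (2) f is quasi-finite at every point over η; (3) f is quasi-finite at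
each point over η that is generic in some irreducible component of X. Stated as (1) iff (2) together
with (1) iff (3). -/
theorem result {X Y : Scheme.{u}} (f : X ⟶ Y)
    [LocallyOfFiniteType f] (η : Y) (hη : closure {η} ∈ irreducibleComponents ↥Y) :
    ((∀ x : X, f.base x = η → closure {x} ∈ irreducibleComponents ↥X) ↔
      (∀ x : X, f.base x = η → f.QuasiFiniteAt x)) ∧
    ((∀ x : X, f.base x = η → closure {x} ∈ irreducibleComponents ↥X) ↔
      (∀ x : X, f.base x = η → closure {x} ∈ irreducibleComponents ↥X → f.QuasiFiniteAt x)) := by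
  have hgen : ∀ x' x : X, x' ⤳ x → f x = η → f x' = η := fun x' x h e =>
    Groth.Agent.H17.mem_genericPoints_iff.mp hη _ (e ▸ h.map f.continuous)
  have hqmax : ∀ x : X, f x = η → f.QuasiFiniteAt x → x ∈ genericPoints X := by
    intro x e hq
    refine Groth.Agent.H17.mem_genericPoints_iff.mpr fun x' hx' => ?_
    obtain ⟨z, hz⟩ : ∃ z : f.fiber (f x), f.fiberι _ z = x' := by
      have : x' ∈ Set.range (f.fiberι (f x)) := by
        rw [Scheme.Hom.range_fiberι]; exact (hgen x' x hx' e).trans e.symm
      exact this
    have := (Groth.Agent.H17.quasiFiniteAt_iff_isClosed_and_max f x).mp hq |>.2 z (by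
      rw [← (f.fiberι (f x)).isEmbedding.isInducing.specializes_iff, hz, Scheme.Hom.fiberι_asFiber]; exact hx')
    rw [← hz, this, Scheme.Hom.fiberι_asFiber]
  have hmax : (∀ x : X, f x = η → x ∈ genericPoints X) → ∀ x : X, f x = η → f.QuasiFiniteAt x := by
    intro H x e
    refine (Groth.Agent.H17.quasiFiniteAt_iff_isClosed_and_max f x).mpr ⟨?_, fun z hz => ?_⟩
    · rw [← closure_subset_iff_isClosed]
      intro z hz
      have h1 := (specializes_iff_mem_closure.mpr hz).map (f.fiberι (f x)).continuous
      rw [Scheme.Hom.fiberι_asFiber] at h1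
      have hzη : f (f.fiberι _ z) = η := by
        have : f.fiberι _ z ∈ f ⁻¹' {f x} := (Scheme.Hom.range_fiberι f (f x)) ▸ ⟨z, rfl⟩
        exact (Set.mem_singleton_iff.mp this).trans e
      have := Groth.Agent.H17.mem_genericPoints_iff.mp (H _ hzη) _ h1
      exact (f.fiberι (f x)).isEmbedding.injective (by rw [Scheme.Hom.fiberι_asFiber, ← this])
    · have h1 := hz.map (f.fiberι (f x)).continuous
      rw [Scheme.Hom.fiberι_asFiber] at h1
      have := Groth.Agent.H17.mem_genericPoints_iff.mp (H x e) _ h1
      exact (f.fiberι (f x)).isEmbedding.injective (by rw [Scheme.Hom.fiberι_asFiber, this])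
  refine ⟨⟨hmax, fun H x e => hqmax x e (H x e)⟩, ⟨fun H x e _ => hmax H x e, fun H x e => ?_⟩⟩
  obtain ⟨g, hg, hgx⟩ := Groth.Agent.H17.exists_genericPoint_specializes x
  have hgη : f g = η := hgen g x hgx e
  have hqg := H g hgη hg
  obtain ⟨z, hz⟩ : ∃ z : f.fiber (f g), f.fiberι _ z = x := by
    have : x ∈ Set.range (f.fiberι (f g)) := by
      rw [Scheme.Hom.range_fiberι]; exact e.trans hgη.symm
    exact this
  have hzm : z ∈ closure {f.asFiber g} := specializes_iff_mem_closure.mp (by
    rw [← (f.fiberι (f g)).isEmbedding.isInducing.specializes_iff, hz, Scheme.Hom.fiberι_asFiber]; exact hgx)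
  rw [((Groth.Agent.H17.quasiFiniteAt_iff_isClosed_and_max f g).mp hqg).1.closure_eq] at hzm
  rw [← hz, Set.mem_singleton_iff.mp hzm, Scheme.Hom.fiberι_asFiber]
  exact hg

end Groth.Agent.S9682
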