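import Groth.Statements.S9690
import Groth.Agent.H17.NormalizationUP
import Groth.Agent.H17.Fibre
-- import your own Groth.Agent.* helpers here

set_option autoImplicit false
universe u
open CategoryTheory CategoryTheory.Limits AlgebraicGeometry
open Mor

namespace Groth.Agent.S9690

/-- Part (4): for an integral scheme X: let g : Z ⟶ X be a morphism from a normal scheme Z such that
every irreducible component of Z dominates X, i.e. every generic point of an irreducible component
of Z maps to the generic point of X. Then g factors uniquely through the normalization X^ν ⟶ X. (The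
published statement allows X with locally finitely many irreducible components; this row takes X
integral.) (The quasi-compactness and quasi-separatedness binders on Spec K(X) ⟶ X always hold; they
are only needed to form the normalization.) -/
theorem result (X : Scheme.{u}) [IsIntegral X] [QuasiCompact (X.fromSpecStalk (genericPoint ↥X))] [QuasiSeparated (X.fromSpecStalk (genericPoint ↥X))]
    {Z : Scheme.{u}} (g : Z ⟶ X) (hZ : Pi1.IsNormalScheme Z)
    (hdom : ∀ z : Z, closure {z} ∈ irreducibleComponents ↥Z → g.base z = genericPoint ↥X) :
    ∃! h : Z ⟶ Curv2.normalization X, h ≫ Curv2.normalizationι X = g := by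
  refine Groth.Agent.H17.NormalizationUP.existsUnique_lift X g hZ fun y => ?_
  obtain ⟨z, hz, hzy⟩ := Groth.Agent.H17.exists_genericPoint_specializes y
  have hgz : g z = genericPoint X := hdom z hz
  have hspec : g z ⤳ g y := hzy.map g.continuous
  rw [injective_iff_map_eq_zero]
  intro a ha
  obtain ⟨U, hyU, a, rfl⟩ := X.presheaf.exists_germ_eq a
  have h1 := congrArg (Z.presheaf.stalkSpecializes hzy) ha
  rw [map_zero, ← CommRingCat.comp_apply, ← Scheme.Hom.stalkSpecializes_stalkMap g z y hzy,
    CommRingCat.comp_apply, TopCat.Presheaf.germ_stalkSpecializes_apply] at h1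
  have hfield : IsField (X.presheaf.stalk (g z)) := by rw [hgz]; exact Field.toIsField X.functionField
  letI := hfield.toField
  haveI := (hZ z).1
  have h2 := ((g.stalkMap z).hom.injective (h1.trans (map_zero _).symm))
  haveI : Nonempty U := ⟨⟨_, hyU⟩⟩
  rw [germ_injective_of_isIntegral X (g z) (hspec.mem_open U.2 hyU) (h2.trans (map_zero _).symm), map_zero]

end Groth.Agent.S9690
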