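import Groth.Statements.S9692
import Groth.Agent.LeadChow.SegreBase
-- import your own Groth.Agent.* helpers here

set_option autoImplicit false
universe u
open CategoryTheory CategoryTheory.Limits AlgebraicGeometry
open Mor

namespace Groth.Agent.S9692

/-- A composition of H-projective morphisms (closed immersions into a projective space P^n over the
target, followed by the projection) is H-projective. -/
theorem result {X Y Z : Scheme.{u}} (f : X ⟶ Y) (g : Y ⟶ Z)
    (hf : RelProj.IsHProjective f) (hg : RelProj.IsHProjective g) :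
    RelProj.IsHProjective (f ≫ g) := by
  obtain ⟨n, i, hi, rfl⟩ := hf
  obtain ⟨m, j, hj, rfl⟩ := hg
  set g : Y ⟶ Z := j ≫ CohB1.ProjSpaceOver.toBase m Z with hg
  have hY : IsPullback (pullback.fst _ _) (CohB1.ProjSpaceOver.toBase n Y) (CohB1.ProjSpace.toSpec n (ULift.{u} ℤ))
      (specULiftZIsTerminal.from Y) := IsPullback.of_hasPullback _ _
  have hZ : IsPullback (pullback.fst _ _) (CohB1.ProjSpaceOver.toBase n Z) (CohB1.ProjSpace.toSpec n (ULift.{u} ℤ))
      (specULiftZIsTerminal.from Z) := IsPullback.of_hasPullback _ _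
  obtain ⟨a, ha₁, ha₂⟩ : ∃ a : CohB1.ProjSpaceOver n Y ⟶ CohB1.ProjSpaceOver n Z,
      a ≫ pullback.fst _ _ = pullback.fst _ _ ∧ a ≫ CohB1.ProjSpaceOver.toBase n Z = CohB1.ProjSpaceOver.toBase n Y ≫ g :=
    ⟨hZ.lift (pullback.fst _ _) (CohB1.ProjSpaceOver.toBase n Y ≫ g) (specULiftZIsTerminal.hom_ext _ _),
      hZ.lift_fst _ _ _, hZ.lift_snd _ _ _⟩
  have hsq : IsPullback a (CohB1.ProjSpaceOver.toBase n Y) (CohB1.ProjSpaceOver.toBase n Z) g := by
    refine IsPullback.of_right (t := hZ) ?_ ha₂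
    rw [ha₁, show g ≫ specULiftZIsTerminal.from Z = specULiftZIsTerminal.from Y from specULiftZIsTerminal.hom_ext _ _]
    exact hY
  have hc : a ≫ CohB1.ProjSpaceOver.toBase n Z =
      (CohB1.ProjSpaceOver.toBase n Y ≫ j) ≫ CohB1.ProjSpaceOver.toBase m Z := by
    rw [ha₂, hg, Category.assoc]
  obtain ⟨φ, hφ, hφb⟩ := LeadChow.Segre.exists_segre Z n m
  have hPP := IsPullback.of_hasPullback (CohB1.ProjSpaceOver.toBase n Z) (CohB1.ProjSpaceOver.toBase m Z)
  have hb : IsPullback (pullback.lift a (CohB1.ProjSpaceOver.toBase n Y ≫ j) hc) (CohB1.ProjSpaceOver.toBase n Y)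
      (pullback.snd (CohB1.ProjSpaceOver.toBase n Z) (CohB1.ProjSpaceOver.toBase m Z)) j := by
    refine IsPullback.of_right (t := hPP) ?_ (pullback.lift_snd _ _ _)
    rw [pullback.lift_fst]
    exact hsq
  haveI : IsClosedImmersion (pullback.lift a (CohB1.ProjSpaceOver.toBase n Y ≫ j) hc) :=
    MorphismProperty.of_isPullback hb.flip hj
  haveI := hi
  haveI := hφ
  refine ⟨n * m + n + m, i ≫ pullback.lift a (CohB1.ProjSpaceOver.toBase n Y ≫ j) hc ≫ φ, inferInstance, ?_⟩
  simp only [Category.assoc]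
  rw [hφb, pullback.lift_fst_assoc, ha₂]

end Groth.Agent.S9692
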