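import Groth.Statements.S9693

-- import your own Groth.Agent.* helpers here

set_option autoImplicit false
universe u
open CategoryTheory CategoryTheory.Limits AlgebraicGeometry
open Mor

namespace Groth.Agent.S9693

/-- A base change of an H-projective morphism (a closed immersion into some P^n over the base followed
by the projection) is H-projective. -/
theorem result {X S S' : Scheme.{u}} (f : X ⟶ S) (hf : RelProj.IsHProjective f)
    (g : S' ⟶ S) : RelProj.IsHProjective (pullback.snd f g) := by
  obtain ⟨n, i, hi, rfl⟩ := hf
  let Z := specULiftZIsTerminal.from S'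
  let m : CohB1.ProjSpaceOver n S' ⟶ CohB1.ProjSpaceOver n S :=
    pullback.lift (pullback.fst _ _) (pullback.snd _ _ ≫ g)
      (pullback.condition.trans (specULiftZIsTerminal.hom_ext _ _))
  have hm1 : m ≫ pullback.fst _ _ = pullback.fst _ _ := pullback.lift_fst _ _ _
  have hm2 : m ≫ CohB1.ProjSpaceOver.toBase n S = CohB1.ProjSpaceOver.toBase n S' ≫ g := pullback.lift_snd _ _ _
  have sqP : IsPullback m (CohB1.ProjSpaceOver.toBase n S') (CohB1.ProjSpaceOver.toBase n S) g := by
    refine IsPullback.of_right ?_ hm2 (IsPullback.of_hasPullback (CohB1.ProjSpace.toSpec n (ULift.{u} ℤ))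
      (specULiftZIsTerminal.from S))
    rw [hm1, show g ≫ specULiftZIsTerminal.from S = specULiftZIsTerminal.from S' from specULiftZIsTerminal.hom_ext _ _]
    exact IsPullback.of_hasPullback _ _
  let f := i ≫ CohB1.ProjSpaceOver.toBase n S
  let j : pullback f g ⟶ CohB1.ProjSpaceOver n S' :=
    sqP.lift (pullback.fst f g ≫ i) (pullback.snd f g) (by rw [Category.assoc]; exact pullback.condition)
  have sqX : IsPullback (pullback.fst f g) j i m := by
    refine IsPullback.of_bot ?_ (sqP.lift_fst _ _ _).symm sqP
    rw [sqP.lift_snd]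
    exact IsPullback.of_hasPullback f g
  exact ⟨n, j, MorphismProperty.of_isPullback (P := @IsClosedImmersion) sqX hi, sqP.lift_snd _ _ _⟩

end Groth.Agent.S9693
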