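import Groth.Statements.S9701
import Groth.Agent.H17.TwoGlue
import Mathlib.AlgebraicGeometry.ValuativeCriterion
import Mathlib.AlgebraicGeometry.Morphisms.SchemeTheoreticallyDominant

set_option autoImplicit false
universe u
open CategoryTheory CategoryTheory.Limits AlgebraicGeometry
open Mor

namespace Groth.Agent.S9701

open CategoryTheory Limits AlgebraicGeometry TopologicalSpace
open Groth.Agent.H17 IsLocalRing

/-- Let p : X ⟶ S and q : Y ⟶ S with q proper, let x be a point of X whose local ring is a valuation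
ring, U ⊆ X an open with x in the closure of U, and f : U ⟶ Y a morphism over S. Assume that X is
Noetherian, or else that X is reduced and has only finitely many irreducible components. Then there
are an open U' of X containing U and x and a morphism f' : U' ⟶ Y over S extending f. -/
theorem result {X Y S : Scheme.{u}} (p : X ⟶ S) (q : Y ⟶ S)
    [IsProper q] (x : X) (U : X.Opens) (f : (U : Scheme.{u}) ⟶ Y) (hf : f ≫ q = U.ι ≫ p)
    (hx : x ∈ closure (U : Set ↥X))
    (hX : (IsReduced X ∧ (irreducibleComponents ↥X).Finite) ∨ IsNoetherian X)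
    (hdom : IsDomain (X.presheaf.stalk x)) (hval : @ValuationRing (X.presheaf.stalk x) _ hdom) :
    ∃ (U' : X.Opens) (hUU' : U ≤ U'), x ∈ U' ∧
      ∃ f' : (U' : Scheme.{u}) ⟶ Y, f' ≫ q = U'.ι ≫ p ∧ X.homOfLE hUU' ≫ f' = f := by
  obtain ⟨W, hxW, hWaff, hW⟩ := exists_isIntegral_nhd x (hX.symm.imp (fun h => h.toIsLocallyNoetherian) id)
  let O := X.presheaf.stalk x
  let K := FractionRing O
  let aK : O ⟶ .of K := CommRingCat.ofHom (algebraMap O K)
  let j : Spec (.of K) ⟶ X := Spec.map aK ≫ X.fromSpecStalk x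
  -- the image of the generic point is the generic point of `W`
  let η : X := j (closedPoint K)
  have hsp : ∀ z : Spec O, (Spec.map aK (closedPoint K) : Spec O) ⤳ z := fun z => by
    refine (PrimeSpectrum.le_iff_specializes _ _).mp ?_
    show (maximalIdeal K).comap (algebraMap O K) ≤ z.asIdeal
    rw [maximalIdeal_eq_bot, ← RingHom.ker_eq_comap_bot,
      (RingHom.injective_iff_ker_eq_bot _).mp (IsFractionRing.injective O K)]
    exact bot_le
  have hηx : η ⤳ x := by
    have := (hsp (closedPoint O)).map (X.fromSpecStalk x).continuous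
    rwa [Scheme.fromSpecStalk_closedPoint] at this
  have hηW : η ∈ W := hηx.mem_open W.2 hxW
  have hgenW : ∀ (T : X.Opens), (∃ z, z ∈ T ∧ z ∈ W) → η ∈ T := by
    rintro T ⟨z, hzT, hzW⟩
    have : Nonempty W.toScheme := ⟨⟨x, hxW⟩⟩
    let γ : X := (genericPoint W.toScheme).1
    have hγ : ∀ w : X, w ∈ W → γ ⤳ w := fun w hw =>
      ((genericPoint_spec W.toScheme).specializes (y := (⟨w, hw⟩ : W.toScheme)) trivial).map W.ι.continuous
    have hγx : γ ∈ Set.range (X.fromSpecStalk x) := by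
      rw [Scheme.range_fromSpecStalk]; exact hγ x hxW
    obtain ⟨c, hc⟩ := hγx
    have hηγ : η ⤳ γ := by rw [← hc]; exact (hsp c).map (X.fromSpecStalk x).continuous
    exact hηγ.mem_open T.2 ((hγ z hzW).mem_open T.2 hzT)
  have hηU : η ∈ U := by
    obtain ⟨z, hzW, hzU⟩ := mem_closure_iff.mp hx W W.2 hxW
    exact hgenW U ⟨z, hzU, hzW⟩
  have hjr : ∀ T : X.Opens, η ∈ T → Set.range j ⊆ Set.range T.ι := fun T hT => by
    rw [Scheme.Opens.range_ι]
    rintro _ ⟨z, rfl⟩
    rw [show z = closedPoint K from Subsingleton.elim (α := PrimeSpectrum K) _ _]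
    exact hT
  let jU := IsOpenImmersion.lift U.ι j (hjr U hηU)
  have hjU : jU ≫ U.ι = j := IsOpenImmersion.lift_fac _ _ _
  have hsq : (jU ≫ f) ≫ q = Spec.map aK ≫ (X.fromSpecStalk x ≫ p) := by
    rw [Category.assoc, hf, reassoc_of% hjU]
    simp only [j, Category.assoc]
  have : IsDomain (O : Type u) := hdom
  have : ValuationRing (O : Type u) := hval
  obtain ⟨⟨⟨g, hg₁, hg₂⟩⟩⟩ := (ValuativeCriterion.existence (by
      have := (IsProper.eq_valuativeCriterion ▸ (inferInstance : IsProper q) : _)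
      exact this.1.1.1) { R := O, K := K, domain := hdom, valuationRing := hval, i₁ := jU ≫ f, i₂ := X.fromSpecStalk x ≫ p, commSq := ⟨hsq⟩ })
  dsimp only at hg₁ hg₂
  have : X.IsGermInjectiveAt x := by
    have : (W.toScheme).IsGermInjectiveAt ⟨x, hxW⟩ := inferInstance
    exact (isGermInjectiveAt_iff_of_isOpenImmersion (f := W.ι) (x := (⟨x, hxW⟩ : W.toScheme))).mpr this
  obtain ⟨V, hxV, b, hb, hbq⟩ := spread_out_of_isGermInjective' p q (x := x) g hg₂
  let V' := V ⊓ W
  let b' := X.homOfLE (inf_le_left : V' ≤ V) ≫ b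
  let T := U ⊓ V'
  have hηV' : η ∈ V' := hgenW V' ⟨x, ⟨hxV, hxW⟩, hxW⟩
  have hηT : η ∈ T := ⟨hηU, hηV'⟩
  have hTW : T ≤ W := inf_le_right.trans inf_le_right
  have : IsReduced T.toScheme := isReduced_of_isOpenImmersion (X.homOfLE hTW)
  let jT := IsOpenImmersion.lift T.ι j (hjr T hηT)
  have hjT : jT ≫ T.ι = j := IsOpenImmersion.lift_fac _ _ _
  have : IsDominant jT := by
    refine ⟨dense_iff_inter_open.mpr fun O' hO' ⟨z, hz⟩ => ?_⟩
    refine ⟨jT (closedPoint K), ?_, ⟨_, rfl⟩⟩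
    have h1 : η ∈ T.ι ''ᵁ ⟨O', hO'⟩ := hgenW _ ⟨z.1, ⟨z, hz, rfl⟩, hTW z.2⟩
    obtain ⟨w, hw, hwη⟩ := h1
    have : jT (closedPoint K) = w := T.ι.isEmbedding.injective (by
      rw [← Scheme.Hom.comp_apply, hjT]; exact hwη.symm)
    rw [this]; exact hw
  have hagree : X.homOfLE (inf_le_left : T ≤ U) ≫ f = X.homOfLE (inf_le_right : T ≤ V') ≫ b' := by
    refine ext_of_isDominant_of_isSeparated q ?_ jT ?_
    · simp only [b', Category.assoc, hf, hbq, Scheme.homOfLE_ι_assoc]
      exact (X.homOfLE_ι_assoc _ p).symm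
    · have e1 : jT ≫ X.homOfLE (inf_le_left : T ≤ U) = jU := by
        rw [← cancel_mono U.ι, Category.assoc, X.homOfLE_ι, hjT, hjU]
      have e2 : jT ≫ X.homOfLE ((inf_le_right : T ≤ V').trans inf_le_left) =
          Spec.map aK ≫ V.fromSpecStalkOfMem x hxV := by
        rw [← cancel_mono V.ι, Category.assoc, X.homOfLE_ι, hjT, Category.assoc, Scheme.Opens.fromSpecStalkOfMem_ι]
      simp only [b', Scheme.homOfLE_homOfLE_assoc, reassoc_of% e1, reassoc_of% e2]
      rw [← hb]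
      exact hg₁.symm
  obtain ⟨c, hc1, hc2⟩ := exists_glue_two U V' f b' hagree
  refine ⟨U ⊔ V', le_sup_left, Or.inr ⟨hxV, hxW⟩, c, ?_, hc1⟩
  obtain ⟨c', hc1', hc2'⟩ := exists_glue_two U V' (U.ι ≫ p) (V'.ι ≫ p) (by simp only [Scheme.homOfLE_ι_assoc])
  have hunique : ∀ d d' : (U ⊔ V').toScheme ⟶ S, X.homOfLE le_sup_left ≫ d = X.homOfLE le_sup_left ≫ d' →
      X.homOfLE le_sup_right ≫ d = X.homOfLE le_sup_right ≫ d' → d = d' := by
    intro d d' h1 h2
    refine (Scheme.openCoverOfIsOpenCover (U ⊔ V').toScheme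
      (fun i : Bool => if i then (U ⊔ V').ι ⁻¹ᵁ U else (U ⊔ V').ι ⁻¹ᵁ V') ?_).hom_ext _ _ ?_
    · refine IsOpenCover.mk (eq_top_iff.mpr fun z _ => Opens.mem_iSup.mpr ?_)
      rcases z.2 with hz | hz
      · exact ⟨true, hz⟩
      · exact ⟨false, hz⟩
    · have key : ∀ (A : X.Opens) (hA : A ≤ U ⊔ V'), X.homOfLE hA ≫ d = X.homOfLE hA ≫ d' →
          ((U ⊔ V').ι ⁻¹ᵁ A).ι ≫ d = ((U ⊔ V').ι ⁻¹ᵁ A).ι ≫ d' := by
        intro A hA h
        have e : ((U ⊔ V').ι ∣_ A) ≫ X.homOfLE hA = ((U ⊔ V').ι ⁻¹ᵁ A).ι := by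
          rw [← cancel_mono (U ⊔ V').ι, Category.assoc, X.homOfLE_ι, morphismRestrict_ι]
        rw [← e, Category.assoc, Category.assoc, h]
      rintro (_ | _)
      · exact key V' le_sup_right h2
      · exact key U le_sup_left h1
  refine hunique _ _ ?_ ?_
  · rw [reassoc_of% hc1, hf, Scheme.homOfLE_ι_assoc]
  · rw [reassoc_of% hc2, Scheme.homOfLE_ι_assoc]
    simp only [b', Category.assoc, hbq, Scheme.homOfLE_ι_assoc]
    rfl

end Groth.Agent.S9701
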