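import Groth.Statements.S9702
import Groth.Agent.H17.GenFiniteDense

set_option autoImplicit false
universe u
open CategoryTheory CategoryTheory.Limits AlgebraicGeometry
open Mor

namespace Groth.Agent.S9702

open CategoryTheory CategoryTheory.Limits AlgebraicGeometry TopologicalSpace
open Groth.Agent.H17 Groth.Agent.H17.GenFinite

/-- Let X, Y be integral and f : X ⟶ Y dominant and locally of finite type, with ξ the generic point of
X (so f ξ is the generic point of Y). Then the following are equivalent: the residue field of ξ is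
finite over that of f ξ; some nonempty affine opens U ⊆ X and V ⊆ Y with f(U) ⊆ V have U ⟶ V finite;
every point of X that f sends to the generic point of Y equals ξ. Under the extra assumption that f
is quasi-compact or separated, these are also equivalent to: f⁻¹(V) ⟶ V is finite for some nonempty
affine open V ⊆ Y. (The published statement also lists transcendence degree 0 of the function field
extension, which for this finitely generated extension is equivalent to finiteness; this row omits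
it.) -/
theorem result {X Y : Scheme.{u}} [IsIntegral X] [IsIntegral Y] (f : X ⟶ Y)
    [IsDominant f] [LocallyOfFiniteType f] :
    let ξ := genericPoint ↥X
    let A := letI := (f.residueFieldMap ξ).hom.toAlgebra
      Module.Finite (Y.residueField (f.base ξ)) (X.residueField ξ)
    let B := ∃ (U : X.Opens) (V : Y.Opens) (hUV : U ≤ f ⁻¹ᵁ V), IsAffineOpen U ∧ IsAffineOpen V ∧
      Nonempty ↥U ∧ IsFinite (f.resLE V U hUV)
    let C := ∀ x : X, f.base x = genericPoint ↥Y → x = ξ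
    let D := ∃ V : Y.Opens, IsAffineOpen V ∧ Nonempty ↥V ∧ IsFinite (f ∣_ V)
    (A ↔ B) ∧ (A ↔ C) ∧ (IsSeparated f ∨ QuasiCompact f → (A ↔ D)) := by
  intro ξ A B C D
  classical
  have hA : A ↔ (f.residueFieldMap ξ).hom.Finite := Iff.rfl
  have hfξ : f ξ = genericPoint Y := map_genericPoint_of_isDominant f
  have hspec : ∀ x : X, ξ ⤳ x := fun x => genericPoint_specializes x
  have hAC : A → C := by
    intro h x hx
    have hcl := Groth.Agent.H17.isClosed_singleton_asFiber f ξ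
      ((hA.1 h).to_isIntegral)
    have hxf : f x = f ξ := hx.trans hfξ.symm
    let z : f.fiber (f ξ) := (f.fiberHomeo (f ξ)).symm ⟨x, hxf⟩
    have hz : f.asFiber ξ ⤳ z := Specializes.map
      ((Topology.IsInducing.subtypeVal).specializes_iff.mp (hspec x) :
        (⟨ξ, rfl⟩ : f.base ⁻¹' {f ξ}) ⤳ ⟨x, hxf⟩) (f.fiberHomeo (f ξ)).symm.continuous
    have := hz.mem_closure
    rw [hcl.closure_eq] at this
    exact congrArg Subtype.val ((f.fiberHomeo (f ξ)).symm.injective this :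
      (⟨x, hxf⟩ : f.base ⁻¹' {f ξ}) = ⟨ξ, rfl⟩)
  have hfinC : C → (f.base ⁻¹' {genericPoint Y}).Finite := fun h =>
    (Set.finite_singleton ξ).subset fun x hx => h x hx
  have hCA : C → A := by
    intro h
    refine hA.2 (Groth.Agent.H17.finite_residueFieldMap f ξ ?_)
    have : Subsingleton (f.fiber (f ξ)) := by
      refine ⟨fun a b => (f.fiberHomeo (f ξ)).injective (Subtype.ext ?_)⟩
      rw [h _ (((f.fiberHomeo (f ξ)) a).2.trans hfξ), h _ (((f.fiberHomeo (f ξ)) b).2.trans hfξ)]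
    exact isClosed_discrete _
  have hηgen : genericPoint Y ∈ genericPoints Y :=
    mem_genericPoints_iff.2 fun y hy => (hy.antisymm (genericPoint_specializes y)).eq
  have hξgen : ξ ∈ genericPoints X :=
    mem_genericPoints_iff.2 fun y hy => (hy.antisymm (genericPoint_specializes y)).eq
  have hCB : C → B := by
    intro h
    obtain ⟨V₀, hV₀, hηV, -⟩ := exists_isAffineOpen_mem_and_subset (U := (⊤ : Y.Opens))
      (x := genericPoint Y) trivial
    obtain ⟨U₀, hU₀, hξU, hU₀le⟩ := exists_isAffineOpen_mem_and_subset (U := f ⁻¹ᵁ V₀) (x := ξ)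
      (by show f ξ ∈ V₀; rw [hfξ]; exact hηV)
    have hle : U₀ ≤ f ⁻¹ᵁ V₀ := hU₀le
    let g := U₀.ι ≫ f
    haveI : Nonempty U₀ := ⟨⟨ξ, hξU⟩⟩
    have hgfib : g.base ⁻¹' {genericPoint Y} ⊆ {⟨ξ, hξU⟩} := fun z hz => Subtype.ext (h z.1 hz)
    obtain ⟨s, hs, hfin⟩ := exists_isFinite_nhd g hηgen hV₀ hηV (by
        have : g ⁻¹ᵁ V₀ = ⊤ := eq_top_iff.2 fun z _ => hle z.2
        rw [this]
        exact (isCompact_univ_iff.2 (isCompact_iff_compactSpace.1 hU₀.isCompact)))
      ((Set.finite_singleton _).subset hgfib) (fun _ => ⊤) (fun z hz => by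
        haveI : IsAffine (U₀ : Scheme.{u}) := hU₀
        exact ⟨isAffineOpen_top _, trivial, fun w _ => hle w.2⟩)
      (fun a ha b hb hab => absurd ((hgfib ha).trans (hgfib hb).symm) hab)
    have hU : IsAffineOpen (U₀ ⊓ f ⁻¹ᵁ Y.basicOpen s) := by
      rw [show U₀ ⊓ f ⁻¹ᵁ Y.basicOpen s = X.basicOpen (f.appLE V₀ U₀ hle s) from
        (Scheme.basicOpen_appLE f U₀ V₀ hle s).symm]
      exact hU₀.basicOpen _
    refine ⟨U₀ ⊓ f ⁻¹ᵁ Y.basicOpen s, Y.basicOpen s, inf_le_right, hU, hV₀.basicOpen s,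
      ⟨⟨ξ, hξU, show f ξ ∈ Y.basicOpen s by rw [hfξ]; exact hs⟩⟩, ?_⟩
    have hr : Set.range ((g ⁻¹ᵁ Y.basicOpen s).ι ≫ U₀.ι) =
        Set.range (U₀ ⊓ f ⁻¹ᵁ Y.basicOpen s).ι := by
      ext x
      simp only [Set.mem_range, Scheme.Hom.comp_apply]
      constructor
      · rintro ⟨z, rfl⟩; exact ⟨⟨z.1.1, z.1.2, z.2⟩, rfl⟩
      · rintro ⟨z, rfl⟩; exact ⟨⟨⟨z.1, z.2.1⟩, z.2.2⟩, rfl⟩
    let e := IsOpenImmersion.isoOfRangeEq ((g ⁻¹ᵁ Y.basicOpen s).ι ≫ U₀.ι)
      (U₀ ⊓ f ⁻¹ᵁ Y.basicOpen s).ι hr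
    have he : e.inv ≫ (g ∣_ Y.basicOpen s) = f.resLE (Y.basicOpen s) _ inf_le_right := by
      rw [← cancel_mono (Y.basicOpen s).ι, Category.assoc, morphismRestrict_ι, Scheme.Hom.resLE_comp_ι]
      rw [← IsOpenImmersion.isoOfRangeEq_inv_fac ((g ⁻¹ᵁ Y.basicOpen s).ι ≫ U₀.ι)
        (U₀ ⊓ f ⁻¹ᵁ Y.basicOpen s).ι hr]
      simp only [g, e, Category.assoc]
    rw [← he]
    infer_instance
  have hBA : B → A := by
    rintro ⟨U, V, hUV, hU, hV, hne, hfin⟩
    have hξU : ξ ∈ U := ((genericPoint_spec X).mem_open_set_iff U.isOpen).mpr (by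
      obtain ⟨⟨z, hz⟩⟩ := hne; exact ⟨z, trivial, hz⟩)
    let g := U.ι ≫ f
    let ξ' : (U : Scheme.{u}) := ⟨ξ, hξU⟩
    have hgfin : (g.base ⁻¹' {g ξ'}).Finite := by
      refine ((f.resLE V U hUV).finite_preimage_singleton ⟨g ξ', hUV hξU⟩).subset fun z hz => ?_
      exact Subtype.ext ((Scheme.Hom.coe_resLE_apply f hUV z).trans hz)
    haveI : Finite (g.fiber (g ξ')) := (g.fiberHomeo (g ξ')).finite_iff.mpr hgfin
    haveI : LocallyOfFiniteType (g.fiberToSpecResidueField (g ξ')) :=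
      MorphismProperty.pullback_snd (P := @LocallyOfFiniteType) _ _ inferInstance
    haveI : JacobsonSpace (g.fiber (g ξ')) :=
      LocallyOfFiniteType.jacobsonSpace (g.fiberToSpecResidueField (g ξ'))
    have h1 := Groth.Agent.H17.finite_residueFieldMap g ξ' (isClosed_discrete _)
    rw [Scheme.residueFieldMap_comp] at h1
    change ((U.ι.residueFieldMap ξ').hom.comp (f.residueFieldMap ξ).hom).Finite at h1
    have h2 : IsIso (U.ι.residueFieldMap ξ') := inferInstance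
    refine hA.2 ?_
    have h3 := RingHom.finite_respectsIso.1 _
      (asIso (U.ι.residueFieldMap ξ')).symm.commRingCatIsoToRingEquiv h1
    have he : (f.residueFieldMap ξ).hom = (asIso (U.ι.residueFieldMap ξ')).inv.hom.comp
        ((U.ι.residueFieldMap ξ').hom.comp (f.residueFieldMap ξ).hom) := by
      refine RingHom.ext fun a => ?_
      exact ((asIso (U.ι.residueFieldMap ξ')).hom_inv_id_apply _).symm
    rw [he]
    exact h3
  have hDB : D → B := by
    rintro ⟨V, hV, hne, hfin⟩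
    haveI : IsAffine (V : Scheme.{u}) := hV
    haveI := hfin
    refine ⟨f ⁻¹ᵁ V, V, le_rfl, isAffine_of_isAffineHom (f ∣_ V), hV, ⟨⟨ξ, ?_⟩⟩, ?_⟩
    · show f ξ ∈ V
      rw [hfξ]
      exact ((genericPoint_spec Y).mem_open_set_iff V.isOpen).mpr (by
        obtain ⟨⟨z, hz⟩⟩ := hne; exact ⟨z, trivial, hz⟩)
    · rw [Scheme.Hom.resLE_eq_morphismRestrict]; exact hfin
  refine ⟨⟨fun h => hCB (hAC h), hBA⟩, ⟨hAC, hCA⟩, fun hf => ⟨fun h => ?_, fun h => hBA (hDB h)⟩⟩
  rcases hf with hsep | hqc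
  · obtain ⟨U, V, hUV, hU, hV, hne, hfin⟩ := hCB (hAC h)
    obtain ⟨⟨z, hz⟩⟩ := hne
    refine ⟨V, hV, ⟨⟨f z, hUV hz⟩⟩, ?_⟩
    have hcl : IsClosed (Set.range (X.homOfLE hUV)) := by
      haveI : IsFinite (X.homOfLE hUV ≫ f ∣_ V) := by
        rw [← Scheme.Hom.resLE_eq_morphismRestrict, Scheme.Hom.map_resLE]; exact hfin
      haveI : IsFinite (X.homOfLE hUV) := IsFinite.of_comp _ (f ∣_ V)
      exact (X.homOfLE hUV).isClosedMap.isClosed_range
    have heq : U = f ⁻¹ᵁ V := by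
      refine le_antisymm hUV fun w hw => ?_
      have hξU : ξ ∈ U := ((genericPoint_spec X).mem_open_set_iff U.isOpen).mpr ⟨z, trivial, hz⟩
      have hξV : ξ ∈ f ⁻¹ᵁ V := hUV hξU
      have hsp : (⟨ξ, hξV⟩ : (f ⁻¹ᵁ V : X.Opens)) ⤳ ⟨w, hw⟩ :=
        (Topology.IsInducing.subtypeVal).specializes_iff.mp (hspec w)
      have : (⟨w, hw⟩ : (f ⁻¹ᵁ V : X.Opens)) ∈ Set.range (X.homOfLE hUV) :=
        hsp.mem_closed hcl ⟨⟨ξ, hξU⟩, Subtype.ext (Scheme.homOfLE_apply _ _)⟩
      obtain ⟨u, hu⟩ := this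
      rw [show w = u.1 from (congrArg Subtype.val hu).symm.trans (Scheme.homOfLE_apply _ _)]
      exact u.2
    subst heq
    rwa [Scheme.Hom.resLE_eq_morphismRestrict] at hfin
  · obtain ⟨V₀, hV₀, hηV, -⟩ := exists_isAffineOpen_mem_and_subset (U := (⊤ : Y.Opens))
      (x := genericPoint Y) trivial
    obtain ⟨U₀, hU₀, hξU, hU₀le⟩ := exists_isAffineOpen_mem_and_subset (U := f ⁻¹ᵁ V₀) (x := ξ)
      (by show f ξ ∈ V₀; rw [hfξ]; exact hηV)
    have hC := hAC h
    obtain ⟨s, hs, hfin⟩ := exists_isFinite_nhd f hηgen hV₀ hηV (f.isCompact_preimage hV₀.isCompact)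
      (hfinC hC) (fun _ => U₀) (fun x hx => ⟨hU₀, by rw [hC x hx]; exact hξU, hU₀le⟩)
      (fun a ha b hb hab => absurd ((hC a ha).trans (hC b hb).symm) hab)
    exact ⟨_, hV₀.basicOpen s, ⟨⟨_, hs⟩⟩, hfin⟩

end Groth.Agent.S9702
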