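import Groth.Statements.S9703
import Groth.Agent.H17.FiniteSplit.Basic
-- import your own Groth.Agent.* helpers here

set_option autoImplicit false
universe u
open CategoryTheory CategoryTheory.Limits AlgebraicGeometry
open Mor

namespace Groth.Agent.S9703

/-- Let f : Y ⟶ X be finite with X affine. Then there exist a surjective finite locally free b : X' ⟶ X,
a finite locally free c : Z' ⟶ X' and a closed immersion i of Y' = X' ×_X Y into Z' over X' such
that Z' is, as a set, the union of finitely many closed subschemes each mapping isomorphically onto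
X'. (The published statement also records that Y' ⟶ Y is surjective finite locally free, which
follows by base change; this row omits it.) -/
theorem result {X Y : Scheme.{u}} [IsAffine X] (f : Y ⟶ X)
    [IsFinite f] :
    ∃ (X' : Scheme.{u}) (b : X' ⟶ X) (Z' : Scheme.{u}) (c : Z' ⟶ X') (i : pullback f b ⟶ Z'),
      Mor2.IsFinLocFree b ∧ Surjective b ∧ Mor2.IsFinLocFree c ∧ IsClosedImmersion i ∧
      i ≫ c = pullback.snd f b ∧
      ∃ (m : ℕ) (Zj : Fin m → Scheme.{u}) (ιj : ∀ j, Zj j ⟶ Z'),
        (∀ j, IsClosedImmersion (ιj j)) ∧ (∀ j, IsIso (ιj j ≫ c)) ∧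
        (⋃ j, Set.range (ιj j).base) = Set.univ := by
  exact H17.FiniteSplit.exists_cover f

end Groth.Agent.S9703
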