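import Groth.Statements.S9713
import Groth.Agent.H11Proj.ProjTransfer
-- import your own Groth.Agent.* helpers here

set_option autoImplicit false
universe u
open CategoryTheory CategoryTheory.Limits AlgebraicGeometry
open Mor

namespace Groth.Agent.S9713

/-- A base change of a locally projective morphism (every point of the base has an open neighbourhood U
with f⁻¹(U) ⟶ U projective) is locally projective. Here f⁻¹(U) ⟶ U projective means isomorphic over
U to the relative Proj of a quasi-coherent graded algebra generated by its finite-type degree-one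
part; the published definition uses closed subschemes of P(E) with E of finite type, an equivalent
condition. -/
theorem result {X S S' : Scheme.{u}} (f : X ⟶ S) (hf : RelProj.IsLocallyProjective f)
    (g : S' ⟶ S) : RelProj.IsLocallyProjective (pullback.snd f g) := by
  intro s
  obtain ⟨U, hsU, hU⟩ := hf (g s)
  refine ⟨g ⁻¹ᵁ U, hsU, ?_⟩
  have h1 := (isPullback_morphismRestrict (pullback.snd f g) (g ⁻¹ᵁ U)).flip.paste_horiz
    (IsPullback.of_hasPullback f g)
  rw [← morphismRestrict_ι g U] at h1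
  have hR := (isPullback_morphismRestrict f U).flip
  obtain ⟨h, hh₁, hh₂⟩ : ∃ h : ((pullback.snd f g ⁻¹ᵁ (g ⁻¹ᵁ U) : (pullback f g).Opens) : Scheme.{u}) ⟶ (f ⁻¹ᵁ U : X.Opens),
      h ≫ (f ⁻¹ᵁ U).ι = ((pullback.snd f g ⁻¹ᵁ (g ⁻¹ᵁ U)).ι ≫ pullback.fst f g) ∧
        h ≫ (f ∣_ U) = (pullback.snd f g ∣_ (g ⁻¹ᵁ U)) ≫ (g ∣_ U) :=
    ⟨hR.lift _ ((pullback.snd f g ∣_ (g ⁻¹ᵁ U)) ≫ (g ∣_ U)) (h1.w.trans (Category.assoc _ _ _).symm),
      hR.lift_fst _ _ _, hR.lift_snd _ _ _⟩
  have h3 : IsPullback h (pullback.snd f g ∣_ (g ⁻¹ᵁ U)) (f ∣_ U) (g ∣_ U) := by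
    refine IsPullback.of_right (t := hR) ?_ hh₂
    rw [hh₁]
    exact h1
  refine H11Proj.isProjective_of_isClosedImmersion_lift (g := g ∣_ U) (h := h) hh₂.symm hU ?_
  have hiso : IsIso (pullback.lift h (pullback.snd f g ∣_ (g ⁻¹ᵁ U)) hh₂ : _ ⟶ pullback (f ∣_ U) (g ∣_ U)) := by
    have e : (pullback.lift h (pullback.snd f g ∣_ (g ⁻¹ᵁ U)) hh₂ : _ ⟶ pullback (f ∣_ U) (g ∣_ U)) = h3.isoPullback.hom := by
      exact pullback.hom_ext ((pullback.lift_fst _ _ _).trans h3.isoPullback_hom_fst.symm)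
        ((pullback.lift_snd _ _ _).trans h3.isoPullback_hom_snd.symm)
    rw [e]; infer_instance
  exact inferInstance

end Groth.Agent.S9713
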