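import Groth.Statements.S9714
import Groth.Agent.H17.Unramified
import Mathlib.AlgebraicGeometry.Artinian
import Mathlib.AlgebraicGeometry.Limits
import Mathlib.RingTheory.Unramified.Field
import Mathlib.RingTheory.Etale.Field

set_option autoImplicit false
universe u
open CategoryTheory CategoryTheory.Limits AlgebraicGeometry
open Mor

namespace Groth.Agent.S9714

open CategoryTheory Limits AlgebraicGeometry TopologicalSpace
open Groth.Agent.H17

/-- Let k be a field and X a scheme over k. The structure morphism X ⟶ Spec k is unramified (formally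
unramified and locally of finite type) if and only if X is isomorphic over k to a disjoint union of
spectra of finite separable field extensions of k. -/
theorem result (k : Type u) [Field k] {X : Scheme.{u}}
    (f : X ⟶ Spec (CommRingCat.of k)) :
    (FormallyUnramified f ∧ LocallyOfFiniteType f) ↔
      ∃ (ι : Type u) (K : ι → Type u) (_ : ∀ i, Field (K i)) (_ : ∀ i, Algebra k (K i)),
        (∀ i, FiniteDimensional k (K i) ∧ Algebra.IsSeparable k (K i)) ∧
        ∃ e : X ≅ ∐ (fun i => Spec (CommRingCat.of (K i))),
          e.hom ≫ Sigma.desc (fun i => Spec.map (CommRingCat.ofHom (algebraMap k (K i)))) = f := by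
  constructor
  · rintro ⟨_, _⟩
    have key : ∀ (V : X.Opens) (hV : IsAffineOpen V), ∃ φ : CommRingCat.of k ⟶ Γ(X, V),
        Spec.map φ = hV.fromSpec ≫ f ∧ φ.hom.FormallyUnramified ∧ φ.hom.FiniteType ∧
        IsArtinianRing Γ(X, V) ∧ _root_.IsReduced Γ(X, V) := by
      intro V hV
      obtain ⟨φ, hφ⟩ := Spec.map_surjective (hV.fromSpec ≫ f)
      have hu : φ.hom.FormallyUnramified := by
        rw [← HasRingHomProperty.Spec_iff (P := @FormallyUnramified), hφ]
        exact MorphismProperty.comp_mem _ _ _ inferInstance inferInstance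
      have hft : φ.hom.FiniteType := by
        rw [← HasRingHomProperty.Spec_iff (P := @LocallyOfFiniteType), hφ]; infer_instance
      refine ⟨φ, hφ, hu, hft, ?_⟩
      algebraize [φ.hom]
      have := Algebra.FormallyUnramified.finite_of_free k Γ(X, V)
      exact ⟨IsArtinianRing.of_finite k _, Algebra.FormallyUnramified.isReduced_of_field k _⟩
    have : IsLocallyArtinian X := ⟨fun V => (key V.1 V.2).choose_spec.2.2.2.1⟩
    let U : X → X.Opens := fun x => ⟨{x}, isOpen_discrete _⟩
    have hU : ∀ x, IsAffineOpen (U x) := fun x => IsAffineOpen.of_subsingleton Set.subsingleton_singleton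
    have hF : ∀ x, IsField Γ(X, U x) := fun x => by
      obtain ⟨φ, -, -, -, _, _⟩ := key _ (hU x)
      have : Subsingleton (U x).toScheme := ⟨fun a b => Subtype.ext ((show a.1 = x from a.2).trans (show b.1 = x from b.2).symm)⟩
      have : Subsingleton (Spec Γ(X, U x)) := (hU x).isoSpec.inv.homeomorph.toEquiv.subsingleton
      have : Subsingleton (PrimeSpectrum Γ(X, U x)) := this
      have : Nontrivial Γ(X, U x) := by
        have : Nonempty (Spec Γ(X, U x)) := ⟨(hU x).primeIdealOf ⟨x, rfl⟩⟩
        exact PrimeSpectrum.nonempty_iff_nontrivial.mp this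
      have : IsLocalRing Γ(X, U x) := by
        obtain ⟨M, hM⟩ := Ideal.exists_maximal Γ(X, U x)
        refine IsLocalRing.of_unique_max_ideal ⟨M, hM, fun N hN => ?_⟩
        exact congrArg PrimeSpectrum.asIdeal (Subsingleton.elim (α := PrimeSpectrum Γ(X, U x)) ⟨N, hN.isPrime⟩ ⟨M, hM.isPrime⟩)
      exact IsArtinianRing.isField_of_isReduced_of_isLocalRing _
    choose φ hφ hu hft hart hred using fun x => key _ (hU x)
    letI : ∀ x, Field Γ(X, U x) := fun x => (hF x).toField
    letI : ∀ x, Algebra k Γ(X, U x) := fun x => (φ x).hom.toAlgebra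
    refine ⟨X, fun x => Γ(X, U x), inferInstance, inferInstance, fun x => ?_, ?_⟩
    · have : Algebra.FormallyUnramified k Γ(X, U x) := hu x
      have : Algebra.FiniteType k Γ(X, U x) := hft x
      have := Algebra.FormallyUnramified.finite_of_free k Γ(X, U x)
      exact ⟨this, Algebra.FormallyUnramified.isSeparable k _⟩
    · obtain ⟨hc⟩ := nonempty_isColimit_cofanMk_of (fun x => (hU x).fromSpec)
        (eq_top_iff.mpr fun x _ => TopologicalSpace.Opens.mem_iSup.mpr ⟨x, by
          rw [IsAffineOpen.opensRange_fromSpec]; exact rfl⟩)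
        (fun i j hij => by
          simp only [Function.onFun, IsAffineOpen.opensRange_fromSpec]
          rw [disjoint_iff]
          exact TopologicalSpace.Opens.ext (Set.eq_empty_of_forall_notMem fun y hy => hij ((show y = i from hy.1).symm.trans (show y = j from hy.2))))
      let e := hc.coconePointUniqueUpToIso (coproductIsCoproduct (fun x => Spec (CommRingCat.of Γ(X, U x))))
      refine ⟨e, ?_⟩
      rw [← cancel_epi e.inv, Iso.inv_hom_id_assoc]
      refine Sigma.hom_ext _ _ fun x => ?_
      rw [Sigma.ι_desc, ← Category.assoc]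
      have : Sigma.ι (fun x => Spec (CommRingCat.of Γ(X, U x))) x ≫ e.inv = (hU x).fromSpec :=
        hc.comp_coconePointUniqueUpToIso_inv (coproductIsCoproduct _) ⟨x⟩
      rw [this, ← hφ x]
      rfl
  · rintro ⟨ι, K, _, _, h, e, rfl⟩
    have := Unramified.formallyUnramified_coprod_spec_separable k K h
    exact ⟨(MorphismProperty.cancel_left_of_respectsIso (P := @FormallyUnramified) _ _).mpr this.1,
      (MorphismProperty.cancel_left_of_respectsIso (P := @LocallyOfFiniteType) _ _).mpr this.2⟩

end Groth.Agent.S9714
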