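import Groth.Statements.S9715
import Groth.Agent.H17.HomAffine
import Groth.Agent.H17.PrinFinite
import Groth.Agent.H8Props.RelFP.PullSections
import Groth.Agent.S3815
-- import your own Groth.Agent.* helpers here

set_option autoImplicit false
universe u
open CategoryTheory CategoryTheory.Limits AlgebraicGeometry
open Opposite
open Mor

namespace Groth.Agent.S9715

/-- Let f : X ⟶ S be a morphism of affine schemes, R = Γ(S, O_S) → A = Γ(X, O_X) the corresponding ring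
map, F a quasi-coherent O_X-module and G an O_X-module, with global sections M and N. Every
differential operator M → N of order at most k relative to A over R is induced on global sections by
a differential operator F → G of order at most k relative to X over S. (The published statement
asserts that D ↦ Γ(X, D) is a bijection between the two sets of operators of order at most k; its
injectivity is not verified in the published proof and is not claimed here. Differential operators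
on X/S are taken in the principal-parts sense, those of A/R in the commutator sense.) -/
theorem result {X S : Scheme.{u}} [IsAffine X] [IsAffine S] (f : X ⟶ S)
    (F G : X.Modules) (hF : Coh.IsQCoh F) (k : ℕ) :
    letI : Algebra Γ(S, ⊤) Γ(X, ⊤) := f.appTop.hom.toAlgebra
    letI : Module Γ(S, ⊤) Γ(F, ⊤) := Module.compHom Γ(F, ⊤) f.appTop.hom
    letI : Module Γ(S, ⊤) Γ(G, ⊤) := Module.compHom Γ(G, ⊤) f.appTop.hom
    haveI : IsScalarTower Γ(S, ⊤) Γ(X, ⊤) Γ(F, ⊤) := IsScalarTower.of_algebraMap_smul fun _ _ => rfl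
    haveI : IsScalarTower Γ(S, ⊤) Γ(X, ⊤) Γ(G, ⊤) := IsScalarTower.of_algebraMap_smul fun _ _ => rfl
    ∀ D' : Γ(F, ⊤) →ₗ[Γ(S, ⊤)] Γ(G, ⊤), Diff16.IsDiffOpLE Γ(S, ⊤) Γ(X, ⊤) Γ(F, ⊤) Γ(G, ⊤) k D' →
      ∃ D : F.presheaf ⟶ G.presheaf, PrinPart.IsDiffOpLE f F G k D ∧
        ∀ m : Γ(F, ⊤), (D.app (op ⊤)).hom m = D' m := by
  letI : Algebra Γ(S, ⊤) Γ(X, ⊤) := f.appTop.hom.toAlgebra
  letI : Module Γ(S, ⊤) Γ(F, ⊤) := Module.compHom Γ(F, ⊤) f.appTop.hom
  letI : Module Γ(S, ⊤) Γ(G, ⊤) := Module.compHom Γ(G, ⊤) f.appTop.hom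
  haveI : IsScalarTower Γ(S, ⊤) Γ(X, ⊤) Γ(F, ⊤) := IsScalarTower.of_algebraMap_smul fun _ _ => rfl
  haveI : IsScalarTower Γ(S, ⊤) Γ(X, ⊤) Γ(G, ⊤) := IsScalarTower.of_algebraMap_smul fun _ _ => rfl
  intro D' hD'
  let n := k
  have hX := isAffineOpen_top X
  have hS := isAffineOpen_top S
  have hap : f.appLE ⊤ ⊤ le_rfl = f.appTop := f.app_eq_appLE.symm
  have hchart := Groth.Agent.H17.PrinChart.exists_chart f k hX hS (le_rfl : (⊤ : X.Opens) ≤ f ⁻¹ᵁ ⊤)
  rw [hap] at hchart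
  obtain ⟨hW, Φ, hΦ, hs, hk⟩ := hchart
  let e : PP16.P k Γ(S, ⊤) Γ(X, ⊤) ≃+* Γ(PrinPart.nbhd f k, PrinPart.pr1 f k ⁻¹ᵁ ⊤) :=
    (Ideal.quotEquivOfEq hk.symm).trans (RingHom.quotientKerEquivOfSurjective hs)
  have he : ∀ a b, e (Ideal.Quotient.mk _ (a ⊗ₜ b)) = (PrinPart.pr1 f k).app ⊤ a *
      Groth.Agent.H17.PrinChart.app2 f k ⊤ b := hΦ
  have he2 : ∀ b, e (PP16.dn k Γ(S, ⊤) Γ(X, ⊤) b) = Groth.Agent.H17.PrinChart.app2 f k ⊤ b := fun b =>
    (he 1 b).trans (by rw [map_one, one_mul])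
  have he1 : ∀ a, e (algebraMap Γ(X, ⊤) (PP16.P k Γ(S, ⊤) Γ(X, ⊤)) a) = (PrinPart.pr1 f k).app ⊤ a := fun a =>
    (he a 1).trans (by rw [map_one, mul_one])
  obtain ⟨u, hus, hud⟩ := Groth.Agent.S3815.exists_hom D' hD'
  let E := (Scheme.Modules.pullback (PrinPart.pr2 f k)).obj F
  let P := Γ(PrinPart.nbhd f k, PrinPart.pr1 f k ⁻¹ᵁ ⊤)
  have h12 : PrinPart.pr1 f k ⁻¹ᵁ (⊤ : X.Opens) ≤ PrinPart.pr2 f k ⁻¹ᵁ ⊤ := (PrinPart.preimage_pr1 f k ⊤).le
  letI : Algebra Γ(X, ⊤) P := ((PrinPart.pr2 f k).appLE ⊤ _ h12).hom.toAlgebra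
  letI : Module Γ(X, ⊤) Γ(E, PrinPart.pr1 f k ⁻¹ᵁ ⊤) :=
    Module.compHom _ ((PrinPart.pr2 f k).appLE ⊤ _ h12).hom
  haveI : IsScalarTower Γ(X, ⊤) P Γ(E, PrinPart.pr1 f k ⁻¹ᵁ ⊤) := .of_algebraMap_smul fun _ _ => rfl
  have hbc := Groth.Agent.H8Props.PullSections.isBaseChange_pullLin (PrinPart.pr2 f k) F h12 hF hX hW
  let θ : TensorProduct Γ(X, ⊤) P Γ(F, ⊤) →+ PP16.PM k Γ(S, ⊤) Γ(X, ⊤) Γ(F, ⊤) :=
    TensorProduct.liftAddHom
      { toFun := fun p => ({ toFun := fun m => (show PP16.Pr k Γ(S, ⊤) Γ(X, ⊤) from e.symm p) ⊗ₜ m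
                             map_zero' := TensorProduct.tmul_zero _ _
                             map_add' := fun a b => TensorProduct.tmul_add _ a b } : Γ(F, ⊤) →+ _)
        map_zero' := AddMonoidHom.ext fun m => by
          show (show PP16.Pr k Γ(S, ⊤) Γ(X, ⊤) from e.symm 0) ⊗ₜ m = 0
          rw [map_zero]
          exact TensorProduct.zero_tmul _ _
        map_add' := fun p q => AddMonoidHom.ext fun m => by
          show (show PP16.Pr k Γ(S, ⊤) Γ(X, ⊤) from e.symm (p + q)) ⊗ₜ m = _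
          rw [map_add]
          exact TensorProduct.add_tmul _ _ _ }
      fun c p m => by
        show (show PP16.Pr k Γ(S, ⊤) Γ(X, ⊤) from e.symm (c • p)) ⊗ₜ m =
          (show PP16.Pr k Γ(S, ⊤) Γ(X, ⊤) from e.symm p) ⊗ₜ (c • m)
        rw [← TensorProduct.smul_tmul]
        refine congrArg (· ⊗ₜ m) ?_
        show e.symm (Groth.Agent.H17.PrinChart.app2 f k ⊤ c * p) = PP16.dn k Γ(S, ⊤) Γ(X, ⊤) c * e.symm p
        rw [map_mul, ← he2, RingEquiv.symm_apply_apply]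
  have hθ : ∀ (a : Γ(X, ⊤)) t, θ ((PrinPart.pr1 f k).app ⊤ a • t) =
      algebraMap Γ(X, ⊤) (PP16.P k Γ(S, ⊤) Γ(X, ⊤)) a • θ t := by
    intro a t
    induction t using TensorProduct.induction_on with
    | zero => rw [smul_zero, map_zero, smul_zero]
    | add x y hx hy => rw [smul_add, map_add, hx, hy, map_add, smul_add]
    | tmul p m =>
      show (show PP16.Pr k Γ(S, ⊤) Γ(X, ⊤) from e.symm ((PrinPart.pr1 f k).app ⊤ a * p)) ⊗ₜ m =
        (show PP16.Pr k Γ(S, ⊤) Γ(X, ⊤) from algebraMap Γ(X, ⊤) (PP16.P k Γ(S, ⊤) Γ(X, ⊤)) a * e.symm p) ⊗ₜ m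
      rw [map_mul, ← he1, RingEquiv.symm_apply_apply]
  let u0 : Γ(PrinPart.PMod f k F, ⊤) →ₗ[Γ(X, ⊤)] Γ(G, ⊤) :=
    { toFun := fun z => u (θ (hbc.equiv.symm z))
      map_add' := fun a b => (congrArg (fun t => u (θ t)) (hbc.equiv.symm.map_add a b)).trans
        ((congrArg u (map_add θ _ _)).trans (map_add u _ _))
      map_smul' := fun a z => (congrArg (fun t => u (θ t))
        (hbc.equiv.symm.map_smul ((PrinPart.pr1 f k).app ⊤ a) z)).trans
        ((congrArg u (hθ a _)).trans (hus a _)) }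
  have hq : Coh.IsQCoh (PrinPart.PMod f k F) := Groth.Agent.H17.PrinFinite.isQCoh_PMod f k F hF
  obtain ⟨α, hα⟩ := Groth.Agent.H17.HomAffine.exists_hom_of_top hq u0
  refine ⟨PrinPart.dPHom f k F ≫ α.mapPresheaf, ⟨α, fun U t => rfl⟩, fun m => ?_⟩
  show α.app ⊤ (PrinPart.dP f k F ⊤ m) = _
  rw [hα]
  show u (θ (hbc.equiv.symm (Groth.Agent.H8Props.PullSections.pullLin (PrinPart.pr2 f k) F h12 m))) = _
  rw [hbc.equiv_symm_apply]
  show u ((show PP16.Pr k Γ(S, ⊤) Γ(X, ⊤) from e.symm 1) ⊗ₜ m) = _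
  rw [map_one]
  exact hud m

end Groth.Agent.S9715
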