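import Groth.Statements.S9720
import Groth.Agent.H17.LocusBC
import Groth.Agent.H17.Unramified
import Mathlib.AlgebraicGeometry.Artinian
import Mathlib.AlgebraicGeometry.Limits
import Mathlib.RingTheory.Unramified.Field
import Mathlib.RingTheory.Etale.Field

set_option autoImplicit false
universe u
open CategoryTheory CategoryTheory.Limits AlgebraicGeometry
open Mor

namespace Groth.Agent.S9720

open CategoryTheory Limits AlgebraicGeometry TopologicalSpace
open Groth.Agent.H17

/-- Let f : X ⟶ S be locally of finite type such that for every point s of S the fibre X_s is isomorphic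
over κ(s) to a coproduct of schemes Spec K_i, each K_i a finite separable extension field of κ(s).
In that case f is formally unramified (so unramified, being locally of finite type). -/
theorem result {X S : Scheme.{u}} (f : X ⟶ S) [LocallyOfFiniteType f]
    (H : ∀ s : S, ∃ (ι : Type u) (K : ι → Type u) (_ : ∀ i, Field (K i))
      (_ : ∀ i, Algebra (S.residueField s) (K i)),
      (∀ i, FiniteDimensional (S.residueField s) (K i) ∧ Algebra.IsSeparable (S.residueField s) (K i)) ∧
        ∃ e : f.fiber s ≅ ∐ (fun i => Spec (CommRingCat.of (K i))),
          e.hom ≫ Sigma.desc (fun i => Spec.map (CommRingCat.ofHom (algebraMap (S.residueField s) (K i)))) =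
            f.fiberToSpecResidueField s) :
    FormallyUnramified f := by
  choose U hxU hU using fun x : X => show ∃ U : X.Opens, x ∈ U ∧ FormallyUnramified (U.ι ≫ f) by
    obtain ⟨ι, K, _, _, h, e, he⟩ := H (f x)
    have h1 : FormallyUnramified (f.fiberToSpecResidueField (f x)) := by
      rw [← he]
      exact (MorphismProperty.cancel_left_of_respectsIso (P := @FormallyUnramified) _ _).mpr
        (Unramified.formallyUnramified_coprod_spec_separable _ K h).1
    have h2 : FormallyUnramified ((⊤ : (f.fiber (f x)).Opens).ι ≫ f.fiberToSpecResidueField (f x)) :=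
      MorphismProperty.comp_mem _ _ _ inferInstance h1
    have := @LocusBC.exists_formallyUnramified_of_baseChange _ _ _ _ _ _ _ _
      (IsPullback.of_hasPullback f (S.fromSpecResidueField (f x))) _ (f.asFiber x) ⊤ trivial h2
    have hp : pullback.fst f (S.fromSpecResidueField (f x)) (f.asFiber x) = x := f.fiberι_asFiber x
    rwa [hp] at this
  refine IsZariskiLocalAtSource.of_iSup_eq_top (P := @FormallyUnramified) U
    (eq_top_iff.mpr fun x _ => TopologicalSpace.Opens.mem_iSup.mpr ⟨x, hxU x⟩) hU

end Groth.Agent.S9720
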