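import Groth.Statements.S9721
import Groth.Agent.H17.Imports
import Mathlib.AlgebraicGeometry.ProjectiveSpectrum.Basic
import Mathlib.AlgebraicGeometry.Morphisms.Etale
import Mathlib.RingTheory.Smooth.StandardSmoothOfFree
import Mathlib.RingTheory.Unramified.LocalStructure

set_option autoImplicit false
universe u
open CategoryTheory AlgebraicGeometry
open Mor

namespace Groth.Agent.S9721

open CategoryTheory Limits AlgebraicGeometry TopologicalSpace

/-- Let f : X ⟶ S be a morphism, x a point of X and V an affine open neighbourhood of f(x) in S. Then f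
is smooth on some open neighbourhood of x if and only if there is an affine open neighbourhood U of
x with f(U) ⊆ V such that the induced ring map Γ(S, V) ⟶ Γ(X, U) is standard smooth. -/
theorem result {X S : Scheme.{u}} (f : X ⟶ S) (x : X)
    (V : S.Opens) (hV : IsAffineOpen V) (hxV : f x ∈ V) :
    (∃ W : X.Opens, x ∈ W ∧ Smooth (W.ι ≫ f)) ↔
      ∃ (U : X.Opens) (_ : IsAffineOpen U) (_ : x ∈ U) (e : U ≤ f ⁻¹ᵁ V),
        (f.appLE V U e).hom.IsStandardSmooth := by
  have key : ∀ (U : X.Opens) (e : U ≤ f ⁻¹ᵁ V), ((U.ι ≫ f).appLE V ⊤ (fun z _ => e z.2)).hom =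
      RingHom.comp ((X.presheaf.mapIso (eqToIso U.ι_image_top).op).commRingCatIsoToRingEquiv.toRingHom)
        (f.appLE V U e).hom := by
    intro U e
    refine congrArg CommRingCat.Hom.hom (?_ : _ = f.appLE V U e ≫ X.presheaf.map (eqToHom U.ι_image_top).op)
    rw [Scheme.Hom.comp_appLE, Scheme.Opens.ι_appLE, Scheme.Hom.appLE_map]
    rw [Scheme.Hom.appLE]
    rfl
  constructor
  · rintro ⟨W, hxW, hW⟩
    obtain ⟨U, hU, hxU, hUle⟩ := exists_isAffineOpen_mem_and_subset (U := W ⊓ f ⁻¹ᵁ V) (⟨hxW, hxV⟩ : x ∈ W ⊓ f ⁻¹ᵁ V)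
    have e : U ≤ f ⁻¹ᵁ V := fun z hz => (hUle hz).2
    have : Smooth (U.ι ≫ f) := by
      rw [← X.homOfLE_ι (fun z hz => (hUle hz).1 : U ≤ W), Category.assoc]; infer_instance
    have : IsAffine U.toScheme := hU
    have hs : (f.appLE V U e).hom.Smooth := by
      have h := (U.ι ≫ f).smooth_appLE hV (isAffineOpen_top U.toScheme) (fun z _ => e z.2)
      rw [key U e] at h
      have h' := RingHom.Smooth.respectsIso.left _ (X.presheaf.mapIso (eqToIso U.ι_image_top).op).commRingCatIsoToRingEquiv.symm h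
      convert h' using 1
      ext a
      exact ((X.presheaf.mapIso (eqToIso U.ι_image_top).op).commRingCatIsoToRingEquiv.symm_apply_apply _).symm
    algebraize [(f.appLE V U e).hom]
    let P := (hU.primeIdealOf ⟨x, hxU⟩).asIdeal
    obtain ⟨g, hg, hst⟩ := Algebra.IsSmoothAt.exists_notMem_isStandardSmooth (R := Γ(S, V)) P
    have hle : X.basicOpen g ≤ U := X.basicOpen_le g
    refine ⟨X.basicOpen g, hU.basicOpen g, ?_, hle.trans e, ?_⟩
    · have h4 : hU.primeIdealOf ⟨x, hxU⟩ ∈ hU.fromSpec ⁻¹ᵁ X.basicOpen g := by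
        rw [hU.fromSpec_preimage_basicOpen]; exact hg
      have h5 : hU.fromSpec (hU.primeIdealOf ⟨x, hxU⟩) ∈ X.basicOpen g := h4
      rwa [hU.fromSpec_primeIdealOf] at h5
    · have := hU.isLocalization_basicOpen g
      have hcomp : f.appLE V (X.basicOpen g) (hle.trans e) =
          f.appLE V U e ≫ X.presheaf.map (homOfLE hle).op := (Scheme.Hom.appLE_map _ _ _).symm
      let := ((X.presheaf.map (homOfLE hle).op).hom.comp (f.appLE V U e).hom).toAlgebra
      have : IsScalarTower Γ(S, V) Γ(X, U) Γ(X, X.basicOpen g) := .of_algebraMap_eq' rfl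
      have e' := (IsLocalization.algEquiv (.powers g) (Localization.Away g) Γ(X, X.basicOpen g)).restrictScalars Γ(S, V)
      rw [hcomp, CommRingCat.hom_comp]
      exact RingHom.isStandardSmooth_algebraMap.mpr (Algebra.IsStandardSmooth.of_algEquiv e')
  · rintro ⟨U, hU, hxU, e, hs⟩
    refine ⟨U, hxU, ?_⟩
    have : IsAffine U.toScheme := hU
    rw [HasRingHomProperty.iff_exists_appLE (P := @Smooth)
      (RingHom.Smooth.stableUnderComposition.stableUnderCompositionWithLocalizationAway RingHom.Smooth.holdsForLocalizationAway).1]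
    intro z
    refine ⟨⟨V, hV⟩, ⟨⊤, isAffineOpen_top _⟩, trivial, fun z _ => e z.2, ?_⟩
    rw [key U e]
    exact RingHom.Smooth.respectsIso.left _ (X.presheaf.mapIso (eqToIso U.ι_image_top).op).commRingCatIsoToRingEquiv hs.smooth

end Groth.Agent.S9721
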