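import Groth.Statements.S9724
import Groth.Agent.H8Props.SliceTools.Separable

set_option autoImplicit false
universe u
open FlatMor

namespace Groth.Agent.S9724

open AlgebraicGeometry CategoryTheory Limits in
/-- Let f : X ⟶ S be a morphism and x a point such that f is smooth on an open neighbourhood of x, the
residue field extension κ(x)/κ(f x) is separable (formally smooth), and x is not the generic point
of any irreducible component of the fibre over f x, i.e. (the fibre being smooth over a field near
x) the maximal ideal of the local ring of the fibre at x is nonzero. Then there are an affine open U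
∋ x and a nonzerodivisor h' of Γ(X, U) vanishing at x such that the closed subscheme V(h') of U, an
effective Cartier divisor through x, is smooth over S. -/
theorem result {X S : Scheme.{u}} (f : X ⟶ S) (x : X)
    (W : X.Opens) (hxW : x ∈ W) (hW : Smooth (W.ι ≫ f))
    (hsep : letI := (f.residueFieldMap x).hom.toAlgebra
      Algebra.FormallySmooth (S.residueField (f x)) (X.residueField x))
    (hgen : IsLocalRing.maximalIdeal ↑((f.fiber (f x)).presheaf.stalk (f.asFiber x)) ≠ ⊥) :
    ∃ (U : X.Opens) (hU : IsAffineOpen U) (hx : x ∈ U) (h' : Γ(X, U)), h' ∈ nonZeroDivisors Γ(X, U) ∧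
      X.presheaf.germ U x hx h' ∈ IsLocalRing.maximalIdeal ↑(X.presheaf.stalk x) ∧
      Smooth (Spec.map (CommRingCat.ofHom (Ideal.Quotient.mk (Ideal.span {h'}))) ≫ hU.fromSpec ≫ f) := by
  exact Groth.Agent.H8Props.SliceTools.smoothCut_separable f x W hxW hW hsep hgen

end Groth.Agent.S9724
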