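import Groth.Statements.S9725
import Groth.Agent.H8Props.SliceTools.SmoothCut

set_option autoImplicit false
universe u
open FlatMor

namespace Groth.Agent.S9725

open AlgebraicGeometry CategoryTheory Limits in
/-- Let f : X ⟶ S be a morphism and x a point such that f is smooth on an open neighbourhood of x, and
let h be an element of the maximal ideal of the local ring O_{X,x} such that the image of dh in
Ω_{O_{X,x}/O_{S,f x}} ⊗ κ(x) (the fibre at x of the sheaf of differentials of X over S) is nonzero.
Then there are an affine open U ∋ x and a nonzerodivisor h' of Γ(X, U) with germ h at x such that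
the closed subscheme V(h') of U, an effective Cartier divisor through x, is smooth over S. -/
theorem result {X S : Scheme.{u}} (f : X ⟶ S) (x : X)
    (W : X.Opens) (hxW : x ∈ W) (hW : Smooth (W.ι ≫ f))
    (h : ↑(X.presheaf.stalk x)) (hm : h ∈ IsLocalRing.maximalIdeal ↑(X.presheaf.stalk x))
    (hd : letI := (f.stalkMap x).hom.toAlgebra
      (1 : IsLocalRing.ResidueField ↑(X.presheaf.stalk x)) ⊗ₜ[↑(X.presheaf.stalk x)]
          (KaehlerDifferential.D ↑(S.presheaf.stalk (f x)) ↑(X.presheaf.stalk x) h) ≠ 0) :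
    ∃ (U : X.Opens) (hU : IsAffineOpen U) (hx : x ∈ U) (h' : Γ(X, U)), X.presheaf.germ U x hx h' = h ∧
      h' ∈ nonZeroDivisors Γ(X, U) ∧
      Smooth (Spec.map (CommRingCat.ofHom (Ideal.Quotient.mk (Ideal.span {h'}))) ≫ hU.fromSpec ≫ f) := by
  letI := (f.stalkMap x).hom.toAlgebra
  obtain ⟨U, hU, hx, h', h₁, h₂, h₃⟩ := Groth.Agent.H8Props.SliceTools.smoothCut_germ f x W hxW hW h hm hd
  exact ⟨U, hU, hx, h', h₂, h₁, h₃⟩

end Groth.Agent.S9725
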