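import Groth.Statements.S9727
import Groth.Agent.H8Props.EtaleLift.Preimmersion

set_option autoImplicit false
universe u
open FlatMor

namespace Groth.Agent.S9727

open AlgebraicGeometry CategoryTheory Limits in
/-- Let f : X ⟶ S be a morphism, x a point of X with image s, and (V, v) ⟶ (X_s, x) an étale
neighbourhood of x in its fibre. Then there is an étale neighbourhood (U, u) ⟶ (X, x) whose fibre
U_s over s admits a morphism of étale neighbourhoods (U_s, u) ⟶ (V, v) over X_s which is an open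
immersion. -/
theorem result {X S V : Scheme.{u}} (f : X ⟶ S) (x : X)
    (g : V ⟶ f.fiber (f x)) [Etale g] (v : V) (hv : g v = f.asFiber x) :
    ∃ (U : Scheme.{u}) (p : U ⟶ X) (u : U) (m : (p ≫ f).fiber (f x) ⟶ V) (u' : ↑((p ≫ f).fiber (f x))),
      Etale p ∧ p u = x ∧ IsOpenImmersion m ∧ m ≫ g = MoreMor.fiberMap p f (f x) ∧
      (p ≫ f).fiberι (f x) u' = u ∧ m u' = v := by
  obtain ⟨W, q, U', j, a, _, _, _, ⟨w, hw⟩, hpb⟩ :=
    Groth.Agent.H8Props.EtaleLift.exists_etale_lift (f.fiberι (f x)) g v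
  have h : IsPullback a ((j ≫ g) ≫ f.fiberToSpecResidueField (f x)) (q ≫ f)
      (S.fromSpecResidueField (f x)) :=
    hpb.paste_vert (IsPullback.of_hasPullback f (S.fromSpecResidueField (f x)))
  obtain ⟨e, e1, e2⟩ : ∃ e : U' ≅ (q ≫ f).fiber (f x), e.inv ≫ a = (q ≫ f).fiberι (f x) ∧
      e.inv ≫ (j ≫ g) ≫ f.fiberToSpecResidueField (f x) =
        (q ≫ f).fiberToSpecResidueField (f x) :=
    ⟨h.isoPullback, h.isoPullback_inv_fst, h.isoPullback_inv_snd⟩
  refine ⟨W, q, a w, e.inv ≫ j, e.hom w, inferInstance, ?_, inferInstance,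
    ?_, ?_, ?_⟩
  · rw [← Scheme.Hom.comp_apply, hpb.w, Scheme.Hom.comp_apply, Scheme.Hom.comp_apply, hw, hv,
      Scheme.Hom.fiberι_asFiber]
  · refine pullback.hom_ext ?_ ?_
    · refine Eq.trans ?_ (pullback.lift_fst _ _ _).symm
      change ((e.inv ≫ j) ≫ g) ≫ f.fiberι (f x) = (q ≫ f).fiberι (f x) ≫ q
      rw [← e1]
      simp only [Category.assoc]
      rw [hpb.w, Category.assoc]
    · refine Eq.trans ?_ (pullback.lift_snd _ _ _).symm
      change ((e.inv ≫ j) ≫ g) ≫ f.fiberToSpecResidueField (f x) = _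
      rw [← e2]
      simp only [Category.assoc]
  · rw [← e1, ← Scheme.Hom.comp_apply, Iso.hom_inv_id_assoc]
  · rw [← Scheme.Hom.comp_apply, Iso.hom_inv_id_assoc, hw]

end Groth.Agent.S9727
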