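import Groth.Statements.S9728
import Groth.Agent.H8Props.KoszImm.Local

set_option autoImplicit false
universe u
open FlatMor

namespace Groth.Agent.S9728

open AlgebraicGeometry CategoryTheory Limits in
/-- Given S-schemes U, P, P' with P and P' smooth over S, immersions i : U ⟶ P and i' : U ⟶ P'
compatible with the structure maps to S, and a point u of U, some restriction of i to an open
neighbourhood of u is a Koszul-regular immersion exactly when some restriction of i' to an open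
neighbourhood of u is. -/
theorem result {S U P P' : Scheme.{u}} (q : U ⟶ S)
    (p : P ⟶ S) (p' : P' ⟶ S) [Smooth p] [Smooth p'] (i : U ⟶ P) (i' : U ⟶ P') [IsImmersion i] [IsImmersion i']
    (hi : i ≫ p = q) (hi' : i' ≫ p' = q) (u : U) :
    (∃ V : U.Opens, u ∈ V ∧ RegImm.IsRegularImmersion RegImm.Kind.koszul (V.ι ≫ i)) ↔
      (∃ V : U.Opens, u ∈ V ∧ RegImm.IsRegularImmersion RegImm.Kind.koszul (V.ι ≫ i')) := by
  suffices key : ∀ (P P' : Scheme.{u}) (p : P ⟶ S) (p' : P' ⟶ S) [Smooth p] [Smooth p'] (i : U ⟶ P)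
      (i' : U ⟶ P') [IsImmersion i] [IsImmersion i'], i ≫ p = i' ≫ p' →
      (∃ V : U.Opens, u ∈ V ∧ RegImm.IsRegularImmersion RegImm.Kind.koszul (V.ι ≫ i)) →
      ∃ V : U.Opens, u ∈ V ∧ RegImm.IsRegularImmersion RegImm.Kind.koszul (V.ι ≫ i') by
    exact ⟨key P P' p p' i i' (hi.trans hi'.symm), key P' P p' p i' i (hi'.trans hi.symm)⟩
  intro P P' p p' _ _ i i' _ _ h ⟨V, huV, hV⟩
  have hu : RegImm.IsRegularImmersionAt RegImm.Kind.koszul i' u :=
    Groth.Agent.H8Props.KoszImm.regAt_of_two i i' p p' h u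
      ((Groth.Agent.H8Props.KoszImm.regAt_restrict_iff V i u huV).1 (hV.2 ⟨u, huV⟩))
  obtain ⟨W, huW, hcl, rs, hrs, hker⟩ := hu
  refine ⟨i' ⁻¹ᵁ W.1, huW, inferInstance, fun z => ?_⟩
  refine (Groth.Agent.H8Props.KoszImm.regAt_restrict_iff (i' ⁻¹ᵁ W.1) i' z.1 z.2).2 ?_
  exact ⟨W, z.2, hcl, rs, hrs, hker⟩

end Groth.Agent.S9728
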