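import Groth.Statements.S9729
import Groth.Agent.H8Props.KoszImm.Local

set_option autoImplicit false
universe u
open FlatMor

namespace Groth.Agent.S9729

open AlgebraicGeometry CategoryTheory Limits in
/-- Let f : X ⟶ Y and g : Y ⟶ S be morphisms with g smooth. If f ≫ g is a local complete intersection
morphism (Koszul at every point of X) then f is a local complete intersection morphism. -/
theorem result {X Y S : Scheme.{u}} (f : X ⟶ Y) (g : Y ⟶ S) [Smooth g]
    (h : ∀ x : X, Synt.IsKoszulAt (f ≫ g) x) (x : X) : Synt.IsKoszulAt f x := by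
  obtain ⟨U, P, k, π, hxU, -, hk, hπ, hkπ⟩ := h x
  haveI := hk.1
  haveI := hπ
  have hcomm : k ≫ π = (U.ι ≫ f) ≫ g := by rw [hkπ, Category.assoc]
  let l : (U : Scheme) ⟶ pullback π g := pullback.lift k (U.ι ≫ f) hcomm
  haveI : IsImmersion (l ≫ pullback.fst π g) := by
    rw [pullback.lift_fst]
    infer_instance
  haveI : IsImmersion l := IsImmersion.of_comp l (pullback.fst π g)
  refine ⟨U, _, l, pullback.snd π g, hxU, ?_, ⟨inferInstance, fun z => ?_⟩, inferInstance,
    pullback.lift_snd k _ hcomm⟩
  · rw [← pullback.lift_snd k _ hcomm]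
    infer_instance
  · exact (Groth.Agent.H8Props.KoszImm.regAt_smooth_iff k l (pullback.fst π g)
      (pullback.lift_fst k _ hcomm) z).1 (hk.2 z)

end Groth.Agent.S9729
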