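import Groth.Statements.S9736
import Groth.Agent.H8Props.RelGCISch

set_option autoImplicit false
universe u
open FlatMor

namespace Groth.Agent.S9736

open AlgebraicGeometry CategoryTheory Limits in
/-- Let f : X ⟶ S be a standard syntomic morphism of affine schemes. Then f is the base change of a
morphism of finite type f₀ : X₀ ⟶ S₀ between affine schemes with S₀ of finite type over ℤ and f₀
standard syntomic. -/
theorem result {X S : Scheme.{u}} (f : X ⟶ S) [IsAffine X] [IsAffine S] (hf : Synt.IsStandardSyntomic f) :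
    ∃ (X₀ S₀ : Scheme.{u}) (f₀ : X₀ ⟶ S₀) (g : S ⟶ S₀) (g' : X ⟶ X₀), IsAffine X₀ ∧ IsAffine S₀ ∧ IsPullback g' f f₀ g ∧
      Algebra.FiniteType ℤ Γ(S₀, ⊤) ∧ LocallyOfFiniteType f₀ ∧ Synt.IsStandardSyntomic f₀ := by
    exact Groth.Agent.H8Props.RelGCI.standardSyntomic_approx f hf

end Groth.Agent.S9736
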