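import Groth.Statements.S9738
import Groth.Agent.H8Props.FlatInfinitesimalScheme

set_option autoImplicit false
universe u
open FlatMor

namespace Groth.Agent.S9738

open AlgebraicGeometry CategoryTheory Limits in
/-- For a morphism f : X ⟶ S between locally Noetherian schemes, an ideal sheaf I on S with closed
subscheme Z, and Z_n the closed subscheme cut out by I^(n+1): if each base change X ×_S Z_n ⟶ Z_n is
flat, then f is flat at each point of X lying over Z. -/
theorem result {X S : Scheme.{u}} (f : X ⟶ S) [IsLocallyNoetherian X] [IsLocallyNoetherian S]
    (I : S.IdealSheafData) (h : ∀ n : ℕ, Flat (pullback.snd f (I ^ (n + 1)).subschemeι)) (x : X) (hx : f x ∈ I.support) :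
    (f.stalkMap x).hom.Flat := by
  exact Groth.Agent.H8Props.FlatInfinitesimal.flat_stalkMap f I h x hx

end Groth.Agent.S9738
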