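import Groth.Statements.S9739
import Groth.Agent.H8Props.FlatFibreConst

set_option autoImplicit false
universe u
open FlatMor

namespace Groth.Agent.S9739

open AlgebraicGeometry CategoryTheory Limits in
/-- Let f : X ⟶ S be flat and locally of finite presentation, and let x' ⤳ x be points of X. Assume the
closure of x in its fibre is one of that fibre's irreducible components. Then the fibre through x'
has the same local dimension at x' as the fibre through x has at x. -/
theorem result {X S : Scheme.{u}} (f : X ⟶ S) [Flat f] [LocallyOfFinitePresentation f]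
    (x x' : X) (hsp : x' ⤳ x) (hgen : ∃ Z ∈ irreducibleComponents ↥(f.fiber (f x)), IsGenericPoint (f.asFiber x) Z) :
    FlatMor.fibreDimAt f x' = FlatMor.fibreDimAt f x := by
  obtain ⟨Z, hZ, hx⟩ := hgen
  haveI : LocallyOfFiniteType f := inferInstance
  have hmax : ∀ ζ, ζ ⤳ f.asFiber x → ζ = f.asFiber x := fun ζ hζ => by
    have hle : Z ⊆ closure {ζ} := by
      rw [← hx.def]
      exact closure_minimal (Set.singleton_subset_iff.mpr (specializes_iff_mem_closure.mp hζ)) isClosed_closure
    exact ((isGenericPoint_closure (x := ζ)).specializes (hle hx.mem)).antisymm (hx.specializes (hZ.2 isIrreducible_singleton.closure hle (subset_closure rfl))) |>.eq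
  exact hsp.mem_open (isOpen_interior) (mem_interior_iff_mem_nhds.mpr
    (Groth.Agent.H8Props.FieldDim.eventually_fibreDimAt_eq f x
      (Groth.Agent.H8Props.FieldDim.fibre_CM_of_maximal f x hmax))) |> interior_subset (s := {x' | FlatMor.fibreDimAt f x' = FlatMor.fibreDimAt f x})

end Groth.Agent.S9739
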