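import Groth.Statements.S9740
import Groth.Agent.H29Omega.UnivThickScheme

set_option autoImplicit false
universe u
open OmegaSh

namespace Groth.Agent.S9740

open AlgebraicGeometry CategoryTheory Limits in
/-- Let h : Z ⟶ X be formally unramified with universal first order thickening (i : Z ⟶ Z', h' : Z' ⟶
X), let V ⊆ Z and U ⊆ X be opens with h(V) ⊆ U, and let V' ⊆ Z' be the open with i⁻¹(V') = V (so
h'(V') ⊆ U). Then the restricted pair (V ⟶ V', V' ⟶ U) is a universal first-order thickening for the
restriction V ⟶ U of h. The published statement also asserts that this restriction is formally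
unramified and that the conormal sheaf of Z over X restricts on V to that of V over U; this row
states only the thickening part. -/
theorem result {Z Z' X : Scheme.{u}} (h : Z ⟶ X) [FormallyUnramified h] (i : Z ⟶ Z') (h' : Z' ⟶ X)
    (hu : OmegaSh.IsUnivThickening h i h') (V : Z.Opens) (U : X.Opens) (hVU : V ≤ h ⁻¹ᵁ U)
    (V' : Z'.Opens) (hV' : i ⁻¹ᵁ V' = V) (hV'U : V' ≤ h' ⁻¹ᵁ U) :
    OmegaSh.IsUnivThickening (h.resLE U V hVU) (i.resLE V' V hV'.ge) (h'.resLE U V' hV'U) := by
  exact H29Omega.isUnivThickening_resLE hu V U hVU V' hV' hV'U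

end Groth.Agent.S9740
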