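import Groth.Statements.S9741
import Groth.Agent.H29Omega.UnivThickScheme

set_option autoImplicit false
universe u
open OmegaSh

namespace Groth.Agent.S9741

open AlgebraicGeometry CategoryTheory Limits in
/-- Let a : Z ⟶ Y and b : Y ⟶ X be formally unramified, let (i : Z ⟶ Z', c : Z' ⟶ X) be universal among
first order thickenings of Z relative to X (for a ≫ b), and (j : Y ⟶ Y', d : Y' ⟶ X) likewise for Y
relative to X (for b). Then there is a morphism of thickenings m : Z' ⟶ Y' over X (i ≫ m = a ≫ j and
m ≫ d = c) such that Z ⟶ Y ×_{Y'} Z' (components a and i), together with the projection to Y, is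
universal among first order thickenings of Z relative to Y (for a). The published statement also
asserts an exact sequence of conormal sheaves; this row states only the thickening assertion. -/
theorem result {Z Y X Z' Y' : Scheme.{u}} (a : Z ⟶ Y) (b : Y ⟶ X)
    [FormallyUnramified a] [FormallyUnramified b] (i : Z ⟶ Z') (c : Z' ⟶ X) (hZ : OmegaSh.IsUnivThickening (a ≫ b) i c)
    (j : Y ⟶ Y') (d : Y' ⟶ X) (hY : OmegaSh.IsUnivThickening b j d) :
    ∃ (m : Z' ⟶ Y') (hm : i ≫ m = a ≫ j), m ≫ d = c ∧
      OmegaSh.IsUnivThickening a (pullback.lift a i hm.symm) (pullback.fst j m) := by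
  obtain ⟨hi, hic, hiu⟩ := hZ
  obtain ⟨hj, hjd, hju⟩ := hY
  obtain ⟨m, ⟨hm1, hm2⟩, -⟩ := hju Z Z' i c a hi hic
  refine ⟨m, hm1, hm2, ?_, pullback.lift_fst _ _ _, fun T T' t b' a' ht hb => ?_⟩
  · haveI : IsClosedImmersion j := hj.1.1
    haveI : Mono (pullback.snd j m) := inferInstance
    refine H29Omega.fot_of_isPullback hi (g := 𝟙 Z) (f := pullback.snd j m) ?_
    refine IsPullback.of_isLimit' ⟨by rw [pullback.lift_snd, Category.id_comp]⟩ ?_
    refine PullbackCone.IsLimit.mk _ (fun s => s.snd) (fun s => ?_) (fun s => Category.comp_id _)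
      (fun s l _ h => by simpa using h)
    rw [← cancel_mono (pullback.snd j m), Category.assoc, pullback.lift_snd]
    exact s.condition.symm
  obtain ⟨e, ⟨he1, he2⟩, heu⟩ := hiu T T' t (b' ≫ b) a' ht (by
    rw [← Category.assoc, hb, Category.assoc])
  have hw : b' ≫ j = e ≫ m := by
    obtain ⟨y, -, hyu⟩ := hju T T' t (b' ≫ b) (a' ≫ a) ht (by rw [← Category.assoc, hb])
    rw [hyu (b' ≫ j) ⟨by rw [← Category.assoc, hb], by rw [Category.assoc, hjd]⟩,
      hyu (e ≫ m) ⟨by rw [← Category.assoc, he1, Category.assoc, hm1, Category.assoc],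
        by rw [Category.assoc, hm2, he2]⟩]
  refine ⟨pullback.lift b' e hw, ⟨?_, pullback.lift_fst _ _ _⟩, fun a'' ⟨h1, h2⟩ => ?_⟩
  · apply pullback.hom_ext
    · rw [Category.assoc, pullback.lift_fst, Category.assoc, pullback.lift_fst, hb]
    · rw [Category.assoc, pullback.lift_snd, Category.assoc, pullback.lift_snd, he1]
  · apply pullback.hom_ext
    · rw [pullback.lift_fst, h2]
    · rw [pullback.lift_snd]
      refine heu _ ⟨?_, ?_⟩
      · rw [← Category.assoc, h1, Category.assoc, pullback.lift_snd]
      · rw [← h2, Category.assoc, Category.assoc, ← hm2, ← pullback.condition_assoc, hjd]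

end Groth.Agent.S9741
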