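import Groth.Statements.S9743
import Groth.Agent.H8Props.RelFP.Ops

set_option autoImplicit false
universe u
open Flatn

namespace Groth.Agent.S9743

open AlgebraicGeometry CategoryTheory Limits in
/-- Suppose π : X ⟶ Y is finite, g : Y ⟶ S is locally of finite type, and F is a quasi-coherent
O_X-module. Then F is relatively finitely presented over S via π ≫ g exactly when the direct image
π_*F is relatively finitely presented over S via g. -/
theorem result {X Y S : Scheme.{u}} (π : X ⟶ Y) (g : Y ⟶ S) [IsFinite π] [LocallyOfFiniteType g]
    (F : X.Modules) [Coh.IsQCoh F] : Flatn.IsRelFP (π ≫ g) F ↔ Flatn.IsRelFP g ((Coh.push π).obj F) := by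
  exact H8Props.RelFP.isRelFP_push_iff π g ‹_›

end Groth.Agent.S9743
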