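import Groth.Statements.S9748
import Groth.Agent.H8Props.RelFP.Ops

set_option autoImplicit false
universe u
open Flatn

namespace Groth.Agent.S9748

open AlgebraicGeometry CategoryTheory Limits in
/-- Let f : X ⟶ S be locally of finite type and let 0 → F' → F → F'' → 0 be exact in quasi-coherent
O_X-modules. Suppose the submodule F' is of finite type and F has finite presentation relative to
the base S. Then the quotient F'' also has finite presentation relative to S. -/
theorem result {X S : Scheme.{u}} (f : X ⟶ S) [LocallyOfFiniteType f] (E : ShortComplex X.Modules) (hE : E.ShortExact)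
    [Coh.IsQCoh E.X₁] [Coh.IsQCoh E.X₂] [Coh.IsQCoh E.X₃] (h₁ : CohB1.IsFT E.X₁) (h₂ : Flatn.IsRelFP f E.X₂) :
    Flatn.IsRelFP f E.X₃ := by
  exact H8Props.RelFP.isRelFP_quot f E hE ‹_› ‹_› ‹_› h₁ h₂

end Groth.Agent.S9748
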