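import Groth.Statements.S9754
import Groth.Agent.H9Hens.BranchFibre
-- import your own Groth.Agent.* helpers here

set_option autoImplicit false
universe u
open Brnch

namespace Groth.Agent.S9754

open AlgebraicGeometry CategoryTheory Limits in
/-- For a morphism f : X ⟶ S and a point x of X over s = f x, the geometric branch count of the fibre
X_s at x equals the supremum, over étale neighbourhoods (U, u) of (X, x), of how many irreducible
components of U_s (the fibre of U ⟶ X ⟶ S over s) contain the point of U_s lying over u. -/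
theorem result {X S : Scheme.{u}} (f : X ⟶ S) (x : X) :
    Brnch.numGeomBranchesAt (f.fiber (f x)) (f.asFiber x) = ⨆ (U : Scheme.{u}) (g : U ⟶ X) (u : U) (_ : Etale g ∧ g u = x),
      {Z : Set ↑((g ≫ f).fiber (f x)) | Z ∈ irreducibleComponents ↑((g ≫ f).fiber (f x)) ∧
        ∃ u' ∈ Z, (g ≫ f).fiberι (f x) u' = u}.encard := by
  classical
  obtain ⟨k, _, _, _, _, _, H, _, _, _, _, π, hπ, hH⟩ :=
    Groth.Agent.H9Hens.exists_isStrictHenselization_colim (X.presheaf.stalk x)
  have hker := Groth.Agent.H9Hens.ker_algebraMap_of_tower (R := X.presheaf.stalk x) (k := k)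
  have : IsSepClosed k := IsSepClosure.sep_closed (IsLocalRing.ResidueField (X.presheaf.stalk x))
  rw [Groth.Agent.H9Hens.BranchNbhd.numGeomBranchesAt_fibre f x (H := H)]
  refine le_antisymm (Groth.Agent.H9Hens.BranchNbhd.encard_le_of_finset fun Q hQ => ?_)
    (iSup_le fun U => iSup_le fun g => iSup_le fun u => iSup_le fun h => ?_)
  · obtain ⟨U, g, t, pt, hE, -, hx, hle⟩ :=
      Groth.Agent.H9Hens.BranchNbhd.exists_card_le_fibre_components x hπ f Q hQ
    exact hle.trans (le_iSup_of_le U (le_iSup_of_le g (le_iSup_of_le (t pt)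
      (le_iSup_of_le ⟨hE, hx⟩ le_rfl))))
  · obtain ⟨hE, rfl⟩ := h
    obtain ⟨τ, hτf, rfl, hτg⟩ := Groth.Agent.H9Hens.BranchNbhd.exists_flat_lift (g u) hπ g u rfl
      fun V hV hu W hW hx e =>
        Groth.Agent.H9Hens.BranchNbhd.exists_chart_point_isSepClosed g u V hu W hx e hker hV hW
    exact le_of_le_of_eq (le_of_eq_of_le
      (Groth.Agent.H9Hens.BranchNbhd.encard_fibre_components (g ≫ f) _ _ rfl)
      (Groth.Agent.H9Hens.BranchNbhd.encard_minimalPrimes_le_closedIdeal τ (g ≫ f))) (by
        rw [← Category.assoc, hτg, Groth.Agent.H9Hens.BranchNbhd.closedIdeal_comp_fromSpecStalk])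

end Groth.Agent.S9754
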