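import Groth.Statements.S9756
import Groth.Agent.H8Props.SliceTools.Basic
import Mathlib

set_option autoImplicit false
universe u
open FlatMor

namespace Groth.Agent.S9756

open AlgebraicGeometry CategoryTheory Limits in
/-- Let f : X ⟶ S be locally of finite presentation and flat at a point x, and assume the local ring of
the fibre X_{f x} at x has depth at least 1. Then there are an affine open U ∋ x and a
nonzerodivisor h' of Γ(X, U) vanishing at x such that the closed subscheme V(h') of U, an effective
Cartier divisor through x, is flat and locally of finite presentation over S. The published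
statement concludes that V(h') ⟶ S is of finite presentation; this row concludes only that it is
flat and locally of finite presentation, which is what the published argument (slicing by a lift of
a fibrewise nonzerodivisor) yields, and which is equivalent when S is quasi-separated, V(h') being
affine. -/
theorem result {X S : Scheme.{u}} (f : X ⟶ S) [LocallyOfFinitePresentation f] (x : X)
    (hflat : (f.stalkMap x).hom.Flat)
    (hdepth : 1 ≤ LocCoh.depth ↑((f.fiber (f x)).presheaf.stalk (f.asFiber x)) ↑((f.fiber (f x)).presheaf.stalk (f.asFiber x))) :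
    ∃ (U : X.Opens) (hU : IsAffineOpen U) (hx : x ∈ U) (h' : Γ(X, U)), h' ∈ nonZeroDivisors Γ(X, U) ∧
      X.presheaf.germ U x hx h' ∈ IsLocalRing.maximalIdeal ↑(X.presheaf.stalk x) ∧
      Flat (Spec.map (CommRingCat.ofHom (Ideal.Quotient.mk (Ideal.span {h'}))) ≫ hU.fromSpec ≫ f) ∧
      LocallyOfFinitePresentation (Spec.map (CommRingCat.ofHom (Ideal.Quotient.mk (Ideal.span {h'}))) ≫ hU.fromSpec ≫ f) := by
  obtain ⟨r', hm', hr'⟩ := H8Props.SliceTools.exists_regular_of_depth hdepth
  let e := H8Props.FibreStalk.asFiberStalkEquiv f x
  obtain ⟨r, hr⟩ := Ideal.Quotient.mk_surjective (e.symm r')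
  have hm : r ∈ IsLocalRing.maximalIdeal (X.presheaf.stalk x) := fun hu => by
    have h1 := ((Ideal.Quotient.mk _).isUnit_map hu).map e
    rw [hr, e.apply_symm_apply] at h1
    exact hm' h1
  have hreg : e.symm r' ∈ nonZeroDivisors _ := mem_nonZeroDivisors_iff_right.2 fun z hz =>
    e.injective (((mem_nonZeroDivisors_iff_right.1 hr') (e z) (by
      rw [← e.apply_symm_apply r', ← map_mul, hz, map_zero])).trans (map_zero e).symm)
  obtain ⟨U, hU, hxU, h', -, hg, h1, h2, h3⟩ :=
    H8Props.SliceTools.exists_flat_slice f x hflat ⊤ trivial r hm (hr ▸ hreg)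
  exact ⟨U, hU, hxU, h', h1, hg ▸ hm, h2, h3⟩

end Groth.Agent.S9756
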