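import Groth.Statements.S9757
import Groth.Agent.H8Props.FlatFibreConst

set_option autoImplicit false
universe u
open FlatMor

namespace Groth.Agent.S9757

open AlgebraicGeometry CategoryTheory Limits in
/-- Suppose the morphism f : X ⟶ S is flat and locally of finite presentation. Then X contains open
subsets U_d, indexed by d ∈ ℕ, such that for every s ∈ S the union of all U_d intersects the fibre
X_s in a dense subset of X_s, and each U_d ⟶ S is of relative dimension d. Because U_d is open in X,
this is the same as requiring that at every point x of U_d the fibre of f containing x has local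
dimension d at x; that pointwise form is the one this row uses. -/
theorem result {X S : Scheme.{u}} (f : X ⟶ S) [Flat f] [LocallyOfFinitePresentation f] :
    ∃ U : ℕ → X.Opens, (∀ s : S, Dense ((f.fiberι s) ⁻¹' ((⨆ d, U d : X.Opens) : Set ↑X))) ∧
      ∀ (d : ℕ) (x : ↑X), x ∈ U d → FlatMor.fibreDimAt f x = d := by
  refine ⟨fun d => ⟨interior {x | FlatMor.fibreDimAt f x = d}, isOpen_interior⟩, fun s => ?_,
    fun d x hx => (interior_subset hx : _)⟩
  intro u
  obtain ⟨η, hη, hT⟩ := Groth.Agent.H8Props.FieldDim.exists_component_generization u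
  suffices hmem : η ∈ f.fiberι s ⁻¹' ((⨆ d, (⟨interior {x | FlatMor.fibreDimAt f x = (d : ℕ)}, isOpen_interior⟩ : X.Opens) : X.Opens) : Set X) from
    closure_mono (Set.singleton_subset_iff.mpr hmem) hη.mem_closure
  have hs : f (f.fiberι s η) = s := (f.range_fiberι s).subset (Set.mem_range_self η)
  show f.fiberι s η ∈ ((⨆ d, (⟨interior {x | FlatMor.fibreDimAt f x = (d : ℕ)}, isOpen_interior⟩ : X.Opens) : X.Opens) : Set X)
  generalize hy : f.fiberι s η = y at hs ⊢
  subst hs
  obtain rfl : η = f.asFiber y :=
    (f.fiberι _).isEmbedding.injective (hy.trans (f.fiberι_asFiber y).symm)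
  have hmax : ∀ ζ, ζ ⤳ f.asFiber y → ζ = f.asFiber y := fun ζ hζ =>
    (hζ.antisymm ((isGenericPoint_closure (x := f.asFiber y)).specializes
      (hT.2 isIrreducible_singleton.closure
        (closure_minimal (Set.singleton_subset_iff.mpr hζ.mem_closure) isClosed_closure)
        (subset_closure rfl)))).eq
  haveI := Groth.Agent.H8Props.FieldDim.locallyOfFiniteType_fiberToSpec f (f y)
  obtain ⟨d, hd⟩ := Groth.Agent.H8Props.FieldDim.exists_nat_localDim (k := S.residueField (f y))
    (f.fiberToSpecResidueField (f y)) (f.asFiber y)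
  have hd : FlatMor.fibreDimAt f y = d := hd
  refine TopologicalSpace.Opens.mem_iSup.mpr ⟨d, ?_⟩
  exact mem_interior_iff_mem_nhds.mpr (Filter.mem_of_superset
    (Groth.Agent.H8Props.FieldDim.eventually_fibreDimAt_eq f y
      (Groth.Agent.H8Props.FieldDim.fibre_CM_of_maximal f y hmax)) fun z hz => hz.trans hd)

end Groth.Agent.S9757
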