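import Groth.Statements.S9759
import Groth.Agent.H8Props.FlatApproxAffine

set_option autoImplicit false
universe u
open FlatMor

namespace Groth.Agent.S9759

open AlgebraicGeometry CategoryTheory Limits in
/-- Let f : X ⟶ S be a flat morphism of finite presentation between affine schemes. Then f is the base
change of a morphism of finite type f₀ : X₀ ⟶ S₀ between affine schemes with S₀ of finite type over
ℤ and f₀ flat. -/
theorem result {X S : Scheme.{u}} (f : X ⟶ S) [IsAffine X] [IsAffine S] [LocallyOfFinitePresentation f] [Flat f] :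
    ∃ (X₀ S₀ : Scheme.{u}) (f₀ : X₀ ⟶ S₀) (g : S ⟶ S₀) (g' : X ⟶ X₀), IsAffine X₀ ∧ IsAffine S₀ ∧ IsPullback g' f f₀ g ∧
      Algebra.FiniteType ℤ Γ(S₀, ⊤) ∧ LocallyOfFiniteType f₀ ∧ Flat f₀ := by
  obtain ⟨X₀, S₀, f₀, g, g', h1, h2, h3, h4, h5, h6, -⟩ := Groth.Agent.H8Props.FlatApprox.exists_isPullback f
  exact ⟨X₀, S₀, f₀, g, g', h1, h2, h3, h4, h5, h6⟩

end Groth.Agent.S9759
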