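import Groth.Statements.S9761
import Groth.Agent.H8Props.ModuleModel.Sheaf
import Groth.Agent.H8Props.ModuleModel.Alg
import Mathlib

set_option autoImplicit false
set_option linter.style.haveILetI false
universe u
open FlatMor

namespace Groth.Agent.S9761

open AlgebraicGeometry CategoryTheory Limits in
/-- For a finitely presented morphism f : X ⟶ S of affine schemes and a quasi-coherent, finitely
presented O_X-module F that is flat over S, f is the base change along some g' : X ⟶ X₀ of a finite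
type morphism f₀ : X₀ ⟶ S₀ of affine schemes with S₀ of finite type over ℤ, and some coherent
O_{X₀}-module F₀, flat over S₀, satisfies g'^*F₀ ≅ F. -/
theorem result {X S : Scheme.{u}} (f : X ⟶ S) [IsAffine X] [IsAffine S] [LocallyOfFinitePresentation f]
    (F : X.Modules) [Coh.IsQCoh F] (hF : CohB1.IsFP F) (hfl : FlatMod.IsFlatOver f F) :
    ∃ (X₀ S₀ : Scheme.{u}) (f₀ : X₀ ⟶ S₀) (g : S ⟶ S₀) (g' : X ⟶ X₀), IsAffine X₀ ∧ IsAffine S₀ ∧ IsPullback g' f f₀ g ∧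
      Algebra.FiniteType ℤ Γ(S₀, ⊤) ∧ LocallyOfFiniteType f₀ ∧
      ∃ F₀ : X₀.Modules, Coh.IsCoh F₀ ∧ FlatMod.IsFlatOver f₀ F₀ ∧ Nonempty ((Scheme.Modules.pullback g').obj F₀ ≅ F) := by
  letI := f.appTop.hom.toAlgebra
  haveI : Algebra.FinitePresentation Γ(S, ⊤) Γ(X, ⊤) :=
    (HasRingHomProperty.iff_of_isAffine (P := @LocallyOfFinitePresentation)).mp ‹LocallyOfFinitePresentation f›
  obtain ⟨X₀, S₀, f₀, g, g', h1, h2, h3, h4, h5, F₀, h6, h7, h8⟩ :=
    H8Props.ModuleModel.exists_model f F ‹Coh.IsQCoh F› hF fun M _ _ _ _ _ => by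
      obtain ⟨R₀, _, S₁, _, _, a, b, M₀, _, _, _, _, e1, e2, e3, e4, e5⟩ :=
        H8Props.ModuleModel.exists_stage Γ(S, ⊤) Γ(X, ⊤) M
      by_cases hfl : Module.Flat Γ(S, ⊤) M
      · obtain ⟨R₀, _, S₁, _, _, a, b, M₀, _, _, _, _, e1, e2, e3, e4, e5, e6⟩ :=
          H8Props.ModuleModel.exists_stage_flat Γ(S, ⊤) Γ(X, ⊤) M
        exact ⟨R₀, _, S₁, _, _, a, b, M₀, _, _, _, ‹_›, e1, e2, e3, e4, e5, fun _ => e6⟩
      · exact ⟨R₀, _, S₁, _, _, a, b, M₀, _, _, _, ‹_›, e1, e2, e3, e4, e5, fun h => absurd h hfl⟩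
  exact ⟨X₀, S₀, f₀, g, g', h1, h2, h3, h4, h5, F₀, h6, h7 hfl, h8⟩

end Groth.Agent.S9761
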