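import Groth.Statements.S9766
import Groth.Agent.H8Props.CMAt

set_option autoImplicit false
universe u
open FlatMor

namespace Groth.Agent.S9766

open AlgebraicGeometry CategoryTheory Limits in
/-- For morphisms f : X ⟶ Y, g : Y ⟶ Z and a point x of X whose fibre under f ≫ g is locally Noetherian,
Cohen–Macaulayness of f at x (flat at x with Cohen–Macaulay local ring of the fibre at x) together
with that of g at f x implies that f ≫ g is Cohen–Macaulay at x. The published statement assumes all
fibres of f, g and g ∘ f locally Noetherian; this row assumes only that the fibre of f ≫ g through x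
is, which is all the argument uses. -/
theorem result {X Y Z : Scheme.{u}} (f : X ⟶ Y) (g : Y ⟶ Z) (x : X)
    (hN : IsLocallyNoetherian ((f ≫ g).fiber (g (f x))))
    (hf : MoreMor.IsCMAt f x) (hg : MoreMor.IsCMAt g (f x)) : MoreMor.IsCMAt (f ≫ g) x := by

  rw [H8Props.CMAt.isCMAt_iff] at hf hg ⊢
  have hcomp : ((f ≫ g).stalkMap x).hom = (f.stalkMap x).hom.comp (g.stalkMap (f x)).hom := by
    rw [Scheme.Hom.stalkMap_comp]; rfl
  have hN' := H8Props.CMAt.isNoetherianRing_fibre (f ≫ g) x hN
  rw [hcomp] at hN' ⊢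
  exact ⟨hg.1.comp hf.1, (H8Props.CMAt.fibre_CM_iff (g.stalkMap (f x)).hom (f.stalkMap x).hom hf.1
    (H8Props.CMAt.isNoetherianRing_of_CM hg.2) hN').mpr ⟨hg.2, hf.2⟩⟩

end Groth.Agent.S9766
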