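import Groth.Statements.S9767
import Groth.Agent.H8Props.CMAt

set_option autoImplicit false
universe u
open FlatMor

namespace Groth.Agent.S9767

open AlgebraicGeometry CategoryTheory Limits in
/-- For f : X ⟶ Y, g : Y ⟶ Z and a point x of X such that the fibre of f through x and the fibre of g
through f x are locally Noetherian, suppose the stalk map of f at x is flat and f ≫ g is
Cohen–Macaulay at x; then Cohen–Macaulayness passes to f at x and to g at the image point f x. The
published statement assumes all fibres of f, g and g ∘ f locally Noetherian; this row assumes only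
the fibres of f and g through x and f x. -/
theorem result {X Y Z : Scheme.{u}} (f : X ⟶ Y) (g : Y ⟶ Z) (x : X)
    (hNf : IsLocallyNoetherian (f.fiber (f x))) (hNg : IsLocallyNoetherian (g.fiber (g (f x))))
    (h : MoreMor.IsCMAt (f ≫ g) x) (hfl : (f.stalkMap x).hom.Flat) : MoreMor.IsCMAt f x ∧ MoreMor.IsCMAt g (f x) := by

  rw [H8Props.CMAt.isCMAt_iff] at h ⊢
  rw [H8Props.CMAt.isCMAt_iff]
  have hcomp : ((f ≫ g).stalkMap x).hom = (f.stalkMap x).hom.comp (g.stalkMap (f x)).hom := by
    rw [Scheme.Hom.stalkMap_comp]; rfl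
  rw [hcomp] at h
  have hC := (H8Props.CMAt.fibre_CM_iff (g.stalkMap (f x)).hom (f.stalkMap x).hom hfl
    (H8Props.CMAt.isNoetherianRing_fibre g (f x) hNg) (H8Props.CMAt.isNoetherianRing_of_CM h.2)).mp h.2
  refine ⟨⟨hfl, hC.2⟩, ?_, hC.1⟩
  letI := (g.stalkMap (f x)).hom.toAlgebra
  letI := (f.stalkMap x).hom.toAlgebra
  letI := ((f.stalkMap x).hom.comp (g.stalkMap (f x)).hom).toAlgebra
  haveI : IsScalarTower (Z.presheaf.stalk (g (f x))) (Y.presheaf.stalk (f x))
      (X.presheaf.stalk x) := .of_algebraMap_eq' rfl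
  haveI : Module.Flat (Z.presheaf.stalk (g (f x))) (X.presheaf.stalk x) := h.1
  haveI : Module.Flat (Y.presheaf.stalk (f x)) (X.presheaf.stalk x) := hfl
  haveI : IsLocalHom (algebraMap (Y.presheaf.stalk (f x)) (X.presheaf.stalk x)) :=
    inferInstanceAs (IsLocalHom (f.stalkMap x).hom)
  haveI : Module.FaithfullyFlat (Y.presheaf.stalk (f x)) (X.presheaf.stalk x) :=
    Module.FaithfullyFlat.of_flat_of_isLocalHom
  exact H7Flat.flat_of_faithfullyFlat (M := X.presheaf.stalk x)

end Groth.Agent.S9767
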