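import Groth.Statements.S9778
import Groth.Agent.H8Props.EtaleSplit.Main
import Groth.Agent.H7Weight.Weighting

set_option autoImplicit false
universe u
open FlatMor

namespace Groth.Agent.S9778
open CategoryTheory.Limits Groth.Agent.H7Weight Groth.Agent.H8Props.EtaleSplit
set_option backward.isDefEq.respectTransparency false
set_option linter.style.haveILetI false


open AlgebraicGeometry CategoryTheory Limits in
/-- Let f : X ⟶ S be separated and locally of finite type, s a point of S and x_1, …, x_n pairwise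
distinct points of X over s at which f is quasi-finite (isolated points of the fibre). Then there
are an étale morphism g : U ⟶ S with a point u over s and finitely many pairwise disjoint open and
closed subschemes V_{i,j} of X_U = X ×_S U, each finite over U and containing exactly one point
v_{i,j} over u, with v_{i,j} mapping to x_i and κ(v_{i,j}) purely inseparable over κ(u), such that
every point of X_U over u mapping to some x_i lies in one of the V_{i,j} (so the open and closed
complement W of their union has no point over u mapping to any x_i). -/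
theorem result {X S : Scheme.{u}} (f : X ⟶ S) [LocallyOfFiniteType f] [IsSeparated f] (s : S)
    {ι : Type} [Finite ι] (x : ι → ↑X) (hinj : Function.Injective x) (hs : ∀ i, f (x i) = s) (hx : ∀ i, f.QuasiFiniteAt (x i)) :
    ∃ (U : Scheme.{u}) (g : U ⟶ S) (u : U), Etale g ∧ g u = s ∧
      ∃ (J : ι → Type) (_ : ∀ i, Finite (J i)) (V : ∀ i, J i → (pullback f g).Opens) (v : ∀ i, J i → ↑(pullback f g)),
        (∀ i j, IsClopen ((V i j : Set ↑(pullback f g)))) ∧
        (∀ i j i' j', ((V i j : Set ↑(pullback f g)) ∩ (V i' j')).Nonempty → i = i' ∧ HEq j j') ∧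
        (∀ i j, v i j ∈ V i j ∧ IsFinite ((V i j).ι ≫ pullback.snd f g) ∧ pullback.snd f g (v i j) = u ∧
          (∀ w : ↑(pullback f g), w ∈ V i j → pullback.snd f g w = u → w = v i j) ∧
          (letI := ((pullback.snd f g).residueFieldMap (v i j)).hom.toAlgebra
           IsPurelyInseparable ↑(U.residueField (pullback.snd f g (v i j))) ↑((pullback f g).residueField (v i j))) ∧
          pullback.fst f g (v i j) = x i) ∧
        (∀ (w : ↑(pullback f g)) (i : ι), pullback.snd f g w = u → pullback.fst f g w = x i → ∃ j, w ∈ V i j) := by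
    classical
    obtain ⟨Ω, _, _, η, hη⟩ := exists_geomPt' s
    let x₀ : ι → f.quasiFiniteLocus.toScheme := fun i => ⟨x i, hx i⟩
    have hinj₀ : Function.Injective x₀ := fun a b h => hinj (congrArg Subtype.val h)
    have hx₀ : ∀ i, (f.quasiFiniteLocus.ι ≫ f) (x₀ i) = pt η := fun i => (hs i).trans hη.symm
    haveI : ∀ i, Finite {r : Pts (f.quasiFiniteLocus.ι ≫ f) η // pt r.1 = x₀ i} := fun i =>
      (card_pts_at _ η (x₀ i) (hx₀ i)).1
    obtain ⟨T₀⟩ := exists_splitting f η x₀ hx₀
    obtain ⟨T, hdisj⟩ := T₀.exists_restrict_disjoint hinj₀ hx₀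
    let e : ∀ i, Fin (Nat.card {r : Pts (f.quasiFiniteLocus.ι ≫ f) η // pt r.1 = x₀ i}) ≃ _ :=
      fun i => (Finite.equivFin {r : Pts (f.quasiFiniteLocus.ι ≫ f) η // pt r.1 = x₀ i}).symm
    let φ : ∀ i, Fin (Nat.card {r : Pts (f.quasiFiniteLocus.ι ≫ f) η // pt r.1 = x₀ i}) → PtsAt f η x₀ :=
      fun i j => ⟨i, e i j⟩
    have hφ : ∀ i j i' j', φ i j = φ i' j' → i = i' ∧ HEq j j' := fun i j i' j' h => by
      obtain rfl : i = i' := congrArg Sigma.fst h
      exact ⟨rfl, heq_of_eq ((e i).injective (eq_of_heq (Sigma.mk.inj h).2))⟩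
    have hmem : ∀ p, T.v p ∈ (T.j p).opensRange := fun p => ⟨_, rfl⟩
    have hfin : ∀ p, IsFinite ((T.j p).opensRange.ι ≫ pullback.snd f T.g) := fun p => by
      rw [← MorphismProperty.cancel_left_of_respectsIso @IsFinite (T.j p).isoOpensRange.hom,
        ← Category.assoc, Scheme.Hom.isoOpensRange_hom_ι, T.j_snd]
      infer_instance
    have hex : ∀ (w : ↑(pullback f T.g)) (i : ι), pullback.snd f T.g w = pt T.η' →
        pullback.fst f T.g w = x i → ∃ j, w = T.v (φ i j) := fun w i hu hi => by
      obtain ⟨⟨i', r⟩, rfl, rfl⟩ := T.exists_eq_v w i hu hi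
      exact ⟨(e i').symm r, by simp [φ]⟩
    refine ⟨T.U, T.g, pt T.η', T.etale, by rw [← pt_comp, T.η'_g, hη], _, fun _ => inferInstance,
      fun i j => (T.j (φ i j)).opensRange, fun i j => T.v (φ i j), fun i j => T.isClopen_range_j _,
      fun i j i' j' h => hφ _ _ _ _ (hdisj _ _ h),
      fun i j => ⟨hmem _, hfin _, T.snd_v _,
        fun w hw => T.eq_v_of_mem_range _ w hw, (T.residue_props _).2, T.fst_v _⟩,
      fun w i hu hi => ?_⟩
    obtain ⟨j, rfl⟩ := hex w i hu hi
    exact ⟨j, hmem _⟩

end Groth.Agent.S9778
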