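import Groth.Statements.S9779
import Groth.Agent.H8Props.CurveThroughPoint

set_option autoImplicit false
universe u
open FlatMor

namespace Groth.Agent.S9779

open AlgebraicGeometry CategoryTheory Limits in
/-- Suppose S is locally Noetherian and the morphism f : X ⟶ S is locally of finite type; take x a point
of X closed in its fibre, and U ⊆ X an open subscheme not meeting the fibre through x but with x in
the closure of U. Then there is a closed subscheme Z of X passing through x such that Z ⟶ S is
quasi-finite at x and Z contains a point z of U specializing to x with f z ≠ f x. -/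
theorem result {X S : Scheme.{u}} (f : X ⟶ S) [LocallyOfFiniteType f] [IsLocallyNoetherian S] (x : X)
    (hcl : IsClosed (Subtype.val ⁻¹' {x} : Set ↑(f ⁻¹' {f x}))) (U : X.Opens)
    (hU : ∀ x' ∈ U, f x' ≠ f x) (hxU : x ∈ closure (U : Set ↑X)) :
    ∃ (I : X.IdealSheafData) (z₀ x₀ : ↑I.subscheme), I.subschemeι x₀ = x ∧ (I.subschemeι ≫ f).QuasiFiniteAt x₀ ∧
      I.subschemeι z₀ ∈ U ∧ I.subschemeι z₀ ⤳ x ∧ f (I.subschemeι z₀) ≠ f x := by
  haveI : IsLocallyNoetherian X := LocallyOfFiniteType.isLocallyNoetherian f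
  obtain ⟨z, hzU, hzx, hbetween⟩ :=
    Groth.Agent.H8Props.CurveThroughPoint.exists_immediate_specialization U x hxU (fun h => hU x h rfl)
  let I := Scheme.IdealSheafData.vanishingIdeal (X := X) (TopologicalSpace.Closeds.closure {z})
  have hrange : Set.range I.subschemeι = closure {z} := by
    rw [Scheme.IdealSheafData.range_subschemeι, Scheme.IdealSheafData.coe_support_vanishingIdeal,
      TopologicalSpace.Closeds.coe_closure]
  obtain ⟨z₀, hz₀⟩ : z ∈ Set.range I.subschemeι := by rw [hrange]; exact subset_closure rfl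
  obtain ⟨x₀, hx₀⟩ : x ∈ Set.range I.subschemeι := by rw [hrange]; exact hzx.mem_closure
  refine ⟨I, z₀, x₀, hx₀, ?_, hz₀ ▸ hzU, hz₀ ▸ hzx, hz₀ ▸ hU z hzU⟩
  let g := I.subschemeι ≫ f
  rw [Scheme.Hom.quasiFiniteAt_iff_isOpen_singleton_asFiber]
  haveI : LocallyOfFiniteType (g.fiberToSpecResidueField (g x₀)) :=
    Groth.Agent.H8Props.FieldDim.locallyOfFiniteType_fiberToSpec g (g x₀)
  haveI : IsLocallyNoetherian (g.fiber (g x₀)) :=
    LocallyOfFiniteType.isLocallyNoetherian (g.fiberToSpecResidueField (g x₀))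
  have hgx : g x₀ = f x := by show f (I.subschemeι x₀) = f x; rw [hx₀]
  have hpt : ∀ v : g.fiber (g x₀), f (I.subschemeι (g.fiberι (g x₀) v)) = f x := fun v =>
    ((g.range_fiberι (g x₀)).subset (Set.mem_range_self v)).trans hgx
  have hinj : ∀ v : g.fiber (g x₀), I.subschemeι (g.fiberι (g x₀) v) = x → v = g.asFiber x₀ := fun v hv =>
    (g.fiberι _).isEmbedding.injective (((I.subschemeι.isClosedEmbedding.injective (hv.trans hx₀.symm))).trans
      (g.fiberι_asFiber x₀).symm)
  refine Groth.Agent.H8Props.CurveThroughPoint.isOpen_singleton _ ?_ fun y hy => ?_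
  · have hc : Continuous (fun v : g.fiber (g x₀) =>
        (⟨I.subschemeι (g.fiberι (g x₀) v), hpt v⟩ : ↑(f ⁻¹' {f x}))) :=
      ((I.subschemeι.continuous).comp (g.fiberι _).continuous).subtype_mk _
    convert hcl.preimage hc using 1
    ext v
    simp only [Set.mem_singleton_iff, Set.mem_preimage]
    refine ⟨fun h => ?_, hinj v⟩
    rw [h, g.fiberι_asFiber, hx₀]
  · refine hinj y ?_
    have h1 : I.subschemeι (g.fiberι (g x₀) y) ⤳ x := by
      have := hy.map (I.subschemeι.continuous.comp (g.fiberι _).continuous)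
      exact this.trans (specializes_of_eq ((congrArg I.subschemeι (g.fiberι_asFiber x₀)).trans hx₀))
    have h2 : z ⤳ I.subschemeι (g.fiberι (g x₀) y) :=
      specializes_iff_mem_closure.mpr (hrange.subset (Set.mem_range_self _))
    refine (hbetween _ h2 h1).resolve_left fun h => hU z hzU ?_
    rw [← h]; exact hpt y

end Groth.Agent.S9779
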