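import Groth.Statements.S9785
import Groth.Agent.H29Omega.ConormalLci
import Groth.Agent.S9784

set_option autoImplicit false
universe u
open OmegaSh

namespace Groth.Agent.S9785

open AlgebraicGeometry CategoryTheory in
attribute [local instance] Groth.Agent.H06Mod.stalkAlgebra in
theorem mono_map {Z : Scheme.{u}} {M N : Z.Modules} (φ : M ⟶ N)
    (h : ∀ z, Function.Injective (Groth.Agent.H06Mod.stalkLin φ z)) :
    Mono ((Scheme.Modules.pullback (𝟙 Z)).map φ) := by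
  refine H29Omega.mono_of_injective_stalkLin _ fun z a b hab => ?_
  obtain ⟨v, rfl⟩ := H29Omega.pullStalk_id_surjective _ z a
  obtain ⟨w, rfl⟩ := H29Omega.pullStalk_id_surjective _ z b
  refine congrArg _ (h z ?_)
  refine H29Omega.pullStalk_id_injective N z ?_
  exact ((H06Mod.pullStalk_naturality (𝟙 Z) M z φ v).symm.trans hab).trans
    (H06Mod.pullStalk_naturality (𝟙 Z) M z φ w)



open AlgebraicGeometry CategoryTheory Limits in
/-- Let i : Z ⟶ Y and b : Y ⟶ X be formally unramified, let (i' : Z ⟶ Z', c) be a first order thickening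
over X that is universal for i ≫ b, (j : Y ⟶ Y', d) one universal for b, m : Z' ⟶ Y' the morphism of
thickenings over X compatible with i, (i'' : Z ⟶ Z'', e) a first order thickening over Y that is
universal for i, and n : Z'' ⟶ Z' the morphism of thickenings over X extending the identity of Z.
Let ψ₁ : i^*C_{Y/Y'} ⟶ C_{Z/Z'} and ψ₂ : C_{Z/Z'} ⟶ C_{Z/Z''} be the canonical maps of conormal
sheaves induced by (i, m) and (id, n); these are the conormal sheaves C_{Y/X}, C_{Z/X}, C_{Z/Y} of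
the formally unramified morphisms and the canonical maps between them. Assume moreover that i is
Koszul at every point of Z, i.e. i is lci. Then 0 ⟶ i^*C_{Y/X} ⟶ C_{Z/X} ⟶ C_{Z/Y} ⟶ 0 is a short
exact sequence. -/
theorem result {Z Y X Z' Y' Z'' : Scheme.{u}} (i : Z ⟶ Y) (b : Y ⟶ X)
    [FormallyUnramified i] [FormallyUnramified b]
    (i' : Z ⟶ Z') (c : Z' ⟶ X) (hZ' : OmegaSh.IsUnivThickening (i ≫ b) i' c)
    (j : Y ⟶ Y') (d : Y' ⟶ X) (hY' : OmegaSh.IsUnivThickening b j d)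
    (m : Z' ⟶ Y') (hm₁ : i' ≫ m = i ≫ j) (hm₂ : m ≫ d = c)
    (i'' : Z ⟶ Z'') (e : Z'' ⟶ Y) (hZ'' : OmegaSh.IsUnivThickening i i'' e)
    (n : Z'' ⟶ Z') (hn₁ : i'' ≫ n = i') (hn₂ : n ≫ c = e ≫ b)
    (ψ₁ : (Scheme.Modules.pullback i).obj (Omega.conormal j) ⟶ Omega.conormal i') (hψ₁ : OmegaSh.IsConormalMap i' j m i ψ₁)
    (ψ₂ : (Scheme.Modules.pullback (𝟙 Z)).obj (Omega.conormal i') ⟶ Omega.conormal i'') (hψ₂ : OmegaSh.IsConormalMap i'' i' n (𝟙 Z) ψ₂)
    (hlci : ∀ z : Z, Synt.IsKoszulAt i z) :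
    ∃ w : (Scheme.Modules.pullback (𝟙 Z)).map ψ₁ ≫ ψ₂ = 0, (ShortComplex.mk _ _ w).ShortExact := by
  obtain ⟨w, hex, hepi⟩ := S9784.result i b i' c hZ' j d hY' m hm₁ hm₂ i'' e hZ'' n hn₁ hn₂ ψ₁ hψ₁ ψ₂ hψ₂
  haveI := hZ'.1.1.1
  haveI := hY'.1.1.1
  haveI := hepi
  haveI := mono_map ψ₁ fun z => H29Omega.injective_stalkLin_of_lci hZ' hY' hm₁ hm₂ hψ₁ z (hlci z)
  exact ⟨w, { exact := hex }⟩

end Groth.Agent.S9785
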