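import Groth.Statements.S9790
import Groth.Agent.H8Norm.RelAssDim

set_option autoImplicit false
universe u
open FlatMor

namespace Groth.Agent.S9790

open AlgebraicGeometry CategoryTheory Limits in
/-- Let f : X ⟶ S be locally of finite type, F a quasi-coherent O_X-module of finite type and y a point
of the relative assassin of F over S. Let Y ⊆ X be the closure of y with its reduced induced
(integral) closed subscheme structure. Suppose F is S-flat at every point of Y that is a generic
point of an irreducible component of its fibre over S (e.g. F flat over S everywhere). Then Y ⟶ S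
has constant fibre dimension: there is d ≥ 0 with dim_x(Y_{f x}) = d for every point x of Y, i.e. Y
has relative dimension d over the closure of f y. The published statement also contains a part (1),
that such generic points are again relative associated points of F; this row states only part (2),
the relative-dimension clause. -/
theorem result {X S : Scheme.{u}} (f : X ⟶ S) [LocallyOfFiniteType f] (F : X.Modules) [Coh.IsQCoh F]
    (hF : CohB1.IsFT F) (y : X) (hy : y ∈ MoreMor.relAss f F)
    (hflat : ∀ x : ↑(Scheme.IdealSheafData.vanishingIdeal (TopologicalSpace.Closeds.closure {y})).subscheme,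
      (∃ Z ∈ irreducibleComponents ↥(((Scheme.IdealSheafData.vanishingIdeal (TopologicalSpace.Closeds.closure {y})).subschemeι ≫ f).fiber (f ((Scheme.IdealSheafData.vanishingIdeal (TopologicalSpace.Closeds.closure {y})).subschemeι x))),
        IsGenericPoint (((Scheme.IdealSheafData.vanishingIdeal (TopologicalSpace.Closeds.closure {y})).subschemeι ≫ f).asFiber x) Z) →
      FlatMod.IsFlatOverAt f F ((Scheme.IdealSheafData.vanishingIdeal (TopologicalSpace.Closeds.closure {y})).subschemeι x)) :
    ∃ d : ℕ, ∀ x : ↑(Scheme.IdealSheafData.vanishingIdeal (TopologicalSpace.Closeds.closure {y})).subscheme, FlatMor.fibreDimAt ((Scheme.IdealSheafData.vanishingIdeal (TopologicalSpace.Closeds.closure {y})).subschemeι ≫ f) x = d := by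
  let ι := (Scheme.IdealSheafData.vanishingIdeal (TopologicalSpace.Closeds.closure {y})).subschemeι
  have hr : Set.range ι = closure {y} := by
    show Set.range (Scheme.IdealSheafData.vanishingIdeal (TopologicalSpace.Closeds.closure {y})).subschemeι = _
    rw [Scheme.IdealSheafData.range_subschemeι, Scheme.IdealSheafData.coe_support_vanishingIdeal]
    rfl
  obtain ⟨d, hd, -⟩ := H06Equidim.exists_trdeg_asFiber f y
  refine ⟨d, fun a => ?_⟩
  obtain ⟨ξ, hξa, hfξ, hmax, hcd⟩ := H06EGA14.exists_maximal_generization (ι ≫ f) a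
  have hfib : ∀ ζ : (ι ≫ f).fiber ((ι ≫ f) ξ), ζ ⤳ (ι ≫ f).asFiber ξ → ζ = (ι ≫ f).asFiber ξ := fun ζ hζ => by
    apply ((ι ≫ f).fiberι _).isEmbedding.injective
    rw [(ι ≫ f).fiberι_asFiber ξ]
    refine hmax _ (((ι ≫ f).range_fiberι _).subset (Set.mem_range_self ζ)) ?_
    have := hζ.map ((ι ≫ f).fiberι _).continuous
    rwa [(ι ≫ f).fiberι_asFiber] at this
  have hfl : FlatMod.IsFlatOverAt f F (ι ξ) := by
    refine hflat ξ ⟨closure {(ι ≫ f).asFiber ξ},
      H06Equidim.closure_singleton_mem_irreducibleComponents _ hfib, isGenericPoint_closure⟩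
  have hgen : ∀ z : X, y ⤳ z → f z = f (ι ξ) → z ⤳ ι ξ → z = ι ξ := fun z h1 h2 h3 => by
    obtain ⟨b, rfl⟩ : z ∈ Set.range ι := hr ▸ h1.mem_closure
    exact congrArg ι (hmax b h2 (ι.isEmbedding.isInducing.specializes_iff.1 h3))
  obtain ⟨-, h2⟩ := H8Norm.relAss_and_cdim_eq f F ‹_› hF hy
    (specializes_iff_mem_closure.2 (hr ▸ Set.mem_range_self ξ)) hgen hfl
  show fibreDimAt (ι ≫ f) a = (d : ℕ)
  rw [← hcd, H06EGA14.cdim_asFiber_comp_closedImmersion ι f ξ, h2, hd]

end Groth.Agent.S9790
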