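import Groth.Statements.S9791
import Groth.Agent.H8Norm.SmoothBaseChange

set_option autoImplicit false
universe u
open CategoryTheory CategoryTheory.Limits AlgebraicGeometry
open FlatMor

namespace Groth.Agent.S9791

/-- In the case of integral schemes: let f : X ⟶ Y be a smooth morphism with X and Y integral, and let
X^ν ⟶ X and Y^ν ⟶ Y be the normalizations (in the function fields). Then X^ν is isomorphic over X to
the fibre product X ×_Y Y^ν, and such an isomorphism is unique. (The published statement requires
only that each quasi-compact open subset of Y meet finitely many irreducible components of Y, and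
also derives this for X; this row assumes X and Y integral, the case in which the normalization used
here is defined. The quasi-compactness and quasi-separatedness binders on Spec K(X) → X and Spec
K(Y) → Y always hold and are needed only to form the normalization.) -/
theorem result {X Y : Scheme.{u}} (f : X ⟶ Y) [Smooth f] [IsIntegral X] [IsIntegral Y]
    [QuasiCompact (X.fromSpecStalk (genericPoint X))] [QuasiSeparated (X.fromSpecStalk (genericPoint X))]
    [QuasiCompact (Y.fromSpecStalk (genericPoint Y))] [QuasiSeparated (Y.fromSpecStalk (genericPoint Y))] :
    ∃! e : Curv2.normalization X ≅ pullback f (Curv2.normalizationι Y),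
      e.hom ≫ pullback.fst f (Curv2.normalizationι Y) = Curv2.normalizationι X := by
  obtain ⟨e, he⟩ := H8Norm.exists_iso f
  refine ⟨e, he, fun e' he' => Iso.ext ?_⟩
  have he0 : e.inv ≫ Curv2.normalizationι X = pullback.fst f (Curv2.normalizationι Y) := by
    rw [Iso.inv_comp_eq]; exact he.symm
  have h := H8Norm.endo_eq_id (X := X) (e'.hom ≫ e.inv)
    ((Category.assoc _ _ _).trans ((congrArg (e'.hom ≫ ·) he0).trans he'))
  exact (Iso.comp_inv_eq e).1 h |>.trans (Category.id_comp _)

end Groth.Agent.S9791
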