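import Groth.Statements.S9792
import Groth.Agent.H8Props.Specializations

set_option autoImplicit false
universe u
open CategoryTheory AlgebraicGeometry TopologicalSpace
open Props

namespace Groth.Agent.S9792

/-- In a Noetherian scheme, every infinite set of points contains an infinite subset no two distinct
members of which are related by specialization. -/
theorem result (S : Scheme.{u}) [IsNoetherian S]
    (T : Set S) (hT : T.Infinite) :
    ∃ T' : Set S, T' ⊆ T ∧ T'.Infinite ∧ ∀ a ∈ T', ∀ b ∈ T', a ⤳ b → a = b := by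
  -- a minimal closed subset meeting `T` in an infinite set
  obtain ⟨Z, hZinf, hZmin⟩ := exists_minimal_of_wellFoundedLT
    (fun Z : TopologicalSpace.Closeds S ↦ (T ∩ (Z : Set S)).Infinite)
    ⟨⊤, by simpa using hT⟩
  have hirr : IsPreirreducible (Z : Set S) := by
    rw [isPreirreducible_iff_isClosed_union_isClosed]
    intro a b ha hb hab
    by_contra! hc
    have h1 : (T ∩ ((Z : Set S) ∩ a)).Finite := by
      refine Set.not_infinite.mp fun h ↦ hc.1 ?_
      exact (hZmin (y := Z ⊓ ⟨a, ha⟩) h inf_le_left).trans inf_le_right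
    have h2 : (T ∩ ((Z : Set S) ∩ b)).Finite := by
      refine Set.not_infinite.mp fun h ↦ hc.2 ?_
      exact (hZmin (y := Z ⊓ ⟨b, hb⟩) h inf_le_left).trans inf_le_right
    exact hZinf ((h1.union h2).subset fun x hx ↦ (hab hx.2).elim
      (fun h ↦ Or.inl ⟨hx.1, hx.2, h⟩) fun h ↦ Or.inr ⟨hx.1, hx.2, h⟩)
  have hZne : (Z : Set S).Nonempty := hZinf.nonempty.mono Set.inter_subset_right
  obtain ⟨η, hη⟩ := QuasiSober.sober ⟨hZne, hirr⟩ Z.isClosed
  set A : Set S := (T ∩ (Z : Set S)) \ {η} with hA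
  have hAinf : A.Infinite := hZinf.sdiff (Set.finite_singleton η)
  have hfin : ∀ a ∈ A, (A ∩ closure {a}).Finite := by
    intro a ha
    refine Set.not_infinite.mp fun h ↦ ha.2 ?_
    have hle : (⟨closure {a}, isClosed_closure⟩ : TopologicalSpace.Closeds S) ≤ Z :=
      closure_minimal (Set.singleton_subset_iff.mpr ha.1.2) Z.isClosed
    have hge := hZmin (y := ⟨closure {a}, isClosed_closure⟩)
      (h.mono (Set.inter_subset_inter_left _ (fun x hx ↦ hx.1.1))) hle
    have h1 : η ⤳ a := hη.specializes ha.1.2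
    have h2 : a ⤳ η := specializes_iff_mem_closure.mpr (hge hη.mem)
    exact (h2.antisymm h1).eq
  refine ⟨{a | a ∈ A ∧ ∀ b ∈ A, b ⤳ a → b = a}, fun a ha ↦ ha.1.1.1, fun hf ↦ hAinf ?_,
    fun a ha b hb hab ↦ hb.2 a ha.1 hab⟩
  refine (hf.biUnion fun a ha ↦ hfin a ha.1).subset fun x hx ↦ ?_
  obtain ⟨x₀, hx₀, hmin, hsp⟩ := H8Props.exists_generic_in A x hx
  exact Set.mem_biUnion (show x₀ ∈ {a | a ∈ A ∧ ∀ b ∈ A, b ⤳ a → b = a} from ⟨hx₀, hmin⟩)
    ⟨hx, hsp.mem_closure⟩

end Groth.Agent.S9792
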