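import Groth.Statements.S9794
import Groth.Agent.H8Props.Specializations

set_option autoImplicit false
universe u
open CategoryTheory AlgebraicGeometry TopologicalSpace
open Props

namespace Groth.Agent.S9794

/-- In a Noetherian scheme, an infinite dense set of points contains a countable subset which is dense. -/
theorem result (S : Scheme.{u}) [IsNoetherian S]
    (T : Set S) (hT : T.Infinite) (hd : Dense T) :
    ∃ E : Set S, E ⊆ T ∧ E.Countable ∧ Dense E := by
  let G : Set S := {x | ∃ E : Set S, E ⊆ T ∧ E.Countable ∧ closure E = closure {x}}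
  let M : Set S := {m | m ∈ G ∧ ∀ g ∈ G, g ⤳ m → g = m}
  have hMfin : M.Finite := by
    by_contra hM
    let e := Set.Infinite.natEmbedding M hM
    let B : Set S := Set.range fun n ↦ (e n : S)
    have hBM : B ⊆ M := Set.range_subset_iff.mpr fun n ↦ (e n).2
    have hBinf : B.Infinite :=
      Set.infinite_range_of_injective (Subtype.val_injective.comp e.injective)
    choose! E hET hEc hEcl using fun m (hm : m ∈ B) ↦ (hBM hm).1
    let EB : Set S := ⋃ m ∈ B, E m
    have hEBc : EB.Countable := (Set.countable_range _).biUnion hEc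
    obtain ⟨F, hF, hFE⟩ := TopologicalSpace.NoetherianSpace.exists_finset_irreducible
      (⟨closure EB, isClosed_closure⟩ : TopologicalSpace.Closeds S)
    have hcov : ∀ p ∈ closure EB, ∃ Z ∈ F, p ∈ (Z : Set S) := by
      intro p hp
      have : p ∈ ((F.sup id : TopologicalSpace.Closeds S) : Set S) := hFE ▸ hp
      simpa using this
    have hsub : ∀ m ∈ B, m ∈ closure EB := fun m hm ↦
      closure_mono (Set.subset_biUnion_of_mem hm) (by rw [hEcl m hm]; exact subset_closure rfl)
    obtain ⟨Z₁, hZ₁, hinf₁⟩ : ∃ Z ∈ F, (B ∩ (Z : Set S)).Infinite := by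
      by_contra! hc
      exact hBinf ((F.finite_toSet.biUnion fun Z hZ ↦ hc Z hZ).subset fun m hm ↦ by
        obtain ⟨Z, hZ, hmZ⟩ := hcov m (hsub m hm)
        exact Set.mem_biUnion hZ ⟨hm, hmZ⟩)
    obtain ⟨Z, hle, hZF, hmax⟩ := F.exists_le_maximal hZ₁
    have hinf : (B ∩ (Z : Set S)).Infinite := hinf₁.mono (Set.inter_subset_inter_right _ hle)
    obtain ⟨η, hη⟩ := QuasiSober.sober (hF ⟨Z, hZF⟩) Z.isClosed
    have hηG : η ∈ G := by
      refine ⟨EB ∩ (Z : Set S), fun x hx ↦ ?_, hEBc.mono Set.inter_subset_left, ?_⟩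
      · obtain ⟨m, hm, hxm⟩ := Set.mem_iUnion₂.mp hx.1
        exact hET m hm hxm
      · have hcover : closure EB ⊆ ⋃ Z' ∈ F, closure (EB ∩ (Z' : Set S)) := by
          refine closure_minimal (fun p hp ↦ ?_)
            (F.finite_toSet.isClosed_biUnion fun _ _ ↦ isClosed_closure)
          obtain ⟨Z', hZ', hpZ'⟩ := hcov p (subset_closure hp)
          exact Set.mem_biUnion hZ' (subset_closure ⟨hp, hpZ'⟩)
        have hηcl : η ∈ closure EB := by
          have : η ∈ ((F.sup id : TopologicalSpace.Closeds S) : Set S) :=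
            (Finset.le_sup (f := id) hZF : Z ≤ F.sup id) hη.mem
          rw [← hFE] at this
          exact this
        obtain ⟨Z', hZ', hη'⟩ := Set.mem_iUnion₂.mp (hcover hηcl)
        have hZZ' : Z ≤ Z' := fun p hp ↦ closure_minimal Set.inter_subset_right Z'.isClosed
          (closure_minimal (Set.singleton_subset_iff.mpr hη') isClosed_closure (hη.def.symm ▸ hp))
        rw [le_antisymm (hmax hZ' hZZ') hZZ'] at hη'
        refine subset_antisymm ?_ (closure_minimal (Set.singleton_subset_iff.mpr hη') isClosed_closure)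
        rw [hη.def]
        exact closure_minimal Set.inter_subset_right Z.isClosed
    exact hinf ((Set.finite_singleton η).subset fun m hm ↦
      ((hBM hm.1).2 η hηG (hη.specializes hm.2)).symm)
  choose! E hET hEc hEcl using fun m (hm : m ∈ M) ↦ hm.1
  refine ⟨⋃ m ∈ M, E m, Set.iUnion₂_subset hET, hMfin.countable.biUnion hEc,
    dense_iff_closure_eq.mpr (Set.eq_univ_of_univ_subset ?_)⟩
  rw [← hd.closure_eq]
  refine closure_minimal (fun t ht ↦ ?_) isClosed_closure
  obtain ⟨m, hm, hmin, hsp⟩ := H8Props.exists_generic_in G t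
    ⟨{t}, Set.singleton_subset_iff.mpr ht, Set.countable_singleton t, rfl⟩
  have hmM : m ∈ M := ⟨hm, hmin⟩
  refine closure_mono (Set.subset_biUnion_of_mem hmM) ?_
  rw [hEcl m hmM]
  exact hsp.mem_closure

end Groth.Agent.S9794
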