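import Groth.Statements.S9796
import Groth.Agent.H8Props.DimZero

set_option autoImplicit false
universe u
open CategoryTheory AlgebraicGeometry TopologicalSpace
open Props

namespace Groth.Agent.S9796

/-- (2) implies (3) with the complement on connected components: a separated scheme of dimension at most
zero is Hausdorff and totally disconnected. -/
theorem result (X : Scheme.{u}) [X.IsSeparated]
    (h : topologicalKrullDim X ≤ 0) : T2Space X ∧ TotallyDisconnectedSpace X := by
  have := H8Props.t2Space_of_dim_le_zero X h
  refine ⟨inferInstance, ?_⟩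
  have : TotallySeparatedSpace X := by
    refine totallySeparatedSpace_iff_exists_isClopen.mpr fun x y hxy ↦ ?_
    obtain ⟨B, ⟨hBo, hBc⟩, hxB, hBy⟩ := (PrespectralSpace.isTopologicalBasis (X := X)
      ).exists_subset_of_mem_open (show x ∈ ({y} : Set X)ᶜ from hxy) isOpen_compl_singleton
    exact ⟨B, ⟨hBc.isClosed, hBo⟩, hxB, fun hy ↦ hBy hy rfl⟩
  infer_instance

end Groth.Agent.S9796
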