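import Groth.Statements.S9798
import Mathlib.AlgebraicGeometry.Artinian

set_option autoImplicit false
universe u
open CategoryTheory AlgebraicGeometry TopologicalSpace
open Props

namespace Groth.Agent.S9798

/-- A point of a locally Noetherian scheme has local dimension zero exactly when it is isolated. -/
theorem result (X : Scheme.{u}) [IsLocallyNoetherian X] (x : X) :
    FlatMor.localDim X x = 0 ↔ IsOpen ({x} : Set X) := by
  constructor
  · intro h
    obtain ⟨U, hU⟩ : ∃ U : {U : TopologicalSpace.Opens X // x ∈ U},
        topologicalKrullDim (U.1 : Set X) ≤ 0 := by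
      by_contra! hc
      have h1 : (1 : WithBot ℕ∞) ≤ FlatMor.localDim X x := le_iInf fun U ↦ by
        have hU := hc U
        generalize topologicalKrullDim ((U.1 : Set X) : Type u) = d at hU ⊢
        induction d with
        | bot => simp at hU
        | coe a =>
          norm_cast at hU ⊢
          exact Order.one_le_iff_pos.mpr hU
      rw [h] at h1
      exact absurd h1 (by simp)
    obtain ⟨V, hV, hxV, hVU⟩ : ∃ V : X.Opens, IsAffineOpen V ∧ x ∈ V ∧ V ≤ U.1 :=
      TopologicalSpace.Opens.isBasis_iff_nbhd.mp X.isBasis_affineOpens U.2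
    have hd : topologicalKrullDim V.toScheme ≤ 0 :=
      ((Topology.IsEmbedding.inclusion (s := (V : Set X)) (t := (U.1 : Set X)) hVU).isInducing.topologicalKrullDim_le).trans hU
    have hne : IsNoetherianRing Γ(X, V) := IsLocallyNoetherian.component_noetherian ⟨V, hV⟩
    have : IsAffine V.toScheme := hV
    have : CompactSpace V.toScheme := isCompact_iff_compactSpace.mp hV.isCompact
    have : IsNoetherian V.toScheme := ⟨⟩
    have := IsLocallyArtinian.of_topologicalKrullDim_le_zero hd
    have : DiscreteTopology V.toScheme := inferInstance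
    have := V.2.isOpenMap_subtype_val _ (isOpen_discrete ({⟨x, hxV⟩} : Set V.toScheme))
    exact (Set.image_singleton (f := Subtype.val) (a := (⟨x, hxV⟩ : (V : Set X)))) ▸ this
  · intro h
    refine le_antisymm (iInf_le_of_le ⟨⟨{x}, h⟩, rfl⟩ ?_) (le_iInf fun U ↦ ?_)
    · have : DiscreteTopology (({x} : Set X) : Type u) := inferInstance
      exact topologicalKrullDim_zero_of_discreteTopology _
    · have : Nonempty (U.1 : Set X) := ⟨⟨x, U.2⟩⟩
      have : Nonempty (TopologicalSpace.IrreducibleCloseds (U.1 : Set X)) :=
        ⟨⟨closure {⟨x, U.2⟩}, isIrreducible_singleton.closure, isClosed_closure⟩⟩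
      exact Order.krullDim_nonneg

end Groth.Agent.S9798
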