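import Groth.Statements.S9799
import Groth.Agent.H8Props.Generic

set_option autoImplicit false
universe u
open CategoryTheory AlgebraicGeometry TopologicalSpace
open Props

namespace Groth.Agent.S9799
open AlgebraicGeometry

/-- Let X be a normal scheme (all local rings are integrally closed domains) such that every
quasi-compact open subset has finitely many irreducible components. Then the irreducible components
of X are open and pairwise disjoint; hence X is the disjoint union of its irreducible components,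
each an open subscheme which is normal and integral. -/
theorem result (X : Scheme.{u})
    (hfin : ∀ U : X.Opens, IsCompact (U : Set X) → (irreducibleComponents ↥U).Finite)
    (hN : Pi1.IsNormalScheme X) :
    (∀ Z ∈ irreducibleComponents X, IsOpen Z) ∧
      ∀ Z ∈ irreducibleComponents X, ∀ Z' ∈ irreducibleComponents X, Z ≠ Z' → Disjoint Z Z' := by
  have huniq : ∀ x : X, ∀ η₁ ∈ genericPoints X, ∀ η₂ ∈ genericPoints X,
      η₁ ⤳ x → η₂ ⤳ x → η₁ = η₂ := by
    intro x η₁ h₁ η₂ h₂ s₁ s₂
    have := (hN x).1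
    let p₀ : PrimeSpectrum (X.presheaf.stalk x) := ⟨⊥, Ideal.isPrime_bot⟩
    have key : ∀ η ∈ genericPoints X, η ⤳ x → η = X.fromSpecStalk x p₀ := by
      intro η hη hs
      obtain ⟨p, rfl⟩ : η ∈ Set.range (X.fromSpecStalk x) := by
        rw [Scheme.range_fromSpecStalk]; exact hs
      refine ((H8Props.mem_genericPoints_iff.mp hη) _ ?_).symm
      exact ((PrimeSpectrum.le_iff_specializes p₀ p).mp (show ⊥ ≤ p.asIdeal from bot_le)).map
        (X.fromSpecStalk x).continuous
    rw [key η₁ h₁ s₁, key η₂ h₂ s₂]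
  have hgen : ∀ Z ∈ irreducibleComponents X, ∃ ζ ∈ genericPoints X, closure {ζ} = Z := fun Z hZ ↦ by
    obtain ⟨ζ, hζ⟩ := QuasiSober.sober hZ.1 (isClosed_of_mem_irreducibleComponents Z hZ)
    exact ⟨ζ, show closure {ζ} ∈ irreducibleComponents X by rwa [hζ.def], hζ.def⟩
  refine ⟨fun Z hZ ↦ isOpen_iff_forall_mem_open.mpr fun x hx ↦ ?_, fun Z hZ Z' hZ' hne ↦ ?_⟩
  · obtain ⟨ζ, hζ, rfl⟩ := hgen Z hZ
    obtain ⟨U, hU, hxU, -⟩ : ∃ U : X.Opens, IsAffineOpen U ∧ x ∈ U ∧ U ≤ ⊤ :=
      TopologicalSpace.Opens.isBasis_iff_nbhd.mp X.isBasis_affineOpens (U := ⊤) trivial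
    have hfinU : (irreducibleComponents ((U : Set X) : Type u)).Finite := hfin U hU.isCompact
    let G : Set X := {γ | γ ∈ genericPoints X ∧ γ ∈ U}
    have hG : G.Finite := by
      have hsub : G ⊆ Subtype.val '' (genericPoints ((U : Set X) : Type u)) := by
        rintro γ ⟨hγ, hγV⟩
        refine ⟨⟨γ, hγV⟩, ⟨isIrreducible_singleton.closure, fun W hW hle ↦ ?_⟩, rfl⟩
        have h1 : closure {γ} ⊆ closure (Subtype.val '' W) := by
          refine closure_mono (Set.singleton_subset_iff.mpr ?_)
          exact ⟨⟨γ, hγV⟩, hle (subset_closure rfl), rfl⟩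
        have h2 := hγ.2 (hW.image _ continuous_subtype_val.continuousOn).closure h1
        intro w hw
        rw [Topology.IsEmbedding.subtypeVal.closure_eq_preimage_closure_image, Set.image_singleton]
        exact h2 (subset_closure ⟨w, hw, rfl⟩)
      exact ((genericPoints.finite hfinU).image _).subset hsub
    refine ⟨(U : Set X) \ ⋃ γ ∈ G \ {ζ}, closure {γ}, ?_,
      U.2.sdiff (hG.sdiff.isClosed_biUnion fun _ _ ↦ isClosed_closure), hxU, ?_⟩
    · rintro y ⟨hyU, hy⟩
      obtain ⟨η, hη, hs⟩ := H8Props.exists_genericPoints_specializes y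
      by_cases he : η = ζ
      · exact he ▸ hs.mem_closure
      · exact absurd (Set.mem_biUnion (show η ∈ G \ {ζ} from ⟨⟨hη, hs.mem_open U.2 hyU⟩, he⟩)
          hs.mem_closure) hy
    · simp only [Set.mem_iUnion, not_exists]
      rintro γ ⟨hγ, hne⟩ hxγ
      exact hne (huniq x γ hγ.1 ζ hζ (specializes_iff_mem_closure.mpr hxγ)
        (specializes_iff_mem_closure.mpr hx))
  · rw [Set.disjoint_left]
    intro x hx hx'
    obtain ⟨ζ, hζ, rfl⟩ := hgen Z hZ
    obtain ⟨ζ', hζ', rfl⟩ := hgen Z' hZ'
    exact hne (by rw [huniq x ζ hζ ζ' hζ' (specializes_iff_mem_closure.mpr hx)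
      (specializes_iff_mem_closure.mpr hx')])

end Groth.Agent.S9799
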