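import Groth.Statements.S9801
import Groth.Agent.H8Props.NormalLowDim
import Mathlib.AlgebraicGeometry.Stalk
import Mathlib.AlgebraicGeometry.Morphisms.Preimmersion
import Mathlib.Topology.KrullDimension
import Mathlib.RingTheory.Spectrum.Prime.Topology

set_option autoImplicit false
universe u
open CategoryTheory AlgebraicGeometry TopologicalSpace
open Props

namespace Groth.Agent.S9801

theorem ringKrullDim_stalk_le (X : Scheme.{u}) (x : X) :
    ringKrullDim (X.presheaf.stalk x) ≤ topologicalKrullDim X := by
  rw [← PrimeSpectrum.topologicalKrullDim_eq_ringKrullDim]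
  exact (X.fromSpecStalk x).isEmbedding.isInducing.topologicalKrullDim_le


/-- A locally Noetherian normal scheme of dimension at most two is Cohen-Macaulay, that is, all of its
local rings are Cohen-Macaulay local rings. -/
theorem result (X : Scheme.{u})
    [IsLocallyNoetherian X] (hN : Pi1.IsNormalScheme X) (hd : topologicalKrullDim X ≤ 2) (x : X) :
    LocCoh.IsCohenMacaulayLocalRing (X.presheaf.stalk x) := by

  haveI := (hN x).1
  haveI := (hN x).2
  exact H8Props.NormalLowDim.isCohenMacaulayLocalRing_of_dim_le_two _
    ((ringKrullDim_stalk_le X x).trans hd)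

end Groth.Agent.S9801
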