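import Groth.Statements.S9803
import Groth.Agent.H8Props.QAffTorsor.Main
-- import your own Groth.Agent.* helpers here

set_option autoImplicit false
universe u
open CategoryTheory AlgebraicGeometry TopologicalSpace
open Props

namespace Groth.Agent.S9803

/-- A quasi-affine scheme X admits a morphism from an affine scheme T which, after base change to any
affine scheme over X, becomes isomorphic over that affine scheme to an affine space of fixed
dimension n. -/
theorem result (X : Scheme.{u}) [X.IsQuasiAffine] :
    ∃ (n : ℕ) (T : Scheme.{u}) (_ : IsAffine T) (p : T ⟶ X),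
      ∀ (X' : Scheme.{u}) [IsAffine X'] (g : X' ⟶ X),
        ∃ e : Limits.pullback g p ≅ 𝔸(ULift.{u} (Fin n); X'),
          e.hom ≫ (𝔸(ULift.{u} (Fin n); X') ↘ X') = Limits.pullback.fst g p := by
  exact Groth.Agent.H8Props.QAffTorsor.exists_torsor

end Groth.Agent.S9803
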