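import Groth.Statements.S9804
import Mathlib

set_option autoImplicit false
universe u
open CategoryTheory AlgebraicGeometry TopologicalSpace
open Props

namespace Groth.Agent.S9804

/-- For quasi-affine schemes U and V and an open immersion j : U → V, the scheme U is the fibre product
of the composite U → V → Spec Γ(V, O_V) and the morphism Spec Γ(U, O_U) → Spec Γ(V, O_V) induced by
restriction of sections along j: the square whose sides are the identity of U, the canonical
morphism U → Spec Γ(U, O_U), that composite and that induced morphism is cartesian. -/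
theorem result {U V : Scheme.{u}} (j : U ⟶ V)
    [IsOpenImmersion j] [U.IsQuasiAffine] [V.IsQuasiAffine] :
    IsPullback (𝟙 U) U.toSpecΓ (j ≫ V.toSpecΓ) (Spec.map j.appTop) := by
  have hjU : CompactSpace U := inferInstance
  refine IsOpenImmersion.isPullback (𝟙 U) U.toSpecΓ (j ≫ V.toSpecΓ) (Spec.map j.appTop)
    (by rw [Category.id_comp, Scheme.toSpecΓ_naturality]) ?_
  refine le_antisymm ?_ ?_
  · intro p hp
    obtain ⟨_, ⟨s, rfl⟩, hps, hsO⟩ :=
      (PrimeSpectrum.isTopologicalBasis_basic_opens (R := Γ(V, ⊤))).exists_subset_of_mem_open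
        (show Spec.map j.appTop p ∈ ((j ≫ V.toSpecΓ).opensRange : Set _) from hp)
        (j ≫ V.toSpecΓ).opensRange.2
    set t : Γ(U, ⊤) := j.appTop s with ht
    have hpre : (j ≫ V.toSpecΓ) ⁻¹ᵁ (PrimeSpectrum.basicOpen s) = U.basicOpen t := by
      show j ⁻¹ᵁ (V.toSpecΓ ⁻¹ᵁ (PrimeSpectrum.basicOpen s)) = _
      rw [Scheme.toSpecΓ_preimage_basicOpen, Scheme.preimage_basicOpen_top]
    have haff : IsAffineOpen (U.basicOpen t) := by
      rw [← hpre, ← Scheme.Hom.isAffineOpen_iff_of_isOpenImmersion (j ≫ V.toSpecΓ)]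
      have hO : PrimeSpectrum.basicOpen s ≤ (j ≫ V.toSpecΓ).opensRange := hsO
      erw [Scheme.Hom.image_preimage_eq_opensRange_inf (j ≫ V.toSpecΓ)]
      refine (congrArg IsAffineOpen ?_).mpr (IsAffineOpen.Spec_basicOpen s)
      exact inf_eq_right.mpr hO
    have := isLocalization_basicOpen_of_qcqs (X := U) isCompact_univ isQuasiSeparated_univ t
    have hrange : p ∈ Set.range (PrimeSpectrum.comap (algebraMap Γ(U, ⊤) Γ(U, U.basicOpen t))) := by
      rw [PrimeSpectrum.localization_away_comap_range _ t]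
      exact hps
    obtain ⟨q, rfl⟩ := hrange
    obtain ⟨z, rfl⟩ := haff.isoSpec.hom.surjective q
    refine ⟨(U.basicOpen t).ι z, ?_⟩
    have e : (U.basicOpen t).ι ≫ U.toSpecΓ =
        haff.isoSpec.hom ≫ Spec.map (U.presheaf.map (homOfLE le_top).op) := by
      rw [IsAffineOpen.isoSpec_hom, Scheme.Opens.toSpecΓ_SpecMap_presheaf_map_top]
    rw [← Scheme.Hom.comp_apply, e]
    rfl
  · rintro _ ⟨x, rfl⟩
    exact ⟨x, by rw [← Scheme.Hom.comp_apply, ← Scheme.toSpecΓ_naturality]⟩

end Groth.Agent.S9804
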