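import Groth.Statements.S9806
import Groth.Agent.H8Props.FinLocFree.Global

set_option autoImplicit false
universe u
open CategoryTheory AlgebraicGeometry TopologicalSpace
open Props

namespace Groth.Agent.S9806

/-- A quasi-coherent module on a scheme is of finite presentation with all stalks free over the local
rings if and only if it is finite locally free. -/
theorem result (X : Scheme.{u}) (M : X.Modules) (hM : Coh.IsQCoh M) :
    (CohB1.IsFP M ∧ ∀ x : X, Module.Free (X.presheaf.stalk x) (M.presheaf.stalk x)) ↔
      FlatMod.IsFinLocFree M := by
  constructor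
  · rintro ⟨hfp, hfree⟩
    exact Groth.Agent.H8Props.FinLocFree.isFinLocFree_of_flat_of_isFP M hM
      (fun x => haveI := hfree x; (inferInstanceAs (Module.Flat _ _))) hfp
  · intro h
    exact ⟨Groth.Agent.H8Props.FinLocFree.isFP_of_isFinLocFree M h,
      fun x => Groth.Agent.H8Props.FinLocFree.free_stalk M h x⟩

end Groth.Agent.S9806
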