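import Groth.Statements.S9807
import Groth.Agent.H8Props.StalkLocal
import Groth.Agent.H05EGA4.Regular

set_option autoImplicit false
universe u
open CategoryTheory AlgebraicGeometry TopologicalSpace
open Props

namespace Groth.Agent.S9807

/-- A locally Noetherian scheme is regular (all local rings regular) as soon as its local rings at
closed points are regular, and conversely. -/
theorem result (X : Scheme.{u}) [IsLocallyNoetherian X] :
    (∀ x : X, IsRegularLocalRing (X.presheaf.stalk x)) ↔
      ∀ x : X, IsClosed ({x} : Set X) → IsRegularLocalRing (X.presheaf.stalk x) := by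

  refine ⟨fun h x _ => h x, fun h x => ?_⟩
  obtain ⟨z, hxz, hz⟩ := H8Props.StalkLocal.exists_closed_specializes X x
  obtain ⟨p, hp, ⟨e⟩⟩ := H8Props.StalkLocal.exists_prime_ringEquiv_of_specializes hxz
  haveI := hp
  haveI := h z hz
  haveI := H05EGA4.isRegularLocalRing_localization (X.presheaf.stalk z) p
  exact IsRegularLocalRing.of_ringEquiv e

end Groth.Agent.S9807
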