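import Groth.Statements.S9813
import Groth.Agent.H17.AmpleSep
-- import your own Groth.Agent.* helpers here

set_option autoImplicit false
universe u
open CategoryTheory CategoryTheory.Limits AlgebraicGeometry TopologicalSpace
open Props

namespace Groth.Agent.S9813

/-- Let L be an invertible module on a scheme X such that every point lies in an affine open of the form
X_s for some global section s of a positive tensor power of L. Then X is separated. In particular a
scheme carrying an ample invertible module is separated. -/
theorem result (X : Scheme.{u}) (L : X.Modules) (hL : PicF.IsInvertible L)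
    (h : ∀ x : X, ∃ (n : ℕ) (s : Coh.structureModule X ⟶ CohB1.tensorPow L (n + 1)),
      x ∈ CohB1.genLocus _ s ∧ IsAffineOpen (CohB1.genLocus _ s)) :
    X.IsSeparated := by
  refine Groth.Agent.H17.AmpleSep.isSeparated_of_cover_gen hL fun x => ?_
  obtain ⟨n, s, hx, hs⟩ := h x
  rw [Groth.Agent.H11Ample.genLocus_eq_gen] at hx hs
  exact ⟨n + 1, _, n.succ_pos, hx, hs⟩

end Groth.Agent.S9813
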