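import Groth.Statements.S9816
import Groth.Agent.H8Props.AmpleBatch

set_option autoImplicit false
universe u
open CategoryTheory CategoryTheory.Limits AlgebraicGeometry TopologicalSpace
open Props

namespace Groth.Agent.S9816

/-- Over a quasi-separated base S, if X and Y carry ample invertible modules L and N, then the tensor
product of their pullbacks along the two projections is an ample invertible module on the fibre
product of X and Y over S. -/
theorem result {X Y S : Scheme.{u}} [QuasiSeparatedSpace S]
    (f : X ⟶ S) (g : Y ⟶ S) (L : X.Modules) (N : Y.Modules) (hL : CohB1.IsAmple L) (hN : CohB1.IsAmple N) :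
    CohB1.IsAmple (CohB1.tensorMod ((Scheme.Modules.pullback (pullback.fst f g)).obj L)
      ((Scheme.Modules.pullback (pullback.snd f g)).obj N)) := by
    exact Groth.Agent.H8Props.Ample.isAmple_prod f g hL hN

end Groth.Agent.S9816
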