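import Groth.Statements.S9819
import Groth.Agent.H8Props.QCohExtend

set_option autoImplicit false
universe u
open CategoryTheory CategoryTheory.Limits AlgebraicGeometry TopologicalSpace Opposite
open Props

namespace Groth.Agent.S9819

/-- On a quasi-compact quasi-separated scheme, every local section of a quasi-coherent module over an
affine open lies in some quasi-coherent submodule of finite type; hence the module is the directed
union of its quasi-coherent submodules of finite type. -/
theorem result {X : Scheme.{u}} [CompactSpace X]
    [QuasiSeparatedSpace X] (F : X.Modules) [Coh.IsQCoh F] (U : X.affineOpens)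
    (s : F.val.obj (op (U : X.Opens))) :
    ∃ (G : X.Modules) (i : G ⟶ F), Mono i ∧ Coh.IsQCoh G ∧ CohB1.IsFT G ∧
      ∃ g : G.val.obj (op (U : X.Opens)), (i.val.app (op (U : X.Opens))).hom g = s := by
    exact Groth.Agent.H8Props.QCohExtend.exists_subsheaf_mem F U s

end Groth.Agent.S9819
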