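import Groth.Statements.S9820
import Groth.Agent.H8Props.FTColimit.Basic

set_option autoImplicit false
set_option linter.style.haveILetI false
universe u
open CategoryTheory CategoryTheory.Limits AlgebraicGeometry TopologicalSpace Opposite
open Props

namespace Groth.Agent.S9820

/-- On a quasi-compact quasi-separated scheme, a quasi-coherent module of finite type which is of finite
presentation over a quasi-compact open U is the quotient of a module of finite presentation by a
surjection which is an isomorphism over U. -/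
theorem result {X : Scheme.{u}} [CompactSpace X]
    [QuasiSeparatedSpace X] (F : X.Modules) [Coh.IsQCoh F] (hF : CohB1.IsFT F) (U : X.Opens)
    (hU : IsCompact (U : Set X)) (hFU : CohB1.IsFP (F.restrict U.ι)) :
    ∃ (G : X.Modules) (φ : G ⟶ F), CohB1.IsFP G ∧ Epi φ ∧
      IsIso ((Scheme.Modules.restrictFunctor U.ι).map φ) := by
  classical
  obtain ⟨P, q, hP, hq⟩ := Groth.Agent.H8Props.FTColimit.exists_fp_epi F inferInstance hF
  haveI : P.IsQuasicoherent := Groth.Agent.H29Fitt.isQCoh_of_isFP P hP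
  haveI : F.IsQuasicoherent := (inferInstance : Coh.IsQCoh F)
  have hqk : Coh.IsQCoh (kernel q) := Groth.Agent.H10Coh.isQuasicoherent_kernel q
  obtain ⟨t, ht⟩ := hU.elim_finite_subcover
    (fun A : {A : X.affineOpens // A.1 ≤ U} => (A.1.1 : Set X)) (fun A => A.1.1.isOpen) (fun x hx => by
      obtain ⟨A, hA, hxA, hle⟩ := exists_isAffineOpen_mem_and_subset (X := X) (x := x) (U := U) hx
      exact Set.mem_iUnion.2 ⟨⟨⟨A, hA⟩, hle⟩, hxA⟩)
  have hker : ∀ V ∈ t.image (fun A => A.1),
      (LinearMap.ker (Groth.Agent.H17.FPExt.appLin' q V.1)).FG := by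
    intro V hV
    obtain ⟨A, -, rfl⟩ := Finset.mem_image.1 hV
    have himg : U.ι ''ᵁ (U.ι ⁻¹ᵁ A.1.1) = A.1.1 := by
      rw [Scheme.Hom.image_preimage_eq_opensRange_inf, Scheme.Opens.opensRange_ι]
      exact inf_eq_right.2 A.2
    have hA' : IsAffineOpen (U.ι ⁻¹ᵁ A.1.1) := by
      rw [← Scheme.Hom.isAffineOpen_iff_of_isOpenImmersion U.ι, himg]
      exact A.1.2
    haveI := Groth.Agent.H8Props.FinLocFree.finitePresentation_sections _ hFU hA'
    haveI : Module.FinitePresentation Γ(X, A.1.1) Γ(F, A.1.1) := by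
      refine Groth.Agent.H17.FPExt.FPAt.of_eq ?_ himg
      exact Groth.Agent.H29Fitt.finitePresentation_of_semilinear (U.ι.appIso _).inv.hom
        (ConcreteCategory.bijective_of_isIso (U.ι.appIso (U.ι ⁻¹ᵁ A.1.1)).inv)
        (F.restrictAppIso U.ι _).hom.hom
        (fun a m => rfl) (ConcreteCategory.bijective_of_isIso (F.restrictAppIso U.ι _).hom)
    haveI := Groth.Agent.H10Coh.finite_sections P (Groth.Agent.H29Fitt.isFT_of_isFP P hP) A.1.2
    exact Module.FinitePresentation.fg_ker (Groth.Agent.H17.FPExt.appLin' q A.1.1)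
      (Groth.Agent.H10Coh.surjective_app_of_epi q A.1.2)
  obtain ⟨s, hs⟩ := Groth.Agent.H8Props.FTColimit.exists_isoAt q hqk hP inferInstance _ hker
  refine ⟨_, (Groth.Agent.H8Props.FTColimit.quotι q hqk).app s,
    Groth.Agent.H8Props.FTColimit.isFP_quot q hqk hP s,
    epi_of_epi_fac (Groth.Agent.H8Props.FTColimit.π_quotι q hqk s),
    Groth.Agent.H17.FPExt.isIso_restrict_of_isoAt _ U.ι fun z => ?_⟩
  obtain ⟨A, hA, hzA⟩ := Set.mem_iUnion₂.1 (ht z.2)
  exact hs A.1 (Finset.mem_image_of_mem _ hA) _ hzA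

end Groth.Agent.S9820
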