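import Groth.Statements.S9822
import Mathlib.AlgebraicGeometry.Limits

set_option autoImplicit false
universe u
open CategoryTheory CategoryTheory.Limits AlgebraicGeometry TopologicalSpace Opposite
open Props

namespace Groth.Agent.S9822

/-- A scheme is irreducible if and only if it is nonempty and every nonempty affine open subset is
irreducible. -/
theorem result (X : Scheme.{u}) :
    IrreducibleSpace X ↔ Nonempty X ∧ ∀ U : X.Opens, IsAffineOpen U → (U : Set X).Nonempty → IsIrreducible (U : Set X) := by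
  constructor
  · intro hX
    exact ⟨inferInstance, fun U _ hne ↦ ⟨hne,
      (IrreducibleSpace.isIrreducible_univ X).isPreirreducible.open_subset U.2 (Set.subset_univ _)⟩⟩
  · rintro ⟨hne, h⟩
    refine { toPreirreducibleSpace := ⟨?_⟩, toNonempty := hne }
    intro A B hA hB ⟨x, _, hxA⟩ ⟨y, _, hyB⟩
    obtain ⟨U, hU, hxU, -⟩ : ∃ U : X.Opens, IsAffineOpen U ∧ x ∈ U ∧ U ≤ ⊤ :=
      TopologicalSpace.Opens.isBasis_iff_nbhd.mp X.isBasis_affineOpens (U := ⊤) trivial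
    obtain ⟨V, hV, hyV, -⟩ : ∃ U : X.Opens, IsAffineOpen U ∧ y ∈ U ∧ U ≤ ⊤ :=
      TopologicalSpace.Opens.isBasis_iff_nbhd.mp X.isBasis_affineOpens (U := ⊤) trivial
    obtain ⟨w, hwU, hwV⟩ : ((U : Set X) ∩ V).Nonempty := by
      by_contra hd
      have hdis : Disjoint (U : Set X) V :=
        Set.disjoint_iff_inter_eq_empty.mpr (Set.not_nonempty_iff_eq_empty.mp hd)
      have := h _ (IsAffineOpen.sup_of_disjoint hU hV (TopologicalSpace.Opens.coe_disjoint.mp hdis))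
        ⟨x, Or.inl hxU⟩
      obtain ⟨z, -, hzU, hzV⟩ := this.2 U V U.2 V.2 ⟨x, Or.inl hxU, hxU⟩ ⟨y, Or.inr hyV, hyV⟩
      exact hd ⟨z, hzU, hzV⟩
    obtain ⟨z, hzU, hzA, hzV⟩ := (h U hU ⟨x, hxU⟩).2 A V hA V.2 ⟨x, hxU, hxA⟩ ⟨w, hwU, hwV⟩
    obtain ⟨q, hqV, hqA, hqB⟩ := (h V hV ⟨y, hyV⟩).2 A B hA hB ⟨z, hzV, hzA⟩ ⟨y, hyV, hyB⟩
    exact ⟨q, trivial, hqA, hqB⟩

end Groth.Agent.S9822
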