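import Groth.Statements.S9823
import Groth.Agent.H7Lim.IdealExtension

set_option autoImplicit false
universe u
open CategoryTheory CategoryTheory.Limits AlgebraicGeometry TopologicalSpace Opposite
open Props

namespace Groth.Agent.S9823
open CategoryTheory.Limits TopologicalSpace
set_option backward.isDefEq.respectTransparency false


/-- In a quasi-compact quasi-separated scheme, an open subset is quasi-compact exactly when its
complement is the support of some quasi-coherent ideal sheaf of finite type. -/
theorem result (X : Scheme.{u}) [CompactSpace X] [QuasiSeparatedSpace X]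
    (U : X.Opens) :
    IsCompact (U : Set X) ↔
      ∃ I : X.IdealSheafData, (∀ V : X.affineOpens, (I.ideal V).FG) ∧ (I.support : Set X) = (U : Set X)ᶜ := by
    classical
    constructor
    · intro hU
      let I : X.IdealSheafData := Scheme.IdealSheafData.vanishingIdeal ⟨(U : Set X)ᶜ, U.2.isClosed_compl⟩
      have hI : (I.support : Set X) = (U : Set X)ᶜ :=
        rfl
      let S := {J : X.IdealSheafData // J ≤ I ∧ ∀ A : X.affineOpens, (J.ideal A).FG}
      have hsup : (⨆ J : S, J.1) = I := H7Lim.iSup_finiteType_eq I
      have hcov : (U : Set X) ⊆ ⋃ J : S, ((J.1.support : Set X))ᶜ := by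
        intro x hx
        by_contra hn
        simp only [Set.mem_iUnion, Set.mem_compl_iff, not_exists, not_not] at hn
        have hxI : x ∈ I.support := by
          rw [← hsup, Scheme.IdealSheafData.support_iSup]
          exact TopologicalSpace.Closeds.mem_iInf.2 hn
        exact (hI.le hxI) hx
      obtain ⟨t, ht⟩ := hU.elim_finite_subcover _ (fun J : S => J.1.support.2.isOpen_compl) hcov
      have hbot : ∀ A : X.affineOpens, ((⊥ : X.IdealSheafData).ideal A).FG := fun A => by
        rw [Scheme.IdealSheafData.ideal_bot]; exact Submodule.fg_bot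
      refine ⟨t.sup fun J : S => J.1, Finset.sup_induction
        (p := fun K : X.IdealSheafData => ∀ A : X.affineOpens, (K.ideal A).FG) hbot
        (fun K hK L hL A => (congrFun Scheme.IdealSheafData.ideal_sup A) ▸ Submodule.FG.sup (hK A) (hL A))
        (fun J _ => J.2.2), ?_⟩
      refine Set.Subset.antisymm ?_ ?_
      · intro x hx hxU
        obtain ⟨J, hJ, hxJ⟩ := Set.mem_iUnion₂.1 (ht hxU)
        exact hxJ (Scheme.IdealSheafData.support_antitone (Finset.le_sup (f := fun J : S => J.1) hJ) hx)
      · rw [← hI]
        exact Scheme.IdealSheafData.support_antitone (Finset.sup_le fun J _ => J.2.1)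
    · rintro ⟨I, hfg, hI⟩
      obtain ⟨s, hs, hseq⟩ := isCompact_iff_finite_and_eq_biUnion_affineOpens.1
        (show IsCompact ((⊤ : X.Opens) : Set X) from isCompact_univ)
      choose G hG using hfg
      have hU : (U : Set X) = ⋃ A ∈ s, ⋃ g ∈ G A, (X.basicOpen g : Set X) := by
        ext x
        constructor
        · intro hx
          obtain ⟨A, hA, hxA⟩ : ∃ A ∈ s, x ∈ A.1 := by
            have : x ∈ (⊤ : X.Opens) := trivial
            rw [hseq] at this
            simpa [TopologicalSpace.Opens.mem_iSup] using this
          have hn : x ∉ I.support := fun h => (hI.le h) hx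
          rw [Scheme.IdealSheafData.mem_support_iff_of_mem hxA, ← hG A, Scheme.zeroLocus_span,
            Scheme.mem_zeroLocus_iff] at hn
          push Not at hn
          obtain ⟨g, hg, hxg⟩ := hn
          exact Set.mem_iUnion₂.2 ⟨A, hA, Set.mem_iUnion₂.2 ⟨g, hg, hxg⟩⟩
        · intro hx
          obtain ⟨A, hA, hx'⟩ := Set.mem_iUnion₂.1 hx
          obtain ⟨g, hg, hxg⟩ := Set.mem_iUnion₂.1 hx'
          by_contra hxU
          have h : x ∈ I.support := hI.ge hxU
          rw [Scheme.IdealSheafData.mem_support_iff_of_mem (X.basicOpen_le g hxg), ← hG A,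
            Scheme.zeroLocus_span, Scheme.mem_zeroLocus_iff] at h
          exact h g hg hxg
      rw [hU]
      exact hs.isCompact_biUnion fun A _ => (G A).finite_toSet.isCompact_biUnion fun g _ =>
        (A.2.basicOpen g).isCompact

end Groth.Agent.S9823
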