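import Groth.Statements.S9826
import Groth.Agent.H8Props.FinLocFree.Global

set_option autoImplicit false
universe u
open CategoryTheory CategoryTheory.Limits AlgebraicGeometry TopologicalSpace Opposite
open Props

namespace Groth.Agent.S9826

/-- The sheaf associated to a module over a ring is of finite type on the spectrum if and only if the
module is finitely generated. -/
theorem result (R : CommRingCat.{u}) (M : ModuleCat.{u} R) :
    CohB1.IsFT (tilde M) ↔ Module.Finite R M := by
  rw [← Groth.Agent.H8Props.FinLocFree.finite_top_iff M]
  refine ⟨fun h => ?_, fun h => ?_⟩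
  · haveI : (tilde M).IsQuasicoherent := inferInstance
    exact Groth.Agent.H10Coh.finite_sections (tilde M) h (isAffineOpen_top (Spec R))
  · exact (@Groth.Agent.H10Coh.isFT_isFP_of_affineCover _ (tilde M) inferInstance PUnit (fun _ => ⊤)
      (by simp [IsOpenCover]) (fun _ => isAffineOpen_top (Spec R)) fun _ => h).1

end Groth.Agent.S9826
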