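import Groth.Statements.S9827
import Groth.Agent.H8Props.FinLocFree.Global

set_option autoImplicit false
universe u
open CategoryTheory CategoryTheory.Limits AlgebraicGeometry TopologicalSpace Opposite
open Props

namespace Groth.Agent.S9827

/-- The sheaf associated to a module over a ring is of finite presentation on the spectrum if and only
if the module is finitely presented. -/
theorem result (R : CommRingCat.{u}) (M : ModuleCat.{u} R) :
    CohB1.IsFP (tilde M) ↔ Module.FinitePresentation R M := by
  rw [← Groth.Agent.H8Props.FinLocFree.finitePresentation_top_iff M]
  exact ⟨fun h => Groth.Agent.H8Props.FinLocFree.finitePresentation_sections (tilde M) h (isAffineOpen_top (Spec R)),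
    fun h => Groth.Agent.H8Props.FinLocFree.isFP_of_affineCover (tilde M) inferInstance (fun _ : PUnit => ⊤)
      (by simp [IsOpenCover]) (fun _ => isAffineOpen_top (Spec R)) fun _ => h⟩

end Groth.Agent.S9827
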