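import Groth.Statements.S9832
import Groth.Agent.H8Props.PuncturedJacobson

set_option autoImplicit false
universe u
open Props

namespace Groth.Agent.S9832

/-- For a Noetherian ring R and an ideal I inside the Jacobson radical of R, the complement of V(I) in
Spec R is a Jacobson topological space. -/
theorem result (R : Type u) [CommRing R] [IsNoetherianRing R]
    (I : Ideal R) (hI : I ≤ (⊥ : Ideal R).jacobson) :
    JacobsonSpace ↥((PrimeSpectrum.zeroLocus (I : Set R))ᶜ) := by
  exact Groth.Agent.H8Props.PuncturedJacobson.jacobsonSpace_compl R I hI

end Groth.Agent.S9832
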