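import Groth.Statements.S9836
import Groth.Agent.S3669
import Groth.Agent.H7Lim.IdealDescent
import Groth.Agent.H11Tilde.QCohCrit
import Groth.Agent.H17.FPExt.Step

set_option autoImplicit false
set_option linter.style.haveILetI false
universe u
open CategoryTheory CategoryTheory.Limits AlgebraicGeometry
open Props

namespace Groth.Agent.S9836

/-- For a closed immersion i : Z → X with ideal sheaf of finite type and a quasi-coherent O_X-module F,
the subsheaf of sections of F annihilated by the ideal, namely i_* Hom(O_Z, F) for the right adjoint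
Hom(O_Z, -) of i_*, is a quasi-coherent O_X-module. -/
theorem result {Z X : Scheme.{u}} (i : Z ⟶ X)
    [IsClosedImmersion i] [LocallyOfFinitePresentation i] [Dual3.HasHomO i] (F : X.Modules) [Coh.IsQCoh F] :
    Coh.IsQCoh ((Scheme.Modules.pushforward i).obj ((Dual3.homO i).obj F)) := by
  classical
  let M := (Scheme.Modules.pushforward i).obj ((Dual3.homO i).obj F)
  let ε : M ⟶ F := (Dual3.homOAdj i).counit.app F
  haveI : Mono ε := Groth.Agent.H25HomO.mono_counit i F
  have hinjε : ∀ W : X.Opens, Function.Injective (ε.app W) := fun W =>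
    Groth.Agent.H10Coh.injective_app_of_mono' ε W
  have hrange : ∀ (W : X.affineOpens) (s : Γ(F, W.1)), s ∈ Set.range (ε.app W.1) ↔
      ∀ a ∈ i.ker.ideal W, a • s = 0 := fun W s => by
    refine (Set.ext_iff.1 (Groth.Agent.S3669.result Z X i F W).2 s).trans ?_
    exact (Submodule.mem_torsionBySet_iff _ _).trans ⟨fun h a ha => h ⟨a, ha⟩, fun h a => h a.1 a.2⟩
  have htor : ∀ (V : X.affineOpens) (r : Γ(X, V.1)) (s : Γ(F, V.1)),
      F.presheaf.map (homOfLE (X.basicOpen_le r)).op s = 0 → ∃ n : ℕ, r ^ n • s = 0 := fun V r s hs => by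
    letI := Module.compHom Γ(F, X.basicOpen r) (algebraMap Γ(X, V.1) Γ(X, X.basicOpen r))
    haveI : IsScalarTower Γ(X, V.1) Γ(X, X.basicOpen r) Γ(F, X.basicOpen r) := .of_algebraMap_smul fun _ _ => rfl
    haveI := Groth.Agent.H29Fitt.isLocalizedModule_resLin F inferInstance V.2 r
    obtain ⟨⟨_, n, rfl⟩, hn⟩ := (IsLocalizedModule.eq_zero_iff (Submonoid.powers r)
      (Groth.Agent.H29Fitt.resLin F r)).1 hs
    exact ⟨n, hn⟩
  refine Groth.Agent.H11Tilde.isQuasicoherent_of_basicOpen_localization M (fun V : X.affineOpens => V.1)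
    (eq_top_iff.2 fun x _ => by
      obtain ⟨U, hU, hxU, -⟩ := exists_isAffineOpen_mem_and_subset (X := X) (x := x) (U := ⊤) trivial
      exact TopologicalSpace.Opens.mem_iSup.2 ⟨⟨U, hU⟩, hxU⟩) (fun V => V.2) (fun V r s hs => ?_) (fun V r s' => ?_)
  · have h : F.presheaf.map (homOfLE (X.basicOpen_le r)).op (ε.app V.1 s) = 0 := by
      refine (ConcreteCategory.congr_hom (ε.mapPresheaf.naturality (homOfLE (X.basicOpen_le r)).op) s).symm.trans ?_
      exact (congrArg (ε.app (X.basicOpen r)) hs).trans (map_zero _)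
    obtain ⟨n, hn⟩ := htor V r _ h
    exact ⟨n, hinjε V.1 ((Scheme.Modules.Hom.app_smul _ _ _).trans (hn.trans (map_zero _).symm))⟩
  · obtain ⟨n, s₀, hs₀⟩ := H29Blow.exists_pow_smul_eq_res F inferInstance V.2 r (ε.app (X.basicOpen r) s')
    let W : X.affineOpens := ⟨X.basicOpen r, V.2.basicOpen r⟩
    have hk : ∀ a ∈ i.ker.ideal W, a • ε.app (X.basicOpen r) s' = 0 := (hrange W _).1 ⟨s', rfl⟩
    obtain ⟨G, hG⟩ := Groth.Agent.H7Lim.ker_fg_of_locallyOfFinitePresentation i V
    have hG' : ∀ a ∈ G, ∃ m : ℕ, r ^ m • (a • s₀) = 0 := fun a ha => by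
      refine htor V r _ ?_
      rw [Scheme.Modules.map_smul, hs₀, smul_comm, hk _ ?_, smul_zero]
      exact i.ker.ideal_le_comap_ideal (U := W) (V := V) (X.basicOpen_le r)
        (show a ∈ i.ker.ideal V from hG ▸ Ideal.subset_span ha)
    choose! m hm using hG'
    let N := G.sup m
    have hkill : ∀ a ∈ i.ker.ideal V, a • (r ^ N • s₀) = 0 := fun a ha => by
      have hle : i.ker.ideal V ≤ LinearMap.ker (LinearMap.toSpanSingleton Γ(X, V.1) Γ(F, V.1) (r ^ N • s₀)) := by
        rw [← hG, Ideal.span_le]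
        intro b hb
        show b • (r ^ N • s₀) = 0
        have e : N = (N - m b) + m b := (Nat.sub_add_cancel (Finset.le_sup (f := m) hb)).symm
        rw [smul_comm, e, pow_add, mul_smul, hm b hb, smul_zero]
      exact hle ha
    obtain ⟨t, ht⟩ := (hrange V _).2 hkill
    refine ⟨N + n, t, hinjε _ ?_⟩
    refine (ConcreteCategory.congr_hom (ε.mapPresheaf.naturality (homOfLE (X.basicOpen_le r)).op) t).trans ?_
    show F.presheaf.map (homOfLE (X.basicOpen_le r)).op (ε.app V.1 t) = _
    rw [ht, Scheme.Modules.map_smul, hs₀, Scheme.Modules.Hom.app_smul, smul_smul, ← map_mul, ← pow_add]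

end Groth.Agent.S9836
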