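import Groth.Statements.S9838
import Groth.Agent.H10Coh.FinType2
import Groth.Agent.H10Coh.BaseChange

set_option autoImplicit false
open CategoryTheory CategoryTheory.Limits AlgebraicGeometry Opposite
universe u
open Desc

namespace Groth.Agent.S9838

/-- Let f : X ⟶ Y be a finite morphism of schemes and F a quasi-coherent O_X-module. The pushforward
f_*F is of finite type as an O_Y-module exactly when F itself is of finite type as an O_X-module. -/
theorem result {X Y : Scheme.{u}} (f : X ⟶ Y) [IsFinite f]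
    (F : X.Modules) [F.IsQuasicoherent] :
    SheafOfModules.IsFiniteType (R := X.ringCatSheaf) F ↔
      SheafOfModules.IsFiniteType (R := Y.ringCatSheaf) ((Scheme.Modules.pushforward f).obj F) := by
  haveI := Groth.Agent.H10Coh.isQuasicoherent_pushforward_of_isAffineHom f F
  constructor
  · intro hF
    refine (Groth.Agent.H10Coh.isFT_isFP_of_affineCover _
      (fun U : Y.affineOpens => U.1) (iSup_affineOpens_eq_top Y) (fun U => U.2) fun U => ?_).1
    have hfin := IsFinite.finite_app (f := f) U.1 U.2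
    letI := (f.app U.1).hom.toAlgebra
    haveI : Module.Finite Γ(Y, U.1) Γ(X, f ⁻¹ᵁ U.1) := hfin
    haveI : Module.Finite Γ(X, f ⁻¹ᵁ U.1) Γ(F, f ⁻¹ᵁ U.1) :=
      Groth.Agent.H10Coh.finite_sections F hF (U.2.preimage f)
    letI : Module Γ(Y, U.1) Γ(F, f ⁻¹ᵁ U.1) := Module.compHom _ (f.app U.1).hom
    haveI : IsScalarTower Γ(Y, U.1) Γ(X, f ⁻¹ᵁ U.1) Γ(F, f ⁻¹ᵁ U.1) :=
      IsScalarTower.of_algebraMap_smul fun _ _ => rfl
    exact (Module.Finite.trans Γ(X, f ⁻¹ᵁ U.1) _ : Module.Finite Γ(Y, U.1) Γ(F, f ⁻¹ᵁ U.1))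
  · intro hF
    refine (Groth.Agent.H10Coh.isFT_isFP_of_affineCover _
      (fun U : Y.affineOpens => f ⁻¹ᵁ U.1) ?_ (fun U => U.2.preimage f) fun U => ?_).1
    · exact (TopologicalSpace.IsOpenCover.comap (iSup_affineOpens_eq_top Y) f.base.hom)
    haveI h : Module.Finite Γ(Y, U.1) Γ((Scheme.Modules.pushforward f).obj F, U.1) :=
      Groth.Agent.H10Coh.finite_sections _ hF U.2
    exact Groth.Agent.H10Coh.finite_of_semilinear (M := Γ((Scheme.Modules.pushforward f).obj F, U.1))
      (N := Γ(F, f ⁻¹ᵁ U.1)) (f.app U.1).hom (AddMonoidHom.id _) (fun _ _ => rfl) fun n => ⟨n, rfl⟩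

end Groth.Agent.S9838
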