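import Groth.Statements.S9839
import Groth.Agent.H13Desc.Fpqc

set_option autoImplicit false
open CategoryTheory CategoryTheory.Limits AlgebraicGeometry Opposite
universe u
open Desc

namespace Groth.Agent.S9839

/-- Let f i : T i ⟶ T be an fpqc covering family of a scheme T (a family in the fpqc precoverage) and W
i ⊆ T i open subsets such that for all i, j the inverse images of W i and W j under the two
projections of T i ×_T T j coincide. Then there is a unique open subset W ⊆ T with (f i)⁻¹(W) = W i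
for every i. -/
theorem result {ι : Type u} {T : Scheme.{u}} {Ti : ι → Scheme.{u}}
    (f : ∀ i, Ti i ⟶ T) (hf : Presieve.ofArrows Ti f ∈ Scheme.fpqcPrecoverage T)
    (W : ∀ i, (Ti i).Opens)
    (hW : ∀ i j, (pullback.fst (f i) (f j)) ⁻¹ᵁ (W i) = (pullback.snd (f i) (f j)) ⁻¹ᵁ (W j)) :
    ∃! V : T.Opens, ∀ i, (f i) ⁻¹ᵁ V = W i := by
  have key : ∀ i, f i ⁻¹' (⋃ j, f j '' (W j : Set (Ti j))) = W i := by
    intro i
    ext x
    simp only [Set.mem_preimage, Set.mem_iUnion, Set.mem_image]
    constructor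
    · rintro ⟨j, y, hy, hxy⟩
      obtain ⟨z, hz1, hz2⟩ := Scheme.Pullback.exists_preimage_pullback (f := f i) (g := f j) x y hxy.symm
      have hz : z ∈ (pullback.snd (f i) (f j)) ⁻¹ᵁ (W j) := by simpa [hz2] using hy
      rw [← hW i j] at hz
      simpa [hz1] using hz
    · exact fun hx => ⟨i, x, hx, rfl⟩
  refine ⟨⟨⋃ j, f j '' (W j : Set (Ti j)), Groth.Agent.H13Desc.isOpen_of_fpqc hf _ fun i => by
    rw [key i]; exact (W i).2⟩, fun i => TopologicalSpace.Opens.ext (key i), fun V hV => ?_⟩
  apply TopologicalSpace.Opens.ext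
  ext x
  simp only [Set.mem_iUnion, Set.mem_image, TopologicalSpace.Opens.coe_mk]
  constructor
  · intro hx
    obtain ⟨i, y, rfl⟩ := Groth.Agent.H13Desc.fpqc_covers hf x
    exact ⟨i, y, (hV i).le hx, rfl⟩
  · rintro ⟨i, y, hy, rfl⟩
    exact (hV i).ge hy

end Groth.Agent.S9839
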