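import Groth.Statements.S9842
import Groth.Agent.H13Desc.Fpqc

set_option autoImplicit false
open CategoryTheory CategoryTheory.Limits AlgebraicGeometry Opposite
universe u
open Desc

namespace Groth.Agent.S9842

/-- Let E/k be a field extension, Y a scheme over k and f : X ⟶ Y a morphism. Writing Y_E = Y ×_k Spec
E, the morphism f is dominant if and only if its base change X ×_Y Y_E ⟶ Y_E is dominant. -/
theorem result {k E : Type u} [Field k] [Field E] [Algebra k E]
    {X Y : Scheme.{u}} (f : X ⟶ Y) (q : Y ⟶ Spec (.of k)) :
    IsDominant f ↔
      IsDominant (pullback.snd f (pullback.fst q (Spec.map (CommRingCat.ofHom (algebraMap k E))))) := by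
  set a := Spec.map (CommRingCat.ofHom (algebraMap k E)) with ha
  have : Surjective a := by
    refine ⟨fun x => ?_⟩
    let y : Spec (CommRingCat.of E) := ⟨⊥, Ideal.isPrime_bot⟩
    exact ⟨y, Subsingleton.elim _ _⟩
  have : UniversallyOpen a := inferInstance
  set g := pullback.fst q a
  constructor
  · intro hf
    refine ⟨?_⟩
    rw [DenseRange, Scheme.Pullback.range_snd]
    exact hf.denseRange.preimage g.isOpenMap
  · intro h
    have hd := h.denseRange
    rw [DenseRange, Scheme.Pullback.range_snd] at hd
    refine ⟨fun y => ?_⟩
    obtain ⟨u, rfl⟩ := g.surjective y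
    exact closure_mono (Set.image_preimage_subset _ _)
      (image_closure_subset_closure_image g.continuous ⟨u, hd u, rfl⟩)

end Groth.Agent.S9842
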