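import Groth.Statements.S9843
import Groth.Agent.H13Desc.Fpqc

set_option autoImplicit false
open CategoryTheory CategoryTheory.Limits AlgebraicGeometry Opposite
universe u
open Desc

namespace Groth.Agent.S9843

/-- Being dominant is fppf local on the base: for every fppf covering family Y i ⟶ Y (flat, locally of
finite presentation, jointly surjective), a morphism X ⟶ Y is dominant if and only if all its base
changes X ×_Y Y i ⟶ Y i are. -/
theorem result :
    MorphismProperty.IsLocalAtTarget (@IsDominant : MorphismProperty Scheme.{u}) Scheme.fppfPrecoverage := by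
  have : MorphismProperty.RespectsIso (@IsDominant : MorphismProperty Scheme.{u}) :=
    MorphismProperty.respectsIso_of_isStableUnderComposition fun X Y f (hf : IsIso f) =>
      (inferInstance : IsDominant f)
  refine .mk_of_iff fun X Y f R hR => ⟨fun hf U g _ hg => ?_, fun h => ?_⟩
  · have hfl : Flat g := (hR.2 hg).1
    have hfp : LocallyOfFinitePresentation g := (hR.2 hg).2
    refine ⟨?_⟩
    rw [DenseRange, Scheme.Pullback.range_snd]
    exact hf.denseRange.preimage g.isOpenMap
  · refine ⟨fun y => ?_⟩
    obtain ⟨U, g, hg, u, rfl⟩ := (Presieve.mem_comap_jointlySurjectivePrecoverage_iff Scheme.forget).mp hR.1 y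
    have hd : DenseRange (pullback.snd f g) := (h g hg).denseRange
    rw [DenseRange, Scheme.Pullback.range_snd] at hd
    exact closure_mono (Set.image_preimage_subset _ _)
      (image_closure_subset_closure_image g.continuous ⟨u, hd u, rfl⟩)

end Groth.Agent.S9843
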