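import Groth.Statements.S9844
import Groth.Agent.H13Flat.Scheme

set_option autoImplicit false
open CategoryTheory CategoryTheory.Limits AlgebraicGeometry Opposite
universe u
open Desc

namespace Groth.Agent.S9844

/-- Being locally of finite type is fppf local on the source: for every fppf covering family g i : X i ⟶
X, a morphism f : X ⟶ Y is locally of finite type if and only if every composite g i ≫ f is. -/
theorem result :
    MorphismProperty.IsLocalAtSource (@LocallyOfFiniteType : MorphismProperty Scheme.{u}) Scheme.fppfPrecoverage := by
  refine .mk_of_iff fun {X Y f R} hR => ⟨fun hf U g hg => ?_, fun h =>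
    Groth.Agent.H13Flat.locallyOfFiniteType_of_fppf_covering f fun x => ?_⟩
  · have hfp : LocallyOfFinitePresentation g := (hR.2 hg).2
    exact (inferInstance : LocallyOfFiniteType (g ≫ f))
  · obtain ⟨U, g, hg, u, hu⟩ :=
      (Presieve.mem_comap_jointlySurjectivePrecoverage_iff Scheme.forget).mp hR.1 x
    exact ⟨U, g, (hR.2 hg).1, (hR.2 hg).2, ⟨u, hu⟩, h hg⟩

end Groth.Agent.S9844
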