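import Groth.Statements.S9845
import Groth.Agent.H13Desc.Fpqc

set_option autoImplicit false
open CategoryTheory CategoryTheory.Limits AlgebraicGeometry Opposite
universe u
open Desc

namespace Groth.Agent.S9845

/-- Being an open morphism (open underlying map) is fppf local on the source: for every fppf covering
family g i : X i ⟶ X, a morphism f : X ⟶ Y has open underlying map if and only if every composite g
i ≫ f does. -/
theorem result :
    MorphismProperty.IsLocalAtSource (topologically (fun f => IsOpenMap f) : MorphismProperty Scheme.{u})
      Scheme.fppfPrecoverage := by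
  have : (topologically (fun f => IsOpenMap f) : MorphismProperty Scheme.{u}).RespectsIso :=
    topologically_respectsIso _ (fun f => f.isOpenMap) (fun _ _ hf hg => hg.comp hf)
  refine .mk_of_iff fun {X Y f R} hR => ⟨fun hf U g hg => ?_, fun h V hV => ?_⟩
  · have hfl : Flat g := (hR.2 hg).1
    have hfp : LocallyOfFinitePresentation g := (hR.2 hg).2
    exact IsOpenMap.comp (f := g) (g := f) hf g.isOpenMap
  · rw [isOpen_iff_forall_mem_open]
    rintro _ ⟨x, hx, rfl⟩
    obtain ⟨U, g, hg, u, rfl⟩ := (Presieve.mem_comap_jointlySurjectivePrecoverage_iff Scheme.forget).mp hR.1 x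
    exact ⟨_, Set.image_subset_iff.mpr fun v hv => ⟨g v, hv, rfl⟩,
      h hg _ (hV.preimage g.continuous), u, hx, rfl⟩

end Groth.Agent.S9845
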