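import Groth.Statements.S9846
import Groth.Agent.H13Desc.Fpqc

set_option autoImplicit false
open CategoryTheory CategoryTheory.Limits AlgebraicGeometry Opposite
universe u
open Desc

namespace Groth.Agent.S9846

/-- Being universally open is fppf local on the source: for every fppf covering family g i : X i ⟶ X, a
morphism f : X ⟶ Y is universally open if and only if every composite g i ≫ f is. -/
theorem result :
    MorphismProperty.IsLocalAtSource (@UniversallyOpen : MorphismProperty Scheme.{u}) Scheme.fppfPrecoverage := by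
  refine .mk_of_iff fun {X Y f R} hR => ⟨fun hf U g hg => ?_, fun h => ⟨?_⟩⟩
  · have hfl : Flat g := (hR.2 hg).1
    have hfp : LocallyOfFinitePresentation g := (hR.2 hg).2
    exact (inferInstance : UniversallyOpen (g ≫ f))
  · intro X' Y' i₁ i₂ f' hsq V hV
    rw [isOpen_iff_forall_mem_open]
    rintro _ ⟨x, hx, rfl⟩
    obtain ⟨U, g, hg, u, hu⟩ := (Presieve.mem_comap_jointlySurjectivePrecoverage_iff Scheme.forget).mp hR.1 (i₁ x)
    obtain ⟨z, hz, -⟩ := Scheme.Pullback.exists_preimage_pullback (f := i₁) (g := g) x u hu.symm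
    have ho := (h hg).universally_isOpenMap _ _ _ ((IsPullback.of_hasPullback i₁ g).paste_horiz hsq)
    exact ⟨_, Set.image_subset_iff.mpr fun v hv => ⟨pullback.fst i₁ g v, hv, rfl⟩,
      ho _ (hV.preimage (pullback.fst i₁ g).continuous), z, (show pullback.fst i₁ g z ∈ V by rw [hz]; exact hx), by simp [hz]⟩

end Groth.Agent.S9846
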