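import Groth.Statements.S9847
import Groth.Agent.H12AlgSp.SourceDescent

set_option autoImplicit false
open CategoryTheory CategoryTheory.Limits AlgebraicGeometry Opposite
universe u
open Desc

namespace Groth.Agent.S9847

/-- Being etale is etale local on the source: for every etale covering family g i : X i ⟶ X (etale,
jointly surjective), a morphism f : X ⟶ Y is etale if and only if every composite g i ≫ f is. -/
theorem result :
    MorphismProperty.IsLocalAtSource (@Etale : MorphismProperty Scheme.{u}) Scheme.etalePrecoverage := by
  refine .mk_of_iff fun {X Y} f R hR => ⟨fun hf U g hg => ?_, fun h => ?_⟩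
  · have : Etale g := hR.2 hg
    exact MorphismProperty.comp_mem _ g f this hf
  · refine Groth.Agent.H12AlgSp.EtaleSource.of_etale_covering @Etale
      Groth.Agent.H12AlgSp.EtaleSource.descends_etale f fun x => ?_
    obtain ⟨U, g, hg, hx⟩ := (Presieve.mem_comap_jointlySurjectivePrecoverage_iff Scheme.forget).1 hR.1 x
    exact ⟨U, g, hR.2 hg, hx, h hg⟩

end Groth.Agent.S9847
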