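import Groth.Statements.S9853
import Groth.Agent.H13Desc.DescFamApps

set_option autoImplicit false
open CategoryTheory CategoryTheory.Limits AlgebraicGeometry Opposite
universe u
open Desc

namespace Groth.Agent.S9853

/-- Let g : X ⟶ X' be a morphism of schemes over S, with structure morphisms a : X ⟶ S and a' : X' ⟶ S,
and assume that the single morphism a is an fpqc covering of S (for instance surjective, flat and
quasi-compact). Then the pullback functor along g, from descent data for schemes relative to X' ⟶ S
to descent data relative to X ⟶ S, is full and faithful. (Descent data relative to a single morphism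
are written as descent data relative to the corresponding one-member family.) -/
theorem result {X X' S : Scheme.{u}} (a : X ⟶ S) (a' : X' ⟶ S) (g : X ⟶ X')
    (h : g ≫ a' = a) (ha : Presieve.singleton a ∈ Scheme.fpqcPrecoverage S) :
    (Desc.pullDDFam (f := fun _ : PUnit.{u + 1} => a') (f' := fun _ : PUnit.{u + 1} => a) (α := fun j => j)
        (p := 𝟙 S) (p' := fun _ => g) (fun _ => (h).trans (Category.comp_id a).symm)).Full ∧
    (Desc.pullDDFam (f := fun _ : PUnit.{u + 1} => a') (f' := fun _ : PUnit.{u + 1} => a) (α := fun j => j)
        (p := 𝟙 S) (p' := fun _ => g) (fun _ => (h).trans (Category.comp_id a).symm)).Faithful := by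
  have hw : ∀ _j : PUnit.{u + 1}, g ≫ a' = a := fun _ => h
  have ha' : Presieve.ofArrows (fun _ : PUnit.{u + 1} => X) (fun _ => a) ∈ Scheme.fpqcPrecoverage S := by
    rwa [Presieve.ofArrows_pUnit]
  have hL := Groth.Agent.H13Desc.hasFpqcLifts_of_fpqc (f := fun _ : PUnit.{u + 1} => a') (α := fun j => j)
    (p' := fun _ => g) (f' := fun _ => a) hw ha'
  exact ⟨Groth.Agent.H13Desc.pullDDFam_full _ hL, Groth.Agent.H13Desc.pullDDFam_faithful _ hL⟩

end Groth.Agent.S9853
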