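import Groth.Statements.S9860

set_option autoImplicit false
open CategoryTheory CategoryTheory.Limits AlgebraicGeometry Opposite
universe u
open Desc

namespace Groth.Agent.S9860

/-- Consider morphisms of schemes f i : X i ⟶ X indexed by i. Suppose that, whenever Y is an affine
scheme and g : Y ⟶ X is a morphism, the sieve on Y obtained by pulling back along g (generated by
the base changes X i ×_X Y ⟶ Y) is effective epimorphic. Then the pulled-back sieve along every
morphism Y ⟶ X of schemes is effective epimorphic; in other words, within schemes the family forms a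
universal effective epimorphism. -/
theorem result {ι : Type u} {X : Scheme.{u}} {Xi : ι → Scheme.{u}} (f : ∀ i, Xi i ⟶ X)
    (h : ∀ (Y : Scheme.{u}) (g : Y ⟶ X), IsAffine Y → ((Sieve.ofArrows Xi f).pullback g).EffectiveEpimorphic)
    {Y : Scheme.{u}} (g : Y ⟶ X) : ((Sieve.ofArrows Xi f).pullback g).EffectiveEpimorphic := by
  set S := Sieve.ofArrows Xi f with hS
  have heff : ∀ (V : Scheme.{u}) (q : V ⟶ X), IsAffine V → ∀ W,
      Presieve.IsSheafFor (yoneda.obj W) ((S.pullback q : Sieve V) : Presieve V) := fun V q hV W =>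
    (Sieve.EffectiveEpimorphic.iff_forall_isSheafFor_yoneda _).1 (h V q hV) W
  have sep : ∀ (V W : Scheme.{u}) (q : V ⟶ X) (φ ψ : V ⟶ W),
      (∀ (T : Scheme.{u}) (k : T ⟶ V), S.pullback q k → k ≫ φ = k ≫ ψ) → φ = ψ := by
    intro V W q φ ψ hk
    refine V.affineCover.hom_ext _ _ fun j => ?_
    refine (heff _ (V.affineCover.f j ≫ q) inferInstance W).isSeparatedFor.ext fun T k hkS => ?_
    show k ≫ V.affineCover.f j ≫ φ = k ≫ V.affineCover.f j ≫ ψ
    rw [← Category.assoc, ← Category.assoc]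
    refine hk T _ ?_
    show S _
    rw [Category.assoc]
    exact hkS
  refine (Sieve.EffectiveEpimorphic.iff_forall_isSheafFor_yoneda _).2 fun W x hx => ?_
  let 𝒰 := Y.affineCover
  have hloc : ∀ j, ∃ t : 𝒰.X j ⟶ W, ∀ (T : Scheme.{u}) (k : T ⟶ 𝒰.X j)
      (hk : S.pullback (𝒰.f j ≫ g) k), k ≫ t = x (k ≫ 𝒰.f j) (by
        show S _
        rw [Category.assoc]
        exact hk) := by
    intro j
    let x' : Presieve.FamilyOfElements (yoneda.obj W)
        ((S.pullback (𝒰.f j ≫ g) : Sieve (𝒰.X j)) : Presieve (𝒰.X j)) := fun T k hk =>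
      x (k ≫ 𝒰.f j) (by show S _; rw [Category.assoc]; exact hk)
    have hx' : x'.Compatible := fun T₁ T₂ T a₁ a₂ k₁ k₂ h₁ h₂ e => by
      refine hx a₁ a₂ _ _ ?_
      rw [← Category.assoc, e, Category.assoc]
    obtain ⟨t, ht, -⟩ := heff _ (𝒰.f j ≫ g) (inferInstanceAs (IsAffine (Y.affineCover.X j))) W x' hx'
    exact ⟨t, fun T k hk => ht k hk⟩
  choose t ht using hloc
  have hov : ∀ i j, pullback.fst (𝒰.f i) (𝒰.f j) ≫ t i = pullback.snd _ _ ≫ t j := by
    intro i j
    refine sep _ W (pullback.fst (𝒰.f i) (𝒰.f j) ≫ 𝒰.f i ≫ g) _ _ fun T k hk => ?_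
    have h1 : S.pullback (𝒰.f i ≫ g) (k ≫ pullback.fst (𝒰.f i) (𝒰.f j)) := by
      show S _
      rw [Category.assoc]
      exact hk
    have h2 : S.pullback (𝒰.f j ≫ g) (k ≫ pullback.snd (𝒰.f i) (𝒰.f j)) := by
      show S _
      rw [Category.assoc, ← pullback.condition_assoc]
      exact hk
    rw [← Category.assoc, ← Category.assoc, ht i T _ h1, ht j T _ h2]
    congr 1
    simp only [Category.assoc, pullback.condition]
  refine ⟨𝒰.glueMorphisms t hov, fun Z k hk => ?_, fun t' ht' => ?_⟩
  · show k ≫ 𝒰.glueMorphisms t hov = x k hk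
    refine Scheme.Cover.hom_ext (Precoverage.ZeroHypercover.pullback₁ k 𝒰) _ _ fun j => ?_
    show pullback.fst k (𝒰.f j) ≫ k ≫ 𝒰.glueMorphisms t hov = pullback.fst k (𝒰.f j) ≫ x k hk
    have h2 : S.pullback (𝒰.f j ≫ g) (pullback.snd k (𝒰.f j)) := by
      show S _
      rw [← pullback.condition_assoc]
      exact S.downward_closed hk _
    rw [pullback.condition_assoc, Scheme.Cover.ι_glueMorphisms, ht j _ _ h2]
    have := hx (𝟙 (pullback k (𝒰.f j))) (pullback.fst k (𝒰.f j))
      (f₁ := pullback.snd k (𝒰.f j) ≫ 𝒰.f j) (f₂ := k) (by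
        show S _
        rw [Category.assoc]; exact h2) hk (by rw [Category.id_comp, pullback.condition])
    simpa using this
  · refine sep _ W g _ _ fun T k hk => ?_
    have h1 : k ≫ t' = x k hk := ht' k hk
    rw [h1]
    symm
    refine Scheme.Cover.hom_ext (Precoverage.ZeroHypercover.pullback₁ k 𝒰) _ _ fun j => ?_
    show pullback.fst k (𝒰.f j) ≫ k ≫ 𝒰.glueMorphisms t hov = pullback.fst k (𝒰.f j) ≫ x k hk
    have h2 : S.pullback (𝒰.f j ≫ g) (pullback.snd k (𝒰.f j)) := by
      show S _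
      rw [← pullback.condition_assoc]
      exact S.downward_closed hk _
    rw [pullback.condition_assoc, Scheme.Cover.ι_glueMorphisms, ht j _ _ h2]
    have := hx (𝟙 (pullback k (𝒰.f j))) (pullback.fst k (𝒰.f j))
      (f₁ := pullback.snd k (𝒰.f j) ≫ 𝒰.f j) (f₂ := k) (by
        show S _
        rw [Category.assoc]; exact h2) hk (by rw [Category.id_comp, pullback.condition])
    simpa using this

end Groth.Agent.S9860
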