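import Groth.Statements.S9862
import Groth.Agent.H13CI.SyntomicLocal

set_option autoImplicit false
open CategoryTheory CategoryTheory.Limits AlgebraicGeometry Opposite
universe u
open Desc

namespace Groth.Agent.S9862

/-- Being Cohen-Macaulay is local in the syntomic topology: for a jointly surjective family of syntomic
morphisms f i : X i ⟶ S, the scheme S is locally Noetherian with Cohen-Macaulay local rings if and
only if every X i is. -/
theorem result {ι : Type u} {S : Scheme.{u}} {X : ι → Scheme.{u}} (f : ∀ i, X i ⟶ S)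
    (hsurj : ∀ s : S, ∃ i, s ∈ Set.range (f i).base) (hsyn : ∀ i, Synt.IsSyntomicMor (f i)) :
    (IsLocallyNoetherian S ∧ ∀ s : S, LocCoh.IsCohenMacaulayLocalRing (S.presheaf.stalk s)) ↔
      ∀ i, IsLocallyNoetherian (X i) ∧ ∀ x : X i, LocCoh.IsCohenMacaulayLocalRing ((X i).presheaf.stalk x) := by
  open Groth.Agent.H13CI in
  constructor
  · rintro ⟨hS, hs⟩ i
    haveI := hS
    obtain ⟨h1, h2, h3⟩ := (isSyntomicMor_iff_isCIMorphism (f i)).mp (hsyn i)
    haveI := h1
    haveI := h2
    haveI : IsLocallyNoetherian (X i) := LocallyOfFiniteType.isLocallyNoetherian (f i)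
    refine ⟨inferInstance, fun x => ?_⟩
    letI := ((f i).stalkMap x).hom.toAlgebra
    haveI : Module.Flat (S.presheaf.stalk ((f i) x)) ((X i).presheaf.stalk x) := Flat.stalkMap (f i) x
    haveI : IsLocalHom (algebraMap (S.presheaf.stalk ((f i) x)) ((X i).presheaf.stalk x)) :=
      inferInstanceAs (IsLocalHom ((f i).stalkMap x).hom)
    haveI := Groth.Agent.H8Props.FlatDepth.isLocalRing_fibre (S.presheaf.stalk ((f i) x)) ((X i).presheaf.stalk x)
    rw [Groth.Agent.H8Props.FlatDepth.isCohenMacaulayLocalRing_iff (S.presheaf.stalk ((f i) x))]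
    exact ⟨hs _, isCM_of_isCI _ ((isCI_fiberStalk_iff (f i) x).mpr (h3 x))⟩
  · intro h
    haveI := isLocallyNoetherian_of_cover f hsurj hsyn fun i => (h i).1
    refine ⟨inferInstance, fun s => ?_⟩
    obtain ⟨i, x, rfl⟩ := hsurj s
    haveI := (flat_lfp_of_isSyntomicMor (hsyn i)).1
    haveI := (h i).1
    letI := ((f i).stalkMap x).hom.toAlgebra
    haveI : Module.Flat (S.presheaf.stalk ((f i) x)) ((X i).presheaf.stalk x) := Flat.stalkMap (f i) x
    haveI : IsLocalHom (algebraMap (S.presheaf.stalk ((f i) x)) ((X i).presheaf.stalk x)) :=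
      inferInstanceAs (IsLocalHom ((f i).stalkMap x).hom)
    exact ((Groth.Agent.H8Props.FlatDepth.isCohenMacaulayLocalRing_iff (S.presheaf.stalk ((f i) x))
      ((X i).presheaf.stalk x)).mp ((h i).2 x)).1

end Groth.Agent.S9862
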