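import Groth.Statements.S9864
import Groth.Agent.H13Desc.DescFamApps

set_option autoImplicit false
open CategoryTheory CategoryTheory.Limits AlgebraicGeometry Opposite
universe u
open Desc

namespace Groth.Agent.S9864

/-- Let a : X ⟶ S be a morphism of schemes and f : X ⟶ X a morphism over S (f ≫ a = a). Then the
pullback functor along f on the category of descent data for schemes relative to X ⟶ S is isomorphic
to the identity functor. (Existence of an isomorphism of functors only; descent data relative to a
single morphism are written as descent data relative to the corresponding one-member family.) -/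
theorem result {X S : Scheme.{u}} (a : X ⟶ S) (f : X ⟶ X) (h : f ≫ a = a) :
    Nonempty (Desc.pullDDFam (f := fun _ : PUnit.{u + 1} => a) (f' := fun _ : PUnit.{u + 1} => a) (α := fun j => j)
        (p := 𝟙 S) (p' := fun _ => f) (fun _ => (h).trans (Category.comp_id a).symm) ≅
      𝟭 (Desc.SchDDFam (fun _ : PUnit.{u + 1} => a))) := by
  have w1 : ∀ _j : PUnit.{u + 1}, f ≫ a = a ≫ 𝟙 S := fun _ => h.trans (Category.comp_id a).symm
  exact ⟨Groth.Agent.H13Desc.pullDDFamIsoOfEq (f := fun _ : PUnit.{u + 1} => a)
    (f' := fun _ : PUnit.{u + 1} => a) (α := fun j => j) (β := id) (p' := fun _ => f) (p'' := fun _ => 𝟙 X) w1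
    (fun _ => (Category.id_comp a).trans (Category.comp_id a).symm) ≪≫
    Groth.Agent.H13Desc.pullDDFamId (fun _ => rfl) _⟩

end Groth.Agent.S9864
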