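import Groth.Statements.S9865
import Groth.Agent.H13Desc.DescFamApps

set_option autoImplicit false
open CategoryTheory CategoryTheory.Limits AlgebraicGeometry Opposite
universe u
open Desc

namespace Groth.Agent.S9865

/-- Let f : X' ⟶ X be a morphism of schemes over S, with structure morphisms a' : X' ⟶ S and a : X ⟶ S,
and assume there exists a morphism g : X ⟶ X' over S (for instance a section of f). Then the
pullback functor along f, from descent data for schemes relative to X ⟶ S to descent data relative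
to X' ⟶ S, is an equivalence of categories. (Descent data relative to a single morphism are written
as descent data relative to the corresponding one-member family.) -/
theorem result {X X' S : Scheme.{u}} (a : X ⟶ S) (a' : X' ⟶ S) (f : X' ⟶ X)
    (h : f ≫ a = a') (hg : ∃ g : X ⟶ X', g ≫ a' = a) :
    (Desc.pullDDFam (f := fun _ : PUnit.{u + 1} => a) (f' := fun _ : PUnit.{u + 1} => a') (α := fun j => j)
        (p := 𝟙 S) (p' := fun _ => f) (fun _ => (h).trans (Category.comp_id a').symm)).IsEquivalence := by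
  obtain ⟨g, hg⟩ := hg
  have w1 : ∀ _j : PUnit.{u + 1}, f ≫ a = a' ≫ 𝟙 S := fun _ => h.trans (Category.comp_id a').symm
  have w2 : ∀ _j : PUnit.{u + 1}, g ≫ a' = a ≫ 𝟙 S := fun _ => hg.trans (Category.comp_id a).symm
  let F := Desc.pullDDFam (f := fun _ : PUnit.{u + 1} => a) (f' := fun _ : PUnit.{u + 1} => a')
    (α := fun j => j) (p := 𝟙 S) (p' := fun _ => f) w1
  let G := Desc.pullDDFam (f := fun _ : PUnit.{u + 1} => a') (f' := fun _ : PUnit.{u + 1} => a)
    (α := fun j => j) (p := 𝟙 S) (p' := fun _ => g) w2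
  have c1 : ∀ _k : PUnit.{u + 1}, (g ≫ f) ≫ a = a ≫ (𝟙 S ≫ 𝟙 S) := fun _ => by
    rw [Category.assoc, h, hg, Category.id_comp, Category.comp_id]
  have c2 : ∀ _k : PUnit.{u + 1}, (f ≫ g) ≫ a' = a' ≫ (𝟙 S ≫ 𝟙 S) := fun _ => by
    rw [Category.assoc, hg, h, Category.id_comp, Category.comp_id]
  let η : F ⋙ G ≅ 𝟭 _ :=
    Groth.Agent.H13Desc.pullDDFamComp (α := fun j => j) w1 (β := fun j => j) w2 c1 ≪≫
    Groth.Agent.H13Desc.pullDDFamIsoOfEq (α := fun j => j) (β := id) (p'' := fun _ => 𝟙 X) c1
      (fun _ => by simp) ≪≫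
    Groth.Agent.H13Desc.pullDDFamId (fun _ => rfl) (fun _ => by simp)
  let ε : G ⋙ F ≅ 𝟭 _ :=
    Groth.Agent.H13Desc.pullDDFamComp (α := fun j => j) w2 (β := fun j => j) w1 c2 ≪≫
    Groth.Agent.H13Desc.pullDDFamIsoOfEq (α := fun j => j) (β := id) (p'' := fun _ => 𝟙 X') c2
      (fun _ => by simp) ≪≫
    Groth.Agent.H13Desc.pullDDFamId (fun _ => rfl) (fun _ => by simp)
  exact (CategoryTheory.Equivalence.mk F G η.symm ε).isEquivalence_functor

end Groth.Agent.S9865
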