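import Groth.Statements.S9866
import Groth.Agent.H13Desc.Eff.Glue

set_option autoImplicit false
open CategoryTheory CategoryTheory.Limits AlgebraicGeometry Opposite
universe u
open Desc

namespace Groth.Agent.S9866

open CategoryTheory AlgebraicGeometry

/-- Let p : X ⟶ S be a surjective, flat, quasi-compact morphism of schemes and D = (V, φ) a descent
datum for schemes relative to p. Suppose every point v of V lies in the image of some morphism of
descent data D' ⟶ D whose underlying morphism of schemes over X is an open immersion and whose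
source D' is effective (isomorphic to the canonical descent datum of a scheme over S). Then D is
effective. (A φ-stable open W ⊆ V with its restricted descent datum, as in the published statement,
is the same thing as such a morphism D' ⟶ D up to isomorphism.) -/
theorem result {X S : Scheme.{u}} (p : X ⟶ S) [Surjective p] [Flat p] [QuasiCompact p]
    (D : Desc.SchDD p)
    (h : ∀ v : D.obj.left, ∃ (D' : Desc.SchDD p) (j : D' ⟶ D), IsOpenImmersion j.hom.left ∧
      v ∈ Set.range j.hom.left.base ∧ ∃ U' : Over S, Nonempty ((Desc.toDD p).obj U' ≅ D')) :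
    ∃ U : Over S, Nonempty ((Desc.toDD p).obj U ≅ D) := by
  refine Groth.Agent.H13Desc.Eff.isEffective_of_charts fun v => ?_
  obtain ⟨D', j, hj, ⟨z, rfl⟩, U', ⟨e⟩⟩ := h v
  refine ⟨⟨U', e.hom ≫ j, inferInstanceAs (IsOpenImmersion (e.hom.hom.left ≫ j.hom.left))⟩, e.inv.hom.left z, ?_⟩
  show (e.hom.hom.left ≫ j.hom.left) (e.inv.hom.left z) = j.hom.left z
  rw [Scheme.Hom.comp_apply, ← Scheme.Hom.comp_apply e.inv.hom.left, ← Over.comp_left, ← Desc.SchDD.comp_hom,
    Iso.inv_hom_id]
  rfl

end Groth.Agent.S9866
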