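import Groth.Statements.S9867
import Groth.Agent.H13Desc.Flat
import Groth.Agent.H18Descent.Basic

set_option autoImplicit false
open CategoryTheory CategoryTheory.Limits AlgebraicGeometry Opposite
universe u
open Desc

namespace Groth.Agent.S9867

/-- Being finite locally free (finite, flat and locally of finite presentation), and being finite
locally free of a given degree d, are fpqc local on the base; the descent directions, stated as
descent along surjective flat quasi-compact morphisms: if the base change of f along such a morphism
is finite locally free then so is f, and if moreover that base change has constant rank d (Mathlib's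
rank function of a finite flat morphism) then f has constant rank d. (With Zariski-locality on the
target these give the statements for arbitrary fpqc coverings; stability under base change is the
other direction.) -/
theorem result :
    MorphismProperty.DescendsAlong (fun _ _ f => Mor2.IsFinLocFree f : MorphismProperty Scheme.{u})
      (@Surjective ⊓ @Flat ⊓ @QuasiCompact : MorphismProperty Scheme.{u}) ∧
    ∀ d : ℕ, MorphismProperty.DescendsAlong (fun _ _ f => Mor2.IsFinLocFreeOfDeg d f : MorphismProperty Scheme.{u})
      (@Surjective ⊓ @Flat ⊓ @QuasiCompact : MorphismProperty Scheme.{u}) := by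
  have key : ∀ {A X Y Z : Scheme.{u}} (fst : A ⟶ X) (snd : A ⟶ Y) (g : X ⟶ Z) (f : Y ⟶ Z),
      IsPullback fst snd g f → (@Surjective ⊓ @Flat ⊓ @QuasiCompact : MorphismProperty Scheme.{u}) g →
      Mor2.IsFinLocFree fst → Mor2.IsFinLocFree f := by
    intro A X Y Z fst snd g f sq hQ ⟨h1, h2, h3⟩
    refine ⟨MorphismProperty.of_isPullback_of_descendsAlong (P := @IsFinite)
      (Q := Groth.Agent.H18Descent.fpqc) sq hQ h1, ?_,
      MorphismProperty.of_isPullback_of_descendsAlong (P := @LocallyOfFinitePresentation) sq hQ h3⟩
    have : Flat snd := MorphismProperty.of_isPullback (P := @Flat) sq hQ.1.2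
    have : Surjective snd := MorphismProperty.of_isPullback (P := @Surjective) sq hQ.1.1
    have : Flat g := hQ.1.2
    have : Flat (snd ≫ f) := by rw [← sq.w]; infer_instance
    have : Flat (𝟙 A ≫ snd) := by rw [Category.id_comp]; infer_instance
    have : Surjective (𝟙 A ≫ snd) := by rw [Category.id_comp]; infer_instance
    exact Groth.Agent.H13Desc.flat_of_refinement snd f (𝟙 A)
  refine ⟨⟨fun {A X Y Z fst snd g f} sq hQ h => key fst snd g f sq hQ h⟩, fun d =>
    ⟨fun {A X Y Z fst snd g f} sq hQ ⟨h, hd⟩ => ?_⟩⟩
  have hfl := key fst snd g f sq hQ h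
  refine ⟨hfl, fun y => ?_⟩
  obtain ⟨x, rfl⟩ := hQ.1.1.surj y
  have := hfl.1
  have := hfl.2.1
  have := hfl.2.2
  rw [← hd x]
  exact (Scheme.Hom.finrank_of_isPullback _ _ f g sq.flip x).symm

end Groth.Agent.S9867
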