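import Groth.Statements.S9894
import Groth.Agent.H12AlgSp.EffectiveRep

set_option autoImplicit false
universe u
open CategoryTheory CategoryTheory.Limits AlgebraicGeometry
open AlgSp

namespace Groth.Agent.S9894

/-- Let `P` be a property of morphisms of schemes which is stable under base change, fppf local on the
base, and such that morphisms of type `P` satisfy descent: for every surjective, flat, locally
finitely presented `p : X' ⟶ S'` every descent datum relative to `p` whose scheme has structure
morphism in `P` is effective (descent is asked along single fppf covers, the case the argument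
uses). Let `F` be an algebraic space over `S`, `G` an fppf sheaf of sets with a map `f : G ⟶ F`, and
`q : h_U ⟶ F` representable etale and surjective such that the base change of `f` along `q` is
represented by a scheme `V` over `S` with `g : V ⟶ U` having `P`. Then `G` is an algebraic space
over `S` and `f` is representable by schemes with property `P`. -/
theorem result (S : Scheme.{u}) (P : MorphismProperty Scheme.{u})
    [P.IsStableUnderBaseChange] [P.IsLocalAtTarget Scheme.fppfPrecoverage]
    (hdesc : ∀ ⦃X' S' : Scheme.{u}⦄ (p : X' ⟶ S'), Surjective p → Flat p → LocallyOfFinitePresentation p →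
      ∀ D : Desc.SchDD p, P D.obj.hom → (Desc.toDD p).essImage D)
    (F : AlgSp.Space S) (G : AlgSp.Sp S) (f : G ⟶ F.obj) {U V : Over S} (q : (AlgSp.yon S).obj U ⟶ F.obj)
    (hqe : AlgSp.RepWith @Etale q) (hqs : AlgSp.RepWith @Surjective q) (fst : (AlgSp.yon S).obj V ⟶ G)
    (g : V ⟶ U) (sq : IsPullback fst ((AlgSp.yon S).map g) f q) (hP : P g.left) :
    AlgSp.IsAlgSpace G ∧ AlgSp.RepWith P f := by
  open Groth.Agent.H12AlgSp in
  have : P.DescendsAlong fppfMor.{u} := fppfMor_of_isLocalAtTarget P
  have h := repWith_of_effective_chart hdesc (repWith_fppf_of_etale hqe hqs) sq hP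
  exact ⟨isAlgSpace_of_representable f h.1 F.property, h⟩

end Groth.Agent.S9894
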