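import Groth.Statements.S9895
import Groth.Agent.H12AlgSp.GaloisData

set_option autoImplicit false
universe u
open CategoryTheory CategoryTheory.Limits AlgebraicGeometry
open AlgSp

namespace Groth.Agent.S9895

/-- Let a group `G` act freely (no non-identity element fixes a point together with its residue field)
by `S`-automorphisms on a scheme `U` over `S`, let `s, t : R = ∐_{g ∈ G} U ⟶ U` be the identity and
the action, and let `ξ : h_{Spec k} ⟶ U/R` be a morphism from the spectrum of a field `k` over `S`
to the quotient sheaf. Then one can find a finite Galois extension `k'/k` together with a finite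
subgroup `H ⊆ G`, a group isomorphism `e : H ≅ Gal(k'/k)` and a morphism `x' : Spec k' ⟶ U` over `S`
which is `H`-equivariant (with `h ∈ H` acting on `Spec k'` through `Spec` of `(e h)⁻¹`) and whose
composite with `U ⟶ U/R` is the restriction of `ξ` to `Spec k'`. (The published statement also
asserts that such data determine a morphism from `Spec k` to the quotient; this row states only the
direction above.) -/
theorem result (S : Scheme.{u}) (U : Over S) (G : Type u) [Group G]
    (ρ : G →* Aut U)
    (hfree : ∀ (g : G) (x : U.left), g ≠ 1 →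
      U.left.fromSpecResidueField x ≫ (ρ g).hom.left ≠ U.left.fromSpecResidueField x)
    (c : Cofan (fun _ : G => U)) (hc : IsColimit c) (s t : c.pt ⟶ U)
    (hs : ∀ g, c.inj g ≫ s = 𝟙 U) (ht : ∀ g, c.inj g ≫ t = (ρ g).hom)
    (k : Type u) [Field k] (σ : Spec (CommRingCat.of k) ⟶ S)
    (ξ : (AlgSp.yon S).obj (Over.mk σ) ⟶ QuotSh.quot Scheme.fppfPrecoverage s t) :
    ∃ (k' : Type u) (_ : Field k') (_ : Algebra k k') (_ : FiniteDimensional k k') (_ : IsGalois k k')
      (H : Subgroup G) (_ : Finite H) (e : H ≃* (k' ≃ₐ[k] k'))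
      (x' : Over.mk (Spec.map (CommRingCat.ofHom (algebraMap k k')) ≫ σ) ⟶ U),
      (∀ h : H, Spec.map (CommRingCat.ofHom (e h).symm.toRingEquiv.toRingHom) ≫ x'.left =
        x'.left ≫ (ρ (h : G)).hom.left) ∧
      (AlgSp.yon S).map x' ≫ (QuotSh.repIsoUliftYoneda Scheme.fppfPrecoverage U).inv ≫ QuotSh.quotπ Scheme.fppfPrecoverage s t =
        (AlgSp.yon S).map (Over.homMk (Spec.map (CommRingCat.ofHom (algebraMap k k'))) :
          Over.mk (Spec.map (CommRingCat.ofHom (algebraMap k k')) ≫ σ) ⟶ Over.mk σ) ≫ ξ := by
  exact Groth.Agent.H12AlgSp.GaloisData.main hfree hc hs ht ξ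

end Groth.Agent.S9895
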