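import Groth.Statements.S9897
import Groth.Agent.H12AlgSp.ShriekSpace

set_option autoImplicit false
set_option backward.isDefEq.respectTransparency false
universe u
open CategoryTheory CategoryTheory.Limits AlgebraicGeometry
open AlgSp

namespace Groth.Agent.S9897

/-- Let `g : S ⟶ S'` be a morphism of schemes and `j⁻¹` the restriction functor from fppf sheaves of
sets on schemes over `S'` to fppf sheaves of sets on schemes over `S` (along `Over.map g`). Then for
a scheme `X'` over `S'`, `j⁻¹ h_{X'}` is representable by `X' ×_{S'} S` viewed over `S` through the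
second projection (stated as existence of a representation by that scheme), and for an algebraic
space `F'` over `S'`, `j⁻¹ F'` is an algebraic space over `S`. (The clause about presentations is
not included.) -/
theorem result {S S' : Scheme.{u}} (g : S ⟶ S') :
    (∀ X' : Over S', Nonempty (((Scheme.fppfTopology.overMapPullback (Type (u + 1)) g).obj ((AlgSp.yon S').obj X')).obj.RepresentableBy
      (Over.mk (pullback.snd X'.hom g)))) ∧
      (∀ F' : AlgSp.Space S', AlgSp.IsAlgSpace ((Scheme.fppfTopology.overMapPullback (Type (u + 1)) g).obj F'.obj)) := by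
  refine ⟨fun X' => ⟨{ homEquiv := fun {T} => (((Over.mapPullbackAdj g).homEquiv T X').symm.trans Equiv.ulift.symm), homEquiv_comp := ?_ }⟩,
    fun F' => (Groth.Agent.H12AlgSp.Shriek.isAlgSpace_res_iff F'.obj).2 (Groth.Agent.H12AlgSp.Shriek.isAlgSpace_prod (IsAlgSpace.yon_obj _) F'.property)⟩
  intro T T' f h
  exact ULift.ext _ _ ((Over.mapPullbackAdj g).homEquiv_naturality_left_symm f (h : T' ⟶ (Over.pullback g).obj X'))

end Groth.Agent.S9897
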