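import Groth.Statements.S9921
import Groth.Agent.H12AlgSp.QSApps

set_option autoImplicit false
universe u
open CategoryTheory CategoryTheory.Limits AlgebraicGeometry
open AlgSp

namespace Groth.Agent.S9921

/-- Over a base scheme with quasi-separated underlying space, a fibre product of algebraic spaces that
are quasi-compact and quasi-separated over S is again quasi-compact and quasi-separated over S. (The
published statement takes quasi-separatedness in the absolute sense; this row takes it over S and
assumes S quasi-separated.) -/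
theorem result {S : Scheme.{u}} [QuasiSeparatedSpace ↥S] {X Y Z P : AlgSp.Space S}
    (f : X ⟶ Y) (g : Z ⟶ Y) (fst : P ⟶ X) (snd : P ⟶ Z) (sq : IsPullback fst.hom snd.hom f.hom g.hom)
    (hX : AlgSp.IsQuasiCompactSp X.obj ∧ AlgSp.IsQuasiSeparatedSp X.obj)
    (hY : AlgSp.IsQuasiCompactSp Y.obj ∧ AlgSp.IsQuasiSeparatedSp Y.obj)
    (hZ : AlgSp.IsQuasiCompactSp Z.obj ∧ AlgSp.IsQuasiSeparatedSp Z.obj) :
    AlgSp.IsQuasiCompactSp P.obj ∧ AlgSp.IsQuasiSeparatedSp P.obj := by
  exact Groth.Agent.H12AlgSp.qcqs_of_isPullback X.property Y.property Z.property P.property sq hX.1 hX.2 hY.2 hZ.1 hZ.2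

end Groth.Agent.S9921
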