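import Groth.Statements.S9929
import Groth.Agent.H12AlgSp.Immersion

set_option autoImplicit false
universe u
open CategoryTheory CategoryTheory.Limits AlgebraicGeometry
open AlgSp

namespace Groth.Agent.S9929

/-- A monomorphism from an algebraic space to the spectrum of a field is either the empty space or an
isomorphism. -/
theorem result {S : Scheme.{u}} {k : Type u} [Field k] (str : Spec (CommRingCat.of k) ⟶ S)
    (Z : AlgSp.Space S) (f : Z ⟶ (AlgSp.ofScheme S).obj (Over.mk str)) [Mono f.hom] :
    IsEmpty (AlgSp.Points Z.obj) ∨ IsIso f := by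
  open Groth.Agent.H12AlgSp Groth.Agent.H13AlgSp in
  (by_cases h : IsEmpty (AlgSp.Points Z.obj)
   · exact Or.inl h
   · have : Nonempty (AlgSp.Points Z.obj) := not_isEmpty_iff.1 h
     have hm : Mono (C := AlgSp.Sp S) (X := Z.obj) (Y := (AlgSp.yon S).obj (Over.mk str)) f.hom := ‹Mono f.hom›
     have : IsIso ((ObjectProperty.ι _).map f) := isIso_of_mono_to_field_space (str := str) Z.property f.hom
     exact Or.inr (isIso_of_reflects_iso f (ObjectProperty.ι _)))

end Groth.Agent.S9929
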