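import Groth.Statements.S9934
import Groth.Agent.H12AlgSp.Charts

set_option autoImplicit false
universe u
open CategoryTheory CategoryTheory.Limits AlgebraicGeometry
open AlgSp

namespace Groth.Agent.S9934

/-- An immersion of algebraic spaces is a closed immersion exactly when its image on points is closed. -/
theorem result {S : Scheme.{u}} {Z X : AlgSp.Space S} (i : Z ⟶ X)
    (hi : AlgSp.RepWith @IsImmersion i.hom) :
    AlgSp.RepWith @IsClosedImmersion i.hom ↔ IsClosed (Set.range (AlgSp.Points.map i.hom)) := by
  open Groth.Agent.H12AlgSp Groth.Agent.H13AlgSp in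
  (refine ⟨fun h => (isClosedMap_map_of_repWith (fun _ _ k (_ : IsClosedImmersion k) => inferInstanceAs (UniversallyClosed k)) h).isClosed_range, fun h => repWith_of_snd hi.1 fun T g => ?_⟩
   have : IsImmersion (hi.1.snd g).left := hi.property_snd g
   refine IsClosedImmersion.of_isPreimmersion _ ?_
   rw [← preimage_ofPt_range (hi.1.isPullback g)]
   exact h.preimage (Points.continuous_ofPt g))

end Groth.Agent.S9934
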