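import Groth.Statements.S9951
import Groth.Agent.H12AlgSp.LocPCancel

set_option autoImplicit false
universe u
open CategoryTheory CategoryTheory.Limits AlgebraicGeometry
open AlgSp

namespace Groth.Agent.S9951

/-- The source of a morphism locally of finite type with locally Noetherian target is locally
Noetherian. -/
theorem result {S : Scheme.{u}} {X Y : AlgSp.Space S} (f : X ⟶ Y)
    (hf : AlgSp.LocP @LocallyOfFiniteType f.hom) (hY : AlgSp.IsLocNoethSp Y.obj) : AlgSp.IsLocNoethSp X.obj := by
  obtain ⟨V, b, hb, hbs, hV⟩ := hY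
  obtain ⟨U, p, hp, hps⟩ :=
    (Groth.Agent.H12AlgSp.isAlgSpace_pullback Y.property.diag X.property (AlgSp.IsAlgSpace.yon_obj V) f.hom b).atlas
  obtain ⟨g, hg⟩ := (AlgSp.yon S).map_surjective (p ≫ pullback.snd f.hom b)
  have ha := Groth.Agent.H12AlgSp.repWith_comp hp (Groth.Agent.H12AlgSp.repWith_of_isPullback (IsPullback.of_hasPullback f.hom b).flip hb)
  refine ⟨U, p ≫ pullback.fst f.hom b, ha,
    Groth.Agent.H12AlgSp.repWith_comp hps (Groth.Agent.H12AlgSp.repWith_of_isPullback (IsPullback.of_hasPullback f.hom b).flip hbs), ?_⟩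
  have : LocallyOfFiniteType g.left := hf _ b g ha hb
    (by rw [hg, Category.assoc, Category.assoc, pullback.condition])
  exact LocallyOfFiniteType.isLocallyNoetherian g.left

end Groth.Agent.S9951
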