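import Groth.Statements.S9958
import Groth.Agent.H12AlgSp.LocPCancel

set_option autoImplicit false
universe u
open CategoryTheory CategoryTheory.Limits AlgebraicGeometry
open AlgSp

namespace Groth.Agent.S9958

/-- Over a locally Noetherian algebraic space, locally of finite type implies locally of finite
presentation. -/
theorem result {S : Scheme.{u}} {X Y : AlgSp.Space S} (f : X ⟶ Y)
    (hY : AlgSp.IsLocNoethSp Y.obj) (hf : AlgSp.LocP @LocallyOfFiniteType f.hom) :
    AlgSp.LocP @LocallyOfFinitePresentation f.hom := by
  obtain ⟨V, b, hb, hbs, hV⟩ := hY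
  refine Groth.Agent.H12AlgSp.locP_of_target_cover Groth.Agent.H12AlgSp.etLocal_lfp X.property Y.property hb hbs
    (IsPullback.of_hasPullback f.hom b) fun U V' a c g ha hc w => ?_
  have hlft := Groth.Agent.H12AlgSp.locP_of_isPullback Groth.Agent.H12AlgSp.etLocal_lft (IsPullback.of_hasPullback f.hom b)
    X.property Y.property (AlgSp.IsAlgSpace.yon_obj V) hf
  have : LocallyOfFiniteType g.left := hlft a c g ha hc w
  obtain ⟨c', rfl⟩ := (AlgSp.yon S).map_surjective c
  have : Etale c'.left := (AlgSp.repWith_yon_map_iff _ _).1 hc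
  have : IsLocallyNoetherian V'.left := LocallyOfFiniteType.isLocallyNoetherian c'.left
  exact Groth.Agent.H12AlgSp.lfp_of_lft_of_isLocallyNoetherian g.left

end Groth.Agent.S9958
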