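import Groth.Statements.S9962
import Groth.Agent.H12AlgSp.Univ

set_option autoImplicit false
universe u
open CategoryTheory CategoryTheory.Limits AlgebraicGeometry
open AlgSp

namespace Groth.Agent.S9962

/-- A flat morphism locally of finite presentation between algebraic spaces is universally open. -/
theorem result {S : Scheme.{u}} {X Y : AlgSp.Space S} (f : X ⟶ Y)
    (hfl : AlgSp.LocP @Flat f.hom) (hfp : AlgSp.LocP @LocallyOfFinitePresentation f.hom) :
    AlgSp.IsUnivOpenMor f.hom := by
  exact Groth.Agent.H12AlgSp.isUnivOpenMor_of_flat_lfp X.property Y.property hfl hfp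

end Groth.Agent.S9962
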