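import Groth.Statements.S9967
import Groth.Agent.H12AlgSp.SchImageApps2

set_option autoImplicit false
universe u
open CategoryTheory CategoryTheory.Limits AlgebraicGeometry
open AlgSp

namespace Groth.Agent.S9967

/-- For a separated f : X -> Y and a section s of f over a quasi-compact open V of Y, the scheme
theoretic image of s maps isomorphically to Y over V. -/
theorem result {S : Scheme.{u}} {X Y V Y' : AlgSp.Space S} (f : X ⟶ Y) (j : V ⟶ Y)
    (hj : AlgSp.RepWith @IsOpenImmersion j.hom) (hjq : AlgSp.IsQuasiCompactMor j.hom) (hf : AlgSp.IsSeparatedMor f.hom)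
    (s : V ⟶ X) (hs : s ≫ f = j) (c : Y' ⟶ X) (hc : AlgSp.IsSchImage s.hom c.hom)
    {P : AlgSp.Sp S} (fst : P ⟶ Y'.obj) (snd : P ⟶ V.obj) (sq : IsPullback fst snd (c ≫ f).hom j.hom) :
    IsIso snd := by
  exact Groth.Agent.H12AlgSp.isIso_schImage_section X.property Y.property V.property Y'.property hj hjq hf
    (congrArg (fun m => m.hom) hs) hc sq

end Groth.Agent.S9967
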