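import Groth.Statements.S9970
import Groth.Agent.H12AlgSp.SchDense

set_option autoImplicit false
universe u
open CategoryTheory CategoryTheory.Limits AlgebraicGeometry
open AlgSp

namespace Groth.Agent.S9970

/-- The intersection of two scheme theoretically dense open subspaces is scheme theoretically dense. -/
theorem result {S : Scheme.{u}} {U V X P : AlgSp.Space S} (jU : U ⟶ X) (jV : V ⟶ X)
    (hU : AlgSp.IsSchDense jU.hom) (hV : AlgSp.IsSchDense jV.hom) (fst : P ⟶ U) (snd : P ⟶ V)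
    (sq : IsPullback fst.hom snd.hom jU.hom jV.hom) : AlgSp.IsSchDense (fst ≫ jU).hom := by
  obtain ⟨hU', E, p, hp, hps, hWU⟩ := Groth.Agent.H12AlgSp.isSchDense_iff.1 hU
  have hV' := (Groth.Agent.H12AlgSp.isSchDense_iff.1 hV).choose
  have hWV := Groth.Agent.H12AlgSp.isSchematicallyDense_openPre hV' hV hp
  have hj : AlgSp.RepWith @IsOpenImmersion (fst ≫ jU).hom :=
    Groth.Agent.H12AlgSp.repWith_comp (Groth.Agent.H12AlgSp.repWith_of_isPullback sq.flip hV') hU'
  refine Groth.Agent.H12AlgSp.isSchDense_iff.2 ⟨hj, E, p, hp, hps, ?_⟩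
  have e : Groth.Agent.H12AlgSp.openPre hj p =
      Groth.Agent.H12AlgSp.openPre hU' p ⊓ Groth.Agent.H12AlgSp.openPre hV' p := by
    ext1
    change AlgSp.Points.ofPt p ⁻¹' Set.range (AlgSp.Points.map (fst ≫ jU).hom) =
      AlgSp.Points.ofPt p ⁻¹' Set.range (AlgSp.Points.map jU.hom) ∩
        AlgSp.Points.ofPt p ⁻¹' Set.range (AlgSp.Points.map jV.hom)
    rw [← Set.preimage_inter]
    congr 1
    ext x
    constructor
    · rintro ⟨z, rfl⟩
      exact ⟨⟨_, (AlgSp.Points.map_comp fst.hom jU.hom z).symm⟩, AlgSp.Points.map snd.hom z, by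
        rw [← AlgSp.Points.map_comp, ← sq.w]; rfl⟩
    · rintro ⟨⟨a, rfl⟩, b, hb⟩
      obtain ⟨z, rfl, -⟩ := Groth.Agent.H12AlgSp.exists_point_of_isPullback sq a b hb.symm
      exact ⟨z, AlgSp.Points.map_comp _ _ _⟩
  rw [e]
  exact Groth.Agent.H12AlgSp.isSchematicallyDense_inf hWU hWV

end Groth.Agent.S9970
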