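import Groth.Statements.S9971
import Groth.Agent.H12AlgSp.SchImageImmersion

set_option autoImplicit false
universe u
open CategoryTheory CategoryTheory.Limits AlgebraicGeometry
open AlgSp

namespace Groth.Agent.S9971

/-- A quasi-compact (or reduced-source) immersion is a scheme theoretically dense, topologically dense
open immersion into its scheme theoretic image. -/
theorem result {S : Scheme.{u}} {Z X Zbar : AlgSp.Space S} (h : Z ⟶ X)
    (hh : AlgSp.RepWith @IsImmersion h.hom) (hq : AlgSp.IsQuasiCompactMor h.hom ∨ AlgSp.IsReducedSp Z.obj)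
    (c : Zbar ⟶ X) (hc : AlgSp.IsSchImage h.hom c.hom) (h' : Z ⟶ Zbar) (fac : h' ≫ c = h) :
    AlgSp.RepWith @IsOpenImmersion h'.hom ∧ AlgSp.IsSchDense h'.hom ∧
      Dense (Set.range (AlgSp.Points.map h'.hom)) := by
  exact Groth.Agent.H12AlgSp.immersion_into_schImage Z.property X.property Zbar.property hh hq hc
    (congrArg (fun m => m.hom) fac)

end Groth.Agent.S9971
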