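import Groth.Statements.S9972
import Groth.Agent.H12AlgSp.SchDense

set_option autoImplicit false
universe u
open CategoryTheory CategoryTheory.Limits AlgebraicGeometry
open AlgSp

namespace Groth.Agent.S9972

/-- Two morphisms to an algebraic space separated over B that agree on an open subspace whose scheme
theoretic closure is everything are equal. -/
theorem result {S : Scheme.{u}} {U X Y B : AlgSp.Space S} (q : Y ⟶ B)
    (hq : AlgSp.IsSeparatedMor q.hom) (f g : X ⟶ Y) (hfg : f ≫ q = g ≫ q) (j : U ⟶ X)
    (hj : AlgSp.RepWith @IsOpenImmersion j.hom) (hcl : AlgSp.IsSchImage j.hom (𝟙 X.obj)) (heq : j ≫ f = j ≫ g) :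
    f = g := by
  refine InducedCategory.hom_ext (Groth.Agent.H12AlgSp.eq_of_eq_on_isSchImage_id X.property hq
    (congrArg (fun m => m.hom) hfg) hcl (congrArg (fun m => m.hom) heq))

end Groth.Agent.S9972
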