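import Groth.Statements.S9976
import Groth.Agent.H12AlgSp.FiniteTypePoints

set_option autoImplicit false
universe u
open CategoryTheory CategoryTheory.Limits AlgebraicGeometry
open AlgSp

namespace Groth.Agent.S9976

/-- Under a surjective morphism locally of finite type, every finite type point of the target is the
image of a finite type point of the source. (The published lemma states that the two sets of finite
type points correspond exactly; the inclusion of the image in the finite type points of the target
holds for every morphism locally of finite type and is omitted here.) -/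
theorem result {S : Scheme.{u}} {X Y : AlgSp.Space S} (f : X ⟶ Y)
    (hf : AlgSp.LocP @LocallyOfFiniteType f.hom) (hs : AlgSp.IsSurjectiveMor f.hom) (y : AlgSp.Points Y.obj)
    (hy : ∃ (k : Type u) (_ : Field k) (str : Spec (CommRingCat.of k) ⟶ S) (ξ : (AlgSp.yon S).obj (Over.mk str) ⟶ Y.obj),
        AlgSp.LocP @LocallyOfFiniteType ξ ∧ AlgSp.Points.ofPt ξ (IsLocalRing.closedPoint k) = y) :
    ∃ x : AlgSp.Points X.obj, AlgSp.Points.map f.hom x = y ∧
      ∃ (k : Type u) (_ : Field k) (str : Spec (CommRingCat.of k) ⟶ S) (ξ : (AlgSp.yon S).obj (Over.mk str) ⟶ X.obj),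
        AlgSp.LocP @LocallyOfFiniteType ξ ∧ AlgSp.Points.ofPt ξ (IsLocalRing.closedPoint k) = x := by
  obtain ⟨k, _, str, ξ, hξ, rfl⟩ := hy
  exact Groth.Agent.H12AlgSp.exists_finiteTypePoint_lift X.property Y.property hs hξ

end Groth.Agent.S9976
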