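import Groth.Statements.S9977
import Groth.Agent.H12AlgSp.FiniteTypePoints

set_option autoImplicit false
universe u
open CategoryTheory CategoryTheory.Limits AlgebraicGeometry
open AlgSp

namespace Groth.Agent.S9977

/-- Every nonempty locally closed subset of |X| contains a finite type point, and finite type points are
dense in every closed subset. -/
theorem result {S : Scheme.{u}} (X : AlgSp.Space S) :
    (∀ T : Set (AlgSp.Points X.obj), IsLocallyClosed T → T.Nonempty →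
      ∃ x ∈ T, (∃ (k : Type u) (_ : Field k) (str : Spec (CommRingCat.of k) ⟶ S) (ξ : (AlgSp.yon S).obj (Over.mk str) ⟶ X.obj),
        AlgSp.LocP @LocallyOfFiniteType ξ ∧ AlgSp.Points.ofPt ξ (IsLocalRing.closedPoint k) = x)) ∧
    (∀ T : Set (AlgSp.Points X.obj), IsClosed T →
      T ⊆ closure {x | x ∈ T ∧ (∃ (k : Type u) (_ : Field k) (str : Spec (CommRingCat.of k) ⟶ S) (ξ : (AlgSp.yon S).obj (Over.mk str) ⟶ X.obj),
        AlgSp.LocP @LocallyOfFiniteType ξ ∧ AlgSp.Points.ofPt ξ (IsLocalRing.closedPoint k) = x)}) := by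
  obtain ⟨U, a, ha, has⟩ := X.property.atlas
  have key : ∀ T : Set (AlgSp.Points X.obj), IsLocallyClosed T → T.Nonempty →
      ∃ x ∈ T, ∃ (k : Type u) (_ : Field k) (str : Spec (CommRingCat.of k) ⟶ S)
        (ξ : (AlgSp.yon S).obj (Over.mk str) ⟶ X.obj),
        AlgSp.LocP @LocallyOfFiniteType ξ ∧ AlgSp.Points.ofPt ξ (IsLocalRing.closedPoint k) = x := by
    rintro T hT ⟨x, hx⟩
    obtain ⟨u, hu⟩ := Groth.Agent.H12AlgSp.surjective_ofPt_of_repWith le_rfl has x
    obtain ⟨v, hv, η⟩ := Groth.Agent.H12AlgSp.exists_finiteTypePoint_of_locallyClosed_chart X.property ha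
      (hT.preimage (AlgSp.Points.continuous_ofPt a)) ⟨u, show AlgSp.Points.ofPt a u ∈ T by rw [hu]; exact hx⟩
    exact ⟨AlgSp.Points.ofPt a v, hv, η⟩
  refine ⟨key, fun T hT x hx => mem_closure_iff.2 fun W hW hxW => ?_⟩
  obtain ⟨y, ⟨hyT, hyW⟩, hy⟩ := key (T ∩ W) ((hT.isLocallyClosed).inter hW.isLocallyClosed) ⟨x, hx, hxW⟩
  exact ⟨y, hyW, hyT, hy⟩

end Groth.Agent.S9977
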