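import Groth.Statements.S9978
import Groth.Agent.H12AlgSp.NagataSpace

set_option autoImplicit false
universe u
open CategoryTheory CategoryTheory.Limits AlgebraicGeometry
open AlgSp

namespace Groth.Agent.S9978

/-- An algebraic space locally of finite type over a Nagata algebraic space is Nagata. -/
theorem result {S : Scheme.{u}} {X Y : AlgSp.Space S} (f : X ⟶ Y)
    (hf : AlgSp.LocP @LocallyOfFiniteType f.hom)
    (hY : AlgSp.EtaleLocally (fun U => ∀ V : U.Opens, IsAffineOpen V → CAlg.IsNagata ↑Γ(U, V)) Y.obj) :
    AlgSp.EtaleLocally (fun U => ∀ V : U.Opens, IsAffineOpen V → CAlg.IsNagata ↑Γ(U, V)) X.obj := by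
  exact Groth.Agent.H12AlgSp.isNagataSp_of_lft X.property Y.property hf hY

end Groth.Agent.S9978
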