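import Groth.Statements.S9979
import Groth.Agent.H12AlgSp.SchImageApps

set_option autoImplicit false
universe u
open CategoryTheory CategoryTheory.Limits AlgebraicGeometry
open AlgSp

namespace Groth.Agent.S9979

/-- Every point of the scheme theoretic image of a quasi-compact morphism is reached by a valuation ring
whose generic point lifts to the source. -/
theorem result {S : Scheme.{u}} {X Y Z : AlgSp.Space S} (f : X ⟶ Y) (i : Z ⟶ Y)
    (hq : AlgSp.IsQuasiCompactMor f.hom) (hZ : AlgSp.IsSchImage f.hom i.hom) (z : AlgSp.Points Z.obj) :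
    ∃ (A : Type u) (_ : CommRing A) (_ : IsDomain A) (_ : ValuationRing A) (str : Spec (CommRingCat.of A) ⟶ S)
      (a : (AlgSp.yon S).obj (Over.mk str) ⟶ Z.obj)
      (x : (AlgSp.yon S).obj (Over.mk (Spec.map (CommRingCat.ofHom (algebraMap A (FractionRing A))) ≫ str)) ⟶ X.obj),
      AlgSp.Points.ofPt a (IsLocalRing.closedPoint A) = z ∧
      x ≫ f.hom = (AlgSp.yon S).map (Over.homMk (Spec.map (CommRingCat.ofHom (algebraMap A (FractionRing A)))) rfl) ≫
        a ≫ i.hom := by
  exact Groth.Agent.H12AlgSp.exists_valuationRing_to_schImage X.property Y.property hq Z.property hZ z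

end Groth.Agent.S9979
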