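import Groth.Statements.S9981
import Groth.Agent.H12AlgSp.EtaleLocal

set_option autoImplicit false
universe u
open CategoryTheory CategoryTheory.Limits AlgebraicGeometry
open AlgSp

namespace Groth.Agent.S9981

/-- The inverse image of an etale locally constructible subset under a morphism of algebraic spaces is
etale locally constructible. -/
theorem result {S : Scheme.{u}} {X Y : AlgSp.Space S} (f : X ⟶ Y)
    (E : Set (AlgSp.Points Y.obj))
    (hE : (∀ (U : Over S) (φ : (AlgSp.yon S).obj U ⟶ Y.obj), AlgSp.RepWith @Etale φ →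
        Topology.IsLocallyConstructible (AlgSp.Points.ofPt φ ⁻¹' E))) :
    (∀ (U : Over S) (φ : (AlgSp.yon S).obj U ⟶ X.obj), AlgSp.RepWith @Etale φ →
        Topology.IsLocallyConstructible (AlgSp.Points.ofPt φ ⁻¹' (AlgSp.Points.map f.hom ⁻¹' E))) := by
  intro U φ hφ
  obtain ⟨V, p, hp, hs⟩ := Y.property.atlas
  have h := Groth.Agent.H12AlgSp.isLocallyConstructible_chart hp hs (hE V p hp) (φ ≫ f.hom)
  rwa [← Set.preimage_comp, show AlgSp.Points.map f.hom ∘ AlgSp.Points.ofPt φ = AlgSp.Points.ofPt (φ ≫ f.hom) from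
    funext (AlgSp.Points.map_ofPt φ f.hom)]

end Groth.Agent.S9981
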