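import Groth.Statements.S9982
import Groth.Agent.H12AlgSp.ChevalleySpace

set_option autoImplicit false
set_option backward.isDefEq.respectTransparency false
universe u
open CategoryTheory CategoryTheory.Limits AlgebraicGeometry
open AlgSp

namespace Groth.Agent.S9982

/-- A quasi-compact morphism locally of finite presentation between algebraic spaces maps etale locally
constructible sets to etale locally constructible sets. -/
theorem result {S : Scheme.{u}} {X Y : AlgSp.Space S} (f : X ⟶ Y)
    (hq : AlgSp.IsQuasiCompactMor f.hom) (hfp : AlgSp.LocP @LocallyOfFinitePresentation f.hom)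
    (E : Set (AlgSp.Points X.obj))
    (hE : (∀ (U : Over S) (φ : (AlgSp.yon S).obj U ⟶ X.obj), AlgSp.RepWith @Etale φ →
        Topology.IsLocallyConstructible (AlgSp.Points.ofPt φ ⁻¹' E))) :
    (∀ (U : Over S) (φ : (AlgSp.yon S).obj U ⟶ Y.obj), AlgSp.RepWith @Etale φ →
        Topology.IsLocallyConstructible (AlgSp.Points.ofPt φ ⁻¹' (AlgSp.Points.map f.hom '' E))) := by
  exact Groth.Agent.H12AlgSp.isLocallyConstructible_image_chart X.property Y.property f.hom hq hfp E hE

end Groth.Agent.S9982
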