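import Groth.Statements.S9983
import Groth.Agent.H12AlgSp.EtUHomeoSheaf
import Groth.Agent.H12AlgSp.SchImage

set_option autoImplicit false
set_option backward.isDefEq.respectTransparency false
universe u
open CategoryTheory CategoryTheory.Limits AlgebraicGeometry
open AlgSp

namespace Groth.Agent.S9983

/-- For a closed immersion i of algebraic spaces, i_* on the small etale sites is fully faithful on
sheaves of sets and on abelian sheaves, with i⁻¹ a left inverse (the counit i⁻¹ i_* ⟶ id is an
isomorphism). (The published statement also describes the essential images of i_*; this row states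
only full faithfulness and the left inverse.) -/
theorem result {S : Scheme.{u}} {Z X : AlgSp.Space S} (i : Z ⟶ X)
    (hi : AlgSp.RepWith @IsClosedImmersion i.hom) :
    ((AlgSp.pushEt hi.1 (Type (u + 1))).Full ∧ (AlgSp.pushEt hi.1 (Type (u + 1))).Faithful) ∧
    ((AlgSp.pushEt hi.1 AddCommGrpCat.{u + 1}).Full ∧ (AlgSp.pushEt hi.1 AddCommGrpCat.{u + 1}).Faithful) ∧
    IsIso (AlgSp.pullPushAdjEt hi.1 (Type (u + 1))).counit := by
  have hint : RepWith @IsIntegralHom i.hom :=
    Groth.Agent.H12AlgSp.repWith_le (fun _ _ k (_ : IsClosedImmersion k) => inferInstanceAs (IsIntegralHom k)) hi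
  have : Mono i.hom := Groth.Agent.H12AlgSp.mono_of_closedImmersion hi
  have hu : IsUnivInjectiveMor i.hom :=
    Groth.Agent.H12AlgSp.isUnivInjectiveMor_of_injective_on_fields fun K _ str a b e => (cancel_mono i.hom).1 e
  have h1 := Groth.Agent.H12AlgSp.EtUHomeo.pushEt_full hi.1 X.property Z.property hint hu (Type (u + 1))
  have h2 := Groth.Agent.H12AlgSp.EtUHomeo.pushEt_faithful hi.1 X.property Z.property hint hu (Type (u + 1))
  exact ⟨⟨h1, h2⟩, ⟨Groth.Agent.H12AlgSp.EtUHomeo.pushEt_full hi.1 X.property Z.property hint hu _, Groth.Agent.H12AlgSp.EtUHomeo.pushEt_faithful hi.1 X.property Z.property hint hu _⟩,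
    inferInstance⟩

end Groth.Agent.S9983
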