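import Groth.Statements.S9986
import Groth.Agent.H12AlgSp.SchDenseMono

set_option autoImplicit false
set_option backward.isDefEq.respectTransparency false
universe u
open CategoryTheory CategoryTheory.Limits AlgebraicGeometry
open AlgSp

namespace Groth.Agent.S9986

/-- For an open immersion j : U -> X of algebraic spaces, U is scheme theoretically dense in X exactly
when the comparison map from O_X to j_* O_U on the small etale site of X is a monomorphism of
sheaves of rings. -/
theorem result {S : Scheme.{u}} {U X : AlgSp.Space S} (j : U ⟶ X)
    (hj : AlgSp.RepWith @IsOpenImmersion j.hom) :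
    AlgSp.IsSchDense j.hom ↔ Mono (AlgSp.bcRingHom hj.1) := by
  rw [Groth.Agent.H12AlgSp.isSchDense_iff_injective j hj]
  constructor
  · intro h
    have : ∀ A, Mono ((AlgSp.bcRingHom hj.1).hom.app A) := fun A =>
      ConcreteCategory.mono_of_injective _ (h A.unop)
    have : Mono ((sheafToPresheaf _ _).map (AlgSp.bcRingHom hj.1)) := NatTrans.mono_of_mono_app (AlgSp.bcRingHom hj.1).hom
    exact (sheafToPresheaf _ _).mono_of_mono_map this
  · intro h E
    have : Mono (AlgSp.bcRingHom hj.1).hom := inferInstanceAs (Mono ((sheafToPresheaf _ _).map (AlgSp.bcRingHom hj.1)))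
    have : Mono ((AlgSp.bcRingHom hj.1).hom.app (Opposite.op E)) := inferInstance
    exact (ConcreteCategory.mono_iff_injective_of_preservesPullback _).1 this

end Groth.Agent.S9986
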