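import Groth.Statements.S9996
import Groth.Agent.H12AlgSp.SpPush.Union

set_option autoImplicit false
universe u
open CategoryTheory CategoryTheory.Limits AlgebraicGeometry Opposite
open AlgSp

namespace Groth.Agent.S9996

/-- For closed subspaces Y, Z of an algebraic space X with scheme theoretic union W (cut out by the
intersection of the two ideal sheaves) and scheme theoretic intersection V (cut out by their sum),
the inclusions Y ⟶ W and Z ⟶ W are closed immersions and the square V ⟶ Y, V ⟶ Z, Y ⟶ W, Z ⟶ W is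
cocartesian among algebraic spaces over S (W = Y ⨿_V Z). (The published statement also gives the
short exact sequence 0 → O_W → O_Y × O_Z → O_V → 0; that clause is not stated here.) -/
theorem result {S : Scheme.{u}} {X Y Z W V : AlgSp.Space S} (iY : Y ⟶ X) (iZ : Z ⟶ X)
    (w : W ⟶ X) (v : V ⟶ X) (I J K : AlgSp.IdealEt X.obj) (hI : I.IsQCoh) (hJ : J.IsQCoh)
    (hK : ∀ (E : AlgSp.EtOver X.obj) (hE : IsAffine E.obj.left.left), K.ideal E hE = I.ideal E hE ⊓ J.ideal E hE)
    (hY : AlgSp.IsCutOutBy I iY.hom) (hZ : AlgSp.IsCutOutBy J iZ.hom) (hW : AlgSp.IsCutOutBy K w.hom)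
    (hV : AlgSp.IsCutOutBy (I ⊔ J) v.hom) (a : Y ⟶ W) (b : Z ⟶ W) (c : V ⟶ Y) (d : V ⟶ Z)
    (ha : a ≫ w = iY) (hb : b ≫ w = iZ) (hc : c ≫ iY = v) (hd : d ≫ iZ = v) :
    AlgSp.RepWith @IsClosedImmersion a.hom ∧ AlgSp.RepWith @IsClosedImmersion b.hom ∧ IsPushout c d a b := by
  obtain ⟨h1, h2, h3⟩ := Groth.Agent.H12AlgSp.SpPush.main X.property hI hJ hK hY hZ hW hV a.hom b.hom c.hom d.hom
    (congrArg InducedCategory.Hom.hom ha) (congrArg InducedCategory.Hom.hom hb)
    (congrArg InducedCategory.Hom.hom hc) (congrArg InducedCategory.Hom.hom hd)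
  have hcomm : c ≫ a = d ≫ b := by
    have := Groth.Agent.H12AlgSp.mono_of_closedImmersion hW.1
    refine ObjectProperty.hom_ext _ ((cancel_mono w.hom).1 ?_)
    exact congrArg InducedCategory.Hom.hom (show (c ≫ a) ≫ w = (d ≫ b) ≫ w by
      rw [Category.assoc, Category.assoc, ha, hb, hc, hd])
  refine ⟨h1, h2, ⟨⟨hcomm⟩, ⟨PushoutCocone.isColimitAux' _ fun s => ?_⟩⟩⟩
  have h := h3 s.pt.obj s.pt.property s.inl.hom s.inr.hom (congrArg InducedCategory.Hom.hom s.condition)
  exact ⟨ObjectProperty.homMk h.choose, ObjectProperty.hom_ext _ h.choose_spec.1.1,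
    ObjectProperty.hom_ext _ h.choose_spec.1.2, fun {m} e1 e2 =>
      ObjectProperty.hom_ext _ (h.choose_spec.2 m.hom
        ⟨congrArg InducedCategory.Hom.hom e1, congrArg InducedCategory.Hom.hom e2⟩)⟩

end Groth.Agent.S9996
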